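import Mathlib

/-!
# Local description of the inverse image of an ideal sheaf

For `f : X ⟶ Y`, an ideal sheaf `I` on `Y`, affine opens `U ⊆ X`, `V ⊆ Y` with `f(U) ⊆ V`:
`(I.comap f).ideal U = (I.ideal V).map (f.appLE V U e)`.
Consequences: `comap` commutes with products and powers of ideal sheaves.
-/

universe u

open CategoryTheory CategoryTheory.Limits AlgebraicGeometry

namespace Groth.Agent.Lib.Helper1

variable {X Y : Scheme.{u}}

theorem specMap_fromSpec_app {X : Scheme.{u}} {U : X.Opens} (hU : IsAffineOpen U)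
    {S : CommRingCat.{u}} (φ : Γ(X, U) ⟶ S) :
    (Spec.map φ ≫ hU.fromSpec).app U = φ ≫ (Scheme.ΓSpecIso S).inv ≫
      (Spec S).presheaf.map (homOfLE le_top).op := by
  have h := Scheme.ΓSpecIso_inv_naturality φ
  rw [Scheme.Hom.comp_app, hU.fromSpec_app_self, Category.assoc, Scheme.Hom.naturality,
    ← Category.assoc φ, h, Category.assoc]
  rfl

/-- `I(V)·Γ(U) ≤ (f⁻¹I)(U)`. -/
theorem map_appLE_le_ideal_comap (I : Y.IdealSheafData) (f : X ⟶ Y) (U : X.affineOpens)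
    (V : Y.affineOpens) (e : U.1 ≤ f ⁻¹ᵁ V.1) :
    (I.ideal V).map (f.appLE V.1 U.1 e).hom ≤ (I.comap f).ideal U := by
  rw [Ideal.map_le_iff_le_comap]
  intro s hs
  have h1 : I ≤ (I.comap f).map f := Scheme.IdealSheafData.le_map_comap I f
  have h3 : s ∈ RingHom.ker (((I.comap f).subschemeι ≫ f).app V).hom :=
    Scheme.Hom.ideal_ker_le _ V (h1 V hs)
  rw [Ideal.mem_comap, ← Scheme.IdealSheafData.ker_subschemeι_app, RingHom.mem_ker]
  rw [RingHom.mem_ker] at h3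
  have key : f.appLE V.1 U.1 e ≫ (I.comap f).subschemeι.app U =
      ((I.comap f).subschemeι ≫ f).app V ≫ (I.comap f).subscheme.presheaf.map
        (homOfLE (show (I.comap f).subschemeι ⁻¹ᵁ U.1 ≤ ((I.comap f).subschemeι ≫ f) ⁻¹ᵁ V.1 from
          fun x hx => e hx)).op := by
    rw [Scheme.Hom.app_eq_appLE, Scheme.Hom.app_eq_appLE, Scheme.Hom.appLE_comp_appLE,
      Scheme.Hom.appLE_map]
  have := congrArg (fun (t : Γ(Y, V.1) ⟶ _) => t.hom s) key
  simp only [CommRingCat.hom_comp, RingHom.comp_apply] at this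
  rw [this, h3, map_zero]

/-- `(f⁻¹I)(U) ≤ I(V)·Γ(U)`. -/
theorem ideal_comap_le_map_appLE (I : Y.IdealSheafData) (f : X ⟶ Y) (U : X.affineOpens)
    (V : Y.affineOpens) (e : U.1 ≤ f ⁻¹ᵁ V.1) :
    (I.comap f).ideal U ≤ (I.ideal V).map (f.appLE V.1 U.1 e).hom := by
  set 𝔞 : Ideal Γ(X, U.1) := (I.ideal V).map (f.appLE V.1 U.1 e).hom with h𝔞
  let w : Spec (CommRingCat.of (Γ(X, U.1) ⧸ 𝔞)) ⟶ X :=
    Spec.map (CommRingCat.ofHom (Ideal.Quotient.mk 𝔞)) ≫ U.2.fromSpec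
  have h1 : I.comap f ≤ w.ker := by
    rw [← Scheme.IdealSheafData.le_map_iff_comap_le, Scheme.IdealSheafData.map_ker]
    let ψ' : Γ(Y, V.1) ⧸ I.ideal V →+* Γ(X, U.1) ⧸ 𝔞 :=
      Ideal.quotientMap 𝔞 (f.appLE V.1 U.1 e).hom Ideal.le_comap_map
    let g : Spec (CommRingCat.of (Γ(X, U.1) ⧸ 𝔞)) ⟶ I.glueDataObj V :=
      Spec.map (CommRingCat.ofHom ψ')
    have hw : w ≫ f = g ≫ (I.glueDataObjι V ≫ V.1.ι) := by
      rw [Scheme.IdealSheafData.glueDataObjι_ι]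
      change _ = Spec.map (CommRingCat.ofHom ψ') ≫ _
      simp only [w, Category.assoc]
      rw [← IsAffineOpen.SpecMap_appLE_fromSpec f V.2 U.2 e, ← Spec.map_comp_assoc,
        ← Spec.map_comp_assoc]
      congr 2
    have hw2 : w ≫ f = (g ≫ I.subschemeCover.f V) ≫ I.subschemeι := by
      rw [hw, Category.assoc]
      exact congrArg (g ≫ ·) (I.subschemeCover_map_subschemeι V).symm
    rw [hw2]
    conv_lhs => rw [← Scheme.IdealSheafData.ker_subschemeι I]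
    exact Scheme.Hom.le_ker_comp _ _
  have h2 : w.ker.ideal U ≤ 𝔞 := by
    refine (Scheme.Hom.ideal_ker_le w U).trans ?_
    intro s hs
    rw [RingHom.mem_ker] at hs
    have hwapp : w.app U.1 = CommRingCat.ofHom (Ideal.Quotient.mk 𝔞) ≫
        (Scheme.ΓSpecIso _).inv ≫ (Spec _).presheaf.map (homOfLE le_top).op :=
      specMap_fromSpec_app U.2 _
    rw [hwapp] at hs
    simp only [CommRingCat.hom_comp, RingHom.comp_apply, CommRingCat.hom_ofHom] at hs
    have htop : w ⁻¹ᵁ U.1 = ⊤ := by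
      simp only [w, Scheme.Hom.comp_preimage, IsAffineOpen.fromSpec_preimage_self]
      rfl
    have hiso : IsIso ((Spec (CommRingCat.of (Γ(X, U.1) ⧸ 𝔞))).presheaf.map
        (homOfLE (le_top : w ⁻¹ᵁ U.1 ≤ ⊤)).op) := by
      have : homOfLE (le_top : w ⁻¹ᵁ U.1 ≤ ⊤) = eqToHom htop := Subsingleton.elim _ _
      rw [this]
      infer_instance
    have hinj1 := (ConcreteCategory.bijective_of_isIso ((Spec (CommRingCat.of (Γ(X, U.1) ⧸ 𝔞))).presheaf.map
        (homOfLE (le_top : w ⁻¹ᵁ U.1 ≤ ⊤)).op)).1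
    have hinj2 := (ConcreteCategory.bijective_of_isIso
      (Scheme.ΓSpecIso (CommRingCat.of (Γ(X, U.1) ⧸ 𝔞))).inv).1
    have h0 : (Ideal.Quotient.mk 𝔞) s = 0 := by
      apply hinj2
      apply hinj1
      rw [map_zero, map_zero]
      exact hs
    exact Ideal.Quotient.eq_zero_iff_mem.mp h0
  exact (h1 U).trans h2

/-- Local description of the inverse image ideal sheaf: `(f⁻¹I)(U) = I(V)·Γ(U)`. -/
theorem ideal_comap (I : Y.IdealSheafData) (f : X ⟶ Y) (U : X.affineOpens)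
    (V : Y.affineOpens) (e : U.1 ≤ f ⁻¹ᵁ V.1) :
    (I.comap f).ideal U = (I.ideal V).map (f.appLE V.1 U.1 e).hom :=
  le_antisymm (ideal_comap_le_map_appLE I f U V e) (map_appLE_le_ideal_comap I f U V e)

/-- The affine opens of `X` that map into an affine open of `Y` cover `X`. -/
theorem iSup_affineOpens_le_preimage (f : X ⟶ Y) :
    ⨆ i : {p : X.affineOpens × Y.affineOpens // p.1.1 ≤ f ⁻¹ᵁ p.2.1}, (i.1.1).1 = ⊤ := by
  rw [eq_top_iff]
  intro x _
  obtain ⟨_, ⟨V, hV, rfl⟩, hxV, -⟩ :=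
    Y.isBasis_affineOpens.exists_subset_of_mem_open (Set.mem_univ (f x)) isOpen_univ
  obtain ⟨_, ⟨U, hU, rfl⟩, hxU, hUV⟩ :=
    X.isBasis_affineOpens.exists_subset_of_mem_open (show x ∈ (f ⁻¹ᵁ V : Set X) from hxV)
      (f ⁻¹ᵁ V).2
  exact TopologicalSpace.Opens.mem_iSup.mpr ⟨⟨(⟨U, hU⟩, ⟨V, hV⟩), hUV⟩, hxU⟩

theorem comap_mul (I J : Y.IdealSheafData) (f : X ⟶ Y) :
    (I * J).comap f = I.comap f * J.comap f := by
  refine Scheme.IdealSheafData.ext_of_iSup_eq_top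
    (fun i : {p : X.affineOpens × Y.affineOpens // p.1.1 ≤ f ⁻¹ᵁ p.2.1} => i.1.1)
    (iSup_affineOpens_le_preimage f) ?_
  rintro ⟨⟨U, V⟩, e⟩
  simp only [Scheme.IdealSheafData.ideal_mul, Pi.mul_apply]
  rw [ideal_comap _ f U V e, ideal_comap _ f U V e, ideal_comap _ f U V e,
    Scheme.IdealSheafData.ideal_mul, Pi.mul_apply, Ideal.map_mul]

theorem comap_pow (I : Y.IdealSheafData) (f : X ⟶ Y) (n : ℕ) :
    (I ^ n).comap f = (I.comap f) ^ n := by
  refine Scheme.IdealSheafData.ext_of_iSup_eq_top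
    (fun i : {p : X.affineOpens × Y.affineOpens // p.1.1 ≤ f ⁻¹ᵁ p.2.1} => i.1.1)
    (iSup_affineOpens_le_preimage f) ?_
  rintro ⟨⟨U, V⟩, e⟩
  simp only [Scheme.IdealSheafData.ideal_pow, Pi.pow_apply]
  rw [ideal_comap _ f U V e, ideal_comap _ f U V e,
    Scheme.IdealSheafData.ideal_pow, Pi.pow_apply, Ideal.map_pow]

end Groth.Agent.Lib.Helper1
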