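import Mathlib
import Groth.Agent.Lib.Helper11.KzLow

/-!
# Koszul complex in degrees `-2, -1, 0`: relations are Koszul relations when `H^{-1} = 0` (helper1)

* `kosz a`: the span of the Koszul relations `a_i e_j - a_j e_i` in `Fin n → A`;
* `rel_mem_kosz`: if `H^{-1}(K(l)) = 0`, every relation `∑ c_i l_i = 0` lies in `kosz l`.
-/

set_option autoImplicit false
universe u
open CategoryTheory CategoryTheory.Limits CochainComplex
open Groth.Agent.Lib.Helper28.Koszul CohIII Groth.Agent.Lib.Helper11.Kz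

namespace Groth.Agent.Lib.Helper1.KoszulLow

variable {A : Type u} [CommRing A]

/-- the span of the Koszul relations `a_i e_j - a_j e_i` -/
def kosz {n : ℕ} (a : Fin n → A) : Submodule A (Fin n → A) :=
  Submodule.span A {y | ∃ i j, y = a i • Pi.single j (1 : A) - a j • Pi.single i (1 : A)}

lemma cons_zero_single {n : ℕ} (j : Fin n) (c : A) :
    (Fin.cons 0 (Pi.single j c) : Fin (n + 1) → A) = Pi.single j.succ c := by
  funext i
  refine Fin.cases ?_ (fun i' => ?_) i
  · rw [Fin.cons_zero, Pi.single_apply, if_neg (Fin.succ_ne_zero j).symm]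
  · rw [Fin.cons_succ, Pi.single_apply, Pi.single_apply]
    simp only [Fin.succ_inj]

lemma cons_zero_mem_kosz {n : ℕ} (a : Fin n → A) (b : Fin (n + 1) → A) (hb : ∀ i, b i.succ = a i)
    (κ : Fin n → A) (hκ : κ ∈ kosz a) : (Fin.cons 0 κ : Fin (n + 1) → A) ∈ kosz b := by
  let Θ : (Fin n → A) →ₗ[A] (Fin (n + 1) → A) :=
    { toFun := fun t => Fin.cons 0 t
      map_add' := fun x y => by
        funext i
        refine Fin.cases ?_ (fun i' => ?_) i
        · simp
        · simp
      map_smul' := fun c x => by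
        funext i
        refine Fin.cases ?_ (fun i' => ?_) i
        · simp
        · simp }
  have h1 : Submodule.map Θ (kosz a) ≤ kosz b := by
    unfold kosz
    rw [Submodule.map_span_le]
    rintro _ ⟨i, j, rfl⟩
    have : Θ (a i • Pi.single j (1 : A) - a j • Pi.single i (1 : A)) =
        b i.succ • Pi.single j.succ (1 : A) - b j.succ • Pi.single i.succ (1 : A) := by
      rw [map_sub, map_smul, map_smul, hb, hb]
      change a i • (Fin.cons 0 (Pi.single j (1 : A)) : Fin (n + 1) → A) -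
        a j • (Fin.cons 0 (Pi.single i (1 : A)) : Fin (n + 1) → A) = _
      rw [cons_zero_single, cons_zero_single]
    rw [this]
    exact Submodule.subset_span ⟨i.succ, j.succ, rfl⟩
  exact h1 ⟨κ, hκ, rfl⟩

lemma cons_rel_mem_kosz {n : ℕ} (a : Fin n → A) (b : Fin (n + 1) → A) (hb : ∀ i, b i.succ = a i)
    (t : Fin n → A) :
    (Fin.cons (-∑ i, t i * a i) (b 0 • t) : Fin (n + 1) → A) ∈ kosz b := by
  have h1 : (Fin.cons (-∑ i, t i * a i) (b 0 • t) : Fin (n + 1) → A) =
      ∑ j, t j • (b 0 • Pi.single j.succ (1 : A) - b j.succ • Pi.single 0 (1 : A)) := by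
    funext i
    refine Fin.cases ?_ (fun i' => ?_) i
    · rw [Fin.cons_zero, Finset.sum_apply, ← Finset.sum_neg_distrib]
      refine Finset.sum_congr rfl fun j _ => ?_
      rw [Pi.smul_apply, Pi.sub_apply, Pi.smul_apply, Pi.smul_apply, Pi.single_apply,
        if_neg (Fin.succ_ne_zero j).symm, Pi.single_eq_same, hb]
      simp
    · rw [Fin.cons_succ, Finset.sum_apply, Finset.sum_eq_single i']
      · rw [Pi.smul_apply, Pi.smul_apply, Pi.sub_apply, Pi.smul_apply, Pi.smul_apply,
          Pi.single_eq_same, Pi.single_apply, if_neg (Fin.succ_ne_zero i')]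
        simp [mul_comm]
      · intro j _ hj
        rw [Pi.smul_apply, Pi.sub_apply, Pi.smul_apply, Pi.smul_apply, Pi.single_apply,
          if_neg (fun h => hj (Fin.succ_injective _ h).symm), Pi.single_apply,
          if_neg (Fin.succ_ne_zero i')]
        simp
      · intro h
        exact absurd (Finset.mem_univ _) h
  rw [h1]
  refine Submodule.sum_mem _ fun j _ => Submodule.smul_mem _ _ ?_
  exact Submodule.subset_span ⟨0, j.succ, rfl⟩

/-- the structure of the Koszul complex `K(l; A)` in degrees `-2, -1, 0` -/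
structure LowData' (l : List A) where
  u : (koszulCx (ModuleCat.of A A) l).X 0
  ρ : (koszulCx (ModuleCat.of A A) l).X 0 →ₗ[A] A
  ι : (Fin l.length → A) →ₗ[A] (koszulCx (ModuleCat.of A A) l).X (-1)
  π : (koszulCx (ModuleCat.of A A) l).X (-1) →ₗ[A] (Fin l.length → A)
  ρ_u : ρ u = 1
  π_ι : ∀ c, π (ι c) = c
  d_ι : ∀ c, (koszulCx (ModuleCat.of A A) l).d (-1) 0 (ι c) = (∑ i, c i * l.get i) • u
  ρ_d : ∀ x, ρ ((koszulCx (ModuleCat.of A A) l).d (-1) 0 x) = ∑ i, π x i * l.get i
  range_mem : ∀ z, π ((koszulCx (ModuleCat.of A A) l).d (-2) (-1) z) ∈ kosz (fun i => l.get i)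

theorem nonempty_lowData'_nil : Nonempty (LowData' ([] : List A)) := by
  have hs : Subsingleton ((koszulCx (ModuleCat.of A A) []).X (-1)) :=
    ModuleCat.subsingleton_of_isZero
      (HomologicalComplex.isZero_single_obj_X (ComplexShape.up ℤ) 0 _ (-1) (by norm_num))
  let e : (koszulCx (ModuleCat.of A A) []).X 0 ≃ₗ[A] A :=
    (HomologicalComplex.singleObjXSelf (ComplexShape.up ℤ) 0 (ModuleCat.of A A)).toLinearEquiv
  refine ⟨{ u := e.symm 1, ρ := e.toLinearMap, ι := 0, π := 0, ρ_u := e.apply_symm_apply 1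
            π_ι := fun c => funext fun i => i.elim0, d_ι := fun c => ?_, ρ_d := fun x => ?_
            range_mem := fun z => ?_ }⟩
  · have h0 : (∑ i, c i * ([] : List A).get i) = 0 := Finset.sum_eq_zero (fun i _ => Fin.elim0 i)
    rw [h0, zero_smul, LinearMap.zero_apply, map_zero]
  · rw [Subsingleton.elim x 0, map_zero, map_zero]
    exact (Finset.sum_eq_zero (fun i _ => Fin.elim0 i)).symm
  · rw [LinearMap.zero_apply]
    exact zero_mem _

theorem nonempty_lowData'_cons (a : A) (l : List A) (D : LowData' l) :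
    Nonempty (LowData' (a :: l)) := by
  set K := koszulCx (ModuleCat.of A A) l with hK
  let φ : K ⟶ K := a • 𝟙 K
  have hX1 : Subsingleton (K.X 1) := subsingleton_X (ModuleCat.of A A) l 1 (Or.inl one_pos)
  let u' : (mappingCone φ).X 0 := coneInr φ 0 D.u
  let ρ' : (mappingCone φ).X 0 →ₗ[A] A := D.ρ ∘ₗ coneSnd φ 0
  let ι' : (Fin (l.length + 1) → A) →ₗ[A] (mappingCone φ).X (-1) :=
    (coneInl' φ (-1) 0 (by norm_num)) ∘ₗ (LinearMap.toSpanSingleton A _ D.u) ∘ₗ
        (LinearMap.proj (0 : Fin (l.length + 1)))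
      + (coneInr φ (-1)) ∘ₗ D.ι ∘ₗ (LinearMap.funLeft A A Fin.succ)
  let π' : (mappingCone φ).X (-1) →ₗ[A] (Fin (l.length + 1) → A) :=
    (Fin.consLinearEquiv A (fun _ : Fin (l.length + 1) => A)).toLinearMap ∘ₗ
      ((D.ρ ∘ₗ coneFst' φ (-1) 0 (by norm_num)).prod (D.π ∘ₗ coneSnd φ (-1)))
  have hπ' : ∀ x, π' x = Fin.cons (D.ρ (coneFst' φ (-1) 0 (by norm_num) x))
      (D.π (coneSnd φ (-1) x)) := fun x => rfl
  have hι1 : ∀ c, coneFst' φ (-1) 0 (by norm_num) (ι' c) = c 0 • D.u := by
    intro c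
    simp only [ι', LinearMap.add_apply, LinearMap.comp_apply, map_add, coneFst'_coneInl',
      coneFst'_coneInr, add_zero, LinearMap.proj_apply, LinearMap.toSpanSingleton_apply]
  have hι2 : ∀ c, coneSnd φ (-1) (ι' c) = D.ι (fun i => c i.succ) := by
    intro c
    simp only [ι', LinearMap.add_apply, LinearMap.comp_apply, map_add, coneSnd_coneInl',
      coneSnd_coneInr, zero_add]
    rfl
  refine ⟨{ u := u', ρ := ρ', ι := ι', π := π', ρ_u := ?_, π_ι := ?_, d_ι := ?_, ρ_d := ?_
            range_mem := ?_ }⟩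
  · show D.ρ (coneSnd φ 0 (coneInr φ 0 D.u)) = 1
    rw [coneSnd_coneInr, D.ρ_u]
  · intro c
    show Fin.cons (D.ρ (coneFst' φ (-1) 0 _ (ι' c))) (D.π (coneSnd φ (-1) (ι' c))) = c
    rw [hι1, hι2, D.π_ι, map_smul, D.ρ_u, smul_eq_mul, mul_one]
    exact Fin.cons_self_tail c
  · intro c
    show (mappingCone φ).d (-1) 0 (ι' c) = (∑ i, c i * (a :: l).get i) • u'
    refine cone_ext' φ 0 1 rfl (Subsingleton.elim _ _) ?_
    rw [coneSnd_d' φ (-1) 0 (by norm_num), hι1, hι2, D.d_ι, smul_id_f_apply, map_smul,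
      coneSnd_coneInr]
    show _ = (∑ i : Fin (l.length + 1), c i * (a :: l).get i) • D.u
    rw [Fin.sum_univ_succ, add_smul, mul_smul]
    congr 1
    · rw [smul_comm]
      rfl
  · intro x
    show D.ρ (coneSnd φ 0 ((mappingCone φ).d (-1) 0 x)) =
      ∑ i : Fin (l.length + 1), π' x i * (a :: l).get i
    rw [coneSnd_d' φ (-1) 0 (by norm_num), smul_id_f_apply, map_add, map_smul, D.ρ_d,
      Fin.sum_univ_succ, hπ']
    simp only [Fin.cons_zero, Fin.cons_succ, smul_eq_mul]
    congr 1
    exact mul_comm _ _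
  · intro z
    show π' ((mappingCone φ).d (-2) (-1) z) ∈ kosz (fun i => (a :: l).get i)
    set y := (mappingCone φ).d (-2) (-1) z with hy
    have h1 : coneFst' φ (-1) 0 (by norm_num) y =
        - K.d (-1) 0 (coneFst' φ (-2) (-1) (by norm_num) z) :=
      coneFst'_d' φ (-2) (-1) 0 (by norm_num) (by norm_num) z
    have h2 : coneSnd φ (-1) y = φ.f (-1) (coneFst' φ (-2) (-1) (by norm_num) z) +
        K.d (-2) (-1) (coneSnd φ (-2) z) := coneSnd_d' φ (-2) (-1) (by norm_num) z
    rw [smul_id_f_apply] at h2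
    rw [hπ', h1, h2, map_neg, D.ρ_d, map_add, map_smul]
    set t := D.π (coneFst' φ (-2) (-1) (by norm_num) z) with ht
    set κ := D.π (K.d (-2) (-1) (coneSnd φ (-2) z)) with hκ
    have hκm : κ ∈ kosz (fun i => l.get i) := D.range_mem _
    have hb : ∀ i : Fin l.length, (fun i => (a :: l).get i) i.succ = (fun i => l.get i) i :=
      fun i => rfl
    have e1 : (Fin.cons (-∑ i, t i * l.get i) (a • t + κ) : Fin (l.length + 1) → A) =
        Fin.cons (-∑ i, t i * l.get i) (a • t) + Fin.cons 0 κ := by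
      funext i
      refine Fin.cases ?_ (fun i' => ?_) i
      · simp
      · simp
    rw [e1]
    exact Submodule.add_mem _
      (cons_rel_mem_kosz (fun i => l.get i) (fun i => (a :: l).get i) hb t)
      (cons_zero_mem_kosz (fun i => l.get i) (fun i => (a :: l).get i) hb κ hκm)

theorem nonempty_lowData' : ∀ l : List A, Nonempty (LowData' l)
  | [] => nonempty_lowData'_nil
  | a :: l => by
    obtain ⟨D⟩ := nonempty_lowData' l
    exact nonempty_lowData'_cons a l D

/-- if `H^{-1}` of the Koszul complex vanishes, every relation among the elements of the sequence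
is a combination of Koszul relations -/
theorem rel_mem_kosz (l : List A)
    (hex : IsZero ((Koszul.koszul A l).homology (-1)))
    (c : Fin l.length → A) (hc : ∑ i, c i * l.get i = 0) : c ∈ kosz (fun i => l.get i) := by
  rw [koszul_eq] at hex
  obtain ⟨D⟩ := nonempty_lowData' l
  set K := koszulCx (ModuleCat.of A A) l with hK
  have hd : K.d (-1) 0 (D.ι c) = 0 := by
    rw [D.d_ι, hc, zero_smul]
  have hE : K.ExactAt (-1) := (HomologicalComplex.exactAt_iff_isZero_homology _ _).2 hex
  rw [HomologicalComplex.exactAt_iff' K (-2) (-1) 0 (by simp) (by simp),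
    ShortComplex.moduleCat_exact_iff] at hE
  obtain ⟨z, hz⟩ := hE (D.ι c) hd
  have h1 := D.range_mem z
  have h2 : D.π (K.d (-2) (-1) z) = c := by
    have : K.d (-2) (-1) z = D.ι c := hz
    rw [this, D.π_ι]
  rw [h2] at h1
  exact h1

end Groth.Agent.Lib.Helper1.KoszulLow
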