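import Mathlib
import Groth.Prelude.Def_Found

/-!
# Catenary rings (`CAlg.IsCatenary`): order-theoretic transfer lemmas, quotients, localizations
-/
universe u

namespace Groth.Agent.Lib.Helper1
namespace Catenary

/-- the order-theoretic catenary property -/
def CatProp (α : Type*) [PartialOrder α] : Prop :=
  (∀ p q : α, p ≤ q → ∃ n : ℕ, ∀ s : LTSeries α, s.head = p → s.last = q → s.length ≤ n) ∧
  ∀ s t : LTSeries α, s.head = t.head → s.last = t.last →
    (∀ i : Fin s.length, s (Fin.castSucc i) ⋖ s (Fin.succ i)) →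
    (∀ i : Fin t.length, t (Fin.castSucc i) ⋖ t (Fin.succ i)) → s.length = t.length

theorem isCatenary_iff (R : Type u) [CommRing R] : CAlg.IsCatenary R ↔ CatProp (PrimeSpectrum R) :=
  Iff.rfl

section
variable {α β : Type*} [PartialOrder α] [PartialOrder β] (f : α → β)
  (hf : ∀ a b, f a ≤ f b ↔ a ≤ b)

include hf in
theorem strictMono_of_le_iff : StrictMono f := by
  intro a b hab
  rw [lt_iff_le_not_ge] at hab ⊢
  exact ⟨(hf a b).2 hab.1, fun h => hab.2 ((hf b a).1 h)⟩

include hf in
theorem lt_of_map_lt {a b : α} (h : f a < f b) : a < b := by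
  rw [lt_iff_le_not_ge] at h ⊢
  exact ⟨(hf a b).1 h.1, fun h' => h.2 ((hf b a).2 h')⟩

include hf in
theorem injective_of_le_iff : Function.Injective f := by
  intro a b hab
  exact le_antisymm ((hf a b).1 hab.le) ((hf b a).1 hab.ge)

include hf in
/-- push forward: convex order embedding -/
theorem catProp_of_convex_embedding
    (hconv : ∀ a b y, f a ≤ y → y ≤ f b → y ∈ Set.range f) (hβ : CatProp β) : CatProp α := by
  have hsm := strictMono_of_le_iff f hf
  have hcov : ∀ a b : α, a ⋖ b → f a ⋖ f b := by
    intro a b hab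
    refine ⟨hsm hab.lt, fun y hay hyb => ?_⟩
    obtain ⟨c, rfl⟩ := hconv a b y hay.le hyb.le
    exact hab.2 (lt_of_map_lt f hf hay) (lt_of_map_lt f hf hyb)
  refine ⟨fun p q hpq => ?_, fun s t hh hl hs ht => ?_⟩
  · obtain ⟨n, hn⟩ := hβ.1 (f p) (f q) ((hf p q).2 hpq)
    refine ⟨n, fun s hsh hsl => ?_⟩
    have := hn (s.map f hsm) (by rw [LTSeries.head_map, hsh]) (by rw [LTSeries.last_map, hsl])
    simpa using this
  · have := hβ.2 (s.map f hsm) (t.map f hsm) (by rw [LTSeries.head_map, LTSeries.head_map, hh])
      (by rw [LTSeries.last_map, LTSeries.last_map, hl])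
      (fun i => hcov _ _ (hs i)) (fun i => hcov _ _ (ht i))
    simpa using this

/-- pull back a chain with values in the range of an order embedding -/
noncomputable def pullSeries (s : LTSeries β) (h : ∀ i, s i ∈ Set.range f) : LTSeries α :=
  LTSeries.mk s.length (fun i => Classical.choose (h i)) (by
    intro i j hij
    apply lt_of_map_lt f hf
    rw [Classical.choose_spec (h i), Classical.choose_spec (h j)]
    exact s.strictMono hij)

theorem pullSeries_length (s : LTSeries β) (h : ∀ i, s i ∈ Set.range f) :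
    (pullSeries f hf s h).length = s.length := rfl

theorem map_pullSeries_apply (s : LTSeries β) (h : ∀ i, s i ∈ Set.range f) (i : Fin (s.length + 1)) :
    f ((pullSeries f hf s h) i) = s i := Classical.choose_spec (h i)

include hf in
theorem pullSeries_covBy (s : LTSeries β) (h : ∀ i, s i ∈ Set.range f)
    (hs : ∀ i : Fin s.length, s (Fin.castSucc i) ⋖ s (Fin.succ i)) (i : Fin s.length) :
    (pullSeries f hf s h) (Fin.castSucc i) ⋖ (pullSeries f hf s h) (Fin.succ i) := by
  refine ⟨(pullSeries f hf s h).strictMono (Fin.castSucc_lt_succ (i := i)), fun c h1 h2 => ?_⟩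
  have h1' := strictMono_of_le_iff f hf h1
  have h2' := strictMono_of_le_iff f hf h2
  have e1 : f ((pullSeries f hf s h) (Fin.castSucc i)) = s (Fin.castSucc i) :=
    map_pullSeries_apply f hf s h _
  have e2 : f ((pullSeries f hf s h) (Fin.succ i)) = s (Fin.succ i) :=
    map_pullSeries_apply f hf s h _
  rw [e1] at h1'
  rw [e2] at h2'
  exact (hs i).2 h1' h2'

end

theorem catProp_of_local {α : Type*} [PartialOrder α]
    (H : ∀ a : α, ∃ (γ : Type u) (_ : PartialOrder γ) (f : γ → α),
      (∀ x y, f x ≤ f y ↔ x ≤ y) ∧ (∀ y, a ≤ y → y ∈ Set.range f) ∧ CatProp γ) : CatProp α := by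
  refine ⟨fun p q hpq => ?_, fun s t hh hl hs ht => ?_⟩
  · obtain ⟨γ, _, f, hf, hr, hγ⟩ := H p
    obtain ⟨p', rfl⟩ := hr p le_rfl
    obtain ⟨q', rfl⟩ := hr q hpq
    obtain ⟨n, hn⟩ := hγ.1 p' q' ((hf _ _).1 hpq)
    refine ⟨n, fun s hsh hsl => ?_⟩
    have hmem : ∀ i, s i ∈ Set.range f := fun i => hr _ (hsh ▸ LTSeries.head_le s i)
    have := hn (pullSeries f hf s hmem)
      (injective_of_le_iff f hf ((map_pullSeries_apply f hf s hmem _).trans hsh))
      (injective_of_le_iff f hf ((map_pullSeries_apply f hf s hmem _).trans hsl))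
    exact this
  · obtain ⟨γ, _, f, hf, hr, hγ⟩ := H s.head
    have hmems : ∀ i, s i ∈ Set.range f := fun i => hr _ (LTSeries.head_le s i)
    have hmemt : ∀ i, t i ∈ Set.range f := fun i => hr _ (hh ▸ LTSeries.head_le t i)
    have := hγ.2 (pullSeries f hf s hmems) (pullSeries f hf t hmemt)
      (injective_of_le_iff f hf (((map_pullSeries_apply f hf s hmems _).trans hh).trans
        (map_pullSeries_apply f hf t hmemt _).symm))
      (injective_of_le_iff f hf (((map_pullSeries_apply f hf s hmems _).trans hl).trans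
        (map_pullSeries_apply f hf t hmemt _).symm))
      (pullSeries_covBy f hf s hmems hs) (pullSeries_covBy f hf t hmemt ht)
    exact this


section Rings

theorem comap_le_iff_of_surjective {A B : Type u} [CommRing A] [CommRing B] (φ : A →+* B)
    (hφ : Function.Surjective φ) (a b : PrimeSpectrum B) :
    PrimeSpectrum.comap φ a ≤ PrimeSpectrum.comap φ b ↔ a ≤ b := by
  rw [← PrimeSpectrum.asIdeal_le_asIdeal, ← PrimeSpectrum.asIdeal_le_asIdeal]
  exact Ideal.comap_le_comap_iff_of_surjective φ hφ _ _

theorem mem_range_comap_of_surjective {A B : Type u} [CommRing A] [CommRing B] (φ : A →+* B)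
    (hφ : Function.Surjective φ) (a : PrimeSpectrum B) (y : PrimeSpectrum A)
    (h : PrimeSpectrum.comap φ a ≤ y) : y ∈ Set.range (PrimeSpectrum.comap φ) := by
  rw [_root_.range_comap_of_surjective _ _ hφ, PrimeSpectrum.mem_zeroLocus]
  refine le_trans ?_ ((PrimeSpectrum.asIdeal_le_asIdeal _ _).2 h)
  intro x hx
  show φ x ∈ a.asIdeal
  rw [RingHom.mem_ker.1 hx]
  exact Ideal.zero_mem _

/-- A quotient of a catenary ring is catenary. -/
theorem isCatenary_of_surjective {A B : Type u} [CommRing A] [CommRing B] (φ : A →+* B)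
    (hφ : Function.Surjective φ) (hA : CAlg.IsCatenary A) : CAlg.IsCatenary B :=
  catProp_of_convex_embedding (PrimeSpectrum.comap φ) (comap_le_iff_of_surjective φ hφ)
    (fun a _ y h1 _ => mem_range_comap_of_surjective φ hφ a y h1) hA

theorem isCatenary_quotient (A : Type u) [CommRing A] (I : Ideal A) (hA : CAlg.IsCatenary A) :
    CAlg.IsCatenary (A ⧸ I) :=
  isCatenary_of_surjective (Ideal.Quotient.mk I) Ideal.Quotient.mk_surjective hA

theorem comap_le_iff_of_isLocalization {A : Type u} [CommRing A] (S : Submonoid A)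
    (B : Type u) [CommRing B] [Algebra A B] [IsLocalization S B] (a b : PrimeSpectrum B) :
    PrimeSpectrum.comap (algebraMap A B) a ≤ PrimeSpectrum.comap (algebraMap A B) b ↔ a ≤ b := by
  rw [← PrimeSpectrum.asIdeal_le_asIdeal, ← PrimeSpectrum.asIdeal_le_asIdeal]
  constructor
  · intro h
    have := Ideal.map_mono (f := algebraMap A B) h
    rwa [PrimeSpectrum.comap_asIdeal, PrimeSpectrum.comap_asIdeal,
      IsLocalization.map_comap S B, IsLocalization.map_comap S B] at this
  · intro h
    exact Ideal.comap_mono h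

/-- A localization of a catenary ring is catenary. -/
theorem isCatenary_of_isLocalization (A : Type u) [CommRing A] (S : Submonoid A)
    (B : Type u) [CommRing B] [Algebra A B] [IsLocalization S B]
    (hA : CAlg.IsCatenary A) : CAlg.IsCatenary B := by
  refine catProp_of_convex_embedding (PrimeSpectrum.comap (algebraMap A B))
    (comap_le_iff_of_isLocalization S B) (fun a b y _ h2 => ?_) hA
  rw [PrimeSpectrum.localization_comap_range B S]
  have hb : PrimeSpectrum.comap (algebraMap A B) b ∈ Set.range (PrimeSpectrum.comap (algebraMap A B)) :=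
    ⟨b, rfl⟩
  rw [PrimeSpectrum.localization_comap_range B S] at hb
  exact Set.disjoint_of_subset_right ((PrimeSpectrum.asIdeal_le_asIdeal _ _).2 h2) hb

/-- A ring is catenary iff all quotients by minimal primes are. -/
theorem isCatenary_iff_forall_quotient_minimalPrimes (R : Type u) [CommRing R] :
    CAlg.IsCatenary R ↔ ∀ p ∈ minimalPrimes R, CAlg.IsCatenary (R ⧸ p) := by
  refine ⟨fun h p _ => isCatenary_quotient R p h, fun h => ?_⟩
  refine catProp_of_local (fun a => ?_)
  obtain ⟨p, hp, hpa⟩ := Ideal.exists_minimalPrimes_le (bot_le : (⊥ : Ideal R) ≤ a.asIdeal)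
  refine ⟨PrimeSpectrum (R ⧸ p), inferInstance, PrimeSpectrum.comap (Ideal.Quotient.mk p),
    comap_le_iff_of_surjective _ Ideal.Quotient.mk_surjective, fun y hay => ?_, h p hp⟩
  rw [_root_.range_comap_of_surjective _ _ Ideal.Quotient.mk_surjective,
    PrimeSpectrum.mem_zeroLocus, Ideal.mk_ker]
  exact le_trans hpa ((PrimeSpectrum.asIdeal_le_asIdeal _ _).2 hay)

end Rings

end Catenary
end Groth.Agent.Lib.Helper1

namespace Groth.Agent.Lib.Helper1
namespace Catenary

/-- Essentially finite type algebras over a universally catenary ring are catenary. -/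
theorem isCatenary_of_essFiniteType (A : Type u) [CommRing A] (hA : CAlg.IsUniversallyCatenary A)
    (S : Type u) [CommRing S] [Algebra A S] [Algebra.EssFiniteType A S] : CAlg.IsCatenary S := by
  have h1 : CAlg.IsCatenary (Algebra.EssFiniteType.subalgebra A S) := hA.2 _ inferInstance
  exact isCatenary_of_isLocalization _ (Algebra.EssFiniteType.submonoid A S) S h1

theorem isUniversallyCatenary_of_essFiniteType (A : Type u) [CommRing A] (B : Type u) [CommRing B]
    [Algebra A B] [Algebra.EssFiniteType A B]
    (hA : CAlg.IsUniversallyCatenary A) : CAlg.IsUniversallyCatenary B := by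
  haveI := hA.1
  refine ⟨?_, ?_⟩
  · have : IsNoetherianRing (Algebra.EssFiniteType.subalgebra A B) :=
      Algebra.FiniteType.isNoetherianRing A _
    exact IsLocalization.isNoetherianRing (Algebra.EssFiniteType.submonoid A B) B this
  · intro S _ _ hS
    letI : Algebra A S := ((algebraMap B S).comp (algebraMap A B)).toAlgebra
    haveI : IsScalarTower A B S := IsScalarTower.of_algebraMap_eq (fun _ => rfl)
    haveI : Algebra.FiniteType B S := hS
    haveI : Algebra.EssFiniteType A S := Algebra.EssFiniteType.comp A B S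
    exact isCatenary_of_essFiniteType A hA S

end Catenary
end Groth.Agent.Lib.Helper1
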