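import Mathlib
import Groth.Prelude.Def_ArtFun3

/-!
# The obstruction theory of `h_R` for a presentation `R = T / J` with `h_T` smooth and `J ≤ 𝔪²`
-/
universe u v
open CategoryTheory TensorProduct

namespace Groth.Agent.Lib.Helper1.ArtFunLib

open ArtFun ArtFun.Art

namespace ObsPres

variable {k : Type u} [Field k]
variable {T : Type u} [CommRing T] [Algebra k T] {resT : T →ₐ[k] k}
variable {R : Type u} [CommRing R] [Algebra k R] {res : R →ₐ[k] k}
variable (π : T →ₐ[k] R) (hπres : res.comp π = resT)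
variable (J : Ideal T) (hJ : RingHom.ker π = J) (𝔪 : Ideal T) (h𝔪 : 𝔪 = RingHom.ker resT)

/-- composition with the presentation -/
def pull {C : Art k k} (u : HomSet R res C) : HomSet T resT C :=
  ⟨u.1.comp π, by rw [← AlgHom.comp_assoc, u.2, hπres]⟩

lemma pull_apply {C : Art k k} (u : HomSet R res C) (t : T) : (pull π hπres u).1 t = u.1 (π t) := rfl

section Lam

variable {C' C : Art k k} (p : C' ⟶ C) (hp : IsSemismallExt p)

include h𝔪 in
lemma map_mem_maximalIdeal (w : HomSet T resT C') {a : T} (ha : a ∈ 𝔪) :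
    w.1 a ∈ IsLocalRing.maximalIdeal C' := by
  rw [mem_maximalIdeal_iff]
  have h1 : C'.res (w.1 a) = resT a := congrArg (fun χ : T →ₐ[k] k => χ a) w.2
  rw [h1]
  rw [h𝔪] at ha
  exact ha

include hJ in
lemma lift_mem_ker (u : HomSet R res C) (w : HomSet T resT C')
    (hw : HomSet.map p w = pull π hπres u) {j : T} (hj : j ∈ J) :
    w.1 j ∈ RingHom.ker p.toAlgHom := by
  rw [RingHom.mem_ker]
  have h1 : p (w.1 j) = u.1 (π j) := congrArg (fun χ : HomSet T resT C => χ.1 j) hw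
  have h2 : π j = 0 := by
    rw [← hJ] at hj
    exact hj
  change p (w.1 j) = 0
  rw [h1, h2, map_zero]

/-- the restriction of a lift to `J`, as a `k`-linear map `J → ker p` -/
def lam0 (u : HomSet R res C) (w : HomSet T resT C') (hw : HomSet.map p w = pull π hπres u) :
    ↥J →ₗ[k] ↥(RingHom.ker p.toAlgHom) where
  toFun j := ⟨w.1 j, lift_mem_ker π hπres J hJ p u w hw j.2⟩
  map_add' x y := Subtype.ext (map_add w.1 _ _)
  map_smul' c x := Subtype.ext (by
    change w.1 (c • (x : T)) = c • w.1 (x : T)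
    rw [map_smul])

include hp h𝔪 in
lemma lam0_kills (u : HomSet R res C) (w : HomSet T resT C') (hw : HomSet.map p w = pull π hπres u) :
    (𝔪 • (⊤ : Submodule T ↥J)).restrictScalars k ≤ LinearMap.ker (lam0 π hπres J hJ p u w hw) := by
  intro x hx
  rw [Submodule.restrictScalars_mem] at hx
  rw [LinearMap.mem_ker]
  refine Submodule.smul_induction_on hx ?_ ?_
  · intro a ha j _
    apply Subtype.ext
    change w.1 (a • (j : T)) = 0
    rw [smul_eq_mul, map_mul]
    have h1 : w.1 a * w.1 (j : T) ∈ IsLocalRing.maximalIdeal C' * RingHom.ker p.toAlgHom :=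
      Ideal.mul_mem_mul (map_mem_maximalIdeal 𝔪 h𝔪 w ha) (lift_mem_ker π hπres J hJ p u w hw j.2)
    rw [hp.2] at h1
    exact h1
  · intro x y hx hy
    rw [map_add, hx, hy, add_zero]

/-- the induced map `J/𝔪J → ker p` -/
noncomputable def lam (u : HomSet R res C) (w : HomSet T resT C') (hw : HomSet.map p w = pull π hπres u) :
    (↥J ⧸ (𝔪 • (⊤ : Submodule T ↥J))) →ₗ[k] ↥(RingHom.ker p.toAlgHom) :=
  (Submodule.liftQ _ (lam0 π hπres J hJ p u w hw) (lam0_kills π hπres J hJ 𝔪 h𝔪 p hp u w hw)).comp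
    (Submodule.Quotient.restrictScalarsEquiv k (𝔪 • (⊤ : Submodule T ↥J))).symm.toLinearMap

lemma lam_mk (u : HomSet R res C) (w : HomSet T resT C') (hw : HomSet.map p w = pull π hπres u) (j : ↥J) :
    lam π hπres J hJ 𝔪 h𝔪 p hp u w hw (Submodule.Quotient.mk j) = lam0 π hπres J hJ p u w hw j := rfl

end Lam

section Indep

variable {C' C : Art k k} (p : C' ⟶ C) (hp : IsSemismallExt p)

include hp h𝔪 in
/-- two lifts of the same map agree on `𝔪²` -/
lemma lifts_agree_on_sq (w w' : HomSet T resT C') (hww' : HomSet.map p w = HomSet.map p w')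
    {t : T} (ht : t ∈ 𝔪 ^ 2) : w.1 t = w'.1 t := by
  have hdiff : ∀ a : T, w.1 a - w'.1 a ∈ RingHom.ker p.toAlgHom := by
    intro a
    rw [RingHom.mem_ker, map_sub, sub_eq_zero]
    exact congrArg (fun χ : HomSet T resT C => χ.1 a) hww'
  have hzero : ∀ (x y : C'), x ∈ IsLocalRing.maximalIdeal C' → y ∈ RingHom.ker p.toAlgHom → x * y = 0 := by
    intro x y hx hy
    have := Ideal.mul_mem_mul hx hy
    rw [hp.2] at this
    exact this
  rw [pow_two] at ht
  refine Submodule.mul_induction_on ht ?_ ?_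
  · intro a ha b hb
    have h1 : w.1 (a * b) - w'.1 (a * b) = w.1 b * (w.1 a - w'.1 a) + w'.1 a * (w.1 b - w'.1 b) := by
      rw [map_mul, map_mul]; ring
    have h2 : w.1 (a * b) - w'.1 (a * b) = 0 := by
      rw [h1, hzero _ _ (map_mem_maximalIdeal 𝔪 h𝔪 w hb) (hdiff a),
        hzero _ _ (map_mem_maximalIdeal 𝔪 h𝔪 w' ha) (hdiff b), add_zero]
    exact sub_eq_zero.1 h2
  · intro x y hx hy
    rw [map_add, map_add, hx, hy]

variable (hJ2 : J ≤ 𝔪 ^ 2)

include hJ2 in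
lemma lam_eq_of_lifts (u : HomSet R res C) (w w' : HomSet T resT C')
    (hw : HomSet.map p w = pull π hπres u) (hw' : HomSet.map p w' = pull π hπres u) :
    lam π hπres J hJ 𝔪 h𝔪 p hp u w hw = lam π hπres J hJ 𝔪 h𝔪 p hp u w' hw' := by
  apply LinearMap.ext
  intro x
  obtain ⟨j, rfl⟩ := Submodule.Quotient.mk_surjective _ x
  rw [lam_mk, lam_mk]
  apply Subtype.ext
  exact lifts_agree_on_sq 𝔪 h𝔪 p hp w w' (hw.trans hw'.symm) (hJ2 j.2)

end Indep

section ZeroIff

variable {C' C : Art k k} (p : C' ⟶ C) (hp : IsSemismallExt p) (hJ2 : J ≤ 𝔪 ^ 2)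
variable (hπs : Function.Surjective π)

include hπs in
lemma exists_lift_of_lam_eq_zero (u : HomSet R res C) (w : HomSet T resT C')
    (hw : HomSet.map p w = pull π hπres u) (h0 : lam π hπres J hJ 𝔪 h𝔪 p hp u w hw = 0) :
    ∃ u' : HomSet R res C', HomSet.map p u' = u := by
  have hker : RingHom.ker (π : T →+* R) ≤ RingHom.ker (w.1 : T →+* C') := by
    intro j hj
    have hjJ : j ∈ J := by rw [← hJ]; exact hj
    have h1 := congrArg (fun l : (↥J ⧸ (𝔪 • (⊤ : Submodule T ↥J))) →ₗ[k] ↥(RingHom.ker p.toAlgHom) =>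
      (l (Submodule.Quotient.mk ⟨j, hjJ⟩) : C')) h0
    exact h1
  let g : R →+* C' := (π : T →+* R).liftOfSurjective hπs ⟨(w.1 : T →+* C'), hker⟩
  have hg : ∀ t, g (π t) = w.1 t := fun t =>
    RingHom.liftOfSurjective_comp_apply (π : T →+* R) hπs ⟨(w.1 : T →+* C'), hker⟩ t
  let u'₀ : R →ₐ[k] C' :=
    { g with
      commutes' := fun c => by
        change g (algebraMap k R c) = algebraMap k C' c
        rw [← π.commutes c, hg, AlgHom.commutes] }
  have hu'₀ : ∀ t, u'₀ (π t) = w.1 t := hg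
  refine ⟨⟨u'₀, ?_⟩, ?_⟩
  · apply AlgHom.ext
    intro r
    obtain ⟨t, rfl⟩ := hπs r
    change C'.res (u'₀ (π t)) = res (π t)
    rw [hu'₀]
    have h1 : C'.res (w.1 t) = resT t := congrArg (fun χ : T →ₐ[k] k => χ t) w.2
    have h2 : res (π t) = resT t := congrArg (fun χ : T →ₐ[k] k => χ t) hπres
    rw [h1, h2]
  · apply Subtype.ext
    apply AlgHom.ext
    intro r
    obtain ⟨t, rfl⟩ := hπs r
    change p (u'₀ (π t)) = u.1 (π t)
    rw [hu'₀]
    exact congrArg (fun χ : HomSet T resT C => χ.1 t) hw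

include hJ2 in
lemma lam_eq_zero_of_exists_lift (u : HomSet R res C) (w : HomSet T resT C')
    (hw : HomSet.map p w = pull π hπres u) (u' : HomSet R res C') (hu' : HomSet.map p u' = u) :
    lam π hπres J hJ 𝔪 h𝔪 p hp u w hw = 0 := by
  have hw' : HomSet.map p (pull π hπres u') = pull π hπres u := by
    rw [← hu']
    rfl
  rw [lam_eq_of_lifts π hπres J hJ 𝔪 h𝔪 p hp hJ2 u w (pull π hπres u') hw hw']
  apply LinearMap.ext
  intro x
  obtain ⟨j, rfl⟩ := Submodule.Quotient.mk_surjective _ x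
  rw [lam_mk]
  apply Subtype.ext
  change u'.1 (π (j : T)) = 0
  have hj0 : π (j : T) = 0 := by
    have hj2 : (j : T) ∈ RingHom.ker π := by rw [hJ]; exact j.2
    exact hj2
  rw [hj0, map_zero]

end ZeroIff

section QuotCompat

variable {C' C : Art k k} (p : C' ⟶ C) (hp : IsSemismallExt p)
variable (K : Ideal C') (hK : K ≤ IsLocalRing.maximalIdeal C') (hKJ : K ≤ RingHom.ker p.toAlgHom)
variable (hq : IsSemismallExt (quotFactor hK p hKJ))

lemma map_quotMk_lift (u : HomSet R res C) (w : HomSet T resT C')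
    (hw : HomSet.map p w = pull π hπres u) :
    HomSet.map (quotFactor hK p hKJ) (HomSet.map (quotMk C' K hK) w) = pull π hπres u := by
  rw [← hw]
  apply Subtype.ext
  apply AlgHom.ext
  intro t
  rfl

lemma lam_quot (u : HomSet R res C) (w : HomSet T resT C')
    (hw : HomSet.map p w = pull π hπres u) :
    lam π hπres J hJ 𝔪 h𝔪 (quotFactor hK p hKJ) hq u (HomSet.map (quotMk C' K hK) w)
        (map_quotMk_lift π hπres p K hK hKJ u w hw) =
      ((kerToQuot hK p hKJ).restrictScalars k).comp (lam π hπres J hJ 𝔪 h𝔪 p hp u w hw) := by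
  apply LinearMap.ext
  intro x
  obtain ⟨j, rfl⟩ := Submodule.Quotient.mk_surjective _ x
  rw [LinearMap.comp_apply, lam_mk, lam_mk]
  apply Subtype.ext
  rfl

end QuotCompat

section Assemble

variable (hJ2 : J ≤ 𝔪 ^ 2) (hπs : Function.Surjective π)
variable (hsm : ∀ ⦃B A : Art k k⦄ (μ : B ⟶ A), Function.Surjective μ →
  Function.Surjective (HomSet.map (R := T) (resR := resT) μ))
variable [Module.Finite k (↥J ⧸ (𝔪 • (⊤ : Submodule T ↥J)))]

/-- the chosen lift -/
noncomputable def chosenLift {C' C : Art k k} (p : C' ⟶ C) (hp : IsSemismallExt p)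
    (u : HomSet R res C) : HomSet T resT C' :=
  Classical.choose (hsm p hp.1 (pull π hπres u))

lemma chosenLift_spec {C' C : Art k k} (p : C' ⟶ C) (hp : IsSemismallExt p)
    (u : HomSet R res C) : HomSet.map p (chosenLift π hπres hsm p hp u) = pull π hπres u :=
  Classical.choose_spec (hsm p hp.1 (pull π hπres u))

/-- the obstruction element -/
noncomputable def obsVal {C' C : Art k k} (p : C' ⟶ C) (hp : IsSemismallExt p)
    (u : HomSet R res C) :
    Module.Dual k (↥J ⧸ (𝔪 • (⊤ : Submodule T ↥J))) ⊗[k] ↥(RingHom.ker p.toAlgHom) :=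
  (dualTensorHomEquiv k (↥J ⧸ (𝔪 • (⊤ : Submodule T ↥J))) ↥(RingHom.ker p.toAlgHom)).symm
    (lam π hπres J hJ 𝔪 h𝔪 p hp u (chosenLift π hπres hsm p hp u) (chosenLift_spec π hπres hsm p hp u))

include hJ2 in
lemma obsVal_eq {C' C : Art k k} (p : C' ⟶ C) (hp : IsSemismallExt p)
    (u : HomSet R res C) (w : HomSet T resT C') (hw : HomSet.map p w = pull π hπres u) :
    obsVal π hπres J hJ 𝔪 h𝔪 hsm p hp u =
      (dualTensorHomEquiv k (↥J ⧸ (𝔪 • (⊤ : Submodule T ↥J))) ↥(RingHom.ker p.toAlgHom)).symm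
        (lam π hπres J hJ 𝔪 h𝔪 p hp u w hw) := by
  unfold obsVal
  rw [lam_eq_of_lifts π hπres J hJ 𝔪 h𝔪 p hp hJ2 u _ w _ hw]

include hJ2 hπs in
lemma obsVal_eq_zero_iff {C' C : Art k k} (p : C' ⟶ C) (hp : IsSemismallExt p)
    (u : HomSet R res C) :
    obsVal π hπres J hJ 𝔪 h𝔪 hsm p hp u = 0 ↔ ∃ u' : HomSet R res C', HomSet.map p u' = u := by
  unfold obsVal
  rw [LinearEquiv.map_eq_zero_iff]
  constructor
  · intro h0
    exact exists_lift_of_lam_eq_zero π hπres J hJ 𝔪 h𝔪 p hp hπs u _ _ h0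
  · rintro ⟨u', hu'⟩
    exact lam_eq_zero_of_exists_lift π hπres J hJ 𝔪 h𝔪 p hp hJ2 u _ _ u' hu'

include hJ2 in
lemma obsVal_quot {C' C : Art k k} (p : C' ⟶ C) (hp : IsSemismallExt p)
    (K : Ideal C') (hK : K ≤ IsLocalRing.maximalIdeal C') (hKJ : K ≤ RingHom.ker p.toAlgHom)
    (hq : IsSemismallExt (quotFactor hK p hKJ)) (u : HomSet R res C) :
    obsVal π hπres J hJ 𝔪 h𝔪 hsm (quotFactor hK p hKJ) hq u =
      LinearMap.lTensor (Module.Dual k (↥J ⧸ (𝔪 • (⊤ : Submodule T ↥J))))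
        ((kerToQuot hK p hKJ).restrictScalars k) (obsVal π hπres J hJ 𝔪 h𝔪 hsm p hp u) := by
  rw [obsVal_eq π hπres J hJ 𝔪 h𝔪 hJ2 hsm (quotFactor hK p hKJ) hq u
    (HomSet.map (quotMk C' K hK) (chosenLift π hπres hsm p hp u))
    (map_quotMk_lift π hπres p K hK hKJ u _ (chosenLift_spec π hπres hsm p hp u))]
  rw [lam_quot π hπres J hJ 𝔪 h𝔪 p hp K hK hKJ hq u _ (chosenLift_spec π hπres hsm p hp u)]
  rw [LinearEquiv.symm_apply_eq]
  unfold obsVal
  have h1 := LinearMap.congr_fun (dualTensorHom_comp_lTensor (R := k)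
    (M := (↥J ⧸ (𝔪 • (⊤ : Submodule T ↥J)))) ((kerToQuot hK p hKJ).restrictScalars k))
    ((dualTensorHomEquiv k (↥J ⧸ (𝔪 • (⊤ : Submodule T ↥J))) ↥(RingHom.ker p.toAlgHom)).symm
    (lam π hπres J hJ 𝔪 h𝔪 p hp u (chosenLift π hπres hsm p hp u) (chosenLift_spec π hπres hsm p hp u)))
  rw [LinearMap.comp_apply, LinearMap.comp_apply] at h1
  refine Eq.trans ?_ h1.symm
  have h2 : dualTensorHom k (↥J ⧸ (𝔪 • (⊤ : Submodule T ↥J))) ↥(RingHom.ker p.toAlgHom)
      ((dualTensorHomEquiv k (↥J ⧸ (𝔪 • (⊤ : Submodule T ↥J))) ↥(RingHom.ker p.toAlgHom)).symm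
      (lam π hπres J hJ 𝔪 h𝔪 p hp u (chosenLift π hπres hsm p hp u) (chosenLift_spec π hπres hsm p hp u))) =
      lam π hπres J hJ 𝔪 h𝔪 p hp u (chosenLift π hπres hsm p hp u) (chosenLift_spec π hπres hsm p hp u) :=
    (dualTensorHomEquiv k (↥J ⧸ (𝔪 • (⊤ : Submodule T ↥J))) ↥(RingHom.ker p.toAlgHom)).apply_symm_apply _
  rw [h2]
  rfl

include hπres hJ h𝔪 hJ2 hπs hsm in
/-- the obstruction theory of `h_R` -/
theorem hasObsTheory : HasObsTheory (hR R res) (Module.Dual k (↥J ⧸ (𝔪 • (⊤ : Submodule T ↥J)))) :=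
  ⟨{ obs := fun {C' C} p hp u => obsVal π hπres J hJ 𝔪 h𝔪 hsm p hp u
     obs_eq_zero_iff := fun {C' C} p hp u => obsVal_eq_zero_iff π hπres J hJ 𝔪 h𝔪 hJ2 hπs hsm p hp u
     obs_quot := fun {C' C} p hp K hK hKJ hq u => obsVal_quot π hπres J hJ 𝔪 h𝔪 hJ2 hsm p hp K hK hKJ hq u }⟩

end Assemble

end ObsPres

end Groth.Agent.Lib.Helper1.ArtFunLib
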