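import Mathlib
import Groth.Prelude.Def_ArtFun2

/-!
# Functors of Artin rings: basic lemmas (`h_R` is left exact, fibre products, versal families)
-/
universe u v
open CategoryTheory

namespace Groth.Agent.Lib.Helper1.ArtFunLib

open ArtFun ArtFun.Art

variable {Λ : Type u} {k : Type u} [CommRing Λ] [Field k] [Algebra Λ k]

section HomSet

variable {R : Type u} [CommRing R] [Algebra Λ R] {resR : R →ₐ[Λ] k}

lemma homSet_ext {A : Art Λ k} {φ ψ : HomSet R resR A} (h : ∀ r, φ.1 r = ψ.1 r) : φ = ψ :=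
  Subtype.ext (AlgHom.ext h)

@[simp] lemma homSet_map_apply {A B : Art Λ k} (f : A ⟶ B) (φ : HomSet R resR A) (r : R) :
    (HomSet.map f φ).1 r = f (φ.1 r) := rfl

lemma homSet_map_id {A : Art Λ k} (φ : HomSet R resR A) : HomSet.map (𝟙 A) φ = φ :=
  homSet_ext fun _ => rfl

lemma homSet_map_comp {A B C : Art Λ k} (f : A ⟶ B) (g : B ⟶ C) (φ : HomSet R resR A) :
    HomSet.map (f ≫ g) φ = HomSet.map g (HomSet.map f φ) :=
  homSet_ext fun _ => rfl

lemma hR_map_apply {A B : Art Λ k} (f : A ⟶ B) (φ : HomSet R resR A) :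
    (hR R resR).map f φ = HomSet.map f φ := rfl

lemma res_homSet {A : Art Λ k} (φ : HomSet R resR A) (r : R) : A.res (φ.1 r) = resR r :=
  congrArg (fun ψ : R →ₐ[Λ] k => ψ r) φ.2

/-- the unique point of `h_R(k)` -/
def homSetBase (R : Type u) [CommRing R] [Algebra Λ R] (resR : R →ₐ[Λ] k) : HomSet R resR (base Λ k) :=
  ⟨resR, AlgHom.id_comp _⟩

lemma homSet_base_eq (φ : HomSet R resR (base Λ k)) : φ = homSetBase R resR := by
  apply homSet_ext
  intro r
  have := res_homSet φ r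
  exact this

instance : Subsingleton (HomSet R resR (base Λ k)) :=
  ⟨fun a b => (homSet_base_eq a).trans (homSet_base_eq b).symm⟩

instance : Nonempty (HomSet R resR (base Λ k)) := ⟨homSetBase R resR⟩

lemma family_natural' {F : Art Λ k ⥤ Type v} (ξ : Family R resR F) {A B : Art Λ k} (f : A ⟶ B)
    (φ : HomSet R resR A) : F.map f (ξ.app A φ) = ξ.app B (HomSet.map f φ) := (ξ.natural f φ).symm

end HomSet

section FibreProd

variable {B A A' A'' : Art Λ k} {p' : B ⟶ A'} {p'' : B ⟶ A''} {f' : A' ⟶ A} {f'' : A'' ⟶ A}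

/-- the element of the fibre product with given components -/
noncomputable def fpElt (h : IsFibreProd p' p'' f' f'') (a' : A') (a'' : A'') (e : f' a' = f'' a'') : B :=
  (h.surj a' a'' e).choose

lemma fpElt_fst (h : IsFibreProd p' p'' f' f'') (a' : A') (a'' : A'') (e : f' a' = f'' a'') :
    p' (fpElt h a' a'' e) = a' := (h.surj a' a'' e).choose_spec.1

lemma fpElt_snd (h : IsFibreProd p' p'' f' f'') (a' : A') (a'' : A'') (e : f' a' = f'' a'') :
    p'' (fpElt h a' a'' e) = a'' := (h.surj a' a'' e).choose_spec.2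

lemma fpElt_eq (h : IsFibreProd p' p'' f' f'') (a' : A') (a'' : A'') (e : f' a' = f'' a'') (b : B)
    (h1 : p' b = a') (h2 : p'' b = a'') : fpElt h a' a'' e = b :=
  h.inj _ _ ((fpElt_fst h a' a'' e).trans h1.symm) ((fpElt_snd h a' a'' e).trans h2.symm)

variable {R : Type u} [CommRing R] [Algebra Λ R]

/-- lift a compatible pair of algebra maps to the fibre product -/
noncomputable def fpLiftAlgHom (h : IsFibreProd p' p'' f' f'') (φ' : R →ₐ[Λ] A') (φ'' : R →ₐ[Λ] A'')
    (e : ∀ r, f' (φ' r) = f'' (φ'' r)) : R →ₐ[Λ] B where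
  toFun r := fpElt h (φ' r) (φ'' r) (e r)
  map_one' := fpElt_eq h _ _ _ _ ((map_one p'.toAlgHom).trans (map_one φ').symm)
    ((map_one p''.toAlgHom).trans (map_one φ'').symm)
  map_mul' x y := fpElt_eq h _ _ _ _
    ((map_mul p'.toAlgHom _ _).trans ((congrArg₂ (· * ·) (fpElt_fst h _ _ _) (fpElt_fst h _ _ _)).trans
      (map_mul φ' x y).symm))
    ((map_mul p''.toAlgHom _ _).trans ((congrArg₂ (· * ·) (fpElt_snd h _ _ _) (fpElt_snd h _ _ _)).trans
      (map_mul φ'' x y).symm))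
  map_zero' := fpElt_eq h _ _ _ _ ((map_zero p'.toAlgHom).trans (map_zero φ').symm)
    ((map_zero p''.toAlgHom).trans (map_zero φ'').symm)
  map_add' x y := fpElt_eq h _ _ _ _
    ((map_add p'.toAlgHom _ _).trans ((congrArg₂ (· + ·) (fpElt_fst h _ _ _) (fpElt_fst h _ _ _)).trans
      (map_add φ' x y).symm))
    ((map_add p''.toAlgHom _ _).trans ((congrArg₂ (· + ·) (fpElt_snd h _ _ _) (fpElt_snd h _ _ _)).trans
      (map_add φ'' x y).symm))
  commutes' r := fpElt_eq h _ _ _ _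
    ((p'.toAlgHom.commutes r).trans (φ'.commutes r).symm)
    ((p''.toAlgHom.commutes r).trans (φ''.commutes r).symm)

lemma fpLiftAlgHom_fst (h : IsFibreProd p' p'' f' f'') (φ' : R →ₐ[Λ] A') (φ'' : R →ₐ[Λ] A'')
    (e : ∀ r, f' (φ' r) = f'' (φ'' r)) (r : R) : p' (fpLiftAlgHom h φ' φ'' e r) = φ' r :=
  fpElt_fst h (φ' r) (φ'' r) (e r)

lemma fpLiftAlgHom_snd (h : IsFibreProd p' p'' f' f'') (φ' : R →ₐ[Λ] A') (φ'' : R →ₐ[Λ] A'')
    (e : ∀ r, f' (φ' r) = f'' (φ'' r)) (r : R) : p'' (fpLiftAlgHom h φ' φ'' e r) = φ'' r :=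
  fpElt_snd h (φ' r) (φ'' r) (e r)

variable {resR : R →ₐ[Λ] k}

lemma fpLift_compat {φ' : HomSet R resR A'} {φ'' : HomSet R resR A''}
    (e : HomSet.map f' φ' = HomSet.map f'' φ'') (r : R) : f' (φ'.1 r) = f'' (φ''.1 r) :=
  congrArg (fun ψ : HomSet R resR A => ψ.1 r) e

/-- `h_R` of a fibre product: lift of a compatible pair. -/
noncomputable def fpLift (h : IsFibreProd p' p'' f' f'') (φ' : HomSet R resR A') (φ'' : HomSet R resR A'')
    (e : HomSet.map f' φ' = HomSet.map f'' φ'') : HomSet R resR B :=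
  ⟨fpLiftAlgHom h φ'.1 φ''.1 (fpLift_compat e), by
    apply AlgHom.ext
    intro r
    change B.res (fpLiftAlgHom h φ'.1 φ''.1 (fpLift_compat e) r) = resR r
    rw [← res_app p', fpLiftAlgHom_fst, res_homSet]⟩

lemma fpLift_fst (h : IsFibreProd p' p'' f' f'') (φ' : HomSet R resR A') (φ'' : HomSet R resR A'')
    (e : HomSet.map f' φ' = HomSet.map f'' φ'') : HomSet.map p' (fpLift h φ' φ'' e) = φ' :=
  homSet_ext fun r => fpLiftAlgHom_fst h φ'.1 φ''.1 (fpLift_compat e) r

lemma fpLift_snd (h : IsFibreProd p' p'' f' f'') (φ' : HomSet R resR A') (φ'' : HomSet R resR A'')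
    (e : HomSet.map f' φ' = HomSet.map f'' φ'') : HomSet.map p'' (fpLift h φ' φ'' e) = φ'' :=
  homSet_ext fun r => fpLiftAlgHom_snd h φ'.1 φ''.1 (fpLift_compat e) r

lemma homSet_ext_of_isFibreProd (h : IsFibreProd p' p'' f' f'') {χ₁ χ₂ : HomSet R resR B}
    (h1 : HomSet.map p' χ₁ = HomSet.map p' χ₂) (h2 : HomSet.map p'' χ₁ = HomSet.map p'' χ₂) : χ₁ = χ₂ :=
  homSet_ext fun r => h.inj _ _ (congrArg (fun ψ : HomSet R resR A' => ψ.1 r) h1)
    (congrArg (fun ψ : HomSet R resR A'' => ψ.1 r) h2)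

/-- `h_R` is left exact. -/
theorem isLeftExact_hR (R : Type u) [CommRing R] [Algebra Λ R] (resR : R →ₐ[Λ] k) :
    IsLeftExact (hR R resR) := by
  intro B A A' A'' p' p'' f' f'' h
  constructor
  · intro χ₁ χ₂ e
    have e1 : HomSet.map p' χ₁ = HomSet.map p' χ₂ := congrArg (fun t => t.1.1) e
    have e2 : HomSet.map p'' χ₁ = HomSet.map p'' χ₂ := congrArg (fun t => t.1.2) e
    exact homSet_ext_of_isFibreProd h e1 e2
  · rintro ⟨⟨φ', φ''⟩, e⟩
    refine ⟨fpLift h φ' φ'' e, ?_⟩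
    apply FibProd.ext
    · exact fpLift_fst h φ' φ'' e
    · exact fpLift_snd h φ' φ'' e

/-- The projection `p'` of a fibre product is surjective when `f''` is. -/
lemma surjective_fst_of_isFibreProd (h : IsFibreProd p' p'' f' f'') (hf : Function.Surjective f'') :
    Function.Surjective p' := by
  intro a'
  obtain ⟨a'', ha''⟩ := hf (f' a')
  exact ⟨fpElt h a' a'' ha''.symm, fpElt_fst h _ _ _⟩

lemma surjective_snd_of_isFibreProd (h : IsFibreProd p' p'' f' f'') (hf : Function.Surjective f') :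
    Function.Surjective p'' := by
  intro a''
  obtain ⟨a', ha'⟩ := hf (f'' a'')
  exact ⟨fpElt h a' a'' ha', fpElt_snd h _ _ _⟩

lemma IsFibreProd.symm (h : IsFibreProd p' p'' f' f'') : IsFibreProd p'' p' f'' f' where
  w := h.w.symm
  inj b₁ b₂ h₁ h₂ := h.inj b₁ b₂ h₂ h₁
  surj a'' a' e := by
    obtain ⟨b, hb1, hb2⟩ := h.surj a' a'' e.symm
    exact ⟨b, hb2, hb1⟩

end FibreProd

section Versal

variable {R : Type u} [CommRing R] [Algebra Λ R] {resR : R →ₐ[Λ] k} {F : Art Λ k ⥤ Type v}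

/-- `F(k)` is a point if some family is surjective on `k`. -/
lemma h0_of_surjective (ξ : Family R resR F) (hs : Function.Surjective (ξ.app (base Λ k))) : H0 F := by
  refine ⟨⟨ξ.app _ (homSetBase R resR)⟩, ⟨fun a b => ?_⟩⟩
  obtain ⟨φ, rfl⟩ := hs a
  obtain ⟨ψ, rfl⟩ := hs b
  rw [Subsingleton.elim φ ψ]

/-- A versal family which is surjective on objects gives (S1). -/
lemma s1_of_isVersal_of_surjective (ξ : Family R resR F) (hξ : IsVersal ξ)
    (hs : ∀ A : Art Λ k, Function.Surjective (ξ.app A)) : S1 F := by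
  intro B A A' A'' p' p'' f' f'' h hf''
  rintro ⟨⟨x', x''⟩, e⟩
  obtain ⟨φ', rfl⟩ := hs A' x'
  have e' : F.map f'' x'' = ξ.app A (HomSet.map f' φ') := by
    rw [ξ.natural]; exact e.symm
  obtain ⟨ψ'', hψ1, rfl⟩ := hξ f'' hf'' (HomSet.map f' φ') x'' e'
  refine ⟨ξ.app B (fpLift h φ' ψ'' hψ1.symm), ?_⟩
  apply FibProd.ext
  · change F.map p' (ξ.app B _) = ξ.app A' φ'
    rw [← ξ.natural, fpLift_fst]
  · change F.map p'' (ξ.app B _) = ξ.app A'' ψ''
    rw [← ξ.natural, fpLift_snd]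

/-- `H0` + versal ⇒ surjective on every object whose augmentation is surjective (always). -/
lemma surjective_app_of_isVersal (ξ : Family R resR F) (hξ : IsVersal ξ) (h0 : H0 F) (A : Art Λ k) :
    Function.Surjective (ξ.app A) := by
  intro y
  have hsub := h0.2
  have e : F.map (toBase A) y = ξ.app (base Λ k) (homSetBase R resR) := Subsingleton.elim _ _
  obtain ⟨ψ, -, hψ⟩ := hξ (toBase A) A.res_surjective (homSetBase R resR) y e
  exact ⟨ψ, hψ⟩

lemma s1_of_isVersal (ξ : Family R resR F) (hξ : IsVersal ξ) (h0 : H0 F) : S1 F :=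
  s1_of_isVersal_of_surjective ξ hξ (surjective_app_of_isVersal ξ hξ h0)

/-- A miniversal family which is surjective on objects gives (S2). -/
lemma heps_of_isMiniversal_of_surjective (ξ : Family R resR F) (hξ : IsMiniversal ξ)
    (hs : ∀ A : Art Λ k, Function.Surjective (ξ.app A)) : Heps F := by
  intro B A' p' p'' h
  have hsurj_dual : Function.Surjective (toBase (dual Λ k)) := (dual Λ k).res_surjective
  refine ⟨?_, s1_of_isVersal_of_surjective ξ hξ.1 hs p' p'' _ _ h hsurj_dual⟩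
  intro z₁ z₂ e
  have e1 : F.map p' z₁ = F.map p' z₂ := congrArg (fun t => t.1.1) e
  have e2 : F.map p'' z₁ = F.map p'' z₂ := congrArg (fun t => t.1.2) e
  obtain ⟨χ₁, rfl⟩ := hs B z₁
  have hp' : Function.Surjective p' := surjective_fst_of_isFibreProd h hsurj_dual
  have e1' : F.map p' z₂ = ξ.app A' (HomSet.map p' χ₁) := by
    rw [ξ.natural]; exact e1.symm
  obtain ⟨χ₂, hχ1, rfl⟩ := hξ.1 p' hp' (HomSet.map p' χ₁) z₂ e1'
  have e2' : ξ.app _ (HomSet.map p'' χ₁) = ξ.app _ (HomSet.map p'' χ₂) := by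
    rw [ξ.natural, ξ.natural]; exact e2
  have := hξ.2.1 e2'
  rw [homSet_ext_of_isFibreProd h hχ1.symm this]

end Versal

end Groth.Agent.Lib.Helper1.ArtFunLib
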