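import Mathlib
import Groth.Prelude.Def_ArtFun3
import Groth.Agent.Lib.Helper1.ArtFunBasic

/-!
# The category of Artinian local algebras: isomorphisms, quotients, small extensions, induction
-/
universe u v
open CategoryTheory

namespace Groth.Agent.Lib.Helper1.ArtFunLib

open ArtFun ArtFun.Art

variable {Λ : Type u} {k : Type u} [CommRing Λ] [Field k] [Algebra Λ k]

/-- a bijective morphism is an isomorphism -/
theorem isIso_of_bijective {A B : Art Λ k} (f : B ⟶ A) (h : Function.Bijective f) : IsIso f := by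
  let e : B ≃ₐ[Λ] A := AlgEquiv.ofBijective f.toAlgHom h
  have hres : B.res.comp (e.symm : A →ₐ[Λ] B) = A.res := by
    apply AlgHom.ext
    intro a
    obtain ⟨b, rfl⟩ := h.2 a
    change B.res (e.symm (e b)) = A.res (f b)
    rw [AlgEquiv.symm_apply_apply, res_app]
  refine ⟨⟨⟨(e.symm : A →ₐ[Λ] B), hres⟩, ?_, ?_⟩⟩
  · apply hom_ext
    apply AlgHom.ext
    intro b
    exact e.symm_apply_apply b
  · apply hom_ext
    apply AlgHom.ext
    intro a
    exact e.apply_symm_apply a

lemma bijective_of_isIso {A B : Art Λ k} (f : B ⟶ A) [IsIso f] : Function.Bijective f := by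
  constructor
  · intro x y hxy
    have := congrArg (inv f) hxy
    have e : ∀ z, (inv f) (f z) = z := fun z => by
      change (f ≫ inv f) z = z
      rw [IsIso.hom_inv_id]; rfl
    rwa [e, e] at this
  · intro a
    refine ⟨inv f a, ?_⟩
    change (inv f ≫ f) a = a
    rw [IsIso.inv_hom_id]; rfl

lemma ker_le_maximalIdeal {A B : Art Λ k} (f : B ⟶ A) :
    RingHom.ker f.toAlgHom ≤ IsLocalRing.maximalIdeal B := by
  intro x hx
  rw [mem_maximalIdeal_iff, ← res_app f]
  rw [RingHom.mem_ker] at hx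
  change A.res (f.toAlgHom x) = 0
  rw [hx, map_zero]

lemma mem_maximalIdeal_of_map {A B : Art Λ k} (f : B ⟶ A) {b : B} (hb : f b ∈ IsLocalRing.maximalIdeal A) :
    b ∈ IsLocalRing.maximalIdeal B := by
  rw [mem_maximalIdeal_iff] at hb ⊢
  rwa [res_app] at hb

lemma map_mem_maximalIdeal {A B : Art Λ k} (f : B ⟶ A) {b : B} (hb : b ∈ IsLocalRing.maximalIdeal B) :
    f b ∈ IsLocalRing.maximalIdeal A := by
  rw [mem_maximalIdeal_iff] at hb ⊢
  rwa [res_app]

/-- the maximal ideal of an object is nilpotent -/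
lemma exists_maximalIdeal_pow_eq_bot (B : Art Λ k) : ∃ n : ℕ, IsLocalRing.maximalIdeal B ^ n = ⊥ := by
  have := (isArtinianRing_iff_isNilpotent_maximalIdeal B).1 inferInstance
  obtain ⟨n, hn⟩ := this
  exact ⟨n, hn⟩

section QuotQuot

variable (B : Art Λ k)

/-- the map `B/K → B/K'` for `K ≤ K'` -/
noncomputable def quotQuot (K K' : Ideal B) (hK : K ≤ IsLocalRing.maximalIdeal B)
    (hK' : K' ≤ IsLocalRing.maximalIdeal B) (h : K ≤ K') : quot B K hK ⟶ quot B K' hK' :=
  quotFactor hK (quotMk B K' hK') (by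
    intro x hx
    rw [RingHom.mem_ker]
    exact Ideal.Quotient.eq_zero_iff_mem.2 (h hx))

lemma quotQuot_mk (K K' : Ideal B) (hK : K ≤ IsLocalRing.maximalIdeal B)
    (hK' : K' ≤ IsLocalRing.maximalIdeal B) (h : K ≤ K') (b : B) :
    quotQuot B K K' hK hK' h (Ideal.Quotient.mk K b) = Ideal.Quotient.mk K' b := rfl

lemma quotMk_quotQuot (K K' : Ideal B) (hK : K ≤ IsLocalRing.maximalIdeal B)
    (hK' : K' ≤ IsLocalRing.maximalIdeal B) (h : K ≤ K') :
    quotMk B K hK ≫ quotQuot B K K' hK hK' h = quotMk B K' hK' :=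
  hom_ext (AlgHom.ext fun _ => rfl)

lemma quotQuot_quotFactor {A : Art Λ k} (f : B ⟶ A) (K K' : Ideal B) (hK : K ≤ IsLocalRing.maximalIdeal B)
    (hK' : K' ≤ IsLocalRing.maximalIdeal B) (h : K ≤ K') (hf : K' ≤ RingHom.ker f.toAlgHom) :
    quotQuot B K K' hK hK' h ≫ quotFactor hK' f hf = quotFactor hK f (h.trans hf) := by
  apply hom_ext
  apply AlgHom.ext
  intro x
  obtain ⟨b, rfl⟩ := Ideal.Quotient.mk_surjective x
  rfl

lemma quotMk_eq_zero_iff (K : Ideal B) (hK : K ≤ IsLocalRing.maximalIdeal B) (b : B) :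
    quotMk B K hK b = 0 ↔ b ∈ K :=
  Ideal.Quotient.eq_zero_iff_mem

lemma mem_ker_quotQuot_iff (K K' : Ideal B) (hK : K ≤ IsLocalRing.maximalIdeal B)
    (hK' : K' ≤ IsLocalRing.maximalIdeal B) (h : K ≤ K') (b : B) :
    quotMk B K hK b ∈ RingHom.ker (quotQuot B K K' hK hK' h).toAlgHom ↔ b ∈ K' := by
  rw [RingHom.mem_ker]
  exact Ideal.Quotient.eq_zero_iff_mem

lemma mem_maximalIdeal_quot_iff (K : Ideal B) (hK : K ≤ IsLocalRing.maximalIdeal B) (b : B) :
    quotMk B K hK b ∈ IsLocalRing.maximalIdeal (quot B K hK) ↔ b ∈ IsLocalRing.maximalIdeal B := by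
  rw [mem_maximalIdeal_iff, mem_maximalIdeal_iff, res_app]

/-- `B/K → B/(K + (x))` is a small extension when `x ∉ K` and `m x ⊆ K`. -/
theorem isSmallExt_quotQuot (K : Ideal B) (hK : K ≤ IsLocalRing.maximalIdeal B) (x : B)
    (hx : x ∈ IsLocalRing.maximalIdeal B) (hxK : x ∉ K)
    (hmx : IsLocalRing.maximalIdeal B * Ideal.span {x} ≤ K) :
    IsSmallExt (quotQuot B K (K ⊔ Ideal.span {x}) hK
      (sup_le hK ((Ideal.span_singleton_le_iff_mem _).2 hx)) le_sup_left) := by
  set π := quotMk B K hK with hπ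
  have hπs : Function.Surjective π := quotMk_surjective B K hK
  have hker : RingHom.ker (quotQuot B K (K ⊔ Ideal.span {x}) hK
      (sup_le hK ((Ideal.span_singleton_le_iff_mem _).2 hx)) le_sup_left).toAlgHom =
      Ideal.span {π x} := by
    apply le_antisymm
    · intro y hy
      obtain ⟨b, rfl⟩ := hπs y
      rw [mem_ker_quotQuot_iff, Submodule.mem_sup] at hy
      obtain ⟨c, hc, d, hd, rfl⟩ := hy
      rw [Ideal.mem_span_singleton'] at hd
      obtain ⟨e, rfl⟩ := hd
      have h1 : π c = 0 := (quotMk_eq_zero_iff B K hK c).2 hc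
      have h2 : π (c + e * x) = π e * π x := by
        rw [show π (c + e * x) = π c + π e * π x from by
          change π.toAlgHom (c + e * x) = _
          rw [map_add, map_mul], h1, zero_add]
      rw [h2]
      exact Ideal.mul_mem_left _ _ (Ideal.subset_span rfl)
    · rw [Ideal.span_singleton_le_iff_mem, mem_ker_quotQuot_iff]
      exact Ideal.mem_sup_right (Ideal.subset_span rfl)
  refine ⟨?_, ?_, ?_, ?_⟩
  · intro y
    obtain ⟨b, rfl⟩ := Ideal.Quotient.mk_surjective y
    exact ⟨Ideal.Quotient.mk K b, rfl⟩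
  · rw [hker]
    intro h
    rw [Ideal.span_singleton_eq_bot] at h
    exact hxK ((quotMk_eq_zero_iff B K hK x).1 h)
  · rw [hker]
    exact ⟨⟨_, rfl⟩⟩
  · rw [hker, eq_bot_iff, Ideal.mul_le]
    intro a ha y hy
    obtain ⟨b, rfl⟩ := hπs a
    rw [mem_maximalIdeal_quot_iff] at ha
    rw [Ideal.mem_span_singleton'] at hy
    obtain ⟨c, rfl⟩ := hy
    obtain ⟨c, rfl⟩ := hπs c
    rw [Ideal.mem_bot]
    have : b * (c * x) ∈ K := hmx (Ideal.mul_mem_mul ha (Ideal.mem_span_singleton'.2 ⟨c, rfl⟩))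
    have h3 : π b * (π c * π x) = π (b * (c * x)) := by
      change _ = π.toAlgHom (b * (c * x))
      rw [map_mul, map_mul]
    rw [h3]
    exact (quotMk_eq_zero_iff B K hK _).2 this

end QuotQuot

/-- between `K < J` there is `x ∈ J \ K` with `m x ⊆ K` -/
lemma exists_socle_elt (B : Art Λ k) (K J : Ideal B) (hKJ : K < J) :
    ∃ x ∈ J, x ∉ K ∧ IsLocalRing.maximalIdeal B * Ideal.span {x} ≤ K := by
  classical
  obtain ⟨N, hN⟩ := exists_maximalIdeal_pow_eq_bot B
  have hex : ∃ n : ℕ, IsLocalRing.maximalIdeal B ^ n * J ≤ K := ⟨N, by rw [hN, Ideal.bot_mul]; exact bot_le⟩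
  set n := Nat.find hex with hn
  have hn1 : IsLocalRing.maximalIdeal B ^ n * J ≤ K := Nat.find_spec hex
  have hn0 : n ≠ 0 := by
    intro h0
    rw [h0, pow_zero, one_mul] at hn1
    exact absurd hn1 (not_le_of_gt hKJ)
  obtain ⟨m, hm⟩ := Nat.exists_eq_succ_of_ne_zero hn0
  have hm' : ¬ IsLocalRing.maximalIdeal B ^ m * J ≤ K := by
    apply Nat.find_min hex
    rw [← hn, hm]
    exact Nat.lt_succ_self m
  obtain ⟨x, hx, hxK⟩ := SetLike.not_le_iff_exists.1 hm'
  refine ⟨x, Ideal.mul_le_right hx, hxK, ?_⟩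
  refine le_trans ?_ hn1
  rw [hm, pow_succ', mul_assoc]
  exact Ideal.mul_mono_right ((Ideal.span_singleton_le_iff_mem _).2 hx)

/-- Every surjection is a composite of small extensions (induction principle). -/
theorem surjective_induction
    (P : ∀ ⦃A B : Art Λ k⦄, (B ⟶ A) → Prop)
    (hiso : ∀ ⦃A B : Art Λ k⦄ (e : B ⟶ A), IsIso e → P e)
    (hsmall : ∀ ⦃A B : Art Λ k⦄ (p : B ⟶ A), IsSmallExt p → P p)
    (hcomp : ∀ ⦃A B C : Art Λ k⦄ (p : C ⟶ B) (q : B ⟶ A), P p → P q → P (p ≫ q))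
    ⦃A B : Art Λ k⦄ (f : B ⟶ A) (hf : Function.Surjective f) : P f := by
  have hkm := ker_le_maximalIdeal f
  have key : ∀ K : Ideal B, ∀ hK : K ≤ RingHom.ker f.toAlgHom, P (quotFactor (hK.trans hkm) f hK) := by
    intro K
    induction K using (inferInstance : WellFoundedGT (Ideal B)).wf.induction with
    | _ K IH =>
    intro hK
    rcases hK.lt_or_eq with hlt | heq
    · obtain ⟨x, hxJ, hxK, hmx⟩ := exists_socle_elt B K _ hlt
      have hxm : x ∈ IsLocalRing.maximalIdeal B := hkm hxJ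
      have hK' : K ⊔ Ideal.span {x} ≤ RingHom.ker f.toAlgHom :=
        sup_le hK ((Ideal.span_singleton_le_iff_mem _).2 hxJ)
      have hlt' : K < K ⊔ Ideal.span {x} := by
        refine lt_of_le_of_ne le_sup_left ?_
        intro h
        apply hxK
        rw [h]
        exact Ideal.mem_sup_right (Ideal.subset_span rfl)
      have h1 := IH (K ⊔ Ideal.span {x}) hlt' hK'
      have h2 := hsmall _ (isSmallExt_quotQuot B K (hK.trans hkm) x hxm hxK hmx)
      have := hcomp _ _ h2 h1
      rwa [quotQuot_quotFactor] at this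
    · apply hiso
      apply isIso_of_bijective
      constructor
      · rw [injective_iff_map_eq_zero]
        intro y hy
        obtain ⟨b, rfl⟩ := Ideal.Quotient.mk_surjective y
        have : b ∈ RingHom.ker f.toAlgHom := hy
        rw [← heq] at this
        exact Ideal.Quotient.eq_zero_iff_mem.2 this
      · intro a
        obtain ⟨b, rfl⟩ := hf a
        exact ⟨Ideal.Quotient.mk K b, rfl⟩
  have h0 := key ⊥ bot_le
  have hmk : P (quotMk B ⊥ bot_le) := by
    apply hiso
    apply isIso_of_bijective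
    constructor
    · rw [injective_iff_map_eq_zero]
      intro b hb
      have : b ∈ (⊥ : Ideal B) := Ideal.Quotient.eq_zero_iff_mem.1 hb
      exact this
    · exact quotMk_surjective B ⊥ bot_le
  have := hcomp _ _ hmk h0
  rwa [quotMk_quotFactor] at this

end Groth.Agent.Lib.Helper1.ArtFunLib
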