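import Mathlib

/-!
# Length over `Λ` versus length over a local `Λ`-algebra with residue field `k`
-/
universe u v

namespace Groth.Agent.Lib.Helper1.ArtFunLib

section Length

variable {Λ : Type u} {k : Type u} [CommRing Λ] [Field k] [Algebra Λ k]
variable (A : Type u) [CommRing A] [Algebra Λ A] [IsLocalRing A] [Algebra A k] [IsScalarTower Λ A k]

/-- a simple `A`-module has the `Λ`-length of `k` -/
lemma length_of_simple (hres : Function.Surjective (algebraMap A k))
    (N : Type v) [AddCommGroup N] [Module A N] [Module Λ N] [IsScalarTower Λ A N] [IsSimpleModule A N] :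
    Module.length Λ N = Module.length Λ k := by
  obtain ⟨I, hI, ⟨e⟩⟩ := isSimpleModule_iff_quot_maximal.1 (inferInstance : IsSimpleModule A N)
  have hIm : I = IsLocalRing.maximalIdeal A := IsLocalRing.eq_maximalIdeal hI
  -- `A ⧸ I ≃ k`
  have hker : RingHom.ker (algebraMap A k) = I := by
    rw [hIm]
    exact (IsLocalRing.eq_maximalIdeal (RingHom.ker_isMaximal_of_surjective _ hres))
  let e₂ : (A ⧸ I) ≃ₗ[A] k :=
    ((Submodule.quotEquivOfEq I (LinearMap.ker (Algebra.linearMap A k)) (by
      rw [← hker]; ext x; simp [RingHom.mem_ker])).trans
      ((Algebra.linearMap A k).quotKerEquivOfSurjective hres))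
  exact ((e.trans e₂).restrictScalars Λ).length_eq

theorem length_eq_mul (hres : Function.Surjective (algebraMap A k)) :
    ∀ (n : ℕ) (M : Type v) [AddCommGroup M] [Module A M] [Module Λ M] [IsScalarTower Λ A M],
      Module.length A M = n → Module.length Λ M = Module.length Λ k * n := by
  intro n
  induction n with
  | zero =>
    intro M _ _ _ _ h
    rw [Nat.cast_zero, Module.length_eq_zero_iff] at h
    rw [Nat.cast_zero, mul_zero, Module.length_eq_zero_iff]
    exact h
  | succ n ih =>
    intro M _ _ _ _ h
    have hfin : IsFiniteLength A M := by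
      rw [← Module.length_ne_top_iff, h]; exact ENat.coe_ne_top _
    obtain ⟨hN, hA⟩ := isFiniteLength_iff_isNoetherian_isArtinian.1 hfin
    have hnt : Nontrivial M := by
      rw [← Module.length_pos_iff (R := A), h]
      exact_mod_cast Nat.succ_pos n
    -- a simple submodule
    obtain ⟨N, hNatom⟩ := (IsAtomic.exists_atom (Submodule A M))
    have hsimple : IsSimpleModule A N := isSimpleModule_iff_isAtom.2 hNatom
    have hex := Module.length_eq_add_of_exact N.subtype N.mkQ N.injective_subtype N.mkQ_surjective
      (LinearMap.exact_subtype_mkQ N)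
    rw [h, Module.length_eq_one] at hex
    have hq : Module.length A (M ⧸ N) = n := by
      have h1 : ((n + 1 : ℕ) : ℕ∞) = 1 + (n : ℕ∞) := by push_cast; ring
      rw [h1] at hex
      have hne : (1 : ℕ∞) ≠ ⊤ := ENat.one_ne_top
      exact (ENat.add_right_injective_of_ne_top hne hex).symm
    have hexΛ := Module.length_eq_add_of_exact (N.subtype.restrictScalars Λ) (N.mkQ.restrictScalars Λ)
      N.injective_subtype N.mkQ_surjective (LinearMap.exact_subtype_mkQ N)
    rw [hexΛ, ih (M ⧸ N) hq, length_of_simple A hres N]
    push_cast
    ring

theorem length_mul_length (hres : Function.Surjective (algebraMap A k))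
    (M : Type v) [AddCommGroup M] [Module A M] [Module Λ M] [IsScalarTower Λ A M] :
    Module.length Λ k * Module.length A M = Module.length Λ M := by
  by_cases htop : Module.length A M = ⊤
  · have h1 : Module.length A M ≤ Module.length Λ M := by
      have := Submodule.length_le_length_restrictScalars Λ (⊤ : Submodule A M)
      rw [Module.length_top] at this
      refine this.trans ?_
      exact Module.length_le_of_injective ((⊤ : Submodule A M).restrictScalars Λ).subtype
        (Submodule.injective_subtype _)
    rw [htop, top_le_iff] at h1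
    rw [htop, h1]
    have hpos : Module.length Λ k ≠ 0 := by
      rw [Ne, Module.length_eq_zero_iff]
      exact not_subsingleton k
    exact ENat.mul_top hpos
  · obtain ⟨n, hn⟩ := ENat.ne_top_iff_exists.1 htop
    rw [← hn, length_eq_mul A hres n M hn.symm]

end Length

end Groth.Agent.Lib.Helper1.ArtFunLib
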