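import Mathlib
import Groth.Prelude.Def_ArtFun3
import Groth.Agent.Lib.Helper1.ArtFunArt
import Groth.Agent.Lib.Helper1.ArtFunLength

/-!
# Existence of fibre products in `Art Λ k`
-/
universe u v
open CategoryTheory

namespace Groth.Agent.Lib.Helper1.ArtFunLib

open ArtFun ArtFun.Art

variable {Λ : Type u} {k : Type u} [CommRing Λ] [Field k] [Algebra Λ k]

/-- `k` is an Artinian `Λ`-module when `Λ → k` is finite. -/
theorem isArtinian_base [Module.Finite Λ k] : IsArtinian Λ k := by
  let K₀ := Λ ⧸ RingHom.ker (algebraMap Λ k)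
  letI : Algebra K₀ k := (RingHom.kerLift (algebraMap Λ k)).toAlgebra
  haveI : IsScalarTower Λ K₀ k := IsScalarTower.of_algebraMap_eq (fun x => rfl)
  haveI : Module.Finite K₀ k := Module.Finite.of_restrictScalars_finite Λ K₀ k
  have hinj : Function.Injective (algebraMap K₀ k) := RingHom.kerLift_injective (algebraMap Λ k)
  have hfield : IsField K₀ := isField_of_isIntegral_of_isField hinj (Field.toIsField k)
  letI := hfield.toField
  haveI : IsArtinian K₀ k := inferInstance
  exact isArtinian_of_surjective_algebraMap (S := Λ) (R := K₀) Ideal.Quotient.mk_surjective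

/-- objects have finite length over `Λ` -/
theorem isFiniteLength_obj [IsNoetherianRing Λ] [Module.Finite Λ k] (A : Art Λ k) : IsFiniteLength Λ A := by
  letI : Algebra A k := A.res.toRingHom.toAlgebra
  haveI : IsScalarTower Λ A k := IsScalarTower.of_algebraMap_eq (fun x => (A.res.commutes x).symm)
  have hlen := length_mul_length (Λ := Λ) (k := k) A A.res_surjective A
  have h1 : Module.length A A ≠ ⊤ := Module.length_ne_top
  have h2 : Module.length Λ k ≠ ⊤ := by
    haveI := isArtinian_base (Λ := Λ) (k := k)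
    haveI : IsNoetherian Λ k := isNoetherian_of_isNoetherianRing_of_finite Λ k
    exact Module.length_ne_top
  rw [← Module.length_ne_top_iff, ← hlen]
  exact WithTop.mul_ne_top h2 h1

theorem isArtinian_obj [IsNoetherianRing Λ] [Module.Finite Λ k] (A : Art Λ k) : IsArtinian Λ A :=
  (isFiniteLength_iff_isNoetherian_isArtinian.1 (isFiniteLength_obj A)).2

section Pullback

variable {A A₁ A₂ : Art Λ k} (f₁ : A₁ ⟶ A) (f₂ : A₂ ⟶ A)

/-- the pullback subalgebra is an Artinian ring -/
theorem isArtinianRing_pullback [IsNoetherianRing Λ] [Module.Finite Λ k] :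
    IsArtinianRing (f₁.toAlgHom.pullback f₂.toAlgHom) := by
  haveI := isArtinian_obj A₁
  haveI := isArtinian_obj A₂
  haveI : IsArtinian Λ (A₁ × A₂) := inferInstance
  have h : IsArtinian Λ (f₁.toAlgHom.pullback f₂.toAlgHom) :=
    isArtinian_of_injective (Subalgebra.val _).toLinearMap Subtype.val_injective
  exact isArtinian_of_tower Λ h

/-- The fibre product exists as soon as the projection to `A₁` followed by the augmentation is surjective. -/
theorem exists_isFibreProd_of_res_surjective [IsNoetherianRing Λ] [Module.Finite Λ k]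
    (hs : Function.Surjective (A₁.res.comp (f₁.toAlgHom.pullbackFst f₂.toAlgHom))) :
    ∃ (B : Art Λ k) (p₁ : B ⟶ A₁) (p₂ : B ⟶ A₂), IsFibreProd p₁ p₂ f₁ f₂ := by
  haveI : IsLocalHom f₂.toAlgHom := isLocalHom f₂
  haveI : IsLocalRing (f₁.toAlgHom.pullback f₂.toAlgHom) := AlgHom.isLocalRing_pullback _ _
  haveI : IsArtinianRing (f₁.toAlgHom.pullback f₂.toAlgHom) := isArtinianRing_pullback f₁ f₂
  let B : Art Λ k :=
    { carrier := f₁.toAlgHom.pullback f₂.toAlgHom
      res := A₁.res.comp (f₁.toAlgHom.pullbackFst f₂.toAlgHom)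
      res_surjective := hs }
  have hres2 : A₂.res.comp (f₁.toAlgHom.pullbackSnd f₂.toAlgHom) = B.res := by
    apply AlgHom.ext
    intro x
    change A₂.res x.1.2 = A₁.res x.1.1
    rw [← res_app f₂, ← res_app f₁]
    exact congrArg A.res x.2.symm
  refine ⟨B, ⟨f₁.toAlgHom.pullbackFst f₂.toAlgHom, rfl⟩, ⟨f₁.toAlgHom.pullbackSnd f₂.toAlgHom, hres2⟩, ?_, ?_, ?_⟩
  · apply hom_ext
    exact AlgHom.pullback_comm_sq f₁.toAlgHom f₂.toAlgHom
  · intro b₁ b₂ h1 h2
    exact Subtype.ext (Prod.ext h1 h2)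
  · intro a₁ a₂ h
    exact ⟨⟨(a₁, a₂), h⟩, rfl, rfl⟩

/-- Fibre products exist when one of the maps is surjective. -/
theorem exists_isFibreProd_of_surjective [IsNoetherianRing Λ] [Module.Finite Λ k]
    (hf₂ : Function.Surjective f₂) :
    ∃ (B : Art Λ k) (p₁ : B ⟶ A₁) (p₂ : B ⟶ A₂), IsFibreProd p₁ p₂ f₁ f₂ := by
  apply exists_isFibreProd_of_res_surjective
  intro c
  obtain ⟨a₁, rfl⟩ := A₁.res_surjective c
  obtain ⟨x, hx⟩ := AlgHom.surjective_pullbackFst_of_surjective f₁.toAlgHom f₂.toAlgHom hf₂ a₁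
  exact ⟨x, congrArg A₁.res hx⟩

end Pullback

end Groth.Agent.Lib.Helper1.ArtFunLib
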