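import Mathlib
import Groth.Prelude.Def_ArtFun2
import Groth.Agent.Lib.Helper1.ArtFunBasic

/-!
# Functors of Artin rings: calculus of smooth morphisms
-/
universe u v
open CategoryTheory

namespace Groth.Agent.Lib.Helper1.ArtFunLib

open ArtFun ArtFun.Art

variable {Λ : Type u} {k : Type u} [CommRing Λ] [Field k] [Algebra Λ k]

variable {F G H : Art Λ k ⥤ Type v}

/-- unfolded form of smoothness -/
lemma isSmooth_iff (η : F ⟶ G) : IsSmooth η ↔ ∀ ⦃B A : Art Λ k⦄ (μ : B ⟶ A), Function.Surjective μ →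
    ∀ (x : F.obj A) (y : G.obj B), η.app A x = G.map μ y → ∃ z : F.obj B, F.map μ z = x ∧ η.app B z = y := by
  constructor
  · intro h B A μ hμ x y e
    obtain ⟨z, hz⟩ := h μ hμ ⟨(x, y), e⟩
    exact ⟨z, congrArg (fun t => t.1.1) hz, congrArg (fun t => t.1.2) hz⟩
  · intro h B A μ hμ ⟨⟨x, y⟩, e⟩
    obtain ⟨z, h1, h2⟩ := h μ hμ x y e
    exact ⟨z, Subtype.ext (Prod.ext h1 h2)⟩

lemma nat_apply (η : F ⟶ G) {A B : Art Λ k} (f : A ⟶ B) (x : F.obj A) :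
    η.app B (F.map f x) = G.map f (η.app A x) := NatTrans.naturality_apply η f x

lemma comp_app_apply (φ : F ⟶ G) (ψ : G ⟶ H) (A : Art Λ k) (x : F.obj A) :
    (φ ≫ ψ).app A x = ψ.app A (φ.app A x) := rfl

theorem isSmooth_comp (φ : F ⟶ G) (ψ : G ⟶ H) (hφ : IsSmooth φ) (hψ : IsSmooth ψ) : IsSmooth (φ ≫ ψ) := by
  rw [isSmooth_iff] at hφ hψ ⊢
  intro B A μ hμ x z e
  obtain ⟨y, hy1, hy2⟩ := hψ μ hμ (φ.app A x) z e
  obtain ⟨w, hw1, hw2⟩ := hφ μ hμ x y hy1.symm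
  exact ⟨w, hw1, by rw [comp_app_apply, hw2, hy2]⟩

theorem isSmooth_of_comp_of_surjective (φ : F ⟶ G) (ψ : G ⟶ H)
    (hφ : ∀ A : Art Λ k, Function.Surjective (φ.app A)) (h : IsSmooth (φ ≫ ψ)) : IsSmooth ψ := by
  rw [isSmooth_iff] at h ⊢
  intro B A μ hμ y z e
  obtain ⟨x, rfl⟩ := hφ A y
  obtain ⟨w, hw1, hw2⟩ := h μ hμ x z e
  exact ⟨φ.app B w, by rw [← nat_apply, hw1], hw2⟩

theorem surjective_app_of_isSmooth (η : F ⟶ G) (hη : IsSmooth η)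
    (h0 : Function.Surjective (η.app (base Λ k))) (A : Art Λ k) : Function.Surjective (η.app A) := by
  rw [isSmooth_iff] at hη
  intro y
  obtain ⟨x₀, hx₀⟩ := h0 (G.map (toBase A) y)
  obtain ⟨z, -, hz⟩ := hη (toBase A) A.res_surjective x₀ y hx₀
  exact ⟨z, hz⟩

end Groth.Agent.Lib.Helper1.ArtFunLib
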