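import Mathlib
import Groth.Prelude.Def_ArtFun3
import Groth.Agent.Lib.Helper1.ArtFunArt
import Groth.Agent.Lib.Helper1.ArtFunSmooth

/-!
# Reduction of conditions on functors of Artin rings to small extensions
-/
universe u v
open CategoryTheory

namespace Groth.Agent.Lib.Helper1.ArtFunLib

open ArtFun ArtFun.Art

variable {Λ : Type u} {k : Type u} [CommRing Λ] [Field k] [Algebra Λ k]

section Smooth

variable {F G : Art Λ k ⥤ Type v}

lemma surjective_relCmp_iff (η : F ⟶ G) {B A : Art Λ k} (μ : B ⟶ A) :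
    Function.Surjective (relCmp η μ) ↔
      ∀ (x : F.obj A) (y : G.obj B), η.app A x = G.map μ y → ∃ z : F.obj B, F.map μ z = x ∧ η.app B z = y := by
  constructor
  · intro h x y e
    obtain ⟨z, hz⟩ := h ⟨(x, y), e⟩
    exact ⟨z, congrArg (fun t => t.1.1) hz, congrArg (fun t => t.1.2) hz⟩
  · intro h ⟨⟨x, y⟩, e⟩
    obtain ⟨z, h1, h2⟩ := h x y e
    exact ⟨z, Subtype.ext (Prod.ext h1 h2)⟩

lemma map_inv_map (F : Art Λ k ⥤ Type v) {A B : Art Λ k} (e : B ⟶ A) [IsIso e] (x : F.obj B) :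
    F.map (inv e) (F.map e x) = x := by
  rw [← F.map_comp_apply, IsIso.hom_inv_id, F.map_id_apply]

lemma map_map_inv (F : Art Λ k ⥤ Type v) {A B : Art Λ k} (e : B ⟶ A) [IsIso e] (x : F.obj A) :
    F.map e (F.map (inv e) x) = x := by
  rw [← F.map_comp_apply, IsIso.inv_hom_id, F.map_id_apply]

/-- smoothness can be checked on small extensions -/
theorem isSmooth_of_smallExt (η : F ⟶ G)
    (h : ∀ ⦃B A : Art Λ k⦄ (μ : B ⟶ A), IsSmallExt μ → Function.Surjective (relCmp η μ)) :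
    IsSmooth η := by
  intro B A μ hμ
  refine surjective_induction (fun A B μ => Function.Surjective (relCmp η μ)) ?_ ?_ ?_ μ hμ
  · intro A B e he
    rw [surjective_relCmp_iff]
    intro x y hxy
    refine ⟨F.map (inv e) x, map_map_inv F e x, ?_⟩
    rw [nat_apply, hxy, map_inv_map]
  · intro A B p hp
    exact h p hp
  · intro A B C p q hp hq
    rw [surjective_relCmp_iff] at hp hq ⊢
    intro x y hxy
    rw [G.map_comp_apply] at hxy
    obtain ⟨z₁, hz1, hz2⟩ := hq x (G.map p y) hxy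
    obtain ⟨z, hz3, hz4⟩ := hp z₁ y hz2
    exact ⟨z, by rw [F.map_comp_apply, hz3, hz1], hz4⟩

end Smooth

section Paste

variable {B A A' C B₀ : Art Λ k} {p' : B ⟶ A'} {p'' : B ⟶ C} {f' : A' ⟶ A}
  {p : C ⟶ B₀} {q : B₀ ⟶ A}

/-- Intermediate fibre product: if `B = A' ×_A C` and `C → A` factors as `C → B₀ → A` with `C → B₀`
surjective, then `B₁ = A' ×_A B₀` exists and `B = B₁ ×_{B₀} C`. -/
theorem exists_intermediate_fibreProd (h : IsFibreProd p' p'' f' (p ≫ q)) (hp : Function.Surjective p) :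
    ∃ (B₁ : Art Λ k) (s : B ⟶ B₁) (r' : B₁ ⟶ A') (r'' : B₁ ⟶ B₀),
      s ≫ r' = p' ∧ IsFibreProd r' r'' f' q ∧ IsFibreProd s p'' r'' p := by
  set K : Ideal B := RingHom.ker p'.toAlgHom ⊓ RingHom.ker (p'' ≫ p).toAlgHom with hK
  have hKm : K ≤ IsLocalRing.maximalIdeal B := inf_le_left.trans (ker_le_maximalIdeal p')
  have hK1 : K ≤ RingHom.ker p'.toAlgHom := inf_le_left
  have hK2 : K ≤ RingHom.ker (p'' ≫ p).toAlgHom := inf_le_right
  have hs : Function.Surjective (quotMk B K hKm) := quotMk_surjective B K hKm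
  have hr' : ∀ b, quotFactor hKm p' hK1 (quotMk B K hKm b) = p' b := fun b => rfl
  have hr'' : ∀ b, quotFactor hKm (p'' ≫ p) hK2 (quotMk B K hKm b) = p (p'' b) := fun b => rfl
  have hmemK : ∀ b : B, b ∈ K ↔ p' b = 0 ∧ p (p'' b) = 0 := by
    intro b
    rw [hK, Ideal.mem_inf, RingHom.mem_ker, RingHom.mem_ker]
    rfl
  have hsub : ∀ (f : B ⟶ A') (b₁ b₂ : B), f (b₁ - b₂) = f b₁ - f b₂ := fun f b₁ b₂ => map_sub f.toAlgHom b₁ b₂
  have hsub'' : ∀ (b₁ b₂ : B), p'' (b₁ - b₂) = p'' b₁ - p'' b₂ := fun b₁ b₂ => map_sub p''.toAlgHom b₁ b₂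
  have hsubp : ∀ (c₁ c₂ : C), p (c₁ - c₂) = p c₁ - p c₂ := fun c₁ c₂ => map_sub p.toAlgHom c₁ c₂
  have hseq : ∀ b₁ b₂ : B, quotMk B K hKm b₁ = quotMk B K hKm b₂ ↔ b₁ - b₂ ∈ K := by
    intro b₁ b₂
    rw [← quotMk_eq_zero_iff B K hKm, show quotMk B K hKm (b₁ - b₂) = quotMk B K hKm b₁ - quotMk B K hKm b₂
      from map_sub (quotMk B K hKm).toAlgHom b₁ b₂, sub_eq_zero]
  refine ⟨quot B K hKm, quotMk B K hKm, quotFactor hKm p' hK1, quotFactor hKm (p'' ≫ p) hK2,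
    quotMk_quotFactor hKm p' hK1, ⟨?_, ?_, ?_⟩, ⟨?_, ?_, ?_⟩⟩
  · apply hom_ext
    apply AlgHom.ext
    intro y
    obtain ⟨b, rfl⟩ := hs y
    change f' (p' b) = q (p (p'' b))
    exact h.w_apply b
  · intro y₁ y₂ e1 e2
    obtain ⟨b₁, rfl⟩ := hs y₁
    obtain ⟨b₂, rfl⟩ := hs y₂
    rw [hr', hr'] at e1
    rw [hr'', hr''] at e2
    rw [hseq, hmemK, hsub, hsub'', hsubp, e1, e2, sub_self, sub_self]
    exact ⟨rfl, rfl⟩
  · intro a' a₀ e
    obtain ⟨c, rfl⟩ := hp a₀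
    obtain ⟨b, hb1, hb2⟩ := h.surj a' c e
    refine ⟨quotMk B K hKm b, ?_, ?_⟩
    · rw [hr', hb1]
    · rw [hr'', hb2]
  · exact quotMk_quotFactor hKm (p'' ≫ p) hK2
  · intro b₁ b₂ e1 e2
    rw [hseq, hmemK, hsub] at e1
    apply h.inj b₁ b₂ (sub_eq_zero.1 e1.1) e2
  · intro y c e
    obtain ⟨b₀, rfl⟩ := hs y
    rw [hr''] at e
    have hcompat : f' (p' b₀) = (p ≫ q) c := by
      rw [h.w_apply b₀]
      change q (p (p'' b₀)) = q (p c)
      rw [e]
    obtain ⟨b, hb1, hb2⟩ := h.surj (p' b₀) c hcompat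
    refine ⟨b, ?_, hb2⟩
    rw [hseq, hmemK, hsub, hsub'', hsubp, hb1, hb2, e, sub_self, sub_self]
    exact ⟨rfl, rfl⟩

end Paste

section Conditions

variable (F : Art Λ k ⥤ Type v)

lemma cmp_surjective_iff {B A A' A'' : Art Λ k} {p' : B ⟶ A'} {p'' : B ⟶ A''} {f' : A' ⟶ A} {f'' : A'' ⟶ A}
    (h : IsFibreProd p' p'' f' f'') :
    Function.Surjective (cmp F h) ↔ ∀ (x' : F.obj A') (x'' : F.obj A''), F.map f' x' = F.map f'' x'' →
      ∃ z : F.obj B, F.map p' z = x' ∧ F.map p'' z = x'' := by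
  constructor
  · intro hs x' x'' e
    obtain ⟨z, hz⟩ := hs ⟨(x', x''), e⟩
    exact ⟨z, congrArg (fun t => t.1.1) hz, congrArg (fun t => t.1.2) hz⟩
  · intro hs ⟨⟨x', x''⟩, e⟩
    obtain ⟨z, h1, h2⟩ := hs x' x'' e
    exact ⟨z, FibProd.ext h1 h2⟩

lemma cmp_injective_iff {B A A' A'' : Art Λ k} {p' : B ⟶ A'} {p'' : B ⟶ A''} {f' : A' ⟶ A} {f'' : A'' ⟶ A}
    (h : IsFibreProd p' p'' f' f'') :
    Function.Injective (cmp F h) ↔ ∀ (z z' : F.obj B), F.map p' z = F.map p' z' → F.map p'' z = F.map p'' z' →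
      z = z' := by
  constructor
  · intro hi z z' e1 e2
    exact hi (FibProd.ext e1 e2)
  · intro hi z z' e
    exact hi z z' (congrArg (fun t => t.1.1) e) (congrArg (fun t => t.1.2) e)

/-- in a fibre product square, `p'` is an isomorphism if `f''` is -/
lemma isIso_fst_of_isFibreProd {B A A' A'' : Art Λ k} {p' : B ⟶ A'} {p'' : B ⟶ A''} {f' : A' ⟶ A} {f'' : A'' ⟶ A}
    (h : IsFibreProd p' p'' f' f'') (hf : IsIso f'') : IsIso p' := by
  have hb := bijective_of_isIso f''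
  apply isIso_of_bijective
  refine ⟨?_, surjective_fst_of_isFibreProd h hb.2⟩
  intro b₁ b₂ e
  apply h.inj b₁ b₂ e
  apply hb.1
  rw [← h.w_apply, ← h.w_apply, e]

/-- the property of `f''` used in the inductions -/
def SurjFor (A'' A : Art Λ k) (f'' : A'' ⟶ A) : Prop :=
  ∀ ⦃B A' : Art Λ k⦄ (p' : B ⟶ A') (p'' : B ⟶ A'') (f' : A' ⟶ A) (h : IsFibreProd p' p'' f' f''),
    Function.Surjective (cmp F h)

/-- the property of `f''` used in the inductions -/
def BijFor (A'' A : Art Λ k) (f'' : A'' ⟶ A) : Prop :=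
  ∀ ⦃B A' : Art Λ k⦄ (p' : B ⟶ A') (p'' : B ⟶ A'') (f' : A' ⟶ A) (h : IsFibreProd p' p'' f' f''),
    Function.Bijective (cmp F h)

lemma surjFor_of_isIso {A'' A : Art Λ k} (f'' : A'' ⟶ A) (hf : IsIso f'') : SurjFor F A'' A f'' := by
  intro B A' p' p'' f' h
  have := isIso_fst_of_isFibreProd h hf
  rw [cmp_surjective_iff]
  intro x' x'' e
  refine ⟨F.map (inv p') x', map_map_inv F p' x', ?_⟩
  have e1 : F.map f'' (F.map p'' (F.map (inv p') x')) = F.map f'' x'' := by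
    rw [← F.map_comp_apply p'' f'', ← h.w, F.map_comp_apply, map_map_inv, e]
  have := congrArg (F.map (inv f'')) e1
  rwa [map_inv_map, map_inv_map] at this

lemma injFor_of_isIso {A'' A : Art Λ k} (f'' : A'' ⟶ A) (hf : IsIso f'')
    ⦃B A' : Art Λ k⦄ (p' : B ⟶ A') (p'' : B ⟶ A'') (f' : A' ⟶ A) (h : IsFibreProd p' p'' f' f'') :
    Function.Injective (cmp F h) := by
  have := isIso_fst_of_isFibreProd h hf
  rw [cmp_injective_iff]
  intro z z' e1 _
  have := congrArg (F.map (inv p')) e1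
  rwa [map_inv_map, map_inv_map] at this

lemma surjFor_comp {A C B₀ : Art Λ k} (p : C ⟶ B₀) (q : B₀ ⟶ A) (hp : Function.Surjective p)
    (h1 : SurjFor F C B₀ p) (h2 : SurjFor F B₀ A q) : SurjFor F C A (p ≫ q) := by
  intro B A' p' p'' f' h
  obtain ⟨B₁, s, r', r'', hsr, hsq1, hsq2⟩ := exists_intermediate_fibreProd h hp
  have hs1 := h2 r' r'' f' hsq1
  have hs2 := h1 s p'' r'' hsq2
  rw [cmp_surjective_iff] at hs1 hs2 ⊢
  intro x' x'' e
  rw [F.map_comp_apply] at e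
  obtain ⟨z₁, hz1, hz2⟩ := hs1 x' (F.map p x'') e
  obtain ⟨z, hz3, hz4⟩ := hs2 z₁ x'' hz2
  refine ⟨z, ?_, hz4⟩
  rw [← hsr, F.map_comp_apply, hz3, hz1]

lemma bijFor_comp {A C B₀ : Art Λ k} (p : C ⟶ B₀) (q : B₀ ⟶ A) (hp : Function.Surjective p)
    (h1 : BijFor F C B₀ p) (h2 : BijFor F B₀ A q) : BijFor F C A (p ≫ q) := by
  intro B A' p' p'' f' h
  refine ⟨?_, surjFor_comp F p q hp (fun _ _ p' p'' f' h => (h1 p' p'' f' h).2)
    (fun _ _ p' p'' f' h => (h2 p' p'' f' h).2) p' p'' f' h⟩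
  obtain ⟨B₁, s, r', r'', hsr, hsq1, hsq2⟩ := exists_intermediate_fibreProd h hp
  have hi1 := (h2 r' r'' f' hsq1).1
  have hi2 := (h1 s p'' r'' hsq2).1
  rw [cmp_injective_iff] at hi1 hi2 ⊢
  intro z z' e1 e2
  apply hi2 z z' _ e2
  apply hi1
  · rw [← F.map_comp_apply, ← F.map_comp_apply, hsr, e1]
  · rw [← F.map_comp_apply, ← F.map_comp_apply, hsq2.w, F.map_comp_apply, F.map_comp_apply, e2]

/-- (S1) ⇔ (H̄). -/
theorem s1_iff_hbar : S1 F ↔ Hbar F := by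
  constructor
  · intro h B A A' A'' p' p'' f' f'' hsq hf
    exact h p' p'' f' f'' hsq hf.1
  · intro h B A A' A'' p' p'' f' f'' hsq hf
    have key : Function.Surjective f'' ∧ SurjFor F A'' A f'' := by
      refine surjective_induction
        (fun A A'' f'' => Function.Surjective f'' ∧ SurjFor F A'' A f'') ?_ ?_ ?_ f'' hf
      · intro A B e he
        exact ⟨(bijective_of_isIso e).2, surjFor_of_isIso F e he⟩
      · intro A B p hp
        exact ⟨hp.1, fun B' A' p' p'' f' hsq' => h p' p'' f' p hsq' hp⟩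
      · intro A B C p q hp hq
        exact ⟨fun a => by
          obtain ⟨b, rfl⟩ := hq.1 a
          obtain ⟨c, rfl⟩ := hp.1 b
          exact ⟨c, rfl⟩, surjFor_comp F p q hp.1 hp.2 hq.2⟩
    exact key.2 p' p'' f' hsq

/-- (RS) follows from (RS) for small extensions. -/
theorem rs_of_rs_smallExt
    (h : ∀ ⦃B A A' A'' : Art Λ k⦄ (p' : B ⟶ A') (p'' : B ⟶ A'') (f' : A' ⟶ A) (f'' : A'' ⟶ A)
        (h : IsFibreProd p' p'' f' f''), IsSmallExt f'' → Function.Bijective (cmp F h)) :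
    ∀ ⦃B A A' A'' : Art Λ k⦄ (p' : B ⟶ A') (p'' : B ⟶ A'') (f' : A' ⟶ A) (f'' : A'' ⟶ A)
        (h : IsFibreProd p' p'' f' f''), Function.Surjective f'' → Function.Bijective (cmp F h) := by
  intro B A A' A'' p' p'' f' f'' hsq hf
  have key : Function.Surjective f'' ∧ BijFor F A'' A f'' := by
    refine surjective_induction
      (fun A A'' f'' => Function.Surjective f'' ∧ BijFor F A'' A f'') ?_ ?_ ?_ f'' hf
    · intro A B e he
      exact ⟨(bijective_of_isIso e).2, fun B' A' p' p'' f' hsq' =>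
        ⟨injFor_of_isIso F e he p' p'' f' hsq', surjFor_of_isIso F e he p' p'' f' hsq'⟩⟩
    · intro A B p hp
      exact ⟨hp.1, fun B' A' p' p'' f' hsq' => h p' p'' f' p hsq' hp⟩
    · intro A B C p q hp hq
      exact ⟨fun a => by
        obtain ⟨b, rfl⟩ := hq.1 a
        obtain ⟨c, rfl⟩ := hp.1 b
        exact ⟨c, rfl⟩, bijFor_comp F p q hp.1 hp.2 hq.2⟩
  exact key.2 p' p'' f' hsq

end Conditions

end Groth.Agent.Lib.Helper1.ArtFunLib
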