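import Mathlib
import Groth.Prelude.Def_ArtFun2
import Groth.Agent.Lib.Helper1.ArtFunSmooth

/-!
# Functors of Artin rings: the objects `k ⊕ V`, the tangent space and its vector space structure
-/
universe u v
open CategoryTheory

namespace Groth.Agent.Lib.Helper1.ArtFunLib

open ArtFun ArtFun.Art

variable {Λ : Type u} {k : Type u} [CommRing Λ] [Field k] [Algebra Λ k]

section Tsze

section Obj
variable (Λ k)
variable (V : Type u) [AddCommGroup V] [Module k V] [Module kᵐᵒᵖ V] [SMulCommClass k kᵐᵒᵖ V]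
  [IsCentralScalar k V] [Module.Finite k V] [Module Λ V] [IsScalarTower Λ k V] [IsScalarTower Λ kᵐᵒᵖ V]

/-- `k ⊕ V` as an object -/
def tszeObj : Art Λ k :=
  { carrier := TrivSqZeroExt k V
    isLocalRing := isLocalRing_tsze k V
    isArtinianRing := isArtinianRing_tsze k V
    res := TrivSqZeroExt.fstHom Λ k V
    res_surjective := fun a => ⟨TrivSqZeroExt.inl a, rfl⟩ }

lemma dual_eq_tszeObj : dual Λ k = tszeObj Λ k k := rfl
lemma dual2_eq_tszeObj : dual2 Λ k = tszeObj Λ k (k × k) := rfl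

/-- the inclusion `k → k ⊕ V` -/
def baseToTsze : base Λ k ⟶ tszeObj Λ k V :=
  ⟨(Algebra.ofId k (TrivSqZeroExt k V)).restrictScalars Λ, AlgHom.ext fun _ => rfl⟩

end Obj

variable {V W U : Type u}
  [AddCommGroup V] [Module k V] [Module kᵐᵒᵖ V] [SMulCommClass k kᵐᵒᵖ V]
  [IsCentralScalar k V] [Module.Finite k V] [Module Λ V] [IsScalarTower Λ k V] [IsScalarTower Λ kᵐᵒᵖ V]
  [AddCommGroup W] [Module k W] [Module kᵐᵒᵖ W] [SMulCommClass k kᵐᵒᵖ W]
  [IsCentralScalar k W] [Module.Finite k W] [Module Λ W] [IsScalarTower Λ k W] [IsScalarTower Λ kᵐᵒᵖ W]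
  [AddCommGroup U] [Module k U] [Module kᵐᵒᵖ U] [SMulCommClass k kᵐᵒᵖ U]
  [IsCentralScalar k U] [Module.Finite k U] [Module Λ U] [IsScalarTower Λ k U] [IsScalarTower Λ kᵐᵒᵖ U]

/-- the morphism `k ⊕ V → k ⊕ W` induced by a linear map -/
def tszeHom (f : V →ₗ[k] W) : tszeObj Λ k V ⟶ tszeObj Λ k W := ⟨tszeMap f, AlgHom.ext fun _ => rfl⟩

lemma tszeHom_apply (f : V →ₗ[k] W) (x : TrivSqZeroExt k V) :
    (tszeHom (Λ := Λ) f) x = (x.fst, f x.snd) := rfl

lemma tszeHom_comp (f : V →ₗ[k] W) (g : W →ₗ[k] U) :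
    tszeHom (Λ := Λ) f ≫ tszeHom g = tszeHom (g ∘ₗ f) :=
  hom_ext (AlgHom.ext fun _ => rfl)

lemma tszeHom_id : tszeHom (Λ := Λ) (LinearMap.id : V →ₗ[k] V) = 𝟙 _ :=
  hom_ext (AlgHom.ext fun _ => rfl)

lemma tszeHom_zero : tszeHom (Λ := Λ) (0 : V →ₗ[k] W) = toBase _ ≫ baseToTsze Λ k W := by
  apply hom_ext
  apply AlgHom.ext
  intro x
  change ((x.fst, (0 : W)) : TrivSqZeroExt k W) = algebraMap k (TrivSqZeroExt k W) x.fst
  rw [TrivSqZeroExt.algebraMap_eq_inl]
  rfl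

lemma pr₁_eq : (pr₁ : dual2 Λ k ⟶ dual Λ k) = tszeHom (LinearMap.fst k k k) := rfl
lemma pr₂_eq : (pr₂ : dual2 Λ k ⟶ dual Λ k) = tszeHom (LinearMap.snd k k k) := rfl
lemma plus_eq : (plus : dual2 Λ k ⟶ dual Λ k) = tszeHom (LinearMap.fst k k k + LinearMap.snd k k k) := rfl
lemma scale_eq (c : k) : (scale c : dual Λ k ⟶ dual Λ k) = tszeHom (c • LinearMap.id) := rfl
lemma baseToDual_eq : (baseToDual : base Λ k ⟶ dual Λ k) = baseToTsze Λ k k := rfl

/-- `k ⊕ (V × W)` is the fibre product of `k ⊕ V` and `k ⊕ W` over `k`. -/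
theorem isFibreProd_tsze :
    IsFibreProd (tszeHom (Λ := Λ) (LinearMap.fst k V W)) (tszeHom (LinearMap.snd k V W))
      (toBase _) (toBase _) where
  w := by rw [eq_toBase (tszeHom _ ≫ toBase _), eq_toBase (tszeHom _ ≫ toBase _)]
  inj b₁ b₂ h₁ h₂ := by
    have e₁ : b₁.fst = b₂.fst := by have e := congrArg TrivSqZeroExt.fst h₁; exact e
    have e₂ : b₁.snd.1 = b₂.snd.1 := by have e := congrArg TrivSqZeroExt.snd h₁; exact e
    have e₃ : b₁.snd.2 = b₂.snd.2 := by have e := congrArg TrivSqZeroExt.snd h₂; exact e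
    exact TrivSqZeroExt.ext e₁ (Prod.ext e₂ e₃)
  surj a' a'' h := by
    have h' : a'.fst = a''.fst := h
    exact ⟨(a'.fst, (a'.snd, a''.snd)), TrivSqZeroExt.ext rfl rfl, TrivSqZeroExt.ext h' rfl⟩

end Tsze

section TangentStr

variable {F : Art Λ k ⥤ Type v}

/-- under H0 and Heps, any two tangent vectors come from an element of `F(k[ε₁,ε₂])` -/
lemma exists_dual2_of_heps (h0 : H0 F) (h2 : Heps F) (x y : F.obj (dual Λ k)) :
    ∃ z : F.obj (dual2 Λ k), F.map pr₁ z = x ∧ F.map pr₂ z = y := by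
  have hb := h2 (pr₁ : dual2 Λ k ⟶ _) pr₂ isFibreProd_dual2
  have hsub := h0.2
  obtain ⟨z, hz⟩ := hb.2 ⟨(x, y), Subsingleton.elim _ _⟩
  exact ⟨z, congrArg (fun t => t.1.1) hz, congrArg (fun t => t.1.2) hz⟩

lemma eq_of_dual2_of_heps (h2 : Heps F) (z z' : F.obj (dual2 Λ k))
    (h₁ : F.map pr₁ z = F.map pr₁ z') (h₂ : F.map pr₂ z = F.map pr₂ z') : z = z' := by
  have hb := h2 (pr₁ : dual2 Λ k ⟶ _) pr₂ isFibreProd_dual2
  exact hb.1 (FibProd.ext h₁ h₂)

theorem tangentMap_add {G : Art Λ k ⥤ Type v} [TF : TangentStr F] [TG : TangentStr G]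
    (hF0 : H0 F) (hF2 : Heps F) (φ : F ⟶ G) (x y : TangentSpace F) :
    TangentSpace.map φ (x + y) = TangentSpace.map φ x + TangentSpace.map φ y := by
  obtain ⟨z, hz1, hz2⟩ := exists_dual2_of_heps hF0 hF2 x y
  have e1 : x + y = F.map plus z := by
    rw [← hz1, ← hz2]
    exact TF.add_eq z
  have e2 : TangentSpace.map φ x + TangentSpace.map φ y = G.map plus (φ.app _ z) := by
    have := TG.add_eq (φ.app _ z)
    rw [← nat_apply, ← nat_apply, hz1, hz2] at this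
    exact this
  rw [e2, e1]
  exact nat_apply φ plus z

theorem tangentMap_smul {G : Art Λ k ⥤ Type v} [TF : TangentStr F] [TG : TangentStr G]
    (φ : F ⟶ G) (c : k) (x : TangentSpace F) :
    TangentSpace.map φ (c • x) = c • TangentSpace.map φ x := by
  have e1 : c • x = F.map (scale c) x := TF.smul_eq c x
  have e2 : c • TangentSpace.map φ x = G.map (scale c) (φ.app _ x) := TG.smul_eq c _
  rw [e1, e2]
  exact nat_apply φ (scale c) x

/-- the differential as a linear map -/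
def tangentLinearMap {G : Art Λ k ⥤ Type v} [TangentStr F] [TangentStr G]
    (hF0 : H0 F) (hF2 : Heps F) (φ : F ⟶ G) : TangentSpace F →ₗ[k] TangentSpace G where
  toFun := TangentSpace.map φ
  map_add' := tangentMap_add hF0 hF2 φ
  map_smul' := tangentMap_smul φ

end TangentStr

end Groth.Agent.Lib.Helper1.ArtFunLib
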