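import Mathlib
import Groth.Prelude.Def_ArtFun3
import Groth.Agent.Lib.Helper1.ArtFunInduct
import Groth.Agent.Lib.Helper1.ArtFunTangent

/-!
# Small extensions: `A' ×_A A' ≅ A' ×_k k[ε]` and the action of the tangent space on fibres
-/
universe u v
open CategoryTheory

namespace Groth.Agent.Lib.Helper1.ArtFunLib

open ArtFun ArtFun.Art

variable {Λ : Type u} {k : Type u} [CommRing Λ] [Field k] [Algebra Λ k]

section Coeff

variable {A' A : Art Λ k} (f : A' ⟶ A) (t : A')

/-- the coefficient of an element of `ker f = (t)` with respect to `t` -/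
noncomputable def coeff (u : A') : k :=
  open Classical in
  if h : ∃ a : A', a * t = u then A'.res h.choose else 0

variable {f t}

lemma unit_of_res_ne_zero {a : A'} (h : A'.res a ≠ 0) : IsUnit a := by
  by_contra hu
  have : a ∈ IsLocalRing.maximalIdeal A' := (IsLocalRing.mem_maximalIdeal a).2 hu
  rw [mem_maximalIdeal_iff] at this
  exact h this

lemma res_eq_of_mul_eq (hsm : IsSmallExt f) (ht : RingHom.ker f.toAlgHom = Ideal.span {t})
    {a a' : A'} (h : a * t = a' * t) : A'.res a = A'.res a' := by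
  have ht0 : t ≠ 0 := by
    intro h0
    apply hsm.2.1
    rw [ht, h0]
    exact Ideal.span_singleton_eq_bot.2 rfl
  by_contra hne
  have h1 : A'.res (a - a') ≠ 0 := by
    rw [map_sub]; exact sub_ne_zero.2 hne
  have hu := unit_of_res_ne_zero h1
  have h2 : (a - a') * t = 0 := by rw [sub_mul, h, sub_self]
  exact ht0 ((hu.mul_right_eq_zero).1 h2)

lemma coeff_eq (hsm : IsSmallExt f) (ht : RingHom.ker f.toAlgHom = Ideal.span {t}) (a : A') :
    coeff t (a * t) = A'.res a := by
  have h : ∃ a' : A', a' * t = a * t := ⟨a, rfl⟩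
  rw [coeff, dif_pos h]
  exact res_eq_of_mul_eq hsm ht h.choose_spec

lemma exists_of_mem_ker (ht : RingHom.ker f.toAlgHom = Ideal.span {t}) {u : A'}
    (hu : u ∈ RingHom.ker f.toAlgHom) : ∃ a : A', a * t = u := by
  rw [ht] at hu
  exact Ideal.mem_span_singleton'.1 hu

lemma mul_t_eq_of_res_eq (hsm : IsSmallExt f) (ht : RingHom.ker f.toAlgHom = Ideal.span {t})
    {a a' : A'} (h : A'.res a = A'.res a') : a * t = a' * t := by
  have h1 : a - a' ∈ IsLocalRing.maximalIdeal A' := by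
    rw [mem_maximalIdeal_iff, map_sub, h, sub_self]
  have h2 : (a - a') * t ∈ IsLocalRing.maximalIdeal A' * RingHom.ker f.toAlgHom :=
    Ideal.mul_mem_mul h1 (by rw [ht]; exact Ideal.subset_span rfl)
  rw [hsm.2.2.2] at h2
  have h3 : (a - a') * t = 0 := h2
  rw [sub_mul, sub_eq_zero] at h3
  exact h3

lemma t_mem_ker (ht : RingHom.ker f.toAlgHom = Ideal.span {t}) : t ∈ RingHom.ker f.toAlgHom := by
  rw [ht]; exact Ideal.subset_span rfl

end Coeff

section DoubleFP

variable {B A' A : Art Λ k} {f : A' ⟶ A} {t : A'} {p₁ p₂ : B ⟶ A'}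

lemma sub_mem_ker (hB : IsFibreProd p₁ p₂ f f) (z : B) : p₂ z - p₁ z ∈ RingHom.ker f.toAlgHom := by
  rw [RingHom.mem_ker, map_sub, sub_eq_zero]
  exact (hB.w_apply z).symm

/-- the map `A' ×_A A' → k[ε]`, `z ↦ res z + ((p₂ z - p₁ z)/t) ε` -/
noncomputable def deltaHom (hsm : IsSmallExt f) (ht : RingHom.ker f.toAlgHom = Ideal.span {t})
    (hB : IsFibreProd p₁ p₂ f f) : B ⟶ dual Λ k := by
  have hc : ∀ z : B, ∃ a : A', a * t = p₂ z - p₁ z := fun z => exists_of_mem_ker ht (sub_mem_ker hB z)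
  have hcoeff : ∀ (z : B) (a : A'), a * t = p₂ z - p₁ z → coeff t (p₂ z - p₁ z) = A'.res a := by
    intro z a ha
    rw [← ha, coeff_eq hsm ht]
  have hmul₁ : ∀ z w : B, p₁ (z * w) = p₁ z * p₁ w := fun z w => map_mul p₁.toAlgHom z w
  have hmul₂ : ∀ z w : B, p₂ (z * w) = p₂ z * p₂ w := fun z w => map_mul p₂.toAlgHom z w
  have hadd₁ : ∀ z w : B, p₁ (z + w) = p₁ z + p₁ w := fun z w => map_add p₁.toAlgHom z w
  have hadd₂ : ∀ z w : B, p₂ (z + w) = p₂ z + p₂ w := fun z w => map_add p₂.toAlgHom z w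
  refine ⟨{ toFun := fun z => (B.res z, coeff t (p₂ z - p₁ z))
            map_one' := ?_
            map_mul' := ?_
            map_zero' := ?_
            map_add' := ?_
            commutes' := ?_ }, ?_⟩
  · apply TrivSqZeroExt.ext
    · exact map_one B.res
    · change coeff t (p₂ 1 - p₁ 1) = 0
      rw [hcoeff 1 0 (by rw [zero_mul, show p₂ (1 : B) = 1 from map_one p₂.toAlgHom,
        show p₁ (1 : B) = 1 from map_one p₁.toAlgHom, sub_self]), map_zero]
  · intro z w
    obtain ⟨a, ha⟩ := hc z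
    obtain ⟨b, hb⟩ := hc w
    apply TrivSqZeroExt.ext
    · exact map_mul B.res z w
    · change coeff t (p₂ (z * w) - p₁ (z * w)) =
        B.res z • coeff t (p₂ w - p₁ w) + MulOpposite.op (B.res w) • coeff t (p₂ z - p₁ z)
      have key : (p₂ z * b + a * p₁ w) * t = p₂ (z * w) - p₁ (z * w) := by
        rw [hmul₁, hmul₂, add_mul, mul_assoc, hb, mul_right_comm, ha]
        ring
      rw [hcoeff (z * w) _ key, hcoeff z a ha, hcoeff w b hb, map_add, map_mul, map_mul, res_app, res_app]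
      simp [mul_comm]
  · apply TrivSqZeroExt.ext
    · exact map_zero B.res
    · change coeff t (p₂ 0 - p₁ 0) = 0
      rw [hcoeff 0 0 (by rw [zero_mul, show p₂ (0 : B) = 0 from map_zero p₂.toAlgHom,
        show p₁ (0 : B) = 0 from map_zero p₁.toAlgHom, sub_self]), map_zero]
  · intro z w
    obtain ⟨a, ha⟩ := hc z
    obtain ⟨b, hb⟩ := hc w
    apply TrivSqZeroExt.ext
    · exact map_add B.res z w
    · change coeff t (p₂ (z + w) - p₁ (z + w)) = coeff t (p₂ z - p₁ z) + coeff t (p₂ w - p₁ w)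
      have key : (a + b) * t = p₂ (z + w) - p₁ (z + w) := by
        rw [hadd₁, hadd₂, add_mul, ha, hb]; ring
      rw [hcoeff (z + w) _ key, hcoeff z a ha, hcoeff w b hb, map_add]
  · intro r
    apply TrivSqZeroExt.ext
    · change B.res (algebraMap Λ B r) = (algebraMap Λ (TrivSqZeroExt k k) r).fst
      rw [AlgHom.commutes, TrivSqZeroExt.algebraMap_eq_inl']
      rfl
    · change coeff t (p₂ (algebraMap Λ B r) - p₁ (algebraMap Λ B r)) = (algebraMap Λ (TrivSqZeroExt k k) r).snd
      rw [hcoeff _ 0 (by rw [zero_mul, show p₂ (algebraMap Λ B r) = algebraMap Λ A' r from p₂.toAlgHom.commutes r,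
        show p₁ (algebraMap Λ B r) = algebraMap Λ A' r from p₁.toAlgHom.commutes r, sub_self]), map_zero,
        TrivSqZeroExt.algebraMap_eq_inl']
      rfl
  · apply AlgHom.ext
    intro z
    rfl

lemma deltaHom_fst (hsm : IsSmallExt f) (ht : RingHom.ker f.toAlgHom = Ideal.span {t})
    (hB : IsFibreProd p₁ p₂ f f) (z : B) : (deltaHom hsm ht hB z).fst = B.res z := rfl

lemma deltaHom_snd (hsm : IsSmallExt f) (ht : RingHom.ker f.toAlgHom = Ideal.span {t})
    (hB : IsFibreProd p₁ p₂ f f) (z : B) (a : A') (ha : a * t = p₂ z - p₁ z) :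
    (deltaHom hsm ht hB z).snd = A'.res a := by
  change coeff t (p₂ z - p₁ z) = A'.res a
  rw [← ha, coeff_eq hsm ht]

/-- `A' ×_A A'` is also `A' ×_k k[ε]` -/
theorem isFibreProd_deltaHom (hsm : IsSmallExt f) (ht : RingHom.ker f.toAlgHom = Ideal.span {t})
    (hB : IsFibreProd p₁ p₂ f f) :
    IsFibreProd p₁ (deltaHom hsm ht hB) (toBase A') (toBase (dual Λ k)) where
  w := by rw [eq_toBase (p₁ ≫ toBase _), eq_toBase (deltaHom hsm ht hB ≫ toBase _)]
  inj z w h1 h2 := by
    apply hB.inj z w h1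
    obtain ⟨a, ha⟩ := exists_of_mem_ker ht (sub_mem_ker hB z)
    obtain ⟨b, hb⟩ := exists_of_mem_ker ht (sub_mem_ker hB w)
    have e : A'.res a = A'.res b := by
      rw [← deltaHom_snd hsm ht hB z a ha, ← deltaHom_snd hsm ht hB w b hb, h2]
    have := mul_t_eq_of_res_eq hsm ht e
    rw [ha, hb, h1] at this
    exact sub_left_injective this
  surj a' e he := by
    obtain ⟨c, hc⟩ := A'.res_surjective e.snd
    have hcompat : f a' = f (a' + c * t) := by
      rw [show f (a' + c * t) = f a' + f c * f t from by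
        change f.toAlgHom _ = _
        rw [map_add, map_mul]]
      have : f t = 0 := t_mem_ker ht
      rw [this, mul_zero, add_zero]
    obtain ⟨z, hz1, hz2⟩ := hB.surj a' (a' + c * t) hcompat
    refine ⟨z, hz1, ?_⟩
    apply TrivSqZeroExt.ext
    · rw [deltaHom_fst, ← res_app p₁, hz1]
      exact he
    · rw [deltaHom_snd hsm ht hB z c (by rw [hz1, hz2]; ring), hc]

end DoubleFP

section Action

variable {F : Art Λ k ⥤ Type v} {B A P : Art Λ k} {p : B ⟶ A} {p₁ p₂ : P ⟶ B} {g : P ⟶ dual Λ k}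

/-- the element of `F(P)` over `(y, θ)` -/
noncomputable def actElt (h0 : H0 F) (h2 : Heps F)
    (h' : IsFibreProd p₁ g (toBase B) (toBase (dual Λ k))) (y : F.obj B) (θ : F.obj (dual Λ k)) : F.obj P :=
  (Equiv.ofBijective (cmp F h') (h2 p₁ g h')).symm ⟨(y, θ), @Subsingleton.elim _ h0.2 _ _⟩

lemma actElt_fst (h0 : H0 F) (h2 : Heps F)
    (h' : IsFibreProd p₁ g (toBase B) (toBase (dual Λ k))) (y : F.obj B) (θ : F.obj (dual Λ k)) :
    F.map p₁ (actElt h0 h2 h' y θ) = y := by
  have := (Equiv.ofBijective (cmp F h') (h2 p₁ g h')).apply_symm_apply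
    ⟨(y, θ), @Subsingleton.elim _ h0.2 _ _⟩
  exact congrArg (fun t => t.1.1) this

lemma actElt_snd (h0 : H0 F) (h2 : Heps F)
    (h' : IsFibreProd p₁ g (toBase B) (toBase (dual Λ k))) (y : F.obj B) (θ : F.obj (dual Λ k)) :
    F.map g (actElt h0 h2 h' y θ) = θ := by
  have := (Equiv.ofBijective (cmp F h') (h2 p₁ g h')).apply_symm_apply
    ⟨(y, θ), @Subsingleton.elim _ h0.2 _ _⟩
  exact congrArg (fun t => t.1.2) this

lemma actElt_eq (h0 : H0 F) (h2 : Heps F)
    (h' : IsFibreProd p₁ g (toBase B) (toBase (dual Λ k))) (w : F.obj P) :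
    actElt h0 h2 h' (F.map p₁ w) (F.map g w) = w := by
  apply (h2 p₁ g h').1
  apply FibProd.ext
  · exact actElt_fst h0 h2 h' _ _
  · exact actElt_snd h0 h2 h' _ _

/-- the action lands in the same fibre -/
lemma map_act (h0 : H0 F) (h2 : Heps F) (hP : IsFibreProd p₁ p₂ p p)
    (h' : IsFibreProd p₁ g (toBase B) (toBase (dual Λ k))) (y : F.obj B) (θ : F.obj (dual Λ k)) :
    F.map p (F.map p₂ (actElt h0 h2 h' y θ)) = F.map p y := by
  rw [← F.map_comp_apply, ← hP.w, F.map_comp_apply, actElt_fst]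

/-- transitivity of the action when the comparison map of `B ×_A B` is surjective -/
theorem act_transitive' (h0 : H0 F) (h2 : Heps F)
    (hP : IsFibreProd p₁ p₂ p p) (hs : Function.Surjective (cmp F hP))
    (h' : IsFibreProd p₁ g (toBase B) (toBase (dual Λ k)))
    (y y' : F.obj B) (hyy' : F.map p y = F.map p y') :
    ∃ θ : F.obj (dual Λ k), F.map p₂ (actElt h0 h2 h' y θ) = y' := by
  obtain ⟨w, hw1, hw2⟩ := (cmp_surjective_iff F hP).1 hs y y' hyy'
  refine ⟨F.map g w, ?_⟩
  rw [← hw1, actElt_eq, hw2]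

/-- transitivity of the action under (H̄) -/
theorem act_transitive (h0 : H0 F) (h2 : Heps F) (h1 : Hbar F) (hp : IsSmallExt p)
    (hP : IsFibreProd p₁ p₂ p p) (h' : IsFibreProd p₁ g (toBase B) (toBase (dual Λ k)))
    (y y' : F.obj B) (hyy' : F.map p y = F.map p y') :
    ∃ θ : F.obj (dual Λ k), F.map p₂ (actElt h0 h2 h' y θ) = y' :=
  act_transitive' h0 h2 hP (h1 p₁ p₂ p p hP hp) h' y y' hyy'

/-- freeness of the action under (H₄) -/
theorem act_free (h0 : H0 F) (h2 : Heps F) (h4 : HSq F) (hp : IsSmallExt p)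
    (hP : IsFibreProd p₁ p₂ p p) (h' : IsFibreProd p₁ g (toBase B) (toBase (dual Λ k)))
    (y : F.obj B) : Function.Injective (fun θ : F.obj (dual Λ k) => F.map p₂ (actElt h0 h2 h' y θ)) := by
  intro θ θ' e
  have hw : actElt h0 h2 h' y θ = actElt h0 h2 h' y θ' := by
    apply (h4 p₁ p₂ p hP hp).1
    apply FibProd.ext
    · change F.map p₁ _ = F.map p₁ _
      rw [actElt_fst, actElt_fst]
    · exact e
  have := congrArg (F.map g) hw
  rwa [actElt_snd, actElt_snd] at this

end Action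

end Groth.Agent.Lib.Helper1.ArtFunLib
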