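import Mathlib
import Groth.Prelude.Def_ArtFun3
import Groth.Agent.Lib.Helper1.ArtFunAction

/-!
# Small extensions and fibre products
-/
universe u v
open CategoryTheory

namespace Groth.Agent.Lib.Helper1.ArtFunLib

open ArtFun ArtFun.Art

variable {Λ : Type u} {k : Type u} [CommRing Λ] [Field k] [Algebra Λ k]

lemma exists_generator {A' A : Art Λ k} {f : A' ⟶ A} (hf : IsSmallExt f) :
    ∃ t : A', RingHom.ker f.toAlgHom = Ideal.span {t} := by
  obtain ⟨t, ht⟩ := hf.2.2.1.principal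
  exact ⟨t, ht⟩

lemma generator_ne_zero {A' A : Art Λ k} {f : A' ⟶ A} (hf : IsSmallExt f) {t : A'}
    (ht : RingHom.ker f.toAlgHom = Ideal.span {t}) : t ≠ 0 := by
  intro h0
  apply hf.2.1
  rw [ht, h0]
  exact Ideal.span_singleton_eq_bot.2 rfl

/-- base change of a small extension is a small extension -/
theorem isSmallExt_fst_of_isFibreProd {B A A₁ A₂ : Art Λ k} {p₁ : B ⟶ A₁} {p₂ : B ⟶ A₂} {f₁ : A₁ ⟶ A}
    {f₂ : A₂ ⟶ A} (h : IsFibreProd p₁ p₂ f₁ f₂) (hf₂ : IsSmallExt f₂) : IsSmallExt p₁ := by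
  obtain ⟨t, ht⟩ := exists_generator hf₂
  have ht0 := generator_ne_zero hf₂ ht
  have htk : f₂ t = 0 := t_mem_ker ht
  have hcompat : f₁ 0 = f₂ t := by rw [htk]; exact map_zero f₁.toAlgHom
  set b₀ := fpElt h 0 t hcompat with hb₀
  have hb1 : p₁ b₀ = 0 := fpElt_fst h _ _ _
  have hb2 : p₂ b₀ = t := fpElt_snd h _ _ _
  have hmul₁ : ∀ x y : B, p₁ (x * y) = p₁ x * p₁ y := fun x y => map_mul p₁.toAlgHom x y
  have hmul₂ : ∀ x y : B, p₂ (x * y) = p₂ x * p₂ y := fun x y => map_mul p₂.toAlgHom x y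
  have hker : RingHom.ker p₁.toAlgHom = Ideal.span {b₀} := by
    apply le_antisymm
    · intro b hb
      rw [RingHom.mem_ker] at hb
      have hb' : p₁ b = 0 := hb
      have h2 : p₂ b ∈ RingHom.ker f₂.toAlgHom := by
        rw [RingHom.mem_ker]
        change f₂ (p₂ b) = 0
        rw [← h.w_apply, hb']
        exact map_zero f₁.toAlgHom
      obtain ⟨a, ha⟩ := exists_of_mem_ker ht h2
      obtain ⟨β, hβ⟩ := B.res_surjective (A₂.res a)
      have hβ' : A₂.res (p₂ β) = A₂.res a := by rw [res_app, hβ]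
      have e : p₂ β * t = a * t := mul_t_eq_of_res_eq hf₂ ht hβ'
      have : b = β * b₀ := by
        apply h.inj
        · rw [hmul₁, hb1, mul_zero, hb']
        · rw [hmul₂, hb2, e, ha]
      rw [this]
      exact Ideal.mul_mem_left _ _ (Ideal.subset_span rfl)
    · rw [Ideal.span_singleton_le_iff_mem, RingHom.mem_ker]
      exact hb1
  refine ⟨surjective_fst_of_isFibreProd h hf₂.1, ?_, ?_, ?_⟩
  · rw [hker]
    intro hbot
    rw [Ideal.span_singleton_eq_bot] at hbot
    apply ht0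
    rw [← hb2, hbot]
    exact map_zero p₂.toAlgHom
  · rw [hker]
    exact ⟨⟨_, rfl⟩⟩
  · rw [eq_bot_iff, Ideal.mul_le]
    intro β hβ x hx
    rw [Ideal.mem_bot]
    have hx' : p₁ x = 0 := hx
    apply h.inj
    · rw [hmul₁, hx', mul_zero]
      exact (map_zero p₁.toAlgHom).symm
    · rw [hmul₂]
      have h2 : p₂ x ∈ RingHom.ker f₂.toAlgHom := by
        rw [RingHom.mem_ker]
        change f₂ (p₂ x) = 0
        rw [← h.w_apply, hx']
        exact map_zero f₁.toAlgHom
      have h3 : p₂ β * p₂ x ∈ IsLocalRing.maximalIdeal A₂ * RingHom.ker f₂.toAlgHom :=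
        Ideal.mul_mem_mul (map_mem_maximalIdeal p₂ hβ) h2
      rw [hf₂.2.2.2] at h3
      rw [show p₂ β * p₂ x = 0 from h3]
      exact (map_zero p₂.toAlgHom).symm

end Groth.Agent.Lib.Helper1.ArtFunLib
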