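import Mathlib
import Groth.Prelude.Def_ArtFun3
import Groth.Agent.Lib.Helper1.ArtFunSmall
import Groth.Agent.Lib.Helper1.ArtFunFibre

/-!
# Morphisms into fibre products, diagonals, and consequences for deformation functors
-/
universe u v
open CategoryTheory

namespace Groth.Agent.Lib.Helper1.ArtFunLib

open ArtFun ArtFun.Art

variable {Λ : Type u} {k : Type u} [CommRing Λ] [Field k] [Algebra Λ k]

section LiftHom

variable {B A A' A'' C : Art Λ k} {p' : B ⟶ A'} {p'' : B ⟶ A''} {f' : A' ⟶ A} {f'' : A'' ⟶ A}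

lemma fpLiftHom_compat {u : C ⟶ A'} {v : C ⟶ A''} (e : u ≫ f' = v ≫ f'') (c : C) :
    f' (u.toAlgHom c) = f'' (v.toAlgHom c) := congrArg (fun m : C ⟶ A => m c) e

/-- morphism into a fibre product -/
noncomputable def fpLiftHom (h : IsFibreProd p' p'' f' f'') (u : C ⟶ A') (v : C ⟶ A'')
    (e : u ≫ f' = v ≫ f'') : C ⟶ B :=
  ⟨fpLiftAlgHom h u.toAlgHom v.toAlgHom (fpLiftHom_compat e), by
    apply AlgHom.ext
    intro c
    change B.res (fpLiftAlgHom h u.toAlgHom v.toAlgHom (fpLiftHom_compat e) c) = C.res c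
    rw [← res_app p', fpLiftAlgHom_fst]
    exact res_app u c⟩

lemma fpLiftHom_fst (h : IsFibreProd p' p'' f' f'') (u : C ⟶ A') (v : C ⟶ A'')
    (e : u ≫ f' = v ≫ f'') : fpLiftHom h u v e ≫ p' = u :=
  hom_ext (AlgHom.ext fun c => fpLiftAlgHom_fst h _ _ (fpLiftHom_compat e) c)

lemma fpLiftHom_snd (h : IsFibreProd p' p'' f' f'') (u : C ⟶ A') (v : C ⟶ A'')
    (e : u ≫ f' = v ≫ f'') : fpLiftHom h u v e ≫ p'' = v :=
  hom_ext (AlgHom.ext fun c => fpLiftAlgHom_snd h _ _ (fpLiftHom_compat e) c)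

lemma hom_ext_of_isFibreProd (h : IsFibreProd p' p'' f' f'') {m m' : C ⟶ B}
    (h1 : m ≫ p' = m' ≫ p') (h2 : m ≫ p'' = m' ≫ p'') : m = m' :=
  hom_ext (AlgHom.ext fun c => h.inj _ _ (congrArg (fun n : C ⟶ A' => n c) h1)
    (congrArg (fun n : C ⟶ A'' => n c) h2))

end LiftHom

section Zero

variable {F : Art Λ k ⥤ Type v}

/-- the zero tangent vector -/
noncomputable def zeroT (h0 : H0 F) : F.obj (dual Λ k) := F.map baseToDual h0.1.some

lemma map_toBase_baseToDual' (h0 : H0 F) {A : Art Λ k} (x : F.obj A) :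
    F.map (toBase A ≫ baseToDual) x = zeroT h0 := by
  rw [F.map_comp_apply]
  have := h0.2
  rw [zeroT, Subsingleton.elim (F.map (toBase A) x) h0.1.some]

lemma map_zeroT {G : Art Λ k ⥤ Type v} (h0 : H0 F) (h0' : H0 G) (φ : F ⟶ G) :
    φ.app _ (zeroT h0) = zeroT h0' := by
  rw [zeroT, nat_apply, zeroT]
  have := h0'.2
  rw [Subsingleton.elim (φ.app (base Λ k) h0.1.some) h0'.1.some]

end Zero

section Diag

variable {B A' A : Art Λ k} {f : A' ⟶ A} {t : A'} {p₁ p₂ : B ⟶ A'}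

/-- the diagonal `A' → A' ×_A A'` -/
noncomputable def diagHom (hB : IsFibreProd p₁ p₂ f f) : A' ⟶ B := fpLiftHom hB (𝟙 A') (𝟙 A') rfl

lemma diagHom_fst (hB : IsFibreProd p₁ p₂ f f) : diagHom hB ≫ p₁ = 𝟙 A' := fpLiftHom_fst hB _ _ _
lemma diagHom_snd (hB : IsFibreProd p₁ p₂ f f) : diagHom hB ≫ p₂ = 𝟙 A' := fpLiftHom_snd hB _ _ _

lemma diagHom_deltaHom (hsm : IsSmallExt f) (ht : RingHom.ker f.toAlgHom = Ideal.span {t})
    (hB : IsFibreProd p₁ p₂ f f) : diagHom hB ≫ deltaHom hsm ht hB = toBase A' ≫ baseToDual := by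
  apply hom_ext
  apply AlgHom.ext
  intro a
  have h1 : p₁ (diagHom hB a) = a := congrArg (fun m : A' ⟶ A' => m a) (diagHom_fst hB)
  have h2 : p₂ (diagHom hB a) = a := congrArg (fun m : A' ⟶ A' => m a) (diagHom_snd hB)
  apply TrivSqZeroExt.ext
  · change (deltaHom hsm ht hB (diagHom hB a)).fst = (algebraMap k (DualNumber k) (A'.res a)).fst
    rw [deltaHom_fst, res_app, TrivSqZeroExt.algebraMap_eq_inl]
    rfl
  · change (deltaHom hsm ht hB (diagHom hB a)).snd = (algebraMap k (DualNumber k) (A'.res a)).snd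
    rw [deltaHom_snd hsm ht hB _ 0 (by rw [h1, h2, zero_mul, sub_self]), map_zero,
      TrivSqZeroExt.algebraMap_eq_inl]
    rfl

variable {F : Art Λ k ⥤ Type v}

/-- if the `k[ε]`-component of `w ∈ F(A' ×_A A')` is zero, both projections of `w` agree -/
lemma map_snd_eq_map_fst_of_zero (h0 : H0 F) (hsm : IsSmallExt f) (ht : RingHom.ker f.toAlgHom = Ideal.span {t})
    (hB : IsFibreProd p₁ p₂ f f)
    (hinj : Function.Injective (cmp F (isFibreProd_deltaHom hsm ht hB)))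
    (w : F.obj B) (hw : F.map (deltaHom hsm ht hB) w = zeroT h0) : F.map p₂ w = F.map p₁ w := by
  have e : w = F.map (diagHom hB) (F.map p₁ w) := by
    apply hinj
    apply FibProd.ext
    · change F.map p₁ w = F.map p₁ (F.map (diagHom hB) (F.map p₁ w))
      rw [← F.map_comp_apply (diagHom hB), diagHom_fst, F.map_id_apply]
    · change F.map (deltaHom hsm ht hB) w = F.map (deltaHom hsm ht hB) (F.map (diagHom hB) (F.map p₁ w))
      rw [← F.map_comp_apply (diagHom hB), diagHom_deltaHom, map_toBase_baseToDual' h0, hw]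
  conv_lhs => rw [e]
  rw [← F.map_comp_apply (diagHom hB), diagHom_snd, F.map_id_apply]

end Diag

end Groth.Agent.Lib.Helper1.ArtFunLib
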