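import Mathlib
import Groth.Prelude.Def_ArtFun3
import Groth.Agent.Lib.Helper1.ArtFunDiag

/-!
# Deformation functors (H0 + RS): smooth morphisms bijective on tangent spaces are isomorphisms, etc.
-/
universe u v
open CategoryTheory

namespace Groth.Agent.Lib.Helper1.ArtFunLib

open ArtFun ArtFun.Art

variable {Λ : Type u} {k : Type u} [CommRing Λ] [Field k] [Algebra Λ k]

/-- condition (RS) -/
def RS (F : Art Λ k ⥤ Type v) : Prop :=
  ∀ ⦃B A A' A'' : Art Λ k⦄ (p' : B ⟶ A') (p'' : B ⟶ A'') (f' : A' ⟶ A) (f'' : A'' ⟶ A)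
    (h : IsFibreProd p' p'' f' f''), Function.Surjective f'' → Function.Bijective (cmp F h)

lemma RS.heps {F : Art Λ k ⥤ Type v} (h : RS F) : Heps F :=
  fun _ _ p' p'' hsq => h p' p'' _ _ hsq (dual Λ k).res_surjective

lemma RS.s1 {F : Art Λ k ⥤ Type v} (h : RS F) : S1 F :=
  fun _ _ _ _ p' p'' f' f'' hsq hf => (h p' p'' f' f'' hsq hf).2

lemma RS.hbar {F : Art Λ k ⥤ Type v} (h : RS F) : Hbar F :=
  fun _ _ _ _ p' p'' f' f'' hsq hf => (h p' p'' f' f'' hsq hf.1).2

lemma RS.hsq {F : Art Λ k ⥤ Type v} (h : RS F) : HSq F :=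
  fun _ _ _ p₁ p₂ f hsq hf => h p₁ p₂ f f hsq hf.1

section

variable [IsNoetherianRing Λ] [Module.Finite Λ k]

variable {F G : Art Λ k ⥤ Type v}

/-- key step: for a small extension, injectivity of `φ` passes from `A` to `B` -/
lemma injective_app_of_smallExt (hF0 : H0 F) (hF2 : Heps F) (hFs : Hbar F) (hG0 : H0 G) (hG4 : HSq G)
    (φ : F ⟶ G) (hd : Function.Injective (TangentSpace.map φ))
    {B A : Art Λ k} (p : B ⟶ A) (hp : IsSmallExt p) (hA : Function.Injective (φ.app A)) :
    Function.Injective (φ.app B) := by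
  intro y y' hyy'
  obtain ⟨P, π₁, π₂, hP⟩ := exists_isFibreProd_of_surjective p p hp.1
  obtain ⟨t, ht⟩ := exists_generator hp
  have hyA : F.map p y = F.map p y' := by
    apply hA
    rw [nat_apply, nat_apply, hyy']
  obtain ⟨w, hw1, hw2⟩ := (cmp_surjective_iff F hP).1 (hFs π₁ π₂ p p hP hp) y y' hyA
  -- `φ w` is diagonal
  have hφw : φ.app P w = G.map (diagHom hP) (φ.app B y) := by
    apply (hG4 π₁ π₂ p hP hp).1
    apply FibProd.ext
    · change G.map π₁ (φ.app P w) = G.map π₁ (G.map (diagHom hP) (φ.app B y))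
      rw [← G.map_comp_apply (diagHom hP), diagHom_fst, G.map_id_apply, ← nat_apply, hw1]
    · change G.map π₂ (φ.app P w) = G.map π₂ (G.map (diagHom hP) (φ.app B y))
      rw [← G.map_comp_apply (diagHom hP), diagHom_snd, G.map_id_apply, ← nat_apply, hw2, hyy']
  have hθ : F.map (deltaHom hp ht hP) w = zeroT hF0 := by
    apply hd
    change φ.app _ (F.map (deltaHom hp ht hP) w) = φ.app _ (zeroT hF0)
    rw [nat_apply, hφw, ← G.map_comp_apply (diagHom hP), diagHom_deltaHom, map_toBase_baseToDual' hG0,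
      map_zeroT hF0 hG0]
  have := map_snd_eq_map_fst_of_zero hF0 hp ht hP (hF2 _ _ (isFibreProd_deltaHom hp ht hP)).1 w hθ
  rw [hw1, hw2] at this
  exact this.symm

/-- injectivity on all objects from injectivity on tangent spaces -/
theorem injective_app_of_tangent_injective (hF0 : H0 F) (hF2 : Heps F) (hFs : Hbar F) (hG0 : H0 G)
    (hG4 : HSq G) (φ : F ⟶ G) (hd : Function.Injective (TangentSpace.map φ)) (A : Art Λ k) :
    Function.Injective (φ.app A) := by
  have key : Function.Injective (φ.app (base Λ k)) → Function.Injective (φ.app A) := by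
    refine surjective_induction
      (fun A B f => Function.Injective (φ.app A) → Function.Injective (φ.app B)) ?_ ?_ ?_
      (toBase A) A.res_surjective
    · intro A B e he hA y y' hyy'
      have : F.map e y = F.map e y' := by
        apply hA
        rw [nat_apply, nat_apply, hyy']
      have := congrArg (F.map (inv e)) this
      rwa [map_inv_map, map_inv_map] at this
    · intro A B p hp hA
      exact injective_app_of_smallExt hF0 hF2 hFs hG0 hG4 φ hd p hp hA
    · intro A B C p q hp hq hA
      exact hp (hq hA)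
  apply key
  intro x x' _
  exact @Subsingleton.elim _ hF0.2 x x'

/-- A smooth morphism of deformation functors which is bijective on tangent spaces is an isomorphism. -/
theorem bijective_app_of_isSmooth_of_tangent_bijective (hF0 : H0 F) (hF : RS F) (hG0 : H0 G) (hG : RS G)
    (φ : F ⟶ G) (hφ : IsSmooth φ) (hd : Function.Bijective (TangentSpace.map φ)) (A : Art Λ k) :
    Function.Bijective (φ.app A) := by
  refine ⟨injective_app_of_tangent_injective hF0 hF.heps hF.hbar hG0 hG.hsq φ hd.1 A, ?_⟩
  apply surjective_app_of_isSmooth φ hφ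
  intro y
  obtain ⟨x⟩ := hF0.1
  exact ⟨x, @Subsingleton.elim _ hG0.2 _ _⟩

end

end Groth.Agent.Lib.Helper1.ArtFunLib
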