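import Mathlib
import Groth.Prelude.Def_ArtFun5
import Groth.Agent.Lib.Helper1.ArtFunDef

/-!
# Formal elements, truncations and completeness
-/
universe u v w
open CategoryTheory

namespace Groth.Agent.Lib.Helper1.ArtFunLib

open ArtFun ArtFun.Art

variable {Λ : Type u} {k : Type u} [CommRing Λ] [Field k] [Algebra Λ k]

/-- dependent sequences by recursion with choice -/
theorem exists_dep_seq {X : ℕ → Type w} (r : ∀ n, X n → X (n + 1) → Prop) (x0 : X 0)
    (hstep : ∀ n x, ∃ y, r n x y) : ∃ s : ∀ n, X n, s 0 = x0 ∧ ∀ n, r n (s n) (s (n + 1)) := by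
  classical
  choose nxt hnxt using hstep
  exact ⟨fun n => Nat.rec (motive := X) x0 (fun n x => nxt n x) n, rfl, fun n => hnxt n _⟩

lemma truncMap_surjective (R : CRing Λ k) (n : ℕ) : Function.Surjective (R.truncMap n) := by
  intro x
  obtain ⟨a, rfl⟩ := Ideal.Quotient.mk_surjective x
  exact ⟨Ideal.Quotient.mk _ a, rfl⟩

lemma truncMap_mk (R : CRing Λ k) (n : ℕ) (a : R.carrier) :
    R.truncMap n (Ideal.Quotient.mk _ a) = Ideal.Quotient.mk _ a := rfl

section FormalLift

variable {F G : Art Λ k ⥤ Type v}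

/-- a smooth morphism surjective on `k`-points is surjective on formal elements -/
theorem surjective_formalElt_map (η : F ⟶ G) (hη : IsSmooth η)
    (h0 : Function.Surjective (η.app (base Λ k))) (R : CRing Λ k) :
    Function.Surjective (fun u : FormalElt F R => u.map η) := by
  intro v
  have hsurj := surjective_app_of_isSmooth η hη h0
  rw [isSmooth_iff] at hη
  obtain ⟨x0, hx0⟩ := hsurj (R.trunc 0) (v.elt 0)
  obtain ⟨s, -, hs⟩ := exists_dep_seq
    (X := fun n => {x : F.obj (R.trunc n) // η.app _ x = v.elt n})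
    (fun n x y => F.map (R.truncMap n) y.1 = x.1) ⟨x0, hx0⟩ (by
      intro n x
      obtain ⟨z, hz1, hz2⟩ := hη (R.truncMap n) (truncMap_surjective R n) x.1 (v.elt (n + 1))
        (by rw [x.2, v.compat])
      exact ⟨⟨z, hz2⟩, hz1⟩)
  refine ⟨⟨fun n => (s n).1, hs⟩, ?_⟩
  apply FormalElt.ext'
  intro n
  exact (s n).2

end FormalLift

section Complete

variable {R : Type u} [CommRing R] [Algebra Λ R] {resR : R →ₐ[Λ] k} (S : CRing Λ k)

/-- reduction `S/m^(n+1) → S/m^(m+1)` for `m ≤ n` -/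
noncomputable def truncFactor {m n : ℕ} (h : m ≤ n) :
    (S.carrier ⧸ S.mpow n) →ₐ[Λ] (S.carrier ⧸ S.mpow m) :=
  Ideal.Quotient.factorₐ Λ (Ideal.pow_le_pow_right (Nat.succ_le_succ h))

lemma truncFactor_mk {m n : ℕ} (h : m ≤ n) (a : S.carrier) :
    truncFactor S h (Ideal.Quotient.mk _ a) = Ideal.Quotient.mk _ a := rfl

lemma truncFactor_succ (n : ℕ) (x : S.carrier ⧸ S.mpow (n + 1)) :
    truncFactor S (Nat.le_succ n) x = S.truncMap n x := by
  obtain ⟨a, rfl⟩ := Ideal.Quotient.mk_surjective x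
  rfl

lemma truncFactor_trans {l m n : ℕ} (h1 : l ≤ m) (h2 : m ≤ n) (x : S.carrier ⧸ S.mpow n) :
    truncFactor S h1 (truncFactor S h2 x) = truncFactor S (h1.trans h2) x := by
  obtain ⟨a, rfl⟩ := Ideal.Quotient.mk_surjective x
  rfl

lemma truncFactor_refl (n : ℕ) (x : S.carrier ⧸ S.mpow n) : truncFactor S (le_refl n) x = x := by
  obtain ⟨a, rfl⟩ := Ideal.Quotient.mk_surjective x
  rfl

variable {S}

lemma compat_of_step (ψ : ∀ n, HomSet R resR (S.trunc n))
    (hψ : ∀ n, HomSet.map (S.truncMap n) (ψ (n + 1)) = ψ n) {m n : ℕ} (h : m ≤ n) (r : R) :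
    truncFactor S h ((ψ n).1 r) = (ψ m).1 r := by
  induction n, h using Nat.le_induction with
  | base => exact truncFactor_refl S m _
  | succ n hmn ih =>
    rw [← truncFactor_trans S hmn (Nat.le_succ n), truncFactor_succ]
    have := congrArg (fun φ : HomSet R resR (S.trunc n) => φ.1 r) (hψ n)
    change S.truncMap n ((ψ (n + 1)).1 r) = (ψ n).1 r at this
    rw [this, ih]

/-- a compatible system of maps `R → S/m^(n+1)` comes from a map `R → S` -/
theorem exists_lift_of_compatible (ψ : ∀ n, HomSet R resR (S.trunc n))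
    (hψ : ∀ n, HomSet.map (S.truncMap n) (ψ (n + 1)) = ψ n) :
    ∃ (g : R →ₐ[Λ] S.carrier) (_ : S.res.comp g = resR), ∀ n, (S.truncHom n).1.comp g = (ψ n).1 := by
  haveI := S.isAdicComplete
  set I := IsLocalRing.maximalIdeal S.carrier with hI
  -- the system indexed by `I ^ n`
  let f : ∀ n : ℕ, R →ₐ[Λ] S.carrier ⧸ I ^ n := fun n =>
    (Ideal.Quotient.factorₐ Λ (Ideal.pow_le_pow_right (Nat.le_succ n))).comp (ψ n).1
  have hf : ∀ {m n : ℕ} (hle : m ≤ n),
      (Ideal.Quotient.factorₐ Λ (Ideal.pow_le_pow_right hle)).comp (f n) = f m := by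
    intro m n hle
    apply AlgHom.ext
    intro r
    have := compat_of_step ψ hψ hle r
    change Ideal.Quotient.factorₐ Λ (Ideal.pow_le_pow_right hle)
      (Ideal.Quotient.factorₐ Λ (Ideal.pow_le_pow_right (Nat.le_succ n)) ((ψ n).1 r)) =
      Ideal.Quotient.factorₐ Λ (Ideal.pow_le_pow_right (Nat.le_succ m)) ((ψ m).1 r)
    rw [← this]
    generalize (ψ n).1 r = x
    obtain ⟨a, rfl⟩ := Ideal.Quotient.mk_surjective x
    rfl
  let g : R →ₐ[Λ] S.carrier := IsAdicComplete.liftAlgHom I f hf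
  have hg : ∀ n, (S.truncHom n).1.comp g = (ψ n).1 := by
    intro n
    apply AlgHom.ext
    intro r
    have h1 : Ideal.Quotient.mk (I ^ (n + 1)) (g r) = f (n + 1) r :=
      IsAdicComplete.mk_liftAlgHom I f hf (n + 1) r
    change Ideal.Quotient.mk (I ^ (n + 1)) (g r) = (ψ n).1 r
    rw [h1]
    have := compat_of_step ψ hψ (Nat.le_succ n) r
    rw [← this]
    change Ideal.Quotient.factorₐ Λ (Ideal.pow_le_pow_right (Nat.le_succ (n + 1))) ((ψ (n + 1)).1 r) =
      truncFactor S (Nat.le_succ n) ((ψ (n + 1)).1 r)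
    generalize (ψ (n + 1)).1 r = x
    obtain ⟨a, rfl⟩ := Ideal.Quotient.mk_surjective x
    rfl
  refine ⟨g, ?_, hg⟩
  have h0 := (ψ 0).2
  rw [← hg 0, ← AlgHom.comp_assoc, (S.truncHom 0).2] at h0
  exact h0

/-- two maps to a complete local ring agreeing modulo all powers of the maximal ideal are equal -/
theorem algHom_ext_of_trunc {g₁ g₂ : R →ₐ[Λ] S.carrier}
    (h : ∀ n, (S.truncHom n).1.comp g₁ = (S.truncHom n).1.comp g₂) : g₁ = g₂ := by
  haveI := S.isAdicComplete
  apply AlgHom.ext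
  intro r
  rw [← sub_eq_zero]
  apply IsHausdorff.haus (inferInstance : IsHausdorff (IsLocalRing.maximalIdeal S.carrier) S.carrier)
  intro n
  rw [SModEq.zero, smul_eq_mul, Ideal.mul_top]
  have hn := congrArg (fun φ : R →ₐ[Λ] (S.trunc n) => φ r) (h n)
  change Ideal.Quotient.mk (S.mpow n) (g₁ r) = Ideal.Quotient.mk (S.mpow n) (g₂ r) at hn
  rw [Ideal.Quotient.eq] at hn
  exact Ideal.pow_le_pow_right (Nat.le_succ n) hn

end Complete

section Factor

variable (R : CRing Λ k)

/-- every map from a complete local ring to an Artinian one factors through a truncation -/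
theorem exists_factor_trunc {A : Art Λ k} (u : HomSet R.carrier R.res A) :
    ∃ (n : ℕ) (ū : R.trunc n ⟶ A), HomSet.map ū (R.truncHom n) = u := by
  obtain ⟨N, hN⟩ := exists_maximalIdeal_pow_eq_bot A
  have hmap : ∀ x ∈ IsLocalRing.maximalIdeal R.carrier, u.1 x ∈ IsLocalRing.maximalIdeal A := by
    intro x hx
    rw [CRing.mem_maximalIdeal_iff] at hx
    rw [Art.mem_maximalIdeal_iff]
    have := congrArg (fun φ : R.carrier →ₐ[Λ] k => φ x) u.2
    change A.res (u.1 x) = R.res x at this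
    rw [this, hx]
  have hle : (IsLocalRing.maximalIdeal R.carrier).map (u.1 : R.carrier →+* A) ≤ IsLocalRing.maximalIdeal A := by
    rw [Ideal.map_le_iff_le_comap]
    exact hmap
  have hkill : ∀ a ∈ R.mpow N, u.1 a = 0 := by
    intro a ha
    have h1 : (u.1 : R.carrier →+* A) a ∈ (R.mpow N).map (u.1 : R.carrier →+* A) := Ideal.mem_map_of_mem _ ha
    rw [CRing.mpow, Ideal.map_pow] at h1
    have h2 := Ideal.pow_right_mono hle (N + 1) h1
    rw [pow_succ, hN, Ideal.bot_mul] at h2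
    exact h2
  refine ⟨N, ⟨Ideal.Quotient.liftₐ (R.mpow N) u.1 hkill, ?_⟩, ?_⟩
  · apply AlgHom.ext
    intro x
    obtain ⟨a, rfl⟩ := Ideal.Quotient.mk_surjective x
    have := congrArg (fun φ : R.carrier →ₐ[Λ] k => φ a) u.2
    exact this
  · apply Subtype.ext
    apply AlgHom.ext
    intro a
    rfl

end Factor

section Versal

variable {R : Type u} [CommRing R] [Algebra Λ R] {resR : R →ₐ[Λ] k} {F : Art Λ k ⥤ Type v}

/-- a formal element over `S` whose `0`-th term is induced from a versal family `ξ` is induced from `ξ` -/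
theorem exists_along_toFormalElt_eq (ξ : Family R resR F) (hξ : IsVersal ξ) (S : CRing Λ k)
    (η : FormalElt F S) (ψ0 : HomSet R resR (S.trunc 0)) (h0 : ξ.app _ ψ0 = η.elt 0) :
    ∃ (g : R →ₐ[Λ] S.carrier) (hg : S.res.comp g = resR), (ξ.along g hg).toFormalElt = η := by
  obtain ⟨s, -, hs⟩ := exists_dep_seq
    (X := fun n => {ψ : HomSet R resR (S.trunc n) // ξ.app _ ψ = η.elt n})
    (fun n x y => HomSet.map (S.truncMap n) y.1 = x.1) ⟨ψ0, h0⟩ (by
      intro n x
      obtain ⟨ψ', h1, h2⟩ := hξ (S.truncMap n) (truncMap_surjective S n) x.1 (η.elt (n + 1))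
        (by rw [x.2, η.compat])
      exact ⟨⟨ψ', h2⟩, h1⟩)
  obtain ⟨g, hg, hgn⟩ := exists_lift_of_compatible (fun n => (s n).1) hs
  refine ⟨g, hg, ?_⟩
  apply FormalElt.ext'
  intro n
  change ξ.app _ _ = η.elt n
  rw [← (s n).2]
  exact congrArg (ξ.app _) (Subtype.ext (hgn n))

/-- versal families dominate formal elements when `F(k)` is a point -/
theorem exists_along_toFormalElt_eq_of_h0 (h0 : H0 F) (ξ : Family R resR F)
    (hξ : IsVersal ξ) (S : CRing Λ k) (η : FormalElt F S) :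
    ∃ (g : R →ₐ[Λ] S.carrier) (hg : S.res.comp g = resR), (ξ.along g hg).toFormalElt = η := by
  have hsub := h0.2
  obtain ⟨ψ0, -, hψ0⟩ := hξ (toBase (S.trunc 0)) (S.trunc 0).res_surjective
    ⟨resR, AlgHom.id_comp _⟩ (η.elt 0) (Subsingleton.elim _ _)
  exact exists_along_toFormalElt_eq ξ hξ S η ψ0 hψ0

end Versal

end Groth.Agent.Lib.Helper1.ArtFunLib
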