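import Mathlib
import Groth.Prelude.Def_ArtFun3

/-!
# Power series rings over complete local rings: the maximal-ideal-adic filtration and completeness
-/
universe u v
open CategoryTheory

namespace Groth.Agent.Lib.Helper1.ArtFunLib

namespace PS

open MvPowerSeries Finsupp

variable {σ : Type*} [Finite σ] {R : Type*} [CommRing R]

omit [Finite σ] in
theorem map_idealOfVars :
    (MvPolynomial.idealOfVars σ R).map (algebraMap (MvPolynomial σ R) (MvPowerSeries σ R)) =
      Ideal.span (Set.range X) := by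
  rw [Ideal.map_span, ← Set.range_comp]
  congr 2
  ext1 i
  rw [Function.comp_apply, MvPowerSeries.algebraMap_apply', MvPolynomial.coe_X]
  simp

theorem truncTotal_eq_zero (N : ℕ) (g : MvPowerSeries σ R)
    (hg : ∀ d : σ →₀ ℕ, degree d < N → coeff d g = 0) : truncTotal N g = 0 := by
  ext d
  rw [coeff_truncTotal_eq_ite]
  split_ifs with h
  · rw [hg d h]; simp
  · simp

theorem mem_ker_eval (N : ℕ) (g : MvPowerSeries σ R)
    (hg : ∀ d : σ →₀ ℕ, degree d < N → coeff d g = 0) :
    (toAdicCompletionAlgEquiv σ R g) ∈ (MvPolynomial.idealOfVars σ R) ^ N •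
      (⊤ : Submodule (MvPolynomial σ R) (AdicCompletion (MvPolynomial.idealOfVars σ R) (MvPolynomial σ R))) := by
  rw [AdicCompletion.pow_smul_top_eq_ker_eval (MvPolynomial.idealOfVars_fg σ R), LinearMap.mem_ker,
    toAdicCompletionAlgEquiv_apply, AdicCompletion.eval_apply, toAdicCompletion_apply_eq_mk_truncTotal,
    truncTotal_eq_zero N g hg]
  rfl

theorem mem_smul_top (N : ℕ) (g : MvPowerSeries σ R)
    (hg : ∀ d : σ →₀ ℕ, degree d < N → coeff d g = 0) :
    g ∈ (MvPolynomial.idealOfVars σ R) ^ N •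
      (⊤ : Submodule (MvPolynomial σ R) (MvPowerSeries σ R)) := by
  have h1 := mem_ker_eval N g hg
  have h3 : (toAdicCompletionAlgEquiv σ R).symm (toAdicCompletionAlgEquiv σ R g) ∈
      ((MvPolynomial.idealOfVars σ R) ^ N • (⊤ : Submodule (MvPolynomial σ R)
        (AdicCompletion (MvPolynomial.idealOfVars σ R) (MvPolynomial σ R)))).map
        (toAdicCompletionAlgEquiv σ R).symm.toLinearMap :=
    Submodule.mem_map_of_mem h1
  rw [AlgEquiv.symm_apply_apply, Submodule.map_smul''] at h3
  exact Submodule.smul_mono le_rfl le_top h3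

theorem mem_span_X_pow_of_coeff_eq_zero (N : ℕ) (g : MvPowerSeries σ R)
    (hg : ∀ d : σ →₀ ℕ, degree d < N → coeff d g = 0) :
    g ∈ (Ideal.span (Set.range (X : σ → MvPowerSeries σ R))) ^ N := by
  have h2 := mem_smul_top N g hg
  rw [← map_idealOfVars, ← Ideal.map_pow]
  have hle : (MvPolynomial.idealOfVars σ R) ^ N •
      (⊤ : Submodule (MvPolynomial σ R) (MvPowerSeries σ R)) ≤
      (Ideal.map (algebraMap (MvPolynomial σ R) (MvPowerSeries σ R))
        ((MvPolynomial.idealOfVars σ R) ^ N)).restrictScalars (MvPolynomial σ R) := by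
    rw [Submodule.smul_le]
    intro r hr t _
    rw [Submodule.restrictScalars_mem, Algebra.smul_def]
    exact Ideal.mul_mem_right _ _ (Ideal.mem_map_of_mem _ hr)
  exact hle h2
variable [IsLocalRing R]
open IsLocalRing

/-- the filtration `{f | coeff_d f ∈ m^(N - |d|)}` -/
def filt (σ : Type*) (R : Type*) [CommRing R] [IsLocalRing R] (N : ℕ) : Ideal (MvPowerSeries σ R) where
  carrier := {f | ∀ d : σ →₀ ℕ, coeff d f ∈ maximalIdeal R ^ (N - degree d)}
  add_mem' := fun hf hg d => by rw [map_add]; exact Ideal.add_mem _ (hf d) (hg d)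
  zero_mem' := fun d => by rw [map_zero]; exact Ideal.zero_mem _
  smul_mem' := fun c f hf d => by
    classical
    rw [smul_eq_mul, coeff_mul]
    refine Ideal.sum_mem _ fun p hp => ?_
    apply Ideal.mul_mem_left
    have h1 : p.1 + p.2 = d := Finset.HasAntidiagonal.mem_antidiagonal.1 hp
    have h2 : degree p.1 + degree p.2 = degree d := by rw [← map_add, h1]
    exact Ideal.pow_le_pow_right (by omega) (hf p.2)

omit [Finite σ] in
theorem mem_filt {N : ℕ} {f : MvPowerSeries σ R} :
    f ∈ filt σ R N ↔ ∀ d : σ →₀ ℕ, coeff d f ∈ maximalIdeal R ^ (N - degree d) := Iff.rfl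

omit [Finite σ] in
theorem filt_mul_le (a b : ℕ) : filt σ R a * filt σ R b ≤ filt σ R (a + b) := by
  classical
  rw [Ideal.mul_le]
  intro f hf g hg d
  rw [coeff_mul]
  refine Ideal.sum_mem _ fun p hp => ?_
  have h1 : p.1 + p.2 = d := Finset.HasAntidiagonal.mem_antidiagonal.1 hp
  have h2 : degree p.1 + degree p.2 = degree d := by rw [← map_add, h1]
  have h3 := Ideal.mul_mem_mul (hf p.1) (hg p.2)
  rw [← pow_add] at h3
  exact Ideal.pow_le_pow_right (by omega) h3

omit [Finite σ] in
theorem maximalIdeal_le_filt_one : maximalIdeal (MvPowerSeries σ R) ≤ filt σ R 1 := by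
  intro f hf d
  by_cases hd : d = 0
  · subst hd
    rw [map_zero, Nat.sub_zero, pow_one, mem_maximalIdeal, mem_nonunits_iff]
    intro hu
    apply (mem_maximalIdeal f).1 hf
    rw [MvPowerSeries.isUnit_iff_constantCoeff]
    exact hu
  · have : 1 - degree d = 0 := by
      have : degree d ≠ 0 := fun h => hd ((Finsupp.degree_eq_zero_iff d).1 h)
      omega
    rw [this, pow_zero]
    rw [Ideal.one_eq_top]; exact Submodule.mem_top

omit [Finite σ] in
theorem maximalIdeal_pow_le_filt (N : ℕ) : maximalIdeal (MvPowerSeries σ R) ^ N ≤ filt σ R N := by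
  induction N with
  | zero =>
    intro f _ d
    rw [Nat.zero_sub, pow_zero]
    rw [Ideal.one_eq_top]; exact Submodule.mem_top
  | succ N ih =>
    rw [pow_succ]
    exact (Ideal.mul_mono ih maximalIdeal_le_filt_one).trans (filt_mul_le N 1)

omit [Finite σ] in
theorem X_mem_maximalIdeal (i : σ) : (X i : MvPowerSeries σ R) ∈ maximalIdeal (MvPowerSeries σ R) := by
  rw [mem_maximalIdeal, mem_nonunits_iff, MvPowerSeries.isUnit_iff_constantCoeff, constantCoeff_X]
  exact not_isUnit_zero

omit [Finite σ] in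
theorem span_X_le_maximalIdeal :
    Ideal.span (Set.range (X : σ → MvPowerSeries σ R)) ≤ maximalIdeal (MvPowerSeries σ R) := by
  rw [Ideal.span_le]
  rintro _ ⟨i, rfl⟩
  exact X_mem_maximalIdeal i

omit [Finite σ] in
theorem C_mem_maximalIdeal_pow {c : R} {j : ℕ} (hc : c ∈ maximalIdeal R ^ j) :
    (C c : MvPowerSeries σ R) ∈ maximalIdeal (MvPowerSeries σ R) ^ j := by
  have h1 : Ideal.map (C : R →+* MvPowerSeries σ R) (maximalIdeal R) ≤ maximalIdeal (MvPowerSeries σ R) := by
    rw [Ideal.map_le_iff_le_comap]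
    intro r hr
    rw [Ideal.mem_comap, mem_maximalIdeal, mem_nonunits_iff, MvPowerSeries.isUnit_iff_constantCoeff,
      constantCoeff_C]
    exact hr
  have h2 := Ideal.mem_map_of_mem (C : R →+* MvPowerSeries σ R) hc
  rw [Ideal.map_pow] at h2
  exact Ideal.pow_right_mono h1 j h2

theorem monomial_mem_maximalIdeal_pow {N : ℕ} (d : σ →₀ ℕ) (hd : degree d < N) {c : R}
    (hc : c ∈ maximalIdeal R ^ (N - degree d)) :
    (monomial d c : MvPowerSeries σ R) ∈ maximalIdeal (MvPowerSeries σ R) ^ N := by
  classical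
  have h1 : (monomial d c : MvPowerSeries σ R) = C c * monomial d 1 := by
    rw [← monomial_zero_eq_C_apply, monomial_mul_monomial, zero_add, mul_one]
  have h2 : (monomial d (1 : R) : MvPowerSeries σ R) ∈ maximalIdeal (MvPowerSeries σ R) ^ (degree d) := by
    apply Ideal.pow_right_mono span_X_le_maximalIdeal
    apply mem_span_X_pow_of_coeff_eq_zero
    intro e he
    rw [coeff_monomial, if_neg]
    rintro rfl
    exact lt_irrefl _ he
  have h3 := Ideal.mul_mem_mul (C_mem_maximalIdeal_pow (σ := σ) hc) h2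
  rw [← pow_add, Nat.sub_add_cancel hd.le] at h3
  rw [h1]
  exact h3

theorem filt_le_maximalIdeal_pow (N : ℕ) : filt σ R N ≤ maximalIdeal (MvPowerSeries σ R) ^ N := by
  classical
  intro f hf
  have h1 : f = ((truncTotal N f : MvPolynomial σ R) : MvPowerSeries σ R) +
      (f - ((truncTotal N f : MvPolynomial σ R) : MvPowerSeries σ R)) := by ring
  rw [h1]
  apply Ideal.add_mem
  · rw [(truncTotal N f).as_sum]
    have : ((∑ v ∈ (truncTotal N f).support, MvPolynomial.monomial v ((truncTotal N f).coeff v) :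
        MvPolynomial σ R) : MvPowerSeries σ R) =
        ∑ v ∈ (truncTotal N f).support, (monomial v ((truncTotal N f).coeff v) : MvPowerSeries σ R) := by
      rw [← MvPolynomial.coeToMvPowerSeries.ringHom_apply, map_sum]
      refine Finset.sum_congr rfl fun v _ => ?_
      rw [MvPolynomial.coeToMvPowerSeries.ringHom_apply, MvPolynomial.coe_monomial]
    rw [this]
    refine Ideal.sum_mem _ fun v hv => ?_
    rw [coeff_truncTotal_eq_ite]
    split_ifs with h
    · exact monomial_mem_maximalIdeal_pow v h (hf v)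
    · rw [map_zero]; exact Ideal.zero_mem _
  · apply Ideal.pow_right_mono span_X_le_maximalIdeal
    apply mem_span_X_pow_of_coeff_eq_zero
    intro d hd
    rw [map_sub, MvPolynomial.coeff_coe, coeff_truncTotal _ hd, sub_self]

theorem maximalIdeal_pow_eq_filt (N : ℕ) : maximalIdeal (MvPowerSeries σ R) ^ N = filt σ R N :=
  le_antisymm (maximalIdeal_pow_le_filt N) (filt_le_maximalIdeal_pow N)

omit [Finite σ] in
theorem mem_filt_sub_iff {N : ℕ} {f g : MvPowerSeries σ R} :
    f - g ∈ filt σ R N ↔ ∀ d : σ →₀ ℕ, coeff d f - coeff d g ∈ maximalIdeal R ^ (N - degree d) := by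
  rw [mem_filt]
  simp only [map_sub]

theorem isAdicComplete_mvPowerSeries [IsAdicComplete (maximalIdeal R) R] :
    IsAdicComplete (maximalIdeal (MvPowerSeries σ R)) (MvPowerSeries σ R) := by
  have hH : IsHausdorff (maximalIdeal (MvPowerSeries σ R)) (MvPowerSeries σ R) := by
    refine ⟨fun x hx => ?_⟩
    ext d
    rw [map_zero]
    apply IsHausdorff.haus' (I := maximalIdeal R) (coeff d x)
    intro n
    have h1 := hx (n + degree d)
    rw [SModEq.zero, smul_eq_mul, Ideal.mul_top, maximalIdeal_pow_eq_filt] at h1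
    have h2 := h1 d
    rw [Nat.add_sub_cancel] at h2
    rw [SModEq.zero, smul_eq_mul, Ideal.mul_top]
    exact h2
  have hP : IsPrecomplete (maximalIdeal (MvPowerSeries σ R)) (MvPowerSeries σ R) := by
    refine ⟨fun f hf => ?_⟩
    have hf' : ∀ {m n : ℕ}, m ≤ n → f m - f n ∈ filt σ R m := by
      intro m n hmn
      have := hf hmn
      rw [SModEq.sub_mem, smul_eq_mul, Ideal.mul_top, maximalIdeal_pow_eq_filt] at this
      exact this
    have hc : ∀ d : σ →₀ ℕ, ∃ L : R, ∀ n, coeff d (f (n + degree d)) ≡ L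
        [SMOD (maximalIdeal R ^ n • ⊤ : Submodule R R)] := by
      intro d
      apply IsPrecomplete.prec' (I := maximalIdeal R) (fun n => coeff d (f (n + degree d)))
      intro m n hmn
      rw [SModEq.sub_mem, smul_eq_mul, Ideal.mul_top]
      have h1 := mem_filt_sub_iff.1 (hf' (show m + degree d ≤ n + degree d by omega)) d
      rw [Nat.add_sub_cancel] at h1
      exact h1
    choose L hL using hc
    obtain ⟨Lf, hLf⟩ : ∃ Lf : MvPowerSeries σ R, ∀ d, coeff d Lf = L d := ⟨fun d => L d, fun d => rfl⟩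
    refine ⟨Lf, fun n => ?_⟩
    rw [SModEq.sub_mem, smul_eq_mul, Ideal.mul_top, maximalIdeal_pow_eq_filt, mem_filt_sub_iff]
    intro d
    rw [hLf]
    by_cases hnd : n ≤ degree d
    · rw [Nat.sub_eq_zero_of_le hnd, pow_zero, Ideal.one_eq_top]
      exact Submodule.mem_top
    · have h1 := hL d (n - degree d)
      rw [SModEq.sub_mem, smul_eq_mul, Ideal.mul_top, Nat.sub_add_cancel (by omega)] at h1
      exact h1
  exact { toIsHausdorff := hH, toIsPrecomplete := hP }

section Eval

variable {σ : Type*} [Finite σ] {R : Type*} [CommRing R] {A : Type*} [CommRing A] [Algebra R A]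

omit [Finite σ] in
theorem aeval_kills (a : σ → A) (N : ℕ) (hN : Ideal.span (Set.range a) ^ N = ⊥) :
    ∀ p ∈ MvPolynomial.idealOfVars σ R ^ N, (MvPolynomial.aeval a : MvPolynomial σ R →ₐ[R] A).toRingHom p = 0 := by
  intro p hp
  have h1 : Ideal.map (MvPolynomial.aeval a : MvPolynomial σ R →ₐ[R] A).toRingHom
      (MvPolynomial.idealOfVars σ R ^ N) ≤ Ideal.span (Set.range a) ^ N := by
    rw [Ideal.map_pow]
    apply Ideal.pow_right_mono
    rw [Ideal.map_span, ← Set.range_comp]
    apply Ideal.span_mono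
    rintro _ ⟨i, rfl⟩
    exact ⟨i, by simp⟩
  have h2 := h1 (Ideal.mem_map_of_mem _ hp)
  rw [hN] at h2
  exact h2

/-- evaluation of power series at a nilpotent family -/
noncomputable def evalNil (a : σ → A) (N : ℕ) (hN : Ideal.span (Set.range a) ^ N = ⊥) :
    MvPowerSeries σ R →+* A :=
  (Ideal.Quotient.lift (MvPolynomial.idealOfVars σ R ^ N)
    (MvPolynomial.aeval a : MvPolynomial σ R →ₐ[R] A).toRingHom (aeval_kills a N hN)).comp
    (truncTotalAlgHom σ R N).toRingHom

theorem evalNil_coe (a : σ → A) (N : ℕ) (hN : Ideal.span (Set.range a) ^ N = ⊥) (p : MvPolynomial σ R) :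
    evalNil a N hN (p : MvPowerSeries σ R) = MvPolynomial.aeval a p := by
  have h1 : (truncTotalAlgHom σ R N) (p : MvPowerSeries σ R) =
      Ideal.Quotient.mk (MvPolynomial.idealOfVars σ R ^ N) p :=
    (truncTotalAlgHom σ R N).commutes p
  change Ideal.Quotient.lift (MvPolynomial.idealOfVars σ R ^ N)
    (MvPolynomial.aeval a : MvPolynomial σ R →ₐ[R] A).toRingHom (aeval_kills a N hN)
    ((truncTotalAlgHom σ R N) (p : MvPowerSeries σ R)) = _
  rw [h1, Ideal.Quotient.lift_mk]
  rfl

theorem evalNil_C (a : σ → A) (N : ℕ) (hN : Ideal.span (Set.range a) ^ N = ⊥) (r : R) :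
    evalNil a N hN (C r : MvPowerSeries σ R) = algebraMap R A r := by
  rw [← MvPolynomial.coe_C, evalNil_coe, MvPolynomial.aeval_C]

theorem evalNil_X (a : σ → A) (N : ℕ) (hN : Ideal.span (Set.range a) ^ N = ⊥) (i : σ) :
    evalNil a N hN (X i : MvPowerSeries σ R) = a i := by
  rw [← MvPolynomial.coe_X, evalNil_coe, MvPolynomial.aeval_X]

omit [Algebra R A] in
/-- two ring homomorphisms out of a power series ring which kill `(X)^N` and agree on constants and variables
are equal -/
theorem ringHom_ext_of_kills (φ ψ : MvPowerSeries σ R →+* A) (N : ℕ)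
    (hφ : ∀ g ∈ Ideal.span (Set.range (X : σ → MvPowerSeries σ R)) ^ N, φ g = 0)
    (hψ : ∀ g ∈ Ideal.span (Set.range (X : σ → MvPowerSeries σ R)) ^ N, ψ g = 0)
    (hC : ∀ r, φ (C r) = ψ (C r)) (hX : ∀ i, φ (X i) = ψ (X i)) : φ = ψ := by
  have hpoly : φ.comp (MvPolynomial.coeToMvPowerSeries.ringHom) = ψ.comp (MvPolynomial.coeToMvPowerSeries.ringHom) := by
    apply MvPolynomial.ringHom_ext
    · intro r
      simp only [RingHom.comp_apply, MvPolynomial.coeToMvPowerSeries.ringHom_apply, MvPolynomial.coe_C]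
      exact hC r
    · intro i
      simp only [RingHom.comp_apply, MvPolynomial.coeToMvPowerSeries.ringHom_apply, MvPolynomial.coe_X]
      exact hX i
  ext g
  have h1 : g = ((truncTotal N g : MvPolynomial σ R) : MvPowerSeries σ R) +
      (g - ((truncTotal N g : MvPolynomial σ R) : MvPowerSeries σ R)) := by ring
  have h2 : g - ((truncTotal N g : MvPolynomial σ R) : MvPowerSeries σ R) ∈
      Ideal.span (Set.range (X : σ → MvPowerSeries σ R)) ^ N := by
    apply mem_span_X_pow_of_coeff_eq_zero
    intro d hd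
    rw [map_sub, MvPolynomial.coeff_coe, coeff_truncTotal _ hd, sub_self]
  rw [h1, map_add, map_add, hφ _ h2, hψ _ h2]
  congr 1
  exact congrArg (fun χ : MvPolynomial σ R →+* A => χ (truncTotal N g)) hpoly

end Eval

section Kills

variable {σ : Type*} {R : Type*} [CommRing R] {A : Type*} [CommRing A]

/-- a ring homomorphism out of a power series ring sending the variables to a family generating a nilpotent
ideal kills `(X)^N` -/
theorem kills_of_pow_eq_bot (φ : MvPowerSeries σ R →+* A) (N : ℕ)
    (h : Ideal.span (Set.range fun i => φ (X i)) ^ N = ⊥) :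
    ∀ g ∈ Ideal.span (Set.range (X : σ → MvPowerSeries σ R)) ^ N, φ g = 0 := by
  intro g hg
  have h1 : Ideal.map φ (Ideal.span (Set.range (X : σ → MvPowerSeries σ R)) ^ N) ≤
      Ideal.span (Set.range fun i => φ (X i)) ^ N := by
    rw [Ideal.map_pow]
    apply Ideal.pow_right_mono
    rw [Ideal.map_span, ← Set.range_comp]
    exact le_rfl
  have h2 := h1 (Ideal.mem_map_of_mem _ hg)
  rw [h] at h2
  exact h2

end Kills

section MaxIdeal

variable {σ : Type*} [Finite σ] {R : Type*} [CommRing R] [IsLocalRing R]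

open IsLocalRing

/-- `f - C (constantCoeff f) ∈ (X)` -/
theorem sub_C_constantCoeff_mem (f : MvPowerSeries σ R) :
    f - C (constantCoeff f) ∈ Ideal.span (Set.range (X : σ → MvPowerSeries σ R)) := by
  have h := mem_span_X_pow_of_coeff_eq_zero 1 (f - C (constantCoeff f)) (by
    intro d hd
    have hd0 : d = 0 := by
      rw [← Finsupp.degree_eq_zero_iff]
      omega
    subst hd0
    rw [map_sub, coeff_zero_eq_constantCoeff_apply, coeff_zero_eq_constantCoeff_apply, constantCoeff_C, sub_self])
  rwa [pow_one] at h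

theorem maximalIdeal_eq_sup :
    maximalIdeal (MvPowerSeries σ R) =
      Ideal.map (C : R →+* MvPowerSeries σ R) (maximalIdeal R) ⊔
        Ideal.span (Set.range (X : σ → MvPowerSeries σ R)) := by
  apply le_antisymm
  · intro f hf
    have h1 : constantCoeff f ∈ maximalIdeal R := by
      have := maximalIdeal_le_filt_one hf 0
      rwa [map_zero, Nat.sub_zero, pow_one, coeff_zero_eq_constantCoeff_apply] at this
    have h2 : f = C (constantCoeff f) + (f - C (constantCoeff f)) := by ring
    rw [h2]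
    exact Ideal.add_mem _ (Ideal.mem_sup_left (Ideal.mem_map_of_mem _ h1))
      (Ideal.mem_sup_right (sub_C_constantCoeff_mem f))
  · apply sup_le
    · rw [Ideal.map_le_iff_le_comap]
      intro r hr
      have hr1 : r ∈ maximalIdeal R ^ 1 := by rwa [pow_one]
      have := C_mem_maximalIdeal_pow (σ := σ) hr1
      rwa [pow_one] at this
    · exact span_X_le_maximalIdeal

end MaxIdeal

end PS

end Groth.Agent.Lib.Helper1.ArtFunLib
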