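import Mathlib
import Groth.Prelude.Def_ArtFun5
import Groth.Agent.Lib.Helper1.ArtFunPS
import Groth.Agent.Lib.Helper1.ArtFunArt
import Groth.Agent.Lib.Helper1.ArtFunFormal

/-!
# The power series ring `R[[X₁,…,Xₙ]]` over a complete local Noetherian augmented algebra
-/
universe u v
open CategoryTheory

namespace Groth.Agent.Lib.Helper1.ArtFunLib

open ArtFun ArtFun.Art MvPowerSeries

variable {Λ : Type u} {k : Type u} [CommRing Λ] [Field k] [Algebra Λ k]

section Ring

variable (R : CRing Λ k) (n : ℕ)

/-- the constant coefficient as a `Λ`-algebra map -/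
noncomputable def psConst : MvPowerSeries (Fin n) R.carrier →ₐ[Λ] R.carrier :=
  { (constantCoeff : MvPowerSeries (Fin n) R.carrier →+* R.carrier) with
    commutes' := fun l => by
      change constantCoeff (algebraMap Λ (MvPowerSeries (Fin n) R.carrier) l) = _
      rw [MvPowerSeries.algebraMap_apply, constantCoeff_C] }

lemma psConst_apply (f : MvPowerSeries (Fin n) R.carrier) : psConst R n f = constantCoeff f := rfl

/-- the constants as a `Λ`-algebra map -/
noncomputable def psC : R.carrier →ₐ[Λ] MvPowerSeries (Fin n) R.carrier :=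
  { (C : R.carrier →+* MvPowerSeries (Fin n) R.carrier) with
    commutes' := fun l => by
      change C (algebraMap Λ R.carrier l) = algebraMap Λ (MvPowerSeries (Fin n) R.carrier) l
      rw [MvPowerSeries.algebraMap_apply] }

lemma psC_apply (r : R.carrier) : psC R n r = C r := rfl

/-- `R[[X₁,…,Xₙ]]` as a complete local Noetherian augmented algebra -/
noncomputable def psCRing : CRing Λ k where
  carrier := MvPowerSeries (Fin n) R.carrier
  res := R.res.comp (psConst R n)
  res_surjective := fun c => by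
    obtain ⟨r, hr⟩ := R.res_surjective c
    exact ⟨C r, by rw [AlgHom.comp_apply, psConst_apply, constantCoeff_C, hr]⟩
  isAdicComplete := by
    haveI := R.isAdicComplete
    exact PS.isAdicComplete_mvPowerSeries

lemma psCRing_res_apply (f : MvPowerSeries (Fin n) R.carrier) :
    (psCRing R n).res f = R.res (constantCoeff f) := rfl

lemma psCRing_res_comp_psC : (psCRing R n).res.comp (psC R n) = R.res := by
  apply AlgHom.ext
  intro r
  change R.res (constantCoeff (C r : MvPowerSeries (Fin n) R.carrier)) = R.res r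
  rw [constantCoeff_C]

lemma psX_mem (i : Fin n) : (X i : MvPowerSeries (Fin n) R.carrier) ∈
    IsLocalRing.maximalIdeal (psCRing R n).carrier :=
  PS.X_mem_maximalIdeal i

end Ring

section EvalArt

variable {R : CRing Λ k} {n : ℕ} {A : Art Λ k}

lemma span_pow_eq_bot_of_mem (a : Fin n → A) (ha : ∀ i, a i ∈ IsLocalRing.maximalIdeal A) (N : ℕ)
    (hN : IsLocalRing.maximalIdeal A ^ N = ⊥) : Ideal.span (Set.range a) ^ N = ⊥ := by
  rw [eq_bot_iff, ← hN]
  apply Ideal.pow_right_mono
  rw [Ideal.span_le]
  rintro _ ⟨i, rfl⟩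
  exact ha i

/-- maps out of `R[[X]]` in `h(A)` send the variables into the maximal ideal -/
lemma psHom_X_mem (φ : HomSet (psCRing R n).carrier (psCRing R n).res A) (i : Fin n) :
    φ.1 (X i : MvPowerSeries (Fin n) R.carrier) ∈ IsLocalRing.maximalIdeal A := by
  rw [mem_maximalIdeal_iff]
  have h1 : A.res (φ.1 (X i : MvPowerSeries (Fin n) R.carrier)) =
      (psCRing R n).res (X i : MvPowerSeries (Fin n) R.carrier) :=
    congrArg (fun χ : (psCRing R n).carrier →ₐ[Λ] k => χ (X i : MvPowerSeries (Fin n) R.carrier)) φ.2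
  rw [h1, psCRing_res_apply, constantCoeff_X, map_zero]

lemma psHom_kills (φ : HomSet (psCRing R n).carrier (psCRing R n).res A) (N : ℕ)
    (hN : IsLocalRing.maximalIdeal A ^ N = ⊥) :
    ∀ g ∈ Ideal.span (Set.range (X : Fin n → MvPowerSeries (Fin n) R.carrier)) ^ N, φ.1 g = 0 := by
  have h := PS.kills_of_pow_eq_bot (σ := Fin n) (R := R.carrier) (A := A)
    (φ.1 : MvPowerSeries (Fin n) R.carrier →ₐ[Λ] A).toRingHom N
    (span_pow_eq_bot_of_mem _ (fun i => psHom_X_mem φ i) N hN)
  exact h

/-- two elements of `h_{R[[X]]}(A)` agreeing on constants and variables are equal -/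
theorem psHom_ext (φ ψ : HomSet (psCRing R n).carrier (psCRing R n).res A)
    (hC : ∀ r : R.carrier, φ.1 (C r : MvPowerSeries (Fin n) R.carrier) = ψ.1 (C r : MvPowerSeries (Fin n) R.carrier))
    (hX : ∀ i, φ.1 (X i : MvPowerSeries (Fin n) R.carrier) = ψ.1 (X i : MvPowerSeries (Fin n) R.carrier)) :
    φ = ψ := by
  obtain ⟨N, hN⟩ := exists_maximalIdeal_pow_eq_bot A
  have h := PS.ringHom_ext_of_kills (σ := Fin n) (R := R.carrier) (A := A)
    (φ.1 : MvPowerSeries (Fin n) R.carrier →ₐ[Λ] A).toRingHom
    (ψ.1 : MvPowerSeries (Fin n) R.carrier →ₐ[Λ] A).toRingHom N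
    (psHom_kills φ N hN) (psHom_kills ψ N hN) hC hX
  apply Subtype.ext
  apply AlgHom.ext
  intro g
  exact congrArg (fun χ : MvPowerSeries (Fin n) R.carrier →+* A => χ g) h

/-- restriction to the constants -/
noncomputable def psRestr (φ : HomSet (psCRing R n).carrier (psCRing R n).res A) :
    HomSet R.carrier R.res A :=
  ⟨φ.1.comp (psC R n), by rw [← AlgHom.comp_assoc, φ.2, psCRing_res_comp_psC]⟩

lemma psRestr_apply (φ : HomSet (psCRing R n).carrier (psCRing R n).res A) (r : R.carrier) :
    (psRestr φ).1 r = φ.1 (C r : MvPowerSeries (Fin n) R.carrier) := rfl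

/-- the ring homomorphism underlying `psEval` -/
noncomputable def psEvalRing (u : HomSet R.carrier R.res A) (a : Fin n → A)
    (ha : ∀ i, a i ∈ IsLocalRing.maximalIdeal A) : MvPowerSeries (Fin n) R.carrier →+* A :=
  letI : Algebra R.carrier A := u.1.toRingHom.toAlgebra
  PS.evalNil a (exists_maximalIdeal_pow_eq_bot A).choose
    (span_pow_eq_bot_of_mem a ha _ (exists_maximalIdeal_pow_eq_bot A).choose_spec)

lemma psEvalRing_C (u : HomSet R.carrier R.res A) (a : Fin n → A)
    (ha : ∀ i, a i ∈ IsLocalRing.maximalIdeal A) (r : R.carrier) :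
    psEvalRing u a ha (C r) = u.1 r := by
  letI : Algebra R.carrier A := u.1.toRingHom.toAlgebra
  exact PS.evalNil_C a _ _ r

lemma psEvalRing_X (u : HomSet R.carrier R.res A) (a : Fin n → A)
    (ha : ∀ i, a i ∈ IsLocalRing.maximalIdeal A) (i : Fin n) :
    psEvalRing u a ha (X i) = a i := by
  letI : Algebra R.carrier A := u.1.toRingHom.toAlgebra
  exact PS.evalNil_X a _ _ i

/-- the evaluation map `R[[X]] → A`, extending `u : R → A` and sending `X i` to `a i ∈ m_A` -/
noncomputable def psEval (u : HomSet R.carrier R.res A) (a : Fin n → A)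
    (ha : ∀ i, a i ∈ IsLocalRing.maximalIdeal A) :
    HomSet (psCRing R n).carrier (psCRing R n).res A := by
  refine ⟨{ psEvalRing u a ha with commutes' := fun l => ?_ }, ?_⟩
  · change psEvalRing u a ha (algebraMap Λ (MvPowerSeries (Fin n) R.carrier) l) = _
    rw [MvPowerSeries.algebraMap_apply, psEvalRing_C, AlgHom.commutes]
  · obtain ⟨N, hN⟩ := exists_maximalIdeal_pow_eq_bot A
    have hN0 : N ≠ 0 := by
      rintro rfl
      rw [pow_zero, Ideal.one_eq_top] at hN
      exact top_ne_bot hN
    have h := PS.ringHom_ext_of_kills (σ := Fin n) (R := R.carrier) (A := k)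
      ((A.res : A →+* k).comp (psEvalRing u a ha))
      ((R.res : R.carrier →+* k).comp (constantCoeff : MvPowerSeries (Fin n) R.carrier →+* R.carrier)) N
      ?_ ?_ ?_ ?_
    · apply AlgHom.ext
      intro g
      exact congrArg (fun χ : MvPowerSeries (Fin n) R.carrier →+* k => χ g) h
    · apply PS.kills_of_pow_eq_bot
      have : (fun i => ((A.res : A →+* k).comp (psEvalRing u a ha)) (X i)) = fun _ => 0 := by
        funext i
        rw [RingHom.comp_apply, psEvalRing_X]
        exact (mem_maximalIdeal_iff A (a i)).1 (ha i)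
      rw [this]
      rw [eq_bot_iff]
      refine (Ideal.pow_le_self hN0).trans ?_
      rw [Ideal.span_le]
      rintro _ ⟨i, rfl⟩
      exact Ideal.zero_mem _
    · apply PS.kills_of_pow_eq_bot
      have : (fun i => ((R.res : R.carrier →+* k).comp
          (constantCoeff : MvPowerSeries (Fin n) R.carrier →+* R.carrier)) (X i)) = fun _ => 0 := by
        funext i
        rw [RingHom.comp_apply, constantCoeff_X, map_zero]
      rw [this]
      rw [eq_bot_iff]
      refine (Ideal.pow_le_self hN0).trans ?_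
      rw [Ideal.span_le]
      rintro _ ⟨i, rfl⟩
      exact Ideal.zero_mem _
    · intro r
      rw [RingHom.comp_apply, RingHom.comp_apply, psEvalRing_C, constantCoeff_C]
      exact congrArg (fun χ : R.carrier →ₐ[Λ] k => χ r) u.2
    · intro i
      rw [RingHom.comp_apply, RingHom.comp_apply, psEvalRing_X, constantCoeff_X, map_zero]
      exact (mem_maximalIdeal_iff A (a i)).1 (ha i)

lemma psEval_C (u : HomSet R.carrier R.res A) (a : Fin n → A)
    (ha : ∀ i, a i ∈ IsLocalRing.maximalIdeal A) (r : R.carrier) :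
    (psEval u a ha).1 (C r : MvPowerSeries (Fin n) R.carrier) = u.1 r :=
  psEvalRing_C u a ha r

lemma psEval_X (u : HomSet R.carrier R.res A) (a : Fin n → A)
    (ha : ∀ i, a i ∈ IsLocalRing.maximalIdeal A) (i : Fin n) :
    (psEval u a ha).1 (X i : MvPowerSeries (Fin n) R.carrier) = a i :=
  psEvalRing_X u a ha i

lemma psRestr_psEval (u : HomSet R.carrier R.res A) (a : Fin n → A)
    (ha : ∀ i, a i ∈ IsLocalRing.maximalIdeal A) : psRestr (psEval u a ha) = u := by
  apply Subtype.ext
  apply AlgHom.ext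
  intro r
  rw [psRestr_apply, psEval_C]

/-- every element of `h_{R[[X]]}(A)` is an evaluation -/
lemma psEval_eta (φ : HomSet (psCRing R n).carrier (psCRing R n).res A) :
    psEval (psRestr φ) (fun i => φ.1 (X i : MvPowerSeries (Fin n) R.carrier)) (fun i => psHom_X_mem φ i) = φ := by
  apply psHom_ext
  · intro r
    rw [psEval_C, psRestr_apply]
  · intro i
    rw [psEval_X]

end EvalArt

section EvalCRing

variable {R : CRing Λ k} {n : ℕ} (S : CRing Λ k)

/-- elements of a complete local ring agreeing in all truncations are equal -/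
lemma eq_of_truncHom_eq {s s' : S.carrier} (h : ∀ N, (S.truncHom N).1 s = (S.truncHom N).1 s') : s = s' := by
  haveI := S.isAdicComplete
  rw [← sub_eq_zero]
  apply IsHausdorff.haus (inferInstance : IsHausdorff (IsLocalRing.maximalIdeal S.carrier) S.carrier)
  intro N
  rw [SModEq.zero, smul_eq_mul, Ideal.mul_top]
  have hN := h N
  change Ideal.Quotient.mk (S.mpow N) s = Ideal.Quotient.mk (S.mpow N) s' at hN
  rw [Ideal.Quotient.eq] at hN
  exact Ideal.pow_le_pow_right (Nat.le_succ N) hN

lemma truncHom_mem_maximalIdeal {s : S.carrier} (hs : s ∈ IsLocalRing.maximalIdeal S.carrier) (N : ℕ) :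
    (S.truncHom N).1 s ∈ IsLocalRing.maximalIdeal (S.trunc N) := by
  rw [mem_maximalIdeal_iff]
  have h1 : (S.trunc N).res ((S.truncHom N).1 s) = S.res s :=
    congrArg (fun χ : S.carrier →ₐ[Λ] k => χ s) (S.truncHom N).2
  rw [h1]
  exact (CRing.mem_maximalIdeal_iff S s).1 hs

variable {S}

/-- existence of the evaluation map `R[[X]] → S` into a complete local ring -/
theorem exists_psEvalC (u : R.carrier →ₐ[Λ] S.carrier) (hu : S.res.comp u = R.res)
    (x : Fin n → S.carrier) (hx : ∀ i, x i ∈ IsLocalRing.maximalIdeal S.carrier) :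
    ∃ (g : MvPowerSeries (Fin n) R.carrier →ₐ[Λ] S.carrier) (_ : S.res.comp g = (psCRing R n).res),
      (∀ r : R.carrier, g (C r) = u r) ∧ ∀ i, g (X i) = x i := by
  let uN : ∀ N, HomSet R.carrier R.res (S.trunc N) := fun N =>
    ⟨(S.truncHom N).1.comp u, by rw [← AlgHom.comp_assoc, (S.truncHom N).2, hu]⟩
  let ψ : ∀ N, HomSet (psCRing R n).carrier (psCRing R n).res (S.trunc N) := fun N =>
    psEval (uN N) (fun i => (S.truncHom N).1 (x i)) (fun i => truncHom_mem_maximalIdeal S (hx i) N)
  have hψ : ∀ N, HomSet.map (S.truncMap N) (ψ (N + 1)) = ψ N := by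
    intro N
    apply psHom_ext
    · intro r
      change S.truncMap N ((ψ (N + 1)).1 (C r : MvPowerSeries (Fin n) R.carrier)) =
        (ψ N).1 (C r : MvPowerSeries (Fin n) R.carrier)
      rw [psEval_C, psEval_C]
      rfl
    · intro i
      change S.truncMap N ((ψ (N + 1)).1 (X i : MvPowerSeries (Fin n) R.carrier)) =
        (ψ N).1 (X i : MvPowerSeries (Fin n) R.carrier)
      rw [psEval_X, psEval_X]
      rfl
  obtain ⟨g, hg, hgN⟩ := exists_lift_of_compatible ψ hψ
  refine ⟨g, hg, ?_, ?_⟩
  · intro r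
    apply eq_of_truncHom_eq S
    intro N
    have h1 : (S.truncHom N).1 (g (C r : MvPowerSeries (Fin n) R.carrier)) =
        (ψ N).1 (C r : MvPowerSeries (Fin n) R.carrier) :=
      congrArg (fun χ : (psCRing R n).carrier →ₐ[Λ] (S.trunc N) => χ (C r : MvPowerSeries (Fin n) R.carrier)) (hgN N)
    refine h1.trans ?_
    rw [psEval_C]
    rfl
  · intro i
    apply eq_of_truncHom_eq S
    intro N
    have h1 : (S.truncHom N).1 (g (X i : MvPowerSeries (Fin n) R.carrier)) =
        (ψ N).1 (X i : MvPowerSeries (Fin n) R.carrier) :=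
      congrArg (fun χ : (psCRing R n).carrier →ₐ[Λ] (S.trunc N) => χ (X i : MvPowerSeries (Fin n) R.carrier)) (hgN N)
    refine h1.trans ?_
    rw [psEval_X]

end EvalCRing

end Groth.Agent.Lib.Helper1.ArtFunLib
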