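import Mathlib
import Groth.Prelude.Def_ArtFun5

/-!
# Surjectivity via cotangent spaces for augmented complete local algebras
-/
universe u v w
open CategoryTheory

namespace Groth.Agent.Lib.Helper1.ArtFunLib

open ArtFun ArtFun.Art

section General

variable {Λ : Type u} {k : Type u} [CommRing Λ] [Field k] [Algebra Λ k]
variable {R S : Type u} [CommRing R] [CommRing S] [Algebra Λ R] [Algebra Λ S] [IsLocalRing R] [IsLocalRing S]

lemma mem_maximalIdeal_iff_res (resR : R →ₐ[Λ] k) (hres : Function.Surjective resR) (a : R) :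
    a ∈ IsLocalRing.maximalIdeal R ↔ resR a = 0 := by
  have hmax : (RingHom.ker (resR : R →+* k)).IsMaximal :=
    RingHom.ker_isMaximal_of_surjective (resR : R →+* k) hres
  rw [← IsLocalRing.eq_maximalIdeal hmax, RingHom.mem_ker]
  rfl

variable (resR : R →ₐ[Λ] k) (resS : S →ₐ[Λ] k) (hresR : Function.Surjective resR)
  (hresS : Function.Surjective resS) (f : R →ₐ[Λ] S) (hf : resS.comp f = resR)

include hresR hresS hf

lemma res_comp_apply (r : R) : resS (f r) = resR r := by
  rw [← hf]; rfl

lemma map_maximalIdeal_le : Ideal.map f (IsLocalRing.maximalIdeal R) ≤ IsLocalRing.maximalIdeal S := by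
  rw [Ideal.map_le_iff_le_comap]
  intro x hx
  rw [Ideal.mem_comap, mem_maximalIdeal_iff_res resS hresS, res_comp_apply resR resS hresR hresS f hf]
  exact (mem_maximalIdeal_iff_res resR hresR x).1 hx

lemma map_ker_algebraMap_le :
    Ideal.map (algebraMap Λ S) (RingHom.ker (algebraMap Λ k)) ≤ Ideal.map f (IsLocalRing.maximalIdeal R) := by
  rw [Ideal.map_le_iff_le_comap]
  intro l hl
  rw [Ideal.mem_comap, ← f.commutes]
  apply Ideal.mem_map_of_mem
  rw [mem_maximalIdeal_iff_res resR hresR, AlgHom.commutes]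
  exact hl

lemma map_maximalIdeal_eq_of_surjective (hfs : Function.Surjective f) :
    Ideal.map f (IsLocalRing.maximalIdeal R) = IsLocalRing.maximalIdeal S := by
  apply le_antisymm (map_maximalIdeal_le resR resS hresR hresS f hf)
  intro s hs
  obtain ⟨r, rfl⟩ := hfs s
  apply Ideal.mem_map_of_mem
  rw [mem_maximalIdeal_iff_res resR hresR, ← res_comp_apply resR resS hresR hresS f hf]
  exact (mem_maximalIdeal_iff_res resS hresS _).1 hs

lemma map_maximalIdeal_eq_of_sup_sq [IsNoetherianRing S]
    (h : Ideal.map f (IsLocalRing.maximalIdeal R) ⊔ IsLocalRing.maximalIdeal S ^ 2 = IsLocalRing.maximalIdeal S) :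
    Ideal.map f (IsLocalRing.maximalIdeal R) = IsLocalRing.maximalIdeal S := by
  apply le_antisymm (map_maximalIdeal_le resR resS hresR hresS f hf)
  apply Submodule.le_of_le_smul_of_le_jacobson_bot (I := IsLocalRing.maximalIdeal S)
    (IsNoetherian.noetherian _) (IsLocalRing.maximalIdeal_le_jacobson _)
  rw [smul_eq_mul, ← pow_two, h]

theorem surjective_of_map_maximalIdeal_eq [IsPrecomplete (IsLocalRing.maximalIdeal R) R] [IsNoetherianRing S]
    (h : Ideal.map f (IsLocalRing.maximalIdeal R) = IsLocalRing.maximalIdeal S) : Function.Surjective f := by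
  have haus : IsHausdorff ((IsLocalRing.maximalIdeal R).map (f : R →+* S)) S := by
    have : (IsLocalRing.maximalIdeal R).map (f : R →+* S) = IsLocalRing.maximalIdeal S := h
    rw [this]
    infer_instance
  apply surjective_of_mk_map_comp_surjective (I := IsLocalRing.maximalIdeal R) (f : R →+* S)
  intro y
  obtain ⟨s, rfl⟩ := Ideal.Quotient.mk_surjective y
  obtain ⟨r, hr⟩ := hresR (resS s)
  refine ⟨r, ?_⟩
  change Ideal.Quotient.mk _ (f r) = Ideal.Quotient.mk _ s
  rw [Ideal.Quotient.eq]
  have : (IsLocalRing.maximalIdeal R).map (f : R →+* S) = IsLocalRing.maximalIdeal S := h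
  rw [this, mem_maximalIdeal_iff_res resS hresS, map_sub, res_comp_apply resR resS hresR hresS f hf, hr,
    sub_self]

theorem surjective_tfae_cotangent [IsPrecomplete (IsLocalRing.maximalIdeal R) R] [IsNoetherianRing S] :
    List.TFAE [Function.Surjective f,
      Ideal.map f (IsLocalRing.maximalIdeal R) ⊔ IsLocalRing.maximalIdeal S ^ 2 = IsLocalRing.maximalIdeal S,
      Ideal.map (algebraMap Λ S) (RingHom.ker (algebraMap Λ k)) ⊔ Ideal.map f (IsLocalRing.maximalIdeal R) ⊔
        IsLocalRing.maximalIdeal S ^ 2 = IsLocalRing.maximalIdeal S] := by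
  have hX := map_ker_algebraMap_le resR resS hresR hresS f hf
  have h23 : Ideal.map (algebraMap Λ S) (RingHom.ker (algebraMap Λ k)) ⊔ Ideal.map f (IsLocalRing.maximalIdeal R) =
      Ideal.map f (IsLocalRing.maximalIdeal R) := sup_eq_right.2 hX
  tfae_have 1 → 2 := by
    intro hfs
    rw [map_maximalIdeal_eq_of_surjective resR resS hresR hresS f hf hfs]
    exact sup_eq_left.2 (Ideal.pow_le_self two_ne_zero)
  tfae_have 2 → 3 := by
    intro h
    rw [h23, h]
  tfae_have 3 → 1 := by
    intro h
    rw [h23] at h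
    exact surjective_of_map_maximalIdeal_eq resR resS hresR hresS f hf
      (map_maximalIdeal_eq_of_sup_sq resR resS hresR hresS f hf h)
  tfae_finish

end General

end Groth.Agent.Lib.Helper1.ArtFunLib
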