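import Mathlib
import Groth.Prelude.Def_W4sfdMinVersal
import Groth.Agent.Lib.Helper1.ArtFunFormal
import Groth.Agent.Lib.Helper1.ArtFunCotangent

/-!
# Versality along surjections of complete local rings
-/
universe u v
open CategoryTheory

namespace Groth.Agent.Lib.Helper1.ArtFunLib

open ArtFun ArtFun.Art

variable {Λ : Type u} {k : Type u} [CommRing Λ] [Field k] [Algebra Λ k]

section

variable {A' A : CRing Λ k} (g : A'.carrier →ₐ[Λ] A.carrier) (hg : A.res.comp g = A'.res)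

lemma truncMapOfHom_mk (n : ℕ) (a : A'.carrier) :
    CRing.truncMapOfHom g hg n (Ideal.Quotient.mk _ a) = Ideal.Quotient.mk _ (g a) := rfl

lemma truncMapOfHom_truncHom (n : ℕ) :
    HomSet.map (CRing.truncMapOfHom g hg n) (A'.truncHom n) =
      ⟨(A.truncHom n).1.comp g, by rw [← AlgHom.comp_assoc, (A.truncHom n).2, hg]⟩ :=
  Subtype.ext (AlgHom.ext fun _ => rfl)

lemma truncMapOfHom_surjective (hgs : Function.Surjective g) (n : ℕ) :
    Function.Surjective (CRing.truncMapOfHom g hg n) := by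
  intro x
  obtain ⟨a, rfl⟩ := Ideal.Quotient.mk_surjective x
  obtain ⟨a', rfl⟩ := hgs a
  exact ⟨Ideal.Quotient.mk _ a', rfl⟩

include hg in
lemma exists_mem_mpow_of_surjective (hgs : Function.Surjective g) (n : ℕ) (a : A.carrier) (ha : a ∈ A.mpow n) :
    ∃ x ∈ A'.mpow n, g x = a := by
  have h1 : Ideal.map g (IsLocalRing.maximalIdeal A'.carrier) = IsLocalRing.maximalIdeal A.carrier :=
    map_maximalIdeal_eq_of_surjective A'.res A.res A'.res_surjective A.res_surjective g hg hgs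
  have h2 : Ideal.map g (A'.mpow n) = A.mpow n := by
    rw [CRing.mpow, Ideal.map_pow, h1]
  rw [← h2] at ha
  obtain ⟨x, hx, hxa⟩ := (Ideal.mem_map_iff_of_surjective g hgs).1 ha
  exact ⟨x, hx, hxa⟩

variable [IsNoetherianRing Λ] [Module.Finite Λ k]

/-- `A'/m^(n+2) → A'/m^(n+1) ×_{A/m^(n+1)} A/m^(n+2)` is surjective -/
lemma surjective_to_fibreProd (hgs : Function.Surjective g) (n : ℕ) {B : Art Λ k}
    {π₁ : B ⟶ A'.trunc n} {π₂ : B ⟶ A.trunc (n + 1)}
    (hB : IsFibreProd π₁ π₂ (CRing.truncMapOfHom g hg n) (A.truncMap n))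
    (c : A'.trunc (n + 1) ⟶ B) (hc1 : c ≫ π₁ = A'.truncMap n) (hc2 : c ≫ π₂ = CRing.truncMapOfHom g hg (n + 1)) :
    Function.Surjective c := by
  intro b
  obtain ⟨a', ha'⟩ := Ideal.Quotient.mk_surjective (π₁ b)
  obtain ⟨a, ha⟩ := Ideal.Quotient.mk_surjective (π₂ b)
  have hw := hB.w_apply b
  rw [← ha', ← ha] at hw
  have hw' : (Ideal.Quotient.mk (A.mpow n)) (g a') = (Ideal.Quotient.mk (A.mpow n)) a := hw
  have hmem : a - g a' ∈ A.mpow n := by
    have := (Ideal.Quotient.eq.1 hw')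
    have h2 : a - g a' = -(g a' - a) := by ring
    rw [h2]
    exact (A.mpow n).neg_mem this
  obtain ⟨x, hx, hgx⟩ := exists_mem_mpow_of_surjective g hg hgs n _ hmem
  refine ⟨Ideal.Quotient.mk _ (a' + x), ?_⟩
  apply hB.inj
  · have : π₁ (c (Ideal.Quotient.mk _ (a' + x))) = A'.truncMap n (Ideal.Quotient.mk _ (a' + x)) :=
      congrArg (fun m : A'.trunc (n + 1) ⟶ A'.trunc n => m (Ideal.Quotient.mk _ (a' + x))) hc1
    rw [this, ← ha', truncMap_mk]
    exact Ideal.Quotient.eq.2 (by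
      have : a' + x - a' = x := by ring
      rw [this]; exact hx)
  · have : π₂ (c (Ideal.Quotient.mk _ (a' + x))) =
        CRing.truncMapOfHom g hg (n + 1) (Ideal.Quotient.mk _ (a' + x)) :=
      congrArg (fun m : A'.trunc (n + 1) ⟶ A.trunc (n + 1) => m (Ideal.Quotient.mk _ (a' + x))) hc2
    rw [this, ← ha, truncMapOfHom_mk, map_add, hgx]
    have : g a' + (a - g a') = a := by ring
    rw [this]

variable {F : Art Λ k ⥤ Type v}

theorem exists_lift_along_toFormalElt_eq (hRS : RS F) (R : CRing Λ k) (ξ : Family R.carrier R.res F)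
    (hξ : IsVersal ξ) (hgs : Function.Surjective g) (η' : FormalElt F A')
    (φ : R.carrier →ₐ[Λ] A.carrier) (hφ : A.res.comp φ = R.res)
    (hsq : (ξ.along φ hφ).toFormalElt = η'.push g hg) :
    ∃ (ψ : R.carrier →ₐ[Λ] A'.carrier) (hψ : A'.res.comp ψ = R.res),
      g.comp ψ = φ ∧ (ξ.along ψ hψ).toFormalElt = η' := by
  -- the truncations of φ
  let φn : ∀ n, HomSet R.carrier R.res (A.trunc n) := fun n =>
    ⟨(A.truncHom n).1.comp φ, by rw [← AlgHom.comp_assoc, (A.truncHom n).2, hφ]⟩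
  have hφn : ∀ n, HomSet.map (A.truncMap n) (φn (n + 1)) = φn n := fun n =>
    Subtype.ext (AlgHom.ext fun _ => rfl)
  have hsqn : ∀ n, ξ.app _ (φn n) = F.map (CRing.truncMapOfHom g hg n) (η'.elt n) := fun n =>
    congrArg (fun w : FormalElt F A => w.elt n) hsq
  -- base
  obtain ⟨ψ0, hψ0b, hψ0a⟩ := hξ (CRing.truncMapOfHom g hg 0) (truncMapOfHom_surjective g hg hgs 0) (φn 0)
    (η'.elt 0) (hsqn 0).symm
  obtain ⟨s, -, hs⟩ := exists_dep_seq
    (X := fun n => {ψ : HomSet R.carrier R.res (A'.trunc n) //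
      ξ.app _ ψ = η'.elt n ∧ HomSet.map (CRing.truncMapOfHom g hg n) ψ = φn n})
    (fun n x y => HomSet.map (A'.truncMap n) y.1 = x.1) ⟨ψ0, hψ0a, hψ0b⟩ (by
      rintro n ⟨ψn, ha, hb⟩
      obtain ⟨B, π₁, π₂, hB⟩ := exists_isFibreProd_of_surjective (CRing.truncMapOfHom g hg n) (A.truncMap n)
        (truncMap_surjective A n)
      have ec : A'.truncMap n ≫ CRing.truncMapOfHom g hg n = CRing.truncMapOfHom g hg (n + 1) ≫ A.truncMap n :=
        (CRing.truncMapOfHom_truncMap g hg n).symm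
      set c : A'.trunc (n + 1) ⟶ B := fpLiftHom hB (A'.truncMap n) (CRing.truncMapOfHom g hg (n + 1)) ec with hc
      have hc1 : c ≫ π₁ = A'.truncMap n := fpLiftHom_fst hB _ _ ec
      have hc2 : c ≫ π₂ = CRing.truncMapOfHom g hg (n + 1) := fpLiftHom_snd hB _ _ ec
      have hcs := surjective_to_fibreProd g hg hgs n hB c hc1 hc2
      have eχ : HomSet.map (CRing.truncMapOfHom g hg n) ψn = HomSet.map (A.truncMap n) (φn (n + 1)) := by
        rw [hb, hφn]
      set χ := fpLift hB ψn (φn (n + 1)) eχ with hχ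
      have hχ1 : HomSet.map π₁ χ = ψn := fpLift_fst hB _ _ eχ
      have hχ2 : HomSet.map π₂ χ = φn (n + 1) := fpLift_snd hB _ _ eχ
      have hkey : F.map c (η'.elt (n + 1)) = ξ.app B χ := by
        apply (hRS π₁ π₂ _ _ hB (truncMap_surjective A n)).1
        apply FibProd.ext
        · change F.map π₁ (F.map c (η'.elt (n + 1))) = F.map π₁ (ξ.app B χ)
          rw [← F.map_comp_apply, hc1, η'.compat, ← ξ.natural, hχ1, ha]
        · change F.map π₂ (F.map c (η'.elt (n + 1))) = F.map π₂ (ξ.app B χ)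
          rw [← F.map_comp_apply, hc2, ← ξ.natural, hχ2, hsqn]
      obtain ⟨ψ', hψ'1, hψ'2⟩ := hξ c hcs χ (η'.elt (n + 1)) hkey
      refine ⟨⟨ψ', hψ'2, ?_⟩, ?_⟩
      · rw [← hc2, homSet_map_comp, hψ'1, hχ2]
      · change HomSet.map (A'.truncMap n) ψ' = ψn
        rw [← hc1, homSet_map_comp, hψ'1, hχ1])
  obtain ⟨ψ, hψ, hψn⟩ := exists_lift_of_compatible (fun n => (s n).1) hs
  refine ⟨ψ, hψ, ?_, ?_⟩
  · apply algHom_ext_of_trunc
    intro n
    have h1 := congrArg Subtype.val (s n).2.2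
    change (CRing.truncMapOfHom g hg n).toAlgHom.comp (s n).1.1 = (A.truncHom n).1.comp φ at h1
    rw [← h1, ← hψn n]
    apply AlgHom.ext
    intro r
    rfl
  · apply FormalElt.ext'
    intro n
    change ξ.app _ _ = η'.elt n
    rw [← (s n).2.1]
    exact congrArg (ξ.app _) (Subtype.ext (hψn n))

end

end Groth.Agent.Lib.Helper1.ArtFunLib
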