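import Mathlib
import Groth.Prelude.Def_ArtFun5
import Groth.Agent.Lib.Helper1.ArtFunFormal
import Groth.Agent.Lib.Helper1.ArtFunDerSurj

/-!
# Prorepresentable functors: morphisms are induced by ring maps; endomorphisms bijective on tangent spaces
-/
universe u v
open CategoryTheory

namespace Groth.Agent.Lib.Helper1.ArtFunLib

open ArtFun ArtFun.Art

variable {Λ : Type u} {k : Type u} [CommRing Λ] [Field k] [Algebra Λ k]

section Universal

variable {R : Type u} [CommRing R] [Algebra Λ R] {resR : R →ₐ[Λ] k} {F : Art Λ k ⥤ Type v}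

theorem isVersal_of_isUniversal (ξ : Family R resR F) (hξ : IsUniversal ξ) : IsVersal ξ := by
  intro B A μ _ φ y e
  obtain ⟨ψ, hψ⟩ := (hξ B).2 y
  refine ⟨ψ, ?_, hψ⟩
  apply (hξ A).1
  rw [ξ.natural, hψ, e]

end Universal

section Covering

variable {F₁ F₂ : Art Λ k ⥤ Type v}

/-- a morphism of functors is covered by a ring map, given a versal family of the target -/
theorem exists_algHom_covering (f : F₁ ⟶ F₂) (R₁ : CRing Λ k) (ξ₁ : Family R₁.carrier R₁.res F₁)
    {R₂ : Type u} [CommRing R₂] [Algebra Λ R₂] {resR₂ : R₂ →ₐ[Λ] k} (ξ₂ : Family R₂ resR₂ F₂)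
    (hξ₂ : IsVersal ξ₂)
    (h0 : ∃ ψ0 : HomSet R₂ resR₂ (R₁.trunc 0), ξ₂.app _ ψ0 = f.app _ (ξ₁.app _ (R₁.truncHom 0))) :
    ∃ (φ : R₂ →ₐ[Λ] R₁.carrier) (hφ : R₁.res.comp φ = resR₂),
      ∀ (A : Art Λ k) (u : HomSet R₁.carrier R₁.res A),
        (ξ₂.along φ hφ).app A u = f.app A (ξ₁.app A u) := by
  set η : FormalElt F₂ R₁ := (ξ₁.toFormalElt).map f with hη
  obtain ⟨ψ0, hψ0⟩ := h0
  obtain ⟨φ, hφ, hφη⟩ := exists_along_toFormalElt_eq ξ₂ hξ₂ R₁ η ψ0 hψ0
  refine ⟨φ, hφ, ?_⟩
  intro A u
  obtain ⟨n, ū, rfl⟩ := exists_factor_trunc R₁ u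
  have hn := congrArg (fun w : FormalElt F₂ R₁ => w.elt n) hφη
  change (ξ₂.along φ hφ).app _ (R₁.truncHom n) = f.app _ (ξ₁.app _ (R₁.truncHom n)) at hn
  rw [(ξ₂.along φ hφ).natural, hn, ξ₁.natural, nat_apply]

end Covering

section RingEnd

/-- a surjective endomorphism of a Noetherian ring is injective -/
theorem injective_of_surjective_ringEnd {R : Type*} [CommRing R] [IsNoetherianRing R] (g : R →+* R)
    (hg : Function.Surjective g) : Function.Injective g := by
  let K : ℕ →o Ideal R :=
    ⟨fun n => RingHom.ker (g ^ n), by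
      intro m n hmn x hx
      rw [RingHom.mem_ker] at hx ⊢
      obtain ⟨d, rfl⟩ := Nat.exists_eq_add_of_le hmn
      rw [add_comm, pow_add, RingHom.mul_def, RingHom.comp_apply, hx, map_zero]⟩
  obtain ⟨n, hn⟩ := monotone_stabilizes_iff_noetherian.2 (inferInstance : IsNoetherian R R) K
  have hsn : Function.Surjective (g ^ n) := by
    rw [RingHom.coe_pow]
    exact hg.iterate n
  rw [injective_iff_map_eq_zero]
  intro x hx
  obtain ⟨y, rfl⟩ := hsn x
  have hy : y ∈ K (n + 1) := by
    change y ∈ RingHom.ker (g ^ (n + 1))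
    rw [RingHom.mem_ker, pow_succ', RingHom.mul_def, RingHom.comp_apply]
    exact hx
  rw [← hn (n + 1) (Nat.le_succ n)] at hy
  exact hy

end RingEnd

section DerHom

variable {R : Type u} [CommRing R] [Algebra Λ R] [Algebra R k] [IsScalarTower Λ R k]

/-- the map `R → k[ε]` of a derivation `R → k` -/
noncomputable def homOfDer' (D : Derivation Λ R k) : R →ₐ[Λ] DualNumber k :=
  AlgHom.ofLinearMap (A := R) (B := DualNumber k)
    { toFun := fun r => (TrivSqZeroExt.inl (algebraMap R k r) + TrivSqZeroExt.inr (D r) : DualNumber k)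
      map_add' := fun r s => by
        rw [map_add, map_add, TrivSqZeroExt.inl_add, TrivSqZeroExt.inr_add]
        abel
      map_smul' := fun l r => by
        rw [RingHom.id_apply, Algebra.smul_def l (_ : DualNumber k), TrivSqZeroExt.algebraMap_eq_inl']
        apply TrivSqZeroExt.ext
        · simp only [TrivSqZeroExt.fst_add, TrivSqZeroExt.fst_inl, TrivSqZeroExt.fst_inr, add_zero,
            TrivSqZeroExt.fst_mul, Algebra.smul_def, map_mul, ← IsScalarTower.algebraMap_apply]
        · rw [TrivSqZeroExt.snd_add, TrivSqZeroExt.snd_inl, TrivSqZeroExt.snd_inr, zero_add, Derivation.map_smul]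
          simp only [TrivSqZeroExt.snd_add, TrivSqZeroExt.snd_inl, TrivSqZeroExt.snd_inr, zero_add,
            TrivSqZeroExt.snd_mul, TrivSqZeroExt.fst_add, TrivSqZeroExt.fst_inl, TrivSqZeroExt.fst_inr, add_zero,
            Algebra.smul_def, MulOpposite.smul_eq_mul_unop, MulOpposite.unop_op, zero_mul,
            Algebra.algebraMap_self, RingHom.id_apply] }
    (by
      apply TrivSqZeroExt.ext
      · change (TrivSqZeroExt.inl (algebraMap R k 1) + TrivSqZeroExt.inr (D 1) : DualNumber k).fst = _
        simp only [TrivSqZeroExt.fst_add, TrivSqZeroExt.fst_inl, TrivSqZeroExt.fst_inr, add_zero, map_one]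
        rfl
      · change (TrivSqZeroExt.inl (algebraMap R k 1) + TrivSqZeroExt.inr (D 1) : DualNumber k).snd = _
        simp only [TrivSqZeroExt.snd_add, TrivSqZeroExt.snd_inl, TrivSqZeroExt.snd_inr, zero_add,
          Derivation.map_one_eq_zero]
        rfl)
    (by
      intro r s
      apply TrivSqZeroExt.ext
      · change (TrivSqZeroExt.inl (algebraMap R k (r * s)) + TrivSqZeroExt.inr (D (r * s)) : DualNumber k).fst =
          ((TrivSqZeroExt.inl (algebraMap R k r) + TrivSqZeroExt.inr (D r) : DualNumber k) *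
            (TrivSqZeroExt.inl (algebraMap R k s) + TrivSqZeroExt.inr (D s) : DualNumber k)).fst
        simp only [TrivSqZeroExt.fst_add, TrivSqZeroExt.fst_inl, TrivSqZeroExt.fst_inr, add_zero, map_mul,
          TrivSqZeroExt.fst_mul]
      · change (TrivSqZeroExt.inl (algebraMap R k (r * s)) + TrivSqZeroExt.inr (D (r * s)) : DualNumber k).snd =
          ((TrivSqZeroExt.inl (algebraMap R k r) + TrivSqZeroExt.inr (D r) : DualNumber k) *
            (TrivSqZeroExt.inl (algebraMap R k s) + TrivSqZeroExt.inr (D s) : DualNumber k)).snd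
        simp only [TrivSqZeroExt.snd_add, TrivSqZeroExt.snd_inl, TrivSqZeroExt.snd_inr, zero_add,
          TrivSqZeroExt.snd_mul, TrivSqZeroExt.fst_add, TrivSqZeroExt.fst_inl, TrivSqZeroExt.fst_inr, add_zero,
          Derivation.leibniz, Algebra.smul_def, MulOpposite.smul_eq_mul_unop, MulOpposite.unop_op,
          Algebra.algebraMap_self, RingHom.id_apply]
        ring)

/-- the map `R → k[ε]` of a derivation `R → k` -/
noncomputable def homOfDer (D : Derivation Λ R k) : R →ₐ[Λ] (dual Λ k) := homOfDer' D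

lemma homOfDer_fst (D : Derivation Λ R k) (r : R) : (homOfDer D r).fst = algebraMap R k r := by
  change (TrivSqZeroExt.inl (algebraMap R k r) + TrivSqZeroExt.inr (D r) : DualNumber k).fst = _
  simp

lemma homOfDer_snd (D : Derivation Λ R k) (r : R) : (homOfDer D r).snd = D r := by
  change (TrivSqZeroExt.inl (algebraMap R k r) + TrivSqZeroExt.inr (D r) : DualNumber k).snd = _
  simp

lemma res_comp_homOfDer (D : Derivation Λ R k) :
    (dual Λ k).res.comp (homOfDer D) = IsScalarTower.toAlgHom Λ R k := by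
  apply AlgHom.ext
  intro r
  exact homOfDer_fst D r

/-- the element of `h_R(k[ε])` of a derivation -/
noncomputable def homSetOfDer (D : Derivation Λ R k) : HomSet R (IsScalarTower.toAlgHom Λ R k) (dual Λ k) :=
  ⟨homOfDer D, res_comp_homOfDer D⟩

end DerHom

section EndoBij

/-- a ring endomorphism `g` of `R` (over `k`) such that `u ↦ u ∘ g` is injective on `h_R(k[ε])` is bijective -/
theorem bijective_of_injective_on_tangent (R : CRing Λ k) (g : R.carrier →ₐ[Λ] R.carrier)
    (hg : R.res.comp g = R.res)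
    (hinj : ∀ u₁ u₂ : HomSet R.carrier R.res (dual Λ k), u₁.1.comp g = u₂.1.comp g → u₁ = u₂) :
    Function.Bijective g := by
  letI : Algebra R.carrier k := R.res.toRingHom.toAlgebra
  haveI : IsScalarTower Λ R.carrier k := IsScalarTower.of_algebraMap_eq (fun l => (R.res.commutes l).symm)
  have hres : Function.Surjective (algebraMap R.carrier k) := R.res_surjective
  have htoAlg : IsScalarTower.toAlgHom Λ R.carrier k = R.res := AlgHom.ext (fun _ => rfl)
  have hgs : Function.Surjective g := by
    apply surjective_of_derivation_comp_injective R R.carrier hres g (by rw [htoAlg]; exact hg)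
    intro D₁ D₂ h
    have e := hinj ⟨homOfDer D₁, by rw [res_comp_homOfDer, htoAlg]⟩ ⟨homOfDer D₂, by rw [res_comp_homOfDer, htoAlg]⟩
      (by
        apply AlgHom.ext
        intro r
        apply TrivSqZeroExt.ext
        · change (homOfDer D₁ (g r)).fst = (homOfDer D₂ (g r)).fst
          rw [homOfDer_fst, homOfDer_fst]
        · change (homOfDer D₁ (g r)).snd = (homOfDer D₂ (g r)).snd
          rw [homOfDer_snd, homOfDer_snd, h])
    apply Derivation.ext
    intro r
    have := congrArg (fun u : HomSet R.carrier R.res (dual Λ k) => (u.1 r).snd) e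
    change (homOfDer D₁ r).snd = (homOfDer D₂ r).snd at this
    rwa [homOfDer_snd, homOfDer_snd] at this
  exact ⟨injective_of_surjective_ringEnd (g : R.carrier →+* R.carrier) hgs, hgs⟩

theorem bijective_app_of_isProrepresentable_tangent_bijective {U : Art Λ k ⥤ Type v}
    (hU : IsProrepresentable U) (φ : U ⟶ U) (hd : Function.Injective (TangentSpace.map φ)) (A : Art Λ k) :
    Function.Bijective (φ.app A) := by
  obtain ⟨⟨R, ξ, hξ⟩⟩ := hU
  have hv := isVersal_of_isUniversal ξ hξ
  obtain ⟨g, hg, hgφ⟩ := exists_algHom_covering φ R ξ ξ hv ((hξ _).2 _)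
  have hgφ' : ∀ (A : Art Λ k) (u : HomSet R.carrier R.res A) (h : A.res.comp (u.1.comp g) = R.res),
      ξ.app A ⟨u.1.comp g, h⟩ = φ.app A (ξ.app A u) := fun A u h => hgφ A u
  have hgb : Function.Bijective g := by
    apply bijective_of_injective_on_tangent R g hg
    intro u₁ u₂ h
    apply (hξ _).1
    apply hd
    change φ.app _ (ξ.app _ u₁) = φ.app _ (ξ.app _ u₂)
    rw [← hgφ, ← hgφ]
    exact congrArg (ξ.app _) (Subtype.ext h)
  let e : R.carrier ≃ₐ[Λ] R.carrier := AlgEquiv.ofBijective g hgb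
  have heg : ∀ r, g (e.symm r) = r := fun r => e.apply_symm_apply r
  have hge : ∀ r, e.symm (g r) = r := fun r => e.symm_apply_apply r
  constructor
  · intro x x' hxx'
    obtain ⟨u, rfl⟩ := (hξ A).2 x
    obtain ⟨u', rfl⟩ := (hξ A).2 x'
    rw [← hgφ, ← hgφ] at hxx'
    have h1 := congrArg Subtype.val ((hξ A).1 hxx')
    change u.1.comp g = u'.1.comp g at h1
    congr 1
    apply Subtype.ext
    apply AlgHom.ext
    intro r
    obtain ⟨r', rfl⟩ := hgb.2 r
    exact congrArg (fun ψ : R.carrier →ₐ[Λ] A => ψ r') h1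
  · intro y
    obtain ⟨w, rfl⟩ := (hξ A).2 y
    have hres : R.res.comp (e.symm : R.carrier →ₐ[Λ] R.carrier) = R.res := by
      apply AlgHom.ext
      intro r
      have := congrArg (fun ψ : R.carrier →ₐ[Λ] k => ψ (e.symm r)) hg
      change R.res (g (e.symm r)) = R.res (e.symm r) at this
      rw [heg] at this
      exact this.symm
    refine ⟨ξ.app A ⟨w.1.comp (e.symm : R.carrier →ₐ[Λ] R.carrier), by
      rw [← AlgHom.comp_assoc, w.2, hres]⟩, ?_⟩
    refine (hgφ A _).symm.trans ?_
    change ξ.app A _ = ξ.app A w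
    refine congrArg (ξ.app A) (Subtype.ext (AlgHom.ext fun r => ?_))
    change w.1 (e.symm (g r)) = w.1 r
    rw [hge]

end EndoBij

end Groth.Agent.Lib.Helper1.ArtFunLib
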