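import Mathlib
import Groth.Prelude.Def_W4sfdMinVersal
import Groth.Agent.Lib.Helper1.ArtFunPSRing
import Groth.Agent.Lib.Helper1.ArtFunFormalLift
import Groth.Agent.Lib.Helper1.ArtFunProrep

/-!
# Smooth morphisms `h_S → h_R` and power series rings
-/
universe u v
open CategoryTheory

namespace Groth.Agent.Lib.Helper1.ArtFunLib

open ArtFun ArtFun.Art MvPowerSeries

variable {Λ : Type u} {k : Type u} [CommRing Λ] [Field k] [Algebra Λ k]

section MinGens

/-- a minimal family of generators of the maximal ideal modulo an ideal `𝔞` -/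
theorem exists_min_gens {S : Type*} [CommRing S] [IsLocalRing S] [IsNoetherianRing S] (𝔞 : Ideal S) :
    ∃ (n : ℕ) (x : Fin n → S), (∀ i, x i ∈ IsLocalRing.maximalIdeal S) ∧
      Ideal.span (Set.range x) ⊔ 𝔞 ⊓ IsLocalRing.maximalIdeal S = IsLocalRing.maximalIdeal S ∧
      ∀ c : Fin n → S, (∑ i, c i * x i) ∈ 𝔞 → ∀ i, c i ∈ IsLocalRing.maximalIdeal S := by
  classical
  let P : ℕ → Prop := fun n => ∃ x : Fin n → S, (∀ i, x i ∈ IsLocalRing.maximalIdeal S) ∧
    Ideal.span (Set.range x) ⊔ 𝔞 ⊓ IsLocalRing.maximalIdeal S = IsLocalRing.maximalIdeal S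
  have hex : ∃ n, P n := by
    obtain ⟨n, s, hs⟩ := (Submodule.fg_iff_exists_fin_generating_family).1
      (IsNoetherian.noetherian (IsLocalRing.maximalIdeal S))
    refine ⟨n, s, fun i => ?_, ?_⟩
    · rw [← hs]; exact Submodule.subset_span ⟨i, rfl⟩
    · change Submodule.span S (Set.range s) ⊔ _ = _
      rw [hs]
      exact sup_eq_left.2 inf_le_right
  obtain ⟨x, hxm, hx⟩ := Nat.find_spec hex
  refine ⟨Nat.find hex, x, hxm, hx, ?_⟩
  intro c hc j
  by_contra hj
  have hu : IsUnit (c j) := by
    by_contra h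
    exact hj ((IsLocalRing.mem_maximalIdeal _).2 h)
  obtain ⟨d, hd⟩ := hu.exists_left_inv
  -- `n = m + 1`
  obtain ⟨m, hm⟩ : ∃ m, Nat.find hex = m + 1 := Nat.exists_eq_succ_of_ne_zero (fun h0 => by
    have : IsEmpty (Fin (Nat.find hex)) := by rw [h0]; infer_instance
    exact this.false j)
  have hP : P m := by
    revert x c j
    rw [hm]
    intro x hxm hx c hc j hj hu hd
    refine ⟨fun i => x (j.succAbove i), fun i => hxm _, ?_⟩
    apply le_antisymm
    · apply sup_le
      · rw [Ideal.span_le]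
        rintro _ ⟨i, rfl⟩
        exact hxm _
      · exact inf_le_right
    · refine hx.symm.le.trans ?_
      apply sup_le
      · rw [Ideal.span_le]
        rintro _ ⟨i, rfl⟩
        by_cases hij : i = j
        · subst hij
          -- x i = d * (Σ c x - Σ' c x)
          have hsum : ∑ l, c l * x l = c i * x i + ∑ l, c (i.succAbove l) * x (i.succAbove l) :=
            Fin.sum_univ_succAbove _ i
          have hxi : x i = d * (∑ l, c l * x l) - d * ∑ l, c (i.succAbove l) * x (i.succAbove l) := by
            rw [hsum, mul_add, add_sub_cancel_right, ← mul_assoc, hd, one_mul]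
          have hxi_m : d * (∑ l, c l * x l) ∈ 𝔞 ⊓ IsLocalRing.maximalIdeal S := by
            refine ⟨Ideal.mul_mem_left _ _ hc, Ideal.mul_mem_left _ _ ?_⟩
            exact Ideal.sum_mem _ fun l _ => Ideal.mul_mem_left _ _ (hxm l)
          change x i ∈ _
          rw [hxi]
          apply Ideal.sub_mem
          · exact Ideal.mem_sup_right hxi_m
          · apply Ideal.mem_sup_left
            apply Ideal.mul_mem_left
            refine Ideal.sum_mem _ fun l _ => Ideal.mul_mem_left _ _ ?_
            exact Ideal.subset_span ⟨l, rfl⟩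
        · obtain ⟨l, rfl⟩ := Fin.exists_succAbove_eq hij
          exact Ideal.mem_sup_left (Ideal.subset_span ⟨l, rfl⟩)
      · exact le_sup_right
  have := Nat.find_min hex (show m < Nat.find hex by omega)
  exact this hP

end MinGens

section SmoothPS

variable (R : CRing Λ k) (n : ℕ)

/-- `h_{R[[X]]} → h_R` is smooth -/
theorem isVersal_along_psC :
    IsVersal ((Family.self R.carrier R.res).along (psC R n) (psCRing_res_comp_psC R n)) := by
  intro B A μ hμ φ y hy
  have hy' : HomSet.map μ y = psRestr φ := hy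
  choose b hb using fun i => hμ (φ.1 (X i : MvPowerSeries (Fin n) R.carrier))
  have hbm : ∀ i, b i ∈ IsLocalRing.maximalIdeal B := by
    intro i
    rw [mem_maximalIdeal_iff, ← res_app μ, hb]
    exact (mem_maximalIdeal_iff A _).1 (psHom_X_mem φ i)
  refine ⟨psEval y b hbm, ?_, ?_⟩
  · apply psHom_ext
    · intro r
      change μ ((psEval y b hbm).1 (C r : MvPowerSeries (Fin n) R.carrier)) = _
      rw [psEval_C]
      have := congrArg (fun χ : HomSet R.carrier R.res A => χ.1 r) hy'
      exact this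
    · intro i
      change μ ((psEval y b hbm).1 (X i : MvPowerSeries (Fin n) R.carrier)) = _
      rw [psEval_X]
      exact hb i
  · exact psRestr_psEval y b hbm

end SmoothPS

section Transport

variable {R S : CRing Λ k} (u : R.carrier →ₐ[Λ] S.carrier) (hu : S.res.comp u = R.res)

include hu in
/-- an isomorphism `S ≅ R[[X]]` over `R` is compatible with the augmentations -/
theorem psCRing_res_comp_of_algEquiv (n : ℕ) (e : S.carrier ≃ₐ[Λ] MvPowerSeries (Fin n) R.carrier)
    (heC : ∀ r, e (u r) = C r) :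
    S.res.comp (e.symm : MvPowerSeries (Fin n) R.carrier →ₐ[Λ] S.carrier) = (psCRing R n).res := by
  have hsC : ∀ r, e.symm (C r : MvPowerSeries (Fin n) R.carrier) = u r := fun r => by
    rw [← heC r, AlgEquiv.symm_apply_apply]
  have hsX : ∀ i, S.res (e.symm (X i : MvPowerSeries (Fin n) R.carrier)) = 0 := by
    intro i
    rw [← CRing.mem_maximalIdeal_iff, IsLocalRing.mem_maximalIdeal, mem_nonunits_iff]
    intro hunit
    have h1 : IsUnit (X i : MvPowerSeries (Fin n) R.carrier) := by
      have := hunit.map e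
      rwa [AlgEquiv.apply_symm_apply] at this
    exact (IsLocalRing.mem_maximalIdeal _).1 (PS.X_mem_maximalIdeal (R := R.carrier) i) h1
  have h := PS.ringHom_ext_of_kills (σ := Fin n) (R := R.carrier) (A := k)
    ((S.res : S.carrier →+* k).comp (e.symm : MvPowerSeries (Fin n) R.carrier →+* S.carrier))
    ((R.res : R.carrier →+* k).comp
      (constantCoeff : MvPowerSeries (Fin n) R.carrier →+* R.carrier)) 1 ?_ ?_ ?_ ?_
  · apply AlgHom.ext
    intro g
    exact congrArg (fun χ : MvPowerSeries (Fin n) R.carrier →+* k => χ g) h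
  · apply PS.kills_of_pow_eq_bot
    have : (fun i => ((S.res : S.carrier →+* k).comp
        (e.symm : MvPowerSeries (Fin n) R.carrier →+* S.carrier)) (X i)) = fun _ => 0 := by
      funext i
      exact hsX i
    rw [this, pow_one, eq_bot_iff, Ideal.span_le]
    rintro _ ⟨i, rfl⟩
    exact Ideal.zero_mem _
  · apply PS.kills_of_pow_eq_bot
    have : (fun i => ((R.res : R.carrier →+* k).comp
        (constantCoeff : MvPowerSeries (Fin n) R.carrier →+* R.carrier)) (X i)) = fun _ => 0 := by
      funext i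
      rw [RingHom.comp_apply, constantCoeff_X, map_zero]
    rw [this, pow_one, eq_bot_iff, Ideal.span_le]
    rintro _ ⟨i, rfl⟩
    exact Ideal.zero_mem _
  · intro r
    rw [RingHom.comp_apply, RingHom.comp_apply, constantCoeff_C]
    change S.res (e.symm (C r : MvPowerSeries (Fin n) R.carrier)) = R.res r
    rw [hsC]
    exact congrArg (fun χ : R.carrier →ₐ[Λ] k => χ r) hu
  · intro i
    rw [RingHom.comp_apply, RingHom.comp_apply, constantCoeff_X, map_zero]
    exact hsX i

/-- if `S ≅ R[[X]]` over `R` then `h_S → h_R` is smooth -/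
theorem isVersal_along_of_algEquiv (n : ℕ) (e : S.carrier ≃ₐ[Λ] MvPowerSeries (Fin n) R.carrier)
    (heC : ∀ r, e (u r) = C r) : IsVersal ((Family.self R.carrier R.res).along u hu) := by
  have hres := psCRing_res_comp_of_algEquiv u hu n e heC
  have hres' : (psCRing R n).res.comp (e : S.carrier →ₐ[Λ] MvPowerSeries (Fin n) R.carrier) = S.res := by
    rw [← hres]
    apply AlgHom.ext
    intro s
    change S.res (e.symm (e s)) = S.res s
    rw [AlgEquiv.symm_apply_apply]
  intro B A μ hμ φ y hy
  have hy' : ∀ r, μ (y.1 r) = φ.1 (u r) := fun r =>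
    congrArg (fun χ : HomSet R.carrier R.res A => χ.1 r) hy
  let φT : HomSet (psCRing R n).carrier (psCRing R n).res A :=
    ⟨φ.1.comp (e.symm : MvPowerSeries (Fin n) R.carrier →ₐ[Λ] S.carrier),
      (show A.res.comp (φ.1.comp (e.symm : MvPowerSeries (Fin n) R.carrier →ₐ[Λ] S.carrier)) =
        S.res.comp (e.symm : MvPowerSeries (Fin n) R.carrier →ₐ[Λ] S.carrier) by
          rw [← AlgHom.comp_assoc, φ.2]).trans hres⟩
  obtain ⟨ψT, hψ1, hψ2⟩ := isVersal_along_psC R n μ hμ φT y (by
    apply Subtype.ext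
    apply AlgHom.ext
    intro r
    change μ (y.1 r) = φ.1 (e.symm (C r : MvPowerSeries (Fin n) R.carrier))
    rw [hy', ← heC r, AlgEquiv.symm_apply_apply])
  refine ⟨⟨ψT.1.comp (e : S.carrier →ₐ[Λ] MvPowerSeries (Fin n) R.carrier),
    (show B.res.comp (ψT.1.comp (e : S.carrier →ₐ[Λ] MvPowerSeries (Fin n) R.carrier)) =
      (psCRing R n).res.comp (e : S.carrier →ₐ[Λ] MvPowerSeries (Fin n) R.carrier) by
        rw [← AlgHom.comp_assoc, ψT.2]; rfl).trans hres'⟩, ?_, ?_⟩
  · apply Subtype.ext
    apply AlgHom.ext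
    intro s
    have h1 := congrArg (fun χ : HomSet (psCRing R n).carrier (psCRing R n).res A => χ.1 (e s)) hψ1
    change μ (ψT.1 (e s)) = φ.1 (e.symm (e s)) at h1
    rw [AlgEquiv.symm_apply_apply] at h1
    exact h1
  · apply Subtype.ext
    apply AlgHom.ext
    intro r
    have h2 := congrArg (fun χ : HomSet R.carrier R.res B => χ.1 r) hψ2
    change ψT.1 (C r : MvPowerSeries (Fin n) R.carrier) = y.1 r at h2
    change ψT.1 (e (u r)) = y.1 r
    rw [heC, h2]

end Transport

section TruncLemmas

variable (T : CRing Λ k) (N : ℕ)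

lemma maximalIdeal_trunc_eq_map :
    IsLocalRing.maximalIdeal (T.trunc N) =
      Ideal.map (T.truncHom N).1 (IsLocalRing.maximalIdeal T.carrier) :=
  (map_maximalIdeal_eq_of_surjective T.res (T.trunc N).res T.res_surjective (T.trunc N).res_surjective
    (T.truncHom N).1 (T.truncHom N).2 Ideal.Quotient.mk_surjective).symm

lemma maximalIdeal_trunc_pow : IsLocalRing.maximalIdeal (T.trunc N) ^ (N + 1) = ⊥ := by
  rw [maximalIdeal_trunc_eq_map, ← Ideal.map_pow]
  exact Ideal.map_quotient_self _

lemma truncHom_eq_zero_iff (t : T.carrier) : (T.truncHom N).1 t = 0 ↔ t ∈ T.mpow N :=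
  Ideal.Quotient.eq_zero_iff_mem

/-- any element of `h_T(T/m^(N+1))` kills `m^(N+1)` -/
lemma homSet_trunc_kills (θ : HomSet T.carrier T.res (T.trunc N)) (t : T.carrier) (ht : t ∈ T.mpow N) :
    θ.1 t = 0 := by
  have h1 : Ideal.map θ.1 (T.mpow N) ≤ IsLocalRing.maximalIdeal (T.trunc N) ^ (N + 1) := by
    rw [CRing.mpow, Ideal.map_pow]
    exact Ideal.pow_right_mono (map_maximalIdeal_le T.res (T.trunc N).res T.res_surjective
      (T.trunc N).res_surjective θ.1 θ.2) _
  have h2 := h1 (Ideal.mem_map_of_mem _ ht)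
  rw [maximalIdeal_trunc_pow] at h2
  exact h2

end TruncLemmas

section CSL

variable {R S : CRing Λ k} (u : R.carrier →ₐ[Λ] S.carrier) (hu : S.res.comp u = R.res)
variable {n : ℕ} (v : MvPowerSeries (Fin n) R.carrier →ₐ[Λ] S.carrier)
  (hvres : S.res.comp v = (psCRing R n).res)
  (hvC : ∀ r : R.carrier, v (C r) = u r)

include hvres in
lemma v_mem_maximalIdeal {t : MvPowerSeries (Fin n) R.carrier}
    (ht : t ∈ IsLocalRing.maximalIdeal (MvPowerSeries (Fin n) R.carrier)) :
    v t ∈ IsLocalRing.maximalIdeal S.carrier := by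
  have h := map_maximalIdeal_le (psCRing R n).res S.res (psCRing R n).res_surjective S.res_surjective v hvres
  exact h (Ideal.mem_map_of_mem _ ht)

include hu hvC in
lemma v_map_C_le :
    Ideal.map v (Ideal.map (C : R.carrier →+* MvPowerSeries (Fin n) R.carrier)
      (IsLocalRing.maximalIdeal R.carrier)) ≤ Ideal.map u (IsLocalRing.maximalIdeal R.carrier) := by
  rw [Ideal.map_le_iff_le_comap, Ideal.map_le_iff_le_comap]
  intro r hr
  rw [Ideal.mem_comap, Ideal.mem_comap, hvC]
  exact Ideal.mem_map_of_mem _ hr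

include hu hvres hvC in
/-- the kernel of `v : R[[X]] → S` lies in `m² + m_R R[[X]]` when the `x i = v (X i)` are independent -/
lemma ker_v_le
    (hind : ∀ c : Fin n → S.carrier,
      (∑ i, c i * v (X i)) ∈ IsLocalRing.maximalIdeal S.carrier ^ 2 ⊔
        Ideal.map u (IsLocalRing.maximalIdeal R.carrier) →
      ∀ i, c i ∈ IsLocalRing.maximalIdeal S.carrier) :
    RingHom.ker v ≤ IsLocalRing.maximalIdeal (MvPowerSeries (Fin n) R.carrier) ^ 2 ⊔
      Ideal.map (C : R.carrier →+* MvPowerSeries (Fin n) R.carrier) (IsLocalRing.maximalIdeal R.carrier) := by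
  classical
  intro t ht
  rw [RingHom.mem_ker] at ht
  have htm : t ∈ IsLocalRing.maximalIdeal (MvPowerSeries (Fin n) R.carrier) := by
    have h1 : (psCRing R n).res t = S.res (v t) :=
      (congrArg (fun χ : MvPowerSeries (Fin n) R.carrier →ₐ[Λ] k => χ t) hvres).symm
    have h2 : t ∈ IsLocalRing.maximalIdeal (psCRing R n).carrier :=
      (CRing.mem_maximalIdeal_iff (psCRing R n) t).2 (by rw [h1, ht, map_zero])
    exact h2
  rw [PS.maximalIdeal_eq_sup] at htm
  obtain ⟨a, ha, b, hb, rfl⟩ := Submodule.mem_sup.1 htm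
  obtain ⟨f, rfl⟩ := (Ideal.mem_span_range_iff_exists_fun).1 hb
  -- split `f i = C (c i) + g i`
  set c : Fin n → R.carrier := fun i => constantCoeff (f i) with hc
  set g : Fin n → MvPowerSeries (Fin n) R.carrier := fun i => f i - C (c i) with hg
  have hgm : ∀ i, g i ∈ IsLocalRing.maximalIdeal (MvPowerSeries (Fin n) R.carrier) := fun i =>
    PS.span_X_le_maximalIdeal (PS.sub_C_constantCoeff_mem (f i))
  have hsplit : ∑ i, f i * X i = ∑ i, C (c i) * X i + ∑ i, g i * X i := by
    rw [← Finset.sum_add_distrib]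
    refine Finset.sum_congr rfl fun i _ => ?_
    rw [hg]; ring
  have hsq : ∑ i, g i * X i ∈ IsLocalRing.maximalIdeal (MvPowerSeries (Fin n) R.carrier) ^ 2 := by
    refine Ideal.sum_mem _ fun i _ => ?_
    rw [pow_two]
    exact Ideal.mul_mem_mul (hgm i) (PS.X_mem_maximalIdeal i)
  -- apply `v`
  have hv0 : v a + (∑ i, u (c i) * v (X i) + v (∑ i, g i * X i)) = 0 := by
    have e1 : v (∑ i, C (c i) * X i) = ∑ i, u (c i) * v (X i) := by
      rw [map_sum]
      exact Finset.sum_congr rfl fun i _ => by rw [map_mul, hvC]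
    rw [← ht, hsplit, map_add, map_add, e1]
  have hva : v a ∈ Ideal.map u (IsLocalRing.maximalIdeal R.carrier) :=
    v_map_C_le u hu v hvC (Ideal.mem_map_of_mem _ ha)
  have hvsq : v (∑ i, g i * X i) ∈ IsLocalRing.maximalIdeal S.carrier ^ 2 := by
    have h1 : Ideal.map v (IsLocalRing.maximalIdeal (MvPowerSeries (Fin n) R.carrier) ^ 2) ≤
        IsLocalRing.maximalIdeal S.carrier ^ 2 := by
      rw [Ideal.map_pow]
      exact Ideal.pow_right_mono (map_maximalIdeal_le (psCRing R n).res S.res (psCRing R n).res_surjective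
        S.res_surjective v hvres) 2
    exact h1 (Ideal.mem_map_of_mem _ hsq)
  have hlin : ∑ i, u (c i) * v (X i) ∈ IsLocalRing.maximalIdeal S.carrier ^ 2 ⊔
      Ideal.map u (IsLocalRing.maximalIdeal R.carrier) := by
    have h1 : ∑ i, u (c i) * v (X i) = -(v a) - v (∑ i, g i * X i) := by
      have := hv0
      linear_combination this
    rw [h1]
    exact Ideal.sub_mem _ (Ideal.neg_mem_iff _ |>.2 (Ideal.mem_sup_right hva)) (Ideal.mem_sup_left hvsq)
  have hcm : ∀ i, c i ∈ IsLocalRing.maximalIdeal R.carrier := by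
    intro i
    have h1 := hind (fun i => u (c i)) hlin i
    rw [CRing.mem_maximalIdeal_iff] at h1 ⊢
    rw [← h1]
    exact (congrArg (fun χ : R.carrier →ₐ[Λ] k => χ (c i)) hu).symm
  rw [hsplit]
  apply Ideal.add_mem
  · exact Ideal.mem_sup_right ha
  · apply Ideal.add_mem
    · apply Ideal.mem_sup_right
      refine Ideal.sum_mem _ fun i _ => ?_
      exact Ideal.mul_mem_right _ _ (Ideal.mem_map_of_mem _ (hcm i))
    · exact Ideal.mem_sup_left hsq

end CSL

section CSL2

variable {R S T : CRing Λ k} (u : R.carrier →ₐ[Λ] S.carrier) (hu : S.res.comp u = R.res)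
  (cT : R.carrier →ₐ[Λ] T.carrier) (hcT : T.res.comp cT = R.res)
  {n : ℕ} (xT : Fin n → T.carrier)
  (hmT : IsLocalRing.maximalIdeal T.carrier =
    Ideal.map cT (IsLocalRing.maximalIdeal R.carrier) ⊔ Ideal.span (Set.range xT))
  (v : T.carrier →ₐ[Λ] S.carrier) (hvres : S.res.comp v = T.res)
  (hvC : ∀ r : R.carrier, v (cT r) = u r)

include hcT hmT hvres hvC in
/-- the key step: smoothness of `h_S → h_R` forces `ker v ⊆ m^(N+1)` -/
lemma ker_v_le_mpow (hvs : Function.Surjective v)
    (hker : RingHom.ker v ≤ IsLocalRing.maximalIdeal T.carrier ^ 2 ⊔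
      Ideal.map cT (IsLocalRing.maximalIdeal R.carrier))
    (hver : IsVersal ((Family.self R.carrier R.res).along u hu)) (N : ℕ) :
    RingHom.ker v ≤ T.mpow N := by
  classical
  let can : T.carrier →ₐ[Λ] (T.trunc N) := (T.truncHom N).1
  let μ : T.trunc N ⟶ S.trunc N := CRing.truncMapOfHom v hvres N
  have hμ : Function.Surjective μ := truncMapOfHom_surjective v hvres hvs N
  let y : HomSet R.carrier R.res (T.trunc N) :=
    ⟨can.comp cT, by rw [← AlgHom.comp_assoc, (T.truncHom N).2, hcT]⟩
  have hy : (hR R.carrier R.res).map μ y =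
      ((Family.self R.carrier R.res).along u hu).app _ (S.truncHom N) := by
    apply Subtype.ext
    apply AlgHom.ext
    intro r
    change μ (can (cT r)) = (S.truncHom N).1 (u r)
    rw [← hvC r]
    rfl
  obtain ⟨ψ, hψ1, hψ2⟩ := hver μ hμ (S.truncHom N) y hy
  have hψ1' : ∀ s : S.carrier, μ (ψ.1 s) = (S.truncHom N).1 s := fun s =>
    congrArg (fun χ : HomSet S.carrier S.res (S.trunc N) => χ.1 s) hψ1
  have hψ2' : ∀ r : R.carrier, ψ.1 (u r) = can (cT r) := fun r =>
    congrArg (fun χ : HomSet R.carrier R.res (T.trunc N) => χ.1 r) hψ2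
  let θ : HomSet T.carrier T.res (T.trunc N) :=
    ⟨ψ.1.comp v, by rw [← AlgHom.comp_assoc, ψ.2, hvres]⟩
  let θb : (T.trunc N) →ₐ[Λ] (T.trunc N) :=
    Ideal.Quotient.liftₐ (T.mpow N) θ.1 (fun t ht => homSet_trunc_kills T N θ t ht)
  have hθb : ∀ t : T.carrier, θb (can t) = ψ.1 (v t) := fun t => rfl
  have hθres : (T.trunc N).res.comp θb = (T.trunc N).res := by
    apply AlgHom.ext
    intro b
    obtain ⟨t, rfl⟩ := Ideal.Quotient.mk_surjective b
    change (T.trunc N).res (ψ.1 (v t)) = (T.trunc N).res (can t)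
    have h1 : (T.trunc N).res (ψ.1 (v t)) = T.res t := congrArg (fun χ : T.carrier →ₐ[Λ] k => χ t) θ.2
    have h2 : (T.trunc N).res (can t) = T.res t :=
      congrArg (fun χ : T.carrier →ₐ[Λ] k => χ t) (T.truncHom N).2
    rw [h1, h2]
  -- generators of `m_B`
  have hmB : IsLocalRing.maximalIdeal (T.trunc N) = Ideal.map can (IsLocalRing.maximalIdeal T.carrier) :=
    maximalIdeal_trunc_eq_map T N
  -- (i)
  have hi : Ideal.map can (Ideal.map cT (IsLocalRing.maximalIdeal R.carrier)) ≤
      Ideal.map θb (IsLocalRing.maximalIdeal (T.trunc N)) := by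
    rw [Ideal.map_le_iff_le_comap, Ideal.map_le_iff_le_comap]
    intro r hr
    rw [Ideal.mem_comap, Ideal.mem_comap]
    have h1 : can (cT r) = θb (can (cT r)) := by
      rw [hθb, hvC, hψ2']
    rw [h1]
    apply Ideal.mem_map_of_mem
    rw [hmB]
    apply Ideal.mem_map_of_mem
    rw [hmT]
    exact Ideal.mem_sup_left (Ideal.mem_map_of_mem _ hr)
  -- (iii)
  have hkerμ : RingHom.ker μ.toAlgHom ≤
      IsLocalRing.maximalIdeal (T.trunc N) ^ 2 ⊔ Ideal.map θb (IsLocalRing.maximalIdeal (T.trunc N)) := by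
    intro b hb
    obtain ⟨t, rfl⟩ := Ideal.Quotient.mk_surjective b
    have h1 : (S.truncHom N).1 (v t) = 0 := hb
    rw [truncHom_eq_zero_iff] at h1
    obtain ⟨t', ht', hvt'⟩ := exists_mem_mpow_of_surjective v hvres hvs N (v t) h1
    have h2 : t - t' ∈ RingHom.ker v := by rw [RingHom.mem_ker, map_sub, hvt', sub_self]
    have h3 : can (t - t') = can t := by
      rw [map_sub, (truncHom_eq_zero_iff T N t').2 ht', sub_zero]
    change can t ∈ _
    rw [← h3]
    have h4 := hker h2
    have h5 : Ideal.map can (IsLocalRing.maximalIdeal T.carrier ^ 2 ⊔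
        Ideal.map cT (IsLocalRing.maximalIdeal R.carrier)) ≤
        IsLocalRing.maximalIdeal (T.trunc N) ^ 2 ⊔ Ideal.map θb (IsLocalRing.maximalIdeal (T.trunc N)) := by
      rw [Ideal.map_sup]
      apply sup_le_sup
      · rw [Ideal.map_pow, hmB]
      · exact hi
    exact h5 (Ideal.mem_map_of_mem _ h4)
  -- surjectivity of θb
  haveI : IsPrecomplete (IsLocalRing.maximalIdeal (T.trunc N)) (T.trunc N) := inferInstance
  have tfae := surjective_tfae_cotangent (T.trunc N).res (T.trunc N).res (T.trunc N).res_surjective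
    (T.trunc N).res_surjective θb hθres
  have hθs : Function.Surjective θb := by
    apply (tfae.out 1 0).1
    apply le_antisymm
    · exact sup_le (map_maximalIdeal_le (T.trunc N).res (T.trunc N).res (T.trunc N).res_surjective
        (T.trunc N).res_surjective θb hθres) (Ideal.pow_le_self two_ne_zero)
    · have hsup : Ideal.map can (IsLocalRing.maximalIdeal T.carrier) ≤
          Ideal.map θb (IsLocalRing.maximalIdeal (T.trunc N)) ⊔ IsLocalRing.maximalIdeal (T.trunc N) ^ 2 := by
        rw [hmT, Ideal.map_sup]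
        apply sup_le
        · exact hi.trans le_sup_left
        · rw [Ideal.map_span, Ideal.span_le]
          rintro _ ⟨_, ⟨i, rfl⟩, rfl⟩
          have hxi : xT i ∈ IsLocalRing.maximalIdeal T.carrier := by
            rw [hmT]
            exact Ideal.mem_sup_right (Ideal.subset_span ⟨i, rfl⟩)
          have h1 : can (xT i) = θb (can (xT i)) + (can (xT i) - θb (can (xT i))) := by ring
          change can (xT i) ∈ _
          rw [h1]
          apply Ideal.add_mem
          · apply Ideal.mem_sup_left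
            apply Ideal.mem_map_of_mem
            rw [hmB]
            exact Ideal.mem_map_of_mem _ hxi
          · have h2 : can (xT i) - θb (can (xT i)) ∈ RingHom.ker μ.toAlgHom := by
              rw [RingHom.mem_ker, map_sub, hθb]
              have e1 : μ.toAlgHom (ψ.1 (v (xT i))) = (S.truncHom N).1 (v (xT i)) := hψ1' _
              rw [e1, sub_eq_zero]
              rfl
            have h3 := hkerμ h2
            rw [sup_comm] at h3
            exact h3
      exact hmB.le.trans hsup
  have hθi : Function.Injective θb :=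
    injective_of_surjective_ringEnd (θb : (T.trunc N) →+* (T.trunc N)) hθs
  intro t ht
  rw [RingHom.mem_ker] at ht
  have h1 : θb (can t) = 0 := by rw [hθb, ht, map_zero]
  have h2 : can t = 0 := hθi (by rw [h1, map_zero])
  exact (truncHom_eq_zero_iff T N t).1 h2

end CSL2

section CSLMain

variable {R S : CRing Λ k} (u : R.carrier →ₐ[Λ] S.carrier) (hu : S.res.comp u = R.res)

/-- **Structure of smooth morphisms**: if `h_S → h_R` is smooth then `S ≅ R[[X₁,…,Xₙ]]` over `R`. -/
theorem exists_ps_bijective_of_isVersal_along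
    (hver : IsVersal ((Family.self R.carrier R.res).along u hu)) :
    ∃ (n : ℕ) (v : MvPowerSeries (Fin n) R.carrier →ₐ[Λ] S.carrier),
      (∀ r, v (C r) = u r) ∧ Function.Bijective v := by
  classical
  have h𝔞 : IsLocalRing.maximalIdeal S.carrier ^ 2 ⊔ Ideal.map u (IsLocalRing.maximalIdeal R.carrier) ≤
      IsLocalRing.maximalIdeal S.carrier :=
    sup_le (Ideal.pow_le_self two_ne_zero)
      (map_maximalIdeal_le R.res S.res R.res_surjective S.res_surjective u hu)
  obtain ⟨n, x, hxm, hx, hind⟩ := exists_min_gens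
    (IsLocalRing.maximalIdeal S.carrier ^ 2 ⊔ Ideal.map u (IsLocalRing.maximalIdeal R.carrier))
  rw [inf_eq_left.2 h𝔞] at hx
  obtain ⟨v, hvres, hvC, hvX⟩ := exists_psEvalC u hu x hxm
  refine ⟨n, v, hvC, ?_⟩
  haveI : IsPrecomplete (IsLocalRing.maximalIdeal (psCRing R n).carrier)
      (psCRing R n).carrier := (psCRing R n).isAdicComplete.toIsPrecomplete
  have tfae := surjective_tfae_cotangent (psCRing R n).res S.res (psCRing R n).res_surjective
    S.res_surjective v hvres
  have hmapC : Ideal.map u (IsLocalRing.maximalIdeal R.carrier) ≤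
      Ideal.map v (IsLocalRing.maximalIdeal (MvPowerSeries (Fin n) R.carrier)) := by
    rw [Ideal.map_le_iff_le_comap]
    intro r hr
    rw [Ideal.mem_comap, ← hvC]
    apply Ideal.mem_map_of_mem
    have hr1 : r ∈ IsLocalRing.maximalIdeal R.carrier ^ 1 := by rwa [pow_one]
    have := PS.C_mem_maximalIdeal_pow (σ := Fin n) hr1
    rwa [pow_one] at this
  have hvs : Function.Surjective v := by
    apply (tfae.out 1 0).1
    apply le_antisymm
    · exact sup_le (map_maximalIdeal_le (psCRing R n).res S.res (psCRing R n).res_surjective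
        S.res_surjective v hvres) (Ideal.pow_le_self two_ne_zero)
    · rw [← hx]
      apply sup_le
      · rw [Ideal.span_le]
        rintro _ ⟨i, rfl⟩
        rw [← hvX]
        exact Ideal.mem_sup_left (Ideal.mem_map_of_mem _ (PS.X_mem_maximalIdeal i))
      · rw [hx]
        exact sup_le le_sup_right (hmapC.trans le_sup_left)
  refine ⟨?_, hvs⟩
  have hker := ker_v_le u hu v hvres hvC (by
    intro c hc
    have : ∑ i, c i * v (X i) = ∑ i, c i * x i := Finset.sum_congr rfl fun i _ => by rw [hvX]
    rw [this] at hc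
    exact hind c hc)
  have hmT : IsLocalRing.maximalIdeal (psCRing R n).carrier =
      Ideal.map (psC R n) (IsLocalRing.maximalIdeal R.carrier) ⊔
        Ideal.span (Set.range (X : Fin n → MvPowerSeries (Fin n) R.carrier)) :=
    PS.maximalIdeal_eq_sup
  have hmem : ∀ N, RingHom.ker v ≤ (psCRing R n).mpow N := fun N =>
    ker_v_le_mpow (T := psCRing R n) u hu (psC R n) (psCRing_res_comp_psC R n)
      (X : Fin n → MvPowerSeries (Fin n) R.carrier) hmT v hvres hvC hvs hker hver N
  rw [injective_iff_map_eq_zero]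
  intro t ht
  have hbot : (⨅ m, IsLocalRing.maximalIdeal (MvPowerSeries (Fin n) R.carrier) ^ m) = ⊥ :=
    Ideal.iInf_pow_eq_bot_of_isLocalRing _ (IsLocalRing.maximalIdeal.isMaximal _).ne_top
  have : t ∈ (⨅ m, IsLocalRing.maximalIdeal (MvPowerSeries (Fin n) R.carrier) ^ m) := by
    rw [Ideal.mem_iInf]
    intro m
    have h1 : t ∈ (psCRing R n).mpow m := hmem m ((RingHom.mem_ker).2 ht)
    exact Ideal.pow_le_pow_right (Nat.le_succ m) h1
  rw [hbot] at this
  exact this

end CSLMain

end Groth.Agent.Lib.Helper1.ArtFunLib
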