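import Mathlib
import Groth.Prelude.Def_ArtFun5
import Groth.Agent.Lib.Helper1.ArtFunDerSurj
import Groth.Agent.Lib.Helper1.ArtFunProrep
import Groth.Agent.Lib.Helper1.ArtFunPSSmooth
import Groth.Agent.Lib.Helper1.ArtFunBasic

/-!
# Surjectivity from injectivity on tangent spaces; consequences for power series rings
-/
universe u v
open CategoryTheory

namespace Groth.Agent.Lib.Helper1.ArtFunLib

open ArtFun ArtFun.Art MvPowerSeries

variable {Λ : Type u} {k : Type u} [CommRing Λ] [Field k] [Algebra Λ k]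

/-- a morphism `f : R' → R` of coefficient rings such that `u ↦ u ∘ f` is injective on `h_R(k[ε])` is surjective -/
theorem surjective_of_tangent_comp_injective {R' R : CRing Λ k} (f : R'.carrier →ₐ[Λ] R.carrier)
    (hf : R.res.comp f = R'.res)
    (hinj : ∀ u₁ u₂ : HomSet R.carrier R.res (dual Λ k), u₁.1.comp f = u₂.1.comp f → u₁ = u₂) :
    Function.Surjective f := by
  letI : Algebra R.carrier k := R.res.toRingHom.toAlgebra
  haveI : IsScalarTower Λ R.carrier k := IsScalarTower.of_algebraMap_eq (fun l => (R.res.commutes l).symm)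
  have hres : Function.Surjective (algebraMap R.carrier k) := R.res_surjective
  have htoAlg : IsScalarTower.toAlgHom Λ R.carrier k = R.res := AlgHom.ext (fun _ => rfl)
  apply surjective_of_derivation_comp_injective R' R.carrier hres f (by rw [htoAlg]; exact hf)
  intro D₁ D₂ h
  have e := hinj ⟨homOfDer D₁, by rw [res_comp_homOfDer, htoAlg]⟩ ⟨homOfDer D₂, by rw [res_comp_homOfDer, htoAlg]⟩
    (by
      apply AlgHom.ext
      intro r
      apply TrivSqZeroExt.ext
      · change (homOfDer D₁ (f r)).fst = (homOfDer D₂ (f r)).fst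
        rw [homOfDer_fst, homOfDer_fst]
      · change (homOfDer D₁ (f r)).snd = (homOfDer D₂ (f r)).snd
        rw [homOfDer_snd, homOfDer_snd, h])
  apply Derivation.ext
  intro r
  have := congrArg (fun u : HomSet R.carrier R.res (dual Λ k) => (u.1 r).snd) e
  change (homOfDer D₁ r).snd = (homOfDer D₂ r).snd at this
  rwa [homOfDer_snd, homOfDer_snd] at this

section PSExt

variable {R S : CRing Λ k} {n : ℕ}

/-- two maps `R[[X]] → S` of coefficient rings agreeing on constants and variables are equal -/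
theorem psAlgHom_ext (f₁ f₂ : (psCRing R n).carrier →ₐ[Λ] S.carrier)
    (h₁ : S.res.comp f₁ = (psCRing R n).res) (h₂ : S.res.comp f₂ = (psCRing R n).res)
    (hC : ∀ r : R.carrier, f₁ (C r : MvPowerSeries (Fin n) R.carrier) = f₂ (C r : MvPowerSeries (Fin n) R.carrier))
    (hX : ∀ i, f₁ (X i : MvPowerSeries (Fin n) R.carrier) = f₂ (X i : MvPowerSeries (Fin n) R.carrier)) :
    f₁ = f₂ := by
  apply algHom_ext_of_trunc (S := S)
  intro N
  have h := psHom_ext (R := R) (n := n) (A := S.trunc N)
    ⟨(S.truncHom N).1.comp f₁, by rw [← AlgHom.comp_assoc, (S.truncHom N).2, h₁]⟩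
    ⟨(S.truncHom N).1.comp f₂, by rw [← AlgHom.comp_assoc, (S.truncHom N).2, h₂]⟩
    (fun r => by
      change (S.truncHom N).1 (f₁ (C r : MvPowerSeries (Fin n) R.carrier)) =
        (S.truncHom N).1 (f₂ (C r : MvPowerSeries (Fin n) R.carrier))
      rw [hC])
    (fun i => by
      change (S.truncHom N).1 (f₁ (X i : MvPowerSeries (Fin n) R.carrier)) =
        (S.truncHom N).1 (f₂ (X i : MvPowerSeries (Fin n) R.carrier))
      rw [hX])
  exact congrArg Subtype.val h

end PSExt

section Compare

variable {H R L : CRing Λ k} {n : ℕ}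

/-- a surjection `g : H → R` onto a power series ring `R ≅ L[[X]]` (over `L → H → R`) which is surjective on
tangent spaces is bijective -/
theorem bijective_of_surjective_of_tangent_surjective
    (g : H.carrier →ₐ[Λ] R.carrier) (hg : R.res.comp g = H.res) (hgs : Function.Surjective g)
    (uH : L.carrier →ₐ[Λ] H.carrier) (huH : H.res.comp uH = L.res)
    (v : (psCRing L n).carrier →ₐ[Λ] R.carrier) (hvres : R.res.comp v = (psCRing L n).res)
    (hvbij : Function.Bijective v)
    (hvC : ∀ r : L.carrier, v (C r : MvPowerSeries (Fin n) L.carrier) = g (uH r))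
    (htan : ∀ u : HomSet H.carrier H.res (dual Λ k),
      ∃ φ : HomSet R.carrier R.res (dual Λ k), φ.1.comp g = u.1) :
    Function.Bijective g := by
  classical
  choose x hx using fun i : Fin n => hgs (v (X i : MvPowerSeries (Fin n) L.carrier))
  have hxm : ∀ i, x i ∈ IsLocalRing.maximalIdeal H.carrier := by
    intro i
    rw [CRing.mem_maximalIdeal_iff]
    have h1 : H.res (x i) = R.res (g (x i)) := (congrArg (fun χ : H.carrier →ₐ[Λ] k => χ (x i)) hg).symm
    rw [h1, hx]
    have h2 : R.res (v (X i : MvPowerSeries (Fin n) L.carrier)) =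
        (psCRing L n).res (X i : MvPowerSeries (Fin n) L.carrier) :=
      congrArg (fun χ : (psCRing L n).carrier →ₐ[Λ] k => χ (X i : MvPowerSeries (Fin n) L.carrier)) hvres
    rw [h2, psCRing_res_apply, constantCoeff_X, map_zero]
  obtain ⟨w, hwres, hwC, hwX⟩ := exists_psEvalC uH huH x hxm
  have hgw : g.comp w = v := by
    apply psAlgHom_ext (R := L) (S := R) (g.comp w) v
      (by rw [← AlgHom.comp_assoc, hg]; exact hwres) hvres
    · intro r
      change g (w (C r : MvPowerSeries (Fin n) L.carrier)) = v (C r : MvPowerSeries (Fin n) L.carrier)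
      rw [hwC, hvC]
    · intro i
      change g (w (X i : MvPowerSeries (Fin n) L.carrier)) = v (X i : MvPowerSeries (Fin n) L.carrier)
      rw [hwX, hx]
  have hgw' : ∀ t, g (w t) = v t := fun t => congrArg (fun χ : (psCRing L n).carrier →ₐ[Λ] R.carrier => χ t) hgw
  -- w is surjective
  have hws : Function.Surjective w := by
    apply surjective_of_tangent_comp_injective (R' := psCRing L n) (R := H) w hwres
    intro u₁ u₂ h
    obtain ⟨φ₁, hφ₁⟩ := htan u₁
    obtain ⟨φ₂, hφ₂⟩ := htan u₂
    have h3 : φ₁ = φ₂ := by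
      apply Subtype.ext
      apply AlgHom.ext
      intro r
      obtain ⟨t, rfl⟩ := hvbij.2 r
      have e1 : φ₁.1 (v t) = u₁.1 (w t) := by
        rw [← hgw' t]
        exact congrArg (fun χ : H.carrier →ₐ[Λ] (dual Λ k) => χ (w t)) hφ₁
      have e2 : φ₂.1 (v t) = u₂.1 (w t) := by
        rw [← hgw' t]
        exact congrArg (fun χ : H.carrier →ₐ[Λ] (dual Λ k) => χ (w t)) hφ₂
      rw [e1, e2]
      exact congrArg (fun χ : (psCRing L n).carrier →ₐ[Λ] (dual Λ k) => χ t) h
    apply Subtype.ext
    rw [← hφ₁, ← hφ₂, h3]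
  refine ⟨?_, hgs⟩
  intro a b hab
  obtain ⟨a', rfl⟩ := hws a
  obtain ⟨b', rfl⟩ := hws b
  rw [hgw', hgw'] at hab
  rw [hvbij.1 hab]

end Compare

section VersalIso

variable {F : Art Λ k ⥤ Type v} {H R : CRing Λ k}

/-- versality transports along an isomorphism of coefficient rings -/
theorem isVersal_of_along_bijective (η : Family H.carrier H.res F) (hη : IsVersal η)
    (g : H.carrier →ₐ[Λ] R.carrier) (hg : R.res.comp g = H.res) (hgb : Function.Bijective g)
    (ξ : Family R.carrier R.res F)
    (happ : ∀ {A : Art Λ k} (φ : HomSet R.carrier R.res A), (η.along g hg).app A φ = ξ.app A φ) :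
    IsVersal ξ := by
  let ge : H.carrier ≃ₐ[Λ] R.carrier := AlgEquiv.ofBijective g hgb
  have hge : ∀ a, ge a = g a := fun a => rfl
  have hres' : H.res.comp (ge.symm : R.carrier →ₐ[Λ] H.carrier) = R.res := by
    apply AlgHom.ext
    intro r
    change H.res (ge.symm r) = R.res r
    have := congrArg (fun χ : H.carrier →ₐ[Λ] k => χ (ge.symm r)) hg
    change R.res (g (ge.symm r)) = H.res (ge.symm r) at this
    rw [← this, ← hge, AlgEquiv.apply_symm_apply]
  intro B A μ hμ φ y hy
  have hy' : F.map μ y = η.app A ⟨φ.1.comp g, by rw [← AlgHom.comp_assoc, φ.2, hg]⟩ := by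
    rw [hy, ← happ φ]
    rfl
  obtain ⟨ψH, hψ1, hψ2⟩ := hη μ hμ ⟨φ.1.comp g, by rw [← AlgHom.comp_assoc, φ.2, hg]⟩ y hy'
  let ψ : HomSet R.carrier R.res B :=
    ⟨ψH.1.comp (ge.symm : R.carrier →ₐ[Λ] H.carrier), by rw [← AlgHom.comp_assoc, ψH.2, hres']⟩
  have hψg : (⟨ψ.1.comp g, by rw [← AlgHom.comp_assoc, ψ.2, hg]⟩ : HomSet H.carrier H.res B) = ψH := by
    apply Subtype.ext
    apply AlgHom.ext
    intro a
    change ψH.1 (ge.symm (g a)) = ψH.1 a
    rw [← hge, AlgEquiv.symm_apply_apply]
  refine ⟨ψ, ?_, ?_⟩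
  · apply Subtype.ext
    apply AlgHom.ext
    intro r
    have h1 := congrArg (fun χ : HomSet H.carrier H.res A => χ.1 (ge.symm r)) hψ1
    change μ (ψH.1 (ge.symm r)) = φ.1 (g (ge.symm r)) at h1
    rw [← hge, AlgEquiv.apply_symm_apply] at h1
    exact h1
  · rw [← happ ψ]
    change η.app B ⟨ψ.1.comp g, _⟩ = y
    rw [hψg]
    exact hψ2

/-- a miniversal family forces `F(k)` to be a point -/
theorem h0_of_isMiniversal (η : Family H.carrier H.res F) (hmini : IsMiniversal η) : H0 F := by
  refine ⟨⟨η.app _ (homSetBase H.carrier H.res)⟩, ⟨fun a b => ?_⟩⟩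
  have key : ∀ a : F.obj (base Λ k), a = η.app _ (homSetBase H.carrier H.res) := by
    intro a
    obtain ⟨φ, hφ⟩ := hmini.2.2 (F.map baseToDual a)
    have h1 : F.map (toBase (dual Λ k)) (F.map baseToDual a) = a := by
      rw [← F.map_comp_apply]
      have : (baseToDual ≫ toBase (dual Λ k) : base Λ k ⟶ base Λ k) = 𝟙 _ := by
        apply Art.hom_ext
        apply AlgHom.ext
        intro x
        exact res_app baseToDual x
      rw [this, F.map_id_apply]
    rw [← h1, ← hφ, ← η.natural]
    congr 1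
    exact Subsingleton.elim _ _
  rw [key a, key b]

end VersalIso

section Base

variable [IsNoetherianRing Λ] [IsLocalRing Λ] [IsAdicComplete (IsLocalRing.maximalIdeal Λ) Λ]

/-- `Λ` itself as a coefficient ring -/
noncomputable def baseCRing (hk : Function.Surjective (algebraMap Λ k)) : CRing Λ k where
  carrier := Λ
  res := Algebra.ofId Λ k
  res_surjective := hk
  isAdicComplete := inferInstance

omit [IsNoetherianRing Λ] [IsLocalRing Λ] [IsAdicComplete (IsLocalRing.maximalIdeal Λ) Λ] in
theorem algHom_self_ext {A : Type*} [Semiring A] [Algebra Λ A] (f g : Λ →ₐ[Λ] A) : f = g := by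
  apply AlgHom.ext
  intro x
  have h1 := f.commutes x
  have h2 := g.commutes x
  rw [Algebra.algebraMap_self, RingHom.id_apply] at h1 h2
  rw [h1, h2]

end Base

end Groth.Agent.Lib.Helper1.ArtFunLib
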