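import Mathlib
import Groth.Prelude.Def_ArtFun3
import Groth.Agent.Lib.Helper1.ArtFunObs
import Groth.Agent.Lib.Helper1.ArtFunPSRing
import Groth.Agent.Lib.Helper1.ArtFunTangentSurj

/-!
# Obstruction theory for quotients of power series rings
-/
universe u v
open CategoryTheory TensorProduct

namespace Groth.Agent.Lib.Helper1.ArtFunLib

open ArtFun ArtFun.Art MvPowerSeries

section Smooth

variable {Λ : Type u} {k : Type u} [CommRing Λ] [Field k] [Algebra Λ k]

/-- `h_{R[[X]]}` is smooth if `h_R` is -/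
theorem hR_psCRing_smooth (R : CRing Λ k) (n : ℕ)
    (hR : ∀ ⦃B A : Art Λ k⦄ (μ : B ⟶ A), Function.Surjective μ →
      Function.Surjective (HomSet.map (R := R.carrier) (resR := R.res) μ)) :
    ∀ ⦃B A : Art Λ k⦄ (μ : B ⟶ A), Function.Surjective μ →
      Function.Surjective (HomSet.map (R := (psCRing R n).carrier) (resR := (psCRing R n).res) μ) := by
  intro B A μ hμ φ
  obtain ⟨v, hv⟩ := hR μ hμ (psRestr φ)
  have hb : ∀ i : Fin n, ∃ b : B, μ b = φ.1 (X i : MvPowerSeries (Fin n) R.carrier) := fun i => hμ _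
  choose b hb using hb
  have hbm : ∀ i, b i ∈ IsLocalRing.maximalIdeal B := by
    intro i
    rw [mem_maximalIdeal_iff]
    have h1 : A.res (μ (b i)) = B.res (b i) := Art.res_app μ (b i)
    rw [← h1, hb i, ← mem_maximalIdeal_iff]
    exact psHom_X_mem φ i
  refine ⟨psEval v b hbm, ?_⟩
  apply psHom_ext
  · intro r
    change μ ((psEval v b hbm).1 (C r : MvPowerSeries (Fin n) R.carrier)) = _
    rw [psEval_C]
    have h1 : μ (v.1 r) = (psRestr φ).1 r := congrArg (fun χ : HomSet R.carrier R.res A => χ.1 r) hv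
    rw [h1, psRestr_apply]
  · intro i
    change μ ((psEval v b hbm).1 (X i : MvPowerSeries (Fin n) R.carrier)) = _
    rw [psEval_X, hb i]

end Smooth

section Field

variable (k : Type u) [Field k]

instance isAdicComplete_field : IsAdicComplete (IsLocalRing.maximalIdeal k) k := by
  rw [IsLocalRing.maximalIdeal_eq_bot]
  infer_instance

/-- `k` as a coefficient ring over itself -/
noncomputable def fieldCRing : CRing k k := baseCRing (Λ := k) (k := k) (fun c => ⟨c, rfl⟩)

lemma fieldCRing_smooth : ∀ ⦃B A : Art k k⦄ (μ : B ⟶ A), Function.Surjective μ →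
    Function.Surjective (HomSet.map (R := (fieldCRing k).carrier) (resR := (fieldCRing k).res) μ) := by
  intro B A μ _ φ
  refine ⟨⟨Algebra.ofId k B, algHom_self_ext _ _⟩, ?_⟩
  apply Subtype.ext
  exact algHom_self_ext _ _

variable {k}

/-- any `k`-augmentation of a local `k`-algebra has kernel the maximal ideal -/
lemma maximalIdeal_eq_ker_aug {T : Type u} [CommRing T] [Algebra k T] [IsLocalRing T] (resT : T →ₐ[k] k) :
    IsLocalRing.maximalIdeal T = RingHom.ker resT := by
  have hsurj : Function.Surjective (resT : T →+* k) := fun c => ⟨algebraMap k T c, by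
    change resT (algebraMap k T c) = c
    rw [AlgHom.commutes]; rfl⟩
  haveI : (RingHom.ker (resT : T →+* k)).IsMaximal := RingHom.ker_isMaximal_of_surjective _ hsurj
  exact (IsLocalRing.eq_maximalIdeal (I := RingHom.ker (resT : T →+* k)) inferInstance).symm

/-- any `k`-augmentation of `k[[X]]` is the constant coefficient -/
lemma aug_eq_psCRing_res (d : ℕ) (resT : MvPowerSeries (Fin d) k →ₐ[k] k) :
    resT = (psCRing (fieldCRing k) d).res := by
  apply AlgHom.ext
  intro f
  have h1 : f - C (constantCoeff f) ∈ RingHom.ker resT := by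
    rw [← maximalIdeal_eq_ker_aug resT]
    exact PS.span_X_le_maximalIdeal (PS.sub_C_constantCoeff_mem f)
  rw [RingHom.mem_ker, map_sub, sub_eq_zero] at h1
  rw [h1]
  change resT (algebraMap k (MvPowerSeries (Fin d) k) (constantCoeff f)) = constantCoeff f
  rw [AlgHom.commutes]
  rfl

/-- `h_{k[[X]]}` is smooth -/
theorem mvPowerSeries_smooth (d : ℕ) (resT : MvPowerSeries (Fin d) k →ₐ[k] k) :
    ∀ ⦃B A : Art k k⦄ (μ : B ⟶ A), Function.Surjective μ →
      Function.Surjective (HomSet.map (R := MvPowerSeries (Fin d) k) (resR := resT) μ) := by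
  rw [aug_eq_psCRing_res d resT]
  exact hR_psCRing_smooth (fieldCRing k) d (fieldCRing_smooth k)

/-- `M/𝔪M` is finite over `k` for a finite module over an augmented local `k`-algebra -/
theorem finite_quot_smul_top {T : Type u} [CommRing T] [Algebra k T] (resT : T →ₐ[k] k)
    (𝔪 : Ideal T) (h𝔪 : 𝔪 = RingHom.ker resT)
    {M : Type u} [AddCommGroup M] [Module T M] [Module k M] [IsScalarTower k T M] [Module.Finite T M] :
    Module.Finite k (M ⧸ (𝔪 • (⊤ : Submodule T M))) := by
  obtain ⟨S, hS⟩ := (Module.Finite.fg_top : (⊤ : Submodule T M).FG)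
  classical
  refine ⟨⟨S.image (Submodule.Quotient.mk (p := 𝔪 • (⊤ : Submodule T M))), ?_⟩⟩
  rw [eq_top_iff]
  rintro x -
  obtain ⟨m, rfl⟩ := Submodule.Quotient.mk_surjective _ x
  have hm : m ∈ Submodule.span T (S : Set M) := by rw [hS]; trivial
  refine Submodule.span_induction ?_ ?_ ?_ ?_ hm
  · intro s hs
    apply Submodule.subset_span
    rw [Finset.coe_image]
    exact ⟨s, hs, rfl⟩
  · rw [Submodule.Quotient.mk_zero]
    exact Submodule.zero_mem _
  · intro x y _ _ hx hy
    rw [Submodule.Quotient.mk_add]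
    exact Submodule.add_mem _ hx hy
  · intro t x _ hx
    have h1 : t - algebraMap k T (resT t) ∈ 𝔪 := by
      rw [h𝔪, RingHom.mem_ker, map_sub, AlgHom.commutes, sub_eq_zero]
      rfl
    have h2 : (Submodule.Quotient.mk (t • x) : M ⧸ (𝔪 • (⊤ : Submodule T M))) =
        resT t • Submodule.Quotient.mk x := by
      rw [← Submodule.Quotient.mk_smul, ← sub_eq_zero, ← Submodule.Quotient.mk_sub,
        Submodule.Quotient.mk_eq_zero]
      have h3 : t • x - resT t • x = (t - algebraMap k T (resT t)) • x := by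
        rw [sub_smul, algebraMap_smul]
      rw [h3]
      exact Submodule.smul_mem_smul h1 trivial
    rw [h2]
    exact Submodule.smul_mem _ _ hx

end Field

section Main

variable {k : Type u} [Field k]

theorem hasObsTheory_mvPowerSeries_quotient (d : ℕ)
    (J : Ideal (MvPowerSeries (Fin d) k)) (hJ : J ≤ IsLocalRing.maximalIdeal (MvPowerSeries (Fin d) k) ^ 2)
    (res : (MvPowerSeries (Fin d) k ⧸ J) →ₐ[k] k) :
    HasObsTheory (hR (MvPowerSeries (Fin d) k ⧸ J) res)
      (Module.Dual k (↥J ⧸ (IsLocalRing.maximalIdeal (MvPowerSeries (Fin d) k) •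
        (⊤ : Submodule (MvPowerSeries (Fin d) k) ↥J)))) := by
  have h𝔪 : IsLocalRing.maximalIdeal (MvPowerSeries (Fin d) k) =
      RingHom.ker (res.comp (Ideal.Quotient.mkₐ k J)) := maximalIdeal_eq_ker_aug _
  haveI : Module.Finite k (↥J ⧸ (IsLocalRing.maximalIdeal (MvPowerSeries (Fin d) k) •
        (⊤ : Submodule (MvPowerSeries (Fin d) k) ↥J))) :=
    finite_quot_smul_top (res.comp (Ideal.Quotient.mkₐ k J)) _ h𝔪
  exact ObsPres.hasObsTheory (resT := res.comp (Ideal.Quotient.mkₐ k J)) (Ideal.Quotient.mkₐ k J) rfl J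
    (Ideal.Quotient.mkₐ_ker k J) _ h𝔪 hJ (Ideal.Quotient.mkₐ_surjective k J)
    (mvPowerSeries_smooth d _)

end Main

end Groth.Agent.Lib.Helper1.ArtFunLib
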