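import Mathlib
import Groth.Prelude.Def_ArtFun3
import Groth.Agent.Lib.Helper1.ArtFunObs
import Groth.Agent.Lib.Helper1.ArtFunObsPS
import Groth.Agent.Lib.Helper1.ArtFunPSSmooth

/-!
# Obstruction theories of pro-representable functors
-/
universe u v
open CategoryTheory TensorProduct

namespace Groth.Agent.Lib.Helper1.ArtFunLib

open ArtFun ArtFun.Art MvPowerSeries

section Presentation

variable {Λ : Type u} {k : Type u} [CommRing Λ] [Field k] [Algebra Λ k]
variable {R S : CRing Λ k} (u : R.carrier →ₐ[Λ] S.carrier) (hu : S.res.comp u = R.res)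

include hu in
/-- a minimal presentation of `S` over `R`: a surjection `R[[X]] → S` with kernel in `m² + m_R R[[X]]` -/
theorem exists_ps_presentation :
    ∃ (n : ℕ) (v : MvPowerSeries (Fin n) R.carrier →ₐ[Λ] S.carrier),
      S.res.comp v = (psCRing R n).res ∧ (∀ r, v (C r) = u r) ∧ Function.Surjective v ∧
      RingHom.ker v ≤ IsLocalRing.maximalIdeal (MvPowerSeries (Fin n) R.carrier) ^ 2 ⊔
        Ideal.map (C : R.carrier →+* MvPowerSeries (Fin n) R.carrier) (IsLocalRing.maximalIdeal R.carrier) := by
  classical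
  have h𝔞 : IsLocalRing.maximalIdeal S.carrier ^ 2 ⊔ Ideal.map u (IsLocalRing.maximalIdeal R.carrier) ≤
      IsLocalRing.maximalIdeal S.carrier :=
    sup_le (Ideal.pow_le_self two_ne_zero)
      (map_maximalIdeal_le R.res S.res R.res_surjective S.res_surjective u hu)
  obtain ⟨n, x, hxm, hx, hind⟩ := exists_min_gens
    (IsLocalRing.maximalIdeal S.carrier ^ 2 ⊔ Ideal.map u (IsLocalRing.maximalIdeal R.carrier))
  rw [inf_eq_left.2 h𝔞] at hx
  obtain ⟨v, hvres, hvC, hvX⟩ := exists_psEvalC u hu x hxm
  refine ⟨n, v, hvres, hvC, ?_, ?_⟩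
  · haveI : IsPrecomplete (IsLocalRing.maximalIdeal (psCRing R n).carrier)
        (psCRing R n).carrier := (psCRing R n).isAdicComplete.toIsPrecomplete
    have tfae := surjective_tfae_cotangent (psCRing R n).res S.res (psCRing R n).res_surjective
      S.res_surjective v hvres
    have hmapC : Ideal.map u (IsLocalRing.maximalIdeal R.carrier) ≤
        Ideal.map v (IsLocalRing.maximalIdeal (MvPowerSeries (Fin n) R.carrier)) := by
      rw [Ideal.map_le_iff_le_comap]
      intro r hr
      rw [Ideal.mem_comap, ← hvC]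
      apply Ideal.mem_map_of_mem
      have hr1 : r ∈ IsLocalRing.maximalIdeal R.carrier ^ 1 := by rwa [pow_one]
      have := PS.C_mem_maximalIdeal_pow (σ := Fin n) hr1
      rwa [pow_one] at this
    apply (tfae.out 1 0).1
    apply le_antisymm
    · exact sup_le (map_maximalIdeal_le (psCRing R n).res S.res (psCRing R n).res_surjective
        S.res_surjective v hvres) (Ideal.pow_le_self two_ne_zero)
    · rw [← hx]
      apply sup_le
      · rw [Ideal.span_le]
        rintro _ ⟨i, rfl⟩
        rw [← hvX]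
        exact Ideal.mem_sup_left (Ideal.mem_map_of_mem _ (PS.X_mem_maximalIdeal i))
      · rw [hx]
        exact sup_le le_sup_right (hmapC.trans le_sup_left)
  · exact ker_v_le u hu v hvres hvC (by
      intro c hc
      have : ∑ i, c i * v (X i) = ∑ i, c i * x i := Finset.sum_congr rfl fun i _ => by rw [hvX]
      rw [this] at hc
      exact hind c hc)

end Presentation

section Transport

variable {k : Type u} [Field k]

/-- transport of an obstruction theory along a linear equivalence of the value space -/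
noncomputable def ObsTheory.congrV {F : Art k k ⥤ Type v} {V V' : Type u} [AddCommGroup V] [Module k V]
    [AddCommGroup V'] [Module k V'] (e : V ≃ₗ[k] V') (O : ObsTheory F V) : ObsTheory F V' where
  obs {C' C} p hp u := LinearMap.rTensor _ e.toLinearMap (O.obs p hp u)
  obs_eq_zero_iff {C' C} p hp u := by
    rw [← O.obs_eq_zero_iff p hp u]
    have h1 : LinearMap.rTensor (↥(RingHom.ker p.toAlgHom)) e.toLinearMap (O.obs p hp u) =
        (LinearEquiv.rTensor (↥(RingHom.ker p.toAlgHom)) e) (O.obs p hp u) := rfl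
    rw [h1, LinearEquiv.map_eq_zero_iff]
  obs_quot {C' C} p hp K hK hKJ hq u := by
    rw [O.obs_quot p hp K hK hKJ hq u]
    rw [← LinearMap.comp_apply, ← LinearMap.comp_apply, LinearMap.rTensor_comp_lTensor,
      LinearMap.lTensor_comp_rTensor]

/-- transport of an obstruction theory of `h_R` along a universal family -/
noncomputable def ObsTheory.ofUniversal {F : Art k k ⥤ Type v} {R : Type u} [CommRing R] [Algebra k R]
    {res : R →ₐ[k] k} (ξ : Family R res F) (hξ : IsUniversal ξ)
    {V : Type u} [AddCommGroup V] [Module k V] (O : ObsTheory (hR R res) V) : ObsTheory F V where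
  obs {C' C} p hp u := O.obs p hp ((Equiv.ofBijective _ (hξ C)).symm u)
  obs_eq_zero_iff {C' C} p hp u := by
    rw [O.obs_eq_zero_iff p hp]
    constructor
    · rintro ⟨w', hw'⟩
      refine ⟨ξ.app C' w', ?_⟩
      rw [← ξ.natural p w']
      have h1 : HomSet.map p w' = (Equiv.ofBijective _ (hξ C)).symm u := hw'
      rw [h1]
      exact (Equiv.ofBijective _ (hξ C)).apply_symm_apply u
    · rintro ⟨u', hu'⟩
      refine ⟨(Equiv.ofBijective _ (hξ C')).symm u', ?_⟩
      apply (hξ C).1
      change ξ.app C (HomSet.map p ((Equiv.ofBijective _ (hξ C')).symm u')) =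
        ξ.app C ((Equiv.ofBijective _ (hξ C)).symm u)
      rw [ξ.natural p]
      have h2 : ξ.app C' ((Equiv.ofBijective _ (hξ C')).symm u') = u' :=
        (Equiv.ofBijective _ (hξ C')).apply_symm_apply u'
      have h3 : ξ.app C ((Equiv.ofBijective _ (hξ C)).symm u) = u :=
        (Equiv.ofBijective _ (hξ C)).apply_symm_apply u
      rw [h2, h3, hu']
  obs_quot {C' C} p hp K hK hKJ hq u := O.obs_quot p hp K hK hKJ hq _

end Transport

section Main

variable {k : Type u} [Field k]

/-- a minimal presentation of a complete local Noetherian `k`-algebra with residue field `k` -/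
theorem exists_ps_presentation_field (S : CRing k k) :
    ∃ (n : ℕ) (v : MvPowerSeries (Fin n) k →ₐ[k] S.carrier), Function.Surjective v ∧
      RingHom.ker v ≤ IsLocalRing.maximalIdeal (MvPowerSeries (Fin n) k) ^ 2 := by
  let u : (fieldCRing k).carrier →ₐ[k] S.carrier := Algebra.ofId k S.carrier
  have hu : S.res.comp u = (fieldCRing k).res := algHom_self_ext _ _
  obtain ⟨n, v, hvres, hvC, hvs, hker⟩ := exists_ps_presentation u hu
  refine ⟨n, v, hvs, ?_⟩
  refine le_trans hker (sup_le le_rfl ?_)
  have h0 : IsLocalRing.maximalIdeal k = ⊥ := IsLocalRing.maximalIdeal_eq_bot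
  have h1 : Ideal.map (C : k →+* MvPowerSeries (Fin n) k) (IsLocalRing.maximalIdeal k) = ⊥ := by
    rw [h0, Ideal.map_bot]
  exact le_trans (le_of_eq h1) bot_le

theorem exists_hasObsTheory_of_isProrepresentable (F : Art k k ⥤ Type v) (hF : IsProrepresentable F) :
    ∃ n : ℕ, HasObsTheory F (Fin n → k) := by
  obtain ⟨P⟩ := hF
  obtain ⟨n, v, hvs, hker2⟩ := exists_ps_presentation_field P.ring
  have h𝔪 : IsLocalRing.maximalIdeal (MvPowerSeries (Fin n) k) = RingHom.ker (P.ring.res.comp v) :=
    maximalIdeal_eq_ker_aug _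
  have hfin : Module.Finite k (↥(RingHom.ker v) ⧸ (IsLocalRing.maximalIdeal (MvPowerSeries (Fin n) k) •
        (⊤ : Submodule (MvPowerSeries (Fin n) k) ↥(RingHom.ker v)))) :=
    finite_quot_smul_top (P.ring.res.comp v) _ h𝔪
  obtain ⟨O⟩ := ObsPres.hasObsTheory (resT := P.ring.res.comp v) (res := P.ring.res) v rfl (RingHom.ker v)
    rfl _ h𝔪 hker2 hvs (mvPowerSeries_smooth n _)
  let e : Module.Dual k (↥(RingHom.ker v) ⧸ (IsLocalRing.maximalIdeal (MvPowerSeries (Fin n) k) •
        (⊤ : Submodule (MvPowerSeries (Fin n) k) ↥(RingHom.ker v)))) ≃ₗ[k] (Fin _ → k) :=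
    (Module.finBasis k _).equivFun
  exact ⟨_, ⟨ObsTheory.ofUniversal P.family P.universal (ObsTheory.congrV e O)⟩⟩

end Main

end Groth.Agent.Lib.Helper1.ArtFunLib
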