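import Mathlib
import Groth.Prelude.Def_ArtFun5
import Groth.Agent.Lib.Helper1.ArtFunCotangent
import Groth.Agent.Lib.Helper1.ArtFunArt

/-!
# Quotients of coefficient rings: as coefficient rings, and (by open ideals) as objects of `Art`
-/
universe u v
open CategoryTheory

namespace Groth.Agent.Lib.Helper1.ArtFunLib

open ArtFun ArtFun.Art

section Precomplete

theorem isPrecomplete_of_surjective {R : Type*} [CommRing R] (I : Ideal R) {M N : Type*}
    [AddCommGroup M] [Module R M] [AddCommGroup N] [Module R N] (f : M →ₗ[R] N)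
    (hf : Function.Surjective f) [IsPrecomplete I M] : IsPrecomplete I N := by
  refine ⟨fun y hy => ?_⟩
  have hstep : ∀ n (x : M), f x = y n →
      ∃ x' : M, f x' = y (n + 1) ∧ x' - x ∈ (I ^ n • ⊤ : Submodule R M) := by
    intro n x hx
    have h1 : y (n + 1) - y n ∈ (I ^ n • ⊤ : Submodule R N) := by
      have := hy (Nat.le_succ n)
      rw [SModEq.sub_mem] at this
      have e : y (n + 1) - y n = -(y n - y (n + 1)) := by abel
      rw [e]
      exact neg_mem this
    have h2 : (I ^ n • ⊤ : Submodule R N) = Submodule.map f (I ^ n • ⊤ : Submodule R M) := by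
      rw [Submodule.map_smul'', Submodule.map_top, LinearMap.range_eq_top.2 hf]
    rw [h2] at h1
    obtain ⟨d, hd, hfd⟩ := h1
    refine ⟨x + d, ?_, ?_⟩
    · rw [map_add, hx, hfd]; abel
    · simpa using hd
  obtain ⟨x0, hx0⟩ := hf (y 0)
  choose! nxt hnxt1 hnxt2 using hstep
  let x : ℕ → M := fun n => Nat.rec x0 (fun n z => nxt n z) n
  have hx : ∀ n, f (x n) = y n := by
    intro n
    induction n with
    | zero => exact hx0
    | succ n ih => exact hnxt1 n _ ih
  have hx2 : ∀ n, x (n + 1) - x n ∈ (I ^ n • ⊤ : Submodule R M) := fun n => hnxt2 n _ (hx n)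
  have hc : ∀ {a b}, a ≤ b → x a ≡ x b [SMOD (I ^ a • ⊤ : Submodule R M)] := by
    intro a b hab
    induction b, hab using Nat.le_induction with
    | base => rfl
    | succ b hab ih =>
      refine ih.trans ?_
      rw [SModEq.sub_mem]
      have h4 := Submodule.pow_smul_top_le I M hab (hx2 b)
      have e : x b - x (b + 1) = -(x (b + 1) - x b) := by abel
      rw [e]
      exact neg_mem h4
  obtain ⟨L, hL⟩ := IsPrecomplete.prec' (I := I) x hc
  refine ⟨f L, fun n => ?_⟩
  have h5 := hL n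
  rw [SModEq.sub_mem] at h5 ⊢
  rw [← hx n, ← map_sub]
  have h6 : f (x n - L) ∈ Submodule.map f (I ^ n • ⊤ : Submodule R M) := ⟨_, h5, rfl⟩
  rw [Submodule.map_smul''] at h6
  exact Submodule.smul_mono le_rfl le_top h6

end Precomplete

variable {Λ : Type u} {k : Type u} [CommRing Λ] [Field k] [Algebra Λ k]

section QuotC

variable (S : CRing Λ k) (J : Ideal S.carrier) (hJ : J ≤ IsLocalRing.maximalIdeal S.carrier)

include hJ in
lemma cring_ne_top_of_le : J ≠ ⊤ :=
  fun h => (IsLocalRing.maximalIdeal.isMaximal S.carrier).ne_top (top_le_iff.1 (h ▸ hJ))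

/-- the quotient of a coefficient ring by a proper ideal, as a coefficient ring -/
noncomputable def quotC : CRing Λ k :=
  haveI : Nontrivial (S.carrier ⧸ J) := Ideal.Quotient.nontrivial_iff.2 (cring_ne_top_of_le S J hJ)
  letI : IsLocalRing (S.carrier ⧸ J) :=
    IsLocalRing.of_surjective' (Ideal.Quotient.mk J) Ideal.Quotient.mk_surjective
  let res' : S.carrier ⧸ J →ₐ[Λ] k :=
    Ideal.Quotient.liftₐ J S.res (fun a ha => (S.mem_maximalIdeal_iff a).1 (hJ ha))
  have hres' : Function.Surjective res' := fun c => by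
    obtain ⟨a, ha⟩ := S.res_surjective c
    exact ⟨Ideal.Quotient.mk J a, ha⟩
  { carrier := S.carrier ⧸ J
    res := res'
    res_surjective := hres'
    isAdicComplete := by
      have hmap : Ideal.map (Ideal.Quotient.mkₐ Λ J) (IsLocalRing.maximalIdeal S.carrier) =
          IsLocalRing.maximalIdeal (S.carrier ⧸ J) :=
        map_maximalIdeal_eq_of_surjective S.res res' S.res_surjective hres'
          (Ideal.Quotient.mkₐ Λ J) (Ideal.Quotient.liftₐ_comp J S.res _)
          (Ideal.Quotient.mkₐ_surjective Λ J)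
      have : IsPrecomplete (IsLocalRing.maximalIdeal S.carrier) S.carrier :=
        S.isAdicComplete.toIsPrecomplete
      have hp : IsPrecomplete (IsLocalRing.maximalIdeal S.carrier) (S.carrier ⧸ J) :=
        isPrecomplete_of_surjective _ (Submodule.mkQ J) (Submodule.mkQ_surjective J)
      have hp' : IsPrecomplete (IsLocalRing.maximalIdeal (S.carrier ⧸ J)) (S.carrier ⧸ J) := by
        rw [← hmap]
        exact (IsPrecomplete.map_algebraMap_iff (S := S.carrier ⧸ J)).2 hp
      exact { toIsHausdorff := inferInstance, toIsPrecomplete := hp' } }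

/-- the quotient map -/
noncomputable def quotCHom : S.carrier →ₐ[Λ] (quotC S J hJ).carrier := Ideal.Quotient.mkₐ Λ J

lemma quotCHom_res : (quotC S J hJ).res.comp (quotCHom S J hJ) = S.res :=
  Ideal.Quotient.liftₐ_comp J S.res _

lemma quotCHom_surjective : Function.Surjective (quotCHom S J hJ) := Ideal.Quotient.mkₐ_surjective Λ J

lemma quotCHom_eq_zero_iff (a : S.carrier) : quotCHom S J hJ a = 0 ↔ a ∈ J :=
  Ideal.Quotient.eq_zero_iff_mem

lemma ker_quotCHom : RingHom.ker (quotCHom S J hJ) = J := by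
  ext a
  rw [RingHom.mem_ker]
  exact quotCHom_eq_zero_iff S J hJ a

/-- descend an element of `h_S(A)` killing `J` to the quotient -/
noncomputable def quotCDesc {A : Art Λ k} (ψ : HomSet S.carrier S.res A) (h : J ≤ RingHom.ker ψ.1) :
    HomSet (quotC S J hJ).carrier (quotC S J hJ).res A :=
  ⟨Ideal.Quotient.liftₐ J ψ.1 (fun a ha => h ha), by
    apply AlgHom.ext
    intro x
    obtain ⟨a, rfl⟩ := Ideal.Quotient.mk_surjective x
    exact congrArg (fun m : S.carrier →ₐ[Λ] k => m a) ψ.2⟩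

lemma quotCDesc_apply {A : Art Λ k} (ψ : HomSet S.carrier S.res A) (h : J ≤ RingHom.ker ψ.1)
    (a : S.carrier) : (quotCDesc S J hJ ψ h).1 (quotCHom S J hJ a) = ψ.1 a := rfl

/-- restrict an element of `h_{S/J}(A)` to `S` -/
noncomputable def quotCRestr {A : Art Λ k} (φ : HomSet (quotC S J hJ).carrier (quotC S J hJ).res A) :
    HomSet S.carrier S.res A :=
  ⟨φ.1.comp (quotCHom S J hJ), by rw [← AlgHom.comp_assoc, φ.2, quotCHom_res]⟩

lemma quotCRestr_apply {A : Art Λ k} (φ : HomSet (quotC S J hJ).carrier (quotC S J hJ).res A)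
    (a : S.carrier) : (quotCRestr S J hJ φ).1 a = φ.1 (quotCHom S J hJ a) := rfl

lemma le_ker_quotCRestr {A : Art Λ k} (φ : HomSet (quotC S J hJ).carrier (quotC S J hJ).res A) :
    J ≤ RingHom.ker (quotCRestr S J hJ φ).1 := by
  intro a ha
  rw [RingHom.mem_ker, quotCRestr_apply, (quotCHom_eq_zero_iff S J hJ a).2 ha, map_zero]

lemma quotCDesc_quotCRestr {A : Art Λ k} (φ : HomSet (quotC S J hJ).carrier (quotC S J hJ).res A) :
    quotCDesc S J hJ (quotCRestr S J hJ φ) (le_ker_quotCRestr S J hJ φ) = φ := by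
  apply Subtype.ext
  apply AlgHom.ext
  intro x
  obtain ⟨a, rfl⟩ := Ideal.Quotient.mk_surjective x
  rfl

lemma quotCRestr_quotCDesc {A : Art Λ k} (ψ : HomSet S.carrier S.res A) (h : J ≤ RingHom.ker ψ.1) :
    quotCRestr S J hJ (quotCDesc S J hJ ψ h) = ψ :=
  Subtype.ext (AlgHom.ext fun _ => rfl)

lemma quotCRestr_map {A B : Art Λ k} (f : A ⟶ B)
    (φ : HomSet (quotC S J hJ).carrier (quotC S J hJ).res A) :
    quotCRestr S J hJ (HomSet.map f φ) = HomSet.map f (quotCRestr S J hJ φ) := rfl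

lemma quotCRestr_injective {A : Art Λ k} :
    Function.Injective (quotCRestr S J hJ (A := A)) := by
  intro φ φ' h
  rw [← quotCDesc_quotCRestr S J hJ φ, ← quotCDesc_quotCRestr S J hJ φ']
  congr 1

end QuotC

section HomSetFacts

variable (S : CRing Λ k) {A : Art Λ k} (ψ : HomSet S.carrier S.res A)

lemma homSet_res_apply (a : S.carrier) : A.res (ψ.1 a) = S.res a :=
  congrArg (fun m : S.carrier →ₐ[Λ] k => m a) ψ.2

lemma homSet_mem_maximalIdeal_iff (a : S.carrier) :
    ψ.1 a ∈ IsLocalRing.maximalIdeal A ↔ a ∈ IsLocalRing.maximalIdeal S.carrier := by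
  rw [Art.mem_maximalIdeal_iff, homSet_res_apply, S.mem_maximalIdeal_iff]

lemma homSet_map_pow_le (n : ℕ) :
    Ideal.map ψ.1 (IsLocalRing.maximalIdeal S.carrier ^ n) ≤ IsLocalRing.maximalIdeal A ^ n := by
  rw [Ideal.map_pow]
  apply Ideal.pow_right_mono
  rw [Ideal.map_le_iff_le_comap]
  intro a ha
  exact (homSet_mem_maximalIdeal_iff S ψ a).2 ha

lemma exists_pow_le_ker : ∃ N : ℕ, IsLocalRing.maximalIdeal S.carrier ^ N ≤ RingHom.ker ψ.1 := by
  obtain ⟨N, hN⟩ := exists_maximalIdeal_pow_eq_bot A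
  refine ⟨N, fun a ha => ?_⟩
  have h1 : ψ.1 a ∈ IsLocalRing.maximalIdeal A ^ N :=
    homSet_map_pow_le S ψ N (Ideal.mem_map_of_mem _ ha)
  rw [hN] at h1
  exact h1

lemma ker_le_maximalIdeal_homSet : RingHom.ker ψ.1 ≤ IsLocalRing.maximalIdeal S.carrier := by
  intro a ha
  rw [← homSet_mem_maximalIdeal_iff S ψ, RingHom.mem_ker.1 ha]
  exact zero_mem _

end HomSetFacts

section QuotArt

variable (S : CRing Λ k) (K : Ideal S.carrier) (hK : K ≤ IsLocalRing.maximalIdeal S.carrier)
  (N : ℕ) (hN : IsLocalRing.maximalIdeal S.carrier ^ N ≤ K)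

include hK in
lemma quotArt_maximalIdeal_le :
    haveI : Nontrivial (S.carrier ⧸ K) := Ideal.Quotient.nontrivial_iff.2 (cring_ne_top_of_le S K hK)
    letI : IsLocalRing (S.carrier ⧸ K) :=
      IsLocalRing.of_surjective' (Ideal.Quotient.mk K) Ideal.Quotient.mk_surjective
    IsLocalRing.maximalIdeal (S.carrier ⧸ K) ≤
      (IsLocalRing.maximalIdeal S.carrier).map (Ideal.Quotient.mk K) := by
  haveI : Nontrivial (S.carrier ⧸ K) := Ideal.Quotient.nontrivial_iff.2 (cring_ne_top_of_le S K hK)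
  letI : IsLocalRing (S.carrier ⧸ K) :=
    IsLocalRing.of_surjective' (Ideal.Quotient.mk K) Ideal.Quotient.mk_surjective
  intro x hx
  obtain ⟨a, rfl⟩ := Ideal.Quotient.mk_surjective x
  have ha : a ∈ IsLocalRing.maximalIdeal S.carrier := by
    rw [IsLocalRing.mem_maximalIdeal] at hx ⊢
    exact fun hu => hx (hu.map (Ideal.Quotient.mk K))
  exact Ideal.mem_map_of_mem _ ha

include hK hN in
lemma quotArt_isArtinianRing :
    haveI : Nontrivial (S.carrier ⧸ K) := Ideal.Quotient.nontrivial_iff.2 (cring_ne_top_of_le S K hK)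
    letI : IsLocalRing (S.carrier ⧸ K) :=
      IsLocalRing.of_surjective' (Ideal.Quotient.mk K) Ideal.Quotient.mk_surjective
    IsArtinianRing (S.carrier ⧸ K) := by
  haveI : Nontrivial (S.carrier ⧸ K) := Ideal.Quotient.nontrivial_iff.2 (cring_ne_top_of_le S K hK)
  letI : IsLocalRing (S.carrier ⧸ K) :=
    IsLocalRing.of_surjective' (Ideal.Quotient.mk K) Ideal.Quotient.mk_surjective
  rw [isArtinianRing_iff_isNilpotent_maximalIdeal]
  refine ⟨N, ?_⟩
  rw [Ideal.zero_eq_bot, ← le_bot_iff]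
  calc IsLocalRing.maximalIdeal (S.carrier ⧸ K) ^ N
      ≤ ((IsLocalRing.maximalIdeal S.carrier).map (Ideal.Quotient.mk K)) ^ N :=
        Ideal.pow_right_mono (quotArt_maximalIdeal_le S K hK) _
    _ = (IsLocalRing.maximalIdeal S.carrier ^ N).map (Ideal.Quotient.mk K) := by rw [← Ideal.map_pow]
    _ ≤ K.map (Ideal.Quotient.mk K) := Ideal.map_mono hN
    _ = ⊥ := Ideal.map_quotient_self _

/-- the quotient of a coefficient ring by an open ideal, as an object of `Art` -/
noncomputable def quotArt : Art Λ k :=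
  haveI : Nontrivial (S.carrier ⧸ K) := Ideal.Quotient.nontrivial_iff.2 (cring_ne_top_of_le S K hK)
  letI : IsLocalRing (S.carrier ⧸ K) :=
    IsLocalRing.of_surjective' (Ideal.Quotient.mk K) Ideal.Quotient.mk_surjective
  { carrier := S.carrier ⧸ K
    isArtinianRing := quotArt_isArtinianRing S K hK N hN
    res := Ideal.Quotient.liftₐ K S.res (fun a ha => (S.mem_maximalIdeal_iff a).1 (hK ha))
    res_surjective := fun c => by
      obtain ⟨a, ha⟩ := S.res_surjective c
      exact ⟨Ideal.Quotient.mk K a, ha⟩ }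

/-- the quotient map as an element of `h_S(S/K)` -/
noncomputable def quotArtHom : HomSet S.carrier S.res (quotArt S K hK N hN) :=
  ⟨Ideal.Quotient.mkₐ Λ K, Ideal.Quotient.liftₐ_comp K S.res _⟩

lemma quotArtHom_surjective : Function.Surjective (quotArtHom S K hK N hN).1 :=
  Ideal.Quotient.mkₐ_surjective Λ K

lemma quotArtHom_eq_zero_iff (a : S.carrier) : (quotArtHom S K hK N hN).1 a = 0 ↔ a ∈ K :=
  Ideal.Quotient.eq_zero_iff_mem

lemma ker_quotArtHom : RingHom.ker (quotArtHom S K hK N hN).1 = K := by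
  ext a
  rw [RingHom.mem_ker]
  exact quotArtHom_eq_zero_iff S K hK N hN a

/-- factor an element of `h_S(A)` killing `K` through `S/K` -/
noncomputable def quotArtFactor {A : Art Λ k} (ψ : HomSet S.carrier S.res A) (h : K ≤ RingHom.ker ψ.1) :
    quotArt S K hK N hN ⟶ A :=
  ⟨Ideal.Quotient.liftₐ K ψ.1 (fun a ha => h ha), by
    apply AlgHom.ext
    intro x
    obtain ⟨a, rfl⟩ := Ideal.Quotient.mk_surjective x
    exact congrArg (fun m : S.carrier →ₐ[Λ] k => m a) ψ.2⟩

lemma quotArtFactor_comp {A : Art Λ k} (ψ : HomSet S.carrier S.res A) (h : K ≤ RingHom.ker ψ.1) :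
    HomSet.map (quotArtFactor S K hK N hN ψ h) (quotArtHom S K hK N hN) = ψ :=
  Subtype.ext (AlgHom.ext fun _ => rfl)

end QuotArt

end Groth.Agent.Lib.Helper1.ArtFunLib
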