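import Mathlib
import Groth.Prelude.Def_ArtFun3
import Groth.Agent.Lib.Helper1.ArtFunObs
import Groth.Agent.Lib.Helper1.ArtFunObsPS
import Groth.Agent.Lib.Helper1.ArtFunObsProrep
import Groth.Agent.Lib.Helper1.ArtFunArt
import Groth.Agent.Lib.Helper1.ArtFunQuotRing

/-!
# The canonical obstruction space `(J/𝔪J)^∨` of `h_R` embeds in every obstruction space
-/
universe u v
open CategoryTheory TensorProduct

namespace Groth.Agent.Lib.Helper1.ArtFunLib

open ArtFun ArtFun.Art

section Semismall

variable {k : Type u} [Field k]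

lemma res_algebraMap (C : Art k k) (a : k) : C.res (algebraMap k C a) = a := by
  rw [AlgHom.commutes]; rfl

lemma sub_algebraMap_res_mem (C : Art k k) (c : C) :
    c - algebraMap k C (C.res c) ∈ IsLocalRing.maximalIdeal C := by
  rw [mem_maximalIdeal_iff, map_sub, res_algebraMap, sub_self]

/-- multiplication on the kernel of a semismall extension factors through the residue field -/
lemma mul_eq_res_smul_of_mem_ker {C' C : Art k k} (p : C' ⟶ C) (hp : IsSemismallExt p) (c x : C')
    (hx : x ∈ RingHom.ker p.toAlgHom) : c * x = C'.res c • x := by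
  have h1 : (c - algebraMap k C' (C'.res c)) * x ∈
      IsLocalRing.maximalIdeal C' * RingHom.ker p.toAlgHom :=
    Ideal.mul_mem_mul (sub_algebraMap_res_mem C' c) hx
  rw [hp.2] at h1
  have h2 : (c - algebraMap k C' (C'.res c)) * x = 0 := h1
  rw [sub_mul, sub_eq_zero] at h2
  rw [h2, Algebra.smul_def]

/-- a `k`-subspace of the kernel of a semismall extension is an ideal -/
def idealOfSubspace {C' C : Art k k} (p : C' ⟶ C) (hp : IsSemismallExt p) (L : Submodule k C')
    (hL : ∀ x ∈ L, x ∈ RingHom.ker p.toAlgHom) : Ideal C' where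
  carrier := L
  add_mem' := L.add_mem
  zero_mem' := L.zero_mem
  smul_mem' c x hx := by
    change c * x ∈ L
    rw [mul_eq_res_smul_of_mem_ker p hp c x (hL x hx)]
    exact L.smul_mem _ hx

lemma mem_idealOfSubspace {C' C : Art k k} (p : C' ⟶ C) (hp : IsSemismallExt p) (L : Submodule k C')
    (hL : ∀ x ∈ L, x ∈ RingHom.ker p.toAlgHom) (x : C') :
    x ∈ idealOfSubspace p hp L hL ↔ x ∈ L := Iff.rfl

/-- dividing the kernel of a semismall extension by a smaller ideal gives a semismall extension -/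
lemma isSemismallExt_quotFactor {C' C : Art k k} (p : C' ⟶ C) (hp : IsSemismallExt p) (K : Ideal C')
    (hK : K ≤ IsLocalRing.maximalIdeal C') (hKJ : K ≤ RingHom.ker p.toAlgHom) :
    IsSemismallExt (quotFactor hK p hKJ) := by
  refine ⟨?_, ?_⟩
  · intro c
    obtain ⟨c', hc'⟩ := hp.1 c
    exact ⟨quotMk C' K hK c', hc'⟩
  · rw [eq_bot_iff]
    intro z hz
    refine Submodule.mul_induction_on hz ?_ ?_
    · intro x hx y hy
      obtain ⟨a, rfl⟩ := quotMk_surjective C' K hK x
      obtain ⟨b, rfl⟩ := quotMk_surjective C' K hK y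
      have ha : a ∈ IsLocalRing.maximalIdeal C' := by
        rw [mem_maximalIdeal_iff] at hx ⊢
        rw [← hx]
        exact (Art.res_app (quotMk C' K hK) a).symm
      have hb : b ∈ RingHom.ker p.toAlgHom := by
        rw [RingHom.mem_ker] at hy ⊢
        exact hy
      have hab : a * b ∈ IsLocalRing.maximalIdeal C' * RingHom.ker p.toAlgHom :=
        Ideal.mul_mem_mul ha hb
      rw [hp.2] at hab
      have hab0 : a * b = 0 := hab
      rw [Submodule.mem_bot, ← map_mul, hab0, map_zero]
    · intro x y hx hy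
      exact Submodule.add_mem _ hx hy

end Semismall

namespace ObsPres

variable {k : Type u} [Field k]
variable {T : Type u} [CommRing T] [Algebra k T] {resT : T →ₐ[k] k}
variable {R : Type u} [CommRing R] [Algebra k R] {res : R →ₐ[k] k}
variable (π : T →ₐ[k] R) (hπres : res.comp π = resT)
variable (J : Ideal T) (hJ : RingHom.ker π = J) (𝔪 : Ideal T) (h𝔪 : 𝔪 = RingHom.ker resT)
variable (hJ2 : J ≤ 𝔪 ^ 2)

include hJ2 in
/-- if the canonical obstruction map of some semismall extension is injective, the canonical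
obstruction space `J/𝔪J` has dimension at most that of any obstruction space of a functor with a
versal family over `R` -/
theorem finrank_le_of_lam_injective {F : Art k k ⥤ Type v} (ξ : Family R res F) (hξ : IsVersal ξ)
    {V : Type u} [AddCommGroup V] [Module k V] [Module.Finite k V] (O : ObsTheory F V)
    {C' C : Art k k} (p : C' ⟶ C) (hp : IsSemismallExt p)
    (u : HomSet R res C) (w : HomSet T resT C') (hw : HomSet.map p w = pull π hπres u)
    (hinj : Function.Injective (lam π hπres J hJ 𝔪 h𝔪 p hp u w hw)) :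
    Module.finrank k (↥J ⧸ (𝔪 • (⊤ : Submodule T ↥J))) ≤ Module.finrank k V := by
  classical
  let b : Module.Basis (Fin (Module.finrank k V)) k V := Module.finBasis k V
  obtain ⟨c, hc⟩ := TensorProduct.eq_repr_basis_left b (O.obs p hp (ξ.app C u))
  let a : Fin (Module.finrank k V) → C' := fun i => ((c i : ↥(RingHom.ker p.toAlgHom)) : C')
  let L : Submodule k C' := Submodule.span k (Set.range a)
  have hL : ∀ x ∈ L, x ∈ RingHom.ker p.toAlgHom := by
    intro x hx
    refine Submodule.span_induction ?_ ?_ ?_ ?_ hx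
    · rintro _ ⟨i, rfl⟩
      exact (c i).2
    · exact zero_mem _
    · intro x y _ _ hx hy
      exact add_mem hx hy
    · intro t x _ hx
      rw [Algebra.smul_def]
      exact Ideal.mul_mem_left _ _ hx
  let K : Ideal C' := idealOfSubspace p hp L hL
  have hKJ : K ≤ RingHom.ker p.toAlgHom := hL
  have hK : K ≤ IsLocalRing.maximalIdeal C' := hKJ.trans (ker_le_maximalIdeal p)
  have hq : IsSemismallExt (quotFactor hK p hKJ) := isSemismallExt_quotFactor p hp K hK hKJ
  have h0 : O.obs (quotFactor hK p hKJ) hq (ξ.app C u) = 0 := by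
    rw [O.obs_quot p hp K hK hKJ hq, ← hc, Finsupp.sum, map_sum]
    apply Finset.sum_eq_zero
    intro i _
    rw [LinearMap.lTensor_tmul]
    have hz : (kerToQuot hK p hKJ).restrictScalars k (c i) = 0 := by
      apply Subtype.ext
      change Ideal.Quotient.mk K ((c i : ↥(RingHom.ker p.toAlgHom)) : C') = 0
      rw [Ideal.Quotient.eq_zero_iff_mem]
      exact Submodule.subset_span ⟨i, rfl⟩
    rw [hz, TensorProduct.tmul_zero]
  obtain ⟨y, hy⟩ := (O.obs_eq_zero_iff _ hq _).1 h0
  obtain ⟨ψ, hψ, -⟩ := hξ (quotFactor hK p hKJ) hq.1 u y hy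
  have hlam0 := lam_eq_zero_of_exists_lift π hπres J hJ 𝔪 h𝔪 (quotFactor hK p hKJ) hq hJ2 u
    (HomSet.map (quotMk C' K hK) w) (map_quotMk_lift π hπres p K hK hKJ u w hw) ψ hψ
  rw [lam_quot π hπres J hJ 𝔪 h𝔪 p hp K hK hKJ hq u w hw] at hlam0
  have hmem : ∀ x, ((RingHom.ker p.toAlgHom).subtype.restrictScalars k).comp
      (lam π hπres J hJ 𝔪 h𝔪 p hp u w hw) x ∈ L := by
    intro x
    have h1 := LinearMap.congr_fun hlam0 x
    have h2 : Ideal.Quotient.mk K ((lam π hπres J hJ 𝔪 h𝔪 p hp u w hw x :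
        ↥(RingHom.ker p.toAlgHom)) : C') = 0 := congrArg Subtype.val h1
    rw [Ideal.Quotient.eq_zero_iff_mem] at h2
    exact h2
  let g : (↥J ⧸ (𝔪 • (⊤ : Submodule T ↥J))) →ₗ[k] ↥L :=
    LinearMap.codRestrict L (((RingHom.ker p.toAlgHom).subtype.restrictScalars k).comp
      (lam π hπres J hJ 𝔪 h𝔪 p hp u w hw)) hmem
  have hg : Function.Injective g := by
    intro x x' hxx'
    apply hinj
    apply Subtype.ext
    exact congrArg (fun z : ↥L => (z : C')) hxx'
  haveI : Module.Finite k ↥L := FiniteDimensional.span_of_finite k (Set.finite_range a)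
  calc Module.finrank k (↥J ⧸ (𝔪 • (⊤ : Submodule T ↥J)))
      ≤ Module.finrank k ↥L := LinearMap.finrank_le_finrank_of_injective hg
    _ ≤ Fintype.card (Fin (Module.finrank k V)) := finrank_range_le_card a
    _ = Module.finrank k V := Fintype.card_fin _

include hJ in
/-- descend a map killing `J` along the presentation -/
lemma exists_descend (hπs : Function.Surjective π) {C : Art k k} (w₀ : HomSet T resT C)
    (hw₀ : J ≤ RingHom.ker w₀.1) : ∃ u : HomSet R res C, pull π hπres u = w₀ := by
  have hker : RingHom.ker (π : T →+* R) ≤ RingHom.ker (w₀.1 : T →+* C) := by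
    intro j hj
    have hjJ : j ∈ J := by rw [← hJ]; exact hj
    exact hw₀ hjJ
  let g : R →+* C := (π : T →+* R).liftOfSurjective hπs ⟨(w₀.1 : T →+* C), hker⟩
  have hg : ∀ t, g (π t) = w₀.1 t := fun t =>
    RingHom.liftOfSurjective_comp_apply (π : T →+* R) hπs ⟨(w₀.1 : T →+* C), hker⟩ t
  let u₀ : R →ₐ[k] C :=
    { g with
      commutes' := fun c => by
        change g (algebraMap k R c) = algebraMap k C c
        rw [← π.commutes c, hg, AlgHom.commutes] }
  have hu₀ : ∀ t, u₀ (π t) = w₀.1 t := hg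
  refine ⟨⟨u₀, ?_⟩, ?_⟩
  · apply AlgHom.ext
    intro r
    obtain ⟨t, rfl⟩ := hπs r
    change C.res (u₀ (π t)) = res (π t)
    rw [hu₀]
    have h1 : C.res (w₀.1 t) = resT t := congrArg (fun χ : T →ₐ[k] k => χ t) w₀.2
    have h2 : res (π t) = resT t := congrArg (fun χ : T →ₐ[k] k => χ t) hπres
    rw [h1, h2]
  · apply Subtype.ext
    apply AlgHom.ext
    intro t
    exact hu₀ t

end ObsPres

section Universal

variable {k : Type u} [Field k]

lemma exists_pow_inf_le_mul (A : Type*) [CommRing A] [IsNoetherianRing A] (𝔪 J : Ideal A) :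
    ∃ N : ℕ, 1 ≤ N ∧ 𝔪 ^ N ⊓ J ≤ 𝔪 * J := by
  obtain ⟨k₀, hk₀⟩ := Ideal.exists_pow_inf_eq_pow_smul 𝔪 (J : Submodule A A)
  refine ⟨k₀ + 1, Nat.le_add_left 1 k₀, ?_⟩
  have h := hk₀ (k₀ + 1) (Nat.le_succ k₀)
  rw [Nat.add_sub_cancel_left, pow_one] at h
  have h1 : (𝔪 ^ (k₀ + 1) • (⊤ : Submodule A A)) = 𝔪 ^ (k₀ + 1) := by
    rw [smul_eq_mul, Ideal.mul_top]
  rw [h1] at h
  rw [h]
  exact Submodule.smul_mono le_rfl inf_le_right

variable {R : Type u} [CommRing R] [Algebra k R] {res : R →ₐ[k] k}

/-- for a presentation `R = S/J` with `J ≤ 𝔪²` and a versal family of `F` over `R`, the space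
`J/𝔪J` has dimension at most that of any obstruction space of `F` -/
theorem finrank_quot_le_of_versal (S : CRing k k) (v : S.carrier →ₐ[k] R) (hvres : res.comp v = S.res)
    (hvs : Function.Surjective v)
    (hker2 : RingHom.ker v ≤ IsLocalRing.maximalIdeal S.carrier ^ 2)
    {F : Art k k ⥤ Type v} (ξ : Family R res F) (hξ : IsVersal ξ)
    {V : Type u} [AddCommGroup V] [Module k V] [Module.Finite k V] (O : ObsTheory F V) :
    Module.finrank k (↥(RingHom.ker v) ⧸ (IsLocalRing.maximalIdeal S.carrier •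
      (⊤ : Submodule S.carrier ↥(RingHom.ker v)))) ≤ Module.finrank k V := by
  have h𝔪 : IsLocalRing.maximalIdeal S.carrier = RingHom.ker S.res := maximalIdeal_eq_ker_aug S.res
  obtain ⟨N, hN1, hN⟩ := exists_pow_inf_le_mul S.carrier (IsLocalRing.maximalIdeal S.carrier)
    (RingHom.ker v)
  have hJm : RingHom.ker v ≤ IsLocalRing.maximalIdeal S.carrier :=
    hker2.trans (Ideal.pow_le_self two_ne_zero)
  have hpowm : IsLocalRing.maximalIdeal S.carrier ^ N ≤ IsLocalRing.maximalIdeal S.carrier :=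
    Ideal.pow_le_self (by omega)
  have h1 : IsLocalRing.maximalIdeal S.carrier * RingHom.ker v ⊔ IsLocalRing.maximalIdeal S.carrier ^ N ≤
      IsLocalRing.maximalIdeal S.carrier := sup_le (Ideal.mul_le_right.trans hJm) hpowm
  have h2 : IsLocalRing.maximalIdeal S.carrier ^ N ≤
      IsLocalRing.maximalIdeal S.carrier * RingHom.ker v ⊔ IsLocalRing.maximalIdeal S.carrier ^ N :=
    le_sup_right
  have h3 : RingHom.ker v ⊔ IsLocalRing.maximalIdeal S.carrier ^ N ≤
      IsLocalRing.maximalIdeal S.carrier := sup_le hJm hpowm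
  have h4 : IsLocalRing.maximalIdeal S.carrier ^ N ≤
      RingHom.ker v ⊔ IsLocalRing.maximalIdeal S.carrier ^ N := le_sup_right
  have h5 : IsLocalRing.maximalIdeal S.carrier * RingHom.ker v ⊔ IsLocalRing.maximalIdeal S.carrier ^ N ≤
      RingHom.ker v ⊔ IsLocalRing.maximalIdeal S.carrier ^ N := sup_le_sup_right Ideal.mul_le_right _
  let w : HomSet S.carrier S.res (quotArt S _ h1 N h2) := quotArtHom S _ h1 N h2
  let w₀ : HomSet S.carrier S.res (quotArt S _ h3 N h4) := quotArtHom S _ h3 N h4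
  let p : quotArt S _ h1 N h2 ⟶ quotArt S _ h3 N h4 :=
    quotArtFactor S _ h1 N h2 w₀ (by rw [ker_quotArtHom]; exact h5)
  have hpw : HomSet.map p w = w₀ := quotArtFactor_comp S _ h1 N h2 w₀ _
  obtain ⟨u, hu⟩ := ObsPres.exists_descend (res := res) v hvres (RingHom.ker v) rfl hvs w₀ (by
    rw [ker_quotArtHom]; exact le_sup_left)
  have hpw' : ∀ a, p (w.1 a) = w₀.1 a := fun a =>
    congrArg (fun χ : HomSet S.carrier S.res (quotArt S _ h3 N h4) => χ.1 a) hpw
  have hp : IsSemismallExt p := by
    refine ⟨?_, ?_⟩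
    · intro c
      obtain ⟨a, ha⟩ := quotArtHom_surjective S _ h3 N h4 c
      exact ⟨w.1 a, (hpw' a).trans ha⟩
    · rw [eq_bot_iff]
      intro z hz
      refine Submodule.mul_induction_on hz ?_ ?_
      · intro x hx y hy
        obtain ⟨a, rfl⟩ := quotArtHom_surjective S _ h1 N h2 x
        obtain ⟨b, rfl⟩ := quotArtHom_surjective S _ h1 N h2 y
        have ha : a ∈ IsLocalRing.maximalIdeal S.carrier :=
          (homSet_mem_maximalIdeal_iff S (quotArtHom S _ h1 N h2) a).1 hx
        have hb : b ∈ RingHom.ker v ⊔ IsLocalRing.maximalIdeal S.carrier ^ N := by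
          rw [RingHom.mem_ker] at hy
          have hy' : p (w.1 b) = 0 := hy
          rw [hpw' b] at hy'
          exact (quotArtHom_eq_zero_iff S _ h3 N h4 b).1 hy'
        have hab : a * b ∈ IsLocalRing.maximalIdeal S.carrier * RingHom.ker v ⊔
            IsLocalRing.maximalIdeal S.carrier ^ N := by
          have h6 := Ideal.mul_mem_mul ha hb
          rw [Ideal.mul_sup] at h6
          have h7 : IsLocalRing.maximalIdeal S.carrier * IsLocalRing.maximalIdeal S.carrier ^ N ≤
              IsLocalRing.maximalIdeal S.carrier ^ N := by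
            rw [← pow_succ']
            exact Ideal.pow_le_pow_right (Nat.le_succ N)
          exact (sup_le_sup_left h7 (IsLocalRing.maximalIdeal S.carrier * RingHom.ker v)) h6
        rw [Submodule.mem_bot, ← map_mul]
        exact (quotArtHom_eq_zero_iff S _ h1 N h2 (a * b)).2 hab
      · intro x y hx hy
        exact Submodule.add_mem _ hx hy
  apply ObsPres.finrank_le_of_lam_injective v hvres (RingHom.ker v) rfl _ h𝔪 hker2 ξ hξ O p hp u w
    (hpw.trans hu.symm)
  rw [injective_iff_map_eq_zero]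
  intro x hx
  obtain ⟨j, rfl⟩ := Submodule.Quotient.mk_surjective _ x
  rw [ObsPres.lam_mk] at hx
  have hj : w.1 (j : S.carrier) = 0 := congrArg Subtype.val hx
  have hj' := (quotArtHom_eq_zero_iff S _ h1 N h2 (j : S.carrier)).1 hj
  rw [Submodule.Quotient.mk_eq_zero, Submodule.mem_smul_top_iff]
  obtain ⟨a, ha, b, hb, hab⟩ := Submodule.mem_sup.1 hj'
  have haJ : a ∈ RingHom.ker v := Ideal.mul_le_right ha
  have hbJ : b ∈ RingHom.ker v := by
    have hb2 : b = (j : S.carrier) - a := by rw [← hab]; ring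
    rw [hb2]
    exact sub_mem j.2 haJ
  have hb' : b ∈ IsLocalRing.maximalIdeal S.carrier * RingHom.ker v := hN ⟨hb, hbJ⟩
  rw [← hab]
  exact add_mem ha hb'

end Universal

end Groth.Agent.Lib.Helper1.ArtFunLib
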