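import Mathlib
import Groth.Prelude.Def_ArtFun3
import Groth.Agent.Lib.Helper1.ArtFunObsDim

/-!
# Dimension estimates for a hull from an obstruction theory
-/
universe u v
open CategoryTheory TensorProduct

namespace Groth.Agent.Lib.Helper1.ArtFunLib

open ArtFun ArtFun.Art MvPowerSeries IsLocalRing

section PSDim

variable (k : Type u) [Field k]

theorem le_ringKrullDim_mvPowerSeries (n : ℕ) :
    (n : WithBot ℕ∞) ≤ ringKrullDim (MvPowerSeries (Fin n) k) := by
  induction n with
  | zero =>
    rw [Nat.cast_zero]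
    exact ringKrullDim_nonneg_of_nontrivial
  | succ n ih =>
    rw [ringKrullDim_eq_of_ringEquiv (MvPowerSeries.finSuccEquiv k n).toRingEquiv]
    refine le_trans ?_ ringKrullDim_succ_le_ringKrullDim_powerseries
    rw [Nat.cast_add, Nat.cast_one]
    exact add_le_add ih le_rfl

theorem maximalIdeal_mvPowerSeries_eq_span (n : ℕ) :
    maximalIdeal (MvPowerSeries (Fin n) k) = Ideal.span (Set.range (X : Fin n → MvPowerSeries (Fin n) k)) := by
  apply le_antisymm
  · intro f hf
    have h1 : constantCoeff f = 0 := by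
      by_contra h
      have hu : IsUnit f := by
        rw [MvPowerSeries.isUnit_iff_constantCoeff]
        exact isUnit_iff_ne_zero.2 h
      exact (IsLocalRing.mem_maximalIdeal f).1 hf hu
    have h2 := PS.sub_C_constantCoeff_mem f
    rw [h1, map_zero, sub_zero] at h2
    exact h2
  · exact PS.span_X_le_maximalIdeal

theorem spanFinrank_maximalIdeal_mvPowerSeries_le (n : ℕ) :
    (maximalIdeal (MvPowerSeries (Fin n) k)).spanFinrank ≤ n := by
  classical
  rw [maximalIdeal_mvPowerSeries_eq_span]
  have h1 : Set.range (X : Fin n → MvPowerSeries (Fin n) k) =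
      ((Finset.univ.image (X : Fin n → MvPowerSeries (Fin n) k) : Finset _) : Set _) := by
    rw [Finset.coe_image, Finset.coe_univ, Set.image_univ]
  refine le_trans (Submodule.spanFinrank_span_le_ncard_of_finite (Set.finite_range _)) ?_
  rw [h1, Set.ncard_coe_finset]
  exact le_trans Finset.card_image_le (by rw [Finset.card_univ, Fintype.card_fin])

instance isRegularLocalRing_mvPowerSeries (n : ℕ) : IsRegularLocalRing (MvPowerSeries (Fin n) k) := by
  apply IsRegularLocalRing.of_spanFinrank_maximalIdeal_le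
  refine le_trans ?_ (le_ringKrullDim_mvPowerSeries k n)
  exact_mod_cast spanFinrank_maximalIdeal_mvPowerSeries_le k n

theorem ringKrullDim_mvPowerSeries (n : ℕ) : ringKrullDim (MvPowerSeries (Fin n) k) = n := by
  apply le_antisymm
  · refine le_trans (ringKrullDim_le_spanFinrank_maximalIdeal _) ?_
    exact_mod_cast spanFinrank_maximalIdeal_mvPowerSeries_le k n
  · exact le_ringKrullDim_mvPowerSeries k n

end PSDim

section SpanFinrank

variable {k : Type u} [Field k]

theorem spanFinrank_eq_finrank_quot (T : Type u) [CommRing T] [IsLocalRing T] [Algebra k T]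
    (resT : T →ₐ[k] k) (h𝔪 : maximalIdeal T = RingHom.ker resT)
    (J : Ideal T) (hfg : J.FG) :
    J.spanFinrank = Module.finrank k (↥J ⧸ (maximalIdeal T • (⊤ : Submodule T ↥J))) := by
  rw [IsLocalRing.spanFinrank_eq_finrank_quotient J hfg]
  letI : Field (T ⧸ maximalIdeal T) := Ideal.Quotient.field _
  have hbij : Function.Bijective (algebraMap k (T ⧸ maximalIdeal T)) := by
    refine ⟨(algebraMap k (T ⧸ maximalIdeal T)).injective, ?_⟩
    intro x
    obtain ⟨t, rfl⟩ := Ideal.Quotient.mk_surjective x
    refine ⟨resT t, ?_⟩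
    rw [IsScalarTower.algebraMap_apply k T (T ⧸ maximalIdeal T), Ideal.Quotient.algebraMap_eq,
      Ideal.Quotient.eq, h𝔪, RingHom.mem_ker, map_sub, AlgHom.commutes, sub_eq_zero]
    rfl
  have h1 : Module.finrank k (T ⧸ maximalIdeal T) = 1 := by
    have e : k ≃ₗ[k] (T ⧸ maximalIdeal T) :=
      LinearEquiv.ofBijective (Algebra.linearMap k (T ⧸ maximalIdeal T)) hbij
    rw [← e.finrank_eq, Module.finrank_self]
  have : IsScalarTower k (T ⧸ maximalIdeal T) (↥J ⧸ (maximalIdeal T • (⊤ : Submodule T ↥J))) := by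
    refine ⟨fun c x m => ?_⟩
    obtain ⟨t, rfl⟩ := Ideal.Quotient.mk_surjective x
    obtain ⟨j, rfl⟩ := Submodule.Quotient.mk_surjective _ m
    have e1 : c • (Ideal.Quotient.mk (maximalIdeal T)) t =
        Ideal.Quotient.mk (maximalIdeal T) (c • t) := rfl
    rw [e1, Module.Quotient.mk_smul_mk, Module.Quotient.mk_smul_mk, smul_assoc]
    rfl
  have h2 := Module.finrank_mul_finrank k (T ⧸ maximalIdeal T)
    (↥J ⧸ (maximalIdeal T • (⊤ : Submodule T ↥J)))
  rw [h1, one_mul] at h2
  exact h2

end SpanFinrank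

section Main

variable {k : Type u} [Field k]

theorem hull_dim_bounds {F : Art k k ⥤ Type v}
    (V : Type u) [AddCommGroup V] [Module k V] [Module.Finite k V] (O : ObsTheory F V)
    (H : Hull F) :
    ringKrullDim H.ring.carrier ≤
        (Module.finrank (ResidueField H.ring.carrier) (CotangentSpace H.ring.carrier) : WithBot ℕ∞) ∧
      (Module.finrank (ResidueField H.ring.carrier) (CotangentSpace H.ring.carrier) : WithBot ℕ∞) ≤
          ringKrullDim H.ring.carrier + (Module.finrank k V : WithBot ℕ∞) ∧
      (Module.finrank k V = 0 → IsRegularLocalRing H.ring.carrier) ∧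
      (ringKrullDim H.ring.carrier + (Module.finrank k V : WithBot ℕ∞) =
          (Module.finrank (ResidueField H.ring.carrier) (CotangentSpace H.ring.carrier) : WithBot ℕ∞) →
        ∃ (P : Type u) (_ : CommRing P) (_ : IsRegularLocalRing P) (π : P →+* H.ring.carrier) (s : Finset P),
          Function.Surjective π ∧ Ideal.span (s : Set P) = RingHom.ker π ∧
            ringKrullDim P = ringKrullDim H.ring.carrier + (s.card : WithBot ℕ∞)) := by
  obtain ⟨n, v, hvs, hker2⟩ := exists_ps_presentation_field H.ring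
  have hvres : H.ring.res.comp v = (psCRing (fieldCRing k) n).res := aug_eq_psCRing_res n _
  have hfin : Module.finrank k (↥(RingHom.ker v) ⧸ (maximalIdeal (MvPowerSeries (Fin n) k) •
      (⊤ : Submodule (MvPowerSeries (Fin n) k) ↥(RingHom.ker v)))) ≤ Module.finrank k V :=
    finrank_quot_le_of_versal (psCRing (fieldCRing k) n) v hvres hvs hker2 H.family H.miniversal.1 O
  have h𝔪 : maximalIdeal (MvPowerSeries (Fin n) k) = RingHom.ker (H.ring.res.comp v) :=
    maximalIdeal_eq_ker_aug _
  have hfg : (RingHom.ker v).FG := IsNoetherian.noetherian _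
  have hJr : (RingHom.ker v).spanFinrank ≤ Module.finrank k V := by
    rw [spanFinrank_eq_finrank_quot (MvPowerSeries (Fin n) k) (H.ring.res.comp v) h𝔪 (RingHom.ker v) hfg]
    exact hfin
  have hdimq : ringKrullDim (MvPowerSeries (Fin n) k ⧸ RingHom.ker v) = ringKrullDim H.ring.carrier :=
    ringKrullDim_eq_of_ringEquiv (RingHom.quotientKerEquivOfSurjective (f := (v : MvPowerSeries (Fin n) k →+* H.ring.carrier)) hvs)
  have hJjac : RingHom.ker v ≤ Ring.jacobson (MvPowerSeries (Fin n) k) := by
    rw [IsLocalRing.ringJacobson_eq_maximalIdeal]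
    exact hker2.trans (Ideal.pow_le_self two_ne_zero)
  have hdimle : (n : WithBot ℕ∞) ≤ ringKrullDim H.ring.carrier + ((RingHom.ker v).spanFinrank : WithBot ℕ∞) := by
    rw [← ringKrullDim_mvPowerSeries k n, ← hdimq]
    exact ringKrullDim_le_ringKrullDim_quotient_add_spanFinrank _ hJjac
  have hemb : Module.finrank (ResidueField H.ring.carrier) (CotangentSpace H.ring.carrier) ≤ n := by
    rw [← IsLocalRing.spanFinrank_maximalIdeal_eq_finrank_cotangentSpace H.ring.carrier,
      ← IsLocalRing.map_maximalIdeal_of_surjective (v : MvPowerSeries (Fin n) k →+* H.ring.carrier) hvs]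
    exact le_trans (Ideal.spanFinrank_map_le_of_fg _ (IsNoetherian.noetherian _))
      (spanFinrank_maximalIdeal_mvPowerSeries_le k n)
  have hrle : ringKrullDim H.ring.carrier + ((RingHom.ker v).spanFinrank : WithBot ℕ∞) ≤
      ringKrullDim H.ring.carrier + (Module.finrank k V : WithBot ℕ∞) :=
    add_le_add le_rfl (by exact_mod_cast hJr)
  have hembc : (Module.finrank (ResidueField H.ring.carrier) (CotangentSpace H.ring.carrier) : WithBot ℕ∞) ≤
      (n : WithBot ℕ∞) := by exact_mod_cast hemb
  refine ⟨?_, ?_, ?_, ?_⟩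
  · rw [← IsLocalRing.spanFinrank_maximalIdeal_eq_finrank_cotangentSpace H.ring.carrier]
    exact ringKrullDim_le_spanFinrank_maximalIdeal _
  · exact hembc.trans (hdimle.trans hrle)
  · intro h0
    have hJ0 : (RingHom.ker v).spanFinrank = 0 := Nat.le_zero.1 (h0 ▸ hJr)
    have hbot : RingHom.ker v = ⊥ := (Submodule.spanFinrank_eq_zero_iff_eq_bot hfg).1 hJ0
    have hinj : Function.Injective v := (RingHom.injective_iff_ker_eq_bot (v : MvPowerSeries (Fin n) k →+* H.ring.carrier)).2 hbot
    exact IsRegularLocalRing.of_ringEquiv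
      (RingEquiv.ofBijective (v : MvPowerSeries (Fin n) k →+* H.ring.carrier) ⟨hinj, hvs⟩)
  · intro heq
    obtain ⟨s, hs1, hs2⟩ := Submodule.FG.exists_span_finset_card_eq_spanFinrank hfg
    refine ⟨MvPowerSeries (Fin n) k, inferInstance, isRegularLocalRing_mvPowerSeries k n,
      (v : MvPowerSeries (Fin n) k →+* H.ring.carrier), s, hvs, hs2, ?_⟩
    rw [hs1, ringKrullDim_mvPowerSeries k n]
    apply le_antisymm hdimle
    exact hrle.trans (heq.le.trans hembc)

end Main

end Groth.Agent.Lib.Helper1.ArtFunLib
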