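import Groth.Agent.Lib.Helper1.FlatStage

/-!
# Flat ring maps descend to a finite stage of a cofiltered system of rings (helper1)
-/

set_option autoImplicit false
set_option linter.style.haveILetI false
set_option linter.unusedSectionVars false

open Function MvPolynomial
open scoped TensorProduct

universe u v w

namespace Groth.Agent.Lib.Helper1.FlatStage

open Groth.Agent.Lib.Helper13.SD Groth.Agent.Lib.Helper18.Fl Groth.Agent.Lib27.BCPres

section Pres

variable {A₀ B₀ : Type u} [CommRing A₀] [CommRing B₀] [Algebra A₀ B₀] {n m : ℕ}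
  (f : MvPolynomial (Fin n) A₀ →ₐ[A₀] B₀) (hf : Surjective f)
  (gen : Fin m → MvPolynomial (Fin n) A₀) (hgen : Ideal.span (Set.range gen) = RingHom.ker f.toRingHom)

/-- The relations as vectors of length one. -/
def gen1 : Fin m → Fin 1 → MvPolynomial (Fin n) A₀ := fun i _ => gen i

/-- evaluation of the single coordinate followed by the presentation. -/
noncomputable def evPres : (Fin 1 → MvPolynomial (Fin n) A₀) →ₗ[A₀] B₀ :=
  f.toLinearMap ∘ₗ (LinearMap.proj (R := A₀) (φ := fun _ : Fin 1 => MvPolynomial (Fin n) A₀) 0)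

include hf in
theorem evPres_surjective : Surjective (evPres f) := by
  intro b
  obtain ⟨p, rfl⟩ := hf b
  exact ⟨fun _ => p, rfl⟩

include hgen in
theorem ker_evPres :
    LinearMap.ker (evPres f) = (Kspan (gen1 gen)).restrictScalars A₀ := by
  ext v
  rw [LinearMap.mem_ker, Submodule.restrictScalars_mem]
  change f (v 0) = 0 ↔ _
  have h1 : f (v 0) = 0 ↔ v 0 ∈ Ideal.span (Set.range gen) := by
    rw [hgen, RingHom.mem_ker]; rfl
  rw [h1]
  have hv : v = (LinearEquiv.funUnique (Fin 1) (MvPolynomial (Fin n) A₀)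
      (MvPolynomial (Fin n) A₀)).symm (v 0) := by
    funext k
    rw [Subsingleton.elim k 0]
    rfl
  have hK : Kspan (gen1 gen) = Submodule.map (LinearEquiv.funUnique (Fin 1)
      (MvPolynomial (Fin n) A₀) (MvPolynomial (Fin n) A₀)).symm.toLinearMap
      (Ideal.span (Set.range gen)) := by
    rw [Ideal.span, Submodule.map_span, ← Set.range_comp]
    rfl
  rw [hK]
  constructor
  · intro h
    rw [hv]
    exact Submodule.mem_map_of_mem h
  · rintro ⟨p, hp, hpv⟩
    have : v 0 = p := by rw [← hpv]; rfl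
    rw [this]
    exact hp

include hf hgen in
/-- `B₀` is the module presented by the relations. -/
noncomputable def presLinearEquiv :
    ((Fin 1 → MvPolynomial (Fin n) A₀) ⧸ Kspan (gen1 gen)) ≃ₗ[A₀] B₀ :=
  (Submodule.Quotient.restrictScalarsEquiv A₀ (Kspan (gen1 gen))).symm ≪≫ₗ
    (Submodule.quotEquivOfEq _ _ (ker_evPres f gen hgen).symm) ≪≫ₗ
    (evPres f).quotKerEquivOfSurjective (evPres_surjective f hf)

end Pres


section Pushout

open CategoryTheory CategoryTheory.Limits

variable {A₀ B₀ T B : Type u} [CommRing A₀] [CommRing B₀] [CommRing T] [CommRing B]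
  (φ₀ : A₀ →+* B₀) (α : A₀ →+* T) (β : B₀ →+* B) (φ : T →+* B)

lemma flat_iff_of_isPushout
    (h : IsPushout (CommRingCat.ofHom φ₀) (CommRingCat.ofHom α) (CommRingCat.ofHom β)
      (CommRingCat.ofHom φ)) :
    φ.Flat ↔ (letI := φ₀.toAlgebra; letI := α.toAlgebra; Module.Flat T (T ⊗[A₀] B₀)) := by
  letI := φ₀.toAlgebra
  letI := α.toAlgebra
  letI := β.toAlgebra
  letI := φ.toAlgebra
  letI : Algebra A₀ B := (φ.comp α).toAlgebra
  haveI : IsScalarTower A₀ T B := .of_algebraMap_eq' rfl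
  haveI : IsScalarTower A₀ B₀ B := .of_algebraMap_eq' (by
    have := h.w
    exact (congr(CommRingCat.Hom.hom $this)).symm)
  have hp : Algebra.IsPushout A₀ T B₀ B := CommRingCat.isPushout_iff_isPushout.mp h.flip
  let e := Algebra.IsPushout.equiv A₀ T B₀ B
  change Module.Flat T B ↔ Module.Flat T (T ⊗[A₀] B₀)
  exact ⟨fun _ => Module.Flat.of_linearEquiv e.toLinearEquiv,
    fun _ => Module.Flat.of_linearEquiv e.symm.toLinearEquiv⟩

/-- Flatness of `T ⊗ B₀` in terms of the presented module over `T`. -/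
lemma flat_tensor_iff_pres [Algebra A₀ B₀] [Algebra A₀ T] {n m : ℕ}
    (f : MvPolynomial (Fin n) A₀ →ₐ[A₀] B₀) (hf : Surjective f)
    (gen : Fin m → MvPolynomial (Fin n) A₀)
    (hgen : Ideal.span (Set.range gen) = RingHom.ker f.toRingHom) :
    Module.Flat T (T ⊗[A₀] B₀) ↔
      Module.Flat T ((Fin 1 → MvPolynomial (Fin n) T) ⧸
        Kspan (fun i => mapVec (algebraMap A₀ T) (gen1 gen i))) := by
  rw [← flat_pres_iff (R₁ := T) (gen1 gen)]
  let e : T ⊗[A₀] ((Fin 1 → MvPolynomial (Fin n) A₀) ⧸ Kspan (gen1 gen)) ≃ₗ[T] T ⊗[A₀] B₀ :=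
    TensorProduct.AlgebraTensorModule.congr (LinearEquiv.refl T T) (presLinearEquiv f hf gen hgen)
  exact ⟨fun _ => Module.Flat.of_linearEquiv e, fun _ => Module.Flat.of_linearEquiv e.symm⟩

end Pushout

section Main

open CategoryTheory CategoryTheory.Limits

variable {J : Type v} [Category.{w} J] [IsCofiltered J] (S : RingSys.{u} J)
  {A₀ B₀ : Type u} [CommRing A₀] [CommRing B₀]
  (α : ∀ j, A₀ →+* S.R j) (hα : ∀ {l j : J} (e : l ⟶ j), (S.tr e).comp (α j) = α l)
  (αA : A₀ →+* S.A) (hαA : ∀ j, (S.a j).comp (α j) = αA)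

include hα hαA in
/-- Flatness descends to a finite stage of a cofiltered system of rings. -/
theorem exists_flat_stage (φ₀ : A₀ →+* B₀) (hφ₀ : φ₀.FinitePresentation)
    {BA : Type u} [CommRing BA] (βA : B₀ →+* BA) (φA : S.A →+* BA)
    (hA : IsPushout (CommRingCat.ofHom φ₀) (CommRingCat.ofHom αA) (CommRingCat.ofHom βA)
      (CommRingCat.ofHom φA))
    (hfl : φA.Flat) :
    ∃ j : J, ∀ {Bj : Type u} [CommRing Bj] (βj : B₀ →+* Bj) (φj : S.R j →+* Bj),
      IsPushout (CommRingCat.ofHom φ₀) (CommRingCat.ofHom (α j)) (CommRingCat.ofHom βj)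
        (CommRingCat.ofHom φj) → φj.Flat := by
  classical
  letI := φ₀.toAlgebra
  have hfp : Algebra.FinitePresentation A₀ B₀ := hφ₀
  obtain ⟨n, f, hf, s, hs⟩ := Algebra.FinitePresentation.out (R := A₀) (A := B₀)
  let m := s.card
  let gen : Fin m → MvPolynomial (Fin n) A₀ := fun i => (s.equivFin.symm i : MvPolynomial (Fin n) A₀)
  have hrange : Set.range gen = (s : Set (MvPolynomial (Fin n) A₀)) := by
    ext p
    constructor
    · rintro ⟨i, rfl⟩
      exact (s.equivFin.symm i).2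
    · intro hp
      exact ⟨s.equivFin ⟨p, hp⟩, by simp [gen]⟩
  have hgen : Ideal.span (Set.range gen) = RingHom.ker f.toRingHom := by rw [hrange, hs]
  have h1 := (flat_iff_of_isPushout φ₀ αA βA φA hA).1 hfl
  have h2 : Module.Flat S.A ((Fin 1 → MvPolynomial (Fin n) S.A) ⧸
      Kspan (fun i => mapVec αA (gen1 gen i))) := by
    letI := αA.toAlgebra
    exact (flat_tensor_iff_pres (T := S.A) f hf gen hgen).1 h1
  obtain ⟨j, hj⟩ := exists_stage_flat S α hα αA hαA (gen1 gen) h2
  refine ⟨j, fun {Bj} _ βj φj hsq => ?_⟩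
  rw [flat_iff_of_isPushout φ₀ (α j) βj φj hsq]
  letI := (α j).toAlgebra
  exact (flat_tensor_iff_pres (T := S.R j) f hf gen hgen).2 hj

end Main

end Groth.Agent.Lib.Helper1.FlatStage
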