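import Groth.Agent.Lib.Helper1.FSchBasic

/-!
# Adic morphisms of systems: formality and adicness are inherited by the source
-/

universe u

open CategoryTheory CategoryTheory.Limits AlgebraicGeometry

namespace Groth.Agent.Lib.Helper1

/-- The kernel of the base change of a closed immersion is the inverse image of the kernel. -/
theorem ker_of_isPullback {P X Z Y : Scheme.{u}} {fst : P ⟶ X} {snd : P ⟶ Z} {f : X ⟶ Y} {i : Z ⟶ Y}
    [IsClosedImmersion i] (h : IsPullback fst snd f i) : fst.ker = i.ker.comap f := by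
  rw [← h.isoPullback_hom_fst, Scheme.Hom.ker_comp_of_isIso,
    Scheme.IdealSheafData.ker_fst_of_isClosedImmersion]

variable {𝔛 𝔖 : FSch.Sys.{u}}

theorem toX_succ (𝔛 : FSch.Sys.{u}) (n : ℕ) : 𝔛.toX (n + 1) = 𝔛.toX n ≫ 𝔛.ι n := rfl

theorem toX_zero (𝔛 : FSch.Sys.{u}) : 𝔛.toX 0 = 𝟙 _ := rfl

theorem isClosedImmersion_toX (h : 𝔖.IsFormal) (n : ℕ) : IsClosedImmersion (𝔖.toX n) := by
  induction n with
  | zero => rw [toX_zero]; infer_instance
  | succ k ih =>
    rw [toX_succ]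
    have := (h k).1
    infer_instance

/-- For an adic morphism, the squares over `toX` are cartesian. -/
theorem isPullback_toX (f : 𝔛 ⟶ 𝔖) (hf : FSch.IsAdicHom f) (n : ℕ) :
    IsPullback (𝔛.toX n) ((f : FSch.Hom 𝔛 𝔖).app 0) ((f : FSch.Hom 𝔛 𝔖).app n) (𝔖.toX n) := by
  induction n with
  | zero =>
    rw [toX_zero, toX_zero]
    exact IsPullback.of_horiz_isIso ⟨by rw [Category.id_comp, Category.comp_id]⟩
  | succ k ih =>
    rw [toX_succ, toX_succ]
    exact ih.paste_horiz (hf k)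

theorem isFormal_of_isAdicHom (f : 𝔛 ⟶ 𝔖) (hf : FSch.IsAdicHom f) (h : 𝔖.IsFormal) :
    𝔛.IsFormal := by
  intro n
  have hcl := (h n).1
  have hsurj : Surjective (𝔖.ι n) := ⟨(h n).2⟩
  refine ⟨MorphismProperty.of_isPullback (P := @IsClosedImmersion) (hf n).flip hcl, ?_⟩
  have : Surjective (𝔛.ι n) :=
    MorphismProperty.of_isPullback (P := @Surjective) (hf n).flip hsurj
  exact this.surj

theorem isAdic_of_isAdicHom (f : 𝔛 ⟶ 𝔖) (hf : FSch.IsAdicHom f) (h : 𝔖.IsFormal)
    (h' : 𝔖.IsAdic) : 𝔛.IsAdic := by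
  intro n
  have hcl := (h n).1
  have hcl' := isClosedImmersion_toX h (n + 1)
  rw [ker_of_isPullback (hf n), ker_of_isPullback (isPullback_toX f hf (n + 1)), h' n, comap_pow]

end Groth.Agent.Lib.Helper1
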