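import Mathlib
import Groth.Prelude.Def_Omega3
import Groth.Agent.Lib.Helper1.IdealSheafComap
import Groth.Agent.Lib.Helper1.FSchAdic

/-!
# First order thickenings and universal first order thickenings (`OmegaSh.IsUnivThickening`)
-/
universe u
open AlgebraicGeometry CategoryTheory Limits

namespace Groth.Agent.Lib.Helper1
namespace Thickening

/-- base change of a first order thickening -/
theorem isFirstOrderThickening_of_isPullback {P X Z Y : Scheme.{u}} {fst : P ⟶ X} {snd : P ⟶ Z}
    {f : X ⟶ Y} {i : Z ⟶ Y} (h : IsPullback fst snd f i) (hi : MoreMor.IsFirstOrderThickening i) :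
    MoreMor.IsFirstOrderThickening fst := by
  obtain ⟨⟨hci, hsurj⟩, hsq⟩ := hi
  have := hci
  have := hsurj
  refine ⟨⟨MorphismProperty.of_isPullback (P := @IsClosedImmersion) h.flip hci,
    MorphismProperty.of_isPullback (P := @Surjective) h.flip hsurj⟩, ?_⟩
  rw [ker_of_isPullback h, ← comap_mul, hsq, Scheme.IdealSheafData.comap_bot]

theorem isUnivThickening_baseChange {Z X W Y W' : Scheme.{u}} (h : Z ⟶ X) (f : Z ⟶ W) (g : X ⟶ Y) (h' : W ⟶ Y)
    (hc : IsPullback h f g h') (j : W ⟶ W') (k : W' ⟶ Y) (hu : OmegaSh.IsUnivThickening h' j k) :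
    OmegaSh.IsUnivThickening h (pullback.lift h (f ≫ j) (hc.w.trans (congrArg (f ≫ ·) hu.2.1).symm)) (pullback.fst g k) := by
  obtain ⟨hj, hjk, huniv⟩ := hu
  set iZ := pullback.lift h (f ≫ j) (hc.w.trans (congrArg (f ≫ ·) hjk).symm) with hiZ
  have hfst : iZ ≫ pullback.fst g k = h := pullback.lift_fst _ _ _
  have hsnd : iZ ≫ pullback.snd g k = f ≫ j := pullback.lift_snd _ _ _
  -- left square is a pullback
  have hleft : IsPullback iZ f (pullback.snd g k) j := by
    refine IsPullback.of_right ?_ hsnd (IsPullback.of_hasPullback g k)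
    rw [hfst, hjk]
    exact hc
  refine ⟨isFirstOrderThickening_of_isPullback hleft hj, hfst, ?_⟩
  intro T T' t b a ht hba
  -- the lift to W'
  have hcomp : t ≫ (b ≫ g) = (a ≫ f) ≫ h' := by
    rw [← Category.assoc, hba, Category.assoc, hc.w, Category.assoc]
  obtain ⟨c, ⟨hc1, hc2⟩, hcuniq⟩ := huniv T T' t (b ≫ g) (a ≫ f) ht hcomp
  refine ⟨pullback.lift b c hc2.symm, ⟨?_, pullback.lift_fst _ _ _⟩, ?_⟩
  · apply pullback.hom_ext
    · rw [Category.assoc, pullback.lift_fst, Category.assoc, hfst, hba]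
    · rw [Category.assoc, pullback.lift_snd, Category.assoc, hsnd, hc1, Category.assoc]
  · rintro a' ⟨ha'1, ha'2⟩
    apply pullback.hom_ext
    · rw [pullback.lift_fst, ha'2]
    · rw [pullback.lift_snd]
      apply hcuniq
      refine ⟨?_, ?_⟩
      · rw [← Category.assoc, ha'1, Category.assoc, hsnd, Category.assoc]
      · rw [Category.assoc, ← pullback.condition, ← Category.assoc, ha'2]


theorem isFirstOrderThickening_SpecMap {R S : CommRingCat.{u}} (φ : R ⟶ S)
    (hφ : Function.Surjective φ) (hker : RingHom.ker φ.hom ^ 2 = ⊥) :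
    MoreMor.IsFirstOrderThickening (Spec.map φ) := by
  refine ⟨⟨IsClosedImmersion.spec_of_surjective φ hφ, ⟨?_⟩⟩, ?_⟩
  · have key : ∀ x : PrimeSpectrum R, ∃ y : PrimeSpectrum S, PrimeSpectrum.comap φ.hom y = x := by
      intro x
      have hrange := _root_.range_comap_of_surjective _ φ.hom hφ
      have hx : x ∈ PrimeSpectrum.zeroLocus (RingHom.ker φ.hom : Set R) := by
        rw [PrimeSpectrum.mem_zeroLocus]
        intro r hr
        have h2 : r ^ 2 ∈ RingHom.ker φ.hom ^ 2 := Ideal.pow_mem_pow hr 2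
        rw [hker] at h2
        have h3 : r ^ 2 = 0 := h2
        exact x.isPrime.mem_of_pow_mem 2 (h3 ▸ x.asIdeal.zero_mem)
      rw [← hrange] at hx
      exact hx
    intro x
    obtain ⟨y, hy⟩ := key x
    exact ⟨y, hy⟩
  · apply Scheme.IdealSheafData.ext_of_isAffine
    rw [Scheme.IdealSheafData.ideal_mul]
    show (Spec.map φ).ker.ideal _ * (Spec.map φ).ker.ideal _ = ⊥
    simp only [Scheme.Hom.ker_apply]
    rw [eq_bot_iff, Ideal.mul_le]
    intro x hx y hy
    rw [Ideal.mem_bot]
    have hnat := Scheme.ΓSpecIso_naturality φ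
    have hinj : Function.Injective (Scheme.ΓSpecIso R).hom :=
      (ConcreteCategory.bijective_of_isIso (Scheme.ΓSpecIso R).hom).1
    apply hinj
    rw [map_zero, map_mul]
    have hx' : (Scheme.ΓSpecIso R).hom x ∈ RingHom.ker φ.hom := by
      rw [RingHom.mem_ker] at hx ⊢
      have := congr($hnat x)
      simp only [CommRingCat.comp_apply] at this
      rw [← this]
      change (Scheme.ΓSpecIso S).hom ((Spec.map φ).appTop x) = 0
      rw [show (Spec.map φ).appTop x = 0 from hx, map_zero]
    have hy' : (Scheme.ΓSpecIso R).hom y ∈ RingHom.ker φ.hom := by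
      rw [RingHom.mem_ker] at hy ⊢
      have := congr($hnat y)
      simp only [CommRingCat.comp_apply] at this
      rw [← this]
      change (Scheme.ΓSpecIso S).hom ((Spec.map φ).appTop y) = 0
      rw [show (Spec.map φ).appTop y = 0 from hy, map_zero]
    have : (Scheme.ΓSpecIso R).hom x * (Scheme.ΓSpecIso R).hom y ∈ RingHom.ker φ.hom ^ 2 := by
      rw [pow_two]
      exact Ideal.mul_mem_mul hx' hy'
    rw [hker] at this
    exact this

theorem formallyUnramified_of_isUnivThickening {Z Z' X : Scheme.{u}} (h : Z ⟶ X)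
    (i : Z ⟶ Z') (h' : Z' ⟶ X) (hu : OmegaSh.IsUnivThickening h i h') : FormallyUnramified h' := by
  obtain ⟨hi, hih, huu⟩ := hu
  apply FormallyUnramified.of_hom_ext
  intro R S φ hφ hker g₁ g₂ e w
  have ht := isFirstOrderThickening_SpecMap φ hφ hker
  -- `T₀' = Z ×_{Z'} T'`
  have hq : MoreMor.IsFirstOrderThickening (pullback.snd i g₁) :=
    isFirstOrderThickening_of_isPullback (IsPullback.of_hasPullback i g₁).flip hi
  have hr : MoreMor.IsFirstOrderThickening (pullback.fst (pullback.snd i g₁) (Spec.map φ)) :=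
    isFirstOrderThickening_of_isPullback (IsPullback.of_hasPullback _ _) ht
  set p := pullback.fst i g₁ with hp
  set q := pullback.snd i g₁ with hq'
  set r := pullback.fst q (Spec.map φ) with hr'
  set s := pullback.snd q (Spec.map φ) with hs'
  have c1 : p ≫ i = q ≫ g₁ := pullback.condition
  have c2 : r ≫ q = s ≫ Spec.map φ := pullback.condition
  -- step 1
  have step1 : q ≫ g₁ = q ≫ g₂ := by
    have hcomm : r ≫ (q ≫ g₁ ≫ h') = (r ≫ p) ≫ h := by
      rw [← Category.assoc q, ← c1, Category.assoc, Category.assoc, hih]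
    obtain ⟨δ, -, hδ⟩ := huu _ _ r (q ≫ g₁ ≫ h') (r ≫ p) hr hcomm
    have e1 : q ≫ g₁ = δ := by
      apply hδ
      refine ⟨?_, by rw [Category.assoc]⟩
      rw [← c1, Category.assoc]
    have e2 : q ≫ g₂ = δ := by
      apply hδ
      refine ⟨?_, by rw [Category.assoc, w]⟩
      rw [← Category.assoc, c2, Category.assoc, ← e, ← Category.assoc, ← c2, Category.assoc, ← c1,
        Category.assoc]
    rw [e1, e2]
  have hcomm : q ≫ (g₁ ≫ h') = p ≫ h := by
    rw [← Category.assoc, ← c1, Category.assoc, hih]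
  obtain ⟨δ, -, hδ⟩ := huu _ _ q (g₁ ≫ h') p hq hcomm
  have e1 : g₁ = δ := hδ _ ⟨c1.symm, rfl⟩
  have e2 : g₂ = δ := hδ _ ⟨by rw [← step1, c1], w.symm⟩
  rw [e1, e2]

end Thickening
end Groth.Agent.Lib.Helper1
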