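import Mathlib

/-!
# A thickening of an affine scheme is affine (helper1)

Elementary proof, no cohomology.  `t : X ⟶ X'` is a closed immersion which is surjective on points, `X` affine.

* `add_pow_mem_subring`: if `x ∈ T`, `y^m = 0`, `x^r y ∈ T` then `(x+y)^M ∈ T` for large `M`;
* `isAffineOpen_of_two_cover`: if `t⁻¹ U' = D(a) ∪ D(1-a)` and the opens of `X'` over `D(a)`, `D(1-a)` are affine, then
  `U'` is affine (a power `a^M` lifts to `U'`);
* `isAffine_of_thickening`: the theorem, by the ideal trick.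
-/

universe u

namespace Groth.Agent.Lib.Helper1.AffThick

open AlgebraicGeometry CategoryTheory TopologicalSpace Opposite

/-- Algebra lemma: if `x ∈ T`, `y^m = 0` and `x^r * y ∈ T` then `(x+y)^M ∈ T` for `M ≥ (r+1) m`. -/
lemma add_pow_mem_subring {Q : Type*} [CommRing Q] (T : Subring Q) (x y : Q) (m r M : ℕ)
    (hx : x ∈ T) (hy : y ^ m = 0) (hxy : x ^ r * y ∈ T) (hM : (r + 1) * m ≤ M) :
    (x + y) ^ M ∈ T := by
  rw [add_pow]
  refine Subring.sum_mem T (fun i hi => ?_)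
  rw [Finset.mem_range] at hi
  have hterm : x ^ i * y ^ (M - i) ∈ T := by
    generalize hjdef : M - i = j
    by_cases hj : m ≤ j
    · have : y ^ j = 0 := by
        obtain ⟨d, hd⟩ := Nat.exists_eq_add_of_le hj
        rw [hd, pow_add, hy, zero_mul]
      rw [this, mul_zero]
      exact T.zero_mem
    · rw [not_le] at hj
      have h1 : r * j ≤ i := by
        have h2 : j + 1 ≤ m := hj
        have h3 : (r + 1) * (j + 1) ≤ (r + 1) * m := Nat.mul_le_mul_left _ h2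
        have h4 : j + i = M := by omega
        nlinarith
      obtain ⟨e, he⟩ := Nat.exists_eq_add_of_le h1
      have : x ^ i * y ^ j = x ^ e * (x ^ r * y) ^ j := by
        rw [he, mul_pow, ← pow_mul, pow_add]
        ring
      rw [this]
      exact T.mul_mem (T.pow_mem hx _) (T.pow_mem hxy _)
  exact T.mul_mem hterm (natCast_mem T _)

variable {X X' : Scheme.{u}} (t : X ⟶ X')

/-- restriction of sections, as a ring hom -/
noncomputable def res (Y : Scheme.{u}) {A B : Y.Opens} (h : A ≤ B) : Γ(Y, B) →+* Γ(Y, A) :=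
  (Y.presheaf.map (homOfLE h).op).hom

lemma res_res (Y : Scheme.{u}) {A B C : Y.Opens} (h₁ : A ≤ B) (h₂ : B ≤ C) (s : Γ(Y, C)) :
    res Y h₁ (res Y h₂ s) = res Y (h₁.trans h₂) s := by
  simp only [res]
  rw [← CommRingCat.comp_apply, ← Functor.map_comp]
  rfl

lemma res_self (Y : Scheme.{u}) {A : Y.Opens} (h : A ≤ A) (s : Γ(Y, A)) : res Y h s = s := by
  simp only [res]
  have : (homOfLE h).op = 𝟙 (op A) := rfl
  rw [this, Y.presheaf.map_id]
  rfl

lemma app_res {A' B' : X'.Opens} (h : A' ≤ B') (s : Γ(X', B')) :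
    t.app A' (res X' h s) = res X (t.preimage_mono h) (t.app B' s) := by
  simp only [res]
  have := t.naturality (homOfLE h).op
  have h2 := congrArg (fun φ => φ.hom s) this
  simpa using h2

lemma basicOpen_res' (Y : Scheme.{u}) {A B : Y.Opens} (h : A ≤ B) (s : Γ(Y, B)) :
    Y.basicOpen (res Y h s) = A ⊓ Y.basicOpen s :=
  Y.basicOpen_res s (homOfLE h).op

section Opens

variable (ht : Function.Surjective t)
include ht

lemma opens_le_of_preimage_le {W₁ W₂ : X'.Opens} (h : t ⁻¹ᵁ W₁ ≤ t ⁻¹ᵁ W₂) : W₁ ≤ W₂ := by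
  intro x' hx'
  obtain ⟨x, rfl⟩ := ht x'
  exact h hx'

lemma opens_eq_of_preimage_eq {W₁ W₂ : X'.Opens} (h : t ⁻¹ᵁ W₁ = t ⁻¹ᵁ W₂) : W₁ = W₂ :=
  le_antisymm (opens_le_of_preimage_le t ht h.le) (opens_le_of_preimage_le t ht h.ge)

/-- sections vanishing on the thin scheme are nilpotent -/
lemma isNilpotent_of_app_eq_zero {V' : X'.Opens} (hV : IsCompact (V' : Set X')) (e : Γ(X', V'))
    (he : t.app V' e = 0) : IsNilpotent e := by
  rw [Scheme.isNilpotent_iff_basicOpen_eq_bot_of_isCompact hV]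
  apply opens_eq_of_preimage_eq t ht
  rw [Scheme.preimage_basicOpen, he, Scheme.basicOpen_zero]
  rfl

variable [IsClosedImmersion t]

lemma isOpenMap : IsOpenMap t := by
  have h1 : Topology.IsClosedEmbedding t := t.isClosedEmbedding
  have h2 : IsHomeomorph t := isHomeomorph_iff_isEmbedding_surjective.mpr ⟨h1.isEmbedding, ht⟩
  exact h2.isOpenMap

/-- the open of `X'` corresponding to an open of `X` -/
def img (W : X.Opens) : X'.Opens := ⟨t '' W, isOpenMap t ht W W.2⟩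

lemma preimage_img (W : X.Opens) : t ⁻¹ᵁ (img t ht W) = W := by
  ext x
  constructor
  · rintro ⟨y, hy, hyx⟩
    have : y = x := t.isClosedEmbedding.injective hyx
    rwa [← this]
  · intro hx
    exact ⟨x, hx, rfl⟩

end Opens

/-- gluing two sections on `V₁ ⊔ V₂` that agree on a common open containing `V₁ ⊓ V₂` -/
lemma exists_glue (Y : Scheme.{u}) (V₁ V₂ W : Y.Opens) (hW₁ : W ≤ V₁) (hW₂ : W ≤ V₂) (hW : V₁ ⊓ V₂ ≤ W)
    (s₁ : Γ(Y, V₁)) (s₂ : Γ(Y, V₂)) (h : res Y hW₁ s₁ = res Y hW₂ s₂) :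
    ∃ s : Γ(Y, V₁ ⊔ V₂), res Y le_sup_left s = s₁ ∧ res Y le_sup_right s = s₂ := by
  have hmem : (s₁, s₂) ∈ RingHom.eqLocus
      (RingHom.comp (Y.sheaf.obj.map (homOfLE inf_le_left : V₁ ⊓ V₂ ⟶ V₁).op).hom
        (RingHom.fst (Y.sheaf.obj.obj <| op V₁) (Y.sheaf.obj.obj <| op V₂)))
      (RingHom.comp (Y.sheaf.obj.map (homOfLE inf_le_right : V₁ ⊓ V₂ ⟶ V₂).op).hom
        (RingHom.snd (Y.sheaf.obj.obj <| op V₁) (Y.sheaf.obj.obj <| op V₂))) := by
    change res Y inf_le_left s₁ = res Y inf_le_right s₂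
    have h1 : res Y inf_le_left s₁ = res Y hW (res Y hW₁ s₁) := (res_res Y hW hW₁ s₁).symm
    have h2 : res Y inf_le_right s₂ = res Y hW (res Y hW₂ s₂) := (res_res Y hW hW₂ s₂).symm
    rw [h1, h2, h]
  refine ⟨(Y.sheaf.objSupIsoProdEqLocus V₁ V₂).inv ⟨(s₁, s₂), hmem⟩, ?_, ?_⟩
  · exact TopCat.Sheaf.objSupIsoProdEqLocus_inv_fst Y.sheaf V₁ V₂ ⟨(s₁, s₂), hmem⟩
  · exact TopCat.Sheaf.objSupIsoProdEqLocus_inv_snd Y.sheaf V₁ V₂ ⟨(s₁, s₂), hmem⟩

/-- sections are determined by their restrictions to a two-element cover -/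
lemma eq_of_res_eq (Y : Scheme.{u}) (U V₁ V₂ : Y.Opens) (h₁ : V₁ ≤ U) (h₂ : V₂ ≤ U) (hU : U ≤ V₁ ⊔ V₂)
    (s s' : Γ(Y, U)) (e₁ : res Y h₁ s = res Y h₁ s') (e₂ : res Y h₂ s = res Y h₂ s') : s = s' :=
  Y.sheaf.eq_of_locally_eq₂ (homOfLE h₁) (homOfLE h₂) hU s s' e₁ e₂

theorem isAffineOpen_of_two_cover [IsClosedImmersion t] (ht : Function.Surjective t)
    (U' : X'.Opens) (a : Γ(X, t ⁻¹ᵁ U')) (V₁ V₂ : X'.Opens) (hV₁ : IsAffineOpen V₁) (hV₂ : IsAffineOpen V₂)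
    (h₁ : t ⁻¹ᵁ V₁ = X.basicOpen a) (h₂ : t ⁻¹ᵁ V₂ = X.basicOpen (1 - a)) : IsAffineOpen U' := by
  have hV₁U : V₁ ≤ U' := opens_le_of_preimage_le t ht (h₁ ▸ X.basicOpen_le a)
  have hV₂U : V₂ ≤ U' := opens_le_of_preimage_le t ht (h₂ ▸ X.basicOpen_le (1 - a))
  have hUV : U' ≤ V₁ ⊔ V₂ := by
    apply opens_le_of_preimage_le t ht
    have h0 : t ⁻¹ᵁ (V₁ ⊔ V₂) = t ⁻¹ᵁ V₁ ⊔ t ⁻¹ᵁ V₂ := rfl
    rw [h0, h₁, h₂]
    have h3 := X.basicOpen_add_le (f := a) (g := 1 - a)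
    rw [add_sub_cancel, Scheme.basicOpen_one] at h3
    exact h3
  obtain ⟨t₁, ht₁⟩ := t.app_surjective V₁ hV₁ (res X (t.preimage_mono hV₁U) a)
  obtain ⟨t₂, ht₂⟩ := t.app_surjective V₂ hV₂ (res X (t.preimage_mono hV₂U) a)
  have hW₂ : X'.basicOpen t₂ ≤ V₂ := X'.basicOpen_le t₂
  have hWpre : t ⁻¹ᵁ (X'.basicOpen t₂) = X.basicOpen a ⊓ X.basicOpen (1 - a) := by
    rw [Scheme.preimage_basicOpen, ht₂, basicOpen_res', h₂, inf_comm]
  have hW₁ : X'.basicOpen t₂ ≤ V₁ :=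
    opens_le_of_preimage_le t ht (by rw [hWpre, h₁]; exact inf_le_left)
  have hW : V₁ ⊓ V₂ ≤ X'.basicOpen t₂ := opens_le_of_preimage_le t ht (by
    have h0 : t ⁻¹ᵁ (V₁ ⊓ V₂) = t ⁻¹ᵁ V₁ ⊓ t ⁻¹ᵁ V₂ := rfl
    rw [h0, h₁, h₂, hWpre])
  have hWaff : IsAffineOpen (X'.basicOpen t₂) := hV₂.basicOpen t₂
  have hc0 : t.app (X'.basicOpen t₂) (res X' hW₁ t₁ - res X' hW₂ t₂) = 0 := by
    rw [map_sub, app_res, app_res, ht₁, ht₂, res_res, res_res, sub_self]
  obtain ⟨m, hm⟩ := isNilpotent_of_app_eq_zero t ht hWaff.isCompact _ hc0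
  obtain ⟨r, c', hc'⟩ := exists_eq_pow_mul_of_isAffineOpen X' V₂ hV₂ t₂ (res X' hW₁ t₁ - res X' hW₂ t₂)
  have hc'' : res X' hW₂ c' = (res X' hW₂ t₂) ^ r * (res X' hW₁ t₁ - res X' hW₂ t₂) := hc'
  -- make the extension vanish on the thin scheme
  have hpre : t ⁻¹ᵁ (X'.basicOpen t₂) = X.basicOpen (res X (t.preimage_mono hV₂U) a) := by
    rw [Scheme.preimage_basicOpen, ht₂]
  have he₀ : res X (t.preimage_mono hW₂) (t.app V₂ c') = 0 := by
    rw [← app_res t hW₂ c', hc'', map_mul, hc0, mul_zero]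
  have hV₂pre : IsAffineOpen (t ⁻¹ᵁ V₂) := hV₂.preimage t
  have he₀' : res X (X.basicOpen_le (res X (t.preimage_mono hV₂U) a)) (t.app V₂ c') = 0 := by
    have h5 : res X (X.basicOpen_le (res X (t.preimage_mono hV₂U) a)) (t.app V₂ c') =
        res X hpre.ge (res X (t.preimage_mono hW₂) (t.app V₂ c')) := (res_res X _ _ _).symm
    rw [h5, he₀, map_zero]
  obtain ⟨q, hq⟩ := exists_pow_mul_eq_zero_of_res_basicOpen_eq_zero_of_isAffineOpen X hV₂pre
    (t.app V₂ c') (res X (t.preimage_mono hV₂U) a) he₀'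
  -- the ring `Q = Γ(X', W) × Γ(X, t⁻¹ V₂)` and the subring of pairs coming from `Γ(X', V₂)`
  let ψ : Γ(X', V₂) →+* Γ(X', X'.basicOpen t₂) × Γ(X, t ⁻¹ᵁ V₂) :=
    (res X' hW₂).prod (t.app V₂).hom
  have hψ : ∀ s, ψ s = (res X' hW₂ s, t.app V₂ s) := fun s => rfl
  have hx : ψ t₂ ∈ ψ.range := ⟨t₂, rfl⟩
  have hy : ((res X' hW₁ t₁ - res X' hW₂ t₂, 0) :
      Γ(X', X'.basicOpen t₂) × Γ(X, t ⁻¹ᵁ V₂)) ^ (m + 1) = 0 := by
    rw [Prod.pow_mk, pow_succ, hm, zero_mul, pow_succ, mul_zero]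
    rfl
  have hxy : ψ t₂ ^ (q + r) * ((res X' hW₁ t₁ - res X' hW₂ t₂, 0) :
      Γ(X', X'.basicOpen t₂) × Γ(X, t ⁻¹ᵁ V₂)) ∈ ψ.range := by
    refine ⟨t₂ ^ q * c', ?_⟩
    rw [hψ, hψ, map_mul, map_mul, map_pow, map_pow, hc'', ht₂, hq, Prod.pow_mk, Prod.mk_mul_mk, mul_zero,
      pow_add, mul_assoc]
  obtain ⟨s₂, hs₂⟩ := add_pow_mem_subring ψ.range (ψ t₂)
    ((res X' hW₁ t₁ - res X' hW₂ t₂, 0) : Γ(X', X'.basicOpen t₂) × Γ(X, t ⁻¹ᵁ V₂)) (m + 1) (q + r)
    ((q + r + 1) * (m + 1)) hx hy hxy le_rfl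
  have hsum : ψ t₂ + ((res X' hW₁ t₁ - res X' hW₂ t₂, 0) :
      Γ(X', X'.basicOpen t₂) × Γ(X, t ⁻¹ᵁ V₂)) = (res X' hW₁ t₁, res X (t.preimage_mono hV₂U) a) := by
    rw [hψ, ht₂, Prod.mk_add_mk, add_zero, add_sub_cancel]
  rw [hsum, hψ, Prod.pow_mk, Prod.mk.injEq] at hs₂
  obtain ⟨hs₂W, hs₂X⟩ := hs₂
  set M := (q + r + 1) * (m + 1) with hMdef
  have hMpos : 0 < M := Nat.mul_pos (Nat.succ_pos _) (Nat.succ_pos _)
  -- glue
  obtain ⟨f', hf'₁, hf'₂⟩ := exists_glue X' V₁ V₂ (X'.basicOpen t₂) hW₁ hW₂ hW (t₁ ^ M) s₂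
    (by rw [map_pow, hs₂W])
  have hf₁ : res X' hV₁U (res X' hUV f') = t₁ ^ M := by rw [res_res, ← hf'₁]
  have hf₂ : res X' hV₂U (res X' hUV f') = s₂ := by rw [res_res, ← hf'₂]
  -- the image of the glued section
  have hφ : t.app U' (res X' hUV f') = a ^ M := by
    refine eq_of_res_eq X (t ⁻¹ᵁ U') (t ⁻¹ᵁ V₁) (t ⁻¹ᵁ V₂) (t.preimage_mono hV₁U) (t.preimage_mono hV₂U)
      (t.preimage_mono hUV) _ _ ?_ ?_
    · rw [← app_res t hV₁U, hf₁, map_pow, map_pow, ht₁]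
    · rw [← app_res t hV₂U, hf₂, hs₂X, map_pow]
  -- conclusion
  have hD₁ : X'.basicOpen (res X' hUV f') = V₁ := by
    apply opens_eq_of_preimage_eq t ht
    rw [Scheme.preimage_basicOpen, hφ, X.basicOpen_pow a hMpos, h₁]
  have hD₂ : X'.basicOpen (1 - res X' hUV f') ≤ V₂ := by
    apply opens_le_of_preimage_le t ht
    rw [Scheme.preimage_basicOpen, map_sub, map_one, hφ, h₂]
    obtain ⟨w, hw⟩ := sub_dvd_pow_sub_pow (1 : Γ(X, t ⁻¹ᵁ U')) a M
    rw [one_pow] at hw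
    rw [hw, Scheme.basicOpen_mul]
    exact inf_le_left
  have hD₂' : IsAffineOpen (X'.basicOpen (1 - res X' hUV f')) := by
    have h6 : X'.basicOpen (res X' hV₂U (1 - res X' hUV f')) = X'.basicOpen (1 - res X' hUV f') := by
      rw [basicOpen_res']
      exact inf_eq_right.mpr hD₂
    rw [← h6]
    exact hV₂.basicOpen _
  apply isAffineOpen_of_isAffineOpen_basicOpen U' {res X' hUV f', 1 - res X' hUV f'}
  · rw [Ideal.eq_top_iff_one]
    have h7 : (1 : Γ(X', U')) = res X' hUV f' + (1 - res X' hUV f') := by ring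
    rw [h7]
    exact Ideal.add_mem _ (Ideal.subset_span (by simp)) (Ideal.subset_span (by simp))
  · intro i hi
    rcases hi with rfl | hi
    · rw [hD₁]; exact hV₁
    · rw [Set.mem_singleton_iff] at hi
      rw [hi]; exact hD₂'


section Main

variable {X X' : Scheme.{u}} (t : X ⟶ X') [IsClosedImmersion t] (ht : Function.Surjective t)

include ht in
lemma img_basicOpen_mul_affine (g h : Γ(X, ⊤)) (hg : IsAffineOpen (img t ht (X.basicOpen g))) :
    IsAffineOpen (img t ht (X.basicOpen (h * g))) := by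
  obtain ⟨h', hh'⟩ := t.app_surjective _ hg (res X le_top h)
  have : img t ht (X.basicOpen (h * g)) = X'.basicOpen h' := by
    apply opens_eq_of_preimage_eq t ht
    rw [preimage_img, Scheme.preimage_basicOpen, hh', basicOpen_res', preimage_img, Scheme.basicOpen_mul,
      inf_comm]
  rw [this]
  exact hg.basicOpen h'

include ht in
lemma exists_img_basicOpen_affine [IsAffine X] (x : X) :
    ∃ g : Γ(X, ⊤), IsAffineOpen (img t ht (X.basicOpen g)) ∧ x ∈ X.basicOpen g := by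
  obtain ⟨W', hW', hxW', -⟩ := exists_isAffineOpen_mem_and_subset (X := X') (x := t x) (U := ⊤) trivial
  have hxW : x ∈ t ⁻¹ᵁ W' := hxW'
  obtain ⟨g, hgW, hxg⟩ := (isAffineOpen_top X).exists_basicOpen_le (V := t ⁻¹ᵁ W') ⟨x, hxW⟩ trivial
  refine ⟨g, ?_, hxg⟩
  obtain ⟨g', hg'⟩ := t.app_surjective _ hW' (res X le_top g)
  have : img t ht (X.basicOpen g) = X'.basicOpen g' := by
    apply opens_eq_of_preimage_eq t ht
    rw [preimage_img, Scheme.preimage_basicOpen, hg', basicOpen_res']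
    exact (inf_eq_right.mpr hgW).symm
  rw [this]
  exact hW'.basicOpen g'

include ht in
lemma img_basicOpen_add_affine (g₁ g₂ : Γ(X, ⊤)) (hg₁ : IsAffineOpen (img t ht (X.basicOpen g₁)))
    (hg₂ : IsAffineOpen (img t ht (X.basicOpen g₂))) :
    IsAffineOpen (img t ht (X.basicOpen (g₁ + g₂))) := by
  have hpre : t ⁻¹ᵁ (img t ht (X.basicOpen (g₁ + g₂))) = X.basicOpen (g₁ + g₂) := preimage_img t ht _
  -- the restriction of `g₁ + g₂` is a unit
  have hG : IsUnit (res X (le_top : t ⁻¹ᵁ (img t ht (X.basicOpen (g₁ + g₂))) ≤ ⊤) (g₁ + g₂)) := by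
    have h1 : res X (le_top : t ⁻¹ᵁ (img t ht (X.basicOpen (g₁ + g₂))) ≤ ⊤) (g₁ + g₂) =
        res X hpre.le (res X (X.basicOpen_le (g₁ + g₂)) (g₁ + g₂)) := (res_res X _ _ _).symm
    rw [h1]
    exact (RingedSpace.isUnit_res_basicOpen X.toRingedSpace (g₁ + g₂)).map _
  obtain ⟨b, hb⟩ := hG.exists_right_inv
  have hbu : IsUnit b := IsUnit.of_mul_eq_one _ (by rw [mul_comm]; exact hb)
  have hbo : ∀ (h : Γ(X, ⊤)), X.basicOpen (res X (le_top : t ⁻¹ᵁ (img t ht (X.basicOpen (g₁ + g₂))) ≤ ⊤) h * b) =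
      X.basicOpen ((g₁ + g₂) * h) := by
    intro h
    rw [Scheme.basicOpen_mul, basicOpen_res', Scheme.basicOpen_of_isUnit _ hbu, hpre,
      Scheme.basicOpen_mul]
    simp
  refine isAffineOpen_of_two_cover t ht (img t ht (X.basicOpen (g₁ + g₂)))
    (res X le_top g₁ * b)
    (img t ht (X.basicOpen ((g₁ + g₂) * g₁))) (img t ht (X.basicOpen ((g₁ + g₂) * g₂)))
    (img_basicOpen_mul_affine t ht g₁ _ hg₁) (img_basicOpen_mul_affine t ht g₂ _ hg₂) ?_ ?_
  · rw [preimage_img, hbo]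
  · rw [preimage_img, ← hbo]
    congr 1
    rw [map_add] at hb
    linear_combination hb

/-- the ideal of global sections of the thin scheme over whose basic open the thick scheme is affine -/
def affIdeal : Ideal Γ(X, ⊤) where
  carrier := {g | IsAffineOpen (img t ht (X.basicOpen g))}
  add_mem' := fun {g₁ g₂} h₁ h₂ => img_basicOpen_add_affine t ht g₁ g₂ h₁ h₂
  zero_mem' := by
    change IsAffineOpen (img t ht (X.basicOpen (0 : Γ(X, ⊤))))
    rw [Scheme.basicOpen_zero]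
    have : img t ht (⊥ : X.Opens) = ⊥ := by
      apply opens_eq_of_preimage_eq t ht
      rw [preimage_img]
      rfl
    rw [this]
    exact isAffineOpen_bot X'
  smul_mem' := fun c g hg => by
    rw [smul_eq_mul]
    exact img_basicOpen_mul_affine t ht g c hg

include ht in
/-- A scheme receiving a closed immersion, surjective on points, from an affine scheme is affine. -/
theorem isAffine_of_thickening [IsAffine X] : IsAffine X' := by
  have hspan : Ideal.span (affIdeal t ht : Set Γ(X, ⊤)) = ⊤ := by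
    rw [← (isAffineOpen_top X).iSup_basicOpen_eq_self_iff]
    apply le_antisymm le_top
    intro x _
    obtain ⟨g, hg, hxg⟩ := exists_img_basicOpen_affine t ht x
    rw [Opens.mem_iSup]
    exact ⟨⟨g, hg⟩, hxg⟩
  rw [Ideal.span_eq] at hspan
  have h1 : (1 : Γ(X, ⊤)) ∈ affIdeal t ht := by rw [hspan]; trivial
  have h2 : IsAffineOpen (img t ht (X.basicOpen (1 : Γ(X, ⊤)))) := h1
  have h3 : img t ht (X.basicOpen (1 : Γ(X, ⊤))) = ⊤ := by
    apply opens_eq_of_preimage_eq t ht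
    rw [preimage_img, Scheme.basicOpen_one]
    rfl
  rw [h3] at h2
  have : IsAffine (⊤ : X'.Opens).toScheme := h2
  exact IsAffine.of_isIso (X'.topIso).inv

include ht in
lemma surjective_morphismRestrict (V : X'.Opens) : Function.Surjective (t ∣_ V) := by
  rintro ⟨y, hy⟩
  obtain ⟨x, rfl⟩ := ht y
  refine ⟨⟨x, hy⟩, Subtype.ext ?_⟩
  exact morphismRestrict_base_coe t V ⟨x, hy⟩

include ht in
/-- in-place version: an open of the thick scheme is affine as soon as its preimage in the thin scheme is -/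
theorem isAffineOpen_of_preimage (V : X'.Opens) (hV : IsAffineOpen (t ⁻¹ᵁ V)) : IsAffineOpen V := by
  have : IsAffine (t ⁻¹ᵁ V).toScheme := hV
  exact isAffine_of_thickening (t ∣_ V) (surjective_morphismRestrict t ht V)

end Main

end Groth.Agent.Lib.Helper1.AffThick
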