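import Groth.Agent.Lib.Helper1.AH1
import Groth.Agent.Lib.Helper1.IdealSheafComap
import Groth.Agent.Lib.Helper1.ArtFunArt
import Groth.Agent.Lib.Helper3.ModHomAff
import Groth.Agent.Lib.Helper29.QCohIdealMod
import Groth.Prelude.Def_ArtFun6

/-!
# Uniqueness of embedded deformations along a small extension: the scheme side
-/

universe u

open CategoryTheory CategoryTheory.Limits AlgebraicGeometry Opposite TopologicalSpace
open ArtFun ArtFun.Art
open Groth.Agent.Lib.Helper29.QCoh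

namespace Groth.Agent.Lib.Helper1.AH

/-! ### Kernels of base changes of closed immersions of affine schemes -/

theorem ker_SpecMap_appTop {Bc Cc : CommRingCat.{u}} (q : Bc ⟶ Cc) :
    RingHom.ker (Spec.map q).appTop.hom =
      (RingHom.ker q.hom).map (Scheme.ΓSpecIso Bc).inv.hom := by
  have nat : ∀ b, (Spec.map q).appTop.hom ((Scheme.ΓSpecIso Bc).inv.hom b) =
      (Scheme.ΓSpecIso Cc).inv.hom (q.hom b) := by
    intro b
    have := Scheme.ΓSpecIso_inv_naturality q
    exact (congrArg (fun k => k.hom b) this).symm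
  have hinj : Function.Injective (Scheme.ΓSpecIso Cc).inv.hom := by
    refine Function.LeftInverse.injective (g := (Scheme.ΓSpecIso Cc).hom.hom) fun c => ?_
    have := (Scheme.ΓSpecIso Cc).inv_hom_id
    exact congrArg (fun k => k.hom c) this
  apply le_antisymm
  · intro y hy
    have hy' : y = (Scheme.ΓSpecIso Bc).inv.hom ((Scheme.ΓSpecIso Bc).hom.hom y) := by
      have := (Scheme.ΓSpecIso Bc).hom_inv_id
      exact (congrArg (fun k => k.hom y) this).symm
    rw [hy']
    apply Ideal.mem_map_of_mem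
    rw [RingHom.mem_ker]
    apply hinj
    rw [← nat, ← hy', map_zero]
    exact hy
  · rw [Ideal.map_le_iff_le_comap]
    intro b hb
    rw [Ideal.mem_comap, RingHom.mem_ker, nat, (RingHom.mem_ker).1 hb, map_zero]

theorem isClosedImmersion_of_isPullback {P Y : Scheme.{u}} {Bc Cc : CommRingCat.{u}} (q : Bc ⟶ Cc)
    (hq : Function.Surjective q.hom) {f' : P ⟶ Y} {g' : P ⟶ Spec Cc} {g : Y ⟶ Spec Bc}
    (h : IsPullback f' g' g (Spec.map q)) : IsClosedImmersion f' := by
  haveI : IsClosedImmersion (Spec.map q) := IsClosedImmersion.spec_of_surjective q hq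
  exact MorphismProperty.of_isPullback (P := @IsClosedImmersion) h.flip inferInstance

theorem ker_app_of_isPullback {P Y : Scheme.{u}} {Bc Cc : CommRingCat.{u}} (q : Bc ⟶ Cc)
    (hq : Function.Surjective q.hom) {f' : P ⟶ Y} {g' : P ⟶ Spec Cc} {g : Y ⟶ Spec Bc}
    (h : IsPullback f' g' g (Spec.map q)) (W : Y.Opens) (hW : IsAffineOpen W) :
    RingHom.ker (f'.app W).hom =
      (RingHom.ker q.hom).map
        ((g.appLE ⊤ W le_top).hom.comp (Scheme.ΓSpecIso Bc).inv.hom) := by
  haveI : IsClosedImmersion (Spec.map q) := IsClosedImmersion.spec_of_surjective q hq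
  haveI : IsClosedImmersion f' := isClosedImmersion_of_isPullback q hq h
  have hker : f'.ker = (Spec.map q).ker.comap g := by
    have e1 : h.isoPullback.hom ≫ pullback.fst g (Spec.map q) = f' := h.isoPullback_hom_fst
    rw [← e1, Scheme.Hom.ker_comp_of_isIso, Scheme.IdealSheafData.ker_fst_of_isClosedImmersion]
  have h1 : f'.ker.ideal ⟨W, hW⟩ = RingHom.ker (f'.app W).hom :=
    Scheme.Hom.ker_apply f' ⟨W, hW⟩
  have h2 : (Spec.map q).ker.ideal ⟨⊤, isAffineOpen_top _⟩ =
      RingHom.ker (Spec.map q).appTop.hom :=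
    Scheme.Hom.ker_apply (Spec.map q) ⟨⊤, isAffineOpen_top _⟩
  rw [← h1, hker, ideal_comap _ g ⟨W, hW⟩ ⟨⊤, isAffineOpen_top _⟩ le_top, h2,
    ker_SpecMap_appTop, Ideal.map_map]

theorem presheaf_map_injective_of_eq (Y : Scheme.{u}) {U V : Y.Opens} (e : V = U) :
    Function.Injective (Y.presheaf.map (homOfLE e.le).op).hom := by
  subst e
  intro a b hab
  simpa using hab

theorem appLE_eq_id {Y : Scheme.{u}} (f : Y ⟶ Y) (hf : f = 𝟙 Y) (U : Y.Opens) (e : U ≤ f ⁻¹ᵁ U) :
    f.appLE U U e = 𝟙 _ := by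
  subst hf
  rw [Scheme.Hom.appLE, Scheme.Hom.id_app]
  exact (Category.id_comp _).trans (Y.presheaf.map_id (op U))

/-! ### The local rings of the situation -/

section Setup

variable {k : Type u} [Field k] {X : Scheme.{u}} (x : X ⟶ specPt k) (B : Art k k)

instance isAffineHom_fst : IsAffineHom (pullback.fst x (specOver B)) :=
  MorphismProperty.pullback_fst _ _ inferInstance

/-- The preimage of `U ⊆ X` in `X ×_k Spec B`. -/
noncomputable def WW (U : X.Opens) : (XA x B).Opens := (pullback.fst x (specOver B)) ⁻¹ᵁ U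

lemma isAffineOpen_WW {U : X.Opens} (hU : IsAffineOpen U) : IsAffineOpen (WW x B U) :=
  hU.preimage _

lemma XAincl_preimage_WW (U : X.Opens) : (XAincl x B) ⁻¹ᵁ (WW x B U) = U := by
  unfold WW
  rw [← Scheme.Hom.comp_preimage, XAincl_fst, Scheme.Hom.id_preimage]

lemma WW_mono {U V : X.Opens} (h : V ≤ U) : WW x B V ≤ WW x B U :=
  Scheme.Hom.preimage_mono _ h

lemma iSup_WW : ⨆ U : X.affineOpens, WW x B U.1 = ⊤ := by
  rw [eq_top_iff]
  intro y _
  obtain ⟨_, ⟨V, hV, rfl⟩, hyV, -⟩ :=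
    X.isBasis_affineOpens.exists_subset_of_mem_open
      (Set.mem_univ ((pullback.fst x (specOver B)) y)) isOpen_univ
  exact Opens.mem_iSup.mpr ⟨⟨V, hV⟩, hyV⟩

/-- `B → Γ(X_B, W_U)`. -/
noncomputable def phi (U : X.Opens) : B →+* Γ(XA x B, WW x B U) :=
  ((XApr x B).appLE ⊤ (WW x B U) le_top).hom.comp (Scheme.ΓSpecIso (CommRingCat.of B)).inv.hom

/-- `Γ(X_B, W_U) → Γ(X, U)`, restriction to the closed fibre. -/
noncomputable def rho (U : X.Opens) : Γ(XA x B, WW x B U) →+* Γ(X, U) :=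
  ((XAincl x B).appLE (WW x B U) U (XAincl_preimage_WW x B U).ge).hom

/-- `Γ(X_B, W_U) → Γ(Z, W_U ∩ Z)` for the closed subscheme `Z` of `I`. -/
noncomputable def sig (I : (XA x B).IdealSheafData) (U : X.Opens) :
    Γ(XA x B, WW x B U) →+* Γ(I.subscheme, I.subschemeι ⁻¹ᵁ (WW x B U)) :=
  (I.subschemeι.app (WW x B U)).hom

/-- `Γ(X, U) → Γ(Y₀, U ∩ Y₀)`. -/
noncomputable def pi0 (I₀ : X.IdealSheafData) (U : X.Opens) :
    Γ(X, U) →+* Γ(I₀.subscheme, I₀.subschemeι ⁻¹ᵁ U) :=
  (I₀.subschemeι.app U).hom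

lemma rho_surjective (U : X.Opens) : Function.Surjective (rho x B U) := by
  intro r
  refine ⟨((pullback.fst x (specOver B)).appLE U (WW x B U) le_rfl).hom r, ?_⟩
  have h := Scheme.Hom.appLE_comp_appLE (XAincl x B) (pullback.fst x (specOver B)) U (WW x B U) U
    le_rfl (XAincl_preimage_WW x B U).ge
  rw [appLE_eq_id _ (XAincl_fst x B)] at h
  exact congrArg (fun k => k.hom r) h

lemma ker_rho (U : X.Opens) (hU : IsAffineOpen U) :
    RingHom.ker (rho x B U) = (IsLocalRing.maximalIdeal B).map (phi x B U) := by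
  have hW := isAffineOpen_WW x B hU
  have h1 := ker_app_of_isPullback (CommRingCat.ofHom B.res.toRingHom) B.res_surjective
    (isPullback_XAincl x B) (WW x B U) hW
  have h2 : RingHom.ker (CommRingCat.ofHom B.res.toRingHom).hom = IsLocalRing.maximalIdeal B := by
    ext b
    rw [RingHom.mem_ker, mem_maximalIdeal_iff]
    rfl
  rw [h2] at h1
  have h3 : RingHom.ker (rho x B U) = RingHom.ker ((XAincl x B).app (WW x B U)).hom := by
    change RingHom.ker ((X.presheaf.map (homOfLE (XAincl_preimage_WW x B U).ge).op).hom.comp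
      ((XAincl x B).app (WW x B U)).hom) = _
    exact RingHom.ker_comp_of_injective _
      (presheaf_map_injective_of_eq X (XAincl_preimage_WW x B U).symm)
  rw [h3, h1]
  rfl

lemma ker_sig (I : (XA x B).IdealSheafData) (U : X.Opens) (hU : IsAffineOpen U) :
    RingHom.ker (sig x B I U) = I.ideal ⟨WW x B U, isAffineOpen_WW x B hU⟩ :=
  I.ker_subschemeι_app ⟨WW x B U, isAffineOpen_WW x B hU⟩

lemma ker_pi0 (I₀ : X.IdealSheafData) (U : X.Opens) (hU : IsAffineOpen U) :
    RingHom.ker (pi0 I₀ U) = I₀.ideal ⟨U, hU⟩ :=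
  I₀.ker_subschemeι_app ⟨U, hU⟩

lemma sig_surjective (I : (XA x B).IdealSheafData) (U : X.Opens) (hU : IsAffineOpen U) :
    Function.Surjective (sig x B I U) :=
  I.subschemeι_app_surjective ⟨WW x B U, isAffineOpen_WW x B hU⟩

lemma flat_sig_phi (I : (XA x B).IdealSheafData) (hI : FlatOver X x B I) (U : X.Opens)
    (hU : IsAffineOpen U) : ((sig x B I U).comp (phi x B U)).Flat := by
  have hW := isAffineOpen_WW x B hU
  have hfl : Flat (I.subschemeι ≫ XApr x B) := hI
  have h1 := HasRingHomProperty.appLE @Flat (I.subschemeι ≫ XApr x B) hfl ⟨⊤, isAffineOpen_top _⟩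
    ⟨I.subschemeι ⁻¹ᵁ (WW x B U), hW.preimage I.subschemeι⟩ le_top
  have e : (XApr x B).appLE ⊤ (WW x B U) le_top ≫ I.subschemeι.app (WW x B U) =
      (I.subschemeι ≫ XApr x B).appLE ⊤ (I.subschemeι ⁻¹ᵁ (WW x B U)) le_top := by
    rw [Scheme.Hom.app_eq_appLE, Scheme.Hom.appLE_comp_appLE]
  have e' : (sig x B I U).comp ((XApr x B).appLE ⊤ (WW x B U) le_top).hom =
      ((I.subschemeι ≫ XApr x B).appLE ⊤ (I.subschemeι ⁻¹ᵁ (WW x B U)) le_top).hom :=
    congrArg CommRingCat.Hom.hom e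
  have h2 : ((sig x B I U).comp ((XApr x B).appLE ⊤ (WW x B U) le_top).hom).Flat := by
    rw [e']; exact h1
  have h3 : (Scheme.ΓSpecIso (CommRingCat.of B)).inv.hom.Flat :=
    RingHom.Flat.of_bijective
      (ConcreteCategory.bijective_of_isIso (Scheme.ΓSpecIso (CommRingCat.of B)).inv)
  have := RingHom.Flat.comp h3 h2
  exact this

end Setup

/-! ### The hypotheses hold -/

section Hyp

variable {k : Type u} [Field k] {X : Scheme.{u}} (x : X ⟶ specPt k) {B A : Art k k}
  (p : B ⟶ A) (I₀ : X.IdealSheafData)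

theorem hyp (hp : IsSmallExt p) (t : B) (ht : RingHom.ker p.toAlgHom = Ideal.span {t})
    (I₁ I₂ : (XA x B).IdealSheafData) (h₁ : FlatOver X x B I₁) (h₂ : FlatOver X x B I₂)
    (h₁₀ : I₁.comap (XAincl x B) = I₀) (h₂₀ : I₂.comap (XAincl x B) = I₀)
    (h12 : I₁.comap (XAmap x p) = I₂.comap (XAmap x p)) (U : X.Opens) (hU : IsAffineOpen U) :
    Hyp (IsLocalRing.maximalIdeal B) t (phi x B U) (sig x B I₁ U) (sig x B I₂ U) (rho x B U)
      (pi0 I₀ U) := by
  have hW := isAffineOpen_WW x B hU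
  have hkerπ : ∀ (I : (XA x B).IdealSheafData), I.comap (XAincl x B) = I₀ →
      RingHom.ker (pi0 I₀ U) = (RingHom.ker (sig x B I U)).map (rho x B U) := by
    intro I hI
    rw [ker_pi0 I₀ U hU, ker_sig x B I U hU]
    have := ideal_comap I (XAincl x B) ⟨U, hU⟩ ⟨WW x B U, hW⟩ (XAincl_preimage_WW x B U).ge
    rw [hI] at this
    exact this
  have htne : t ≠ 0 := by
    intro h0
    apply hp.2.1
    rw [ht, h0]
    exact Ideal.span_singleton_eq_bot.2 rfl
  have htk : t ∈ RingHom.ker p.toAlgHom := by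
    rw [ht]; exact Ideal.subset_span rfl
  refine ⟨flat_sig_phi x B I₁ h₁ U hU, flat_sig_phi x B I₂ h₂ U hU, sig_surjective x B I₁ U hU,
    sig_surjective x B I₂ U hU, rho_surjective x B U, ker_rho x B U hU, hkerπ I₁ h₁₀, hkerπ I₂ h₂₀,
    ?_, ?_, ?_⟩
  · -- le_sup
    have hq : Function.Surjective (CommRingCat.ofHom p.toAlgHom.toRingHom).hom := hp.1
    have : IsClosedImmersion (XAmap x p) :=
      isClosedImmersion_of_isPullback _ hq (isPullback_XAmap x p)
    have hWA : IsAffineOpen ((XAmap x p) ⁻¹ᵁ (WW x B U)) := hW.preimage _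
    have hk := ker_app_of_isPullback _ hq (isPullback_XAmap x p) (WW x B U) hW
    have hk2 : RingHom.ker (CommRingCat.ofHom p.toAlgHom.toRingHom).hom = Ideal.span {t} := ht
    rw [hk2, Ideal.map_span, Set.image_singleton] at hk
    have hsurj : Function.Surjective ((XAmap x p).app (WW x B U)).hom :=
      Scheme.Hom.app_surjective (XAmap x p) (WW x B U) hW
    have c1 := ideal_comap I₁ (XAmap x p) ⟨_, hWA⟩ ⟨WW x B U, hW⟩ le_rfl
    have c2 := ideal_comap I₂ (XAmap x p) ⟨_, hWA⟩ ⟨WW x B U, hW⟩ le_rfl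
    rw [h12, c2] at c1
    rw [Scheme.Hom.appLE_eq_app] at c1
    -- c1 : map ψ J₂ = map ψ J₁
    rw [ker_sig x B I₁ U hU, ker_sig x B I₂ U hU]
    have : I₁.ideal ⟨WW x B U, hW⟩ ≤
        Ideal.comap ((XAmap x p).app (WW x B U)).hom
          (Ideal.map ((XAmap x p).app (WW x B U)).hom (I₁.ideal ⟨WW x B U, hW⟩)) :=
      Ideal.le_comap_map
    rw [← c1, Ideal.comap_map_of_surjective _ hsurj, ← RingHom.ker_eq_comap_bot, hk] at this
    exact this
  · -- ann
    intro b hb
    by_contra hbm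
    have hu : IsUnit b := by
      by_contra hnu
      exact hbm ((IsLocalRing.mem_maximalIdeal b).2 hnu)
    obtain ⟨u, rfl⟩ := hu
    apply htne
    have : t * (u : B) * ((u⁻¹ : Bˣ) : B) = 0 := by rw [hb, zero_mul]
    rwa [mul_assoc, Units.mul_inv, mul_one] at this
  · -- mt
    intro b hb
    have h := hp.2.2.2
    have : b * t ∈ IsLocalRing.maximalIdeal B * RingHom.ker p.toAlgHom := Ideal.mul_mem_mul hb htk
    rw [h] at this
    exact this

end Hyp

end Groth.Agent.Lib.Helper1.AH
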