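import Groth.Agent.Lib.Helper1.ObjDescStep

/-!
# Object descent: every finitely presented scheme over a cofiltered limit comes from a stage
(EGA IV 8.8.2 (ii); helper1)
-/

set_option autoImplicit false
set_option linter.unusedSectionVars false
set_option linter.style.haveILetI false
universe u

namespace Groth.Agent.Lib.Helper1.ObjDesc

open AlgebraicGeometry CategoryTheory CategoryTheory.Limits Groth.Agent.Lib.Helper5
  Groth.Agent.Lib.Helper13 Groth.Agent.Lib.Helper13.LimitDescent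

variable {I : Type u} [SmallCategory I] [IsCofiltered I] {D : I ⥤ Scheme.{u}} {c : Cone D}
  (hc : IsLimit c) [∀ {i j} (f : i ⟶ j), IsAffineHom (D.map f)]
  [∀ i, CompactSpace (D.obj i)] [∀ i, QuasiSeparatedSpace (D.obj i)]

include hc in
set_option maxHeartbeats 800000 in
theorem desc_of_two_opens {X : Scheme.{u}} (f : X ⟶ c.pt) {U₁ U₂ : Scheme.{u}} (j₁ : U₁ ⟶ X)
    (j₂ : U₂ ⟶ X) [IsOpenImmersion j₁] [IsOpenImmersion j₂]
    (hcov : ∀ x : X, x ∈ Set.range j₁ ∨ x ∈ Set.range j₂)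
    [CompactSpace ↑(pullback j₁ j₂)]
    (h₁ : Desc D c (j₁ ≫ f)) (h₂ : Desc D c (j₂ ≫ f)) : Desc D c f := by
  obtain ⟨i₁, V₁, v₁, g₁, a1, b1, c1, sq₁⟩ := h₁
  obtain ⟨i₂, V₂, v₂, g₂, a2, b2, c2, sq₂⟩ := h₂
  let A₁ : Model D c (j₁ ≫ f) i₁ := ⟨V₁, v₁, g₁, sq₁⟩
  let A₂ : Model D c (j₂ ≫ f) i₂ := ⟨V₂, v₂, g₂, sq₂⟩
  have hA₁ : A₁.IsFP := ⟨a1, b1, c1⟩
  have hA₂ : A₂.IsFP := ⟨a2, b2, c2⟩
  let M₁ : Model D c (j₁ ≫ f) (IsCofiltered.min i₁ i₂) :=
    A₁.reindex (Over.mk (IsCofiltered.minToLeft i₁ i₂))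
  let M₂ : Model D c (j₂ ≫ f) (IsCofiltered.min i₁ i₂) :=
    A₂.reindex (Over.mk (IsCofiltered.minToRight i₁ i₂))
  have hM₁ : M₁.IsFP := Model.reindex_isFP hA₁ _
  have hM₂ : M₂.IsFP := Model.reindex_isFP hA₂ _
  let pr₁ := pullback.fst j₁ j₂
  let pr₂ := pullback.snd j₁ j₂
  -- Step 2: the intersection as an open of a model of `U₁`
  obtain ⟨k, W', hW'c, hW'⟩ := M₁.exists_open hc pr₁.opensRange
    (by rw [Scheme.Hom.coe_opensRange]; exact isCompact_range pr₁.continuous)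
  let N₁ := M₁.reindex k
  let N₂ := M₂.reindex k
  have hN₁ : N₁.IsFP := Model.reindex_isFP hM₁ k
  have hN₂ : N₂.IsFP := Model.reindex_isFP hM₂ k
  let NW : Model D c (pr₁ ≫ j₁ ≫ f) k.left := N₁.restrict pr₁ W' hW'
  have hNW : NW.IsFP := Model.restrict_isFP hN₁ pr₁ W' hW' hW'c
  have rep₁ : Model.Rep NW N₁ pr₁ W'.ι := N₁.restrict_rep pr₁ W' hW'
  -- Step 3: the second projection at a finite stage
  have hz₂ : pr₂ ≫ (j₂ ≫ f) = pr₁ ≫ j₁ ≫ f := by
    rw [← Category.assoc, ← pullback.condition, Category.assoc]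
  obtain ⟨k', ψ₂, rep₂⟩ := NW.exists_hom hc N₂ hNW.2.1 hNW.2.2 hN₂.1 pr₂ hz₂
  have rep₁' := rep₁.reindex rfl k'
  have hψ₁' : IsOpenImmersion (Model.homReindex NW N₁ W'.ι rep₁.over k') :=
    MorphismProperty.of_isPullback (Model.isPullback_homReindex NW N₁ W'.ι rep₁.over k').flip
      (inferInstance : IsOpenImmersion (Scheme.Opens.ι (X := N₁.V) W'))
  have hNW' : (NW.reindex k').IsFP := Model.reindex_isFP hNW k'
  have hN₁' : (N₁.reindex k').IsFP := Model.reindex_isFP hN₁ k'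
  have hN₂' : (N₂.reindex k').IsFP := Model.reindex_isFP hN₂ k'
  -- Step 4: it is an open immersion at a later stage
  obtain ⟨k'', hk''⟩ := (NW.reindex k').exists_isOpenImmersion hc (N₂.reindex k') hNW' hN₂'
    pr₂ hz₂ ψ₂ rep₂
  have rep₂' := rep₂.reindex hz₂ k''
  have rep₁'' := rep₁'.reindex rfl k''
  have hψ₁'' : IsOpenImmersion (Model.homReindex (NW.reindex k') (N₁.reindex k')
      (Model.homReindex NW N₁ W'.ι rep₁.over k') rep₁'.over k'') :=
    MorphismProperty.of_isPullback (Model.isPullback_homReindex (NW.reindex k') (N₁.reindex k')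
      (Model.homReindex NW N₁ W'.ι rep₁.over k') rep₁'.over k'').flip hψ₁'
  let F₁ := (N₁.reindex k').reindex k''
  let F₂ := (N₂.reindex k').reindex k''
  let FW := (NW.reindex k').reindex k''
  have hF₁ : F₁.IsFP := Model.reindex_isFP hN₁' k''
  have hF₂ : F₂.IsFP := Model.reindex_isFP hN₂' k''
  have hFW : FW.IsFP := Model.reindex_isFP hNW' k''
  let ψ₁ : FW.V ⟶ F₁.V := Model.homReindex (NW.reindex k') (N₁.reindex k')
      (Model.homReindex NW N₁ W'.ι rep₁.over k') rep₁'.over k''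
  let ψ₂f : FW.V ⟶ F₂.V := Model.homReindex (NW.reindex k') (N₂.reindex k') ψ₂ rep₂.over k''
  have hw : ψ₁ ≫ F₁.v = ψ₂f ≫ F₂.v := by rw [rep₁''.over, rep₂'.over]
  haveI : IsOpenImmersion ψ₁ := hψ₁''
  haveI : IsOpenImmersion ψ₂f := hk''
  obtain ⟨g, hg⟩ := exists_isPullback_glue (c.π.app k''.left) F₁.v F₂.v ψ₁ ψ₂f hw f j₁ j₂ hcov
    F₁.g F₂.g FW.g F₁.sq F₂.sq (rep₁''.isPullback rfl) (rep₂'.isPullback hz₂)
  haveI := hF₁.1
  haveI := hF₁.2.1
  haveI := hF₁.2.2
  haveI := hF₂.1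
  haveI := hF₂.2.1
  haveI := hF₂.2.2
  haveI := hFW.2.1
  refine ⟨k''.left, pushout ψ₁ ψ₂f, pushout.desc F₁.v F₂.v hw, g, ?_, ?_, ?_, hg⟩
  · exact locallyOfFinitePresentation_desc F₁.v F₂.v ψ₁ ψ₂f hw
  · exact quasiCompact_desc F₁.v F₂.v ψ₁ ψ₂f hw
  · haveI : QuasiSeparatedSpace F₁.V := quasiSeparatedSpace_of_quasiSeparated F₁.v
    haveI : QuasiSeparatedSpace F₂.V := quasiSeparatedSpace_of_quasiSeparated F₂.v
    haveI : CompactSpace FW.V := QuasiCompact.compactSpace_of_compactSpace FW.v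
    haveI : QuasiSeparatedSpace ↥(pushout ψ₁ ψ₂f) := quasiSeparatedSpace_pushout ψ₁ ψ₂f
    infer_instance

end Groth.Agent.Lib.Helper1.ObjDesc

namespace Groth.Agent.Lib.Helper1.ObjDesc

open AlgebraicGeometry CategoryTheory CategoryTheory.Limits Groth.Agent.Lib.Helper5
  Groth.Agent.Lib.Helper13 Groth.Agent.Lib.Helper13.LimitDescent TopologicalSpace

variable {I : Type u} [SmallCategory I] [IsCofiltered I] {D : I ⥤ Scheme.{u}} {c : Cone D}
  (hc : IsLimit c) [∀ {i j} (f : i ⟶ j), IsAffineHom (D.map f)]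
  [∀ i, CompactSpace (D.obj i)] [∀ i, QuasiSeparatedSpace (D.obj i)]

omit [IsCofiltered I] in
lemma desc_of_iso {X X' : Scheme.{u}} (e : X' ≅ X) (f : X ⟶ c.pt) (h : Desc D c (e.hom ≫ f)) :
    Desc D c f := by
  obtain ⟨i, V, v, g, h1, h2, h3, sq⟩ := h
  refine ⟨i, V, v, e.inv ≫ g, h1, h2, h3, ?_⟩
  refine sq.of_iso e (Iso.refl _) (Iso.refl _) (Iso.refl _) ?_ ?_ ?_ ?_ <;> simp

lemma range_homOfLE' {X : Scheme.{u}} {U V : X.Opens} (e : U ≤ V) :
    Set.range (X.homOfLE e) = V.ι ⁻¹' (U : Set X) := by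
  have h := X.opensRange_homOfLE e
  exact congrArg (fun W : V.toScheme.Opens => (W : Set ↥V.toScheme)) h

lemma compactSpace_pullback_homOfLE {X : Scheme.{u}} [QuasiSeparatedSpace X] (A U : X.Opens)
    (hA : IsCompact (A : Set X)) (hU : IsCompact (U : Set X)) :
    CompactSpace ↑(pullback (X.homOfLE (le_sup_left : A ≤ A ⊔ U))
      (X.homOfLE (le_sup_right : U ≤ A ⊔ U))) := by
  let j₁ := X.homOfLE (le_sup_left : A ≤ A ⊔ U)
  let j₂ := X.homOfLE (le_sup_right : U ≤ A ⊔ U)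
  let q := pullback.fst j₁ j₂ ≫ j₁ ≫ (A ⊔ U).ι
  have hq : Set.range q = (A : Set X) ∩ U := by
    have h1 : Set.range (pullback.fst j₁ j₂ ≫ j₁) = Set.range j₁ ∩ Set.range j₂ :=
      IsOpenImmersion.range_pullback_to_base_of_left j₁ j₂
    have h2 : Set.range j₁ = (A ⊔ U).ι ⁻¹' (A : Set X) := range_homOfLE' _
    have h3 : Set.range j₂ = (A ⊔ U).ι ⁻¹' (U : Set X) := range_homOfLE' _
    have h4 : q = (pullback.fst j₁ j₂ ≫ j₁) ≫ (A ⊔ U).ι := by simp [q]
    rw [h4, Scheme.Hom.comp_base, TopCat.coe_comp, Set.range_comp, h1, h2, h3,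
      ← Set.preimage_inter, Set.image_preimage_eq_inter_range, Scheme.Opens.range_ι]
    apply Set.inter_eq_left.mpr
    intro x hx
    exact Or.inl hx.1
  rw [← isCompact_univ_iff, q.isOpenEmbedding.isCompact_iff, Set.image_univ, hq]
  exact QuasiSeparatedSpace.inter_isCompact _ _ A.isOpen hA U.isOpen hU

include hc in
set_option maxHeartbeats 800000 in
/-- **EGA IV 8.8.2 (ii)**: a morphism of finite presentation to a cofiltered limit of qcqs
schemes with affine transition maps is the base change of a morphism of finite presentation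
to a stage. -/
theorem desc_of_finitePresentation {X : Scheme.{u}} (f : X ⟶ c.pt)
    [LocallyOfFinitePresentation f] [QuasiCompact f] [QuasiSeparated f] : Desc D c f := by
  classical
  have hcpt : CompactSpace c.pt := Scheme.compactSpace_of_isLimit D c hc
  have : Nonempty I := IsCofiltered.nonempty
  let i₀ : I := Classical.arbitrary I
  have : IsAffineHom (c.π.app i₀) := isAffineHom_π_app D c hc i₀
  have hqs : QuasiSeparatedSpace c.pt := quasiSeparatedSpace_of_quasiSeparated (c.π.app i₀)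
  have : CompactSpace X := QuasiCompact.compactSpace_of_compactSpace f
  have : QuasiSeparatedSpace X := quasiSeparatedSpace_of_quasiSeparated f
  let p := f ≫ c.π.app i₀
  let Good : X.Opens → Prop := fun A =>
    IsAffineOpen A ∧ ∃ B : (D.obj i₀).Opens, IsAffineOpen B ∧ A ≤ p ⁻¹ᵁ B
  have hgood : ∀ A, Good A → Desc D c (A.ι ≫ f) := by
    rintro A ⟨hA, B, hB, hAB⟩
    have : IsAffine (A : Scheme.{u}) := hA
    refine desc_of_isAffine hc (A.ι ≫ f) i₀ B hB ?_
    rintro _ ⟨x, rfl⟩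
    exact hAB x.2
  have hcover : ∀ x : X, ∃ A : X.Opens, Good A ∧ x ∈ A := by
    intro x
    obtain ⟨_, ⟨B, hB, rfl⟩, hxB, -⟩ :=
      (D.obj i₀).isBasis_affineOpens.exists_subset_of_mem_open (Set.mem_univ (p x)) isOpen_univ
    obtain ⟨_, ⟨A, hA, rfl⟩, hxA, hAB⟩ :=
      X.isBasis_affineOpens.exists_subset_of_mem_open (show x ∈ p ⁻¹ᵁ B from hxB)
        (p ⁻¹ᵁ B).isOpen
    exact ⟨A, ⟨hA, B, hB, hAB⟩, hxA⟩
  choose A hA hxA using hcover
  obtain ⟨t, ht⟩ := isCompact_univ.elim_finite_subcover (fun x => (A x : Set X))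
    (fun x => (A x).isOpen) (fun x _ => Set.mem_iUnion.mpr ⟨x, hxA x⟩)
  have key : ∀ s : Finset X, Desc D c ((⨆ x ∈ s, A x : X.Opens).ι ≫ f) := by
    intro s
    induction s using Finset.induction_on with
    | empty =>
      have : (⨆ x ∈ (∅ : Finset X), A x : X.Opens) = ⊥ := by simp
      rw [this]
      exact hgood ⊥ ⟨isAffineOpen_bot X, ⊥, isAffineOpen_bot _, bot_le⟩
    | insert a s ha ih =>
      have : (⨆ x ∈ insert a s, A x : X.Opens) = A a ⊔ ⨆ x ∈ s, A x := Finset.iSup_insert ..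
      rw [this]
      generalize hU : (⨆ x ∈ s, A x : X.Opens) = U at ih
      have hUc : IsCompact (U : Set X) := by
        rw [← hU]
        simp only [Opens.iSup_mk, Opens.carrier_eq_coe, Opens.coe_mk]
        exact s.isCompact_biUnion fun x _ => (hA x).1.isCompact
      haveI := compactSpace_pullback_homOfLE (A a) U (hA a).1.isCompact hUc
      refine desc_of_two_opens hc ((A a ⊔ U).ι ≫ f) (X.homOfLE (le_sup_left : A a ≤ A a ⊔ U))
        (X.homOfLE (le_sup_right : U ≤ A a ⊔ U)) ?_ ?_ ?_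
      · intro x
        have h2 : Set.range (X.homOfLE (le_sup_left : A a ≤ A a ⊔ U)) =
            (A a ⊔ U).ι ⁻¹' (A a : Set X) := range_homOfLE' _
        have h3 : Set.range (X.homOfLE (le_sup_right : U ≤ A a ⊔ U)) =
            (A a ⊔ U).ι ⁻¹' (U : Set X) := range_homOfLE' _
        rw [h2, h3]
        rcases x.2 with hx | hx
        · exact Or.inl hx
        · exact Or.inr hx
      · rw [Scheme.homOfLE_ι_assoc]
        exact hgood _ (hA a)
      · rw [Scheme.homOfLE_ι_assoc]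
        exact ih
  have htop : (⨆ x ∈ t, A x : X.Opens) = ⊤ := by
    rw [eq_top_iff]
    intro x _
    have := ht (Set.mem_univ x)
    simp only [Set.mem_iUnion] at this
    obtain ⟨y, hy, hxy⟩ := this
    exact Opens.mem_iSup.mpr ⟨y, Opens.mem_iSup.mpr ⟨hy, hxy⟩⟩
  have h := key t
  rw [htop] at h
  exact desc_of_iso X.topIso f h

end Groth.Agent.Lib.Helper1.ObjDesc
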