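import Mathlib

/-!
Helper1: criterion for a cocone of a filtered diagram in `CommRingCat` or in `Under R`
to be a colimit cocone (elementwise surjectivity and injectivity).
-/

set_option autoImplicit false
universe u

namespace Groth.Agent.Lib.Helper1

open CategoryTheory CategoryTheory.Limits

lemma isColimit_commRingCat_of_surj_inj {J : Type u} [SmallCategory J] [IsFiltered J]
    (F : J ⥤ CommRingCat.{u}) (c : Cocone F)
    (hsurj : ∀ x : c.pt, ∃ (i : J) (xi : F.obj i), x = c.ι.app i xi)
    (hinj : ∀ (i j : J) (xi : F.obj i) (xj : F.obj j), c.ι.app i xi = c.ι.app j xj →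
      ∃ (k : J) (f : i ⟶ k) (g : j ⟶ k), F.map f xi = F.map g xj) : Nonempty (IsColimit c) := by
  have : ReflectsColimit F (forget CommRingCat) := reflectsColimit_of_reflectsIsomorphisms _ _
  refine ⟨isColimitOfReflects (forget CommRingCat) (Types.FilteredColimit.isColimitOf _ _ ?_ ?_)⟩
  · exact hsurj
  · exact hinj

attribute [local instance] IsFiltered.isConnected in
lemma isColimit_under_of_surj_inj {R : CommRingCat.{u}} {J : Type u} [SmallCategory J]
    [IsFiltered J] (D : J ⥤ Under R) (c : Cocone D)
    (hsurj : ∀ x : c.pt.right, ∃ (i : J) (xi : (D.obj i).right), x = (c.ι.app i).right xi)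
    (hinj : ∀ (i j : J) (xi : (D.obj i).right) (xj : (D.obj j).right),
      (c.ι.app i).right xi = (c.ι.app j).right xj →
      ∃ (k : J) (f : i ⟶ k) (g : j ⟶ k), (D.map f).right xi = (D.map g).right xj) :
    Nonempty (IsColimit c) := by
  obtain ⟨h⟩ := isColimit_commRingCat_of_surj_inj (D ⋙ Under.forget R)
    ((Under.forget R).mapCocone c) hsurj hinj
  exact ⟨isColimitOfReflects (Under.forget R) h⟩

end Groth.Agent.Lib.Helper1
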