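import Groth.Agent.Lib.Helper13.Rebase
import Groth.Agent.Lib.Helper13.Localize
import Groth.Agent.Lib.Helper12.IndFG
import Mathlib.AlgebraicGeometry.Morphisms.FiniteType

/-!
# Reflecting specializations passes to limits (helper1)
-/

set_option autoImplicit false
set_option linter.unusedSectionVars false
set_option linter.style.haveILetI false
universe u

namespace Groth.Agent.Lib.Helper1.RSLimit

open AlgebraicGeometry CategoryTheory CategoryTheory.Limits Groth.Agent.Lib.Helper5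
  Groth.Agent.Lib.Helper13 Groth.Agent.Lib.Helper13.LimitDescent TopologicalSpace

/-- `p` reflects specializations. -/
def RS {P X' : Scheme.{u}} (p : P ⟶ X') : Prop :=
  ∀ y₀ y₁ : P, p y₁ ⤳ p y₀ → y₁ ⤳ y₀

lemma RS.of_isPullback {P P' Y X X' : Scheme.{u}} {a : P ⟶ Y} {p : P ⟶ X'} {a' : P' ⟶ Y}
    {p' : P' ⟶ X'} {f : Y ⟶ X} {g : X' ⟶ X} (h : IsPullback a p f g)
    (h' : IsPullback a' p' f g) (hp : RS p) : RS p' := by
  intro y₀ y₁ hy
  let e := IsPullback.isoIsPullback _ _ h' h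
  have he : e.hom ≫ p = p' := IsPullback.isoIsPullback_hom_snd _ _ h' h
  have h1 : p (e.hom y₁) ⤳ p (e.hom y₀) := by
    have : ∀ y, p (e.hom y) = p' y := fun y => by
      rw [← he]; rfl
    rw [this, this]
    exact hy
  have h2 := (hp _ _ h1).map e.inv.continuous
  have h3 : ∀ y, e.inv (e.hom y) = y := fun y => by
    rw [← Scheme.Hom.comp_apply, Iso.hom_inv_id]; rfl
  rwa [h3, h3] at h2

section limit

variable {I : Type u} [SmallCategory I] [IsCofiltered I] {D : I ⥤ Scheme.{u}} {c : Cone D}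
  (hc : IsLimit c) [∀ {i j} (f : i ⟶ j), IsAffineHom (D.map f)]

include hc in
lemma RS_limit (i₀ : I) {T : Scheme.{u}} (g₀ : T ⟶ D.obj i₀)
    (H : ∀ j : Over i₀, RS (pullback.fst (D.map j.hom) g₀)) :
    RS (pullback.fst (c.π.app i₀) g₀) := by
  intro y₀ y₁ hy
  let cT := bcCone D c i₀ g₀
  have hcT : IsLimit cT := isLimitBcCone D c hc i₀ g₀
  have hbasis := isBasis_preimage_isAffineOpen (bcDiagram D i₀ g₀) cT hcT
  rw [specializes_iff_forall_open]
  intro U hUo hy₀
  obtain ⟨_, ⟨j, V, hV, rfl⟩, hxV, hVU⟩ :=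
    TopologicalSpace.Opens.isBasis_iff_nbhd.mp hbasis (U := ⟨U, hUo⟩) hy₀
  apply hVU
  have hw : cT.π.app j ≫ pullback.fst (D.map j.hom) g₀ =
      pullback.fst (c.π.app i₀) g₀ ≫ c.π.app j.left := bcCone_π_app_fst D c i₀ g₀ j
  have h1 : ∀ y : ↥(pullback (c.π.app i₀) g₀), pullback.fst (D.map j.hom) g₀ (cT.π.app j y) =
      c.π.app j.left (pullback.fst (c.π.app i₀) g₀ y) := fun y => by
    exact congr($hw y)
  have h2 : pullback.fst (D.map j.hom) g₀ (cT.π.app j y₁) ⤳
      pullback.fst (D.map j.hom) g₀ (cT.π.app j y₀) := by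
    rw [h1, h1]
    exact hy.map (c.π.app j.left).continuous
  have h3 := H j _ _ h2
  exact h3.mem_open V.isOpen hxV

end limit

lemma isColimit_of_surj_inj {J : Type u} [SmallCategory J] [IsFiltered J]
    (F : J ⥤ CommRingCat.{u}) (c : Cocone F)
    (hsurj : ∀ x : c.pt, ∃ (i : J) (xi : F.obj i), x = c.ι.app i xi)
    (hinj : ∀ (i j : J) (xi : F.obj i) (xj : F.obj j), c.ι.app i xi = c.ι.app j xj →
      ∃ (k : J) (f : i ⟶ k) (g : j ⟶ k), F.map f xi = F.map g xj) : Nonempty (IsColimit c) := by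
  have : ReflectsColimit F (forget CommRingCat) := reflectsColimit_of_reflectsIsomorphisms _ _
  refine ⟨isColimitOfReflects (forget CommRingCat) (Types.FilteredColimit.isColimitOf _ _ ?_ ?_)⟩
  · exact hsurj
  · exact hinj

section ring

open Groth.Agent.Lib.Helper12.IndFG

variable (A B : Type u) [CommRing A] [CommRing B] [Algebra A B]

/-- the diagram of finitely generated subalgebras, in `CommRingCat` -/
noncomputable def fgDiag : FGSub A B ⥤ CommRingCat.{u} where
  obj S := CommRingCat.of S.1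
  map {S T} h := CommRingCat.ofHom (Subalgebra.inclusion h.le).toRingHom
  map_id S := by ext x; rfl
  map_comp f g := by ext x; rfl

/-- the cocone with vertex `B` -/
noncomputable def fgCocone : Cocone (fgDiag A B) where
  pt := CommRingCat.of B
  ι :=
    { app := fun S => CommRingCat.ofHom S.1.val.toRingHom
      naturality := by
        intro S T h
        ext x
        rfl }

theorem nonempty_isColimit_fgCocone : Nonempty (IsColimit (fgCocone A B)) := by
  refine isColimit_of_surj_inj (fgDiag A B) (fgCocone A B) ?_ ?_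
  · intro (x : B)
    have hfg : (Algebra.adjoin A {x}).FG := by
      have := Subalgebra.fg_adjoin_finset (R := A) ({x} : Finset B)
      simpa using this
    exact ⟨⟨Algebra.adjoin A {x}, hfg⟩, ⟨x, Algebra.subset_adjoin rfl⟩, rfl⟩
  · intro S T xs xt h
    refine ⟨S ⊔ T, homOfLE le_sup_left, homOfLE le_sup_right, ?_⟩
    apply Subtype.ext
    exact h

variable {A B}

set_option backward.isDefEq.respectTransparency false in
/-- **Reflecting specializations is checked on finitely generated subalgebras.** -/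
theorem RS_of_fg {Y₁ : Scheme.{u}} (f₁ : Y₁ ⟶ Spec (CommRingCat.of A))
    (H : ∀ (B' : FGSub A B) (P : Scheme.{u}) (a : P ⟶ Y₁) (p : P ⟶ Spec (CommRingCat.of B'.1)),
      IsPullback a p f₁ (Spec.map (CommRingCat.ofHom (algebraMap A B'.1))) → RS p)
    {P : Scheme.{u}} (a : P ⟶ Y₁) (p : P ⟶ Spec (CommRingCat.of B))
    (h : IsPullback a p f₁ (Spec.map (CommRingCat.ofHom (algebraMap A B)))) : RS p := by
  obtain ⟨hc'⟩ := nonempty_isColimit_fgCocone A B
  let D : (FGSub A B)ᵒᵖ ⥤ Scheme.{u} := (fgDiag A B).op ⋙ Scheme.Spec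
  let c : Cone D := Scheme.Spec.mapCone (fgCocone A B).op
  have hc : IsLimit c := isLimitOfPreserves Scheme.Spec hc'.op
  haveI : ∀ {i j : (FGSub A B)ᵒᵖ} (t : i ⟶ j), IsAffineHom (D.map t) := fun t => by
    dsimp [D]; infer_instance
  let i₀ : (FGSub A B)ᵒᵖ := Opposite.op ⟨⊥, Subalgebra.fg_bot⟩
  let s₀ : D.obj i₀ ⟶ Spec (CommRingCat.of A) :=
    Spec.map (CommRingCat.ofHom (algebraMap A (⊥ : Subalgebra A B)))
  let g₀ := pullback.snd f₁ s₀
  have key := RS_limit hc i₀ g₀ (fun j => by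
    have sq1 := (IsPullback.of_hasPullback (D.map j.hom) g₀).flip
    have sq2 := IsPullback.of_hasPullback f₁ s₀
    have sq := sq1.paste_horiz sq2
    have hb : D.map j.hom ≫ s₀ =
        Spec.map (CommRingCat.ofHom (algebraMap A j.left.unop.1)) := by
      dsimp [D, s₀]
      rw [← Spec.map_comp]
      rfl
    rw [hb] at sq
    exact H j.left.unop _ _ _ sq)
  have sq1 := (IsPullback.of_hasPullback (c.π.app i₀) g₀).flip
  have sq2 := IsPullback.of_hasPullback f₁ s₀
  have sq := sq1.paste_horiz sq2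
  have hb : c.π.app i₀ ≫ s₀ = Spec.map (CommRingCat.ofHom (algebraMap A B)) := by
    dsimp [c, s₀]
    rw [← Spec.map_comp]
    rfl
  rw [hb] at sq
  exact RS.of_isPullback sq h key

end ring

section main

open Groth.Agent.Lib.Helper12.IndFG

set_option backward.isDefEq.respectTransparency false in
/-- If all base changes of `f` along morphisms locally of finite type reflect specializations,
then so do all base changes. -/
theorem RS_of_lft {X Y : Scheme.{u}} (f : Y ⟶ X)
    (h : ∀ {P X' : Scheme.{u}} (a : P ⟶ Y) (p : P ⟶ X') (g : X' ⟶ X), IsPullback a p f g →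
      LocallyOfFiniteType g → RS p)
    {X' : Scheme.{u}} (g : X' ⟶ X) : RS (pullback.snd f g) := by
  intro y₀ y₁ hy
  let q := pullback.snd f g
  -- affine opens
  obtain ⟨_, ⟨X₀, hX₀, rfl⟩, hx₀, -⟩ :=
    X.isBasis_affineOpens.exists_subset_of_mem_open (Set.mem_univ (g (q y₀))) isOpen_univ
  obtain ⟨_, ⟨W, hW, rfl⟩, hw₀, hWX₀⟩ :=
    X'.isBasis_affineOpens.exists_subset_of_mem_open (show q y₀ ∈ g ⁻¹ᵁ X₀ from hx₀)
      (g ⁻¹ᵁ X₀).isOpen
  have hw₁ : q y₁ ∈ W := hy.mem_open W.isOpen hw₀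
  let φ : Γ(X, X₀) ⟶ Γ(X', W) := g.appLE X₀ W hWX₀
  letI : Algebra Γ(X, X₀) Γ(X', W) := φ.hom.toAlgebra
  let sW := hW.fromSpec
  let sX := hX₀.fromSpec
  have hsq0 : Spec.map φ ≫ sX = sW ≫ g := IsAffineOpen.SpecMap_appLE_fromSpec g hX₀ hW hWX₀
  let f₁ : pullback f sX ⟶ Spec Γ(X, X₀) := pullback.snd f sX
  -- the finitely generated case
  have H : ∀ (B' : FGSub Γ(X, X₀) Γ(X', W)) (P : Scheme.{u}) (a : P ⟶ pullback f sX)
      (p : P ⟶ Spec (CommRingCat.of B'.1)),
      IsPullback a p f₁ (Spec.map (CommRingCat.ofHom (algebraMap Γ(X, X₀) B'.1))) → RS p := by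
    intro B' P a p hsq
    have hft : Algebra.FiniteType Γ(X, X₀) B'.1 := (Subalgebra.fg_iff_finiteType B'.1).mp B'.2
    have hlft : LocallyOfFiniteType
        (Spec.map (CommRingCat.ofHom (algebraMap Γ(X, X₀) B'.1))) := by
      rw [HasRingHomProperty.Spec_iff (P := @LocallyOfFiniteType)]
      exact RingHom.finiteType_algebraMap.mpr hft
    refine h (a ≫ pullback.fst f sX) p
      (Spec.map (CommRingCat.ofHom (algebraMap Γ(X, X₀) B'.1)) ≫ sX)
      (hsq.paste_horiz (IsPullback.of_hasPullback f sX)) inferInstance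
  -- the limit
  have hφ : Spec.map (CommRingCat.ofHom (algebraMap Γ(X, X₀) Γ(X', W))) = Spec.map φ := rfl
  have key : RS (pullback.snd f₁ (Spec.map φ)) :=
    RS_of_fg (A := Γ(X, X₀)) (B := Γ(X', W)) f₁ H (pullback.fst f₁ (Spec.map φ))
      (pullback.snd f₁ (Spec.map φ)) (hφ ▸ IsPullback.of_hasPullback f₁ (Spec.map φ))
  -- comparison with `pullback f g`
  have hbig : IsPullback (pullback.fst f₁ (Spec.map φ) ≫ pullback.fst f sX)
      (pullback.snd f₁ (Spec.map φ)) f (sW ≫ g) := by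
    rw [← hsq0]
    exact (IsPullback.of_hasPullback f₁ (Spec.map φ)).paste_horiz
      (IsPullback.of_hasPullback f sX)
  have hr := IsPullback.of_hasPullback f g
  have hwl : (pullback.fst f₁ (Spec.map φ) ≫ pullback.fst f sX) ≫ f =
      (pullback.snd f₁ (Spec.map φ) ≫ sW) ≫ g := by
    rw [Category.assoc]; exact hbig.w
  have hQ : IsPullback (hr.lift _ _ hwl) (pullback.snd f₁ (Spec.map φ)) q sW := by
    refine IsPullback.of_right ?_ (hr.lift_snd _ _ hwl) hr
    rw [hr.lift_fst]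
    exact hbig
  -- lift the points
  have hrange : ∀ y : ↥(pullback f g), q y ∈ W → ∃ w, sW w = q y := fun y hy' => by
    have : q y ∈ Set.range sW := by rw [hW.range_fromSpec]; exact hy'
    exact this
  obtain ⟨w₀, hw₀'⟩ := hrange y₀ hw₀
  obtain ⟨w₁, hw₁'⟩ := hrange y₁ hw₁
  obtain ⟨z₀, hz₀, hz₀'⟩ := Scheme.exists_preimage_of_isPullback hQ y₀ w₀ hw₀'.symm
  obtain ⟨z₁, hz₁, hz₁'⟩ := Scheme.exists_preimage_of_isPullback hQ y₁ w₁ hw₁'.symm
  have hsp : pullback.snd f₁ (Spec.map φ) z₁ ⤳ pullback.snd f₁ (Spec.map φ) z₀ := by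
    rw [hz₀', hz₁']
    rw [← sW.isOpenEmbedding.isInducing.specializes_iff, hw₀', hw₁']
    exact hy
  have := (key _ _ hsp).map (hr.lift _ _ hwl).continuous
  rwa [hz₀, hz₁] at this

end main

end Groth.Agent.Lib.Helper1.RSLimit
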