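import Groth.Agent.Lib.Helper1.ChowMain
import Groth.Agent.Lib.Helper29.PA4

/-!
# Chow's lemma for schemes with finitely many irreducible components (helper1)
-/

set_option autoImplicit false
set_option linter.unusedSectionVars false
set_option linter.style.haveILetI false
universe u

namespace Groth.Agent.Lib.Helper1.Chow

open AlgebraicGeometry CategoryTheory CategoryTheory.Limits TopologicalSpace Opposite
open Groth.Agent.Lib.Helper1.NA Groth.Agent.Lib.Helper29.QCoh

/-- An affine scheme of finite type over a qcqs base embeds into some `P^n_S`. -/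
theorem exists_immersion_of_isAffine {T S : Scheme.{u}} (h : T ⟶ S) [IsAffine T]
    [LocallyOfFiniteType h] :
    ∃ (n : ℕ) (i : T ⟶ CohB1.ProjSpaceOver n S), IsImmersion i ∧
      i ≫ CohB1.ProjSpaceOver.toBase n S = h := by
  have hL : CohB1.IsAmple (unitM T) := isAmple_of_isQuasiAffine (isInvertible_unit T)
  exact exists_immersion_projSpaceOver_of_isAmple h hL

set_option maxHeartbeats 800000 in
/-- **Chow's lemma** over a qcqs base for schemes with finitely many irreducible components. -/
theorem chow_finite_irr {X S : Scheme.{u}} (f : X ⟶ S) [CompactSpace S]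
    [QuasiSeparatedSpace S] [IsSeparated f] [LocallyOfFiniteType f] [QuasiCompact f]
    (hirr : (irreducibleComponents (X : Type u)).Finite) :
    ∃ (n : ℕ) (X' : Scheme.{u}) (π : X' ⟶ X) (j : X' ⟶ CohB1.ProjSpaceOver n S),
      IsImmersion j ∧ j ≫ CohB1.ProjSpaceOver.toBase n S = π ≫ f ∧ IsProper π ∧ Surjective π ∧
      ∃ U : X.Opens, Dense (U : Set X) ∧ IsIso (π ∣_ U) := by
  have hXc : CompactSpace X := QuasiCompact.compactSpace_of_compactSpace f
  have hXqs : QuasiSeparatedSpace X := quasiSeparatedSpace_of_quasiSeparated f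
  obtain ⟨m, U, U₀, hUaff, hcov, hle, hdense, hcomp⟩ := exists_affine_cover_dense hirr
  have hUaff' : ∀ j, IsAffine (U j : Scheme.{u}) := fun j => hUaff j
  have hex : ∀ j, ∃ (n : ℕ) (i : (U j : Scheme.{u}) ⟶ CohB1.ProjSpaceOver n S), IsImmersion i ∧
      i ≫ CohB1.ProjSpaceOver.toBase n S = (U j).ι ≫ f :=
    fun j => exists_immersion_of_isAffine ((U j).ι ≫ f)
  choose n i hi hif using hex
  have hqsP : ∀ j, QuasiSeparatedSpace (CohB1.ProjSpaceOver (n j) S) := fun j =>
    quasiSeparatedSpace_of_quasiSeparated (CohB1.ProjSpaceOver.toBase (n j) S)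
  have hiqc : ∀ j, QuasiCompact (i j) := fun j => inferInstance
  have hoi : ∀ j, IsOpenImmersion (i j).toImage := fun j => inferInstance
  have hU₀c : CompactSpace (U₀ : Scheme.{u}) := isCompact_iff_compactSpace.mp hcomp
  have hU₀qc : QuasiCompact U₀.ι := inferInstance
  obtain ⟨X', Q, π, qQ, g, hQ, himm, hgq, hπ, hsurj, hiso⟩ :=
    chow_core f m U U₀ hcov hle (fun j => (i j).image)
      (fun j => (i j).imageι ≫ CohB1.ProjSpaceOver.toBase (n j) S)
      (fun j => ⟨n j, (i j).imageι, inferInstance, rfl⟩) (fun j => (i j).toImage)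
      (fun j => by rw [← Category.assoc, (i j).toImage_imageι, hif])
  obtain ⟨N, ι, hι, hιq⟩ := hQ
  refine ⟨N, X', π, g ≫ ι, inferInstance, by rw [Category.assoc, hιq, hgq], hπ, ⟨?_⟩,
    U₀, hdense, hiso⟩
  have hcl : IsClosed (Set.range π) := π.isClosedMap.isClosed_range
  have hsub : (U₀ : Set X) ⊆ Set.range π := fun x hx => hsurj x hx
  have h1 : closure (U₀ : Set X) ⊆ Set.range π := hcl.closure_subset_iff.mpr hsub
  rw [hdense.closure_eq] at h1
  intro x
  exact h1 (Set.mem_univ x)

end Groth.Agent.Lib.Helper1.Chow
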