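import Mathlib

/-!
# Abstract algebra behind uniqueness of embedded deformations along a small extension

`B` is the base (an Artinian local ring in the application), `t ∈ B` spans the kernel of a small
extension, `𝔪` is the maximal ideal.  `N` is the coordinate ring of an affine piece of `X ×_k Spec B`,
`σ₁, σ₂ : N → S₁, S₂` are the two flat quotients, `ρ : N → R` is the reduction to the closed fibre and
`π : R → Q` the quotient by the ideal of the closed subscheme.  The relation `Rel` is the graph of the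
difference homomorphism `I₀ → R/I₀`.
-/

namespace Groth.Agent.Lib.Helper1.AH

section Flat

variable {B : Type*} [CommRing B]

/-- In a flat module, `t • m = 0` forces `m ∈ 𝔪 M` as soon as `Ann t ≤ 𝔪`. -/
theorem mem_smul_top_of_smul_eq_zero {M : Type*} [AddCommGroup M] [Module B M] [Module.Flat B M]
    (𝔪 : Ideal B) (t : B) (ht : ∀ b : B, t * b = 0 → b ∈ 𝔪) (m : M) (h : t • m = 0) :
    m ∈ 𝔪 • (⊤ : Submodule B M) := by
  have h' : ∑ i : Fin 1, (fun _ : Fin 1 => t) i • (fun _ : Fin 1 => m) i = 0 := by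
    simpa using h
  obtain ⟨k, a, y, hxy, hfa⟩ := Module.Flat.isTrivialRelation_of_sum_smul_eq_zero
    (f := fun _ : Fin 1 => t) (x := fun _ : Fin 1 => m) h'
  have h0 : m = ∑ j, a 0 j • y j := hxy 0
  rw [h0]
  refine Submodule.sum_mem _ fun j _ => ?_
  refine Submodule.smul_mem_smul (ht _ ?_) Submodule.mem_top
  simpa using hfa j

/-- If `S = N / ker σ` is flat over `B` then `𝔪 N ⊓ ker σ ≤ 𝔪 (ker σ)`. -/
theorem mem_smul_ker_of_flat {N S : Type*} [CommRing N] [CommRing S] [Algebra B N] [Algebra B S]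
    [Module.Flat B S] (σ : N →ₐ[B] S) (hσ : Function.Surjective σ) (𝔪 : Ideal B) (d : N)
    (hd : d ∈ 𝔪 • (⊤ : Submodule B N)) (hdJ : σ d = 0) :
    d ∈ 𝔪 • (LinearMap.ker σ.toLinearMap) := by
  classical
  have h1 : d ∈ 𝔪 • Submodule.span B (Set.range (id : N → N)) := by
    rwa [Set.range_id, Submodule.span_univ]
  obtain ⟨a, ha, rfl⟩ := (Submodule.mem_ideal_smul_span_iff_exists_sum 𝔪 id d).1 h1
  have hdJ' : ∑ i ∈ a.support, σ (a i • i) = 0 := by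
    rw [Finsupp.sum, map_sum] at hdJ
    exact hdJ
  have hrel : ∑ i : a.support, (fun i : a.support => a i.1) i •
      (fun i : a.support => σ i.1) i = 0 := by
    have e := Finset.sum_coe_sort a.support (fun i => σ (a i • i))
    calc _ = ∑ i : a.support, σ (a i.1 • i.1) :=
          Finset.sum_congr rfl fun i _ => (map_smul σ _ _).symm
      _ = _ := e
      _ = 0 := hdJ'
  obtain ⟨k, A, y, hxy, hfa⟩ := Module.Flat.isTrivialRelation_of_sum_smul_eq_zero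
    (f := fun i : a.support => a i.1) (x := fun i : a.support => σ i.1) hrel
  choose y' hy' using fun j => hσ (y j)
  have he : ∀ i : a.support, i.1 - ∑ j, A i j • y' j ∈ LinearMap.ker σ.toLinearMap := by
    intro i
    rw [LinearMap.mem_ker, AlgHom.toLinearMap_apply, map_sub, map_sum, sub_eq_zero]
    have h2 : σ i.1 = ∑ j, A i j • y j := hxy i
    rw [h2]
    refine Finset.sum_congr rfl fun j _ => ?_
    rw [map_smul, hy']
  have hz : ∑ i : a.support, a i.1 • ∑ j, A i j • y' j = 0 := by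
    simp_rw [Finset.smul_sum, smul_smul]
    rw [Finset.sum_comm]
    refine Finset.sum_eq_zero fun j _ => ?_
    rw [← Finset.sum_smul, hfa j, zero_smul]
  have hd2 : (a.sum fun i c => c • id i) =
      ∑ i : a.support, a i.1 • (i.1 - ∑ j, A i j • y' j) := by
    have e := Finset.sum_coe_sort a.support (fun i => a i • i)
    simp_rw [smul_sub, Finset.sum_sub_distrib, hz, sub_zero]
    rw [Finsupp.sum]
    exact e.symm
  rw [hd2]
  exact Submodule.sum_mem _ fun i _ => Submodule.smul_mem_smul (ha i.1) (he i)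

end Flat

section Main

variable {B N S₁ S₂ R Q : Type*} [CommRing B] [CommRing N] [CommRing S₁] [CommRing S₂]
  [CommRing R] [CommRing Q]

/-- The standing hypotheses. -/
structure Hyp (𝔪 : Ideal B) (t : B) (φ : B →+* N) (σ₁ : N →+* S₁) (σ₂ : N →+* S₂)
    (ρ : N →+* R) (π : R →+* Q) : Prop where
  flat₁ : (σ₁.comp φ).Flat
  flat₂ : (σ₂.comp φ).Flat
  surj₁ : Function.Surjective σ₁
  surj₂ : Function.Surjective σ₂
  surjρ : Function.Surjective ρ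
  kerρ : RingHom.ker ρ = 𝔪.map φ
  kerπ₁ : RingHom.ker π = (RingHom.ker σ₁).map ρ
  kerπ₂ : RingHom.ker π = (RingHom.ker σ₂).map ρ
  le_sup : RingHom.ker σ₁ ≤ RingHom.ker σ₂ ⊔ Ideal.span {φ t}
  ann : ∀ b, t * b = 0 → b ∈ 𝔪
  mt : ∀ b ∈ 𝔪, b * t = 0

/-- The graph of the difference homomorphism. -/
def Rel (t : B) (φ : B →+* N) (σ₁ : N →+* S₁) (σ₂ : N →+* S₂) (ρ : N →+* R) (π : R →+* Q)
    (s : R) (q : Q) : Prop :=
  ∃ f₁ f₂ g : N, σ₁ f₁ = 0 ∧ σ₂ f₂ = 0 ∧ ρ f₁ = s ∧ f₁ = f₂ + φ t * g ∧ π (ρ g) = q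

variable {𝔪 : Ideal B} {t : B} {φ : B →+* N} {σ₁ : N →+* S₁} {σ₂ : N →+* S₂}
  {ρ : N →+* R} {π : R →+* Q}

theorem Rel.add {s s' : R} {q q' : Q} (h : Rel t φ σ₁ σ₂ ρ π s q) (h' : Rel t φ σ₁ σ₂ ρ π s' q') :
    Rel t φ σ₁ σ₂ ρ π (s + s') (q + q') := by
  obtain ⟨f₁, f₂, g, h1, h2, h3, h4, h5⟩ := h
  obtain ⟨f₁', f₂', g', h1', h2', h3', h4', h5'⟩ := h'
  refine ⟨f₁ + f₁', f₂ + f₂', g + g', ?_, ?_, ?_, ?_, ?_⟩
  · rw [map_add, h1, h1', add_zero]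
  · rw [map_add, h2, h2', add_zero]
  · rw [map_add, h3, h3']
  · rw [h4, h4']; ring
  · rw [map_add, map_add, h5, h5']

theorem Rel.mul {s : R} {q : Q} (r : N) (h : Rel t φ σ₁ σ₂ ρ π s q) :
    Rel t φ σ₁ σ₂ ρ π (ρ r * s) (π (ρ r) * q) := by
  obtain ⟨f₁, f₂, g, h1, h2, h3, h4, h5⟩ := h
  refine ⟨r * f₁, r * f₂, r * g, ?_, ?_, ?_, ?_, ?_⟩
  · rw [map_mul, h1, mul_zero]
  · rw [map_mul, h2, mul_zero]
  · rw [map_mul, h3]
  · rw [h4]; ring
  · rw [map_mul, map_mul, h5]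

/-- Functoriality of the relation. -/
theorem Rel.map {N' S₁' S₂' R' Q' : Type*} [CommRing N'] [CommRing S₁'] [CommRing S₂']
    [CommRing R'] [CommRing Q'] {φ' : B →+* N'} {σ₁' : N' →+* S₁'} {σ₂' : N' →+* S₂'}
    {ρ' : N' →+* R'} {π' : R' →+* Q'}
    (a : N →+* N') (c : R →+* R') (e : Q →+* Q')
    (h₁ : ∀ n, σ₁ n = 0 → σ₁' (a n) = 0) (h₂ : ∀ n, σ₂ n = 0 → σ₂' (a n) = 0)
    (hρ : ∀ n, ρ' (a n) = c (ρ n)) (hπ : ∀ r, π' (c r) = e (π r)) (hφ : a (φ t) = φ' t)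
    {s : R} {q : Q} (h : Rel t φ σ₁ σ₂ ρ π s q) : Rel t φ' σ₁' σ₂' ρ' π' (c s) (e q) := by
  obtain ⟨f₁, f₂, g, h1, h2, h3, h4, h5⟩ := h
  refine ⟨a f₁, a f₂, a g, h₁ _ h1, h₂ _ h2, ?_, ?_, ?_⟩
  · rw [hρ, h3]
  · rw [h4, map_add, map_mul, hφ]
  · rw [hρ, hπ, h5]

theorem Rel.exists (H : Hyp 𝔪 t φ σ₁ σ₂ ρ π) (s : R) (hs : π s = 0) :
    ∃ q, Rel t φ σ₁ σ₂ ρ π s q := by
  have hs' : s ∈ (RingHom.ker σ₁).map ρ := by
    rw [← H.kerπ₁]; exact hs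
  obtain ⟨f₁, hf₁, rfl⟩ := (Ideal.mem_map_iff_of_surjective ρ H.surjρ).1 hs'
  obtain ⟨f₂, hf₂, z, hz, hfz⟩ := Submodule.mem_sup.1 (H.le_sup hf₁)
  obtain ⟨g, rfl⟩ := Ideal.mem_span_singleton'.1 hz
  exact ⟨_, f₁, f₂, g, hf₁, hf₂, rfl, by rw [← hfz]; ring, rfl⟩

theorem smul_ker_le (H : Hyp 𝔪 t φ σ₁ σ₂ ρ π) (m : B) (hm : m ∈ 𝔪) (a : N) (ha : σ₁ a = 0) :
    σ₂ (φ m * a) = 0 := by
  obtain ⟨b, hb, z, hz, hbz⟩ := Submodule.mem_sup.1 (H.le_sup (show a ∈ RingHom.ker σ₁ from ha))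
  obtain ⟨c, rfl⟩ := Ideal.mem_span_singleton'.1 hz
  have hb' : σ₂ b = 0 := hb
  have e : φ m * a = φ m * b + c * φ (m * t) := by
    rw [← hbz, map_mul]; ring
  rw [e, H.mt m hm, map_zero, mul_zero, add_zero, map_mul, hb', mul_zero]

theorem Rel.unique (H : Hyp 𝔪 t φ σ₁ σ₂ ρ π) {s : R} {q q' : Q}
    (h : Rel t φ σ₁ σ₂ ρ π s q) (h' : Rel t φ σ₁ σ₂ ρ π s q') : q = q' := by
  obtain ⟨f₁, f₂, g, h1, h2, h3, h4, h5⟩ := h
  obtain ⟨f₁', f₂', g', h1', h2', h3', h4', h5'⟩ := h'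
  letI : Algebra B N := φ.toAlgebra
  letI : Algebra B S₁ := (σ₁.comp φ).toAlgebra
  letI : Algebra B S₂ := (σ₂.comp φ).toAlgebra
  haveI : Module.Flat B S₁ := H.flat₁
  haveI : Module.Flat B S₂ := H.flat₂
  let τ₁ : N →ₐ[B] S₁ := ⟨σ₁, fun _ => rfl⟩
  let τ₂ : N →ₐ[B] S₂ := ⟨σ₂, fun _ => rfl⟩
  have hsm : ∀ (b : B) (n : N), b • n = φ b * n := fun b n => rfl
  -- step 1: d := f₁ - f₁' ∈ 𝔪 • ker σ₁
  have hd0 : ρ (f₁ - f₁') = 0 := by rw [map_sub, h3, h3', sub_self]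
  have hd1 : f₁ - f₁' ∈ 𝔪 • (⊤ : Submodule B N) := by
    have : f₁ - f₁' ∈ 𝔪.map φ := by rw [← H.kerρ]; exact hd0
    have e := Ideal.smul_top_eq_map (R := B) (S := N) 𝔪
    rw [e]
    exact this
  have hd2 : f₁ - f₁' ∈ 𝔪 • (LinearMap.ker τ₁.toLinearMap) :=
    mem_smul_ker_of_flat τ₁ H.surj₁ 𝔪 _ hd1 (by
      change σ₁ (f₁ - f₁') = 0
      rw [map_sub, h1, h1', sub_self])
  -- step 2: hence d ∈ ker σ₂
  have hd3 : σ₂ (f₁ - f₁') = 0 := by
    have hle : 𝔪 • (LinearMap.ker τ₁.toLinearMap) ≤ LinearMap.ker τ₂.toLinearMap := by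
      rw [Submodule.smul_le]
      intro m hm a ha
      rw [LinearMap.mem_ker, AlgHom.toLinearMap_apply]
      change σ₂ (m • a) = 0
      rw [hsm]
      exact smul_ker_le H m hm a ha
    exact hle hd2
  -- step 3: t • σ₂ (g - g') = 0
  have h6 : σ₂ (φ t * (g - g')) = 0 := by
    have e : φ t * (g - g') = (f₁ - f₁') - (f₂ - f₂') := by rw [h4, h4']; ring
    rw [e, map_sub, hd3, map_sub, h2, h2', sub_self, sub_self]
  have h7 : t • τ₂ (g - g') = 0 := by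
    change algebraMap B S₂ t * σ₂ (g - g') = 0
    change σ₂ (φ t) * σ₂ (g - g') = 0
    rw [← map_mul]; exact h6
  have h8 := mem_smul_top_of_smul_eq_zero 𝔪 t H.ann _ h7
  -- step 4: lift to N
  have h9 : (𝔪 • (⊤ : Submodule B S₂)) = (𝔪 • (⊤ : Submodule B N)).map τ₂.toLinearMap := by
    rw [Submodule.map_smul'', Submodule.map_top, LinearMap.range_eq_top.2]
    exact H.surj₂
  rw [h9] at h8
  obtain ⟨n, hn, hn2⟩ := h8
  have hn3 : ρ n = 0 := by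
    have e := Ideal.smul_top_eq_map (R := B) (S := N) 𝔪
    rw [e] at hn
    have : n ∈ RingHom.ker ρ := by rw [H.kerρ]; exact hn
    exact this
  have hj : σ₂ (g - g' - n) = 0 := by
    have : σ₂ n = σ₂ (g - g') := hn2
    rw [map_sub, this, sub_self]
  have hk : ρ g - ρ g' ∈ RingHom.ker π := by
    rw [H.kerπ₂]
    have e : ρ g - ρ g' = ρ (g - g' - n) := by
      rw [map_sub, map_sub, hn3, sub_zero]
    rw [e]
    exact Ideal.mem_map_of_mem ρ hj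
  rw [← h5, ← h5', ← sub_eq_zero, ← map_sub]
  exact hk

/-- If the difference homomorphism vanishes then `ker σ₁ ≤ ker σ₂`. -/
theorem ker_le_of_rel_zero (H : Hyp 𝔪 t φ σ₁ σ₂ ρ π)
    (hz : ∀ s q, Rel t φ σ₁ σ₂ ρ π s q → q = 0) : RingHom.ker σ₁ ≤ RingHom.ker σ₂ := by
  intro f₁ hf₁
  obtain ⟨f₂, hf₂, z, hz', hfz⟩ := Submodule.mem_sup.1 (H.le_sup hf₁)
  obtain ⟨g, rfl⟩ := Ideal.mem_span_singleton'.1 hz'
  have hrel : Rel t φ σ₁ σ₂ ρ π (ρ f₁) (π (ρ g)) :=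
    ⟨f₁, f₂, g, hf₁, hf₂, rfl, by rw [← hfz]; ring, rfl⟩
  have h0 : π (ρ g) = 0 := hz _ _ hrel
  have h1 : ρ g ∈ (RingHom.ker σ₂).map ρ := by rw [← H.kerπ₂]; exact h0
  obtain ⟨j, hj, hjg⟩ := (Ideal.mem_map_iff_of_surjective ρ H.surjρ).1 h1
  have h2 : g - j ∈ 𝔪.map φ := by
    rw [← H.kerρ, RingHom.mem_ker, map_sub, hjg, sub_self]
  -- φ t kills 𝔪 N
  have h3 : 𝔪.map φ ≤ LinearMap.ker (LinearMap.mulLeft N (φ t)) := by
    rw [Ideal.map_le_iff_le_comap]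
    intro m hm
    rw [Ideal.mem_comap, LinearMap.mem_ker, LinearMap.mulLeft_apply, ← map_mul, mul_comm,
      H.mt m hm, map_zero]
  have h4 : φ t * (g - j) = 0 := by
    have := h3 h2
    rwa [LinearMap.mem_ker, LinearMap.mulLeft_apply] at this
  have h5 : f₁ = f₂ + j * φ t := by
    rw [← hfz]
    have : g * φ t = j * φ t := by
      have e : g * φ t - j * φ t = φ t * (g - j) := by ring
      rw [← sub_eq_zero, e, h4]
    rw [this]
  rw [h5]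
  exact Ideal.add_mem _ hf₂ (Ideal.mul_mem_right _ _ hj)

end Main

end Groth.Agent.Lib.Helper1.AH
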