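import Groth.Agent.Lib.Helper1.AffDefGlue

/-!
# Joint injectivity / surjectivity for flat deformations over a fibre product of Artin rings
-/

universe u
open CategoryTheory AlgebraicGeometry ArtFun ArtFun.Art

namespace Groth.Agent.Lib.Helper1.AffDef

variable {Λ k : Type u} [CommRing Λ] [Field k] [Algebra Λ k] {B₀ : Type u} [CommRing B₀] [Algebra k B₀]

namespace AlgDef

/-- A flat deformation over `B` injects into the product of its push-forwards to `A'`, `A''` when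
`B → A' × A''` is injective. -/
theorem joint_inj {B A' A'' : Art Λ k} {p' : B ⟶ A'} {p'' : B ⟶ A''}
    (𝔑 : AlgDef B₀ B) (𝔅' : AlgDef B₀ A') (𝔅'' : AlgDef B₀ A'')
    (q' : 𝔑.B →+* 𝔅'.B) (q'' : 𝔑.B →+* 𝔅''.B)
    (hq'A : ∀ b, q' (algebraMap B 𝔑.B b) = algebraMap A' 𝔅'.B (p' b))
    (hq''A : ∀ b, q'' (algebraMap B 𝔑.B b) = algebraMap A'' 𝔅''.B (p'' b))
    (hq'π : ∀ n, 𝔅'.π (q' n) = 𝔑.π n) (hq''π : ∀ n, 𝔅''.π (q'' n) = 𝔑.π n)
    (hinj : ∀ b₁ b₂ : B, p' b₁ = p' b₂ → p'' b₁ = p'' b₂ → b₁ = b₂)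
    (n : 𝔑.B) (h' : q' n = 0) (h'' : q'' n = 0) : n = 0 := by
  classical
  let e := Module.Free.chooseBasis k B₀
  have hx : ∀ i, ∃ x : 𝔑.B, 𝔑.π x = e i := fun i => 𝔑.surj (e i)
  choose x hx using hx
  obtain ⟨x', hx'd⟩ : ∃ x' : Module.Free.ChooseBasisIndex k B₀ → 𝔅'.B, ∀ i, x' i = q' (x i) :=
    ⟨_, fun _ => rfl⟩
  obtain ⟨x'', hx''d⟩ : ∃ x'' : Module.Free.ChooseBasisIndex k B₀ → 𝔅''.B, ∀ i, x'' i = q'' (x i) :=
    ⟨_, fun _ => rfl⟩
  have hx' : ∀ i, 𝔅'.π (x' i) = e i := fun i => by rw [hx'd, hq'π, hx]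
  have hx'' : ∀ i, 𝔅''.π (x'' i) = e i := fun i => by rw [hx''d, hq''π, hx]
  have hqx' : (fun i => q' (x i)) = x' := funext fun i => (hx'd i).symm
  have hqx'' : (fun i => q'' (x i)) = x'' := funext fun i => (hx''d i).symm
  have hΦ := bijective_linearCombination 𝔑 e x hx
  have hΦ' := bijective_linearCombination 𝔅' e x' hx'
  have hΦ'' := bijective_linearCombination 𝔅'' e x'' hx''
  obtain ⟨b, rfl⟩ := hΦ.2 n
  have h1 : Finsupp.mapRange (p'.toAlgHom : B →+* A') (map_zero _) b = 0 := by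
    apply hΦ'.1
    rw [map_zero, ← hqx', ← q'_linearCombination 𝔅' 𝔑.B q' hq'A x b]
    exact h'
  have h2 : Finsupp.mapRange (p''.toAlgHom : B →+* A'') (map_zero _) b = 0 := by
    apply hΦ''.1
    rw [map_zero, ← hqx'', ← q'_linearCombination 𝔅'' 𝔑.B q'' hq''A x b]
    exact h''
  have hb : b = 0 := by
    ext i
    have h3 := DFunLike.congr_fun h1 i
    have h4 := DFunLike.congr_fun h2 i
    rw [Finsupp.mapRange_apply, Finsupp.zero_apply] at h3 h4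
    rw [Finsupp.zero_apply]
    apply hinj
    · change p'.toAlgHom (b i) = p'.toAlgHom 0
      rw [map_zero]
      exact h3
    · change p''.toAlgHom (b i) = p''.toAlgHom 0
      rw [map_zero]
      exact h4
  rw [hb, map_zero]

/-- A flat deformation over a fibre product `B = A' ×_A A''` surjects onto the fibre product of its
push-forwards. -/
theorem joint_surj {B A A' A'' : Art Λ k} {p' : B ⟶ A'} {p'' : B ⟶ A''} {f' : A' ⟶ A} {f'' : A'' ⟶ A}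
    (𝔑 : AlgDef B₀ B) (𝔅' : AlgDef B₀ A') (𝔅'' : AlgDef B₀ A'')
    (q' : 𝔑.B →+* 𝔅'.B) (q'' : 𝔑.B →+* 𝔅''.B)
    (hq'A : ∀ b, q' (algebraMap B 𝔑.B b) = algebraMap A' 𝔅'.B (p' b))
    (hq''A : ∀ b, q'' (algebraMap B 𝔑.B b) = algebraMap A'' 𝔅''.B (p'' b))
    (hq'π : ∀ n, 𝔅'.π (q' n) = 𝔑.π n) (hq''π : ∀ n, 𝔅''.π (q'' n) = 𝔑.π n)
    (𝔅₀ : AlgDef B₀ A) (θ' : 𝔅'.B →+* 𝔅₀.B) (θ'' : 𝔅''.B →+* 𝔅₀.B)
    (hθ'A : ∀ a, θ' (algebraMap A' 𝔅'.B a) = algebraMap A 𝔅₀.B (f' a))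
    (hθ''A : ∀ a, θ'' (algebraMap A'' 𝔅''.B a) = algebraMap A 𝔅₀.B (f'' a))
    (hθ'π : ∀ b, 𝔅₀.π (θ' b) = 𝔅'.π b)
    (hcomm : ∀ n, θ' (q' n) = θ'' (q'' n))
    (h : IsFibreProd p' p'' f' f'') (y' : 𝔅'.B) (y'' : 𝔅''.B) (hy : θ' y' = θ'' y'') :
    ∃ n : 𝔑.B, q' n = y' ∧ q'' n = y'' := by
  classical
  let e := Module.Free.chooseBasis k B₀
  have hx : ∀ i, ∃ x : 𝔑.B, 𝔑.π x = e i := fun i => 𝔑.surj (e i)
  choose x hx using hx
  obtain ⟨x', hx'd⟩ : ∃ x' : Module.Free.ChooseBasisIndex k B₀ → 𝔅'.B, ∀ i, x' i = q' (x i) :=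
    ⟨_, fun _ => rfl⟩
  obtain ⟨x'', hx''d⟩ : ∃ x'' : Module.Free.ChooseBasisIndex k B₀ → 𝔅''.B, ∀ i, x'' i = q'' (x i) :=
    ⟨_, fun _ => rfl⟩
  have hx' : ∀ i, 𝔅'.π (x' i) = e i := fun i => by rw [hx'd, hq'π, hx]
  have hx'' : ∀ i, 𝔅''.π (x'' i) = e i := fun i => by rw [hx''d, hq''π, hx]
  have hx₀ : ∀ i, 𝔅₀.π (θ' (x' i)) = e i := fun i => by rw [hθ'π, hx']
  have hqx' : (fun i => q' (x i)) = x' := funext fun i => (hx'd i).symm
  have hqx'' : (fun i => q'' (x i)) = x'' := funext fun i => (hx''d i).symm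
  have hθx : (fun i => θ'' (x'' i)) = (fun i => θ' (x' i)) :=
    funext fun i => by rw [hx'd, hx''d, hcomm]
  have hΦ' := bijective_linearCombination 𝔅' e x' hx'
  have hΦ'' := bijective_linearCombination 𝔅'' e x'' hx''
  have hΦ₀ := bijective_linearCombination 𝔅₀ e (fun i => θ' (x' i)) hx₀
  obtain ⟨c', hc'⟩ := hΦ'.2 y'
  obtain ⟨c'', hc''⟩ := hΦ''.2 y''
  have h1 : Finsupp.mapRange (f'.toAlgHom : A' →+* A) (map_zero _) c' =
      Finsupp.mapRange (f''.toAlgHom : A'' →+* A) (map_zero _) c'' := by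
    apply hΦ₀.1
    rw [← θ'_linearCombination 𝔅' 𝔅₀ θ' hθ'A x' c', hc', ← hθx,
      ← θ'_linearCombination 𝔅'' 𝔅₀ θ'' hθ''A x'' c'', hc'', hy]
  have h2 : ∀ i, ∃ b : B, p' b = c' i ∧ p'' b = c'' i := fun i => by
    apply h.surj
    have h3 := DFunLike.congr_fun h1 i
    rw [Finsupp.mapRange_apply, Finsupp.mapRange_apply] at h3
    exact h3
  choose β hβ' hβ'' using h2
  have hβ0 : ∀ i, β i ≠ 0 → i ∈ c'.support ∪ c''.support := by
    intro i hi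
    by_contra hcon
    rw [Finset.mem_union, not_or, Finsupp.notMem_support_iff, Finsupp.notMem_support_iff] at hcon
    apply hi
    apply h.inj
    · rw [hβ', hcon.1]
      change (0 : A') = p'.toAlgHom 0
      rw [map_zero]
    · rw [hβ'', hcon.2]
      change (0 : A'') = p''.toAlgHom 0
      rw [map_zero]
  refine ⟨Finsupp.linearCombination B x (Finsupp.onFinset (c'.support ∪ c''.support) β hβ0), ?_, ?_⟩
  · rw [q'_linearCombination 𝔅' 𝔑.B q' hq'A x, hqx', ← hc']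
    congr 1
    ext i
    rw [Finsupp.mapRange_apply, Finsupp.onFinset_apply]
    exact hβ' i
  · rw [q'_linearCombination 𝔅'' 𝔑.B q'' hq''A x, hqx'', ← hc'']
    congr 1
    ext i
    rw [Finsupp.mapRange_apply, Finsupp.onFinset_apply]
    exact hβ'' i

end AlgDef

end Groth.Agent.Lib.Helper1.AffDef
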