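import Groth.Agent.Lib.Helper1.AH8
import Groth.Agent.Lib.Helper1.AH9

/-!
# The section rings of `X ×_k Spec A` as flat deformations, and the transition maps
-/

universe u

open CategoryTheory CategoryTheory.Limits AlgebraicGeometry Opposite TopologicalSpace
open ArtFun ArtFun.Art

namespace Groth.Agent.Lib.Helper1.AH

section Gen2

theorem appLE_surjective_of_eq {Y Z : Scheme.{u}} (f : Y ⟶ Z) [IsClosedImmersion f] (U : Z.Opens)
    (hU : IsAffineOpen U) (V : Y.Opens) (e : V = f ⁻¹ᵁ U) :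
    Function.Surjective (f.appLE U V e.le).hom := by
  subst e
  rw [Scheme.Hom.appLE_eq_app]
  exact Scheme.Hom.app_surjective f U hU

theorem ideal_map_appLE {Y Z : Scheme.{u}} (f : Y ⟶ Z) [QuasiCompact f] (J : Y.IdealSheafData)
    (U : Z.Opens) (hU : IsAffineOpen U) (V : Y.Opens) (hV : IsAffineOpen V) (e : V = f ⁻¹ᵁ U) :
    (J.map f).ideal ⟨U, hU⟩ = (J.ideal ⟨V, hV⟩).comap (f.appLE U V e.le).hom := by
  subst e
  rw [Scheme.IdealSheafData.ideal_map J f ⟨U, hU⟩ hV, Scheme.Hom.appLE_eq_app]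

end Gen2

section PsiG

variable {k : Type u} [Field k] {X : Scheme.{u}} (x : X ⟶ specPt k) {A B : Art k k} (g : A ⟶ B)

theorem preimage_WW (U : X.Opens) : (XAmap x g) ⁻¹ᵁ (WW x A U) = WW x B U := by
  unfold WW
  rw [← Scheme.Hom.comp_preimage, XAmap_fst]

instance isAffineHom_XAmap : IsAffineHom (XAmap x g) :=
  MorphismProperty.of_isPullback (P := @IsAffineHom) (isPullback_XAmap x g).flip inferInstance

/-- `Γ(X_A, W_U) → Γ(X_B, W_U)` induced by `g : A ⟶ B`. -/
noncomputable def psiG (U : X.Opens) : Γ(XA x A, WW x A U) →+* Γ(XA x B, WW x B U) :=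
  ((XAmap x g).appLE (WW x A U) (WW x B U) (preimage_WW x g U).ge).hom

theorem psiG_phi (U : X.Opens) (a : A) : psiG x g U (phi x A U a) = phi x B U (g a) := by
  have h1 := secMap_comp_left (XAmap x g) (XApr x A) (WW x A U) (WW x B U)
    (preimage_WW x g U).ge a
  have h3 : secMap (XAmap x g ≫ XApr x A) (WW x B U) a =
      secMap (XApr x B ≫ specMap g) (WW x B U) a := by rw [XAmap_snd]
  have h4 := secMap_comp_right (XApr x B) (CommRingCat.ofHom g.toAlgHom.toRingHom) (WW x B U) a
  exact h1.trans (h3.trans h4)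

theorem rho_psiG (U : X.Opens) (r : Γ(XA x A, WW x A U)) :
    rho x B U (psiG x g U r) = rho x A U r := by
  have h1 := Scheme.Hom.appLE_comp_appLE (XAincl x B) (XAmap x g) (WW x A U) (WW x B U) U
    (preimage_WW x g U).ge (XAincl_preimage_WW x B U).ge
  have h4 := h1.trans (appLE_congr_hom (XAincl_XAmap x g) (WW x A U) U _
    (XAincl_preimage_WW x A U).ge)
  exact congrArg (fun k => k.hom r) h4

theorem psiG_comp {C : Art k k} (h : B ⟶ C) (U : X.Opens) (r : Γ(XA x A, WW x A U)) :
    psiG x h U (psiG x g U r) = psiG x (g ≫ h) U r := by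
  have h1 := Scheme.Hom.appLE_comp_appLE (XAmap x h) (XAmap x g) (WW x A U) (WW x B U) (WW x C U)
    (preimage_WW x g U).ge (preimage_WW x h U).ge
  have h4 := h1.trans (appLE_congr_hom (XAmap_comp x g h).symm (WW x A U) (WW x C U) _
    (preimage_WW x (g ≫ h) U).ge)
  exact congrArg (fun k => k.hom r) h4

theorem psiG_surjective (hg : Function.Surjective g) (U : X.Opens) (hU : IsAffineOpen U) :
    Function.Surjective (psiG x g U) := by
  haveI := isClosedImmersion_XAmap x g hg
  exact appLE_surjective_of_eq (XAmap x g) (WW x A U) (isAffineOpen_WW x A hU) (WW x B U)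
    (preimage_WW x g U).symm

theorem ideal_comap_psiG (I : (XA x A).IdealSheafData) (U : X.Opens) (hU : IsAffineOpen U) :
    (I.comap (XAmap x g)).ideal ⟨WW x B U, isAffineOpen_WW x B hU⟩ =
      (I.ideal ⟨WW x A U, isAffineOpen_WW x A hU⟩).map (psiG x g U) :=
  ideal_comap I (XAmap x g) ⟨WW x B U, isAffineOpen_WW x B hU⟩
    ⟨WW x A U, isAffineOpen_WW x A hU⟩ (preimage_WW x g U).ge

theorem ideal_map_psiG (J : (XA x B).IdealSheafData) (U : X.Opens) (hU : IsAffineOpen U) :
    (J.map (XAmap x g)).ideal ⟨WW x A U, isAffineOpen_WW x A hU⟩ =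
      (J.ideal ⟨WW x B U, isAffineOpen_WW x B hU⟩).comap (psiG x g U) :=
  ideal_map_appLE (XAmap x g) J (WW x A U) (isAffineOpen_WW x A hU) (WW x B U)
    (isAffineOpen_WW x B hU) (preimage_WW x g U).symm

end PsiG

section Square

variable {k : Type u} [Field k] {X : Scheme.{u}} (x : X ⟶ specPt k)
  {B A A' A'' : Art k k} {p' : B ⟶ A'} {p'' : B ⟶ A''} {f' : A' ⟶ A} {f'' : A'' ⟶ A}

theorem psiG_square (h : IsFibreProd p' p'' f' f'') (U : X.Opens) (r : Γ(XA x B, WW x B U)) :
    psiG x f' U (psiG x p' U r) = psiG x f'' U (psiG x p'' U r) := by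
  rw [psiG_comp, psiG_comp, h.w]

end Square

section Defs

variable {k : Type u} [Field k] {X : Scheme.{u}} (x : X ⟶ specPt k)

/-- `Γ(X, U)` as a `k`-algebra. -/
def R0 (_x : X ⟶ specPt k) (U : X.Opens) : Type u := Γ(X, U)

noncomputable instance (U : X.Opens) : CommRing (R0 x U) := inferInstanceAs (CommRing Γ(X, U))

noncomputable instance (U : X.Opens) : Algebra k (R0 x U) :=
  RingHom.toAlgebra (R := k) (S := R0 x U) (secMap x U)

/-- `Γ(Y₀, U ∩ Y₀)` as a `k`-algebra. -/
def N0 (_x : X ⟶ specPt k) (I₀ : X.IdealSheafData) (U : X.Opens) : Type u :=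
  Γ(I₀.subscheme, I₀.subschemeι ⁻¹ᵁ U)

noncomputable instance (I₀ : X.IdealSheafData) (U : X.Opens) : CommRing (N0 x I₀ U) :=
  inferInstanceAs (CommRing Γ(I₀.subscheme, I₀.subschemeι ⁻¹ᵁ U))

noncomputable instance (I₀ : X.IdealSheafData) (U : X.Opens) : Algebra k (N0 x I₀ U) :=
  RingHom.toAlgebra (R := k) (S := N0 x I₀ U) ((pi0 I₀ U).comp (secMap x U))

variable (A : Art k k)

theorem rho_phi (U : X.Opens) (a : A) : rho x A U (phi x A U a) = secMap x U (A.res a) := by
  have h1 := secMap_comp_left (XAincl x A) (XApr x A) (WW x A U) U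
    (XAincl_preimage_WW x A U).ge a
  have h3 : secMap (XAincl x A ≫ XApr x A) U a = secMap (x ≫ specRes A) U a := by
    rw [XAincl_snd]
  have h4 := secMap_comp_right x (CommRingCat.ofHom A.res.toRingHom) U a
  exact h1.trans (h3.trans h4)

/-- The ring of sections of `X_A` over `W_U` as a flat deformation of `Γ(X, U)`. -/
noncomputable def RDef (U : X.Opens) (hU : IsAffineOpen U) : AffDef.AlgDef (R0 x U) A where
  B := Γ(XA x A, WW x A U)
  algebra := (phi x A U).toAlgebra
  flat := flat_phi x A U hU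
  π := rho x A U
  comm := rho_phi x A U
  surj := rho_surjective x A U
  ker_le := (ker_rho x A U hU).le

theorem ideal_comap_rho (I : (XA x A).IdealSheafData) (U : X.Opens) (hU : IsAffineOpen U) :
    (I.comap (XAincl x A)).ideal ⟨U, hU⟩ =
      (I.ideal ⟨WW x A U, isAffineOpen_WW x A hU⟩).map (rho x A U) :=
  ideal_comap I (XAincl x A) ⟨U, hU⟩ ⟨WW x A U, isAffineOpen_WW x A hU⟩
    (XAincl_preimage_WW x A U).ge

variable {I₀ : X.IdealSheafData}

theorem ker_sig_le_ker_pi0_rho (I : (XA x A).IdealSheafData) (h0 : I.comap (XAincl x A) = I₀)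
    (U : X.Opens) (hU : IsAffineOpen U) :
    RingHom.ker (sig x A I U) ≤ RingHom.ker ((pi0 I₀ U).comp (rho x A U)) := by
  have h1 := ideal_comap_rho x A I U hU
  rw [h0] at h1
  rw [← RingHom.comap_ker, ker_sig x A I U hU, ker_pi0 I₀ U hU, h1]
  exact Ideal.le_comap_map

/-- Reduction `Γ(Z, W_U ∩ Z) → Γ(Y₀, U ∩ Y₀)`. -/
noncomputable def tau (I : (XA x A).IdealSheafData) (h0 : I.comap (XAincl x A) = I₀)
    (U : X.Opens) (hU : IsAffineOpen U) :
    Γ(I.subscheme, I.subschemeι ⁻¹ᵁ (WW x A U)) →+* Γ(I₀.subscheme, I₀.subschemeι ⁻¹ᵁ U) :=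
  (sig x A I U).liftOfRightInverse (Function.surjInv (sig_surjective x A I U hU))
    (Function.rightInverse_surjInv (sig_surjective x A I U hU))
    ⟨(pi0 I₀ U).comp (rho x A U), ker_sig_le_ker_pi0_rho x A I h0 U hU⟩

theorem tau_sig (I : (XA x A).IdealSheafData) (h0 : I.comap (XAincl x A) = I₀)
    (U : X.Opens) (hU : IsAffineOpen U) (r : Γ(XA x A, WW x A U)) :
    tau x A I h0 U hU (sig x A I U r) = pi0 I₀ U (rho x A U r) :=
  RingHom.liftOfRightInverse_comp_apply (sig x A I U)
    (Function.surjInv (sig_surjective x A I U hU))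
    (Function.rightInverse_surjInv (sig_surjective x A I U hU))
    ⟨(pi0 I₀ U).comp (rho x A U), ker_sig_le_ker_pi0_rho x A I h0 U hU⟩ r

theorem pi0_surjective (I₀ : X.IdealSheafData) (U : X.Opens) (hU : IsAffineOpen U) :
    Function.Surjective (pi0 I₀ U) :=
  I₀.subschemeι_app_surjective ⟨U, hU⟩

/-- The ring of sections of a flat closed subscheme of `X_A` as a flat deformation. -/
noncomputable def NDef (I : (XA x A).IdealSheafData) (hI : FlatOver X x A I)
    (h0 : I.comap (XAincl x A) = I₀) (U : X.Opens) (hU : IsAffineOpen U) :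
    AffDef.AlgDef (N0 x I₀ U) A where
  B := Γ(I.subscheme, I.subschemeι ⁻¹ᵁ (WW x A U))
  algebra := ((sig x A I U).comp (phi x A U)).toAlgebra
  flat := flat_sig_phi x A I hI U hU
  π := tau x A I h0 U hU
  comm := fun a => (tau_sig x A I h0 U hU (phi x A U a)).trans
    (congrArg (pi0 I₀ U) (rho_phi x A U a))
  surj := by
    intro n
    obtain ⟨r, rfl⟩ := pi0_surjective I₀ U hU n
    obtain ⟨s, rfl⟩ := rho_surjective x A U r
    exact ⟨sig x A I U s, tau_sig x A I h0 U hU s⟩
  ker_le := by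
    intro n hn
    obtain ⟨s, rfl⟩ := sig_surjective x A I U hU n
    have hn' : pi0 I₀ U (rho x A U s) = 0 := (tau_sig x A I h0 U hU s).symm.trans hn
    have h1 := ideal_comap_rho x A I U hU
    rw [h0] at h1
    have h2 : rho x A U s ∈ I₀.ideal ⟨U, hU⟩ := by
      rw [← ker_pi0 I₀ U hU]
      exact hn'
    rw [h1] at h2
    obtain ⟨i, hi, hie⟩ := (Ideal.mem_map_iff_of_surjective _ (rho_surjective x A U)).1 h2
    have hi0 : sig x A I U i = 0 := by
      have h3 := hi
      rw [← ker_sig x A I U hU] at h3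
      exact h3
    have h4 : s - i ∈ (IsLocalRing.maximalIdeal A).map (phi x A U) := by
      rw [← ker_rho x A U hU, RingHom.mem_ker, map_sub, hie, sub_self]
    have h5 : sig x A I U (s - i) ∈
        ((IsLocalRing.maximalIdeal A).map (phi x A U)).map (sig x A I U) :=
      Ideal.mem_map_of_mem _ h4
    rw [Ideal.map_map] at h5
    have h6 : sig x A I U s = sig x A I U (s - i) := by rw [map_sub, hi0, sub_zero]
    rw [h6]
    exact h5

end Defs

section Theta

variable {k : Type u} [Field k] {X : Scheme.{u}} (x : X ⟶ specPt k) {I₀ : X.IdealSheafData}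
  {A B : Art k k} (g : A ⟶ B)

theorem ker_sig_le_of_comap (I : (XA x A).IdealSheafData) (J : (XA x B).IdealSheafData)
    (e : I.comap (XAmap x g) = J) (U : X.Opens) (hU : IsAffineOpen U) :
    RingHom.ker (sig x A I U) ≤ RingHom.ker ((sig x B J U).comp (psiG x g U)) := by
  subst e
  rw [← RingHom.comap_ker, ker_sig x A I U hU, ker_sig x B _ U hU, ideal_comap_psiG x g I U hU]
  exact Ideal.le_comap_map

/-- The map `Γ(Z_I, …) → Γ(Z_J, …)` induced by `g` when `I` maps into `J`. -/
noncomputable def thetaG (I : (XA x A).IdealSheafData) (J : (XA x B).IdealSheafData)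
    (U : X.Opens) (hU : IsAffineOpen U)
    (hle : RingHom.ker (sig x A I U) ≤ RingHom.ker ((sig x B J U).comp (psiG x g U))) :
    Γ(I.subscheme, I.subschemeι ⁻¹ᵁ (WW x A U)) →+* Γ(J.subscheme, J.subschemeι ⁻¹ᵁ (WW x B U)) :=
  (sig x A I U).liftOfRightInverse (Function.surjInv (sig_surjective x A I U hU))
    (Function.rightInverse_surjInv (sig_surjective x A I U hU))
    ⟨(sig x B J U).comp (psiG x g U), hle⟩

theorem thetaG_sig (I : (XA x A).IdealSheafData) (J : (XA x B).IdealSheafData)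
    (U : X.Opens) (hU : IsAffineOpen U)
    (hle : RingHom.ker (sig x A I U) ≤ RingHom.ker ((sig x B J U).comp (psiG x g U)))
    (r : Γ(XA x A, WW x A U)) :
    thetaG x g I J U hU hle (sig x A I U r) = sig x B J U (psiG x g U r) :=
  RingHom.liftOfRightInverse_comp_apply (sig x A I U)
    (Function.surjInv (sig_surjective x A I U hU))
    (Function.rightInverse_surjInv (sig_surjective x A I U hU))
    ⟨(sig x B J U).comp (psiG x g U), hle⟩ r

theorem thetaG_sig_phi (I : (XA x A).IdealSheafData) (J : (XA x B).IdealSheafData)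
    (U : X.Opens) (hU : IsAffineOpen U)
    (hle : RingHom.ker (sig x A I U) ≤ RingHom.ker ((sig x B J U).comp (psiG x g U))) (a : A) :
    thetaG x g I J U hU hle (sig x A I U (phi x A U a)) = sig x B J U (phi x B U (g a)) :=
  (thetaG_sig x g I J U hU hle (phi x A U a)).trans (congrArg (sig x B J U) (psiG_phi x g U a))

theorem tau_thetaG (I : (XA x A).IdealSheafData) (J : (XA x B).IdealSheafData)
    (h0 : I.comap (XAincl x A) = I₀) (h0J : J.comap (XAincl x B) = I₀)
    (U : X.Opens) (hU : IsAffineOpen U)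
    (hle : RingHom.ker (sig x A I U) ≤ RingHom.ker ((sig x B J U).comp (psiG x g U)))
    (n : Γ(I.subscheme, I.subschemeι ⁻¹ᵁ (WW x A U))) :
    tau x B J h0J U hU (thetaG x g I J U hU hle n) = tau x A I h0 U hU n := by
  obtain ⟨r, rfl⟩ := sig_surjective x A I U hU n
  rw [thetaG_sig, tau_sig, tau_sig, rho_psiG]

theorem thetaG_surjective (hg : Function.Surjective g) (I : (XA x A).IdealSheafData)
    (J : (XA x B).IdealSheafData) (U : X.Opens) (hU : IsAffineOpen U)
    (hle : RingHom.ker (sig x A I U) ≤ RingHom.ker ((sig x B J U).comp (psiG x g U))) :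
    Function.Surjective (thetaG x g I J U hU hle) := by
  intro m
  obtain ⟨r, rfl⟩ := sig_surjective x B J U hU m
  obtain ⟨s, rfl⟩ := psiG_surjective x g hg U hU r
  exact ⟨sig x A I U s, thetaG_sig x g I J U hU hle s⟩

end Theta

section FP

variable {k : Type u} [Field k] {X : Scheme.{u}} (x : X ⟶ specPt k)
  {B A A' A'' : Art k k} {p' : B ⟶ A'} {p'' : B ⟶ A''} {f' : A' ⟶ A} {f'' : A'' ⟶ A}

/-- The section rings over a fibre product of Artin rings surject onto the fibre product. -/
theorem fp_surj (h : IsFibreProd p' p'' f' f'') (U : X.Opens) (hU : IsAffineOpen U)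
    (r' : Γ(XA x A', WW x A' U)) (r'' : Γ(XA x A'', WW x A'' U))
    (hr : psiG x f' U r' = psiG x f'' U r'') :
    ∃ b : Γ(XA x B, WW x B U), psiG x p' U b = r' ∧ psiG x p'' U b = r'' :=
  AffDef.AlgDef.joint_surj (RDef x B U hU) (RDef x A' U hU) (RDef x A'' U hU)
    (psiG x p' U) (psiG x p'' U) (psiG_phi x p' U) (psiG_phi x p'' U)
    (rho_psiG x p' U) (rho_psiG x p'' U) (RDef x A U hU) (psiG x f' U) (psiG x f'' U)
    (psiG_phi x f' U) (psiG_phi x f'' U) (rho_psiG x f' U) (psiG_square x h U) h r' r'' hr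

end FP

end Groth.Agent.Lib.Helper1.AH
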