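import Groth.Agent.Lib.Helper1.AH10

/-!
# The local Hilbert functor and fibre products of Artin rings
-/

universe u

open CategoryTheory CategoryTheory.Limits AlgebraicGeometry Opposite TopologicalSpace
open ArtFun ArtFun.Art

namespace Groth.Agent.Lib.Helper1.AH

section FlatOver

variable {k : Type u} [Field k] {X : Scheme.{u}} (x : X ⟶ specPt k) (B : Art k k)

theorem flatOver_of_flat_sig_phi (I : (XA x B).IdealSheafData)
    (hfl : ∀ (U : X.Opens), IsAffineOpen U → ((sig x B I U).comp (phi x B U)).Flat) :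
    FlatOver X x B I := by
  unfold FlatOver
  refine HasRingHomProperty.of_iSup_eq_top (P := @Flat)
    (fun U : X.affineOpens => ⟨I.subschemeι ⁻¹ᵁ (WW x B U.1),
      (isAffineOpen_WW x B U.2).preimage _⟩) ?_ ?_
  · exact I.subschemeι.iSup_preimage_eq_top (iSup_WW x B)
  · intro U
    apply flat_appLE_of_flat_secMap
    have e : secMap (I.subschemeι ≫ XApr x B) (I.subschemeι ⁻¹ᵁ (WW x B U.1)) =
        (sig x B I U.1).comp (phi x B U.1) := by
      ext b
      have h1 := secMap_comp_left I.subschemeι (XApr x B) (WW x B U.1)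
        (I.subschemeι ⁻¹ᵁ (WW x B U.1)) le_rfl b
      have h2 : I.subschemeι.appLE (WW x B U.1) (I.subschemeι ⁻¹ᵁ (WW x B U.1)) le_rfl =
          I.subschemeι.app (WW x B U.1) := Scheme.Hom.appLE_eq_app _
      rw [h2] at h1
      exact h1.symm
    rw [e]
    exact hfl U.1 U.2

end FlatOver

section Glue

variable {k : Type u} [Field k] {X : Scheme.{u}} (x : X ⟶ specPt k) {I₀ : X.IdealSheafData}
  {B A A' A'' : Art k k} {p' : B ⟶ A'} {p'' : B ⟶ A''} {f' : A' ⟶ A} {f'' : A'' ⟶ A}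

/-- The glued ideal sheaf on `X_B`, `B = A' ×_A A''`. -/
noncomputable def IBf (p' : B ⟶ A') (p'' : B ⟶ A'') (I' : (XA x A').IdealSheafData)
    (I'' : (XA x A'').IdealSheafData) : (XA x B).IdealSheafData :=
  I'.map (XAmap x p') ⊓ I''.map (XAmap x p'')

theorem mem_IBf (I' : (XA x A').IdealSheafData) (I'' : (XA x A'').IdealSheafData)
    (U : X.Opens) (hU : IsAffineOpen U) (r : Γ(XA x B, WW x B U)) :
    r ∈ (IBf x p' p'' I' I'').ideal ⟨WW x B U, isAffineOpen_WW x B hU⟩ ↔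
      psiG x p' U r ∈ I'.ideal ⟨WW x A' U, isAffineOpen_WW x A' hU⟩ ∧
      psiG x p'' U r ∈ I''.ideal ⟨WW x A'' U, isAffineOpen_WW x A'' hU⟩ := by
  have e : (IBf x p' p'' I' I'').ideal ⟨WW x B U, isAffineOpen_WW x B hU⟩ =
      (I'.map (XAmap x p')).ideal ⟨WW x B U, isAffineOpen_WW x B hU⟩ ⊓
      (I''.map (XAmap x p'')).ideal ⟨WW x B U, isAffineOpen_WW x B hU⟩ := rfl
  rw [e, ideal_map_psiG x p' I' U hU, ideal_map_psiG x p'' I'' U hU, Ideal.mem_inf,
    Ideal.mem_comap, Ideal.mem_comap]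

theorem exists_mem_right (hf'' : Function.Surjective f'')
    (I' : (XA x A').IdealSheafData) (I'' : (XA x A'').IdealSheafData)
    (hc : I'.comap (XAmap x f') = I''.comap (XAmap x f''))
    (U : X.Opens) (hU : IsAffineOpen U) (i' : Γ(XA x A', WW x A' U))
    (hi' : i' ∈ I'.ideal ⟨WW x A' U, isAffineOpen_WW x A' hU⟩) :
    ∃ i'' ∈ I''.ideal ⟨WW x A'' U, isAffineOpen_WW x A'' hU⟩,
      psiG x f'' U i'' = psiG x f' U i' := by
  have h1 : psiG x f' U i' ∈
      (I'.comap (XAmap x f')).ideal ⟨WW x A U, isAffineOpen_WW x A hU⟩ := by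
    rw [ideal_comap_psiG x f' I' U hU]
    exact Ideal.mem_map_of_mem _ hi'
  rw [hc, ideal_comap_psiG x f'' I'' U hU] at h1
  exact (Ideal.mem_map_iff_of_surjective _ (psiG_surjective x f'' hf'' U hU)).1 h1

theorem exists_mem_IBf_left (h : IsFibreProd p' p'' f' f'') (hf'' : Function.Surjective f'')
    (I' : (XA x A').IdealSheafData) (I'' : (XA x A'').IdealSheafData)
    (hc : I'.comap (XAmap x f') = I''.comap (XAmap x f''))
    (U : X.Opens) (hU : IsAffineOpen U) (i' : Γ(XA x A', WW x A' U))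
    (hi' : i' ∈ I'.ideal ⟨WW x A' U, isAffineOpen_WW x A' hU⟩) :
    ∃ b ∈ (IBf x p' p'' I' I'').ideal ⟨WW x B U, isAffineOpen_WW x B hU⟩,
      psiG x p' U b = i' := by
  obtain ⟨i'', hi'', he⟩ := exists_mem_right x hf'' I' I'' hc U hU i' hi'
  obtain ⟨b, hb', hb''⟩ := fp_surj x h U hU i' i'' he.symm
  refine ⟨b, (mem_IBf x I' I'' U hU b).2 ⟨?_, ?_⟩, hb'⟩
  · rw [hb']
    exact hi'
  · rw [hb'']
    exact hi''

theorem comap_IBf_left (h : IsFibreProd p' p'' f' f'') (hf'' : Function.Surjective f'')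
    (I' : (XA x A').IdealSheafData) (I'' : (XA x A'').IdealSheafData)
    (hc : I'.comap (XAmap x f') = I''.comap (XAmap x f'')) :
    (IBf x p' p'' I' I'').comap (XAmap x p') = I' := by
  refine Scheme.IdealSheafData.ext_of_iSup_eq_top
    (fun U : X.affineOpens => ⟨WW x A' U.1, isAffineOpen_WW x A' U.2⟩) (iSup_WW x A') ?_
  intro U
  show ((IBf x p' p'' I' I'').comap (XAmap x p')).ideal
      ⟨WW x A' U.1, isAffineOpen_WW x A' U.2⟩ =
    I'.ideal ⟨WW x A' U.1, isAffineOpen_WW x A' U.2⟩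
  rw [ideal_comap_psiG x p' _ U.1 U.2]
  apply le_antisymm
  · rw [Ideal.map_le_iff_le_comap]
    intro b hb
    exact ((mem_IBf x I' I'' U.1 U.2 b).1 hb).1
  · intro i' hi'
    obtain ⟨b, hb, rfl⟩ := exists_mem_IBf_left x h hf'' I' I'' hc U.1 U.2 i' hi'
    exact Ideal.mem_map_of_mem _ hb

theorem comap_IBf_right (h : IsFibreProd p' p'' f' f'') (hf'' : Function.Surjective f'')
    (I' : (XA x A').IdealSheafData) (I'' : (XA x A'').IdealSheafData)
    (hc : I'.comap (XAmap x f') = I''.comap (XAmap x f'')) :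
    (IBf x p' p'' I' I'').comap (XAmap x p'') = I'' := by
  refine Scheme.IdealSheafData.ext_of_iSup_eq_top
    (fun U : X.affineOpens => ⟨WW x A'' U.1, isAffineOpen_WW x A'' U.2⟩) (iSup_WW x A'') ?_
  intro U
  show ((IBf x p' p'' I' I'').comap (XAmap x p'')).ideal
      ⟨WW x A'' U.1, isAffineOpen_WW x A'' U.2⟩ =
    I''.ideal ⟨WW x A'' U.1, isAffineOpen_WW x A'' U.2⟩
  rw [ideal_comap_psiG x p'' _ U.1 U.2]
  have hle : ((IBf x p' p'' I' I'').ideal ⟨WW x B U.1, isAffineOpen_WW x B U.2⟩).map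
      (psiG x p'' U.1) ≤ I''.ideal ⟨WW x A'' U.1, isAffineOpen_WW x A'' U.2⟩ := by
    rw [Ideal.map_le_iff_le_comap]
    intro b hb
    exact ((mem_IBf x I' I'' U.1 U.2 b).1 hb).2
  apply le_antisymm hle
  intro i'' hi''
  have h1 : (I'.ideal ⟨WW x A' U.1, isAffineOpen_WW x A' U.2⟩).map (psiG x f' U.1) ≤
      (((IBf x p' p'' I' I'').ideal ⟨WW x B U.1, isAffineOpen_WW x B U.2⟩).map
        (psiG x p'' U.1)).map (psiG x f'' U.1) := by
    rw [Ideal.map_le_iff_le_comap]
    intro i' hi'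
    obtain ⟨b, hb, rfl⟩ := exists_mem_IBf_left x h hf'' I' I'' hc U.1 U.2 i' hi'
    rw [Ideal.mem_comap, psiG_square x h U.1 b]
    exact Ideal.mem_map_of_mem _ (Ideal.mem_map_of_mem _ hb)
  have h2 : psiG x f'' U.1 i'' ∈
      (((IBf x p' p'' I' I'').ideal ⟨WW x B U.1, isAffineOpen_WW x B U.2⟩).map
        (psiG x p'' U.1)).map (psiG x f'' U.1) := by
    apply h1
    rw [← ideal_comap_psiG x f' I' U.1 U.2, hc, ideal_comap_psiG x f'' I'' U.1 U.2]
    exact Ideal.mem_map_of_mem _ hi''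
  obtain ⟨c, hc1, hc2⟩ :=
    (Ideal.mem_map_iff_of_surjective _ (psiG_surjective x f'' hf'' U.1 U.2)).1 h2
  have hcI : c ∈ I''.ideal ⟨WW x A'' U.1, isAffineOpen_WW x A'' U.2⟩ := hle hc1
  obtain ⟨b, hb', hb''⟩ := fp_surj x h U.1 U.2 0 (i'' - c)
    (by rw [map_zero, map_sub, hc2, sub_self])
  have hbm : b ∈ (IBf x p' p'' I' I'').ideal ⟨WW x B U.1, isAffineOpen_WW x B U.2⟩ := by
    refine (mem_IBf x I' I'' U.1 U.2 b).2 ⟨?_, ?_⟩
    · rw [hb']
      exact Ideal.zero_mem _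
    · rw [hb'']
      exact Ideal.sub_mem _ hi'' hcI
  have e : i'' = c + psiG x p'' U.1 b := by
    rw [hb'']
    ring
  rw [e]
  exact Ideal.add_mem _ hc1 (Ideal.mem_map_of_mem _ hbm)

theorem comap_XAincl_IBf (h : IsFibreProd p' p'' f' f'') (hf'' : Function.Surjective f'')
    (I' : (XA x A').IdealSheafData) (I'' : (XA x A'').IdealSheafData)
    (h0' : I'.comap (XAincl x A') = I₀)
    (hc : I'.comap (XAmap x f') = I''.comap (XAmap x f'')) :
    (IBf x p' p'' I' I'').comap (XAincl x B) = I₀ := by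
  rw [← XAincl_XAmap x p', Scheme.IdealSheafData.comap_comp, comap_IBf_left x h hf'' I' I'' hc, h0']

theorem flat_sig_IBf (h : IsFibreProd p' p'' f' f'') (hf'' : Function.Surjective f'')
    (I' : (XA x A').IdealSheafData) (I'' : (XA x A'').IdealSheafData)
    (hI' : FlatOver X x A' I') (hI'' : FlatOver X x A'' I'')
    (h0' : I'.comap (XAincl x A') = I₀) (h0'' : I''.comap (XAincl x A'') = I₀)
    (hc : I'.comap (XAmap x f') = I''.comap (XAmap x f''))
    (U : X.Opens) (hU : IsAffineOpen U) :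
    ((sig x B (IBf x p' p'' I' I'') U).comp (phi x B U)).Flat := by
  have hIA : FlatOver X x A (I'.comap (XAmap x f')) := flatOver_comap X x f' I' hI'
  have h0A : (I'.comap (XAmap x f')).comap (XAincl x A) = I₀ := by
    rw [← Scheme.IdealSheafData.comap_comp, XAincl_XAmap, h0']
  have hle' := ker_sig_le_of_comap x f' I' (I'.comap (XAmap x f')) rfl U hU
  have hle'' := ker_sig_le_of_comap x f'' I'' (I'.comap (XAmap x f')) hc.symm U hU
  have hleq' : RingHom.ker (sig x B (IBf x p' p'' I' I'') U) ≤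
      RingHom.ker ((sig x A' I' U).comp (psiG x p' U)) := by
    intro r hr
    rw [ker_sig x B _ U hU] at hr
    rw [← RingHom.comap_ker, ker_sig x A' I' U hU]
    exact ((mem_IBf x I' I'' U hU r).1 hr).1
  have hleq'' : RingHom.ker (sig x B (IBf x p' p'' I' I'') U) ≤
      RingHom.ker ((sig x A'' I'' U).comp (psiG x p'' U)) := by
    intro r hr
    rw [ker_sig x B _ U hU] at hr
    rw [← RingHom.comap_ker, ker_sig x A'' I'' U hU]
    exact ((mem_IBf x I' I'' U hU r).1 hr).2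
  have hqinj : ∀ n₁ n₂ : Γ((IBf x p' p'' I' I'').subscheme,
      (IBf x p' p'' I' I'').subschemeι ⁻¹ᵁ (WW x B U)),
      thetaG x p' (IBf x p' p'' I' I'') I' U hU hleq' n₁ =
        thetaG x p' (IBf x p' p'' I' I'') I' U hU hleq' n₂ →
      thetaG x p'' (IBf x p' p'' I' I'') I'' U hU hleq'' n₁ =
        thetaG x p'' (IBf x p' p'' I' I'') I'' U hU hleq'' n₂ → n₁ = n₂ := by
    intro n₁ n₂ h1 h2
    obtain ⟨r₁, rfl⟩ := sig_surjective x B (IBf x p' p'' I' I'') U hU n₁
    obtain ⟨r₂, rfl⟩ := sig_surjective x B (IBf x p' p'' I' I'') U hU n₂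
    rw [thetaG_sig, thetaG_sig] at h1 h2
    have h3 : r₁ - r₂ ∈ (IBf x p' p'' I' I'').ideal ⟨WW x B U, isAffineOpen_WW x B hU⟩ := by
      rw [mem_IBf x I' I'' U hU]
      constructor
      · rw [← ker_sig x A' I' U hU, RingHom.mem_ker, map_sub, map_sub, h1, sub_self]
      · rw [← ker_sig x A'' I'' U hU, RingHom.mem_ker, map_sub, map_sub, h2, sub_self]
    rw [← ker_sig x B (IBf x p' p'' I' I'') U hU, RingHom.mem_ker, map_sub, sub_eq_zero] at h3
    exact h3
  have hqsurj : ∀ (y' : Γ(I'.subscheme, I'.subschemeι ⁻¹ᵁ (WW x A' U)))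
      (y'' : Γ(I''.subscheme, I''.subschemeι ⁻¹ᵁ (WW x A'' U))),
      thetaG x f' I' (I'.comap (XAmap x f')) U hU hle' y' =
        thetaG x f'' I'' (I'.comap (XAmap x f')) U hU hle'' y'' →
      ∃ n, thetaG x p' (IBf x p' p'' I' I'') I' U hU hleq' n = y' ∧
        thetaG x p'' (IBf x p' p'' I' I'') I'' U hU hleq'' n = y'' := by
    intro y' y'' hy
    obtain ⟨r', rfl⟩ := sig_surjective x A' I' U hU y'
    obtain ⟨r'', rfl⟩ := sig_surjective x A'' I'' U hU y''
    rw [thetaG_sig, thetaG_sig] at hy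
    have h1 : psiG x f' U r' - psiG x f'' U r'' ∈
        (I'.comap (XAmap x f')).ideal ⟨WW x A U, isAffineOpen_WW x A hU⟩ := by
      rw [← ker_sig x A (I'.comap (XAmap x f')) U hU, RingHom.mem_ker, map_sub, hy, sub_self]
    rw [hc, ideal_comap_psiG x f'' I'' U hU] at h1
    obtain ⟨i'', hi'', he⟩ :=
      (Ideal.mem_map_iff_of_surjective _ (psiG_surjective x f'' hf'' U hU)).1 h1
    obtain ⟨b, hb', hb''⟩ := fp_surj x h U hU r' (r'' + i'') (by rw [map_add, he]; ring)
    have hi0 : sig x A'' I'' U i'' = 0 := by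
      have h3 := hi''
      rw [← ker_sig x A'' I'' U hU] at h3
      exact h3
    refine ⟨sig x B (IBf x p' p'' I' I'') U b, ?_, ?_⟩
    · rw [thetaG_sig, hb']
    · rw [thetaG_sig, hb'', map_add, hi0, add_zero]
  have hqcomm : ∀ n : Γ((IBf x p' p'' I' I'').subscheme,
      (IBf x p' p'' I' I'').subschemeι ⁻¹ᵁ (WW x B U)),
      thetaG x f' I' (I'.comap (XAmap x f')) U hU hle'
        (thetaG x p' (IBf x p' p'' I' I'') I' U hU hleq' n) =
      thetaG x f'' I'' (I'.comap (XAmap x f')) U hU hle''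
        (thetaG x p'' (IBf x p' p'' I' I'') I'' U hU hleq'' n) := by
    intro n
    obtain ⟨r, rfl⟩ := sig_surjective x B (IBf x p' p'' I' I'') U hU n
    rw [thetaG_sig, thetaG_sig, thetaG_sig, thetaG_sig, psiG_square x h U r]
  letI : Algebra B Γ((IBf x p' p'' I' I'').subscheme,
      (IBf x p' p'' I' I'').subschemeι ⁻¹ᵁ (WW x B U)) :=
    ((sig x B (IBf x p' p'' I' I'') U).comp (phi x B U)).toAlgebra
  have key := AffDef.AlgDef.glue_aux h (NDef x A' I' hI' h0' U hU) (NDef x A'' I'' hI'' h0'' U hU)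
    (NDef x A (I'.comap (XAmap x f')) hIA h0A U hU)
    (thetaG x f' I' (I'.comap (XAmap x f')) U hU hle')
    (thetaG x f'' I'' (I'.comap (XAmap x f')) U hU hle'')
    (thetaG_sig_phi x f' I' (I'.comap (XAmap x f')) U hU hle')
    (tau_thetaG x f' I' (I'.comap (XAmap x f')) h0' h0A U hU hle')
    (thetaG_sig_phi x f'' I'' (I'.comap (XAmap x f')) U hU hle'')
    (tau_thetaG x f'' I'' (I'.comap (XAmap x f')) h0'' h0A U hU hle'')
    (thetaG_surjective x f'' hf'' I'' (I'.comap (XAmap x f')) U hU hle'')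
    Γ((IBf x p' p'' I' I'').subscheme, (IBf x p' p'' I' I'').subschemeι ⁻¹ᵁ (WW x B U))
    (thetaG x p' (IBf x p' p'' I' I'') I' U hU hleq')
    (thetaG x p'' (IBf x p' p'' I' I'') I'' U hU hleq'')
    (thetaG_sig_phi x p' (IBf x p' p'' I' I'') I' U hU hleq')
    (thetaG_sig_phi x p'' (IBf x p' p'' I' I'') I'' U hU hleq'')
    hqinj hqsurj hqcomm
  exact key.1

theorem flatOver_IBf (h : IsFibreProd p' p'' f' f'') (hf'' : Function.Surjective f'')
    (I' : (XA x A').IdealSheafData) (I'' : (XA x A'').IdealSheafData)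
    (hI' : FlatOver X x A' I') (hI'' : FlatOver X x A'' I'')
    (h0' : I'.comap (XAincl x A') = I₀) (h0'' : I''.comap (XAincl x A'') = I₀)
    (hc : I'.comap (XAmap x f') = I''.comap (XAmap x f'')) :
    FlatOver X x B (IBf x p' p'' I' I'') :=
  flatOver_of_flat_sig_phi x B _ (fun U hU => flat_sig_IBf x h hf'' I' I'' hI' hI'' h0' h0'' hc U hU)

/-- A flat closed subscheme over `B ↪ A' × A''` is determined by its restrictions. -/
theorem ideal_eq_inf (hinj : ∀ b₁ b₂ : B, p' b₁ = p' b₂ → p'' b₁ = p'' b₂ → b₁ = b₂)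
    (I : (XA x B).IdealSheafData) (hI : FlatOver X x B I) (h0 : I.comap (XAincl x B) = I₀)
    (U : X.Opens) (hU : IsAffineOpen U) :
    I.ideal ⟨WW x B U, isAffineOpen_WW x B hU⟩ =
      ((I.comap (XAmap x p')).ideal ⟨WW x A' U, isAffineOpen_WW x A' hU⟩).comap (psiG x p' U) ⊓
      ((I.comap (XAmap x p'')).ideal ⟨WW x A'' U, isAffineOpen_WW x A'' hU⟩).comap
        (psiG x p'' U) := by
  apply le_antisymm
  · apply le_inf
    · rw [ideal_comap_psiG x p' I U hU]
      exact Ideal.le_comap_map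
    · rw [ideal_comap_psiG x p'' I U hU]
      exact Ideal.le_comap_map
  · intro r hr
    have hI' := flatOver_comap X x p' I hI
    have hI'' := flatOver_comap X x p'' I hI
    have h0' : (I.comap (XAmap x p')).comap (XAincl x A') = I₀ := by
      rw [← Scheme.IdealSheafData.comap_comp, XAincl_XAmap, h0]
    have h0'' : (I.comap (XAmap x p'')).comap (XAincl x A'') = I₀ := by
      rw [← Scheme.IdealSheafData.comap_comp, XAincl_XAmap, h0]
    have hle' := ker_sig_le_of_comap x p' I (I.comap (XAmap x p')) rfl U hU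
    have hle'' := ker_sig_le_of_comap x p'' I (I.comap (XAmap x p'')) rfl U hU
    rw [← ker_sig x B I U hU, RingHom.mem_ker]
    refine AffDef.AlgDef.joint_inj (NDef x B I hI h0 U hU)
      (NDef x A' (I.comap (XAmap x p')) hI' h0' U hU)
      (NDef x A'' (I.comap (XAmap x p'')) hI'' h0'' U hU)
      (thetaG x p' I (I.comap (XAmap x p')) U hU hle')
      (thetaG x p'' I (I.comap (XAmap x p'')) U hU hle'')
      (thetaG_sig_phi x p' I (I.comap (XAmap x p')) U hU hle')
      (thetaG_sig_phi x p'' I (I.comap (XAmap x p'')) U hU hle'')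
      (tau_thetaG x p' I (I.comap (XAmap x p')) h0 h0' U hU hle')
      (tau_thetaG x p'' I (I.comap (XAmap x p'')) h0 h0'' U hU hle'')
      hinj (sig x B I U r) ?_ ?_
    · have h3 : psiG x p' U r ∈
          (I.comap (XAmap x p')).ideal ⟨WW x A' U, isAffineOpen_WW x A' hU⟩ := hr.1
      rw [← ker_sig x A' (I.comap (XAmap x p')) U hU] at h3
      exact (thetaG_sig x p' I (I.comap (XAmap x p')) U hU hle' r).trans h3
    · have h3 : psiG x p'' U r ∈
          (I.comap (XAmap x p'')).ideal ⟨WW x A'' U, isAffineOpen_WW x A'' hU⟩ := hr.2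
      rw [← ker_sig x A'' (I.comap (XAmap x p'')) U hU] at h3
      exact (thetaG_sig x p'' I (I.comap (XAmap x p'')) U hU hle'' r).trans h3

end Glue

section Main

variable {k : Type u} [Field k] (X : Scheme.{u}) (x : X ⟶ specPt k) (I₀ : X.IdealSheafData)
  {B A A' A'' : Art k k} {p' : B ⟶ A'} {p'' : B ⟶ A''} {f' : A' ⟶ A} {f'' : A'' ⟶ A}

theorem cmp_surjective (h : IsFibreProd p' p'' f' f'') (hf'' : Function.Surjective f'') :
    Function.Surjective (cmp (localHilb X x I₀) h) := by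
  rintro ⟨⟨Z', Z''⟩, hz⟩
  have hc : Z'.1.comap (XAmap x f') = Z''.1.comap (XAmap x f'') := congrArg Subtype.val hz
  refine ⟨⟨IBf x p' p'' Z'.1 Z''.1,
    flatOver_IBf x h hf'' Z'.1 Z''.1 Z'.2.1 Z''.2.1 Z'.2.2 Z''.2.2 hc,
    comap_XAincl_IBf x h hf'' Z'.1 Z''.1 Z'.2.2 hc⟩, ?_⟩
  exact FibProd.ext (Subtype.ext (comap_IBf_left x h hf'' Z'.1 Z''.1 hc))
    (Subtype.ext (comap_IBf_right x h hf'' Z'.1 Z''.1 hc))

theorem cmp_injective (h : IsFibreProd p' p'' f' f'') :
    Function.Injective (cmp (localHilb X x I₀) h) := by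
  intro Z₁ Z₂ he
  have e1 : Z₁.1.comap (XAmap x p') = Z₂.1.comap (XAmap x p') :=
    congrArg (fun w : FibProd (localHilb X x I₀) f' f'' => w.1.1.1) he
  have e2 : Z₁.1.comap (XAmap x p'') = Z₂.1.comap (XAmap x p'') :=
    congrArg (fun w : FibProd (localHilb X x I₀) f' f'' => w.1.2.1) he
  apply Subtype.ext
  refine Scheme.IdealSheafData.ext_of_iSup_eq_top
    (fun U : X.affineOpens => ⟨WW x B U.1, isAffineOpen_WW x B U.2⟩) (iSup_WW x B) ?_
  intro U
  show Z₁.1.ideal ⟨WW x B U.1, isAffineOpen_WW x B U.2⟩ =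
    Z₂.1.ideal ⟨WW x B U.1, isAffineOpen_WW x B U.2⟩
  rw [ideal_eq_inf x h.inj Z₁.1 Z₁.2.1 Z₁.2.2 U.1 U.2, ideal_eq_inf x h.inj Z₂.1 Z₂.2.1 Z₂.2.2 U.1 U.2,
    e1, e2]

theorem flatOver_base (I : (XA x (base k k)).IdealSheafData) : FlatOver X x (base k k) I := by
  unfold FlatOver
  exact flat_x (k := k) (I.subschemeι ≫ XApr x (base k k))

theorem ideal_eq_comap_rho_of_base (I : (XA x (base k k)).IdealSheafData)
    (h0 : I.comap (XAincl x (base k k)) = I₀) (U : X.Opens) (hU : IsAffineOpen U) :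
    I.ideal ⟨WW x (base k k) U, isAffineOpen_WW x (base k k) hU⟩ =
      (I₀.ideal ⟨U, hU⟩).comap (rho x (base k k) U) := by
  have h1 := ideal_comap_rho x (base k k) I U hU
  rw [h0] at h1
  have hm : IsLocalRing.maximalIdeal (base k k) = ⊥ := by
    rw [eq_bot_iff]
    intro a ha
    exact Ideal.mem_bot.2 ((mem_maximalIdeal_iff (base k k) a).1 ha)
  have hk : RingHom.ker (rho x (base k k) U) = ⊥ := by
    rw [ker_rho x (base k k) U hU, hm, Ideal.map_bot]
  rw [h1, Ideal.comap_map_of_surjective _ (rho_surjective x (base k k) U),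
    ← RingHom.ker_eq_comap_bot, hk, sup_bot_eq]

theorem h0_localHilb : H0 (localHilb X x I₀) := by
  refine ⟨⟨⟨I₀.comap (pullback.fst x (specOver (base k k))), flatOver_base X x _, ?_⟩⟩,
    ⟨fun Z₁ Z₂ => ?_⟩⟩
  · rw [← Scheme.IdealSheafData.comap_comp, XAincl_fst, Scheme.IdealSheafData.comap_id]
  · apply Subtype.ext
    refine Scheme.IdealSheafData.ext_of_iSup_eq_top
      (fun U : X.affineOpens => ⟨WW x (base k k) U.1, isAffineOpen_WW x (base k k) U.2⟩)
      (iSup_WW x (base k k)) ?_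
    intro U
    show Z₁.1.ideal ⟨WW x (base k k) U.1, isAffineOpen_WW x (base k k) U.2⟩ =
      Z₂.1.ideal ⟨WW x (base k k) U.1, isAffineOpen_WW x (base k k) U.2⟩
    rw [ideal_eq_comap_rho_of_base X x I₀ Z₁.1 Z₁.2.2 U.1 U.2,
      ideal_eq_comap_rho_of_base X x I₀ Z₂.1 Z₂.2.2 U.1 U.2]

theorem conditions : H0 (localHilb X x I₀) ∧ Heps (localHilb X x I₀) ∧
    Hbar (localHilb X x I₀) ∧ HSq (localHilb X x I₀) := by
  refine ⟨h0_localHilb X x I₀, ?_, ?_, ?_⟩
  · intro B A' p' p'' h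
    exact ⟨cmp_injective X x I₀ h, cmp_surjective X x I₀ h (dual k k).res_surjective⟩
  · intro B A A' A'' p' p'' f' f'' h hs
    exact cmp_surjective X x I₀ h hs.1
  · intro B A A' p₁ p₂ f h hs
    exact ⟨cmp_injective X x I₀ h, cmp_surjective X x I₀ h hs.1⟩

end Main

end Groth.Agent.Lib.Helper1.AH
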