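import Groth.Agent.Lib.Helper1.AH8
import Groth.Agent.Lib.Helper1.ArtFunInduct
import Groth.Agent.Lib.Lead.SD.ExtTwist
import Groth.Agent.Lib.Helper25.HypTwist3
import Groth.Agent.Lib.Helper25.HypCoh1
import Groth.Agent.Lib.Helper16.ExtVanish
import Groth.Agent.Lib.Helper16.GorAnn

/-!
# Embedded deformations of hypersurfaces in projective space are unobstructed
-/

universe u

open CategoryTheory CategoryTheory.Limits AlgebraicGeometry Opposite TopologicalSpace
open ArtFun ArtFun.Art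

namespace Groth.Agent.Lib.Helper1.AH

/-- `Ext¹(I₀, O/I₀) = 0` makes the local Hilbert functor smooth (no finiteness hypothesis). -/
theorem isSmoothFunctor_localHilb {k : Type u} [Field k] (X : Scheme.{u}) (x : X ⟶ specPt k)
    (I₀ : X.IdealSheafData) [HasExt.{u} X.Modules]
    (h : Subsingleton (Abelian.Ext.{u} (ClSub.idealMod I₀) (ClSub.quotMod I₀) 1)) :
    IsSmoothFunctor (localHilb X x I₀) := by
  intro B A μ hμ
  refine Groth.Agent.Lib.Helper1.ArtFunLib.surjective_induction (Λ := k) (k := k)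
    (fun A B f => Function.Surjective ((localHilb X x I₀).map f)) ?_ ?_ ?_ μ hμ
  · intro A B e he
    haveI := he
    intro z
    exact ⟨(localHilb X x I₀).map (inv e) z,
      Groth.Agent.Lib.Helper1.ArtFunLib.map_map_inv (localHilb X x I₀) e z⟩
  · intro A B q hq I
    obtain ⟨IB', hflat, hcomap⟩ := exists_lift_small x q I.1 I₀ h hq I.2.1 I.2.2
    refine ⟨⟨IB', hflat, ?_⟩, Subtype.ext hcomap⟩
    rw [← XAincl_XAmap x q, Scheme.IdealSheafData.comap_comp, hcomap, I.2.2]
  · intro A B C q r hq hr z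
    obtain ⟨y, hy⟩ := hr z
    obtain ⟨w, hw⟩ := hq y
    refine ⟨w, ?_⟩
    rw [(localHilb X x I₀).map_comp_apply, hw, hy]

/-- If the ideal sheaf is isomorphic to `L` with `Ext¹(L, O) = 0 = Ext²(L, L)` then
`Ext¹(I, O/I) = 0`. -/
theorem subsingleton_ext_of_twist {X : Scheme.{u}} [HasExt.{u} X.Modules] (I : X.IdealSheafData)
    (L : X.Modules) (e : ClSub.idealMod I ≅ L)
    (h1 : Subsingleton (Abelian.Ext.{u} L (Coh.structureModule X) 1))
    (h2 : Subsingleton (Abelian.Ext.{u} L L 2)) :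
    Subsingleton (Abelian.Ext.{u} (ClSub.idealMod I) (ClSub.quotMod I) 1) := by
  apply Groth.Agent.Lib.Helper16.Depth.subsingleton_ext_of_iso_left e
  have hS := Groth.Agent.Lib.Helper25.HypTwist.shortExact_idealSeq I
  have h2' : Subsingleton (Abelian.Ext.{u} L (ClSub.idealMod I) 2) :=
    Groth.Agent.Lib.Helper16.GorAnn.subsingleton_ext_of_iso_right L e 2 h2
  refine ⟨fun a b => ?_⟩
  suffices hz : ∀ x : Abelian.Ext.{u} L (ClSub.quotMod I) 1, x = 0 by rw [hz a, hz b]
  intro x3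
  obtain ⟨x2, hx2⟩ := Abelian.Ext.covariant_sequence_exact₃ L hS x3 (rfl : 1 + 1 = 2)
    (@Subsingleton.elim _ h2' _ _)
  have hx20 : x2 = 0 := @Subsingleton.elim _ h1 _ _
  rw [← hx2, hx20, Abelian.Ext.zero_comp]

/-- `Ext¹(I, O/I) = 0` for the ideal sheaf of a hypersurface of degree `d ≥ 1` in `P^n_k`. -/
theorem subsingleton_ext_hypersurface (k : Type u) [Field k] (n d : ℕ) (hd : 1 ≤ d)
    (F : LefPen.Form n k d) (hF : F ≠ 0) [HasExt.{u} (CohB1.ProjSpace n k).Modules] :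
    Subsingleton (Abelian.Ext.{u} (ClSub.idealMod (LefPen.hypIdeal F))
      (ClSub.quotMod (LefPen.hypIdeal F)) 1) := by
  obtain ⟨e⟩ := Groth.Agent.Lib.Helper25.HypTwist.nonempty_idealMod_iso_twist F hF
  obtain ⟨e0⟩ := Groth.Agent.Lib.Lead.Pn.nonempty_unit_iso_twist_zero (CohB1.polyGrading n k)
  have e0' : Coh.structureModule (CohB1.ProjSpace n k) ≅ Twist.twistProjSpace n k 0 := e0
  have h1 : Subsingleton (Abelian.Ext.{u} (Twist.twistProjSpace n k (-(d : ℤ)))
      (Coh.structureModule (CohB1.ProjSpace n k)) 1) := by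
    apply Groth.Agent.Lib.Helper16.GorAnn.subsingleton_ext_of_iso_right _ e0' 1
    apply Groth.Agent.Lib.Lead.SD.subsingleton_ext_twist n k (-(d : ℤ)) 0 1 le_rfl
    rintro ⟨-, h⟩
    omega
  have h2 : Subsingleton (Abelian.Ext.{u} (Twist.twistProjSpace n k (-(d : ℤ)))
      (Twist.twistProjSpace n k (-(d : ℤ))) 2) := by
    apply Groth.Agent.Lib.Lead.SD.subsingleton_ext_twist n k (-(d : ℤ)) (-(d : ℤ)) 2 (by norm_num)
    rintro ⟨-, h⟩
    omega
  exact subsingleton_ext_of_twist (LefPen.hypIdeal F) _ e h1 h2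

end Groth.Agent.Lib.Helper1.AH
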