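import Mathlib
import Groth.Prelude.Def_ArtFun3
import Groth.Agent.Lib.Helper1.ArtFunDef

/-!
# Criterion for smoothness of morphisms of deformation functors
-/
universe u v
open CategoryTheory

namespace Groth.Agent.Lib.Helper1.ArtFunLib

open ArtFun ArtFun.Art

variable {Λ : Type u} {k : Type u} [CommRing Λ] [Field k] [Algebra Λ k]

variable {F G : Art Λ k ⥤ Type v}

section Action

variable {B P : Art Λ k} {p₁ : P ⟶ B} {g : P ⟶ dual Λ k}

/-- the tangent action is natural -/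
lemma app_actElt (hF0 : H0 F) (hF2 : Heps F) (hG0 : H0 G) (hG2 : Heps G) (φ : F ⟶ G)
    (h' : IsFibreProd p₁ g (toBase B) (toBase (dual Λ k))) (y : F.obj B) (θ : F.obj (dual Λ k)) :
    φ.app P (actElt hF0 hF2 h' y θ) = actElt hG0 hG2 h' (φ.app B y) (φ.app _ θ) := by
  apply (hG2 p₁ g h').1
  apply FibProd.ext
  · change G.map p₁ (φ.app P (actElt hF0 hF2 h' y θ)) = G.map p₁ (actElt hG0 hG2 h' (φ.app B y) (φ.app _ θ))
    rw [← nat_apply, actElt_fst, actElt_fst]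
  · change G.map g (φ.app P (actElt hF0 hF2 h' y θ)) = G.map g (actElt hG0 hG2 h' (φ.app B y) (φ.app _ θ))
    rw [← nat_apply, actElt_snd, actElt_snd]

end Action

/-- a smooth morphism of functors with `G(k)` a point and `F(k)` nonempty is surjective on tangent spaces -/
theorem tangent_surjective_of_isSmooth (hF0 : H0 F) (hG0 : H0 G) (f : F ⟶ G) (hf : IsSmooth f) :
    Function.Surjective (TangentSpace.map f) := by
  apply surjective_app_of_isSmooth f hf
  intro y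
  obtain ⟨x⟩ := hF0.1
  exact ⟨x, @Subsingleton.elim _ hG0.2 _ _⟩

section

variable [IsNoetherianRing Λ] [Module.Finite Λ k]

/-- criterion for smoothness: surjective on tangent spaces + lifting -/
theorem isSmooth_of_tangent_surjective_of_lifts (hF0 : H0 F) (hF2 : Heps F) (hG0 : H0 G) (hG2 : Heps G)
    (hG1 : Hbar G) (f : F ⟶ G) (hd : Function.Surjective (TangentSpace.map f))
    (hl : ∀ ⦃A' A : Art Λ k⦄ (μ : A' ⟶ A), IsSmallExt μ → ∀ x : F.obj A,
          (∃ y' : G.obj A', G.map μ y' = f.app A x) → ∃ x' : F.obj A', F.map μ x' = x) :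
    IsSmooth f := by
  apply isSmooth_of_smallExt
  intro A' A μ hμ
  rw [surjective_relCmp_iff]
  intro x y' e
  obtain ⟨x', hx'⟩ := hl μ hμ x ⟨y', e.symm⟩
  obtain ⟨P, π₁, π₂, hP⟩ := exists_isFibreProd_of_surjective μ μ hμ.1
  obtain ⟨t, ht⟩ := exists_generator hμ
  have h' := isFibreProd_deltaHom hμ ht hP
  have e' : G.map μ (f.app A' x') = G.map μ y' := by
    rw [← nat_apply, hx', e]
  obtain ⟨θ, hθ⟩ := act_transitive hG0 hG2 hG1 hμ hP h' (f.app A' x') y' e'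
  obtain ⟨θ', hθ'⟩ := hd θ
  have hθ'' : f.app _ θ' = θ := hθ'
  refine ⟨F.map π₂ (actElt hF0 hF2 h' x' θ'), ?_, ?_⟩
  · rw [map_act hF0 hF2 hP h', hx']
  · rw [nat_apply, app_actElt hF0 hF2 hG0 hG2 f h', hθ'', hθ]

/-- smoothness criterion as an iff -/
theorem isSmooth_iff_tangent_surjective_and_lifts (hF0 : H0 F) (hF2 : Heps F) (hG0 : H0 G) (hG2 : Heps G)
    (hG1 : Hbar G) (f : F ⟶ G) :
    IsSmooth f ↔
      (Function.Surjective (TangentSpace.map f) ∧
        ∀ ⦃A' A : Art Λ k⦄ (μ : A' ⟶ A), IsSmallExt μ → ∀ x : F.obj A,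
          (∃ y' : G.obj A', G.map μ y' = f.app A x) → ∃ x' : F.obj A', F.map μ x' = x) := by
  constructor
  · intro hf
    refine ⟨tangent_surjective_of_isSmooth hF0 hG0 f hf, ?_⟩
    intro A' A μ hμ x ⟨y', hy'⟩
    obtain ⟨z, hz, -⟩ := (isSmooth_iff f).1 hf μ hμ.1 x y' hy'.symm
    exact ⟨z, hz⟩
  · rintro ⟨hd, hl⟩
    exact isSmooth_of_tangent_surjective_of_lifts hF0 hF2 hG0 hG2 hG1 f hd hl

/-- if `φ ≫ ψ` is smooth and `φ` is surjective on tangent spaces then `φ` is smooth -/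
theorem isSmooth_of_comp_smooth_of_tangent_surjective {H : Art Λ k ⥤ Type v}
    (hF0 : H0 F) (hF2 : Heps F) (hG0 : H0 G) (hG2 : Heps G)
    (hG1 : Hbar G) (φ : F ⟶ G) (ψ : G ⟶ H) (hd : Function.Surjective (TangentSpace.map φ))
    (hs : IsSmooth (φ ≫ ψ)) : IsSmooth φ := by
  apply isSmooth_of_tangent_surjective_of_lifts hF0 hF2 hG0 hG2 hG1 φ hd
  intro A' A μ hμ x ⟨y', hy'⟩
  obtain ⟨z, hz, -⟩ := (isSmooth_iff (φ ≫ ψ)).1 hs μ hμ.1 x (ψ.app A' y') (by
    rw [comp_app_apply, ← hy', nat_apply])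
  exact ⟨z, hz⟩

end

end Groth.Agent.Lib.Helper1.ArtFunLib
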