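import Mathlib
import Groth.Prelude.Def_ArtFun3
import Groth.Agent.Lib.Helper1.ArtFunSmoothCrit

/-!
# `k[ε] → k` is a small extension; modifying a lift by a tangent vector
-/
universe u v
open CategoryTheory

namespace Groth.Agent.Lib.Helper1.ArtFunLib

open ArtFun ArtFun.Art

variable {Λ : Type u} {k : Type u} [CommRing Λ] [Field k] [Algebra Λ k]

section Pure

variable (k)

lemma dualNumber_eq_mul_eps (x : DualNumber k) (hx : x.fst = 0) :
    TrivSqZeroExt.inl x.snd * (TrivSqZeroExt.inr 1 : DualNumber k) = x := by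
  apply TrivSqZeroExt.ext
  · rw [TrivSqZeroExt.fst_mul, TrivSqZeroExt.fst_inr, mul_zero, hx]
  · rw [TrivSqZeroExt.snd_mul, TrivSqZeroExt.fst_inl, TrivSqZeroExt.snd_inl, TrivSqZeroExt.snd_inr,
      TrivSqZeroExt.fst_inr]
    simp

lemma dualNumber_mul_eq_zero (a b : DualNumber k) (ha : a.fst = 0) (hb : b.fst = 0) : a * b = 0 := by
  apply TrivSqZeroExt.ext
  · rw [TrivSqZeroExt.fst_mul, ha, zero_mul, TrivSqZeroExt.fst_zero]
  · rw [TrivSqZeroExt.snd_mul, ha, hb]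
    simp

end Pure

/-- `ε ∈ k[ε]` -/
def epsD : (dual Λ k : Type u) := (TrivSqZeroExt.inr (1 : k) : DualNumber k)

lemma mem_ker_toBase_dual (x : dual Λ k) :
    x ∈ RingHom.ker (toBase (dual Λ k)).toAlgHom ↔ TrivSqZeroExt.fst (x : DualNumber k) = 0 := by
  rw [RingHom.mem_ker]
  rfl

theorem isSmallExt_toBase_dual : IsSmallExt (toBase (dual Λ k)) := by
  have hε : (epsD : dual Λ k) ∈ RingHom.ker (toBase (dual Λ k)).toAlgHom := by
    rw [mem_ker_toBase_dual]
    exact TrivSqZeroExt.fst_inr k (1 : k)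
  have hker : RingHom.ker (toBase (dual Λ k)).toAlgHom = Ideal.span {(epsD : dual Λ k)} := by
    apply le_antisymm
    · intro x hx
      rw [mem_ker_toBase_dual] at hx
      exact Ideal.mem_span_singleton'.2 ⟨(TrivSqZeroExt.inl (TrivSqZeroExt.snd (x : DualNumber k)) : DualNumber k),
        dualNumber_eq_mul_eps k x hx⟩
    · exact (Ideal.span_singleton_le_iff_mem _).2 hε
  refine ⟨(dual Λ k).res_surjective, ?_, ?_, ?_⟩
  · intro h
    rw [h] at hε
    have h0 : (TrivSqZeroExt.inr (1 : k) : DualNumber k) = 0 := hε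
    have := congrArg TrivSqZeroExt.snd h0
    rw [TrivSqZeroExt.snd_inr, TrivSqZeroExt.snd_zero] at this
    exact one_ne_zero this
  · rw [hker]
    exact ⟨⟨_, rfl⟩⟩
  · rw [eq_bot_iff, Ideal.mul_le]
    intro a ha b hb
    rw [Ideal.mem_bot]
    have ha' : TrivSqZeroExt.fst (a : DualNumber k) = 0 := (mem_maximalIdeal_iff (dual Λ k) a).1 ha
    have hb' : TrivSqZeroExt.fst (b : DualNumber k) = 0 := (mem_ker_toBase_dual b).1 hb
    exact dualNumber_mul_eq_zero k a b ha' hb'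

section Modify

variable [IsNoetherianRing Λ] [Module.Finite Λ k]

variable {F : Art Λ k ⥤ Type v}

/-- If `f : R' → R₁` lifts `g` along the small extension `π₁`, `a₁` lies over `a = F(g) a'` and every tangent
vector is induced from `a` by a map `R → k[ε]`, then `f` may be modified to send `a'` to `a₁`. -/
theorem exists_lift_with_elt (h0 : H0 F) (h1 : Hbar F) (h2 : Heps F)
    {R R₁ R' : Art Λ k} (π₁ : R₁ ⟶ R) (hπ : IsSmallExt π₁) (g : R' ⟶ R)
    (a : F.obj R) (a₁ : F.obj R₁) (a' : F.obj R') (ha₁ : F.map π₁ a₁ = a) (ha' : F.map g a' = a)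
    (hvers : ∀ θ : F.obj (dual Λ k), ∃ φ : R ⟶ dual Λ k, F.map φ a = θ)
    (f : R' ⟶ R₁) (hf : f ≫ π₁ = g) : ∃ f' : R' ⟶ R₁, f' ≫ π₁ = g ∧ F.map f' a' = a₁ := by
  obtain ⟨P, p₁, p₂, hP⟩ := exists_isFibreProd_of_surjective π₁ π₁ hπ.1
  obtain ⟨t, ht⟩ := exists_generator hπ
  have h' := isFibreProd_deltaHom hπ ht hP
  have e' : F.map π₁ (F.map f a') = F.map π₁ a₁ := by
    rw [← F.map_comp_apply, hf, ha', ha₁]
  obtain ⟨θ, hθ⟩ := act_transitive h0 h2 h1 hπ hP h' (F.map f a') a₁ e'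
  obtain ⟨φ, hφ⟩ := hvers θ
  have ecompat : f ≫ toBase R₁ = (g ≫ φ) ≫ toBase (dual Λ k) := by
    rw [eq_toBase (f ≫ toBase R₁), eq_toBase ((g ≫ φ) ≫ toBase (dual Λ k))]
  set l : R' ⟶ P := fpLiftHom h' f (g ≫ φ) ecompat with hl
  have hl1 : l ≫ p₁ = f := fpLiftHom_fst h' _ _ ecompat
  have hl2 : l ≫ deltaHom hπ ht hP = g ≫ φ := fpLiftHom_snd h' _ _ ecompat
  have hla : F.map l a' = actElt h0 h2 h' (F.map f a') θ := by
    apply (h2 p₁ _ h').1
    apply FibProd.ext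
    · change F.map p₁ (F.map l a') = F.map p₁ (actElt h0 h2 h' (F.map f a') θ)
      rw [← F.map_comp_apply, hl1, actElt_fst]
    · change F.map (deltaHom hπ ht hP) (F.map l a') = F.map (deltaHom hπ ht hP) (actElt h0 h2 h' (F.map f a') θ)
      rw [← F.map_comp_apply, hl2, actElt_snd, F.map_comp_apply, ha', hφ]
  refine ⟨l ≫ p₂, ?_, ?_⟩
  · rw [Category.assoc, ← hP.w, ← Category.assoc, hl1, hf]
  · rw [F.map_comp_apply, hla, hθ]

end Modify

end Groth.Agent.Lib.Helper1.ArtFunLib
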