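import Groth.Agent.Lib.Helper1.AH11
import Groth.Agent.Lib.Helper1.ArtFunDualSmall
import Groth.Prelude.Def_KLin

/-!
# The tangent space of the local Hilbert functor embeds linearly into `Hom(I₀, O_X / I₀)`
-/

universe u

open CategoryTheory CategoryTheory.Limits AlgebraicGeometry Opposite TopologicalSpace
open ArtFun ArtFun.Art
open Groth.Agent.Lib.Helper29.QCoh Groth.Agent.Lib.Helper3
open Groth.Agent.Lib.Helper1.ArtFunLib

namespace Groth.Agent.Lib.Helper1.AH

section Alg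

variable {B N S₁ S₂ S₃ R Q : Type*} [CommRing B] [CommRing N] [CommRing S₁] [CommRing S₂]
  [CommRing S₃] [CommRing R] [CommRing Q]
  {𝔪 : Ideal B} {t : B} {φ : B →+* N} {σ₁ : N →+* S₁} {σ₂ : N →+* S₂} {σ₃ : N →+* S₃}
  {ρ : N →+* R} {π : R →+* Q}

/-- The difference homomorphisms compose additively. -/
theorem Rel.trans (H₂₃ : Hyp 𝔪 t φ σ₂ σ₃ ρ π) (ht : t ∈ 𝔪) {s : R} {q q' : Q}
    (h : Rel t φ σ₁ σ₂ ρ π s q) (h' : Rel t φ σ₂ σ₃ ρ π s q') :
    Rel t φ σ₁ σ₃ ρ π s (q + q') := by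
  obtain ⟨f₁, f₂, g, h1, h2, h3, h4, h5⟩ := h
  obtain ⟨f₃, hf₃, z, hz, hfz⟩ :=
    Submodule.mem_sup.1 (H₂₃.le_sup (show f₂ ∈ RingHom.ker σ₂ from h2))
  obtain ⟨g', rfl⟩ := Ideal.mem_span_singleton'.1 hz
  have hρt : ρ (φ t) = 0 := by
    have : φ t ∈ RingHom.ker ρ := by rw [H₂₃.kerρ]; exact Ideal.mem_map_of_mem φ ht
    exact this
  have hρf₂ : ρ f₂ = s := by
    have e : f₂ = f₁ - φ t * g := by rw [h4]; ring
    rw [e, map_sub, map_mul, hρt, zero_mul, sub_zero, h3]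
  have hrel : Rel t φ σ₂ σ₃ ρ π s (π (ρ g')) :=
    ⟨f₂, f₃, g', h2, hf₃, hρf₂, by rw [← hfz]; ring, rfl⟩
  have hq' : π (ρ g') = q' := Rel.unique H₂₃ hrel h'
  refine ⟨f₁, f₃, g + g', h1, hf₃, h3, ?_, ?_⟩
  · rw [h4, ← hfz]; ring
  · rw [map_add, map_add, h5, hq']

end Alg

section DualFacts

variable {k : Type u} [Field k]

theorem ker_toBase_dual :
    RingHom.ker (toBase (dual k k)).toAlgHom = Ideal.span {(epsD : dual k k)} := by
  apply le_antisymm
  · intro a ha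
    rw [mem_ker_toBase_dual] at ha
    exact Ideal.mem_span_singleton'.2
      ⟨(TrivSqZeroExt.inl (TrivSqZeroExt.snd (a : DualNumber k)) : DualNumber k),
        dualNumber_eq_mul_eps k a ha⟩
  · refine (Ideal.span_singleton_le_iff_mem _).2 ?_
    rw [mem_ker_toBase_dual]
    exact TrivSqZeroExt.fst_inr k (1 : k)

theorem maximalIdeal_dual :
    IsLocalRing.maximalIdeal (dual k k) = Ideal.span {(epsD : dual k k)} := by
  rw [← ker_toBase_dual]
  ext a
  rw [mem_maximalIdeal_iff, RingHom.mem_ker]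
  rfl

theorem epsD_mem : (epsD : dual k k) ∈ IsLocalRing.maximalIdeal (dual k k) := by
  rw [maximalIdeal_dual]; exact Ideal.subset_span rfl

/-- `ε₁ ∈ k[ε₁, ε₂]` -/
def eps1 : (dual2 k k : Type u) :=
  (TrivSqZeroExt.inr ((1 : k), (0 : k)) : TrivSqZeroExt k (k × k))

/-- `ε₂ ∈ k[ε₁, ε₂]` -/
def eps2 : (dual2 k k : Type u) :=
  (TrivSqZeroExt.inr ((0 : k), (1 : k)) : TrivSqZeroExt k (k × k))

/-- a constant of `k[ε]` -/
def inlD (c : k) : (dual k k : Type u) := (TrivSqZeroExt.inl c : DualNumber k)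

lemma tsze2_decomp (a : TrivSqZeroExt k (k × k)) (ha : a.fst = 0) :
    (TrivSqZeroExt.inl a.snd.1 : TrivSqZeroExt k (k × k)) * TrivSqZeroExt.inr ((1 : k), (0 : k)) +
      TrivSqZeroExt.inl a.snd.2 * TrivSqZeroExt.inr ((0 : k), (1 : k)) = a := by
  apply TrivSqZeroExt.ext
  · simp [ha]
  · refine Prod.ext ?_ ?_ <;> simp

theorem maximalIdeal_dual2_le :
    IsLocalRing.maximalIdeal (dual2 k k) ≤ Ideal.span {(eps1 : dual2 k k), eps2} := by
  intro a ha
  rw [mem_maximalIdeal_iff] at ha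
  rw [Ideal.mem_span_pair]
  exact ⟨(TrivSqZeroExt.inl (TrivSqZeroExt.snd (a : TrivSqZeroExt k (k × k))).1 :
      TrivSqZeroExt k (k × k)),
    (TrivSqZeroExt.inl (TrivSqZeroExt.snd (a : TrivSqZeroExt k (k × k))).2 :
      TrivSqZeroExt k (k × k)), tsze2_decomp a ha⟩

theorem pr₁_eps1 : (pr₁ : dual2 k k ⟶ dual k k) eps1 = epsD := rfl
theorem pr₁_eps2 : (pr₁ : dual2 k k ⟶ dual k k) eps2 = 0 := rfl
theorem pr₂_eps1 : (pr₂ : dual2 k k ⟶ dual k k) eps1 = 0 := rfl
theorem pr₂_eps2 : (pr₂ : dual2 k k ⟶ dual k k) eps2 = epsD := rfl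

theorem plus_eps1 : (plus : dual2 k k ⟶ dual k k) eps1 = epsD := by
  apply TrivSqZeroExt.ext
  · rfl
  · show (1 : k) + 0 = 1
    rw [add_zero]

theorem plus_eps2 : (plus : dual2 k k ⟶ dual k k) eps2 = epsD := by
  apply TrivSqZeroExt.ext
  · rfl
  · show (0 : k) + 1 = 1
    rw [zero_add]

theorem scale_epsD (c : k) : (scale c : dual k k ⟶ dual k k) epsD = inlD c * epsD := by
  have h := dualNumber_eq_mul_eps k ((scale c : dual k k ⟶ dual k k) epsD : DualNumber k) rfl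
  have e : TrivSqZeroExt.snd ((scale c : dual k k ⟶ dual k k) epsD : DualNumber k) = c := by
    show c • (1 : k) = c
    rw [smul_eq_mul, mul_one]
  rw [e] at h
  exact h.symm

theorem base_hom_ext {A : Art k k} (f g : base k k ⟶ A) : f = g := by
  apply Art.hom_ext
  apply AlgHom.ext
  intro c
  exact (f.toAlgHom.commutes c).trans (g.toAlgHom.commutes c).symm

end DualFacts

section Delta

variable {k : Type u} [Field k] {X : Scheme.{u}} (x : X ⟶ specPt k) (I₀ : X.IdealSheafData)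

theorem comap_toBase_eq (z₁ z₂ : (localHilb X x I₀).obj (dual k k)) :
    z₁.1.comap (XAmap x (toBase (dual k k))) = z₂.1.comap (XAmap x (toBase (dual k k))) :=
  congrArg Subtype.val (@Subsingleton.elim _ (h0_localHilb X x I₀).2
    ((localHilb X x I₀).map (toBase (dual k k)) z₁)
    ((localHilb X x I₀).map (toBase (dual k k)) z₂))

theorem hypD (z₁ z₂ : (localHilb X x I₀).obj (dual k k)) (U : X.Opens) (hU : IsAffineOpen U) :
    Hyp (IsLocalRing.maximalIdeal (dual k k)) (epsD : dual k k) (phi x (dual k k) U)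
      (sig x (dual k k) z₁.1 U) (sig x (dual k k) z₂.1 U) (rho x (dual k k) U) (pi0 I₀ U) :=
  hyp x (toBase (dual k k)) I₀ isSmallExt_toBase_dual epsD ker_toBase_dual z₁.1 z₂.1 z₁.2.1 z₂.2.1
    z₁.2.2 z₂.2.2 (comap_toBase_eq x I₀ z₁ z₂) U hU

/-- The difference homomorphism of two first-order deformations. -/
noncomputable def delta (z₁ z₂ : (localHilb X x I₀).obj (dual k k)) :
    ClSub.idealMod I₀ ⟶ ClSub.quotMod I₀ :=
  (affData (hypD x I₀ z₁ z₂)).hom

theorem delta_spec (z₁ z₂ : (localHilb X x I₀).obj (dual k k)) (U : X.Opens)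
    (hU : IsAffineOpen U) (m : Γ(ClSub.idealMod I₀, U)) :
    MRel x (dual k k) epsD z₁.1 z₂.1 I₀ U m ((delta x I₀ z₁ z₂).app U m) := by
  have h : (delta x I₀ z₁ z₂).app U m = tmap (hypD x I₀ z₁ z₂) U hU m :=
    AffHomData.hom_app _ U hU m
  rw [h]
  exact tmap_spec (hypD x I₀ z₁ z₂) U hU m

theorem delta_app_eq (z₁ z₂ : (localHilb X x I₀).obj (dual k k)) (U : X.Opens)
    (hU : IsAffineOpen U) {m : Γ(ClSub.idealMod I₀, U)} {q : Γ(ClSub.quotMod I₀, U)}
    (h : MRel x (dual k k) epsD z₁.1 z₂.1 I₀ U m q) : (delta x I₀ z₁ z₂).app U m = q :=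
  MRel.unique (hypD x I₀ z₁ z₂) U hU (delta_spec x I₀ z₁ z₂ U hU m) h

theorem delta_trans (z₁ z₂ z₃ : (localHilb X x I₀).obj (dual k k)) :
    delta x I₀ z₁ z₃ = delta x I₀ z₁ z₂ + delta x I₀ z₂ z₃ := by
  refine modulesHom_ext_aff fun U hU m => ?_
  refine delta_app_eq x I₀ z₁ z₃ U hU ?_
  have hsum : (delta x I₀ z₁ z₂ + delta x I₀ z₂ z₃).app U m =
      (delta x I₀ z₁ z₂).app U m + (delta x I₀ z₂ z₃).app U m := rfl
  rw [hsum]
  exact Rel.trans (hypD x I₀ z₂ z₃ U hU) epsD_mem (delta_spec x I₀ z₁ z₂ U hU m)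
    (delta_spec x I₀ z₂ z₃ U hU m)

theorem ideal_le_of_delta_eq_zero (z₁ z₂ : (localHilb X x I₀).obj (dual k k))
    (h0 : delta x I₀ z₁ z₂ = 0) (U : X.Opens) (hU : IsAffineOpen U) :
    z₁.1.ideal ⟨WW x (dual k k) U, isAffineOpen_WW x (dual k k) hU⟩ ≤
      z₂.1.ideal ⟨WW x (dual k k) U, isAffineOpen_WW x (dual k k) hU⟩ := by
  rw [← ker_sig x (dual k k) z₁.1 U hU, ← ker_sig x (dual k k) z₂.1 U hU]
  refine ker_le_of_rel_zero (hypD x I₀ z₁ z₂ U hU) fun s q hrel => ?_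
  have hs : s ∈ I₀.ideal ⟨U, hU⟩ := by
    obtain ⟨f₁, f₂, g, h1, h2, h3, h4, h5⟩ := hrel
    rw [← ker_pi0 I₀ U hU, (hypD x I₀ z₁ z₂ U hU).kerπ₁, ← h3]
    exact Ideal.mem_map_of_mem _ h1
  obtain ⟨m, hm⟩ := exists_idealModι_app_eq I₀ ⟨U, hU⟩ s hs
  have hM : MRel x (dual k k) epsD z₁.1 z₂.1 I₀ U m (toQ I₀ q) := by
    unfold MRel
    rw [hm]
    exact hrel
  have h1 := delta_app_eq x I₀ z₁ z₂ U hU hM
  rw [h0] at h1
  exact h1.symm

theorem eq_of_delta_eq (z z' t₀ : (localHilb X x I₀).obj (dual k k))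
    (h : delta x I₀ z t₀ = delta x I₀ z' t₀) : z = z' := by
  have h1 : delta x I₀ z z' = 0 := by
    have e := delta_trans x I₀ z z' t₀
    rw [h] at e
    exact add_right_cancel (b := delta x I₀ z' t₀) (by rw [zero_add]; exact e.symm)
  have h2 : delta x I₀ z' z = 0 := by
    have e := delta_trans x I₀ z' z t₀
    rw [← h] at e
    exact add_right_cancel (b := delta x I₀ z t₀) (by rw [zero_add]; exact e.symm)
  apply Subtype.ext
  refine Scheme.IdealSheafData.ext_of_iSup_eq_top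
    (fun U : X.affineOpens => ⟨WW x (dual k k) U.1, isAffineOpen_WW x (dual k k) U.2⟩)
    (iSup_WW x (dual k k)) ?_
  intro U
  exact le_antisymm (ideal_le_of_delta_eq_zero x I₀ z z' h1 U.1 U.2)
    (ideal_le_of_delta_eq_zero x I₀ z' z h2 U.1 U.2)

/-- The trivial deformation over `A`. -/
noncomputable def trivEl (A : Art k k) : (localHilb X x I₀).obj A :=
  (localHilb X x I₀).map (ofBase A) (Classical.choice (h0_localHilb X x I₀).1)

theorem map_trivEl {A B : Art k k} (g : A ⟶ B) :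
    (localHilb X x I₀).map g (trivEl x I₀ A) = trivEl x I₀ B := by
  unfold trivEl
  rw [← FunctorToTypes.map_comp_apply, base_hom_ext (ofBase A ≫ g) (ofBase B)]

theorem exists_mem_rho_eq {A : Art k k} (z : (localHilb X x I₀).obj A) (U : X.Opens)
    (hU : IsAffineOpen U) (s : Γ(X, U)) (hs : s ∈ I₀.ideal ⟨U, hU⟩) :
    ∃ n ∈ z.1.ideal ⟨WW x A U, isAffineOpen_WW x A hU⟩, rho x A U n = s := by
  have h1 := ideal_comap_rho x A z.1 U hU
  rw [z.2.2] at h1
  rw [h1] at hs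
  exact (Ideal.mem_map_iff_of_surjective (rho x A U) (rho_surjective x A U)).1 hs

theorem mrel_of_push {A : Art k k} (g : A ⟶ dual k k) (w w₀ : (localHilb X x I₀).obj A)
    (U : X.Opens) (hU : IsAffineOpen U) (m : Γ(ClSub.idealMod I₀, U))
    (n n₀ : Γ(XA x A, WW x A U)) (g' : Γ(XA x (dual k k), WW x (dual k k) U))
    (hn : n ∈ w.1.ideal ⟨WW x A U, isAffineOpen_WW x A hU⟩)
    (hn₀ : n₀ ∈ w₀.1.ideal ⟨WW x A U, isAffineOpen_WW x A hU⟩)
    (hs : rho x A U n = fromUnit ((ClSub.idealModι I₀).app U m))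
    (e : psiG x g U n = psiG x g U n₀ + phi x (dual k k) U epsD * g') :
    MRel x (dual k k) epsD ((localHilb X x I₀).map g w).1 ((localHilb X x I₀).map g w₀).1 I₀ U m
      (toQ I₀ (pi0 I₀ U (rho x (dual k k) U g'))) := by
  unfold MRel
  refine ⟨psiG x g U n, psiG x g U n₀, g', ?_, ?_, ?_, e, rfl⟩
  · show sig x (dual k k) (w.1.comap (XAmap x g)) U (psiG x g U n) = 0
    rw [← RingHom.mem_ker, ker_sig x (dual k k) _ U hU, ideal_comap_psiG x g w.1 U hU]
    exact Ideal.mem_map_of_mem _ hn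
  · show sig x (dual k k) (w₀.1.comap (XAmap x g)) U (psiG x g U n₀) = 0
    rw [← RingHom.mem_ker, ker_sig x (dual k k) _ U hU, ideal_comap_psiG x g w₀.1 U hU]
    exact Ideal.mem_map_of_mem _ hn₀
  · rw [rho_psiG, hs]

theorem delta_plus (w : (localHilb X x I₀).obj (dual2 k k)) :
    delta x I₀ ((localHilb X x I₀).map plus w) (trivEl x I₀ (dual k k)) =
      delta x I₀ ((localHilb X x I₀).map pr₁ w) (trivEl x I₀ (dual k k)) +
        delta x I₀ ((localHilb X x I₀).map pr₂ w) (trivEl x I₀ (dual k k)) := by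
  refine modulesHom_ext_aff fun U hU m => ?_
  have hsum : (delta x I₀ ((localHilb X x I₀).map pr₁ w) (trivEl x I₀ (dual k k)) +
      delta x I₀ ((localHilb X x I₀).map pr₂ w) (trivEl x I₀ (dual k k))).app U m =
      (delta x I₀ ((localHilb X x I₀).map pr₁ w) (trivEl x I₀ (dual k k))).app U m +
      (delta x I₀ ((localHilb X x I₀).map pr₂ w) (trivEl x I₀ (dual k k))).app U m := rfl
  rw [hsum]
  have hsI : fromUnit ((ClSub.idealModι I₀).app U m) ∈ I₀.ideal ⟨U, hU⟩ :=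
    idealModι_app_mem I₀ ⟨U, hU⟩ m
  obtain ⟨n, hn, hρn⟩ := exists_mem_rho_eq x I₀ w U hU _ hsI
  obtain ⟨n₀, hn₀, hρn₀⟩ := exists_mem_rho_eq x I₀ (trivEl x I₀ (dual2 k k)) U hU _ hsI
  have hker : n - n₀ ∈ RingHom.ker (rho x (dual2 k k) U) := by
    rw [RingHom.mem_ker, map_sub, hρn, hρn₀, sub_self]
  rw [ker_rho x (dual2 k k) U hU] at hker
  have hker2 : n - n₀ ∈
      Ideal.span {phi x (dual2 k k) U eps1, phi x (dual2 k k) U eps2} := by
    have := Ideal.map_mono (f := phi x (dual2 k k) U) maximalIdeal_dual2_le hker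
    rwa [Ideal.map_span, Set.image_pair] at this
  obtain ⟨m₁, m₂, hdec⟩ := Ideal.mem_span_pair.1 hker2
  have hn_eq : n = n₀ + m₁ * phi x (dual2 k k) U eps1 + m₂ * phi x (dual2 k k) U eps2 := by
    rw [add_assoc, hdec]; ring
  have hpush : ∀ g : dual2 k k ⟶ dual k k, psiG x g U n = psiG x g U n₀ +
      psiG x g U m₁ * phi x (dual k k) U (g eps1) +
      psiG x g U m₂ * phi x (dual k k) U (g eps2) := by
    intro g
    conv_lhs => rw [hn_eq]
    rw [map_add, map_add, map_mul, map_mul, psiG_phi, psiG_phi]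
  have e1 : psiG x pr₁ U n = psiG x pr₁ U n₀ +
      phi x (dual k k) U epsD * psiG x pr₁ U m₁ := by
    rw [hpush pr₁, pr₁_eps1, pr₁_eps2, map_zero, mul_zero, add_zero, mul_comm (psiG x pr₁ U m₁)]
  have e2 : psiG x pr₂ U n = psiG x pr₂ U n₀ +
      phi x (dual k k) U epsD * psiG x pr₂ U m₂ := by
    rw [hpush pr₂, pr₂_eps1, pr₂_eps2, map_zero, mul_zero, add_zero, mul_comm (psiG x pr₂ U m₂)]
  have e3 : psiG x plus U n = psiG x plus U n₀ +
      phi x (dual k k) U epsD * psiG x plus U (m₁ + m₂) := by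
    rw [hpush plus, plus_eps1, plus_eps2, map_add]; ring
  have r1 := mrel_of_push x I₀ pr₁ w (trivEl x I₀ (dual2 k k)) U hU m n n₀ _ hn hn₀ hρn e1
  have r2 := mrel_of_push x I₀ pr₂ w (trivEl x I₀ (dual2 k k)) U hU m n n₀ _ hn hn₀ hρn e2
  have r3 := mrel_of_push x I₀ plus w (trivEl x I₀ (dual2 k k)) U hU m n n₀ _ hn hn₀ hρn e3
  rw [map_trivEl] at r1 r2 r3
  rw [delta_app_eq x I₀ _ _ U hU r1, delta_app_eq x I₀ _ _ U hU r2,
    delta_app_eq x I₀ _ _ U hU r3, rho_psiG, rho_psiG, rho_psiG, map_add, map_add]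
  rfl

theorem delta_scale (c : k) (z : (localHilb X x I₀).obj (dual k k)) :
    delta x I₀ ((localHilb X x I₀).map (scale c) z) (trivEl x I₀ (dual k k)) =
      Formal.smulModΓ (ClSub.idealMod I₀) (Coh.toGlobal x c) ≫
        delta x I₀ z (trivEl x I₀ (dual k k)) := by
  refine modulesHom_ext_aff fun U hU m => ?_
  have hsI : fromUnit ((ClSub.idealModι I₀).app U m) ∈ I₀.ideal ⟨U, hU⟩ :=
    idealModι_app_mem I₀ ⟨U, hU⟩ m
  obtain ⟨n, hn, hρn⟩ := exists_mem_rho_eq x I₀ z U hU _ hsI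
  obtain ⟨n₀, hn₀, hρn₀⟩ := exists_mem_rho_eq x I₀ (trivEl x I₀ (dual k k)) U hU _ hsI
  have hker : n - n₀ ∈ RingHom.ker (rho x (dual k k) U) := by
    rw [RingHom.mem_ker, map_sub, hρn, hρn₀, sub_self]
  rw [ker_rho x (dual k k) U hU, maximalIdeal_dual, Ideal.map_span, Set.image_singleton] at hker
  obtain ⟨m₁, hdec⟩ := Ideal.mem_span_singleton'.1 hker
  have hn_eq : n = n₀ + phi x (dual k k) U epsD * m₁ := by
    rw [mul_comm, hdec]; ring
  have r0 : MRel x (dual k k) epsD z.1 (trivEl x I₀ (dual k k)).1 I₀ U m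
      (toQ I₀ (pi0 I₀ U (rho x (dual k k) U m₁))) := by
    unfold MRel
    refine ⟨n, n₀, m₁, ?_, ?_, hρn, hn_eq, rfl⟩
    · rw [← RingHom.mem_ker, ker_sig x (dual k k) _ U hU]; exact hn
    · rw [← RingHom.mem_ker, ker_sig x (dual k k) _ U hU]; exact hn₀
  have d0 := delta_app_eq x I₀ z (trivEl x I₀ (dual k k)) U hU r0
  have e1 : psiG x (scale c) U n = psiG x (scale c) U n₀ +
      phi x (dual k k) U epsD * (phi x (dual k k) U (inlD c) * psiG x (scale c) U m₁) := by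
    conv_lhs => rw [hn_eq]
    rw [map_add, map_mul, psiG_phi, scale_epsD, map_mul]; ring
  have r1 := mrel_of_push x I₀ (scale c) z (trivEl x I₀ (dual k k)) U hU m n n₀ _ hn hn₀ hρn e1
  rw [map_trivEl] at r1
  have d1 := delta_app_eq x I₀ ((localHilb X x I₀).map (scale c) z) (trivEl x I₀ (dual k k))
    U hU r1
  rw [d1]
  have hR : (Formal.smulModΓ (ClSub.idealMod I₀) (Coh.toGlobal x c) ≫
      delta x I₀ z (trivEl x I₀ (dual k k))).app U m =
      secMap x U c • (delta x I₀ z (trivEl x I₀ (dual k k))).app U m := by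
    show (delta x I₀ z (trivEl x I₀ (dual k k))).app U
      ((Formal.smulModΓ (ClSub.idealMod I₀) (Coh.toGlobal x c)).app U m) = _
    rw [KLin.smulModΓ_app_apply, Scheme.Modules.Hom.app_smul]
    rfl
  rw [hR, d0, map_mul, map_mul, rho_psiG, rho_phi]
  rfl

end Delta

section Fin

variable {k : Type u} [Field k] {X : Scheme.{u}} (x : X ⟶ specPt k) (I₀ : X.IdealSheafData)

/-- If `Hom(I₀, O_X / I₀)` is finite-dimensional then so is the tangent space of the local Hilbert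
functor. -/
theorem hfin_localHilb [X.Over (Spec (CommRingCat.of k))]
    (hx : X ↘ Spec (CommRingCat.of k) = x)
    [TS : TangentStr (localHilb X x I₀)] (heps : Heps (localHilb X x I₀))
    [hfin : Module.Finite k (ClSub.idealMod I₀ ⟶ ClSub.quotMod I₀)] :
    Hfin (localHilb X x I₀) := by
  have hadd : ∀ a b : TangentSpace (localHilb X x I₀),
      delta x I₀ (a + b) (trivEl x I₀ (dual k k)) =
        delta x I₀ a (trivEl x I₀ (dual k k)) + delta x I₀ b (trivEl x I₀ (dual k k)) := by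
    intro a b
    have hab : (localHilb X x I₀).map (toBase (dual k k)) a =
        (localHilb X x I₀).map (toBase (dual k k)) b :=
      @Subsingleton.elim _ (h0_localHilb X x I₀).2 _ _
    obtain ⟨w, hw⟩ := (heps pr₁ pr₂ isFibreProd_dual2).2 ⟨(a, b), hab⟩
    have h1 : (localHilb X x I₀).map pr₁ w = a :=
      congrArg (fun v : FibProd (localHilb X x I₀) (toBase (dual k k)) (toBase (dual k k)) =>
        v.1.1) hw
    have h2 : (localHilb X x I₀).map pr₂ w = b :=
      congrArg (fun v : FibProd (localHilb X x I₀) (toBase (dual k k)) (toBase (dual k k)) =>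
        v.1.2) hw
    have h3 : a + b = (localHilb X x I₀).map plus w := by
      have := TS.add_eq w
      rw [h1, h2] at this
      exact this
    rw [h3, delta_plus, h1, h2]
  have hsmul : ∀ (c : k) (a : TangentSpace (localHilb X x I₀)),
      delta x I₀ (c • a) (trivEl x I₀ (dual k k)) =
        c • delta x I₀ a (trivEl x I₀ (dual k k)) := by
    intro c a
    have h1 : c • a = (localHilb X x I₀).map (scale c) a := TS.smul_eq c a
    have h2 : delta x I₀ ((localHilb X x I₀).map (scale c) a) (trivEl x I₀ (dual k k)) =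
        Formal.smulModΓ (ClSub.idealMod I₀) (Coh.toGlobal x c) ≫
          delta x I₀ a (trivEl x I₀ (dual k k)) := delta_scale x I₀ c a
    rw [h1, h2, KLin.smul_def]
    unfold Formal.smulMod
    rw [hx]
  let L : TangentSpace (localHilb X x I₀) →ₗ[k] (ClSub.idealMod I₀ ⟶ ClSub.quotMod I₀) :=
    { toFun := fun a => delta x I₀ a (trivEl x I₀ (dual k k))
      map_add' := hadd
      map_smul' := hsmul }
  have hinj : Function.Injective L := fun a b hab => eq_of_delta_eq x I₀ a b _ hab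
  have : IsNoetherian k (ClSub.idealMod I₀ ⟶ ClSub.quotMod I₀) :=
    isNoetherian_of_isNoetherianRing_of_finite k _
  exact Module.Finite.of_injective L hinj

end Fin

end Groth.Agent.Lib.Helper1.AH
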