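import Groth.Agent.Lib.Helper1.AH13
import Groth.Agent.Lib.Helper12.Fin6
import Groth.Agent.Lib.Helper9.RefStalk2
import Groth.Agent.Lib.Helper29.Twist6
import Groth.Agent.Lib.Helper12.ModCons1
import Groth.Agent.Lib.Helper12.Dev2
import Groth.Agent.Lib.Helper12.Dev7
import Groth.Agent.Lib.Helper29.VA7
import Groth.Agent.S0019

/-!
# Finite-dimensionality of `Hom(F, G)` for coherent modules on a projective scheme over a field,
and of `Hom(I₀, O_Y / I₀)` for a projective closed subscheme
-/

universe u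

open CategoryTheory CategoryTheory.Limits AlgebraicGeometry Opposite TopologicalSpace
open Groth.Agent.Lib.Helper29.QCoh

namespace Groth.Agent.Lib.Helper1.AH

section HomFin

variable {A : Type u} [CommRing A] {X : Scheme.{u}} [X.Over (Spec (CommRingCat.of A))]
  (F G : X.Modules)

theorem ofHom_top_injective : Function.Injective (fun φ : F ⟶ G => RefHull.ofHom φ ⊤) := by
  intro φ ψ h
  have h' : RefHull.ofHom φ ⊤ = RefHull.ofHom ψ ⊤ := h
  refine Scheme.Modules.hom_ext _ _ fun U => ?_
  ext m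
  refine section_ext G _ _ fun x hx => ?_
  have h1 : RefHull.stalkMapₗ φ x = RefHull.stalkMapₗ ψ x :=
    congrArg (fun g : Γ(RefHull.homSh F G, ⊤) => g.1 ⟨x, trivial⟩) h'
  have e1 := RefHull.stalkMapₗ_germ φ x hx m
  have e2 := RefHull.stalkMapₗ_germ ψ x hx m
  rw [h1] at e1
  exact e1.symm.trans e2

theorem ofHom_add (φ ψ : F ⟶ G) (U : X.Opens) :
    RefHull.ofHom (φ + ψ) U = RefHull.ofHom φ U + RefHull.ofHom ψ U := by
  refine Subtype.ext (funext fun x => ?_)
  show RefHull.stalkMapₗ (φ + ψ) x.1 = RefHull.stalkMapₗ φ x.1 + RefHull.stalkMapₗ ψ x.1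
  apply LinearMap.ext
  intro v
  obtain ⟨W, hxW, m, rfl⟩ := TopCat.Presheaf.exists_germ_eq F.presheaf v
  rw [LinearMap.add_apply, RefHull.stalkMapₗ_germ, RefHull.stalkMapₗ_germ,
    RefHull.stalkMapₗ_germ]
  have : (φ + ψ).app W m = φ.app W m + ψ.app W m := rfl
  rw [this, map_add]

theorem ofHom_smul (r : Coh.Γtop X) (φ : F ⟶ G) :
    RefHull.ofHom (Formal.smulModΓ F r ≫ φ) ⊤ =
      (show Γ(X, ⊤) from r) • RefHull.ofHom φ ⊤ := by
  refine Subtype.ext (funext fun x => ?_)
  show RefHull.stalkMapₗ (Formal.smulModΓ F r ≫ φ) x.1 =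
    X.presheaf.germ ⊤ x.1 x.2 r • RefHull.stalkMapₗ φ x.1
  apply LinearMap.ext
  intro v
  obtain ⟨W, hxW, m, rfl⟩ := TopCat.Presheaf.exists_germ_eq F.presheaf v
  rw [LinearMap.smul_apply, RefHull.stalkMapₗ_germ, RefHull.stalkMapₗ_germ]
  have h1 : (Formal.smulModΓ F r ≫ φ).app W m =
      X.presheaf.map (homOfLE (le_top : W ≤ ⊤)).op r • φ.app W m := by
    show φ.app W ((Formal.smulModΓ F r).app W m) = _
    rw [KLin.smulModΓ_app_apply, Scheme.Modules.Hom.app_smul]
  rw [h1, Mero.germ_smul, TopCat.Presheaf.germ_res_apply]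

/-- `Hom(F, G)` embeds `A`-linearly into `H⁰` of the sheaf Hom. -/
noncomputable def homToHH : (F ⟶ G) →ₗ[A] Coh.HH X (RefHull.homSh F G) 0 where
  toFun φ := (hh0 (RefHull.homSh F G)).symm (RefHull.ofHom φ ⊤)
  map_add' φ ψ := by rw [ofHom_add, map_add]
  map_smul' a φ := by
    apply (hh0 (RefHull.homSh F G)).injective
    rw [AddEquiv.apply_symm_apply, RingHom.id_apply]
    have e : a • (hh0 (RefHull.homSh F G)).symm (RefHull.ofHom φ ⊤) =
        (Coh.toGlobal (X ↘ Spec (CommRingCat.of A)) a : Coh.Γtop X) •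
          (hh0 (RefHull.homSh F G)).symm (RefHull.ofHom φ ⊤) := rfl
    rw [e, hh0_smul, AddEquiv.apply_symm_apply]
    exact ofHom_smul F G _ φ

theorem finite_hom_of_finite_HH [IsNoetherianRing A]
    [h : Module.Finite A (Coh.HH X (RefHull.homSh F G) 0)] : Module.Finite A (F ⟶ G) := by
  have : IsNoetherian A (Coh.HH X (RefHull.homSh F G) 0) :=
    isNoetherian_of_isNoetherianRing_of_finite A _
  refine Module.Finite.of_injective (homToHH F G) fun φ ψ h => ?_
  have h' : (hh0 (RefHull.homSh F G)).symm (RefHull.ofHom φ ⊤) =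
      (hh0 (RefHull.homSh F G)).symm (RefHull.ofHom ψ ⊤) := h
  exact ofHom_top_injective F G ((hh0 (RefHull.homSh F G)).symm.injective h')

end HomFin

section Adj

variable {A : Type u} [CommRing A] {X Y : Scheme.{u}} [X.Over (Spec (CommRingCat.of A))]
  [Y.Over (Spec (CommRingCat.of A))] (i : X ⟶ Y) [i.IsOver (Spec (CommRingCat.of A))]
  (M : Y.Modules) (N : X.Modules)

/-- The adjunction bijection `Hom(M, i_* N) → Hom(i^* M, N)` is linear. -/
noncomputable def adjLin : (M ⟶ (Scheme.Modules.pushforward i).obj N) →ₗ[A]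
    ((Scheme.Modules.pullback i).obj M ⟶ N) where
  toFun f := ((Scheme.Modules.pullbackPushforwardAdjunction i).homEquiv M N).symm f
  map_add' f g := (Scheme.Modules.pullbackPushforwardAdjunction i).homAddEquiv_symm_add M N f g
  map_smul' a f := by
    show ((Scheme.Modules.pullbackPushforwardAdjunction i).homEquiv M N).symm (a • f) =
      a • ((Scheme.Modules.pullbackPushforwardAdjunction i).homEquiv M N).symm f
    have e1 : a • f = f ≫ (Scheme.Modules.pushforward i).map (a • 𝟙 N) := by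
      rw [Functor.map_smul, CategoryTheory.Functor.map_id, Linear.comp_smul, Category.comp_id]
    rw [e1, Adjunction.homEquiv_naturality_right_symm, Linear.comp_smul, Category.comp_id]

theorem finite_hom_push [IsNoetherianRing A]
    [h : Module.Finite A ((Scheme.Modules.pullback i).obj M ⟶ N)] :
    Module.Finite A (M ⟶ (Scheme.Modules.pushforward i).obj N) := by
  have : IsNoetherian A ((Scheme.Modules.pullback i).obj M ⟶ N) :=
    isNoetherian_of_isNoetherianRing_of_finite A _
  exact Module.Finite.of_injective (adjLin i M N) fun f g h =>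
    ((Scheme.Modules.pullbackPushforwardAdjunction i).homEquiv M N).symm.injective h

end Adj

section Main

open Groth.Agent.Lib.Helper12

theorem finite_hom_ideal_quot {k : Type u} [Field k] (Y : Scheme.{u})
    [Y.Over (Spec (CommRingCat.of k))] [LocallyOfFiniteType (Y ↘ Spec (CommRingCat.of k))]
    (I₀ : Y.IdealSheafData) [I₀.subscheme.Over (Spec (CommRingCat.of k))]
    (hX : I₀.subscheme ↘ Spec (CommRingCat.of k) =
      I₀.subschemeι ≫ (Y ↘ Spec (CommRingCat.of k)))
    (n : ℕ) (c : I₀.subscheme ⟶ CohB1.ProjSpaceOver n (Spec (CommRingCat.of k)))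
    [IsClosedImmersion c]
    (hk : c ≫ CohB1.ProjSpaceOver.toBase n (Spec (CommRingCat.of k)) =
      I₀.subscheme ↘ Spec (CommRingCat.of k)) :
    Module.Finite k (ClSub.idealMod I₀ ⟶ ClSub.quotMod I₀) := by
  haveI : I₀.subschemeι.IsOver (Spec (CommRingCat.of k)) := ⟨hX.symm⟩
  haveI : IsLocallyNoetherian Y :=
    LocallyOfFiniteType.isLocallyNoetherian (Y ↘ Spec (CommRingCat.of k))
  haveI : LocallyOfFiniteType (I₀.subscheme ↘ Spec (CommRingCat.of k)) := by
    rw [hX]; infer_instance
  haveI : IsLocallyNoetherian I₀.subscheme :=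
    LocallyOfFiniteType.isLocallyNoetherian (I₀.subscheme ↘ Spec (CommRingCat.of k))
  haveI : IsProper (I₀.subscheme ↘ Spec (CommRingCat.of k)) := by
    rw [← hk]; infer_instance
  have hq : Coh.IsCoh (ClSub.quotMod I₀) :=
    Groth.Agent.S0019.result I₀.subschemeι _ (H12Dev.isCoh_unitM I₀.subscheme)
  have hI : Coh.IsCoh (ClSub.idealMod I₀) :=
    H12Dev.isCoh_kernel (ClSub.toSubscheme I₀) (H12Dev.isCoh_unitM Y) hq
  have hC : Coh.IsCoh ((Scheme.Modules.pullback I₀.subschemeι).obj (ClSub.idealMod I₀)) :=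
    H12ConsP.isCoh_pullback _ _ hI
  have hH : Coh.IsCoh (RefHull.homSh ((Scheme.Modules.pullback I₀.subschemeι).obj
      (ClSub.idealMod I₀)) (Coh.structureModule I₀.subscheme)) :=
    Groth.Agent.Lib.Helper9.RefStalk.isCoh_homSh _ _ hC (H12Dev.isCoh_unitM I₀.subscheme)
  haveI : Module.Finite k (Coh.HH I₀.subscheme (RefHull.homSh
      ((Scheme.Modules.pullback I₀.subschemeι).obj (ClSub.idealMod I₀))
      (Coh.structureModule I₀.subscheme)) 0) :=
    H12Fin.module_finite_HH_of_immersion_projSpaceOver n k c hk _ hH 0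
  haveI : Module.Finite k ((Scheme.Modules.pullback I₀.subschemeι).obj (ClSub.idealMod I₀) ⟶
      Coh.structureModule I₀.subscheme) := finite_hom_of_finite_HH _ _
  exact finite_hom_push I₀.subschemeι (ClSub.idealMod I₀) (Coh.structureModule I₀.subscheme)

end Main

end Groth.Agent.Lib.Helper1.AH
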