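import Groth.Agent.Lib.Helper1.AH13

/-!
# Every homomorphism `I₀ ⟶ O_X / I₀` is a difference homomorphism of first-order deformations

Hence the tangent space of the local Hilbert functor is `k`-linearly isomorphic to
`Hom(I₀, O_X / I₀)`.
-/

universe u

open CategoryTheory CategoryTheory.Limits AlgebraicGeometry Opposite TopologicalSpace
open ArtFun ArtFun.Art
open Groth.Agent.Lib.Helper29.QCoh Groth.Agent.Lib.Helper3
open Groth.Agent.Lib.Helper1.ArtFunLib

namespace Groth.Agent.Lib.Helper1.AH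

section Surj

variable {k : Type u} [Field k] {X : Scheme.{u}} (x : X ⟶ specPt k) (I₀ : X.IdealSheafData)

/-- The point of `F(k)`. -/
noncomputable def zBase : (localHilb X x I₀).obj (base k k) :=
  Classical.choice (h0_localHilb X x I₀).1

/-- `k[ε] → k`. -/
noncomputable abbrev pE (k : Type u) [Field k] : dual k k ⟶ base k k := toBase (dual k k)

/-- The ideal of the subscheme over `k`. -/
noncomputable abbrev IE : (XA x (base k k)).IdealSheafData := (zBase x I₀).1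

instance isClosedImmersion_XAmap_pE : IsClosedImmersion (XAmap x (pE k)) :=
  isClosedImmersion_XAmap x _ (isSmallExt_toBase_dual : IsSmallExt (pE k)).1

theorem hypE (U : X.Opens) (hU : IsAffineOpen U) :
    Hyp2 (IsLocalRing.maximalIdeal (dual k k)) (epsD : dual k k)
      (pE k).toAlgHom.toRingHom (phi x (dual k k) U) (phiA x (pE k) U) (psi x (pE k) U)
      (sigA x (pE k) (IE x I₀) U) (rho x (dual k k) U) (pi0 I₀ U)
      (sigT x (pE k) (IE x I₀) U) :=
  hyp2 x (pE k) (IE x I₀) I₀ isSmallExt_toBase_dual epsD ker_toBase_dual (zBase x I₀).2.1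
    (zBase x I₀).2.2 U hU

theorem map_maximalIdeal_dual (U : X.Opens) :
    (IsLocalRing.maximalIdeal (dual k k)).map (phi x (dual k k) U) =
      Ideal.span {phi x (dual k k) U epsD} := by
  rw [maximalIdeal_dual, Ideal.map_span, Set.image_singleton]

theorem rho_phi_eps (U : X.Opens) (hU : IsAffineOpen U) :
    rho x (dual k k) U (phi x (dual k k) U epsD) = 0 := by
  have h3 : phi x (dual k k) U epsD ∈ RingHom.ker (rho x (dual k k) U) := by
    rw [ker_rho x (dual k k) U hU]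
    exact Ideal.mem_map_of_mem _ epsD_mem
  exact h3

theorem sigA_psi_eq_zero_of_pi {U : X.Opens} (hU : IsAffineOpen U)
    (n : Γ(XA x (dual k k), WW x (dual k k) U))
    (hn : pi0 I₀ U (rho x (dual k k) U n) = 0) :
    sigA x (pE k) (IE x I₀) U (psi x (pE k) U n) = 0 := by
  have H := hypE x I₀ U hU
  obtain ⟨j, hj, hnj⟩ := H.exists_of_pi_rho_eq_zero hn
  have h1 : n - j ∈ RingHom.ker (psi x (pE k) U) := by
    rw [H.kerψ, ← map_maximalIdeal_dual x U]
    exact hnj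
  rw [RingHom.mem_ker, map_sub, sub_eq_zero] at h1
  rw [h1]
  exact hj

/-- `Γ(X, U) → Γ(X_B, W_U)`. -/
noncomputable abbrev iotaW (B : Art k k) (U : X.Opens) : Γ(X, U) →+* Γ(XA x B, WW x B U) :=
  ((pullback.fst x (specOver B)).app U).hom

theorem rho_iotaW (B : Art k k) (U : X.Opens) (r : Γ(X, U)) :
    rho x B U (iotaW x B U r) = r := rho_fst_app x B U r

theorem iotaW_res (B : Art k k) {U V : X.Opens} (hVU : V ≤ U) (r : Γ(X, U)) :
    iotaW x B V ((X.presheaf.map (homOfLE hVU).op).hom r) =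
      ((XA x B).presheaf.map (homOfLE (WW_mono x B hVU)).op).hom (iotaW x B U r) :=
  app_map_apply (pullback.fst x (specOver B)) hVU r

/-- The function of a section of the ideal sheaf. -/
noncomputable def aOf {U : X.Opens} (m : Γ(ClSub.idealMod I₀, U)) : Γ(X, U) :=
  fromUnit ((ClSub.idealModι I₀).app U m)

theorem aOf_add {U : X.Opens} (m m' : Γ(ClSub.idealMod I₀, U)) :
    aOf I₀ (m + m') = aOf I₀ m + aOf I₀ m' := by
  unfold aOf
  rw [map_add]
  rfl

theorem aOf_smul {U : X.Opens} (r : Γ(X, U)) (m : Γ(ClSub.idealMod I₀, U)) :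
    aOf I₀ (r • m) = r * aOf I₀ m := by
  unfold aOf
  rw [Scheme.Modules.Hom.app_smul]
  rfl

theorem aOf_res {U V : X.Opens} (hVU : V ≤ U) (m : Γ(ClSub.idealMod I₀, U)) :
    aOf I₀ (res (ClSub.idealMod I₀) hVU m) = (X.presheaf.map (homOfLE hVU).op).hom (aOf I₀ m) := by
  unfold aOf
  rw [app_res]
  rfl

theorem pi0_aOf {U : X.Opens} (hU : IsAffineOpen U) (m : Γ(ClSub.idealMod I₀, U)) :
    pi0 I₀ U (aOf I₀ m) = 0 := by
  have := idealModι_app_mem I₀ ⟨U, hU⟩ m
  rw [← ker_pi0 I₀ U hU] at this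
  exact this

theorem sigA_psi_iotaW_aOf {U : X.Opens} (hU : IsAffineOpen U) (m : Γ(ClSub.idealMod I₀, U)) :
    sigA x (pE k) (IE x I₀) U (psi x (pE k) U (iotaW x (dual k k) U (aOf I₀ m))) = 0 := by
  apply sigA_psi_eq_zero_of_pi x I₀ hU
  rw [rho_iotaW]
  exact pi0_aOf I₀ hU m

/-- The graph of the section `I₀ → J / 𝔪 J`, `a ↦ [a]`. -/
def SRel (U : X.Opens) (m : Γ(ClSub.idealMod I₀, U)) (z : Γ(PP x (pE k) (IE x I₀), U)) : Prop :=
  vT x (pE k) (IE x I₀) z =
    sigT x (pE k) (IE x I₀) U (iotaW x (dual k k) U (aOf I₀ m))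

/-- The data of the section. -/
noncomputable def sData : RelData (ClSub.idealMod I₀) (PP x (pE k) (IE x I₀)) where
  Rl := SRel x I₀
  ex U hU m := exists_vT_eq x (pE k) (IE x I₀) hU _
    (Ideal.mem_map_of_mem _ (show iotaW x (dual k k) U (aOf I₀ m) ∈
      RingHom.ker ((sigA x (pE k) (IE x I₀) U).comp (psi x (pE k) U)) from
      sigA_psi_iotaW_aOf x I₀ hU m))
  uniq U hU := fun {m z z'} h h' => vT_injective x (pE k) (IE x I₀) (h.trans h'.symm)
  add U hU := fun {m m' z z'} h h' => by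
    unfold SRel at *
    rw [vT_add, h, h', aOf_add, map_add, map_add]
  smul U hU r := fun {m z} h => by
    unfold SRel at *
    rw [vT_smul_fst, h, aOf_smul, map_mul, map_mul]
    rfl
  res {U V} hU hV hVU := fun {m z} h => by
    unfold SRel at *
    rw [vT_res, h, aOf_res, iotaW_res]
    exact (app_map_apply (iT x (pE k) (IE x I₀)) (WW_mono x (dual k k) hVU) _).symm

/-- The section `I₀ → J / 𝔪 J`. -/
noncomputable def sHom : ClSub.idealMod I₀ ⟶ PP x (pE k) (IE x I₀) := (sData x I₀).hom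

theorem sHom_spec {U : X.Opens} (hU : IsAffineOpen U) (m : Γ(ClSub.idealMod I₀, U)) :
    SRel x I₀ U m ((sHom x I₀).app U m) := (sData x I₀).hom_spec U hU m

/-- `O_X / I₀ → J / 𝔪 J` for `k[ε] → k`. -/
noncomputable abbrev fE : ClSub.quotMod I₀ ⟶ PP x (pE k) (IE x I₀) :=
  fHom x (pE k) (IE x I₀) I₀ epsD (hypE x I₀)

/-- `J / 𝔪 J → I₀` for `k[ε] → k`. -/
noncomputable abbrev gE : PP x (pE k) (IE x I₀) ⟶ ClSub.idealMod I₀ :=
  gHom x (pE k) (IE x I₀) I₀ epsD (hypE x I₀)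

theorem sHom_gE : sHom x I₀ ≫ gE x I₀ = 𝟙 _ := by
  refine modulesHom_ext_aff fun U hU m => ?_
  change (gE x I₀).app U ((sHom x I₀).app U m) = m
  have hG : GRel x (pE k) (IE x I₀) I₀ U ((sHom x I₀).app U m) m := by
    unfold GRel GRelA
    exact ⟨iotaW x (dual k k) U (aOf I₀ m), sigA_psi_iotaW_aOf x I₀ hU m,
      (sHom_spec x I₀ hU m).symm, rho_iotaW x (dual k k) U _⟩
  exact (gData x (pE k) (IE x I₀) I₀ epsD (hypE x I₀)).hom_app_eq U hU hG

/-- The splitting of `0 → O/I₀ → J/𝔪J → I₀ → 0` for `k[ε] → k`. -/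
noncomputable def splitE :
    (ShortComplex.mk (fE x I₀) (gE x I₀)
      (fHom_gHom x (pE k) (IE x I₀) I₀ epsD (hypE x I₀))).Splitting :=
  ShortComplex.Splitting.ofExactOfSection _ (exact_fg x (pE k) (IE x I₀) I₀ epsD (hypE x I₀))
    (sHom x I₀) (sHom_gE x I₀) (mono_fHom x (pE k) (IE x I₀) I₀ epsD (hypE x I₀))

/-- The retraction. -/
noncomputable def r0 : PP x (pE k) (IE x I₀) ⟶ ClSub.quotMod I₀ := (splitE x I₀).r

theorem fE_r0 : fE x I₀ ≫ r0 x I₀ = 𝟙 _ := (splitE x I₀).f_r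

theorem sHom_r0 : sHom x I₀ ≫ r0 x I₀ = 0 := (splitE x I₀).s_r

/-- The retraction twisted by `φ`. -/
noncomputable def rE (φ : ClSub.idealMod I₀ ⟶ ClSub.quotMod I₀) :
    PP x (pE k) (IE x I₀) ⟶ ClSub.quotMod I₀ :=
  r0 x I₀ + gE x I₀ ≫ φ

theorem fE_rE (φ : ClSub.idealMod I₀ ⟶ ClSub.quotMod I₀) : fE x I₀ ≫ rE x I₀ φ = 𝟙 _ := by
  unfold rE
  have h2 : fE x I₀ ≫ gE x I₀ = 0 := fHom_gHom x (pE k) (IE x I₀) I₀ epsD (hypE x I₀)
  rw [Preadditive.comp_add, ← Category.assoc, fE_r0, h2, zero_comp, add_zero]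

theorem rE_app (φ : ClSub.idealMod I₀ ⟶ ClSub.quotMod I₀) {U : X.Opens}
    (z : Γ(PP x (pE k) (IE x I₀), U)) :
    (rE x I₀ φ).app U z = (r0 x I₀).app U z + φ.app U ((gE x I₀).app U z) := rfl

theorem r0_sHom_app {U : X.Opens} (m : Γ(ClSub.idealMod I₀, U)) :
    (r0 x I₀).app U ((sHom x I₀).app U m) = 0 := by
  have h := congrArg (fun f : ClSub.idealMod I₀ ⟶ ClSub.quotMod I₀ => f.app U m) (sHom_r0 x I₀)
  exact h

theorem r0_fE_app {U : X.Opens} (q : Γ(ClSub.quotMod I₀, U)) :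
    (r0 x I₀).app U ((fE x I₀).app U q) = q := by
  have h := congrArg (fun f : ClSub.quotMod I₀ ⟶ ClSub.quotMod I₀ => f.app U q) (fE_r0 x I₀)
  exact h

theorem gE_sHom_app {U : X.Opens} (m : Γ(ClSub.idealMod I₀, U)) :
    (gE x I₀).app U ((sHom x I₀).app U m) = m := by
  have h := congrArg (fun f : ClSub.idealMod I₀ ⟶ ClSub.idealMod I₀ => f.app U m) (sHom_gE x I₀)
  exact h

theorem gE_fE_app {U : X.Opens} (q : Γ(ClSub.quotMod I₀, U)) :
    (gE x I₀).app U ((fE x I₀).app U q) = 0 := by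
  have h := congrArg (fun f : ClSub.quotMod I₀ ⟶ ClSub.idealMod I₀ => f.app U q)
    (fHom_gHom x (pE k) (IE x I₀) I₀ epsD (hypE x I₀))
  exact h

theorem comap_XAincl_of_comap_pE (J : (XA x (dual k k)).IdealSheafData)
    (h : J.comap (XAmap x (pE k)) = IE x I₀) : J.comap (XAincl x (dual k k)) = I₀ := by
  rw [← XAincl_XAmap x (pE k), Scheme.IdealSheafData.comap_comp, h]
  exact (zBase x I₀).2.2

/-- The first-order deformation attached to `φ`. -/
noncomputable def zE (φ : ClSub.idealMod I₀ ⟶ ClSub.quotMod I₀) :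
    (localHilb X x I₀).obj (dual k k) :=
  ⟨IB x (pE k) (IE x I₀) I₀ epsD (rE x I₀ φ) (hypE x I₀),
    flatOver_IB x (pE k) (IE x I₀) I₀ epsD (rE x I₀ φ) (hypE x I₀) (fE_rE x I₀ φ),
    comap_XAincl_of_comap_pE x I₀ _
      (comap_IB x (pE k) (IE x I₀) I₀ epsD (rE x I₀ φ) (hypE x I₀) (fE_rE x I₀ φ))⟩

theorem mem_zE_iff (φ : ClSub.idealMod I₀ ⟶ ClSub.quotMod I₀) {U : X.Opens}
    (hU : IsAffineOpen U) (n : Γ(XA x (dual k k), WW x (dual k k) U)) :
    n ∈ (zE x I₀ φ).1.ideal ⟨WW x (dual k k) U, isAffineOpen_WW x (dual k k) hU⟩ ↔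
      IBmem x (pE k) (IE x I₀) I₀ (rE x I₀ φ) U n := by
  show n ∈ (IB x (pE k) (IE x I₀) I₀ epsD (rE x I₀ φ) (hypE x I₀)).ideal
    ⟨WW x (dual k k) U, isAffineOpen_WW x (dual k k) hU⟩ ↔ _
  rw [IB_ideal x (pE k) (IE x I₀) I₀ epsD (rE x I₀ φ) (hypE x I₀) U hU]
  rfl

theorem delta_zE0 (φ : ClSub.idealMod I₀ ⟶ ClSub.quotMod I₀) :
    delta x I₀ (zE x I₀ 0) (zE x I₀ φ) = φ := by
  refine modulesHom_ext_aff fun U hU m => ?_
  refine delta_app_eq x I₀ (zE x I₀ 0) (zE x I₀ φ) U hU ?_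
  obtain ⟨c, hc1, hc2⟩ := fHom_spec x (pE k) (IE x I₀) I₀ epsD (hypE x I₀) hU (φ.app U m)
  have hS := sHom_spec x I₀ hU m
  unfold SRel at hS
  have hρε := rho_phi_eps x U hU
  have hπa := pi0_aOf I₀ hU m
  unfold MRel
  refine ⟨iotaW x (dual k k) U (aOf I₀ m),
    iotaW x (dual k k) U (aOf I₀ m) - phi x (dual k k) U epsD * c, c, ?_, ?_,
    rho_iotaW x (dual k k) U (aOf I₀ m), by ring, hc1⟩
  · rw [← RingHom.mem_ker, ker_sig x (dual k k) _ U hU, mem_zE_iff x I₀ 0 hU]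
    refine ⟨sigA_psi_iotaW_aOf x I₀ hU m, (sHom x I₀).app U m, hS, ?_⟩
    rw [rE_app, r0_sHom_app, gE_sHom_app, zero_add]
    rfl
  · rw [← RingHom.mem_ker, ker_sig x (dual k k) _ U hU, mem_zE_iff x I₀ φ hU]
    refine ⟨?_, (sHom x I₀).app U m - (fE x I₀).app U (φ.app U m), ?_, ?_⟩
    · apply sigA_psi_eq_zero_of_pi x I₀ hU
      rw [map_sub, map_mul, rho_iotaW, hρε, zero_mul, sub_zero]
      exact hπa
    · rw [vT_sub, hS, ← hc2, map_sub]
    · rw [rE_app, map_sub, map_sub, r0_sHom_app, r0_fE_app, gE_sHom_app, gE_fE_app, sub_zero,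
        zero_sub, neg_add_cancel]

theorem delta_self (z : (localHilb X x I₀).obj (dual k k)) : delta x I₀ z z = 0 := by
  have e := delta_trans x I₀ z z z
  exact add_right_cancel (b := delta x I₀ z z) (by rw [zero_add]; exact e.symm)

/-- Every homomorphism `I₀ ⟶ O_X / I₀` is the difference of a first-order deformation and the
trivial one. -/
theorem exists_delta_eq (ψ : ClSub.idealMod I₀ ⟶ ClSub.quotMod I₀) :
    ∃ z : (localHilb X x I₀).obj (dual k k), delta x I₀ z (trivEl x I₀ (dual k k)) = ψ := by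
  obtain ⟨c₀, hc₀⟩ : ∃ c, c = delta x I₀ (zE x I₀ 0) (trivEl x I₀ (dual k k)) := ⟨_, rfl⟩
  refine ⟨zE x I₀ (c₀ - ψ), ?_⟩
  have h := delta_trans x I₀ (zE x I₀ 0) (zE x I₀ (c₀ - ψ)) (trivEl x I₀ (dual k k))
  rw [delta_zE0 x I₀ (c₀ - ψ), ← hc₀] at h
  have h2 : (c₀ - ψ) + delta x I₀ (zE x I₀ (c₀ - ψ)) (trivEl x I₀ (dual k k)) =
      (c₀ - ψ) + ψ := by
    rw [← h, sub_add_cancel]
  exact add_left_cancel h2

end Surj

section Lin

variable {k : Type u} [Field k] {X : Scheme.{u}} (x : X ⟶ specPt k) (I₀ : X.IdealSheafData)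

/-- The tangent space of the local Hilbert functor is `Hom(I₀, O_X / I₀)`, `k`-linearly. -/
theorem nonempty_tangent_linearEquiv [X.Over (Spec (CommRingCat.of k))]
    (hx : X ↘ Spec (CommRingCat.of k) = x)
    [TS : TangentStr (localHilb X x I₀)] (heps : Heps (localHilb X x I₀)) :
    Nonempty (TangentSpace (localHilb X x I₀) ≃ₗ[k] (ClSub.idealMod I₀ ⟶ ClSub.quotMod I₀)) := by
  have hadd : ∀ a b : TangentSpace (localHilb X x I₀),
      delta x I₀ (a + b) (trivEl x I₀ (dual k k)) =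
        delta x I₀ a (trivEl x I₀ (dual k k)) + delta x I₀ b (trivEl x I₀ (dual k k)) := by
    intro a b
    have hab : (localHilb X x I₀).map (toBase (dual k k)) a =
        (localHilb X x I₀).map (toBase (dual k k)) b :=
      @Subsingleton.elim _ (h0_localHilb X x I₀).2 _ _
    obtain ⟨w, hw⟩ := (heps pr₁ pr₂ isFibreProd_dual2).2 ⟨(a, b), hab⟩
    have h1 : (localHilb X x I₀).map pr₁ w = a :=
      congrArg (fun v : FibProd (localHilb X x I₀) (toBase (dual k k)) (toBase (dual k k)) =>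
        v.1.1) hw
    have h2 : (localHilb X x I₀).map pr₂ w = b :=
      congrArg (fun v : FibProd (localHilb X x I₀) (toBase (dual k k)) (toBase (dual k k)) =>
        v.1.2) hw
    have h3 : a + b = (localHilb X x I₀).map plus w := by
      have := TS.add_eq w
      rw [h1, h2] at this
      exact this
    rw [h3, delta_plus, h1, h2]
  have hsmul : ∀ (c : k) (a : TangentSpace (localHilb X x I₀)),
      delta x I₀ (c • a) (trivEl x I₀ (dual k k)) =
        c • delta x I₀ a (trivEl x I₀ (dual k k)) := by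
    intro c a
    have h1 : c • a = (localHilb X x I₀).map (scale c) a := TS.smul_eq c a
    have h2 : delta x I₀ ((localHilb X x I₀).map (scale c) a) (trivEl x I₀ (dual k k)) =
        Formal.smulModΓ (ClSub.idealMod I₀) (Coh.toGlobal x c) ≫
          delta x I₀ a (trivEl x I₀ (dual k k)) := delta_scale x I₀ c a
    rw [h1, h2, KLin.smul_def]
    unfold Formal.smulMod
    rw [hx]
  let L : TangentSpace (localHilb X x I₀) →ₗ[k] (ClSub.idealMod I₀ ⟶ ClSub.quotMod I₀) :=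
    { toFun := fun a => delta x I₀ a (trivEl x I₀ (dual k k))
      map_add' := hadd
      map_smul' := hsmul }
  have hinj : Function.Injective L := fun a b hab => eq_of_delta_eq x I₀ a b _ hab
  have hsurj : Function.Surjective L := fun ψ => exists_delta_eq x I₀ ψ
  exact ⟨LinearEquiv.ofBijective L ⟨hinj, hsurj⟩⟩

/-- The set of first-order deformations is a singleton iff `Hom(I₀, O_X / I₀) = 0`. -/
theorem subsingleton_hom_of_subsingleton_dual
    (h : Subsingleton ((localHilb X x I₀).obj (dual k k))) :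
    Subsingleton (ClSub.idealMod I₀ ⟶ ClSub.quotMod I₀) := by
  refine ⟨fun φ ψ => ?_⟩
  obtain ⟨z, hz⟩ := exists_delta_eq x I₀ φ
  obtain ⟨z', hz'⟩ := exists_delta_eq x I₀ ψ
  rw [← hz, ← hz', h.elim z z']

end Lin

end Groth.Agent.Lib.Helper1.AH
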