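import Groth.Agent.Lib.Helper1.AH14
import Groth.Agent.Lib.Helper17.ProjFormula
import Groth.Agent.Lib.Helper17.HomGlobal

/-!
# `Hom_Y(M, i_* O_X) ≃ H⁰(X, ℋom(i^* M, O_X))`, linearly over the base ring

In particular `Hom(I₀, O_Y / I₀)` is the space of global sections of the normal sheaf.
-/

universe u

open CategoryTheory CategoryTheory.Limits AlgebraicGeometry Opposite TopologicalSpace
  MonoidalCategory
open Groth.Agent.Lib.Helper29.QCoh
open Groth.Agent.Lib.Helper17

namespace Groth.Agent.Lib.Helper1.AH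

section TensorLinear

variable {X : Scheme.{u}}

/-- Tensoring with `C` commutes with multiplication by a global function. -/
theorem tensorBi_map_smulModΓ (C N : X.Modules) (r : Coh.Γtop X) :
    ((DCoh.tensorBi (X := X)).obj C).map (Formal.smulModΓ N r) =
      Formal.smulModΓ (((DCoh.tensorBi (X := X)).obj C).obj N) r := by
  change Tensor.tensL (O := X.sheaf) C (Formal.smulModΓ N r) =
    Formal.smulModΓ (Tensor.tens (O := X.sheaf) C N) r
  apply (IHom.sheafifyHomEquiv (O := X.sheaf)
    (IHom.toPMod (O := X.sheaf) C ⊗ IHom.toPMod (O := X.sheaf) N)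
    (Tensor.tens (O := X.sheaf) C N)).injective
  refine (IHom.sheafifyHomEquiv_eq _ _ _).trans
    (Eq.trans ?_ (IHom.sheafifyHomEquiv_eq _ _ _).symm)
  have h1 := Tensor.un_naturality (O := X.sheaf)
    (IHom.toPMod (O := X.sheaf) C ◁ Tensor.pv (O := X.sheaf) (Formal.smulModΓ N r))
  refine h1.symm.trans ?_
  apply IHom.tensor_hom_ext
  intro V p q
  have h2 := IHom.appT_smul_right (Tensor.un (O := X.sheaf)
      (IHom.toPMod (O := X.sheaf) C ⊗ IHom.toPMod (O := X.sheaf) N))
      (Coh.resTop X (op V) r) p q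
  refine Eq.trans ?_ (h2.trans ?_)
  · rfl
  · rfl

end TensorLinear

section Chain

variable {k : Type u} [Field k] {X : Scheme.{u}} [X.Over (Spec (CommRingCat.of k))]

/-- The right unitor `C ⊗ O ≅ C`. -/
noncomputable def rightUnitIso (C : X.Modules) :
    ((DCoh.tensorBi (X := X)).obj C).obj (Coh.structureModule X) ≅ C :=
  (Tensor.objIsoFlipObj (O := X.sheaf) C).app (Coh.structureModule X) ≪≫
    (ProjFormula.leftUnitNatIso (O := X.sheaf)).app C

/-- `Hom(C, O) → Hom(C ⊗ O, O)`. -/
noncomputable def E3 (C : X.Modules) : (C ⟶ Coh.structureModule X) →ₗ[k]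
    (((DCoh.tensorBi (X := X)).obj C).obj (Coh.structureModule X) ⟶ Coh.structureModule X) where
  toFun f := (rightUnitIso C).hom ≫ f
  map_add' f g := Preadditive.comp_add _ _ _ _ f g
  map_smul' a f := Linear.comp_smul _ _ _ _ a f

theorem E3_bijective (C : X.Modules) : Function.Bijective (E3 (k := k) C) := by
  constructor
  · intro f g h
    exact (cancel_epi (rightUnitIso C).hom).1 h
  · intro g
    exact ⟨(rightUnitIso C).inv ≫ g, (rightUnitIso C).hom_inv_id_assoc g⟩

/-- `Hom(C ⊗ O, O) → Hom(O, ℋom(C, O))`. -/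
noncomputable def E4 (C : X.Modules) [DCoh.HasSheafHom C] :
    (((DCoh.tensorBi (X := X)).obj C).obj (Coh.structureModule X) ⟶ Coh.structureModule X) →ₗ[k]
      (Coh.structureModule X ⟶ (DCoh.sheafHom C).obj (Coh.structureModule X)) where
  toFun g := (DCoh.sheafHomAdj C).homEquiv _ _ g
  map_add' f g := (DCoh.sheafHomAdj C).homAddEquiv_add _ _ f g
  map_smul' a g := by
    show (DCoh.sheafHomAdj C).homEquiv _ _ (a • g) = a • (DCoh.sheafHomAdj C).homEquiv _ _ g
    rw [KLin.smul_def, KLin.smul_def]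
    unfold Formal.smulMod
    rw [← tensorBi_map_smulModΓ C (Coh.structureModule X) _,
      Adjunction.homEquiv_naturality_left]

theorem E4_bijective (C : X.Modules) [DCoh.HasSheafHom C] :
    Function.Bijective (E4 (k := k) C) :=
  ((DCoh.sheafHomAdj C).homEquiv _ _).bijective

/-- `Hom(O, N) → H⁰(X, N)`. -/
noncomputable def E5 (N : X.Modules) : (Coh.structureModule X ⟶ N) →ₗ[k] Coh.HH X N 0 where
  toFun f := (hh0 N).symm (f.app ⊤ (toUnit (1 : Γ(X, ⊤))))
  map_add' f g := by
    have : (f + g).app ⊤ (toUnit (1 : Γ(X, ⊤))) =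
        f.app ⊤ (toUnit (1 : Γ(X, ⊤))) + g.app ⊤ (toUnit (1 : Γ(X, ⊤))) := rfl
    rw [this, map_add]
  map_smul' a f := by
    apply (hh0 N).injective
    rw [AddEquiv.apply_symm_apply, RingHom.id_apply]
    have e : a • (hh0 N).symm (f.app ⊤ (toUnit (1 : Γ(X, ⊤)))) =
        (Coh.toGlobal (X ↘ Spec (CommRingCat.of k)) a : Coh.Γtop X) •
          (hh0 N).symm (f.app ⊤ (toUnit (1 : Γ(X, ⊤)))) := rfl
    rw [e, hh0_smul, AddEquiv.apply_symm_apply, KLin.smul_app_apply]
    congr 1
    exact presheaf_map_self X ⊤ le_top _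

theorem E5_bijective (N : X.Modules) : Function.Bijective (E5 (k := k) N) := by
  constructor
  · intro f g h
    exact HomGlobal.unit_hom_ext f g ((hh0 N).symm.injective h)
  · intro y
    refine ⟨homOfSection N (hh0 N y), ?_⟩
    show (hh0 N).symm ((homOfSection N (hh0 N y)).app ⊤ (toUnit (1 : Γ(X, ⊤)))) = y
    rw [homOfSection_app_one, AddEquiv.symm_apply_apply]

variable {Y : Scheme.{u}} [Y.Over (Spec (CommRingCat.of k))] (i : X ⟶ Y)
  [i.IsOver (Spec (CommRingCat.of k))] (M : Y.Modules)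
  [DCoh.HasSheafHom ((Scheme.Modules.pullback i).obj M)]

/-- `Hom_Y(M, i_* O_X) → H⁰(X, ℋom(i^* M, O_X))`. -/
noncomputable def PsiLin :
    (M ⟶ (Scheme.Modules.pushforward i).obj (Coh.structureModule X)) →ₗ[k]
      Coh.HH X ((DCoh.sheafHom ((Scheme.Modules.pullback i).obj M)).obj
        (Coh.structureModule X)) 0 :=
  (E5 _) ∘ₗ (E4 ((Scheme.Modules.pullback i).obj M)) ∘ₗ (E3 ((Scheme.Modules.pullback i).obj M)) ∘ₗ
    (adjLin i M (Coh.structureModule X))

theorem PsiLin_bijective : Function.Bijective (PsiLin (k := k) i M) := by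
  have h1 : Function.Bijective (adjLin (A := k) i M (Coh.structureModule X)) :=
    ((Scheme.Modules.pullbackPushforwardAdjunction i).homEquiv M
      (Coh.structureModule X)).symm.bijective
  exact (E5_bijective (k := k) _).comp ((E4_bijective (k := k) _).comp
    ((E3_bijective (k := k) _).comp h1))

/-- `Hom_Y(M, i_* O_X) ≃ H⁰(X, ℋom(i^* M, O_X))`. -/
noncomputable def PsiEquiv :
    (M ⟶ (Scheme.Modules.pushforward i).obj (Coh.structureModule X)) ≃ₗ[k]
      Coh.HH X ((DCoh.sheafHom ((Scheme.Modules.pullback i).obj M)).obj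
        (Coh.structureModule X)) 0 :=
  LinearEquiv.ofBijective (PsiLin i M) (PsiLin_bijective i M)

end Chain

section PushIso

/-- For an isomorphism `e`, `O → e_* O` is an isomorphism. -/
theorem isIso_unitToPush {X Z : Scheme.{u}} (e : X ⟶ Z) [IsIso e] :
    IsIso (ClSub.unitToPush e) := by
  rw [Scheme.Modules.Hom.isIso_iff_isIso_app]
  intro U
  rw [ConcreteCategory.isIso_iff_bijective]
  exact (ConcreteCategory.isIso_iff_bijective (e.app U)).1 inferInstance

/-- For a closed immersion `i`, `i_* O_X ≅ O_Y / ker i`. -/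
theorem nonempty_push_iso {X Y : Scheme.{u}} (i : X ⟶ Y) [IsClosedImmersion i] :
    Nonempty ((Scheme.Modules.pushforward i).obj (Coh.structureModule X) ≅ ClSub.quotMod i.ker) := by
  have e1 : (Scheme.Modules.pushforward i).obj (Coh.structureModule X) ≅
      (Scheme.Modules.pushforward (i.toImage ≫ i.imageι)).obj (Coh.structureModule X) :=
    (Scheme.Modules.pushforwardCongr i.toImage_imageι.symm).app _
  have e2 : (Scheme.Modules.pushforward (i.toImage ≫ i.imageι)).obj (Coh.structureModule X) ≅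
      (Scheme.Modules.pushforward i.imageι).obj
        ((Scheme.Modules.pushforward i.toImage).obj (Coh.structureModule X)) :=
    ((Scheme.Modules.pushforwardComp i.toImage i.imageι).app _).symm
  have := isIso_unitToPush i.toImage
  have e3 : Coh.structureModule i.image ≅
      (Scheme.Modules.pushforward i.toImage).obj (Coh.structureModule X) :=
    asIso (ClSub.unitToPush i.toImage)
  exact ⟨e1 ≪≫ e2 ≪≫ (Scheme.Modules.pushforward i.imageι).mapIso e3.symm⟩

end PushIso

section Final

variable {k : Type u} [Field k]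

/-- `Hom(I₀, O_Y / I₀) ≃ H⁰(Z, N_{Z/Y})`, `k`-linearly. -/
theorem nonempty_hom_linearEquiv_HH (Y : Scheme.{u}) [Y.Over (Spec (CommRingCat.of k))]
    (I₀ : Y.IdealSheafData) [I₀.subscheme.Over (Spec (CommRingCat.of k))]
    (hZ : I₀.subscheme ↘ Spec (CommRingCat.of k) =
      I₀.subschemeι ≫ (Y ↘ Spec (CommRingCat.of k)))
    (J : Y.IdealSheafData) (hJ : J = I₀)
    [DCoh.HasSheafHom ((Scheme.Modules.pullback I₀.subschemeι).obj (ClSub.idealMod J))] :
    Nonempty ((ClSub.idealMod I₀ ⟶ ClSub.quotMod I₀) ≃ₗ[k]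
      Coh.HH I₀.subscheme ((DCoh.sheafHom ((Scheme.Modules.pullback I₀.subschemeι).obj
        (ClSub.idealMod J))).obj (Coh.structureModule I₀.subscheme)) 0) := by
  subst hJ
  have : J.subschemeι.IsOver (Spec (CommRingCat.of k)) := ⟨hZ.symm⟩
  exact ⟨PsiEquiv J.subschemeι (ClSub.idealMod J)⟩

/-- For a closed immersion `i : X → Y` of `k`-schemes, `Hom(I, O_Y / I)` is in bijection with
`H⁰(X, N_{X/Y})`. -/
theorem nonempty_hom_equiv_HH {X Y : Scheme.{u}} [X.Over (Spec (CommRingCat.of k))]
    [Y.Over (Spec (CommRingCat.of k))] (i : X ⟶ Y) [i.IsOver (Spec (CommRingCat.of k))]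
    [IsClosedImmersion i]
    [DCoh.HasSheafHom ((Scheme.Modules.pullback i).obj (ClSub.idealMod i.ker))] :
    Nonempty ((ClSub.idealMod i.ker ⟶ ClSub.quotMod i.ker) ≃
      Coh.HH X ((DCoh.sheafHom ((Scheme.Modules.pullback i).obj (ClSub.idealMod i.ker))).obj
        (Coh.structureModule X)) 0) := by
  obtain ⟨q⟩ := nonempty_push_iso i
  exact ⟨((Iso.homCongr (Iso.refl (ClSub.idealMod i.ker)) q).symm).trans
    (PsiEquiv (k := k) i (ClSub.idealMod i.ker)).toEquiv⟩

end Final

end Groth.Agent.Lib.Helper1.AH
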