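import Groth.Agent.Lib.Helper9.FlatCrit
import Groth.Agent.Lib.Helper9.QuotTensor

/-!
# Lifting flatness along a small extension (helper1)

* `flat_of_semilinearEquiv`: flatness transfers along a ring isomorphism and a compatible additive isomorphism
  (after helper17's `FlatBridge.flat_of_semilinearEquiv`, copied to avoid the heavy import);
* `flat_quot_tensor`: `g : C' → C` surjective, `θ : B' → B` surjective over `g` with `ker θ ≤ (ker g) B'`, `B` flat over `C`
  ⇒ `(C'/ker g) ⊗ B'` flat over `C'/ker g`;
* `flat_of_small`: if moreover `ker g = (t)`, `𝔪' t = 0`, `t ∈ 𝔪'` and `t b = 0 ⇒ b ∈ 𝔪' B'`, then `B'` is flat over `C'`.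
-/

universe u v
open TensorProduct

namespace Groth.Agent.Lib.Helper1.AffDef

/-- flatness transfers along a ring isomorphism and a compatible additive isomorphism -/
theorem flat_of_semilinearEquiv {R S : Type*} [CommRing R] [CommRing S] {M N : Type*}
    [AddCommGroup M] [AddCommGroup N] [Module R M] [Module S N] (e : R ≃+* S) (φ : M ≃+ N)
    (h : ∀ (r : R) (m : M), φ (r • m) = e r • φ m) (hM : Module.Flat R M) : Module.Flat S N := by
  have hsymm : ∀ (s : S) (n : N), φ.symm (s • n) = e.symm s • φ.symm n := by
    intro s n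
    apply φ.injective
    rw [h, AddEquiv.apply_symm_apply, AddEquiv.apply_symm_apply, RingEquiv.apply_symm_apply]
  rw [Module.Flat.iff_forall_isTrivialRelation] at hM ⊢
  intro l g y hgy
  have h0 : ∑ i, (e.symm (g i)) • φ.symm (y i) = 0 := by
    have := congrArg φ.symm hgy
    rw [map_sum, map_zero] at this
    rw [← this]
    exact Finset.sum_congr rfl (fun i _ => (hsymm _ _).symm)
  obtain ⟨k, a, z, hz, ha⟩ := hM h0
  refine ⟨k, fun i j => e (a i j), fun j => φ (z j), fun i => ?_, fun j => ?_⟩
  · have := congrArg φ (hz i)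
    rw [AddEquiv.apply_symm_apply, map_sum] at this
    rw [this]
    exact Finset.sum_congr rfl (fun j _ => h _ _)
  · have := congrArg e (ha j)
    rw [map_sum, map_zero] at this
    rw [← this]
    refine Finset.sum_congr rfl (fun i _ => ?_)
    rw [map_mul, RingEquiv.apply_symm_apply]

/-- the other direction -/
theorem flat_of_semilinearEquiv' {R S : Type*} [CommRing R] [CommRing S] {M N : Type*}
    [AddCommGroup M] [AddCommGroup N] [Module R M] [Module S N] (e : R ≃+* S) (φ : M ≃+ N)
    (h : ∀ (r : R) (m : M), φ (r • m) = e r • φ m) (hN : Module.Flat S N) : Module.Flat R M := by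
  refine flat_of_semilinearEquiv e.symm φ.symm (fun s n => ?_) hN
  apply φ.injective
  rw [h, AddEquiv.apply_symm_apply, AddEquiv.apply_symm_apply, RingEquiv.apply_symm_apply]

section FlatLift

variable {C' C : Type u} {B' B : Type v} [CommRing C'] [CommRing C] [CommRing B'] [CommRing B]
  [Algebra C' B'] [Algebra C B]
  (g : C' →+* C) (hg : Function.Surjective g) (θ : B' →+* B) (hθ : Function.Surjective θ)
  (hθg : ∀ c, θ (algebraMap C' B' c) = algebraMap C B (g c))
  (hker : RingHom.ker θ ≤ (RingHom.ker g).map (algebraMap C' B'))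

include hθg in
/-- the comparison map `(C'/ker g) ⊗ B' → B` -/
noncomputable def quotTensorHom : (C' ⧸ RingHom.ker g) ⊗[C'] B' →+ B :=
  TensorProduct.liftAddHom
    { toFun := fun q =>
        { toFun := fun b' => algebraMap C B (RingHom.kerLift g q) * θ b'
          map_zero' := by rw [map_zero, mul_zero]
          map_add' := fun x y => by rw [map_add, mul_add] }
      map_zero' := by
        ext b'
        change algebraMap C B (RingHom.kerLift g 0) * θ b' = 0
        rw [map_zero, map_zero, zero_mul]
      map_add' := fun x y => by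
        ext b'
        change algebraMap C B (RingHom.kerLift g (x + y)) * θ b' =
          algebraMap C B (RingHom.kerLift g x) * θ b' + algebraMap C B (RingHom.kerLift g y) * θ b'
        rw [map_add, map_add, add_mul] }
    (fun r q b' => by
      change algebraMap C B (RingHom.kerLift g (r • q)) * θ (b') =
        algebraMap C B (RingHom.kerLift g q) * θ (r • b')
      rw [Algebra.smul_def r b', map_mul, hθg, Algebra.smul_def r q, map_mul, map_mul]
      have : RingHom.kerLift g (algebraMap C' (C' ⧸ RingHom.ker g) r) = g r := RingHom.kerLift_mk g r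
      rw [this]
      ring)

lemma quotTensorHom_tmul (q : C' ⧸ RingHom.ker g) (b' : B') :
    quotTensorHom g θ hθg (q ⊗ₜ b') = algebraMap C B (RingHom.kerLift g q) * θ b' := rfl

include hθ hker in
lemma quotTensorHom_bijective : Function.Bijective (quotTensorHom g θ hθg) := by
  constructor
  · rw [injective_iff_map_eq_zero]
    intro z hz
    obtain ⟨b', rfl⟩ := Groth.Agent.Lib.Helper9.QuotTensor.exists_one_tmul (RingHom.ker g) z
    rw [quotTensorHom_tmul, map_one, map_one, one_mul] at hz
    rw [Groth.Agent.Lib.Helper9.QuotTensor.one_tmul_eq_zero_iff, Ideal.smul_top_eq_map,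
      Submodule.restrictScalars_mem]
    exact hker hz
  · intro b
    obtain ⟨b', rfl⟩ := hθ b
    refine ⟨(1 : C' ⧸ RingHom.ker g) ⊗ₜ b', ?_⟩
    rw [quotTensorHom_tmul, map_one, map_one, one_mul]

lemma quotTensorHom_smul (q : C' ⧸ RingHom.ker g) (z : (C' ⧸ RingHom.ker g) ⊗[C'] B') :
    quotTensorHom g θ hθg (q • z) = RingHom.kerLift g q • quotTensorHom g θ hθg z := by
  induction z using TensorProduct.induction_on with
  | zero => rw [smul_zero, map_zero, smul_zero]
  | tmul q' b' =>
    rw [TensorProduct.smul_tmul', quotTensorHom_tmul, quotTensorHom_tmul, smul_eq_mul, map_mul, map_mul,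
      Algebra.smul_def, mul_assoc]
  | add x y hx hy => rw [smul_add, map_add, map_add, hx, hy, smul_add]

include hg hθ hθg hker in
/-- `(C'/ker g) ⊗ B'` is flat over `C'/ker g`. -/
theorem flat_quot_tensor [Module.Flat C B] :
    Module.Flat (C' ⧸ RingHom.ker g) ((C' ⧸ RingHom.ker g) ⊗[C'] B') := by
  refine flat_of_semilinearEquiv' (RingHom.quotientKerEquivOfSurjective hg)
    (AddEquiv.ofBijective (quotTensorHom g θ hθg) (quotTensorHom_bijective g θ hθ hθg hker)) ?_ inferInstance
  intro q z
  exact quotTensorHom_smul g θ hθg q z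

include hg hθ hθg hker in
/-- Lifting flatness along a small extension. -/
theorem flat_of_small [Module.Flat C B] (t : C') (hkg : RingHom.ker g = Ideal.span {t}) (𝔪' : Ideal C')
    (ht : ∀ m ∈ 𝔪', m * t = 0) (htm : t ∈ 𝔪')
    (hkey : ∀ b : B', t • b = 0 → b ∈ 𝔪' • (⊤ : Submodule C' B')) : Module.Flat C' B' := by
  haveI : Module.Flat (C' ⧸ RingHom.ker g) ((C' ⧸ RingHom.ker g) ⊗[C'] B') :=
    flat_quot_tensor g hg θ hθ hθg hker
  have htI : t ∈ RingHom.ker g := by
    rw [hkg]
    exact Ideal.mem_span_singleton_self t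
  apply Groth.Agent.Lib.Helper9.flat_of_isNilpotent_of_rTensor_injective (I := RingHom.ker g)
  · refine ⟨2, ?_⟩
    rw [hkg, Ideal.span_singleton_pow, sq, ht t htm, Ideal.zero_eq_bot, Ideal.span_singleton_eq_bot]
  · rw [injective_iff_map_eq_zero]
    intro z hz
    have hform : ∀ z : (RingHom.ker g) ⊗[C'] B', ∃ b, z = (⟨t, htI⟩ : RingHom.ker g) ⊗ₜ[C'] b := by
      intro z
      induction z using TensorProduct.induction_on with
      | zero => exact ⟨0, (TensorProduct.tmul_zero _ _).symm⟩
      | tmul i b =>
        obtain ⟨i, hi⟩ := i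
        have hi' := hi
        rw [hkg, Ideal.mem_span_singleton'] at hi'
        obtain ⟨a, rfl⟩ := hi'
        refine ⟨a • b, ?_⟩
        rw [TensorProduct.tmul_smul, TensorProduct.smul_tmul']
        rfl
      | add x y hx hy =>
        obtain ⟨b1, rfl⟩ := hx
        obtain ⟨b2, rfl⟩ := hy
        exact ⟨b1 + b2, (TensorProduct.tmul_add _ _ _).symm⟩
    obtain ⟨b, rfl⟩ := hform z
    rw [LinearMap.rTensor_tmul] at hz
    have h1 : t • b = 0 := by
      have := congrArg (TensorProduct.lid C' B') hz
      rw [map_zero, Submodule.subtype_apply, TensorProduct.lid_tmul] at this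
      exact this
    have h2 := hkey b h1
    refine Submodule.smul_induction_on (p := fun b : B' => (⟨t, htI⟩ : RingHom.ker g) ⊗ₜ[C'] b = 0) h2 ?_ ?_
    · intro m hm b' _
      rw [TensorProduct.tmul_smul, TensorProduct.smul_tmul']
      have : m • (⟨t, htI⟩ : RingHom.ker g) = 0 := by
        apply Subtype.ext
        change m * t = 0
        exact ht m hm
      rw [this, TensorProduct.zero_tmul]
    · intro x y hx hy
      rw [TensorProduct.tmul_add, hx, hy, add_zero]

end FlatLift

end Groth.Agent.Lib.Helper1.AffDef
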