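import Groth.Agent.Lib.Helper1.AH1
import Groth.Agent.Lib.Helper1.AffDefFlat

/-!
# Abstract algebra behind unobstructedness of embedded deformations along a small extension

`p : Bc → Ac` is a small extension with kernel `(t)`, `N` is the coordinate ring of an affine piece of
`X ×_k Spec Bc`, `ψ : N → NA` the restriction to `X ×_k Spec Ac`, `σA : NA → SA` the flat quotient over
`Ac`, `J = ker (σA ∘ ψ)`, `ρ : N → R` the reduction to the closed fibre, `π : R → Q` the quotient by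
the ideal of the closed subscheme and `σT : N → NT` the quotient by `𝔪 J`.
-/

universe u v

namespace Groth.Agent.Lib.Helper1.AH

section FlatKer

/-- The kernel of a surjection of flat modules is flat. -/
theorem flat_ker {A : Type u} {M S : Type v} [CommRing A] [AddCommGroup M] [Module A M]
    [AddCommGroup S] [Module A S] [Module.Flat A M] [Module.Flat A S] (σ : M →ₗ[A] S)
    (hσ : Function.Surjective σ) : Module.Flat A (LinearMap.ker σ) := by
  apply Module.Flat.of_forall_exists_factorization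
  intro l f x hx
  have hx' : ((LinearMap.ker σ).subtype ∘ₗ x) f = 0 := by
    rw [LinearMap.comp_apply, hx, map_zero]
  obtain ⟨k, a, y, hya, haf⟩ :=
    Module.Flat.exists_factorization_of_apply_eq_zero_of_free (M := M) hx'
  have h0 : (σ ∘ₗ y) ∘ₗ a = 0 := by
    rw [LinearMap.comp_assoc, ← hya, ← LinearMap.comp_assoc, LinearMap.comp_ker_subtype,
      LinearMap.zero_comp]
  obtain ⟨k', a', y', hya', haa'⟩ :=
    Module.Flat.exists_factorization_of_comp_eq_zero_of_free (M := S) h0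
  obtain ⟨yt, hyt⟩ := Module.projective_lifting_property σ y' hσ
  have hmem : ∀ v, y v - yt (a' v) ∈ LinearMap.ker σ := by
    intro v
    rw [LinearMap.mem_ker, map_sub, sub_eq_zero]
    have e1 : σ (y v) = y' (a' v) := LinearMap.congr_fun hya' v
    have e2 : σ (yt (a' v)) = y' (a' v) := LinearMap.congr_fun hyt (a' v)
    rw [e1, e2]
  refine ⟨k, a, LinearMap.codRestrict (LinearMap.ker σ) (y - yt ∘ₗ a') hmem, ?_, haf⟩
  apply LinearMap.ext
  intro v
  apply Subtype.ext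
  change (x v : M) = y (a v) - yt (a' (a v))
  have e3 : a' (a v) = 0 := LinearMap.congr_fun haa' v
  have e4 : ((x v : LinearMap.ker σ) : M) = y (a v) := LinearMap.congr_fun hya v
  rw [e3, map_zero, sub_zero, e4]

end FlatKer

section Main2

variable {Bc Ac : Type u} {N NA SA R Q NT : Type v} [CommRing Bc] [CommRing Ac] [CommRing N]
  [CommRing NA] [CommRing SA] [CommRing R] [CommRing Q] [CommRing NT]

/-- The standing hypotheses. -/
structure Hyp2 (𝔪 : Ideal Bc) (t : Bc) (p : Bc →+* Ac) (φ : Bc →+* N) (φA : Ac →+* NA)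
    (ψ : N →+* NA) (σA : NA →+* SA) (ρ : N →+* R) (π : R →+* Q) (σT : N →+* NT) : Prop where
  surjp : Function.Surjective p
  kerp : RingHom.ker p = Ideal.span {t}
  tmem : t ∈ 𝔪
  mt : ∀ b ∈ 𝔪, b * t = 0
  ann : ∀ b, t * b = 0 → b ∈ 𝔪
  flatφ : φ.Flat
  flatφA : φA.Flat
  flatA : (σA.comp φA).Flat
  surjψ : Function.Surjective ψ
  kerψ : RingHom.ker ψ = Ideal.span {φ t}
  comm : ∀ b, ψ (φ b) = φA (p b)
  surjσA : Function.Surjective σA
  surjρ : Function.Surjective ρ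
  kerρ : RingHom.ker ρ = 𝔪.map φ
  surjπ : Function.Surjective π
  kerπ : RingHom.ker π = (RingHom.ker (σA.comp ψ)).map ρ
  surjσT : Function.Surjective σT
  kerσT : RingHom.ker σT = 𝔪.map φ * RingHom.ker (σA.comp ψ)

variable {𝔪 : Ideal Bc} {t : Bc} {p : Bc →+* Ac} {φ : Bc →+* N} {φA : Ac →+* NA}
  {ψ : N →+* NA} {σA : NA →+* SA} {ρ : N →+* R} {π : R →+* Q} {σT : N →+* NT}

namespace Hyp2

variable (H : Hyp2 𝔪 t p φ φA ψ σA ρ π σT)
include H

theorem p_t : p t = 0 := by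
  have : t ∈ RingHom.ker p := by rw [H.kerp]; exact Ideal.subset_span rfl
  exact this

theorem phi_t_mem : σA (ψ (φ t)) = 0 := by
  rw [H.comm, H.p_t, map_zero, map_zero]

theorem phi_t_mul_eq_zero {y : N} (hy : y ∈ 𝔪.map φ) : φ t * y = 0 := by
  have h3 : 𝔪.map φ ≤ LinearMap.ker (LinearMap.mulLeft N (φ t)) := by
    rw [Ideal.map_le_iff_le_comap]
    intro m hm
    rw [Ideal.mem_comap, LinearMap.mem_ker, LinearMap.mulLeft_apply, ← map_mul, mul_comm,
      H.mt m hm, map_zero]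
  have := h3 hy
  rwa [LinearMap.mem_ker, LinearMap.mulLeft_apply] at this

theorem sigT_mul_eq_zero {y j : N} (hy : y ∈ 𝔪.map φ) (hj : σA (ψ j) = 0) : σT (y * j) = 0 := by
  have : y * j ∈ RingHom.ker σT := by
    rw [H.kerσT]
    exact Ideal.mul_mem_mul hy (show j ∈ RingHom.ker (σA.comp ψ) from hj)
  exact this

theorem sigT_mul_eq {c c' j : N} (hc : ρ c = ρ c') (hj : σA (ψ j) = 0) :
    σT c * σT j = σT c' * σT j := by
  have h1 : c - c' ∈ 𝔪.map φ := by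
    rw [← H.kerρ, RingHom.mem_ker, map_sub, hc, sub_self]
  have h2 := H.sigT_mul_eq_zero h1 hj
  rw [sub_mul, map_sub, sub_eq_zero, map_mul, map_mul] at h2
  exact h2

theorem pi_rho_eq_zero_of_mem {j : N} (hj : σA (ψ j) = 0) : π (ρ j) = 0 := by
  have : ρ j ∈ RingHom.ker π := by
    rw [H.kerπ]
    exact Ideal.mem_map_of_mem ρ (show j ∈ RingHom.ker (σA.comp ψ) from hj)
  exact this

theorem exists_of_pi_rho_eq_zero {n : N} (hn : π (ρ n) = 0) :
    ∃ j, σA (ψ j) = 0 ∧ n - j ∈ 𝔪.map φ := by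
  have h1 : ρ n ∈ (RingHom.ker (σA.comp ψ)).map ρ := by rw [← H.kerπ]; exact hn
  obtain ⟨j, hj, hjn⟩ := (Ideal.mem_map_iff_of_surjective ρ H.surjρ).1 h1
  refine ⟨j, hj, ?_⟩
  rw [← H.kerρ, RingHom.mem_ker, map_sub, hjn, sub_self]

theorem sigT_phi_t_mul_eq_zero {n : N} (hn : π (ρ n) = 0) : σT (φ t * n) = 0 := by
  obtain ⟨j, hj, hnj⟩ := H.exists_of_pi_rho_eq_zero hn
  have e : φ t * n = φ t * (n - j) + φ t * j := by ring
  rw [e, H.phi_t_mul_eq_zero hnj, zero_add]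
  exact H.sigT_mul_eq_zero (Ideal.mem_map_of_mem φ H.tmem) hj

/-- (E1) `J ∩ 𝔪 N ⊆ t N + 𝔪 J`. -/
theorem exists_sigT_eq {n : N} (hn : σA (ψ n) = 0) (hρ : ρ n = 0) :
    ∃ c, σT n = σT (φ t * c) := by
  letI : Algebra Ac NA := φA.toAlgebra
  letI : Algebra Ac SA := (σA.comp φA).toAlgebra
  haveI : Module.Flat Ac SA := H.flatA
  let τ : NA →ₐ[Ac] SA := ⟨σA, fun _ => rfl⟩
  have hn1 : n ∈ 𝔪.map φ := by rw [← H.kerρ]; exact hρ
  have hψn : ψ n ∈ (𝔪.map p) • (⊤ : Submodule Ac NA) := by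
    rw [Ideal.smul_top_eq_map]
    have h1 : ψ n ∈ (𝔪.map φ).map ψ := Ideal.mem_map_of_mem ψ hn1
    rw [Ideal.map_map] at h1
    have h2 : ψ.comp φ = φA.comp p := RingHom.ext H.comm
    rw [h2, ← Ideal.map_map] at h1
    exact h1
  have h3 := mem_smul_ker_of_flat τ H.surjσA (𝔪.map p) (ψ n) hψn (show τ (ψ n) = 0 from hn)
  have hle : (𝔪.map p) • (LinearMap.ker τ.toLinearMap) ≤
      ((𝔪.map φ * RingHom.ker (σA.comp ψ)).map ψ).restrictScalars Ac := by
    rw [Submodule.smul_le]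
    intro a ha y hy
    obtain ⟨b, hb, rfl⟩ := (Ideal.mem_map_iff_of_surjective p H.surjp).1 ha
    obtain ⟨j, rfl⟩ := H.surjψ y
    have hj : σA (ψ j) = 0 := LinearMap.mem_ker.1 hy
    rw [Submodule.restrictScalars_mem]
    have e : (p b) • (ψ j) = ψ (φ b * j) := by
      rw [map_mul, H.comm]; rfl
    rw [e]
    exact Ideal.mem_map_of_mem ψ (Ideal.mul_mem_mul (Ideal.mem_map_of_mem φ hb)
      (show j ∈ RingHom.ker (σA.comp ψ) from hj))
  have h4 := hle h3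
  rw [Submodule.restrictScalars_mem] at h4
  obtain ⟨j', hj', hj'n⟩ := (Ideal.mem_map_iff_of_surjective ψ H.surjψ).1 h4
  have h5 : n - j' ∈ Ideal.span {φ t} := by
    rw [← H.kerψ, RingHom.mem_ker, map_sub, hj'n, sub_self]
  obtain ⟨c, hc⟩ := Ideal.mem_span_singleton'.1 h5
  refine ⟨c, ?_⟩
  have hj'0 : σT j' = 0 := by
    have : j' ∈ RingHom.ker σT := by rw [H.kerσT]; exact hj'
    exact this
  have e : n = j' + φ t * c := by rw [mul_comm, hc]; ring
  conv_lhs => rw [e]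
  rw [map_add, hj'0, zero_add]

/-- (E2) `t N ∩ 𝔪 J ⊆ t J`. -/
theorem pi_rho_eq_zero {n : N} (h : σT (φ t * n) = 0) : π (ρ n) = 0 := by
  classical
  letI : Algebra Bc N := φ.toAlgebra
  letI : Algebra Ac NA := φA.toAlgebra
  letI : Algebra Ac SA := (σA.comp φA).toAlgebra
  haveI : Module.Flat Bc N := H.flatφ
  haveI : Module.Flat Ac NA := H.flatφA
  haveI : Module.Flat Ac SA := H.flatA
  let τ : NA →ₐ[Ac] SA := ⟨σA, fun _ => rfl⟩
  haveI : Module.Flat Ac (LinearMap.ker τ.toLinearMap) := flat_ker τ.toLinearMap H.surjσA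
  have hmemJ : ∀ y : N, y ∈ RingHom.ker (σA.comp ψ) ↔ σA (ψ y) = 0 := fun y => Iff.rfl
  have hx : φ t * n ∈ 𝔪.map φ * RingHom.ker (σA.comp ψ) := by rw [← H.kerσT]; exact h
  have hx2 : φ t * n ∈ 𝔪 • ((RingHom.ker (σA.comp ψ)).restrictScalars Bc) := by
    rw [← Ideal.smul_restrictScalars, Submodule.restrictScalars_mem, smul_eq_mul]
    exact hx
  have hspan : Submodule.span Bc (Set.range (fun j : RingHom.ker (σA.comp ψ) => (j : N))) =
      (RingHom.ker (σA.comp ψ)).restrictScalars Bc := by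
    have : Set.range (fun j : RingHom.ker (σA.comp ψ) => (j : N)) =
        (((RingHom.ker (σA.comp ψ)).restrictScalars Bc : Submodule Bc N) : Set N) := by
      ext y
      constructor
      · rintro ⟨j, rfl⟩
        exact j.2
      · intro hy
        exact ⟨⟨y, hy⟩, rfl⟩
    rw [this, Submodule.span_eq]
  rw [← hspan] at hx2
  obtain ⟨a, ha, hsum⟩ := (Submodule.mem_ideal_smul_span_iff_exists_sum 𝔪
    (fun j : RingHom.ker (σA.comp ψ) => (j : N)) _).1 hx2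
  have hψx : ψ (φ t * n) = 0 := by
    rw [map_mul, H.comm, H.p_t, map_zero, zero_mul]
  have e1 : φ t * n = ∑ i : a.support, φ (a i.1) * ((i.1 : RingHom.ker (σA.comp ψ)) : N) := by
    rw [← hsum, Finsupp.sum]
    exact (Finset.sum_coe_sort a.support
      (fun i => φ (a i) * ((i : RingHom.ker (σA.comp ψ)) : N))).symm
  -- the relation in the flat module `ker σA`
  let xK : a.support → LinearMap.ker τ.toLinearMap := fun i =>
    ⟨ψ ((i.1 : RingHom.ker (σA.comp ψ)) : N), LinearMap.mem_ker.2 ((hmemJ _).1 i.1.2)⟩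
  have hrel : ∑ i : a.support, (fun i : a.support => p (a i.1)) i • xK i = 0 := by
    apply Subtype.ext
    rw [Submodule.coe_sum, Submodule.coe_zero, ← hψx, e1, map_sum]
    refine Finset.sum_congr rfl fun i _ => ?_
    rw [map_mul, H.comm]
    rfl
  obtain ⟨k, A', y, hxy, hfa⟩ := Module.Flat.isTrivialRelation_of_sum_smul_eq_zero
    (f := fun i : a.support => p (a i.1)) (x := xK) hrel
  choose yt hyt using fun j => H.surjψ ((y j : LinearMap.ker τ.toLinearMap) : NA)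
  choose C hC using fun (i : a.support) (j : Fin k) => H.surjp (A' i j)
  have hytJ : ∀ j, σA (ψ (yt j)) = 0 := fun j => by
    rw [hyt]
    exact LinearMap.mem_ker.1 (y j).2
  have hi : ∀ i : a.support, ((i.1 : RingHom.ker (σA.comp ψ)) : N) - ∑ j, φ (C i j) * yt j ∈
      Ideal.span {φ t} := by
    intro i
    rw [← H.kerψ, RingHom.mem_ker, map_sub, map_sum, sub_eq_zero]
    have h2 : ψ ((i.1 : RingHom.ker (σA.comp ψ)) : N) =
        ((xK i : LinearMap.ker τ.toLinearMap) : NA) := rfl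
    rw [h2, hxy i, Submodule.coe_sum]
    refine Finset.sum_congr rfl fun j _ => ?_
    rw [map_mul, H.comm, hC, hyt]
    rfl
  choose nn hnn using fun i => Ideal.mem_span_singleton'.1 (hi i)
  have hj : ∀ j, ∑ i : a.support, a i.1 * C i j ∈ Ideal.span {t} := by
    intro j
    rw [← H.kerp, RingHom.mem_ker, map_sum, ← hfa j]
    refine Finset.sum_congr rfl fun i _ => ?_
    rw [map_mul, hC]
  choose d hd using fun j => Ideal.mem_span_singleton'.1 (hj j)
  have e2 : ∀ i : a.support, φ (a i.1) * ((i.1 : RingHom.ker (σA.comp ψ)) : N) =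
      ∑ j, φ (a i.1 * C i j) * yt j := by
    intro i
    have h1 : ((i.1 : RingHom.ker (σA.comp ψ)) : N) = ∑ j, φ (C i j) * yt j + nn i * φ t := by
      rw [hnn i]; ring
    have h2 : φ (a i.1) * (nn i * φ t) = 0 := by
      rw [mul_comm (nn i), ← mul_assoc, ← map_mul, H.mt _ (ha i.1), map_zero, zero_mul]
    conv_lhs => rw [h1]
    rw [mul_add, h2, add_zero, Finset.mul_sum]
    refine Finset.sum_congr rfl fun j _ => ?_
    rw [map_mul, mul_assoc]
  have hj0 : σA (ψ (∑ j, φ (d j) * yt j)) = 0 := by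
    have : (∑ j, φ (d j) * yt j) ∈ RingHom.ker (σA.comp ψ) :=
      Ideal.sum_mem _ fun j _ => Ideal.mul_mem_left _ _ ((hmemJ _).2 (hytJ j))
    exact this
  have e4 : φ t * n = φ t * ∑ j, φ (d j) * yt j := by
    rw [e1, Finset.sum_congr rfl (fun i _ => e2 i), Finset.sum_comm, Finset.mul_sum]
    refine Finset.sum_congr rfl fun j _ => ?_
    rw [← Finset.sum_mul, ← map_sum, ← hd j, map_mul]
    ring
  have h5 : t • (n - ∑ j, φ (d j) * yt j) = 0 := by
    change φ t * (n - ∑ j, φ (d j) * yt j) = 0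
    rw [mul_sub, e4, sub_self]
  have h6 := mem_smul_top_of_smul_eq_zero 𝔪 t H.ann _ h5
  rw [Ideal.smul_top_eq_map] at h6
  have h7 : n - ∑ j, φ (d j) * yt j ∈ RingHom.ker ρ := by
    rw [H.kerρ]
    exact h6
  rw [RingHom.mem_ker, map_sub, sub_eq_zero] at h7
  rw [h7]
  exact H.pi_rho_eq_zero_of_mem hj0

/-- Flatness of the lifted quotient. -/
theorem flat_of_IB {SB : Type v} [CommRing SB] (σB : N →+* SB) (hσB : Function.Surjective σB)
    (h1 : RingHom.ker σB ≤ RingHom.ker (σA.comp ψ))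
    (h2 : ∀ f, σA (ψ f) = 0 → ∃ c, σB f = σB (φ t * c))
    (h3 : ∀ c, σB (φ t * c) = 0 → π (ρ c) = 0) : (σB.comp φ).Flat := by
  letI algB : Algebra Bc SB := (σB.comp φ).toAlgebra
  letI algA : Algebra Ac SA := (σA.comp φA).toAlgebra
  haveI : Module.Flat Ac SA := H.flatA
  let θ : SB →+* SA := σB.liftOfRightInverse (Function.surjInv hσB)
    (Function.rightInverse_surjInv hσB) ⟨σA.comp ψ, h1⟩
  have hθ : ∀ n, θ (σB n) = σA (ψ n) := fun n =>
    RingHom.liftOfRightInverse_comp_apply σB (Function.surjInv hσB)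
      (Function.rightInverse_surjInv hσB) ⟨σA.comp ψ, h1⟩ n
  have hθs : Function.Surjective θ := by
    intro s
    obtain ⟨m, rfl⟩ := H.surjσA s
    obtain ⟨n, rfl⟩ := H.surjψ m
    exact ⟨σB n, hθ n⟩
  have hθg : ∀ c, θ (algebraMap Bc SB c) = algebraMap Ac SA (p c) := by
    intro c
    change θ (σB (φ c)) = σA (φA (p c))
    rw [hθ, H.comm]
  have hker : RingHom.ker θ ≤ (RingHom.ker p).map (algebraMap Bc SB) := by
    intro s hs
    obtain ⟨n, rfl⟩ := hσB s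
    rw [RingHom.mem_ker, hθ] at hs
    obtain ⟨c, hc⟩ := h2 n hs
    rw [hc, map_mul]
    refine Ideal.mul_mem_right _ _ (Ideal.mem_map_of_mem _ ?_)
    rw [RingHom.mem_ker]
    exact H.p_t
  have hkey : ∀ b : SB, t • b = 0 → b ∈ 𝔪 • (⊤ : Submodule Bc SB) := by
    intro b hb
    obtain ⟨n, rfl⟩ := hσB b
    have hb' : σB (φ t * n) = 0 := by
      rw [map_mul]; exact hb
    obtain ⟨j, hj, hnj⟩ := H.exists_of_pi_rho_eq_zero (h3 n hb')
    obtain ⟨c, hc⟩ := h2 j hj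
    have e : σB n = σB ((n - j) + φ t * c) := by
      rw [map_add, ← hc, ← map_add, sub_add_cancel]
    rw [e, Ideal.smul_top_eq_map, Submodule.restrictScalars_mem]
    have h4 : (n - j) + φ t * c ∈ 𝔪.map φ :=
      Ideal.add_mem _ hnj (Ideal.mul_mem_right _ _ (Ideal.mem_map_of_mem φ H.tmem))
    have h5 := Ideal.mem_map_of_mem σB h4
    rw [Ideal.map_map] at h5
    exact h5
  have key : Module.Flat Bc SB :=
    AffDef.flat_of_small p H.surjp θ hθs hθg hker t H.kerp 𝔪 H.mt H.tmem hkey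
  exact key

end Hyp2

/-! ### The two relations -/

/-- The graph of `J / 𝔪 J → I₀`. -/
def GRelA (ψ : N →+* NA) (σA : NA →+* SA) (ρ : N →+* R) (σT : N →+* NT) (z : NT) (s : R) : Prop :=
  ∃ f : N, σA (ψ f) = 0 ∧ σT f = z ∧ ρ f = s

/-- The graph of `R / I₀ → J / 𝔪 J`, `1 ↦ t`. -/
def FRelA (t : Bc) (φ : Bc →+* N) (ρ : N →+* R) (π : R →+* Q) (σT : N →+* NT) (q : Q) (z : NT) :
    Prop :=
  ∃ n : N, π (ρ n) = q ∧ σT (φ t * n) = z

theorem GRelA.add {z z' : NT} {s s' : R} (h : GRelA ψ σA ρ σT z s) (h' : GRelA ψ σA ρ σT z' s') :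
    GRelA ψ σA ρ σT (z + z') (s + s') := by
  obtain ⟨f, h1, h2, h3⟩ := h
  obtain ⟨f', h1', h2', h3'⟩ := h'
  refine ⟨f + f', ?_, ?_, ?_⟩
  · rw [map_add, map_add, h1, h1', add_zero]
  · rw [map_add, h2, h2']
  · rw [map_add, h3, h3']

theorem GRelA.mul {z : NT} {s : R} (c : N) (h : GRelA ψ σA ρ σT z s) :
    GRelA ψ σA ρ σT (σT c * z) (ρ c * s) := by
  obtain ⟨f, h1, h2, h3⟩ := h
  refine ⟨c * f, ?_, ?_, ?_⟩
  · rw [map_mul, map_mul, h1, mul_zero]
  · rw [map_mul, h2]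
  · rw [map_mul, h3]

theorem GRelA.map {N' NA' SA' R' NT' : Type v} [CommRing N'] [CommRing NA'] [CommRing SA']
    [CommRing R'] [CommRing NT'] {ψ' : N' →+* NA'} {σA' : NA' →+* SA'} {ρ' : N' →+* R'}
    {σT' : N' →+* NT'} (a : N →+* N') (aT : NT →+* NT') (c : R →+* R')
    (hJ : ∀ n, σA (ψ n) = 0 → σA' (ψ' (a n)) = 0) (hT : ∀ n, σT' (a n) = aT (σT n))
    (hρ : ∀ n, ρ' (a n) = c (ρ n)) {z : NT} {s : R} (h : GRelA ψ σA ρ σT z s) :
    GRelA ψ' σA' ρ' σT' (aT z) (c s) := by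
  obtain ⟨f, h1, h2, h3⟩ := h
  exact ⟨a f, hJ f h1, by rw [hT, h2], by rw [hρ, h3]⟩

theorem FRelA.add {q q' : Q} {z z' : NT} (h : FRelA t φ ρ π σT q z) (h' : FRelA t φ ρ π σT q' z') :
    FRelA t φ ρ π σT (q + q') (z + z') := by
  obtain ⟨n, h1, h2⟩ := h
  obtain ⟨n', h1', h2'⟩ := h'
  refine ⟨n + n', ?_, ?_⟩
  · rw [map_add, map_add, h1, h1']
  · rw [mul_add, map_add, h2, h2']

theorem FRelA.mul {q : Q} {z : NT} (c : N) (h : FRelA t φ ρ π σT q z) :
    FRelA t φ ρ π σT (π (ρ c) * q) (σT c * z) := by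
  obtain ⟨n, h1, h2⟩ := h
  refine ⟨c * n, ?_, ?_⟩
  · rw [map_mul, map_mul, h1]
  · rw [← h2, ← map_mul]
    congr 1
    ring

theorem FRelA.map {N' R' Q' NT' : Type v} [CommRing N'] [CommRing R'] [CommRing Q'] [CommRing NT']
    {φ' : Bc →+* N'} {ρ' : N' →+* R'} {π' : R' →+* Q'} {σT' : N' →+* NT'}
    (a : N →+* N') (aT : NT →+* NT') (c : R →+* R') (e : Q →+* Q')
    (hT : ∀ n, σT' (a n) = aT (σT n)) (hρ : ∀ n, ρ' (a n) = c (ρ n))
    (hπ : ∀ r, π' (c r) = e (π r)) (hφ : a (φ t) = φ' t) {q : Q} {z : NT}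
    (h : FRelA t φ ρ π σT q z) : FRelA t φ' ρ' π' σT' (e q) (aT z) := by
  obtain ⟨n, h1, h2⟩ := h
  refine ⟨a n, by rw [hρ, hπ, h1], ?_⟩
  rw [← hφ, ← map_mul, hT, h2]

section WithH

variable (H : Hyp2 𝔪 t p φ φA ψ σA ρ π σT)
include H

theorem GRelA.unique {z : NT} {s s' : R} (h : GRelA ψ σA ρ σT z s) (h' : GRelA ψ σA ρ σT z s') :
    s = s' := by
  obtain ⟨f, h1, h2, h3⟩ := h
  obtain ⟨f', h1', h2', h3'⟩ := h'
  have h4 : f - f' ∈ RingHom.ker σT := by
    rw [RingHom.mem_ker, map_sub, h2, h2', sub_self]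
  rw [H.kerσT] at h4
  have h5 : f - f' ∈ RingHom.ker ρ := by
    rw [H.kerρ]
    exact (Ideal.mul_le_inf.trans inf_le_left) h4
  rw [RingHom.mem_ker, map_sub, sub_eq_zero] at h5
  rw [← h3, ← h3', h5]

theorem GRelA.exists {z : NT} (hz : z ∈ (RingHom.ker (σA.comp ψ)).map σT) :
    ∃ s, GRelA ψ σA ρ σT z s ∧ π s = 0 := by
  obtain ⟨f, hf, rfl⟩ := (Ideal.mem_map_iff_of_surjective σT H.surjσT).1 hz
  exact ⟨ρ f, ⟨f, hf, rfl, rfl⟩, H.pi_rho_eq_zero_of_mem hf⟩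

theorem GRelA.pi_eq_zero {z : NT} {s : R} (h : GRelA ψ σA ρ σT z s) : π s = 0 := by
  obtain ⟨f, h1, h2, h3⟩ := h
  rw [← h3]
  exact H.pi_rho_eq_zero_of_mem h1

theorem GRelA.surj {s : R} (hs : π s = 0) :
    ∃ z, z ∈ (RingHom.ker (σA.comp ψ)).map σT ∧ GRelA ψ σA ρ σT z s := by
  have h1 : s ∈ (RingHom.ker (σA.comp ψ)).map ρ := by rw [← H.kerπ]; exact hs
  obtain ⟨f, hf, rfl⟩ := (Ideal.mem_map_iff_of_surjective ρ H.surjρ).1 h1
  exact ⟨σT f, Ideal.mem_map_of_mem σT hf, f, hf, rfl, rfl⟩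

theorem GRelA.exact {z : NT} (h : GRelA ψ σA ρ σT z 0) : ∃ q, FRelA t φ ρ π σT q z := by
  obtain ⟨f, h1, h2, h3⟩ := h
  obtain ⟨c, hc⟩ := H.exists_sigT_eq h1 h3
  exact ⟨π (ρ c), c, rfl, by rw [← hc, h2]⟩

theorem FRelA.exists (q : Q) : ∃ z, FRelA t φ ρ π σT q z := by
  obtain ⟨r, rfl⟩ := H.surjπ q
  obtain ⟨n, rfl⟩ := H.surjρ r
  exact ⟨_, n, rfl, rfl⟩

theorem FRelA.mem {q : Q} {z : NT} (h : FRelA t φ ρ π σT q z) :
    z ∈ (RingHom.ker (σA.comp ψ)).map σT := by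
  obtain ⟨n, h1, h2⟩ := h
  rw [← h2]
  refine Ideal.mem_map_of_mem σT ?_
  have : φ t ∈ RingHom.ker (σA.comp ψ) := H.phi_t_mem
  exact Ideal.mul_mem_right _ _ this

theorem FRelA.unique {q : Q} {z z' : NT} (h : FRelA t φ ρ π σT q z) (h' : FRelA t φ ρ π σT q z') :
    z = z' := by
  obtain ⟨n, h1, h2⟩ := h
  obtain ⟨n', h1', h2'⟩ := h'
  have h3 : π (ρ (n - n')) = 0 := by rw [map_sub, map_sub, h1, h1', sub_self]
  have h4 := H.sigT_phi_t_mul_eq_zero h3
  rw [mul_sub, map_sub, h2, h2', sub_eq_zero] at h4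
  exact h4

theorem FRelA.mono {q : Q} (h : FRelA t φ ρ π σT q 0) : q = 0 := by
  obtain ⟨n, h1, h2⟩ := h
  rw [← h1]
  exact H.pi_rho_eq_zero h2

theorem FRelA.comp_zero {q : Q} {z : NT} (h : FRelA t φ ρ π σT q z) : GRelA ψ σA ρ σT z 0 := by
  obtain ⟨n, h1, h2⟩ := h
  refine ⟨φ t * n, ?_, h2, ?_⟩
  · rw [map_mul, map_mul, H.phi_t_mem, zero_mul]
  · have h3 : φ t ∈ RingHom.ker ρ := by
      rw [H.kerρ]; exact Ideal.mem_map_of_mem φ H.tmem
    rw [map_mul, (RingHom.mem_ker).1 h3, zero_mul]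

end WithH

end Main2

end Groth.Agent.Lib.Helper1.AH
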