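import Mathlib
import Groth.Prelude.Def_ArtFun4
import Groth.Agent.Lib.Helper1.AffThick
import Groth.Agent.Lib.Helper10.Thick

/-!
# Deformations of an affine scheme: the dictionary with flat algebras (helper1)

For `B₀` a `k`-algebra and `A : ArtFun.Art Λ k`:

* `isPushout_of_surjective`: a commutative square of rings with surjective horizontal maps `g : A' → A`, `θ : B' → B`
  and `ker θ ≤ (ker g) B'` is a pushout.
* `AlgDef B₀ A`: a flat `A`-algebra `B` with a surjection `π : B → B₀` over `A → k` whose kernel is `𝔪_A B`.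
* `AlgDef.toDefSch`: the deformation `Spec B` of `Spec B₀`.
* `exists_algDef`: every deformation of `Spec B₀` is isomorphic to one of this form.
* `AlgDef.isoOfRingEquiv`, `AlgDef.exists_ringEquiv_of_iso`: isomorphisms.
* `AlgDef.baseChangeIso`: base change along `g : A ⟶ A'` given a pushout square of rings.
-/

universe u

open CategoryTheory CategoryTheory.Limits AlgebraicGeometry

namespace Groth.Agent.Lib.Helper1.AffDef

section Ring

variable {A' A B' B : Type u} [CommRing A'] [CommRing A] [CommRing B'] [CommRing B]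

/-- A commutative square of rings with `g`, `θ` surjective and `ker θ ≤ (ker g) B'` is a pushout. -/
theorem isPushout_of_surjective (g : A' →+* A) (φ' : A' →+* B') (φ : A →+* B) (θ : B' →+* B)
    (comm : ∀ a, θ (φ' a) = φ (g a)) (hg : Function.Surjective g) (hθ : Function.Surjective θ)
    (hker : RingHom.ker θ ≤ (RingHom.ker g).map φ') :
    IsPushout (CommRingCat.ofHom g) (CommRingCat.ofHom φ') (CommRingCat.ofHom φ) (CommRingCat.ofHom θ) := by
  have hw : CommRingCat.ofHom g ≫ CommRingCat.ofHom φ = CommRingCat.ofHom φ' ≫ CommRingCat.ofHom θ := by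
    ext a
    exact (comm a).symm
  refine ⟨⟨hw⟩, ⟨PushoutCocone.IsColimit.mk _ (fun s => ?_) (fun s => ?_) (fun s => ?_) (fun s m h1 h2 => ?_)⟩⟩
  · -- the descent map
    have hs : ∀ a, s.inl.hom (g a) = s.inr.hom (φ' a) := fun a =>
      congrArg (fun m => m.hom a) s.condition
    have hk : ∀ x ∈ RingHom.ker θ, s.inr.hom x = 0 := by
      intro x hx
      have hx' := hker hx
      have : (RingHom.ker g).map φ' ≤ RingHom.ker s.inr.hom := by
        rw [Ideal.map_le_iff_le_comap]
        intro a ha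
        rw [Ideal.mem_comap, RingHom.mem_ker, ← hs, (RingHom.mem_ker).1 ha, map_zero]
      exact this hx'
    exact CommRingCat.ofHom (RingHom.liftOfSurjective θ hθ ⟨s.inr.hom, hk⟩)
  · -- inl
    ext a
    obtain ⟨a', rfl⟩ := hg a
    have hs : ∀ a, s.inl.hom (g a) = s.inr.hom (φ' a) := fun a =>
      congrArg (fun m => m.hom a) s.condition
    change RingHom.liftOfSurjective θ hθ _ (φ (g a')) = _
    rw [← comm, RingHom.liftOfSurjective_comp_apply, hs]
  · ext b
    change RingHom.liftOfSurjective θ hθ _ (θ b) = _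
    rw [RingHom.liftOfSurjective_comp_apply]
  · ext b
    obtain ⟨b', rfl⟩ := hθ b
    change m.hom (θ b') = RingHom.liftOfSurjective θ hθ _ (θ b')
    rw [RingHom.liftOfSurjective_comp_apply]
    exact congrArg (fun m => m.hom b') h2

end Ring

open ArtFun ArtFun.Art

variable {Λ k : Type u} [CommRing Λ] [Field k] [Algebra Λ k]
variable (B₀ : Type u) [CommRing B₀] [Algebra k B₀]

/-- The structure morphism of `Spec B₀`. -/
noncomputable abbrev x₀ : Spec (CommRingCat.of B₀) ⟶ specPt k :=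
  Spec.map (CommRingCat.ofHom (algebraMap k B₀))

/-- An algebraic deformation of `B₀` over `A`. -/
structure AlgDef (A : Art Λ k) : Type (u + 1) where
  /-- the ring -/
  B : Type u
  [commRing : CommRing B]
  [algebra : Algebra A B]
  flat : Module.Flat A B
  /-- the reduction -/
  π : B →+* B₀
  comm : ∀ a : A, π (algebraMap A B a) = algebraMap k B₀ (A.res a)
  surj : Function.Surjective π
  ker_le : RingHom.ker π ≤ (IsLocalRing.maximalIdeal A).map (algebraMap A B)

namespace AlgDef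

variable {B₀} {A : Art Λ k}

instance (𝔅 : AlgDef B₀ A) : CommRing 𝔅.B := 𝔅.commRing
instance (𝔅 : AlgDef B₀ A) : Algebra A 𝔅.B := 𝔅.algebra
instance (𝔅 : AlgDef B₀ A) : Module.Flat A 𝔅.B := 𝔅.flat

lemma ker_res (A : Art Λ k) : RingHom.ker (A.res : A →+* k) = IsLocalRing.maximalIdeal A := by
  ext a
  rw [RingHom.mem_ker, Art.mem_maximalIdeal_iff]
  rfl

lemma ker_eq (𝔅 : AlgDef B₀ A) :
    RingHom.ker 𝔅.π = (IsLocalRing.maximalIdeal A).map (algebraMap A 𝔅.B) := by
  apply le_antisymm 𝔅.ker_le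
  rw [Ideal.map_le_iff_le_comap]
  intro a ha
  rw [Ideal.mem_comap, RingHom.mem_ker, 𝔅.comm, (Art.mem_maximalIdeal_iff A a).1 ha, map_zero]

/-- The closed-fibre square of an algebraic deformation is a pushout. -/
theorem isPushout (𝔅 : AlgDef B₀ A) :
    IsPushout (CommRingCat.ofHom (A.res : A →+* k)) (CommRingCat.ofHom (algebraMap A 𝔅.B))
      (CommRingCat.ofHom (algebraMap k B₀)) (CommRingCat.ofHom 𝔅.π) :=
  isPushout_of_surjective _ _ _ _ 𝔅.comm A.res_surjective 𝔅.surj (by rw [ker_res]; exact 𝔅.ker_le)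

/-- Constructor from a pushout square. -/
noncomputable def ofIsPushout (B : Type u) [CommRing B] [Algebra A B] (hflat : Module.Flat A B) (π : B →+* B₀)
    (h : IsPushout (CommRingCat.ofHom (A.res : A →+* k)) (CommRingCat.ofHom (algebraMap A B))
      (CommRingCat.ofHom (algebraMap k B₀)) (CommRingCat.ofHom π)) : AlgDef B₀ A where
  B := B
  flat := hflat
  π := π
  comm a := (congrArg (fun m => m.hom a) h.w).symm
  surj := Groth.Agent.Lib.Helper10.Thick.surjective_of_isPushout _ _ _ _ h A.res_surjective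
  ker_le := by
    have := Groth.Agent.Lib.Helper10.Thick.ker_le_map_of_isPushout _ _ _ _ h A.res_surjective
    rwa [ker_res] at this

/-- The deformation `Spec B` of `Spec B₀`. -/
@[reducible] noncomputable def toDefSch (𝔅 : AlgDef B₀ A) : DefSch (Spec (CommRingCat.of B₀)) (x₀ (k := k) B₀) A where
  total := Spec (CommRingCat.of 𝔅.B)
  f := Spec.map (CommRingCat.ofHom (algebraMap A 𝔅.B))
  flat := by
    rw [Flat.SpecMap_iff]
    exact (RingHom.flat_algebraMap_iff).2 𝔅.flat
  i := Spec.map (CommRingCat.ofHom 𝔅.π)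
  isPullback := (isPullback_SpecMap_of_isPushout _ _ _ _ 𝔅.isPushout).flip

end AlgDef

variable {B₀} {A : Art Λ k}

instance subsingleton_spec (A : Art Λ k) : Subsingleton (Spec (CommRingCat.of A)) := by
  refine ⟨fun p q => ?_⟩
  apply PrimeSpectrum.ext
  have hp : p.asIdeal.IsMaximal := IsArtinianRing.isMaximal_of_isPrime p.asIdeal
  have hq : q.asIdeal.IsMaximal := IsArtinianRing.isMaximal_of_isPrime q.asIdeal
  rw [IsLocalRing.eq_maximalIdeal hp, IsLocalRing.eq_maximalIdeal hq]

instance surjective_specRes (A : Art Λ k) : Surjective (specRes A) := by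
  refine ⟨fun y => ?_⟩
  have : Nonempty (Spec (CommRingCat.of k)) := inferInstanceAs (Nonempty (PrimeSpectrum k))
  obtain ⟨z⟩ := this
  exact ⟨z, Subsingleton.elim _ _⟩

instance isClosedImmersion_specRes (A : Art Λ k) : IsClosedImmersion (specRes A) :=
  IsClosedImmersion.spec_of_surjective _ A.res_surjective

lemma isAffine_total (ξ : DefSch (Spec (CommRingCat.of B₀)) (x₀ (k := k) B₀) A) : IsAffine ξ.total := by
  have : IsClosedImmersion ξ.i := MorphismProperty.of_isPullback ξ.isPullback.flip inferInstance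
  have : Surjective ξ.i := MorphismProperty.of_isPullback ξ.isPullback.flip inferInstance
  exact AffThick.isAffine_of_thickening ξ.i ξ.i.surjective

/-- A cartesian square of spectra comes from a pushout square of rings. -/
theorem isPushout_of_isPullback_SpecMap {R S T P : CommRingCat.{u}} (f : R ⟶ S) (g : R ⟶ T) (inl : S ⟶ P) (inr : T ⟶ P)
    (h : IsPullback (Spec.map inl) (Spec.map inr) (Spec.map f) (Spec.map g)) : IsPushout f g inl inr := by
  have e : inl.op ≫ f.op = inr.op ≫ g.op := by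
    apply Scheme.Spec.map_injective
    rw [Functor.map_comp, Functor.map_comp]
    exact h.w
  have := IsPullback.of_map Scheme.Spec e h
  exact this.unop.flip

theorem exists_algDef (ξ : DefSch (Spec (CommRingCat.of B₀)) (x₀ (k := k) B₀) A) :
    ∃ 𝔅 : AlgDef B₀ A, Nonempty (ξ.Iso 𝔅.toDefSch) := by
  haveI := isAffine_total ξ
  let φc : CommRingCat.of A ⟶ Γ(ξ.total, ⊤) := (Scheme.ΓSpecIso (CommRingCat.of A)).inv ≫ ξ.f.appTop
  let πc : Γ(ξ.total, ⊤) ⟶ CommRingCat.of B₀ := ξ.i.appTop ≫ (Scheme.ΓSpecIso (CommRingCat.of B₀)).hom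
  have hf : ξ.f = ξ.total.isoSpec.hom ≫ Spec.map φc := by
    rw [Spec.map_comp, ← Category.assoc, Scheme.isoSpec_hom, ← Scheme.toSpecΓ_naturality, Category.assoc,
      toSpecΓ_SpecMap_ΓSpecIso_inv, Category.comp_id]
  have hi : ξ.i ≫ ξ.total.isoSpec.hom = Spec.map πc := by
    rw [Spec.map_comp, SpecMap_ΓSpecIso_hom, Scheme.isoSpec_hom, Scheme.toSpecΓ_naturality]
  letI : Algebra A Γ(ξ.total, ⊤) := φc.hom.toAlgebra
  have hpb : IsPullback (Spec.map πc) (x₀ (k := k) B₀) (Spec.map φc) (specRes A) :=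
    IsPullback.of_iso ξ.isPullback (Iso.refl _) ξ.total.isoSpec (Iso.refl _) (Iso.refl _)
      (by rw [Iso.refl_hom, Category.id_comp, hi]) (by simp) (by rw [Iso.refl_hom, Category.comp_id, hf])
      (by simp)
  have hpo : IsPushout (CommRingCat.ofHom (A.res : A →+* k)) φc (CommRingCat.ofHom (algebraMap k B₀)) πc :=
    isPushout_of_isPullback_SpecMap _ _ _ _ hpb.flip
  have hflat : Module.Flat A Γ(ξ.total, ⊤) := by
    have h1 : Flat (Spec.map φc) := by
      have : Spec.map φc = ξ.total.isoSpec.inv ≫ ξ.f := by rw [hf, Iso.inv_hom_id_assoc]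
      rw [this]
      infer_instance
    rw [Flat.SpecMap_iff] at h1
    exact h1
  refine ⟨AlgDef.ofIsPushout (A := A) Γ(ξ.total, ⊤) hflat πc.hom hpo, ⟨⟨ξ.total.isoSpec, ?_, ?_⟩⟩⟩
  · exact hf.symm
  · exact hi

variable {A' : Art Λ k}

namespace AlgDef

/-- An isomorphism of algebraic deformations gives an isomorphism of deformations. -/
noncomputable def isoOfRingEquiv (𝔅 𝔅' : AlgDef B₀ A) (e : 𝔅.B ≃+* 𝔅'.B)
    (hA : ∀ a, e (algebraMap A 𝔅.B a) = algebraMap A 𝔅'.B a) (hπ : ∀ b, 𝔅'.π (e b) = 𝔅.π b) :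
    𝔅.toDefSch.Iso 𝔅'.toDefSch where
  iso :=
    { hom := Spec.map (CommRingCat.ofHom e.symm.toRingHom)
      inv := Spec.map (CommRingCat.ofHom e.toRingHom)
      hom_inv_id := by
        rw [← Spec.map_comp, ← CommRingCat.ofHom_comp]
        have : e.symm.toRingHom.comp e.toRingHom = RingHom.id _ := by ext x; simp
        rw [this, CommRingCat.ofHom_id, Spec.map_id]
      inv_hom_id := by
        rw [← Spec.map_comp, ← CommRingCat.ofHom_comp]
        have : e.toRingHom.comp e.symm.toRingHom = RingHom.id _ := by ext x; simp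
        rw [this, CommRingCat.ofHom_id, Spec.map_id] }
  hom_f := by
    change Spec.map _ ≫ Spec.map _ = Spec.map _
    rw [← Spec.map_comp, ← CommRingCat.ofHom_comp]
    congr 2
    ext a
    change e.symm (algebraMap A 𝔅'.B a) = algebraMap A 𝔅.B a
    rw [RingEquiv.symm_apply_eq, hA]
  i_hom := by
    change Spec.map _ ≫ Spec.map _ = Spec.map _
    rw [← Spec.map_comp, ← CommRingCat.ofHom_comp]
    congr 2
    ext b
    change 𝔅.π (e.symm b) = 𝔅'.π b
    rw [← hπ, RingEquiv.apply_symm_apply]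

/-- An isomorphism of deformations comes from an isomorphism of algebraic deformations. -/
theorem exists_ringEquiv_of_iso (𝔅 𝔅' : AlgDef B₀ A) (i : 𝔅.toDefSch.Iso 𝔅'.toDefSch) :
    ∃ e : 𝔅.B ≃+* 𝔅'.B, (∀ a, e (algebraMap A 𝔅.B a) = algebraMap A 𝔅'.B a) ∧ ∀ b, 𝔅'.π (e b) = 𝔅.π b := by
  let ψ : CommRingCat.of 𝔅'.B ⟶ CommRingCat.of 𝔅.B := Spec.preimage i.iso.hom
  let ψ' : CommRingCat.of 𝔅.B ⟶ CommRingCat.of 𝔅'.B := Spec.preimage i.iso.inv
  have h1 : ψ ≫ ψ' = 𝟙 _ := by
    apply Spec.map_injective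
    rw [Spec.map_comp, Spec.map_preimage, Spec.map_preimage, Spec.map_id, i.iso.inv_hom_id]
  have h2 : ψ' ≫ ψ = 𝟙 _ := by
    apply Spec.map_injective
    rw [Spec.map_comp, Spec.map_preimage, Spec.map_preimage, Spec.map_id, i.iso.hom_inv_id]
  have hf : CommRingCat.ofHom (algebraMap A 𝔅'.B) ≫ ψ = CommRingCat.ofHom (algebraMap A 𝔅.B) := by
    apply Spec.map_injective
    rw [Spec.map_comp, Spec.map_preimage]
    exact i.hom_f
  have hi : ψ ≫ CommRingCat.ofHom 𝔅.π = CommRingCat.ofHom 𝔅'.π := by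
    apply Spec.map_injective
    rw [Spec.map_comp, Spec.map_preimage]
    exact i.i_hom
  refine ⟨RingEquiv.ofRingHom ψ'.hom ψ.hom ?_ ?_, ?_, ?_⟩
  · ext x
    exact congrArg (fun m => m.hom x) h1
  · ext x
    exact congrArg (fun m => m.hom x) h2
  · intro a
    change ψ'.hom (algebraMap A 𝔅.B a) = _
    have := congrArg (fun m => m.hom a) hf
    change ψ.hom (algebraMap A 𝔅'.B a) = algebraMap A 𝔅.B a at this
    rw [← this]
    exact congrArg (fun m => m.hom (algebraMap A 𝔅'.B a)) h1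
  · intro b
    change 𝔅'.π (ψ'.hom b) = _
    have := congrArg (fun m => m.hom (ψ'.hom b)) hi
    change 𝔅.π (ψ.hom (ψ'.hom b)) = 𝔅'.π (ψ'.hom b) at this
    rw [← this]
    congr 1
    exact congrArg (fun m => m.hom b) h2

/-- Base change of `Spec B` along `g`, given a pushout square of rings. -/
noncomputable def baseChangeIso (𝔅 : AlgDef B₀ A) (𝔅' : AlgDef B₀ A') (g : A ⟶ A') (θ : 𝔅.B →+* 𝔅'.B)
    (hπ : ∀ b, 𝔅'.π (θ b) = 𝔅.π b)
    (hpo : IsPushout (CommRingCat.ofHom g.toAlgHom.toRingHom) (CommRingCat.ofHom (algebraMap A 𝔅.B))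
      (CommRingCat.ofHom (algebraMap A' 𝔅'.B)) (CommRingCat.ofHom θ)) :
    (𝔅.toDefSch.baseChange g).Iso 𝔅'.toDefSch :=
  let h' : IsPullback (Spec.map (CommRingCat.ofHom θ)) (Spec.map (CommRingCat.ofHom (algebraMap A' 𝔅'.B)))
      𝔅.toDefSch.f (specMap g) := (isPullback_SpecMap_of_isPushout _ _ _ _ hpo).flip
  { iso := (IsPullback.of_hasPullback 𝔅.toDefSch.f (specMap g)).isoIsPullback _ _ h'
    hom_f := IsPullback.isoIsPullback_hom_snd _ _ _ _
    i_hom := by
      apply h'.hom_ext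
      · rw [Category.assoc, IsPullback.isoIsPullback_hom_fst, DefSch.baseChange_i_fst]
        change Spec.map _ = Spec.map _ ≫ Spec.map _
        rw [← Spec.map_comp, ← CommRingCat.ofHom_comp]
        congr 2
        ext b
        exact (hπ b).symm
      · rw [Category.assoc, IsPullback.isoIsPullback_hom_snd]
        refine (DefSch.baseChange_i_f 𝔅.toDefSch g).trans ?_
        exact (𝔅'.toDefSch.i_f).symm }

end AlgDef

open TensorProduct

namespace AlgDef

section Tensor

variable (𝔅 : AlgDef B₀ A) (g : A ⟶ A')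

/-- The tensor pushout square for base change along `g`. -/
theorem tensor_isPushout_aux :
    letI : Algebra A A' := g.toAlgHom.toRingHom.toAlgebra
    IsPushout (CommRingCat.ofHom g.toAlgHom.toRingHom) (CommRingCat.ofHom (algebraMap A 𝔅.B))
      (CommRingCat.ofHom (algebraMap A' (A' ⊗[A] 𝔅.B)))
      (CommRingCat.ofHom (Algebra.TensorProduct.includeRight : 𝔅.B →ₐ[A] A' ⊗[A] 𝔅.B).toRingHom) := by
  letI : Algebra A A' := g.toAlgHom.toRingHom.toAlgebra
  exact CommRingCat.isPushout_tensorProduct A A' 𝔅.B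

lemma res_eq : CommRingCat.ofHom (A.res : A →+* k) =
    CommRingCat.ofHom g.toAlgHom.toRingHom ≫ CommRingCat.ofHom (A'.res : A' →+* k) := by
  ext a
  exact (Art.res_app g a).symm

theorem isPushout' : IsPushout (CommRingCat.ofHom g.toAlgHom.toRingHom ≫ CommRingCat.ofHom (A'.res : A' →+* k))
    (CommRingCat.ofHom (algebraMap A 𝔅.B)) (CommRingCat.ofHom (algebraMap k B₀)) (CommRingCat.ofHom 𝔅.π) := by
  rw [← res_eq]
  exact 𝔅.isPushout

/-- The base change `A' ⊗[A] B` of an algebraic deformation. -/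
noncomputable def tensor : AlgDef B₀ A' :=
  letI : Algebra A A' := g.toAlgHom.toRingHom.toAlgebra
  ofIsPushout (A := A') (A' ⊗[A] 𝔅.B) inferInstance
    ((𝔅.tensor_isPushout_aux g).desc (CommRingCat.ofHom (A'.res : A' →+* k) ≫ CommRingCat.ofHom (algebraMap k B₀))
      (CommRingCat.ofHom 𝔅.π) (by rw [← Category.assoc, (𝔅.isPushout' g).w])).hom
    (IsPushout.of_left' (𝔅.isPushout' g) (𝔅.tensor_isPushout_aux g))

/-- The map `B → A' ⊗[A] B`. -/
noncomputable def tensorθ : 𝔅.B →+* (𝔅.tensor g).B :=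
  letI : Algebra A A' := g.toAlgHom.toRingHom.toAlgebra
  (Algebra.TensorProduct.includeRight : 𝔅.B →ₐ[A] A' ⊗[A] 𝔅.B).toRingHom

theorem tensor_isPushout :
    IsPushout (CommRingCat.ofHom g.toAlgHom.toRingHom) (CommRingCat.ofHom (algebraMap A 𝔅.B))
      (CommRingCat.ofHom (algebraMap A' (𝔅.tensor g).B)) (CommRingCat.ofHom (𝔅.tensorθ g)) :=
  𝔅.tensor_isPushout_aux g

lemma tensor_π_θ (b : 𝔅.B) : (𝔅.tensor g).π (𝔅.tensorθ g b) = 𝔅.π b := by
  have := (𝔅.tensor_isPushout_aux g).inr_desc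
    (CommRingCat.ofHom (A'.res : A' →+* k) ≫ CommRingCat.ofHom (algebraMap k B₀))
    (CommRingCat.ofHom 𝔅.π) (by rw [← Category.assoc, (𝔅.isPushout' g).w])
  exact congrArg (fun m => m.hom b) this

lemma tensorθ_algebraMap (a : A) :
    𝔅.tensorθ g (algebraMap A 𝔅.B a) = algebraMap A' (𝔅.tensor g).B (g a) :=
  (congrArg (fun m => m.hom a) (𝔅.tensor_isPushout g).w).symm

/-- Base change of `Spec B` is `Spec (A' ⊗[A] B)`. -/
noncomputable def baseChangeTensorIso : (𝔅.toDefSch.baseChange g).Iso (𝔅.tensor g).toDefSch :=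
  baseChangeIso 𝔅 (𝔅.tensor g) g (𝔅.tensorθ g) (𝔅.tensor_π_θ g) (𝔅.tensor_isPushout g)

/-- For surjective `g`, `B → A' ⊗[A] B` is surjective. -/
theorem tensorθ_surjective (hg : Function.Surjective g) : Function.Surjective (𝔅.tensorθ g) :=
  Groth.Agent.Lib.Helper10.Thick.surjective_of_isPushout _ _ _ _ (𝔅.tensor_isPushout g) hg

/-- For surjective `g`, the kernel of `B → A' ⊗[A] B` is `(ker g) B`. -/
theorem ker_tensorθ (hg : Function.Surjective g) :
    RingHom.ker (𝔅.tensorθ g) = (RingHom.ker g.toAlgHom.toRingHom).map (algebraMap A 𝔅.B) := by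
  apply le_antisymm
  · exact Groth.Agent.Lib.Helper10.Thick.ker_le_map_of_isPushout _ _ _ _ (𝔅.tensor_isPushout g) hg
  · rw [Ideal.map_le_iff_le_comap]
    intro a ha
    rw [Ideal.mem_comap, RingHom.mem_ker, tensorθ_algebraMap]
    have : g a = 0 := ha
    rw [this, map_zero]

end Tensor

end AlgDef

end Groth.Agent.Lib.Helper1.AffDef
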