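import Groth.Agent.Lib.Helper1.AH3
import Groth.Agent.Lib.Helper1.AH4
import Groth.Agent.Lib.Helper1.AffDef
import Groth.Agent.Lib.Helper3.ModCrit

/-!
# Unobstructedness of embedded deformations along a small extension: the scheme side

For a small extension `p : B → A` with kernel `(t)` and a flat closed subscheme `Z_A ⊆ X_A` with ideal
`IA`, we build the `O_X`-module `PP = J / 𝔪 J` (`J` the ideal of `Z_A` in `X_B`) and the extension
`0 → O_X / I₀ → PP → I₀ → 0`.
-/

universe u

open CategoryTheory CategoryTheory.Limits AlgebraicGeometry Opposite TopologicalSpace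
open ArtFun ArtFun.Art
open Groth.Agent.Lib.Helper29.QCoh Groth.Agent.Lib.Helper3

namespace Groth.Agent.Lib.Helper1.AH

/-! ### Morphisms of modules from relations on affine opens -/

section RelData

variable {S : Scheme.{u}}

/-- A morphism of modules given by an additive, linear, local relation on affine opens. -/
structure RelData (E N : S.Modules) where
  Rl : ∀ U : S.Opens, Γ(E, U) → Γ(N, U) → Prop
  ex : ∀ U, IsAffineOpen U → ∀ s, ∃ q, Rl U s q
  uniq : ∀ U, IsAffineOpen U → ∀ {s q q'}, Rl U s q → Rl U s q' → q = q'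
  add : ∀ U, IsAffineOpen U → ∀ {s s' q q'}, Rl U s q → Rl U s' q' → Rl U (s + s') (q + q')
  smul : ∀ U, IsAffineOpen U → ∀ (r : Γ(S, U)) {s q}, Rl U s q → Rl U (r • s) (r • q)
  res : ∀ {U V : S.Opens}, IsAffineOpen U → IsAffineOpen V → ∀ (h : V ≤ U) {s q},
    Rl U s q → Rl V (res E h s) (res N h q)

namespace RelData

variable {E N : S.Modules} (D : RelData E N)

/-- The map on sections over an affine open. -/
noncomputable def tmap (U : S.Opens) (hU : IsAffineOpen U) : Γ(E, U) →+ Γ(N, U) :=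
  AddMonoidHom.mk' (fun s => Classical.choose (D.ex U hU s)) (fun s s' =>
    D.uniq U hU (Classical.choose_spec (D.ex U hU (s + s')))
      (D.add U hU (Classical.choose_spec (D.ex U hU s)) (Classical.choose_spec (D.ex U hU s'))))

theorem tmap_spec (U : S.Opens) (hU : IsAffineOpen U) (s : Γ(E, U)) :
    D.Rl U s (D.tmap U hU s) :=
  Classical.choose_spec (D.ex U hU s)

/-- The affine data. -/
noncomputable def affData : AffHomData E N where
  t := D.tmap
  res_t U hU f m :=
    D.uniq (S.basicOpen f) (hU.basicOpen f)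
      (D.res hU (hU.basicOpen f) (S.basicOpen_le f) (D.tmap_spec U hU m))
      (D.tmap_spec (S.basicOpen f) (hU.basicOpen f) _)
  t_smul U hU r m :=
    D.uniq U hU (D.tmap_spec U hU (r • m)) (D.smul U hU r (D.tmap_spec U hU m))

/-- The morphism of modules. -/
noncomputable def hom : E ⟶ N := D.affData.hom

theorem hom_spec (U : S.Opens) (hU : IsAffineOpen U) (s : Γ(E, U)) :
    D.Rl U s (D.hom.app U s) := by
  have h : D.hom.app U s = D.tmap U hU s := AffHomData.hom_app _ U hU s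
  rw [h]
  exact D.tmap_spec U hU s

theorem hom_app_eq (U : S.Opens) (hU : IsAffineOpen U) {s : Γ(E, U)} {q : Γ(N, U)}
    (h : D.Rl U s q) : D.hom.app U s = q :=
  D.uniq U hU (D.hom_spec U hU s) h

end RelData

end RelData

/-! ### Generalities -/

section Gen

theorem appLE_congr_hom {Y Z : Scheme.{u}} {f g : Y ⟶ Z} (h : f = g) (U : Z.Opens) (V : Y.Opens)
    (e : V ≤ f ⁻¹ᵁ U) (e' : V ≤ g ⁻¹ᵁ U) : f.appLE U V e = g.appLE U V e' := by
  subst h
  rfl

theorem presheaf_map_self (Y : Scheme.{u}) (W : Y.Opens) (h : W ≤ W) (g : Γ(Y, W)) :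
    (Y.presheaf.map (homOfLE h).op).hom g = g := by
  have e : Y.presheaf.map (homOfLE h).op = 𝟙 _ := Y.presheaf.map_id (op W)
  rw [e]
  rfl

/-- The map `R → Γ(Y, V)` induced by `g : Y ⟶ Spec R`. -/
noncomputable def secMap {Y : Scheme.{u}} {Rc : CommRingCat.{u}} (g : Y ⟶ Spec Rc) (V : Y.Opens) :
    Rc →+* Γ(Y, V) :=
  (g.appLE ⊤ V le_top).hom.comp (Scheme.ΓSpecIso Rc).inv.hom

theorem secMap_comp_left {Y' Y : Scheme.{u}} {Rc : CommRingCat.{u}} (h : Y' ⟶ Y) (g : Y ⟶ Spec Rc)
    (V : Y.Opens) (V' : Y'.Opens) (e : V' ≤ h ⁻¹ᵁ V) (r : Rc) :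
    (h.appLE V V' e).hom (secMap g V r) = secMap (h ≫ g) V' r := by
  have h1 := Scheme.Hom.appLE_comp_appLE h g ⊤ V V' le_top e
  exact congrArg (fun k => k.hom ((Scheme.ΓSpecIso Rc).inv.hom r)) h1

theorem secMap_comp_right {Y : Scheme.{u}} {Rc Rc' : CommRingCat.{u}} (g : Y ⟶ Spec Rc')
    (q : Rc ⟶ Rc') (V : Y.Opens) (r : Rc) :
    secMap (g ≫ Spec.map q) V r = secMap g V (q.hom r) := by
  have h1 := Scheme.Hom.appLE_comp_appLE g (Spec.map q) ⊤ ⊤ V le_top le_top
  have h2 : (Spec.map q).appLE ⊤ ⊤ le_top = (Spec.map q).appTop := Scheme.Hom.appLE_eq_app _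
  have h1' : (Spec.map q).appTop ≫ g.appLE ⊤ V le_top = (g ≫ Spec.map q).appLE ⊤ V le_top := by
    rw [← h2]; exact h1
  have h4 : (Spec.map q).appTop.hom ((Scheme.ΓSpecIso Rc).inv.hom r) =
      (Scheme.ΓSpecIso Rc').inv.hom (q.hom r) := by
    have := Scheme.ΓSpecIso_inv_naturality q
    exact (congrArg (fun k => k.hom r) this).symm
  have h5 := congrArg (fun k => k.hom ((Scheme.ΓSpecIso Rc).inv.hom r)) h1'
  change ((g ≫ Spec.map q).appLE ⊤ V le_top).hom ((Scheme.ΓSpecIso Rc).inv.hom r) =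
    (g.appLE ⊤ V le_top).hom ((Scheme.ΓSpecIso Rc').inv.hom (q.hom r))
  rw [← h4]
  exact h5.symm

theorem flat_secMap {Y : Scheme.{u}} {Rc : CommRingCat.{u}} (g : Y ⟶ Spec Rc) [Flat g]
    (V : Y.Opens) (hV : IsAffineOpen V) : (secMap g V).Flat := by
  have h1 := HasRingHomProperty.appLE @Flat g inferInstance ⟨⊤, isAffineOpen_top _⟩ ⟨V, hV⟩ le_top
  have h3 : (Scheme.ΓSpecIso Rc).inv.hom.Flat :=
    RingHom.Flat.of_bijective (ConcreteCategory.bijective_of_isIso (Scheme.ΓSpecIso Rc).inv)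
  exact RingHom.Flat.comp h3 h1

theorem flat_appLE_of_flat_secMap {Y : Scheme.{u}} {Rc : CommRingCat.{u}} (g : Y ⟶ Spec Rc)
    (V : Y.Opens) (h : (secMap g V).Flat) : (g.appLE ⊤ V le_top).hom.Flat := by
  have h3 : (Scheme.ΓSpecIso Rc).hom.hom.Flat :=
    RingHom.Flat.of_bijective (ConcreteCategory.bijective_of_isIso (Scheme.ΓSpecIso Rc).hom)
  have e : (g.appLE ⊤ V le_top).hom = (secMap g V).comp (Scheme.ΓSpecIso Rc).hom.hom := by
    ext y
    have := (Scheme.ΓSpecIso Rc).hom_inv_id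
    have h4 : (Scheme.ΓSpecIso Rc).inv.hom ((Scheme.ΓSpecIso Rc).hom.hom y) = y :=
      congrArg (fun k => k.hom y) this
    change _ = (g.appLE ⊤ V le_top).hom ((Scheme.ΓSpecIso Rc).inv.hom
      ((Scheme.ΓSpecIso Rc).hom.hom y))
    rw [h4]
  rw [e]
  exact RingHom.Flat.comp h3 h

/-- Splitting a short exact sequence whose `Ext¹` vanishes. -/
theorem exists_retraction_of_subsingleton_ext {C : Type*} [Category C] [Abelian C]
    [HasExt.{u} C] {S : ShortComplex C} (hS : S.ShortExact)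
    (h : Subsingleton (Abelian.Ext.{u} S.X₃ S.X₁ 1)) : ∃ r : S.X₂ ⟶ S.X₁, S.f ≫ r = 𝟙 _ := by
  have h0 : hS.extClass.comp (Abelian.Ext.mk₀ (𝟙 S.X₁)) (by norm_num : 1 + 0 = 1) = 0 := by
    have : hS.extClass = 0 := Subsingleton.elim _ _
    rw [this, Abelian.Ext.zero_comp]
  obtain ⟨x₂, hx₂⟩ := Abelian.Ext.contravariant_sequence_exact₁ hS S.X₁
    (Abelian.Ext.mk₀ (𝟙 S.X₁)) (by norm_num) h0
  obtain ⟨r, rfl⟩ := (Abelian.Ext.mk₀_bijective _ _).2 x₂
  refine ⟨r, ?_⟩
  rw [Abelian.Ext.mk₀_comp_mk₀] at hx₂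
  exact (Abelian.Ext.mk₀_bijective _ _).1 hx₂

end Gen

/-! ### The closed fibre inside `X_B` -/

section Fibre

variable {k : Type u} [Field k] {X : Scheme.{u}} (x : X ⟶ specPt k) (B : Art k k)

instance isClosedImmersion_XAincl : IsClosedImmersion (XAincl x B) :=
  isClosedImmersion_of_isPullback (CommRingCat.ofHom B.res.toRingHom) B.res_surjective
    (isPullback_XAincl x B)

instance surjective_XAincl : Surjective (XAincl x B) :=
  MorphismProperty.of_isPullback (P := @Surjective) (isPullback_XAincl x B).flip inferInstance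

theorem flat_x : Flat x := by
  haveI : Subsingleton ↥(Spec (CommRingCat.of k)) :=
    inferInstanceAs (Subsingleton (PrimeSpectrum k))
  infer_instance

theorem flat_XApr : Flat (XApr x B) := by
  haveI : Flat x := flat_x x
  infer_instance

theorem phi_eq_secMap (U : X.Opens) : phi x B U = secMap (XApr x B) (WW x B U) := rfl

theorem flat_phi (U : X.Opens) (hU : IsAffineOpen U) : (phi x B U).Flat := by
  haveI := flat_XApr x B
  exact flat_secMap (XApr x B) (WW x B U) (isAffineOpen_WW x B hU)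

theorem WW_preimage (V : (XA x B).Opens) : WW x B ((XAincl x B) ⁻¹ᵁ V) = V := by
  ext y
  obtain ⟨x', rfl⟩ := (XAincl x B).surjective y
  have h : (pullback.fst x (specOver B)) ((XAincl x B) x') = x' := by
    rw [← Scheme.Hom.comp_apply, XAincl_fst]
    rfl
  change (XAincl x B) ((pullback.fst x (specOver B)) ((XAincl x B) x')) ∈ V ↔ (XAincl x B) x' ∈ V
  rw [h]

theorem exists_eq_WW (V : (XA x B).Opens) (hV : IsAffineOpen V) :
    ∃ U : X.Opens, IsAffineOpen U ∧ V = WW x B U :=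
  ⟨(XAincl x B) ⁻¹ᵁ V, hV.preimage (XAincl x B), (WW_preimage x B V).symm⟩

theorem le_of_WW_le {U V : X.Opens} (h : WW x B V ≤ WW x B U) : V ≤ U := by
  have := Scheme.Hom.preimage_mono (XAincl x B) h
  rwa [XAincl_preimage_WW, XAincl_preimage_WW] at this

theorem WW_basicOpen (U : X.Opens) (f : Γ(XA x B, WW x B U)) :
    WW x B (X.basicOpen (rho x B U f)) = (XA x B).basicOpen f := by
  have h1 : X.basicOpen (rho x B U f) = U ⊓ (XAincl x B) ⁻¹ᵁ ((XA x B).basicOpen f) :=
    Scheme.basicOpen_appLE (XAincl x B) U (WW x B U) _ f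
  have h3 : (XAincl x B) ⁻¹ᵁ ((XA x B).basicOpen f) ≤ U := by
    have := Scheme.Hom.preimage_mono (XAincl x B) ((XA x B).basicOpen_le f)
    rwa [XAincl_preimage_WW] at this
  rw [h1, inf_eq_right.2 h3, WW_preimage]

theorem rho_fst_app (U : X.Opens) (r : Γ(X, U)) :
    rho x B U (((pullback.fst x (specOver B)).app U).hom r) = r := by
  have h := Scheme.Hom.appLE_comp_appLE (XAincl x B) (pullback.fst x (specOver B)) U (WW x B U) U
    le_rfl (XAincl_preimage_WW x B U).ge
  have h2 : (pullback.fst x (specOver B)).appLE U (WW x B U) le_rfl =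
      (pullback.fst x (specOver B)).app U := Scheme.Hom.appLE_eq_app _
  rw [appLE_eq_id _ (XAincl_fst x B), h2] at h
  exact congrArg (fun k => k.hom r) h

theorem rho_res {U V : X.Opens} (hVU : V ≤ U) (n : Γ(XA x B, WW x B U)) :
    rho x B V (((XA x B).presheaf.map (homOfLE (WW_mono x B hVU)).op).hom n) =
      (X.presheaf.map (homOfLE hVU).op).hom (rho x B U n) := by
  have e1 := Scheme.Hom.map_appLE (XAincl x B) (XAincl_preimage_WW x B V).ge
    (homOfLE (WW_mono x B hVU)).op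
  have e2 := Scheme.Hom.appLE_map (XAincl x B) (XAincl_preimage_WW x B U).ge (homOfLE hVU).op
  have e3 := e1.trans e2.symm
  exact congrArg (fun k => k.hom n) e3

theorem phi_res {U V : X.Opens} (hVU : V ≤ U) (b : B) :
    ((XA x B).presheaf.map (homOfLE (WW_mono x B hVU)).op).hom (phi x B U b) = phi x B V b := by
  have e := Scheme.Hom.appLE_map (XApr x B) (U := ⊤) (V := WW x B U) (V' := WW x B V) le_top
    (homOfLE (WW_mono x B hVU)).op
  exact congrArg (fun k => k.hom ((Scheme.ΓSpecIso (CommRingCat.of B)).inv.hom b)) e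

theorem ker_XAincl_ideal (U : X.Opens) (hU : IsAffineOpen U) :
    (XAincl x B).ker.ideal ⟨WW x B U, isAffineOpen_WW x B hU⟩ =
      (IsLocalRing.maximalIdeal B).map (phi x B U) := by
  rw [← ker_rho x B U hU]
  have h1 : (XAincl x B).ker.ideal ⟨WW x B U, isAffineOpen_WW x B hU⟩ =
      RingHom.ker ((XAincl x B).app (WW x B U)).hom :=
    Scheme.Hom.ker_apply (XAincl x B) ⟨WW x B U, isAffineOpen_WW x B hU⟩
  rw [h1]
  symm
  change RingHom.ker ((X.presheaf.map (homOfLE (XAincl_preimage_WW x B U).ge).op).hom.comp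
    ((XAincl x B).app (WW x B U)).hom) = _
  exact RingHom.ker_comp_of_injective _
    (presheaf_map_injective_of_eq X (XAincl_preimage_WW x B U).symm)

end Fibre

end Groth.Agent.Lib.Helper1.AH
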