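import Mathlib
import Groth.Prelude.Def_FGA
import Groth.Prelude.Def_ArtFun6
import Groth.Agent.Lib.Helper1.AH5

/-!
# The Hilbert scheme pro-represents the local Hilbert functor at a `k`-point (helper1)

If `(H, Z)` represents the Hilbert functor of `y : Y → Spec k` and `x₀ : Spec k → H` classifies the closed
subscheme `I₀` of `Y`, then pointed `k`-maps `Spec A → H` (for `A` local Artinian with residue field `k`)
are in natural bijection with `localHilb Y y I₀ (A)`; and pointed maps are the local `k`-algebra maps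
`O_{H, x₀} → A`. This gives a family `h_{O_{H,x₀}} → localHilb`, bijective on every `A`.
-/
universe u
open CategoryTheory CategoryTheory.Limits AlgebraicGeometry

namespace Groth.Agent.Lib.Helper1.AH

open ArtFun ArtFun.Art

section XT

variable {X S : Scheme.{u}} (f : X ⟶ S)

lemma XTmap_snd {T T' : Over S} (g : T' ⟶ T) :
    PicF.XTmap f g ≫ pullback.snd f T.hom = pullback.snd f T'.hom ≫ g.left := by
  simp only [PicF.XTmap, pullback.map, pullback.lift_snd]

lemma XTmap_comp {T T' T'' : Over S} (g : T'' ⟶ T') (g' : T' ⟶ T) :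
    PicF.XTmap f (g ≫ g') = PicF.XTmap f g ≫ PicF.XTmap f g' := by
  apply pullback.hom_ext
  · rw [FGA.XTmap_fst, Category.assoc, FGA.XTmap_fst, FGA.XTmap_fst]
  · rw [XTmap_snd, Category.assoc, XTmap_snd, ← Category.assoc, XTmap_snd, Category.assoc]
    rfl

lemma isPullback_XTmap {T T' : Over S} (g : T' ⟶ T) :
    IsPullback (PicF.XTmap f g) (PicF.XTproj f T') (PicF.XTproj f T) g.left := by
  refine IsPullback.of_right ?_ (XTmap_snd f g) (IsPullback.of_hasPullback f T.hom)
  rw [FGA.XTmap_fst, Over.w g]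
  exact IsPullback.of_hasPullback f T'.hom

lemma hilbPull_eq_comap {T T' : Over S} (g : T' ⟶ T) (I : (PicF.XT f T).IdealSheafData) :
    FGA.hilbPull f g I = I.comap (PicF.XTmap f g) := by
  unfold FGA.hilbPull Scheme.IdealSheafData.comap
  rw [← pullbackSymmetry_hom_comp_fst, Scheme.Hom.ker_comp_of_isIso]

lemma flat_comap_XTmap {T T' : Over S} (g : T' ⟶ T) (I : (PicF.XT f T).IdealSheafData)
    (hI : Flat (I.subschemeι ≫ PicF.XTproj f T)) :
    Flat ((I.comap (PicF.XTmap f g)).subschemeι ≫ PicF.XTproj f T') := by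
  have sq : IsPullback (pullback.snd (PicF.XTmap f g) I.subschemeι)
      (pullback.fst (PicF.XTmap f g) I.subschemeι ≫ PicF.XTproj f T')
      (I.subschemeι ≫ PicF.XTproj f T) g.left :=
    IsPullback.paste_vert (IsPullback.of_hasPullback (PicF.XTmap f g) I.subschemeι).flip
      (isPullback_XTmap f g)
  have hflat : Flat (pullback.fst (PicF.XTmap f g) I.subschemeι ≫ PicF.XTproj f T') :=
    MorphismProperty.of_isPullback (P := @Flat) sq hI
  rw [← Scheme.IdealSheafData.comapIso_hom_fst, Category.assoc]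
  exact (MorphismProperty.cancel_left_of_respectsIso @Flat (I.comapIso (PicF.XTmap f g)).hom _).2 hflat

end XT

section Hilb

variable {k : Type u} [Field k] {Y : Scheme.{u}} (y : Y ⟶ specPt k)

lemma specRes_specOver (A : Art k k) : specRes A ≫ specOver A = 𝟙 (specPt k) := by
  have h : specRes A ≫ specMap (ofBase A) = specRes (base k k) := specRes_comp (ofBase A)
  refine h.trans ?_
  change Spec.map (CommRingCat.ofHom (RingHom.id k)) = 𝟙 _
  rw [CommRingCat.ofHom_id, Spec.map_id]

variable (H : Over (specPt k)) (x₀ : Over.mk (𝟙 (specPt k)) ⟶ H)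

/-- pointed `k`-maps `Spec A ⟶ H` -/
def PM (A : Art k k) : Type u :=
  {g : spec A ⟶ H.left // g ≫ H.hom = specOver A ∧ specRes A ≫ g = x₀.left}

variable {H x₀}

/-- a pointed map as a morphism over `Spec k` -/
noncomputable def PM.over {A : Art k k} (g : PM H x₀ A) : Over.mk (specOver A) ⟶ H :=
  Over.homMk g.1 g.2.1

/-- composition with `Spec B ⟶ Spec A` -/
noncomputable def PM.map {A B : Art k k} (p : A ⟶ B) (g : PM H x₀ A) : PM H x₀ B :=
  ⟨specMap p ≫ g.1, by rw [Category.assoc, g.2.1, specOver_comp],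
    by rw [← Category.assoc, specRes_comp, g.2.2]⟩

lemma fst_XAincl_XTmap {A : Art k k} (g : PM H x₀ A) :
    pullback.fst y (Over.mk (𝟙 (specPt k))).hom ≫ XAincl y A ≫ PicF.XTmap y g.over =
      PicF.XTmap y x₀ := by
  apply pullback.hom_ext
  · have e1 : PicF.XTmap y g.over ≫ pullback.fst y H.hom = pullback.fst y (specOver A) :=
      FGA.XTmap_fst y g.over
    have e3 : PicF.XTmap y x₀ ≫ pullback.fst y H.hom =
        pullback.fst y (Over.mk (𝟙 (specPt k))).hom := FGA.XTmap_fst y x₀
    rw [Category.assoc, Category.assoc, e1, XAincl_fst, Category.comp_id, e3]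
  · have e1 : PicF.XTmap y g.over ≫ pullback.snd y H.hom = pullback.snd y (specOver A) ≫ g.1 :=
      XTmap_snd y g.over
    have e2 : XAincl y A ≫ pullback.snd y (specOver A) = y ≫ specRes A := XAincl_snd y A
    have e3 : PicF.XTmap y x₀ ≫ pullback.snd y H.hom =
        pullback.snd y (Over.mk (𝟙 (specPt k))).hom ≫ x₀.left := XTmap_snd y x₀
    have e4 : pullback.fst y (Over.mk (𝟙 (specPt k))).hom ≫ y =
        pullback.snd y (Over.mk (𝟙 (specPt k))).hom := by
      have h := pullback.condition (f := y) (g := (Over.mk (𝟙 (specPt k))).hom)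
      rw [h]
      exact Category.comp_id _
    rw [Category.assoc, Category.assoc, e1, reassoc_of% e2, g.2.2, reassoc_of% e4, e3]

lemma comap_fst_injective (J J' : Y.IdealSheafData)
    (e : J.comap (pullback.fst y (Over.mk (𝟙 (specPt k))).hom) =
      J'.comap (pullback.fst y (Over.mk (𝟙 (specPt k))).hom)) : J = J' := by
  haveI : IsIso (Over.mk (𝟙 (specPt k))).hom := inferInstanceAs (IsIso (𝟙 (specPt k)))
  haveI : IsIso (pullback.fst y (Over.mk (𝟙 (specPt k))).hom) := inferInstance
  have h := congrArg (fun K => K.comap (inv (pullback.fst y (Over.mk (𝟙 (specPt k))).hom))) e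
  simp only [← Scheme.IdealSheafData.comap_comp, IsIso.inv_hom_id,
    Scheme.IdealSheafData.comap_id] at h
  exact h

variable (Z : FGA.HilbSet y H) (I₀ : Y.IdealSheafData)
  (hh : FGA.hilbPull y x₀ Z.1 = I₀.comap (pullback.fst y (Over.mk (𝟙 (specPt k))).hom))

include hh in
lemma comap_XAincl_comap_XTmap {A : Art k k} (g : PM H x₀ A) :
    (Z.1.comap (PicF.XTmap y g.over)).comap (XAincl y A) = I₀ := by
  apply comap_fst_injective y
  rw [← Scheme.IdealSheafData.comap_comp, ← Scheme.IdealSheafData.comap_comp, Category.assoc,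
    fst_XAincl_XTmap, ← hilbPull_eq_comap, hh]

/-- the element of the local Hilbert functor of a pointed map -/
noncomputable def toHilb {A : Art k k} (g : PM H x₀ A) : (localHilb Y y I₀).obj A :=
  ⟨Z.1.comap (PicF.XTmap y g.over), flat_comap_XTmap y g.over Z.1 Z.2.2,
    comap_XAincl_comap_XTmap y Z I₀ hh g⟩

lemma toHilb_val {A : Art k k} (g : PM H x₀ A) :
    (toHilb y Z I₀ hh g).1 = Z.1.comap (PicF.XTmap y g.over) := rfl

lemma XTmap_map {A B : Art k k} (p : A ⟶ B) (g : PM H x₀ A) :
    PicF.XTmap y (g.map p).over = XAmap y p ≫ PicF.XTmap y g.over := by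
  apply pullback.hom_ext
  · have e1 : PicF.XTmap y (g.map p).over ≫ pullback.fst y H.hom = pullback.fst y (specOver B) :=
      FGA.XTmap_fst y (g.map p).over
    have e2 : PicF.XTmap y g.over ≫ pullback.fst y H.hom = pullback.fst y (specOver A) :=
      FGA.XTmap_fst y g.over
    rw [e1, Category.assoc, e2, XAmap_fst]
  · have e1 : PicF.XTmap y (g.map p).over ≫ pullback.snd y H.hom =
        pullback.snd y (specOver B) ≫ specMap p ≫ g.1 := XTmap_snd y (g.map p).over
    have e2 : PicF.XTmap y g.over ≫ pullback.snd y H.hom = pullback.snd y (specOver A) ≫ g.1 :=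
      XTmap_snd y g.over
    have e3 : XAmap y p ≫ pullback.snd y (specOver A) = pullback.snd y (specOver B) ≫ specMap p :=
      XAmap_snd y p
    rw [e1, Category.assoc, e2, reassoc_of% e3]

lemma toHilb_map {A B : Art k k} (p : A ⟶ B) (g : PM H x₀ A) :
    toHilb y Z I₀ hh (g.map p) = (localHilb Y y I₀).map p (toHilb y Z I₀ hh g) := by
  apply Subtype.ext
  change Z.1.comap (PicF.XTmap y (g.map p).over) =
    (Z.1.comap (PicF.XTmap y g.over)).comap (XAmap y p)
  rw [← Scheme.IdealSheafData.comap_comp, XTmap_map]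

variable [IsProper y]

/-- an element of the local Hilbert functor as an element of the Hilbert functor -/
def hilbOfLocal {A : Art k k} (I : (localHilb Y y I₀).obj A) :
    FGA.HilbSet y (Over.mk (specOver A)) :=
  ⟨I.1, inferInstanceAs (IsProper (I.1.subschemeι ≫ pullback.snd y (specOver A))), I.2.1⟩

/-- the closed subscheme `I₀` as an element of the Hilbert functor over `Spec k` -/
noncomputable def hilb0 : FGA.HilbSet y (Over.mk (𝟙 (specPt k))) :=
  ⟨I₀.comap (pullback.fst y (Over.mk (𝟙 (specPt k))).hom),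
    inferInstanceAs (IsProper ((I₀.comap (pullback.fst y (Over.mk (𝟙 (specPt k))).hom)).subschemeι ≫
      pullback.snd y (Over.mk (𝟙 (specPt k))).hom)),
    flat_x (k := k) _⟩

lemma XTmap_of_left_eq (A : Art k k) (r : Over.mk (𝟙 (specPt k)) ⟶ Over.mk (specOver A))
    (hr : r.left = specRes A) :
    PicF.XTmap y r = pullback.fst y (Over.mk (𝟙 (specPt k))).hom ≫ XAincl y A := by
  apply pullback.hom_ext
  · show PicF.XTmap y r ≫ pullback.fst y (specOver A) =
      (pullback.fst y (Over.mk (𝟙 (specPt k))).hom ≫ XAincl y A) ≫ pullback.fst y (specOver A)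
    have e1 : PicF.XTmap y r ≫ pullback.fst y (specOver A) =
        pullback.fst y (Over.mk (𝟙 (specPt k))).hom := FGA.XTmap_fst y r
    rw [e1, Category.assoc, XAincl_fst, Category.comp_id]
  · show PicF.XTmap y r ≫ pullback.snd y (specOver A) =
      (pullback.fst y (Over.mk (𝟙 (specPt k))).hom ≫ XAincl y A) ≫ pullback.snd y (specOver A)
    have e1 : PicF.XTmap y r ≫ pullback.snd y (specOver A) =
        pullback.snd y (Over.mk (𝟙 (specPt k))).hom ≫ r.left := XTmap_snd y r
    have e4 : pullback.fst y (Over.mk (𝟙 (specPt k))).hom ≫ y =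
        pullback.snd y (Over.mk (𝟙 (specPt k))).hom := by
      have h := pullback.condition (f := y) (g := (Over.mk (𝟙 (specPt k))).hom)
      rw [h]
      exact Category.comp_id _
    rw [e1, hr, Category.assoc, XAincl_snd, reassoc_of% e4]

lemma XTmap_specRes (A : Art k k) :
    PicF.XTmap y (Over.homMk (specRes A) (specRes_specOver A) :
      Over.mk (𝟙 (specPt k)) ⟶ Over.mk (specOver A)) =
      pullback.fst y (Over.mk (𝟙 (specPt k))).hom ≫ XAincl y A :=
  XTmap_of_left_eq y A _ rfl

variable (hH : FGA.HilbRepresentedBy y H Z)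

include hH in
lemma toHilb_injective (A : Art k k) : Function.Injective (toHilb y Z I₀ hh (A := A)) := by
  intro g g' e
  have e' : Z.1.comap (PicF.XTmap y g.over) = Z.1.comap (PicF.XTmap y g'.over) :=
    congrArg Subtype.val e
  haveI : IsLocallyNoetherian (Over.mk (specOver A)).left :=
    inferInstanceAs (IsLocallyNoetherian (spec A))
  obtain ⟨g₀, -, hu⟩ := hH.2 (Over.mk (specOver A)) (hilbOfLocal y I₀ (toHilb y Z I₀ hh g))
  have h1 : g.over = g₀ := hu _ (hilbPull_eq_comap y g.over Z.1)
  have h2 : g'.over = g₀ := hu _ ((hilbPull_eq_comap y g'.over Z.1).trans e'.symm)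
  apply Subtype.ext
  exact congrArg (fun t : Over.mk (specOver A) ⟶ H => t.left) (h1.trans h2.symm)

include hH in
lemma toHilb_surjective (A : Art k k) : Function.Surjective (toHilb y Z I₀ hh (A := A)) := by
  intro I
  haveI : IsLocallyNoetherian (Over.mk (specOver A)).left :=
    inferInstanceAs (IsLocallyNoetherian (spec A))
  obtain ⟨ĝ, hĝ, -⟩ := hH.2 (Over.mk (specOver A)) (hilbOfLocal y I₀ I)
  have hĝ' : Z.1.comap (PicF.XTmap y ĝ) = I.1 := (hilbPull_eq_comap y ĝ Z.1).symm.trans hĝ
  have hpt : (Over.homMk (specRes A) (specRes_specOver A) :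
      Over.mk (𝟙 (specPt k)) ⟶ Over.mk (specOver A)) ≫ ĝ = x₀ := by
    haveI : IsLocallyNoetherian (Over.mk (𝟙 (specPt k))).left :=
      inferInstanceAs (IsLocallyNoetherian (specPt k))
    obtain ⟨g₀, -, hu⟩ := hH.2 (Over.mk (𝟙 (specPt k))) (hilb0 y I₀)
    have h1 : (Over.homMk (specRes A) (specRes_specOver A) :
        Over.mk (𝟙 (specPt k)) ⟶ Over.mk (specOver A)) ≫ ĝ = g₀ := by
      apply hu
      rw [hilbPull_eq_comap, XTmap_comp, Scheme.IdealSheafData.comap_comp, hĝ', XTmap_specRes,
        Scheme.IdealSheafData.comap_comp, I.2.2]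
      rfl
    have h2 : x₀ = g₀ := hu _ hh
    exact h1.trans h2.symm
  refine ⟨⟨ĝ.left, Over.w ĝ, ?_⟩, ?_⟩
  · exact congrArg (fun t : Over.mk (𝟙 (specPt k)) ⟶ H => t.left) hpt
  · apply Subtype.ext
    exact hĝ'

end Hilb

section Chart

variable {k : Type u} [Field k] (H : Over (specPt k)) (x₀ : Over.mk (𝟙 (specPt k)) ⟶ H)
  (B : Type u) [CommRing B] [Algebra k B] (π : B →ₐ[k] k)
  (j : Spec (CommRingCat.of B) ⟶ H.left) [Mono j]
  (hjm : j ≫ H.hom = Spec.map (CommRingCat.ofHom (algebraMap k B)))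
  (hπj : Spec.map (CommRingCat.ofHom π.toRingHom) ≫ j = x₀.left)

/-- the pointed map of an augmented algebra map, through a chart `j : Spec B ⟶ H` -/
noncomputable def chartMap (A : Art k k) (φ : HomSet B π A) : PM H x₀ A :=
  ⟨Spec.map (CommRingCat.ofHom φ.1.toRingHom) ≫ j, by
    constructor
    · show _ = specMap (ofBase A)
      rw [Category.assoc, hjm, ← Spec.map_comp, ← CommRingCat.ofHom_comp]
      congr 2
      apply RingHom.ext
      intro c
      exact φ.1.commutes c
    · rw [← Category.assoc, ← hπj]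
      congr 1
      change Spec.map _ ≫ Spec.map _ = Spec.map _
      rw [← Spec.map_comp, ← CommRingCat.ofHom_comp]
      congr 2
      exact congrArg AlgHom.toRingHom φ.2⟩

lemma chartMap_val (A : Art k k) (φ : HomSet B π A) :
    (chartMap H x₀ B π j hjm hπj A φ).1 = Spec.map (CommRingCat.ofHom φ.1.toRingHom) ≫ j := rfl

lemma chartMap_injective (A : Art k k) : Function.Injective (chartMap H x₀ B π j hjm hπj A) := by
  intro φ φ' e
  have e1 : Spec.map (CommRingCat.ofHom φ.1.toRingHom) ≫ j =
      Spec.map (CommRingCat.ofHom φ'.1.toRingHom) ≫ j := congrArg Subtype.val e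
  have e2 := Spec.map_injective ((cancel_mono j).1 e1)
  apply Subtype.ext
  apply AlgHom.ext
  intro b
  exact congrArg (fun f : CommRingCat.of B ⟶ CommRingCat.of A => f.hom b) e2

lemma chartMap_surjective (A : Art k k)
    (hlift : ∀ g : spec A ⟶ H.left, specRes A ≫ g = x₀.left →
      ∃ ψ : CommRingCat.of B ⟶ CommRingCat.of A, Spec.map ψ ≫ j = g) :
    Function.Surjective (chartMap H x₀ B π j hjm hπj A) := by
  intro g
  obtain ⟨ψ, hψ⟩ := hlift g.1 g.2.2
  have hc : CommRingCat.ofHom (algebraMap k B) ≫ ψ = CommRingCat.ofHom (algebraMap k A) := by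
    apply Spec.map_injective
    rw [Spec.map_comp, ← hjm, ← Category.assoc, hψ, g.2.1]
    rfl
  have h1 : ψ ≫ CommRingCat.ofHom A.res.toRingHom = CommRingCat.ofHom π.toRingHom := by
    apply Spec.map_injective
    rw [← cancel_mono j, Spec.map_comp, Category.assoc, hψ, hπj]
    exact g.2.2
  refine ⟨⟨{ ψ.hom with
      commutes' := fun c =>
        congrArg (fun f : CommRingCat.of k ⟶ CommRingCat.of A => f.hom c) hc }, ?_⟩, ?_⟩
  · apply AlgHom.ext
    intro b
    exact congrArg (fun f : CommRingCat.of B ⟶ CommRingCat.of k => f.hom b) h1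
  · apply Subtype.ext
    exact hψ

lemma chartMap_map {A A' : Art k k} (p : A ⟶ A') (φ : HomSet B π A) :
    chartMap H x₀ B π j hjm hπj A' (HomSet.map p φ) = (chartMap H x₀ B π j hjm hπj A φ).map p := by
  apply Subtype.ext
  change Spec.map (CommRingCat.ofHom (HomSet.map p φ).1.toRingHom) ≫ j =
    Spec.map (CommRingCat.ofHom p.toAlgHom.toRingHom) ≫
      Spec.map (CommRingCat.ofHom φ.1.toRingHom) ≫ j
  rw [← Category.assoc, ← Spec.map_comp, ← CommRingCat.ofHom_comp]
  rfl

end Chart

section StalkChart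

variable {k : Type u} [Field k] (H : Over (specPt k)) (x₀ : Over.mk (𝟙 (specPt k)) ⟶ H)

/-- the point as a morphism `Spec k ⟶ H` -/
noncomputable abbrev ptMap : specPt k ⟶ H.left := x₀.left

lemma exists_lift_stalk (A : Art k k) (g : spec A ⟶ H.left) (hg : specRes A ≫ g = ptMap H x₀) :
    ∃ ψ : H.left.presheaf.stalk ((ptMap H x₀).base (IsLocalRing.closedPoint k)) ⟶ CommRingCat.of A,
      Spec.map ψ ≫ H.left.fromSpecStalk ((ptMap H x₀).base (IsLocalRing.closedPoint k)) = g := by
  haveI : IsLocalHom A.res.toRingHom :=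
    Function.Surjective.isLocalHom (f := A.res.toRingHom) A.res_surjective
  haveI : IsLocalHom (CommRingCat.ofHom A.res.toRingHom).hom := ‹IsLocalHom A.res.toRingHom›
  have hpt : g (IsLocalRing.closedPoint A) = (ptMap H x₀) (IsLocalRing.closedPoint k) := by
    have h2 : (specRes A ≫ g) (IsLocalRing.closedPoint k) =
        (ptMap H x₀) (IsLocalRing.closedPoint k) := by rw [hg]
    rw [Scheme.Hom.comp_apply, Spec_closedPoint] at h2
    exact h2
  have hs : g (IsLocalRing.closedPoint A) ⤳ (ptMap H x₀) (IsLocalRing.closedPoint k) :=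
    specializes_of_eq hpt
  refine ⟨H.left.presheaf.stalkSpecializes hs ≫ Scheme.stalkClosedPointTo g, ?_⟩
  rw [Spec.map_comp, Category.assoc, Scheme.SpecMap_stalkSpecializes_fromSpecStalk hs,
    Scheme.Spec_stalkClosedPointTo_fromSpecStalk]

end StalkChart

section Main

variable {k : Type u} [Field k] {Y : Scheme.{u}} (y : Y ⟶ specPt k) [IsProper y]
  (H : Over (specPt k)) (Z : FGA.HilbSet y H) (hH : FGA.HilbRepresentedBy y H Z)
  (I₀ : Y.IdealSheafData) (x₀ : Over.mk (𝟙 (specPt k)) ⟶ H)
  (hh : FGA.hilbPull y x₀ Z.1 = I₀.comap (pullback.fst y (Over.mk (𝟙 (specPt k))).hom))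

include hH hh in
/-- the local ring of the Hilbert scheme at `[I₀]` pro-represents the local Hilbert functor -/
theorem exists_family_bijective :
    ∃ (_ : Algebra k ↑(H.left.presheaf.stalk (x₀.left.base (IsLocalRing.closedPoint k))))
      (π : ↑(H.left.presheaf.stalk (x₀.left.base (IsLocalRing.closedPoint k))) →ₐ[k] k)
      (ξ : Family ↑(H.left.presheaf.stalk (x₀.left.base (IsLocalRing.closedPoint k))) π
        (localHilb Y y I₀)),
      ∀ A, Function.Bijective (ξ.app A) := by
  let St : CommRingCat := H.left.presheaf.stalk ((ptMap H x₀).base (IsLocalRing.closedPoint k))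
  let j : Spec (CommRingCat.of St) ⟶ H.left :=
    H.left.fromSpecStalk ((ptMap H x₀).base (IsLocalRing.closedPoint k))
  haveI : Mono j := inferInstanceAs (Mono (H.left.fromSpecStalk _))
  have hx₀ : ptMap H x₀ ≫ H.hom = 𝟙 _ := Over.w x₀
  let β : CommRingCat.of k ⟶ St := Spec.preimage (j ≫ H.hom)
  have hβ : Spec.map β = j ≫ H.hom := Spec.map_preimage _
  letI alg : Algebra k St := β.hom.toAlgebra
  let π₀ : St ⟶ CommRingCat.of k := Scheme.stalkClosedPointTo (ptMap H x₀)
  have hπ₀ : Spec.map π₀ ≫ j = ptMap H x₀ :=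
    Scheme.Spec_stalkClosedPointTo_fromSpecStalk (ptMap H x₀)
  have hβπ : β ≫ π₀ = 𝟙 _ := by
    apply Spec.map_injective
    rw [Spec.map_comp, hβ, ← Category.assoc, hπ₀, hx₀, Spec.map_id]
  let π : St →ₐ[k] k :=
    { π₀.hom with
      commutes' := fun c =>
        congrArg (fun f : CommRingCat.of k ⟶ CommRingCat.of k => f.hom c) hβπ }
  have hjm : j ≫ H.hom = Spec.map (CommRingCat.ofHom (algebraMap k St)) := hβ.symm
  have hπj : Spec.map (CommRingCat.ofHom π.toRingHom) ≫ j = x₀.left := hπ₀
  refine ⟨alg, π, ⟨fun A φ => toHilb y Z I₀ hh (chartMap H x₀ St π j hjm hπj A φ), ?_⟩, ?_⟩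
  · intro A B p φ
    rw [chartMap_map, toHilb_map]
  · intro A
    exact ⟨(toHilb_injective y Z I₀ hh hH A).comp (chartMap_injective H x₀ St π j hjm hπj A),
      (toHilb_surjective y Z I₀ hh hH A).comp (chartMap_surjective H x₀ St π j hjm hπj A
        (exists_lift_stalk H x₀ A))⟩

end Main

end Groth.Agent.Lib.Helper1.AH
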