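import Mathlib
import Groth.Prelude.Def_ArtFun5
import Groth.Agent.Lib.Helper1.ArtFunFibre

/-!
# Derivations of complete local algebras into the residue field
-/
universe u v
open CategoryTheory

namespace Groth.Agent.Lib.Helper1.ArtFunLib

open ArtFun ArtFun.Art

variable {Λ : Type u} {k : Type u} [CommRing Λ] [Field k] [Algebra Λ k]
    [IsNoetherianRing Λ] [Module.Finite Λ k]

theorem finite_derivation_residueField
    (S : Type u) [CommRing S] [Algebra Λ S] [IsLocalRing S] [IsNoetherianRing S]
    [IsAdicComplete (IsLocalRing.maximalIdeal S) S] [Algebra S k] [IsScalarTower Λ S k]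
    (hres : Function.Surjective (algebraMap S k)) :
    Module.Finite k (Derivation Λ S k) := by
  let Sc : CRing Λ k :=
    { carrier := S
      res := IsScalarTower.toAlgHom Λ S k
      res_surjective := hres
      isAdicComplete := inferInstance }
  let A : Art Λ k := Sc.trunc 1
  have hfin : Module.Finite Λ A := by
    have := isFiniteLength_obj A
    rw [isFiniteLength_iff_isNoetherian_isArtinian] at this
    haveI := this.1
    infer_instance
  let q : S →ₗ[Λ] A := (Ideal.Quotient.mkₐ Λ (Sc.mpow 1)).toLinearMap
  have hq : Function.Surjective q := Ideal.Quotient.mk_surjective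
  -- ψ : Hom(A,k) → Hom(S,k)
  let ψ : (A →ₗ[Λ] k) →ₗ[k] (S →ₗ[Λ] k) :=
    { toFun := fun g => g.comp q
      map_add' := fun g g' => rfl
      map_smul' := fun c g => rfl }
  have hfinA : Module.Finite k (A →ₗ[Λ] k) := by
    haveI : Module.Finite Λ (A →ₗ[Λ] k) := inferInstance
    exact Module.Finite.of_restrictScalars_finite Λ k _
  have hfinR : Module.Finite k (LinearMap.range ψ) := inferInstance
  -- the map Der → Hom(S,k)
  let ι : Derivation Λ S k →ₗ[k] (S →ₗ[Λ] k) :=
    { toFun := fun D => D.toLinearMap
      map_add' := fun D D' => rfl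
      map_smul' := fun c D => rfl }
  have hι : Function.Injective ι := by
    intro D D' h
    apply Derivation.ext
    intro s
    exact congrArg (fun g : S →ₗ[Λ] k => g s) h
  have hmem : ∀ D : Derivation Λ S k, ι D ∈ LinearMap.range ψ := by
    intro D
    have hkill : ∀ x ∈ Sc.mpow 1, D x = 0 := by
      intro x hx
      have hx' : x ∈ IsLocalRing.maximalIdeal S * IsLocalRing.maximalIdeal S := by
        have : Sc.mpow 1 = IsLocalRing.maximalIdeal S * IsLocalRing.maximalIdeal S := by
          change IsLocalRing.maximalIdeal S ^ (1 + 1) = _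
          rw [pow_two]
        rwa [this] at hx
      refine Submodule.mul_induction_on hx' ?_ ?_
      · intro a ha b hb
        have ha0 : algebraMap S k a = 0 := (Sc.mem_maximalIdeal_iff a).1 ha
        have hb0 : algebraMap S k b = 0 := (Sc.mem_maximalIdeal_iff b).1 hb
        rw [Derivation.leibniz, Algebra.smul_def, Algebra.smul_def, ha0, hb0, zero_mul, zero_mul, add_zero]
      · intro x y hx hy
        rw [map_add, hx, hy, add_zero]
    have hker : LinearMap.ker q ≤ LinearMap.ker D.toLinearMap := by
      intro x hx
      rw [LinearMap.mem_ker] at hx ⊢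
      apply hkill
      exact Ideal.Quotient.eq_zero_iff_mem.1 hx
    refine ⟨((LinearMap.ker q).liftQ D.toLinearMap hker).comp
      (LinearMap.quotKerEquivOfSurjective q hq).symm.toLinearMap, ?_⟩
    apply LinearMap.ext
    intro s
    change ((LinearMap.ker q).liftQ D.toLinearMap hker) ((LinearMap.quotKerEquivOfSurjective q hq).symm (q s)) = D s
    have : (LinearMap.quotKerEquivOfSurjective q hq).symm (q s) = Submodule.Quotient.mk s := by
      rw [LinearEquiv.symm_apply_eq]
      rfl
    rw [this]
    rfl
  let ι' : Derivation Λ S k →ₗ[k] LinearMap.range ψ := ι.codRestrict _ hmem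
  have hι' : Function.Injective ι' := fun D D' h => hι (congrArg Subtype.val h)
  exact Module.Finite.of_injective ι' hι'

end Groth.Agent.Lib.Helper1.ArtFunLib
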