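import Mathlib
import Groth.Prelude.Def_ArtFun5
import Groth.Agent.Lib.Helper1.ArtFunProrep
import Groth.Agent.Lib.Helper1.ArtFunDer
import Groth.Agent.Lib.Helper1.ArtFunTangent

/-!
# The tangent space of a functor with a family surjective on `k[ε]` is finite-dimensional
-/
universe u v
open CategoryTheory

namespace Groth.Agent.Lib.Helper1.ArtFunLib

open ArtFun ArtFun.Art

variable {Λ : Type u} {k : Type u} [CommRing Λ] [Field k] [Algebra Λ k]

lemma dualNumber_snd_mul (x y : DualNumber k) : (x * y).snd = x.fst * y.snd + y.fst * x.snd := by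
  rw [TrivSqZeroExt.snd_mul]
  simp only [MulOpposite.smul_eq_mul_unop, MulOpposite.unop_op, smul_eq_mul]
  ring

section DerOfHom

variable {R : Type u} [CommRing R] [Algebra Λ R] [Algebra R k] [IsScalarTower Λ R k]

lemma homSet_fst (u : HomSet R (IsScalarTower.toAlgHom Λ R k) (dual Λ k)) (r : R) :
    TrivSqZeroExt.fst (u.1 r : DualNumber k) = algebraMap R k r :=
  congrArg (fun ψ : R →ₐ[Λ] k => ψ r) u.2

/-- the derivation of an element of `h_R(k[ε])` -/
noncomputable def derOfHom (u : HomSet R (IsScalarTower.toAlgHom Λ R k) (dual Λ k)) : Derivation Λ R k where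
  toFun r := TrivSqZeroExt.snd (u.1 r : DualNumber k)
  map_add' r s := by
    have : u.1 (r + s) = u.1 r + u.1 s := map_add u.1 r s
    rw [this]
    rfl
  map_smul' l r := by
    have : u.1 (l • r) = l • u.1 r := map_smul u.1 l r
    rw [this]
    rfl
  map_one_eq_zero' := by
    have : u.1 1 = 1 := map_one u.1
    change TrivSqZeroExt.snd (u.1 1 : DualNumber k) = 0
    rw [this]
    rfl
  leibniz' r s := by
    have hm : u.1 (r * s) = u.1 r * u.1 s := map_mul u.1 r s
    have key : TrivSqZeroExt.snd ((u.1 r : DualNumber k) * (u.1 s : DualNumber k)) =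
        (u.1 r : DualNumber k).fst * (u.1 s : DualNumber k).snd +
          (u.1 s : DualNumber k).fst * (u.1 r : DualNumber k).snd := dualNumber_snd_mul _ _
    have h1 : TrivSqZeroExt.snd (u.1 (r * s) : DualNumber k) =
        (u.1 r : DualNumber k).fst * (u.1 s : DualNumber k).snd +
          (u.1 s : DualNumber k).fst * (u.1 r : DualNumber k).snd :=
      (congrArg TrivSqZeroExt.snd hm).trans key
    rw [homSet_fst, homSet_fst] at h1
    change TrivSqZeroExt.snd (u.1 (r * s) : DualNumber k) =
      r • TrivSqZeroExt.snd (u.1 s : DualNumber k) + s • TrivSqZeroExt.snd (u.1 r : DualNumber k)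
    rw [Algebra.smul_def, Algebra.smul_def]
    exact h1

lemma derOfHom_apply (u : HomSet R (IsScalarTower.toAlgHom Λ R k) (dual Λ k)) (r : R) :
    derOfHom u r = TrivSqZeroExt.snd (u.1 r : DualNumber k) := rfl

lemma homSetOfDer_derOfHom (u : HomSet R (IsScalarTower.toAlgHom Λ R k) (dual Λ k)) :
    homSetOfDer (derOfHom u) = u := by
  apply homSet_ext
  intro r
  apply TrivSqZeroExt.ext
  · change (homOfDer (derOfHom u) r).fst = _
    rw [homOfDer_fst, homSet_fst]
  · change (homOfDer (derOfHom u) r).snd = _
    rw [homOfDer_snd, derOfHom_apply]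

end DerOfHom

section Linear

variable {R : Type u} [CommRing R] [Algebra Λ R] [Algebra R k] [IsScalarTower Λ R k]
variable {F : Art Λ k ⥤ Type v} [TF : TangentStr F]

lemma scale_homSetOfDer (c : k) (D : Derivation Λ R k) :
    HomSet.map (scale c) (homSetOfDer D) = homSetOfDer (c • D) := by
  apply homSet_ext
  intro r
  apply TrivSqZeroExt.ext
  · change (homOfDer D r).fst = (homOfDer (c • D) r).fst
    rw [homOfDer_fst, homOfDer_fst]
  · change c • (homOfDer D r).snd = (homOfDer (c • D) r).snd
    rw [homOfDer_snd, homOfDer_snd]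
    rfl

/-- the tangent map of a family, on derivations, is linear -/
noncomputable def tangentOfDer (ξ : Family R (IsScalarTower.toAlgHom Λ R k) F) :
    Derivation Λ R k →ₗ[k] TangentSpace F where
  toFun D := ξ.app (dual Λ k) (homSetOfDer D)
  map_add' D D' := by
    have hcompat : HomSet.map (toBase (dual Λ k)) (homSetOfDer D) =
        HomSet.map (toBase (dual Λ k)) (homSetOfDer D') := Subsingleton.elim _ _
    set w := fpLift isFibreProd_dual2 (homSetOfDer D) (homSetOfDer D') hcompat with hw
    have h1 : HomSet.map pr₁ w = homSetOfDer D := fpLift_fst _ _ _ _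
    have h2 : HomSet.map pr₂ w = homSetOfDer D' := fpLift_snd _ _ _ _
    have h3 : HomSet.map plus w = homSetOfDer (D + D') := by
      apply homSet_ext
      intro r
      have e1 := congrArg (fun ψ : HomSet R _ (dual Λ k) => ψ.1 r) h1
      have e2 := congrArg (fun ψ : HomSet R _ (dual Λ k) => ψ.1 r) h2
      change (pr₁ : dual2 Λ k ⟶ dual Λ k) (w.1 r) = homOfDer D r at e1
      change (pr₂ : dual2 Λ k ⟶ dual Λ k) (w.1 r) = homOfDer D' r at e2
      have f1 := congrArg TrivSqZeroExt.fst e1
      have s1 := congrArg TrivSqZeroExt.snd e1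
      have s2 := congrArg TrivSqZeroExt.snd e2
      rw [homOfDer_fst] at f1
      rw [homOfDer_snd] at s1 s2
      apply TrivSqZeroExt.ext
      · change TrivSqZeroExt.fst ((plus : dual2 Λ k ⟶ dual Λ k) (w.1 r)) = (homOfDer (D + D') r).fst
        rw [homOfDer_fst]
        exact f1
      · change TrivSqZeroExt.snd ((plus : dual2 Λ k ⟶ dual Λ k) (w.1 r)) = (homOfDer (D + D') r).snd
        rw [homOfDer_snd, Derivation.add_apply, ← s1, ← s2]
        rfl
    have := TF.add_eq (ξ.app _ w)
    rw [← ξ.natural, ← ξ.natural, ← ξ.natural, h1, h2, h3] at this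
    exact this.symm
  map_smul' c D := by
    have := TF.smul_eq c (ξ.app (dual Λ k) (homSetOfDer D))
    rw [← ξ.natural, scale_homSetOfDer] at this
    exact this.symm

lemma tangentOfDer_apply (ξ : Family R (IsScalarTower.toAlgHom Λ R k) F) (D : Derivation Λ R k) :
    tangentOfDer ξ D = ξ.app (dual Λ k) (homSetOfDer D) := rfl

end Linear

section Fin

variable [IsNoetherianRing Λ] [Module.Finite Λ k]

/-- if a family over a complete local Noetherian ring is surjective on `k[ε]`, the tangent space is finite-dimensional -/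
theorem hfin_of_surjective_dual (F : Art Λ k ⥤ Type v) [TangentStr F] (R : CRing Λ k)
    (ξ : Family R.carrier R.res F) (hs : Function.Surjective (ξ.app (dual Λ k))) : Hfin F := by
  letI : Algebra R.carrier k := R.res.toRingHom.toAlgebra
  haveI : IsScalarTower Λ R.carrier k := IsScalarTower.of_algebraMap_eq (fun l => (R.res.commutes l).symm)
  haveI := R.isAdicComplete
  have hres : Function.Surjective (algebraMap R.carrier k) := R.res_surjective
  have htoAlg : IsScalarTower.toAlgHom Λ R.carrier k = R.res := AlgHom.ext (fun _ => rfl)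
  haveI : Module.Finite k (Derivation Λ R.carrier k) := finite_derivation_residueField R.carrier hres
  let ξ' : Family R.carrier (IsScalarTower.toAlgHom Λ R.carrier k) F := ξ
  refine Module.Finite.of_surjective (tangentOfDer ξ') ?_
  intro x
  obtain ⟨u, hu⟩ := hs x
  let u' : HomSet R.carrier (IsScalarTower.toAlgHom Λ R.carrier k) (dual Λ k) := u
  refine ⟨derOfHom u', ?_⟩
  rw [tangentOfDer_apply, homSetOfDer_derOfHom]
  exact hu

end Fin

end Groth.Agent.Lib.Helper1.ArtFunLib
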