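import Mathlib
import Groth.Prelude.Def_ArtFun5
import Groth.Agent.Lib.Helper1.ArtFunTangentFin
import Groth.Agent.Lib.Helper1.ArtFunObsDimMain

/-!
# Derivations into the residue field, the cotangent space and tangent spaces of functors (helper1)

For a Noetherian local `k`-algebra `S` with residue field `k`:
* `derDualEquiv`-style statement `finrank_derivation_eq`: `dim_k Der_k(S, k) = dim_κ 𝔪/𝔪²`;
* `finrank_cotangentSpace_eq_finrank_tangentSpace`: if a family `h_S → F` is bijective on `k[ε]`, then
  `dim_κ 𝔪/𝔪² = dim_k t_F`.
-/
universe u v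
open CategoryTheory

namespace Groth.Agent.Lib.Helper1.ArtFunLib

open ArtFun ArtFun.Art

section DerDual

variable (k : Type u) [Field k] (S : Type u) [CommRing S] [IsLocalRing S] [Algebra k S]
  [Algebra S k] [IsScalarTower k S k]

lemma algebraMap_algebraMap_self (c : k) : algebraMap S k (algebraMap k S c) = c := by
  rw [← IsScalarTower.algebraMap_apply k S k]
  rfl

lemma mem_maximalIdeal_iff_algebraMap (a : S) :
    a ∈ IsLocalRing.maximalIdeal S ↔ algebraMap S k a = 0 := by
  have hs : Function.Surjective (algebraMap S k) :=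
    fun c => ⟨algebraMap k S c, algebraMap_algebraMap_self k S c⟩
  have hmax : (RingHom.ker (algebraMap S k)).IsMaximal :=
    RingHom.ker_isMaximal_of_surjective _ hs
  rw [← IsLocalRing.eq_maximalIdeal hmax, RingHom.mem_ker]

lemma sub_algebraMap_mem (s : S) :
    s - algebraMap k S (algebraMap S k s) ∈ IsLocalRing.maximalIdeal S := by
  rw [mem_maximalIdeal_iff_algebraMap k, map_sub, algebraMap_algebraMap_self, sub_self]

/-- `𝔪 / 𝔪²` in the form of `spanFinrank_eq_finrank_quot` -/
abbrev CotQ : Type u :=
  ↥(IsLocalRing.maximalIdeal S) ⧸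
    (IsLocalRing.maximalIdeal S • (⊤ : Submodule S ↥(IsLocalRing.maximalIdeal S)))

/-- the restriction of a derivation `S → k` to the maximal ideal is `S`-linear -/
def derRestr (D : Derivation k S k) : ↥(IsLocalRing.maximalIdeal S) →ₗ[S] k where
  toFun a := D (a : S)
  map_add' a b := by
    change D ((a : S) + (b : S)) = _
    rw [map_add]
  map_smul' s a := by
    change D (s * (a : S)) = s • D (a : S)
    rw [Derivation.leibniz, Algebra.smul_def (a : S) (D s),
      (mem_maximalIdeal_iff_algebraMap k S _).1 a.2, zero_mul, add_zero]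

lemma smul_top_le_ker_derRestr (D : Derivation k S k) :
    IsLocalRing.maximalIdeal S • (⊤ : Submodule S ↥(IsLocalRing.maximalIdeal S)) ≤
      LinearMap.ker (derRestr k S D) := by
  rw [Submodule.smul_le]
  intro r hr n _
  rw [LinearMap.mem_ker, map_smul, Algebra.smul_def, (mem_maximalIdeal_iff_algebraMap k S r).1 hr,
    zero_mul]

/-- a derivation `S → k` as a linear form on `𝔪/𝔪²` -/
def derDualL : Derivation k S k →ₗ[k] Module.Dual k (CotQ S) where
  toFun D := (Submodule.liftQ _ (derRestr k S D) (smul_top_le_ker_derRestr k S D)).restrictScalars k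
  map_add' D D' := by
    apply LinearMap.ext
    intro q
    obtain ⟨a, rfl⟩ := Submodule.Quotient.mk_surjective _ q
    rfl
  map_smul' c D := by
    apply LinearMap.ext
    intro q
    obtain ⟨a, rfl⟩ := Submodule.Quotient.mk_surjective _ q
    rfl

lemma derDualL_mk (D : Derivation k S k) (a : ↥(IsLocalRing.maximalIdeal S)) :
    derDualL k S D (Submodule.Quotient.mk a) = D (a : S) := rfl

/-- `s ↦ s - π(s)`, into the maximal ideal -/
def projM : S →ₗ[k] ↥(IsLocalRing.maximalIdeal S) where
  toFun s := ⟨s - algebraMap k S (algebraMap S k s), sub_algebraMap_mem k S s⟩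
  map_add' s t := by
    apply Subtype.ext
    change (s + t) - algebraMap k S (algebraMap S k (s + t)) =
      (s - algebraMap k S (algebraMap S k s)) + (t - algebraMap k S (algebraMap S k t))
    rw [map_add, map_add]
    ring
  map_smul' c s := by
    apply Subtype.ext
    change c • s - algebraMap k S (algebraMap S k (c • s)) =
      c • (s - algebraMap k S (algebraMap S k s))
    rw [Algebra.smul_def, Algebra.smul_def, map_mul, algebraMap_algebraMap_self, map_mul]
    ring

lemma projM_val (s : S) : ((projM k S s : ↥(IsLocalRing.maximalIdeal S)) : S) =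
    s - algebraMap k S (algebraMap S k s) := rfl

lemma projM_of_mem (a : ↥(IsLocalRing.maximalIdeal S)) : projM k S (a : S) = a := by
  apply Subtype.ext
  rw [projM_val, (mem_maximalIdeal_iff_algebraMap k S _).1 a.2, map_zero, sub_zero]

/-- the quotient map `𝔪 → 𝔪/𝔪²`, `k`-linearly -/
def mkQk : ↥(IsLocalRing.maximalIdeal S) →ₗ[k] CotQ S :=
  (Submodule.mkQ _).restrictScalars k

lemma mkQk_apply (a : ↥(IsLocalRing.maximalIdeal S)) :
    mkQk k S a = Submodule.Quotient.mk a := rfl

lemma projM_mul (a b : S) :
    projM k S (a * b) = ((projM k S a : ↥(IsLocalRing.maximalIdeal S)) : S) •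
        (projM k S b) + algebraMap S k b • projM k S a +
      algebraMap S k a • projM k S b := by
  apply Subtype.ext
  change a * b - algebraMap k S (algebraMap S k (a * b)) =
    (a - algebraMap k S (algebraMap S k a)) * (b - algebraMap k S (algebraMap S k b)) +
      algebraMap S k b • (a - algebraMap k S (algebraMap S k a)) +
      algebraMap S k a • (b - algebraMap k S (algebraMap S k b))
  rw [Algebra.smul_def, Algebra.smul_def, map_mul, map_mul]
  ring

/-- the derivation of a linear form on `𝔪/𝔪²` -/
def derOfDual (ℓ : Module.Dual k (CotQ S)) : Derivation k S k where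
  toLinearMap := ℓ ∘ₗ mkQk k S ∘ₗ projM k S
  map_one_eq_zero' := by
    change ℓ (mkQk k S (projM k S (1 : S))) = 0
    have h1 : projM k S (1 : S) = 0 := by
      apply Subtype.ext
      rw [projM_val, map_one, map_one, sub_self]
      rfl
    rw [h1, map_zero, map_zero]
  leibniz' a b := by
    change ℓ (mkQk k S (projM k S (a * b))) =
      a • ℓ (mkQk k S (projM k S b)) + b • ℓ (mkQk k S (projM k S a))
    have h0 : mkQk k S (((projM k S a : ↥(IsLocalRing.maximalIdeal S)) : S) •
        (projM k S b)) = 0 := by
      rw [mkQk_apply, Submodule.Quotient.mk_eq_zero]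
      exact Submodule.smul_mem_smul (projM k S a).2 Submodule.mem_top
    rw [projM_mul]
    simp only [map_add, map_smul]
    rw [h0, map_zero, zero_add, Algebra.smul_def a, Algebra.smul_def b, smul_eq_mul, smul_eq_mul]
    ring

lemma derOfDual_apply (ℓ : Module.Dual k (CotQ S)) (s : S) :
    derOfDual k S ℓ s = ℓ (mkQk k S (projM k S s)) := rfl

theorem derDualL_bijective : Function.Bijective (derDualL k S) := by
  constructor
  · rw [← LinearMap.ker_eq_bot, LinearMap.ker_eq_bot']
    intro D hD
    apply Derivation.ext
    intro s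
    have h1 : D ((projM k S s : ↥(IsLocalRing.maximalIdeal S)) : S) = 0 := by
      rw [← derDualL_mk, hD]
      rfl
    rw [projM_val, map_sub, Derivation.map_algebraMap, sub_zero] at h1
    rw [h1]
    rfl
  · intro ℓ
    refine ⟨derOfDual k S ℓ, ?_⟩
    apply LinearMap.ext
    intro q
    obtain ⟨a, rfl⟩ := Submodule.Quotient.mk_surjective _ q
    rw [derDualL_mk, derOfDual_apply, projM_of_mem, mkQk_apply]

theorem finrank_derivation_eq [IsNoetherianRing S] :
    Module.finrank k (Derivation k S k) =
      Module.finrank (IsLocalRing.ResidueField S) (IsLocalRing.CotangentSpace S) := by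
  have e := (LinearEquiv.ofBijective (derDualL k S) (derDualL_bijective k S)).finrank_eq
  rw [e, Subspace.dual_finrank_eq,
    ← IsLocalRing.spanFinrank_maximalIdeal_eq_finrank_cotangentSpace S]
  have h𝔪 : IsLocalRing.maximalIdeal S = RingHom.ker (IsScalarTower.toAlgHom k S k) := by
    ext a
    rw [mem_maximalIdeal_iff_algebraMap k, RingHom.mem_ker]
    rfl
  exact (spanFinrank_eq_finrank_quot S (IsScalarTower.toAlgHom k S k) h𝔪
    (IsLocalRing.maximalIdeal S) (IsLocalRing.maximalIdeal S).fg_of_isNoetherianRing).symm

end DerDual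

section Tangent

variable {k : Type u} [Field k] (S : Type u) [CommRing S] [IsLocalRing S] [IsNoetherianRing S]
  [Algebra k S]

/-- if a family `h_S → F` over a Noetherian local `k`-algebra `S` with residue field `k` is bijective
on `k[ε]`, the cotangent space of `S` and the tangent space of `F` have the same dimension -/
theorem finrank_cotangentSpace_eq_finrank_tangentSpace (π : S →ₐ[k] k)
    {F : Art k k ⥤ Type v} [TangentStr F] (ξ : Family S π F)
    (hb : Function.Bijective (ξ.app (dual k k))) :
    Module.finrank (IsLocalRing.ResidueField S) (IsLocalRing.CotangentSpace S) =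
      Module.finrank k (TangentSpace F) := by
  letI : Algebra S k := π.toRingHom.toAlgebra
  haveI : IsScalarTower k S k := IsScalarTower.of_algebraMap_eq (fun c => (π.commutes c).symm)
  let ξ' : Family S (IsScalarTower.toAlgHom k S k) F := ξ
  have hL : Function.Bijective (tangentOfDer ξ') := by
    constructor
    · intro D D' h
      rw [tangentOfDer_apply, tangentOfDer_apply] at h
      have h1 : homSetOfDer D = homSetOfDer D' := hb.1 h
      apply Derivation.ext
      intro r
      have h2 := congrArg (fun ψ : HomSet S (IsScalarTower.toAlgHom k S k) (dual k k) =>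
        TrivSqZeroExt.snd (ψ.1 r : DualNumber k)) h1
      change (homOfDer D r).snd = (homOfDer D' r).snd at h2
      rwa [homOfDer_snd, homOfDer_snd] at h2
    · intro t
      obtain ⟨u, hu⟩ := hb.2 t
      let u' : HomSet S (IsScalarTower.toAlgHom k S k) (dual k k) := u
      refine ⟨derOfHom u', ?_⟩
      rw [tangentOfDer_apply, homSetOfDer_derOfHom]
      exact hu
  rw [← finrank_derivation_eq k S]
  exact (LinearEquiv.ofBijective (tangentOfDer ξ') hL).finrank_eq

end Tangent

end Groth.Agent.Lib.Helper1.ArtFunLib
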