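import Groth.Agent.Lib.Helper1.FlatLift2

/-!
# Automorphisms of a flat module over a small thickening (helper1)

For `𝔪 * J = ⊥`, `J ≤ 𝔪`, an `A'`-module `M'` flat over `C'`:
* `smulTop_induction`: induction principle for `(I.map (algebraMap C' A')) • ⊤ ⊆ M'`;
* `muA`: the multiplication `M' ⊗ J → M'` as an `A'`-linear map;
* `redEquiv`: `M' ⊗ J ≃ (M' ⧸ 𝔪 M') ⊗ J`, `A'`-linearly.
-/

universe u

namespace Groth.Agent.Lib.Helper1.FlatLift

open TensorProduct

section Ind

variable {C' : Type*} [CommRing C'] {A' : Type*} [CommRing A'] [Algebra C' A']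
  {M' : Type*} [AddCommGroup M'] [Module A' M'] [Module C' M'] [IsScalarTower C' A' M']

/-- Induction principle for `(I A') • M'`. -/
lemma smulTop_induction (I : Ideal C') (P : M' → Prop) (h0 : P 0) (hadd : ∀ x y, P x → P y → P (x + y))
    (hsmul : ∀ c ∈ I, ∀ m : M', P (c • m)) (x : M')
    (hx : x ∈ (I.map (algebraMap C' A')) • (⊤ : Submodule A' M')) : P x := by
  have hQ : ∀ r ∈ I.map (algebraMap C' A'), ∀ m : M', P (r • m) := by
    intro r hr
    refine Submodule.span_induction (p := fun r _ => ∀ m : M', P (r • m)) ?_ ?_ ?_ ?_ hr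
    · rintro _ ⟨c, hc, rfl⟩ m
      rw [algebraMap_smul]
      exact hsmul c hc m
    · intro m; rw [zero_smul]; exact h0
    · intro r r' _ _ h h' m
      rw [add_smul]
      exact hadd _ _ (h m) (h' m)
    · intro a r _ h m
      rw [smul_eq_mul, mul_comm, mul_smul]
      exact h (a • m)
  refine Submodule.smul_induction_on hx (fun r hr m _ => hQ r hr m) (fun x y hx hy => hadd x y hx hy)

lemma smul_mem_smulTop (I : Ideal C') (c : C') (hc : c ∈ I) (m : M') :
    c • m ∈ (I.map (algebraMap C' A')) • (⊤ : Submodule A' M') := by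
  rw [← algebraMap_smul A' c m]
  exact Submodule.smul_mem_smul (Ideal.mem_map_of_mem _ hc) trivial

end Ind

section MuA

variable {C' : Type*} [CommRing C'] (J : Ideal C') {A' : Type*} [CommRing A'] [Algebra C' A']
  (M' : Type*) [AddCommGroup M'] [Module A' M'] [Module C' M'] [IsScalarTower C' A' M']

lemma mu_smulA (a : A') (z : M' ⊗[C'] ↥J) : mu J M' (a • z) = a • mu J M' z := by
  induction z using TensorProduct.induction_on with
  | zero => simp
  | tmul m j =>
    rw [TensorProduct.smul_tmul', mu_tmul, mu_tmul, smul_comm]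
  | add x y hx hy => rw [smul_add, map_add, map_add, hx, hy, smul_add]

/-- The multiplication `M' ⊗ J → M'` as an `A'`-linear map. -/
noncomputable def muA : M' ⊗[C'] ↥J →ₗ[A'] M' where
  toFun := mu J M'
  map_add' := map_add _
  map_smul' := fun a z => mu_smulA J M' a z

lemma muA_apply (z : M' ⊗[C'] ↥J) : muA (A' := A') J M' z = mu J M' z := rfl

lemma mu_mem_smulTop (z : M' ⊗[C'] ↥J) :
    mu J M' z ∈ (J.map (algebraMap C' A')) • (⊤ : Submodule A' M') := by
  induction z using TensorProduct.induction_on with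
  | zero => simp
  | tmul m j =>
    rw [mu_tmul]
    exact smul_mem_smulTop J _ j.2 m
  | add x y hx hy => rw [map_add]; exact Submodule.add_mem _ hx hy

lemma exists_mu_eq_of_mem_smulTop (x : M')
    (hx : x ∈ (J.map (algebraMap C' A')) • (⊤ : Submodule A' M')) : ∃ z : M' ⊗[C'] ↥J, mu J M' z = x := by
  refine smulTop_induction J (fun x => ∃ z : M' ⊗[C'] ↥J, mu J M' z = x) ⟨0, map_zero _⟩ ?_ ?_ x hx
  · rintro x y ⟨z, rfl⟩ ⟨w, rfl⟩
    exact ⟨z + w, map_add _ _ _⟩
  · intro c hc m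
    exact ⟨m ⊗ₜ ⟨c, hc⟩, mu_tmul J M' m ⟨c, hc⟩⟩

end MuA

section Red

variable {C' : Type*} [CommRing C'] (J 𝔪 : Ideal C') (h𝔪J : 𝔪 * J = ⊥)
  {A' : Type*} [CommRing A'] [Algebra C' A']
  (M' : Type*) [AddCommGroup M'] [Module A' M'] [Module C' M'] [IsScalarTower C' A' M']

include h𝔪J

lemma mul_eq_zero_of_mul_eq_bot (c : C') (hc : c ∈ 𝔪) (j : ↥J) : c * (j : C') = 0 := by
  have : c * (j : C') ∈ 𝔪 * J := Ideal.mul_mem_mul hc j.2
  rw [h𝔪J] at this
  exact this

lemma smul_tensor_eq_zero' {N : Type*} [AddCommGroup N] [Module C' N] (c : C') (hc : c ∈ 𝔪)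
    (w : N ⊗[C'] ↥J) : c • w = 0 := by
  induction w using TensorProduct.induction_on with
  | zero => simp
  | tmul m j =>
    rw [← TensorProduct.tmul_smul]
    have : c • j = 0 := Subtype.ext (by
      rw [Submodule.coe_smul, smul_eq_mul, mul_eq_zero_of_mul_eq_bot J 𝔪 h𝔪J c hc]; rfl)
    rw [this, TensorProduct.tmul_zero]
  | add x y hx hy => rw [smul_add, hx, hy, add_zero]

lemma tmul_eq_zero_of_mem_smulTop (n : M')
    (hn : n ∈ (𝔪.map (algebraMap C' A')) • (⊤ : Submodule A' M')) (j : ↥J) :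
    n ⊗ₜ[C'] j = 0 := by
  refine smulTop_induction 𝔪 (fun n => n ⊗ₜ[C'] j = 0) (TensorProduct.zero_tmul _ _) ?_ ?_ n hn
  · intro x y hx hy
    rw [TensorProduct.add_tmul, hx, hy, add_zero]
  · intro c hc m
    rw [TensorProduct.smul_tmul]
    have : c • j = 0 := Subtype.ext (by
      rw [Submodule.coe_smul, smul_eq_mul, mul_eq_zero_of_mul_eq_bot J 𝔪 h𝔪J c hc]; rfl)
    rw [this, TensorProduct.tmul_zero]

/-- The reduction map `M' ⊗ J → (M' ⧸ 𝔪 M') ⊗ J`, `A'`-linearly. -/
noncomputable def redMap :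
    M' ⊗[C'] ↥J →ₗ[A'] (M' ⧸ (𝔪.map (algebraMap C' A')) • (⊤ : Submodule A' M')) ⊗[C'] ↥J :=
  TensorProduct.AlgebraTensorModule.map (Submodule.mkQ _) (LinearMap.id : ↥J →ₗ[C'] ↥J)

omit h𝔪J in
lemma redMap_apply (z : M' ⊗[C'] ↥J) :
    redMap J 𝔪 M' z = LinearMap.rTensor ↥J
      ((Submodule.mkQ ((𝔪.map (algebraMap C' A')) • (⊤ : Submodule A' M'))).restrictScalars C') z := rfl

lemma redMap_bijective : Function.Bijective (redMap (A' := A') J 𝔪 M') := by
  constructor
  · rw [injective_iff_map_eq_zero]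
    intro z hz
    rw [redMap_apply] at hz
    have hex : Function.Exact
        (((𝔪.map (algebraMap C' A')) • (⊤ : Submodule A' M')).restrictScalars C').subtype
        ((Submodule.mkQ ((𝔪.map (algebraMap C' A')) • (⊤ : Submodule A' M'))).restrictScalars C') := by
      intro x
      constructor
      · intro hx
        exact ⟨⟨x, (Submodule.Quotient.mk_eq_zero _).1 hx⟩, rfl⟩
      · rintro ⟨y, rfl⟩
        exact (Submodule.Quotient.mk_eq_zero _).2 y.2
    have h2 := rTensor_exact ↥J hex (Submodule.mkQ_surjective _)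
    obtain ⟨t, rfl⟩ := (h2 z).1 hz
    induction t using TensorProduct.induction_on with
    | zero => simp
    | tmul n j =>
      rw [LinearMap.rTensor_tmul]
      exact tmul_eq_zero_of_mem_smulTop J 𝔪 h𝔪J M' n.1 n.2 j
    | add x y hx hy =>
      rw [map_add, hx ((h2 _).2 ⟨x, rfl⟩), hy ((h2 _).2 ⟨y, rfl⟩), add_zero]
  · intro w
    obtain ⟨z, hz⟩ := LinearMap.rTensor_surjective ↥J
      (g := (Submodule.mkQ ((𝔪.map (algebraMap C' A')) • (⊤ : Submodule A' M'))).restrictScalars C')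
      (Submodule.mkQ_surjective _) w
    exact ⟨z, hz⟩

/-- `M' ⊗ J ≃ (M' ⧸ 𝔪 M') ⊗ J`. -/
noncomputable def redEquiv :
    M' ⊗[C'] ↥J ≃ₗ[A'] (M' ⧸ (𝔪.map (algebraMap C' A')) • (⊤ : Submodule A' M')) ⊗[C'] ↥J :=
  LinearEquiv.ofBijective (redMap J 𝔪 M') (redMap_bijective J 𝔪 h𝔪J M')

lemma redEquiv_apply (z : M' ⊗[C'] ↥J) :
    redEquiv J 𝔪 h𝔪J M' z = LinearMap.rTensor ↥J
      ((Submodule.mkQ ((𝔪.map (algebraMap C' A')) • (⊤ : Submodule A' M'))).restrictScalars C') z := rfl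

end Red

end Groth.Agent.Lib.Helper1.FlatLift
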