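import Groth.Agent.Lib.Helper9.FlatInj
import Groth.Agent.Lib.Helper1.FlatLift3
import Mathlib.RingTheory.Regular.RegularSequence
import Mathlib.RingTheory.Nakayama

/-!
# Lifting regular sequences over a local ring with nilpotent maximal ideal (helper1)

`C` is a local ring with `𝔪 ^ n = ⊥`, `A` a `C`-algebra, `M` an `A`-module.

* `injective_and_flat_of_nilpotent`: nilpotent version of Stacks 00ME (no finiteness);
* `isSMulRegular_and_flat`: `a` regular on `M ⧸ 𝔪 M`, `M` flat ⟹ `a` regular on `M`, `M ⧸ a M` flat;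
* `isWeaklyRegular_and_flat`: the same for sequences;
* `flat_of_isSMulRegular_of_flat_quot`: `a` regular on `M`, `M ⧸ a M` flat, `a` in the radical, `M` finite ⟹ `M` flat;
* `residue_isWeaklyRegular`: a regular sequence on `M` with flat quotient stays regular on `M ⧸ 𝔪 M`.
-/

universe u

namespace Groth.Agent.Lib.Helper1.RegLift

open TensorProduct Function Groth.Agent.Lib.Helper1.FlatLift RingTheory.Sequence
open scoped Pointwise

section Nil

variable {R : Type u} [CommRing R] [IsLocalRing R] {M N : Type*} [AddCommGroup M] [Module R M]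
  [AddCommGroup N] [Module R N] (u : N →ₗ[R] M)

/-- Nilpotent version of Stacks 00ME. -/
theorem injective_and_flat_of_nilpotent [Module.Flat R M] (n : ℕ)
    (hn : IsLocalRing.maximalIdeal R ^ n = ⊥)
    (h : Injective (u.lTensor (IsLocalRing.ResidueField R))) :
    Injective u ∧ Module.Flat R (M ⧸ LinearMap.range u) := by
  have key : ∀ (V : Type u) [AddCommGroup V] [Module R V], Injective (u.rTensor V) := by
    intro V _ _
    refine (u.lTensor_inj_iff_rTensor_inj V).mp
      (Groth.Agent.Lib.Helper9.lTensor_injective_of_isTorsionBySet_pow u h n ?_)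
    rintro x ⟨a, ha⟩
    rw [hn] at ha
    have h0 : a = 0 := by simpa using ha
    simp [h0]
  constructor
  · have h1 := key R
    intro a b hab
    have h2 : u.rTensor R (a ⊗ₜ 1) = u.rTensor R (b ⊗ₜ 1) := by
      rw [LinearMap.rTensor_tmul, LinearMap.rTensor_tmul, hab]
    have h3 := congrArg (TensorProduct.rid R N) (h1 h2)
    simpa using h3
  · rw [Module.Flat.iff_lTensor_injective']
    intro I
    exact lTensor_injective_of_exact_of_exact_of_rTensor_injective
      (LinearMap.exact_map_mkQ_range u) (Submodule.mkQ_surjective _)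
      (LinearMap.exact_subtype_mkQ I) (Submodule.mkQ_surjective _)
      (key (R ⧸ I))
      (Module.Flat.lTensor_preserves_injective_linearMap _ I.injective_subtype)

end Nil

section Residue

variable {C : Type u} [CommRing C] [IsLocalRing C] {A : Type u} [CommRing A] [Algebra C A]
  (M : Type u) [AddCommGroup M] [Module A M] [Module C M] [IsScalarTower C A M]

/-- `𝔪 M` as an `A`-submodule. -/
abbrev mM : Submodule A M :=
  ((IsLocalRing.maximalIdeal C).map (algebraMap C A)) • (⊤ : Submodule A M)

lemma exists_one_tmul (t : IsLocalRing.ResidueField C ⊗[C] M) :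
    ∃ x : M, t = (1 : IsLocalRing.ResidueField C) ⊗ₜ[C] x := by
  induction t using TensorProduct.induction_on with
  | zero => exact ⟨0, (TensorProduct.tmul_zero _ _).symm⟩
  | tmul c m =>
    obtain ⟨c₀, rfl⟩ := IsLocalRing.residue_surjective c
    refine ⟨c₀ • m, ?_⟩
    have h1 : IsLocalRing.residue C c₀ = c₀ • (1 : IsLocalRing.ResidueField C) := by
      rw [Algebra.smul_def, mul_one]; rfl
    rw [h1, TensorProduct.smul_tmul]
  | add x y hx hy =>
    obtain ⟨a, rfl⟩ := hx
    obtain ⟨b, rfl⟩ := hy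
    exact ⟨a + b, (TensorProduct.tmul_add _ _ _).symm⟩

lemma one_tmul_eq_zero_iff (x : M) :
    (1 : IsLocalRing.ResidueField C) ⊗ₜ[C] x = 0 ↔ x ∈ mM (C := C) (A := A) M := by
  constructor
  · intro h
    have h0 : ((Ideal.Quotient.mk (IsLocalRing.maximalIdeal C) (1 : C)) ⊗ₜ[C] x :
        (C ⧸ IsLocalRing.maximalIdeal C) ⊗[C] M) = 0 := h
    have h1 := congrArg (TensorProduct.quotTensorEquivQuotSMul M (IsLocalRing.maximalIdeal C)) h0
    rw [TensorProduct.quotTensorEquivQuotSMul_mk_tmul, one_smul, LinearEquiv.map_zero,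
      Submodule.Quotient.mk_eq_zero] at h1
    refine Submodule.smul_induction_on h1 ?_ ?_
    · intro c hc m _
      exact smul_mem_smulTop _ c hc m
    · intro x y hx hy
      exact Submodule.add_mem _ hx hy
  · intro hx
    refine smulTop_induction (IsLocalRing.maximalIdeal C)
      (fun x => (1 : IsLocalRing.ResidueField C) ⊗ₜ[C] x = 0) (TensorProduct.tmul_zero _ _) ?_ ?_ x hx
    · intro x y hx hy
      rw [TensorProduct.tmul_add, hx, hy, add_zero]
    · intro c hc m
      rw [← TensorProduct.smul_tmul]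
      have h1 : c • (1 : IsLocalRing.ResidueField C) = 0 := by
        rw [Algebra.smul_def, mul_one]
        exact (IsLocalRing.residue_eq_zero_iff c).2 hc
      rw [h1, TensorProduct.zero_tmul]

variable {M}

/-- `a` regular on `M ⧸ 𝔪 M` and `M` flat imply `a` regular on `M` with `M ⧸ a M` flat. -/
theorem isSMulRegular_and_flat [Module.Flat C M] (n : ℕ) (hn : IsLocalRing.maximalIdeal C ^ n = ⊥)
    (a : A) (h : ∀ x : M, a • x ∈ mM (C := C) (A := A) M → x ∈ mM (C := C) (A := A) M) :
    IsSMulRegular M a ∧ Module.Flat C (QuotSMulTop a M) := by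
  let u : M →ₗ[C] M := (LinearMap.lsmul A M a).restrictScalars C
  have hu : ∀ x, u x = a • x := fun x => rfl
  have hinj : Injective (u.lTensor (IsLocalRing.ResidueField C)) := by
    rw [injective_iff_map_eq_zero]
    intro t ht
    obtain ⟨x, rfl⟩ := exists_one_tmul M t
    rw [LinearMap.lTensor_tmul, hu, one_tmul_eq_zero_iff (A := A)] at ht
    exact (one_tmul_eq_zero_iff (A := A) M x).2 (h x ht)
  obtain ⟨h1, h2⟩ := injective_and_flat_of_nilpotent u n hn hinj
  refine ⟨h1, ?_⟩
  have heq : LinearMap.range u = (a • (⊤ : Submodule A M)).restrictScalars C := by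
    ext x
    rw [Submodule.restrictScalars_mem, Submodule.mem_smul_pointwise_iff_exists, LinearMap.mem_range]
    constructor
    · rintro ⟨y, rfl⟩
      exact ⟨y, trivial, rfl⟩
    · rintro ⟨y, -, rfl⟩
      exact ⟨y, rfl⟩
  exact Module.Flat.of_linearEquiv
    ((Submodule.Quotient.restrictScalarsEquiv C (a • (⊤ : Submodule A M))).symm ≪≫ₗ
      (Submodule.quotEquivOfEq _ _ heq).symm)

end Residue

section Step

variable {C : Type u} [CommRing C] [IsLocalRing C] {A : Type u} [CommRing A] [Algebra C A]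
  {M : Type u} [AddCommGroup M] [Module A M]
  {N₀ : Type u} [AddCommGroup N₀] [Module A N₀]

/-- `N₀` is killed by `𝔪 A` when it is a quotient of `M` by `𝔪 M`. -/
lemma smul_eq_zero_of_ker (p : M →ₗ[A] N₀) (hp : Surjective p)
    (hker : ∀ x, p x = 0 ↔ x ∈ mM (C := C) (A := A) M) (r : A)
    (hr : r ∈ (IsLocalRing.maximalIdeal C).map (algebraMap C A)) (y : N₀) : r • y = 0 := by
  obtain ⟨x, rfl⟩ := hp y
  rw [← map_smul, hker]
  exact Submodule.smul_mem_smul hr trivial

lemma map_surjective' (a : A) (p : M →ₗ[A] N₀) (hp : Surjective p) :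
    Surjective (QuotSMulTop.map a p) := QuotSMulTop.map_surjective a hp

lemma map_ker (a : A) (p : M →ₗ[A] N₀) (hp : Surjective p)
    (hker : ∀ x, p x = 0 ↔ x ∈ mM (C := C) (A := A) M) (x : QuotSMulTop a M) :
    QuotSMulTop.map a p x = 0 ↔ x ∈ mM (C := C) (A := A) (QuotSMulTop a M) := by
  constructor
  · intro hx
    obtain ⟨x, rfl⟩ := Submodule.Quotient.mk_surjective _ x
    rw [QuotSMulTop.map_apply_mk, Submodule.Quotient.mk_eq_zero,
      Submodule.mem_smul_pointwise_iff_exists] at hx
    obtain ⟨y', -, hy'⟩ := hx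
    obtain ⟨y, rfl⟩ := hp y'
    have h1 : p (x - a • y) = 0 := by rw [map_sub, map_smul, hy', sub_self]
    rw [hker] at h1
    have h2 : (Submodule.Quotient.mk x : QuotSMulTop a M) = Submodule.Quotient.mk (x - a • y) := by
      rw [Submodule.Quotient.eq]
      have : x - (x - a • y) = a • y := by abel
      rw [this]
      exact Submodule.smul_mem_pointwise_smul _ _ _ trivial
    rw [h2]
    have h3 : ∀ z ∈ mM (C := C) (A := A) M,
        (Submodule.Quotient.mk z : QuotSMulTop a M) ∈ mM (C := C) (A := A) (QuotSMulTop a M) := by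
      intro z hz
      refine Submodule.smul_induction_on hz ?_ ?_
      · intro r hr m _
        rw [Submodule.Quotient.mk_smul]
        exact Submodule.smul_mem_smul hr trivial
      · intro z w hz hw
        rw [Submodule.Quotient.mk_add]
        exact Submodule.add_mem _ hz hw
    exact h3 _ h1
  · intro hx
    refine Submodule.smul_induction_on hx ?_ ?_
    · intro r hr m _
      rw [map_smul]
      obtain ⟨y, hy⟩ := Submodule.Quotient.mk_surjective _ (QuotSMulTop.map a p m)
      rw [← hy, ← Submodule.Quotient.mk_smul, smul_eq_zero_of_ker (C := C) p hp hker r hr y,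
        Submodule.Quotient.mk_zero]
    · intro z w hz hw
      rw [map_add, hz, hw, add_zero]

end Step

section Seq

variable {C : Type u} [CommRing C] [IsLocalRing C] {A : Type u} [CommRing A] [Algebra C A]

/-- A sequence regular on `M ⧸ 𝔪 M` (given as a quotient `p : M → N₀` with kernel `𝔪 M`) is regular on the flat module
`M`, with flat quotient. -/
theorem isWeaklyRegular_and_flat (n : ℕ) (hn : IsLocalRing.maximalIdeal C ^ n = ⊥) :
    ∀ (as : List A) (M : Type u) [AddCommGroup M] [Module A M] [Module C M] [IsScalarTower C A M]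
      [Module.Flat C M] (N₀ : Type u) [AddCommGroup N₀] [Module A N₀] (p : M →ₗ[A] N₀)
      (_ : Surjective p) (_ : ∀ x, p x = 0 ↔ x ∈ mM (C := C) (A := A) M),
      IsWeaklyRegular N₀ as →
        IsWeaklyRegular M as ∧ Module.Flat C (M ⧸ (Ideal.ofList as • ⊤ : Submodule A M)) := by
  intro as
  induction as with
  | nil =>
    intro M _ _ _ _ _ N₀ _ _ p hp hker _
    refine ⟨IsWeaklyRegular.nil A M, ?_⟩
    have h0 : (Ideal.ofList ([] : List A) • ⊤ : Submodule A M) = ⊥ := by
      rw [Ideal.ofList_nil, Submodule.bot_smul]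
    exact Module.Flat.of_linearEquiv ((Submodule.quotEquivOfEqBot _ h0).restrictScalars C)
  | cons a as ih =>
    intro M _ _ _ _ _ N₀ _ _ p hp hker hreg
    rw [isWeaklyRegular_cons_iff] at hreg
    obtain ⟨hreg1, hreg2⟩ := hreg
    have h : ∀ x : M, a • x ∈ mM (C := C) (A := A) M → x ∈ mM (C := C) (A := A) M := by
      intro x hx
      rw [← hker] at hx ⊢
      rw [map_smul] at hx
      exact hreg1.right_eq_zero_of_smul hx
    obtain ⟨h1, h2⟩ := isSMulRegular_and_flat (C := C) n hn a h
    obtain ⟨h3, h4⟩ := ih (QuotSMulTop a M) (QuotSMulTop a N₀) (QuotSMulTop.map a p)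
      (QuotSMulTop.map_surjective a hp) (map_ker (C := C) a p hp hker) hreg2
    refine ⟨(isWeaklyRegular_cons_iff M a as).2 ⟨h1, h3⟩, ?_⟩
    exact Module.Flat.of_linearEquiv
      ((Submodule.quotOfListConsSMulTopEquivQuotSMulTopInner M a as).restrictScalars C)

end Seq

section Conv

variable {C : Type u} [CommRing C] (I : Ideal C) (M : Type u) [AddCommGroup M] [Module C M]

/-- Injectivity of `mu` gives injectivity of `I ⊗ M → C ⊗ M`. -/
lemma rTensor_subtype_injective_of_mu_injective (h : Injective (mu I M)) :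
    Injective (I.subtype.rTensor M) := by
  have hcomp : ∀ x : ↥I ⊗[C] M,
      TensorProduct.lid C M (I.subtype.rTensor M x) = mu I M (TensorProduct.comm C ↥I M x) := by
    intro x
    induction x using TensorProduct.induction_on with
    | zero => simp
    | tmul j m => simp
    | add x y hx hy => rw [map_add, map_add, hx, hy, map_add, map_add]
  intro x y hxy
  apply (TensorProduct.comm C ↥I M).injective
  apply h
  rw [← hcomp, ← hcomp, hxy]

end Conv

section Quot

variable {C : Type u} [CommRing C] (I : Ideal C) {A : Type u} [CommRing A] [Algebra C A]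
  {M : Type u} [AddCommGroup M] [Module A M] [Module C M] [IsScalarTower C A M]

/-- If `M ⧸ a M` is flat over `C`, an element of `M ⊗ I` whose product lies in `a M` is a multiple of `a`. -/
lemma exists_smul_eq_of_mu_mem (a : A) [Module.Flat C (QuotSMulTop a M)] (z : M ⊗[C] ↥I)
    (hz : mu I M z ∈ a • (⊤ : Submodule A M)) : ∃ w : M ⊗[C] ↥I, a • w = z := by
  let q : M →ₗ[C] QuotSMulTop a M := (Submodule.mkQ (a • (⊤ : Submodule A M))).restrictScalars C
  let u : M →ₗ[C] M := (LinearMap.lsmul A M a).restrictScalars C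
  have h1 : mu I (QuotSMulTop a M) (q.rTensor ↥I z) = 0 := by
    rw [mu_natural]
    exact (Submodule.Quotient.mk_eq_zero _).2 hz
  have h2 : q.rTensor ↥I z = 0 := mu_injective I _ (h1.trans (map_zero _).symm)
  have hex : Function.Exact u q := by
    intro x
    constructor
    · intro hx
      have hx' : x ∈ a • (⊤ : Submodule A M) := (Submodule.Quotient.mk_eq_zero _).1 hx
      rw [Submodule.mem_smul_pointwise_iff_exists] at hx'
      obtain ⟨y, -, rfl⟩ := hx'
      exact ⟨y, rfl⟩
    · rintro ⟨y, rfl⟩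
      exact (Submodule.Quotient.mk_eq_zero _).2 (Submodule.smul_mem_pointwise_smul _ _ _ trivial)
  have hsm : ∀ w : M ⊗[C] ↥I, u.rTensor ↥I w = a • w := by
    intro w
    induction w using TensorProduct.induction_on with
    | zero => simp
    | tmul m c => rw [LinearMap.rTensor_tmul, TensorProduct.smul_tmul']; rfl
    | add x y hx hy => rw [map_add, hx, hy, smul_add]
  obtain ⟨w, hw⟩ := (rTensor_exact ↥I hex (Submodule.mkQ_surjective _) z).1 h2
  exact ⟨w, by rw [← hsm, hw]⟩

end Quot

section Nak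

variable {C : Type u} [CommRing C] [IsLocalRing C] [IsNoetherianRing C] {A : Type u} [CommRing A] [Algebra C A]
  [IsNoetherianRing A]
  {M : Type u} [AddCommGroup M] [Module A M] [Module C M] [IsScalarTower C A M] [Module.Finite A M]

/-- If `a` is `M`-regular and in the radical, `M` is finite and `M ⧸ a M` is flat over `C`, then `M` is flat over `C`. -/
theorem flat_of_isSMulRegular_of_flat_quot (n : ℕ) (hn : IsLocalRing.maximalIdeal C ^ n = ⊥)
    (a : A) (ha : a ∈ Ideal.jacobson (⊥ : Ideal A)) (hreg : IsSMulRegular M a)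
    [Module.Flat C (QuotSMulTop a M)] : Module.Flat C M := by
  let _ : Field (C ⧸ IsLocalRing.maximalIdeal C) := Ideal.Quotient.field _
  have : Module.Flat (C ⧸ IsLocalRing.maximalIdeal C) ((C ⧸ IsLocalRing.maximalIdeal C) ⊗[C] M) :=
    inferInstance
  refine Groth.Agent.Lib.Helper9.flat_of_isNilpotent_of_rTensor_injective (IsLocalRing.maximalIdeal C)
    ⟨n, hn⟩ (rTensor_subtype_injective_of_mu_injective _ M ?_)
  -- injectivity of mu
  set 𝔪 := IsLocalRing.maximalIdeal C with h𝔪
  let T : Submodule A (M ⊗[C] ↥𝔪) := LinearMap.ker (muA (A' := A) 𝔪 M)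
  have hfin : Module.Finite A (M ⊗[C] ↥𝔪) := Groth.Agent.Lib.Helper9.finite_tensorProduct_of_finite ↥𝔪
  have hT : T.FG := IsNoetherian.noetherian T
  have hle : T ≤ Ideal.span {a} • T := by
    intro z hz
    have hz0 : mu 𝔪 M z = 0 := hz
    obtain ⟨w, hw⟩ := exists_smul_eq_of_mu_mem 𝔪 a z (by rw [hz0]; exact Submodule.zero_mem _)
    have hwT : w ∈ T := by
      change mu 𝔪 M w = 0
      have : a • mu 𝔪 M w = 0 := by rw [← mu_smulA, hw, hz0]
      exact hreg.right_eq_zero_of_smul this
    rw [← hw]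
    exact Submodule.smul_mem_smul (Ideal.mem_span_singleton_self a) hwT
  have hjac : Ideal.span {a} ≤ Ideal.jacobson (⊥ : Ideal A) := by
    rw [Ideal.span_le]
    rintro _ rfl
    exact ha
  have hTbot := Submodule.eq_bot_of_le_smul_of_le_jacobson_bot (Ideal.span {a}) T hT hle hjac
  rw [injective_iff_map_eq_zero]
  intro z hz
  have : z ∈ T := hz
  rw [hTbot] at this
  exact this

end Nak

section ResidueReg

variable {C : Type u} [CommRing C] [IsLocalRing C] [IsNoetherianRing C] {A : Type u} [CommRing A] [Algebra C A]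
  [IsNoetherianRing A]

omit [IsNoetherianRing C] [IsNoetherianRing A] in
/-- `a` regular on `M` with `M ⧸ a M` flat is regular on `M ⧸ 𝔪 M`. -/
lemma mem_mM_of_smul_mem {M : Type u} [AddCommGroup M] [Module A M] [Module C M] [IsScalarTower C A M]
    (a : A) (hreg : IsSMulRegular M a) [Module.Flat C (QuotSMulTop a M)] (x : M)
    (hx : a • x ∈ mM (C := C) (A := A) M) : x ∈ mM (C := C) (A := A) M := by
  obtain ⟨z, hz⟩ := exists_mu_eq_of_mem_smulTop (IsLocalRing.maximalIdeal C) M _ hx
  obtain ⟨w, hw⟩ := exists_smul_eq_of_mu_mem (IsLocalRing.maximalIdeal C) a z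
    (by rw [hz]; exact Submodule.smul_mem_pointwise_smul _ _ _ trivial)
  have h1 : a • mu (IsLocalRing.maximalIdeal C) M w = a • x := by rw [← mu_smulA, hw, hz]
  have h2 : mu (IsLocalRing.maximalIdeal C) M w = x := hreg h1
  rw [← h2]
  exact mu_mem_smulTop _ M w

/-- A sequence in the radical which is regular on the finite module `M` with flat quotient: `M` is flat and the sequence
is regular on `M ⧸ 𝔪 M`. -/
theorem residue_isWeaklyRegular (n : ℕ) (hn : IsLocalRing.maximalIdeal C ^ n = ⊥) :
    ∀ (as : List A) (M : Type u) [AddCommGroup M] [Module A M] [Module C M] [IsScalarTower C A M]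
      [Module.Finite A M], (∀ a ∈ as, a ∈ Ideal.jacobson (⊥ : Ideal A)) → IsWeaklyRegular M as →
      Module.Flat C (M ⧸ (Ideal.ofList as • ⊤ : Submodule A M)) →
      Module.Flat C M ∧ ∀ (N₀ : Type u) [AddCommGroup N₀] [Module A N₀] (p : M →ₗ[A] N₀)
        (_ : Surjective p) (_ : ∀ x, p x = 0 ↔ x ∈ mM (C := C) (A := A) M), IsWeaklyRegular N₀ as := by
  intro as
  induction as with
  | nil =>
    intro M _ _ _ _ _ _ _ hflat
    have h0 : (Ideal.ofList ([] : List A) • ⊤ : Submodule A M) = ⊥ := by
      rw [Ideal.ofList_nil, Submodule.bot_smul]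
    refine ⟨Module.Flat.of_linearEquiv ((Submodule.quotEquivOfEqBot _ h0).restrictScalars C).symm, ?_⟩
    intro N₀ _ _ p _ _
    exact IsWeaklyRegular.nil A N₀
  | cons a as ih =>
    intro M _ _ _ _ _ hjac hreg hflat
    rw [isWeaklyRegular_cons_iff] at hreg
    obtain ⟨hreg1, hreg2⟩ := hreg
    have hflat' : Module.Flat C (QuotSMulTop a M ⧸ (Ideal.ofList as • ⊤ : Submodule A (QuotSMulTop a M))) :=
      Module.Flat.of_linearEquiv
        ((Submodule.quotOfListConsSMulTopEquivQuotSMulTopInner M a as).restrictScalars C).symm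
    obtain ⟨hM', hres⟩ := ih (QuotSMulTop a M) (fun b hb => hjac b (List.mem_cons_of_mem _ hb)) hreg2 hflat'
    have hM : Module.Flat C M :=
      flat_of_isSMulRegular_of_flat_quot n hn a (hjac a List.mem_cons_self) hreg1
    refine ⟨hM, ?_⟩
    intro N₀ _ _ p hp hker
    rw [isWeaklyRegular_cons_iff]
    refine ⟨?_, hres (QuotSMulTop a N₀) (QuotSMulTop.map a p) (QuotSMulTop.map_surjective a hp)
      (map_ker (C := C) a p hp hker)⟩
    rw [isSMulRegular_iff_right_eq_zero_of_smul]
    intro y hy
    obtain ⟨x, rfl⟩ := hp y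
    rw [← map_smul, hker] at hy
    rw [hker]
    exact mem_mM_of_smul_mem a hreg1 x hy

end ResidueReg

section IdealNak

variable {C' : Type*} [CommRing C'] (J : Ideal C') {A' : Type*} [CommRing A'] [Algebra C' A']

/-- For `A' ⧸ I'` flat over `C'`: `I' ∩ J A' ≤ J I'`. -/
lemma mem_mul_of_mem_of_mem_map (I' : Ideal A') [Module.Flat C' (A' ⧸ I')] (y : A') (hy : y ∈ I')
    (hyJ : y ∈ J.map (algebraMap C' A')) : y ∈ J.map (algebraMap C' A') * I' := by
  obtain ⟨z, rfl⟩ := exists_mu_eq J A' y hyJ
  have h1 : (Ideal.Quotient.mkₐ C' I').toLinearMap.rTensor ↥J z = 0 := by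
    apply mu_injective J (A' ⧸ I')
    rw [mu_natural, map_zero]
    exact Ideal.Quotient.eq_zero_iff_mem.2 hy
  have h2 := eq_zero_of_rTensor_eq_zero J
    (Ideal.Quotient.mkₐ C' I') (Ideal.Quotient.mkₐ_surjective C' I')
    ((Ideal.Quotient.mkₐ C' (J.map (algebraMap C' A') * I')).toLinearMap ∘ₗ mu J A')
    (by
      intro x hx j
      change Ideal.Quotient.mk _ (mu J A' (x ⊗ₜ j)) = 0
      rw [mu_tmul, Ideal.Quotient.eq_zero_iff_mem, Algebra.smul_def]
      exact Ideal.mul_mem_mul (Ideal.mem_map_of_mem _ j.2) (Ideal.Quotient.eq_zero_iff_mem.1 hx))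
    z h1
  exact Ideal.Quotient.eq_zero_iff_mem.1 h2

omit [Algebra C' A'] in
/-- Nakayama for a nilpotent ideal. -/
lemma le_of_le_sup_mul (S I 𝔫 : Ideal A') (h : I ≤ S ⊔ 𝔫 * I) (n : ℕ) (hn : 𝔫 ^ n = ⊥) : I ≤ S := by
  have key : ∀ k : ℕ, I ≤ S ⊔ 𝔫 ^ k * I := by
    intro k
    induction k with
    | zero => rw [pow_zero, one_mul]; exact le_sup_right
    | succ k ih =>
      calc I ≤ S ⊔ 𝔫 ^ k * I := ih
        _ ≤ S ⊔ 𝔫 ^ k * (S ⊔ 𝔫 * I) := sup_le_sup_left (Ideal.mul_mono_right h) _
        _ ≤ S ⊔ 𝔫 ^ (k + 1) * I := by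
          rw [Ideal.mul_sup, ← mul_assoc, ← pow_succ]
          exact sup_le le_sup_left (sup_le (le_sup_of_le_left Ideal.mul_le_right) le_sup_right)
  have := key n
  rwa [hn, Ideal.bot_mul, sup_bot_eq] at this

end IdealNak

end Groth.Agent.Lib.Helper1.RegLift
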