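import Groth.Agent.Lib.Helper1.AH4
import Groth.Agent.Lib.Helper1.RegLift

/-!
# Local splitting of the obstruction extension when the ideal is generated by a regular sequence
(ring level)

In the situation of `Hyp2` (an affine piece of `X_B ⊇ X_A ⊇ Z_A`, small extension `B → A` with kernel
`(t)`), if the ideal `I₀ = ker π` of the closed fibre is generated by a weakly regular sequence then the
ideal `J` of `Z_A` in `X_B` is `IB + t N` for an ideal `IB` with `N / IB` flat over `B`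
(`LiftData`), and such a lift gives a retraction of `R / I₀ → J / 𝔪 J` (`RRelA`).
-/

universe u

namespace Groth.Agent.Lib.Helper1.AH

open RingTheory.Sequence

section ListLift

theorem exists_list_lift {N R : Type*} (ρ : N → R) (P : N → Prop) :
    ∀ rs : List R, (∀ r ∈ rs, ∃ F, P F ∧ ρ F = r) →
      ∃ Fs : List N, Fs.map ρ = rs ∧ ∀ F ∈ Fs, P F
  | [], _ => ⟨[], rfl, fun _ h => absurd h List.not_mem_nil⟩
  | r :: rs, h => by
    obtain ⟨F, hF, hFr⟩ := h r List.mem_cons_self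
    obtain ⟨Fs, hFs, hP⟩ := exists_list_lift ρ P rs
      (fun r' hr' => h r' (List.mem_cons_of_mem _ hr'))
    refine ⟨F :: Fs, by rw [List.map_cons, hFr, hFs], ?_⟩
    intro G hG
    rcases List.mem_cons.1 hG with rfl | h'
    · exact hF
    · exact hP G h'

end ListLift

section LocalSplit

variable {Bc Ac N NA SA R Q NT : Type u} [CommRing Bc] [CommRing Ac] [CommRing N]
  [CommRing NA] [CommRing SA] [CommRing R] [CommRing Q] [CommRing NT]
  {𝔪 : Ideal Bc} {t : Bc} {p : Bc →+* Ac} {φ : Bc →+* N} {φA : Ac →+* NA}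
  {ψ : N →+* NA} {σA : NA →+* SA} {ρ : N →+* R} {π : R →+* Q} {σT : N →+* NT}

/-- A flat lift `IB` of the ideal of `Z_A` to `X_B`, in the form used below. -/
structure LiftData (t : Bc) (φ : Bc →+* N) (ψ : N →+* NA) (σA : NA →+* SA) (ρ : N →+* R)
    (π : R →+* Q) (IB : Ideal N) : Prop where
  le : ∀ b ∈ IB, σA (ψ b) = 0
  sum : ∀ j, σA (ψ j) = 0 → ∃ b ∈ IB, ∃ c, j = b + φ t * c
  flat : ∀ c, φ t * c ∈ IB → π (ρ c) = 0

/-- The graph of the retraction `J / 𝔪 J → R / I₀` attached to a lift. -/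
def RRelA (IB : Ideal N) (t : Bc) (φ : Bc →+* N) (ρ : N →+* R) (π : R →+* Q) (σT : N →+* NT)
    (z : NT) (q : Q) : Prop :=
  ∃ b ∈ IB, ∃ c : N, σT (b + φ t * c) = z ∧ π (ρ c) = q

theorem RRelA.add {IB : Ideal N} {z z' : NT} {q q' : Q} (h : RRelA IB t φ ρ π σT z q)
    (h' : RRelA IB t φ ρ π σT z' q') : RRelA IB t φ ρ π σT (z + z') (q + q') := by
  obtain ⟨b, hb, c, h1, h2⟩ := h
  obtain ⟨b', hb', c', h1', h2'⟩ := h'
  refine ⟨b + b', IB.add_mem hb hb', c + c', ?_, ?_⟩
  · rw [← h1, ← h1', ← map_add]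
    congr 1
    ring
  · rw [map_add, map_add, h2, h2']

theorem RRelA.mul {IB : Ideal N} {z : NT} {q : Q} (c₀ : N) (h : RRelA IB t φ ρ π σT z q) :
    RRelA IB t φ ρ π σT (σT c₀ * z) (π (ρ c₀) * q) := by
  obtain ⟨b, hb, c, h1, h2⟩ := h
  refine ⟨c₀ * b, IB.mul_mem_left c₀ hb, c₀ * c, ?_, ?_⟩
  · rw [← h1, ← map_mul]
    congr 1
    ring
  · rw [map_mul, map_mul, h2]

theorem RRelA.of_FRelA {IB : Ideal N} {z : NT} {q : Q} (h : FRelA t φ ρ π σT q z) :
    RRelA IB t φ ρ π σT z q := by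
  obtain ⟨n, h1, h2⟩ := h
  exact ⟨0, IB.zero_mem, n, by rw [zero_add, h2], h1⟩

section WithH

variable (H : Hyp2 𝔪 t p φ φA ψ σA ρ π σT) {IB : Ideal N} (L : LiftData t φ ψ σA ρ π IB)
include H L

theorem LiftData.ker_sigT_le : RingHom.ker σT ≤ IB := by
  rw [H.kerσT, Ideal.mul_le]
  intro m hm j hj
  obtain ⟨b, hb, c, rfl⟩ := L.sum j hj
  have h0 : m * (φ t * c) = 0 := by
    rw [← mul_assoc, mul_comm m (φ t), H.phi_t_mul_eq_zero hm, zero_mul]
  rw [mul_add, h0, add_zero]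
  exact IB.mul_mem_left m hb

theorem RRelA.unique {z : NT} {q q' : Q} (h : RRelA IB t φ ρ π σT z q)
    (h' : RRelA IB t φ ρ π σT z q') : q = q' := by
  obtain ⟨b, hb, c, h1, h2⟩ := h
  obtain ⟨b', hb', c', h1', h2'⟩ := h'
  have h3 : (b + φ t * c) - (b' + φ t * c') ∈ RingHom.ker σT := by
    rw [RingHom.mem_ker, map_sub, h1, h1', sub_self]
  have h4 := L.ker_sigT_le H h3
  have h5 : φ t * (c - c') ∈ IB := by
    have e : φ t * (c - c') = ((b + φ t * c) - (b' + φ t * c')) - (b - b') := by ring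
    rw [e]
    exact IB.sub_mem h4 (IB.sub_mem hb hb')
  have h6 := L.flat _ h5
  rw [map_sub, map_sub, h2, h2', sub_eq_zero] at h6
  exact h6

theorem RRelA.exists {z : NT} (hz : z ∈ (RingHom.ker (σA.comp ψ)).map σT) :
    ∃ q, RRelA IB t φ ρ π σT z q := by
  obtain ⟨j, hj, rfl⟩ := (Ideal.mem_map_iff_of_surjective σT H.surjσT).1 hz
  obtain ⟨b, hb, c, rfl⟩ := L.sum j hj
  exact ⟨π (ρ c), b, hb, c, rfl, rfl⟩

end WithH

/-- A lift exists when `I₀ = ker π` is generated by a weakly regular sequence. -/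
theorem exists_liftData [IsLocalRing Bc]
    (H : Hyp2 (IsLocalRing.maximalIdeal Bc) t p φ φA ψ σA ρ π σT) (n : ℕ)
    (hn : IsLocalRing.maximalIdeal Bc ^ n = ⊥) (rs : List R) (hreg : IsWeaklyRegular R rs)
    (hker : RingHom.ker π = Ideal.ofList rs) :
    ∃ IB : Ideal N, LiftData t φ ψ σA ρ π IB := by
  classical
  have hl : ∀ r ∈ rs, ∃ F : N, σA (ψ F) = 0 ∧ ρ F = r := by
    intro r hr
    have h1 : r ∈ RingHom.ker π := by
      rw [hker]
      exact Ideal.subset_span hr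
    rw [H.kerπ] at h1
    obtain ⟨F, hF, hFr⟩ := (Ideal.mem_map_iff_of_surjective ρ H.surjρ).1 h1
    exact ⟨F, hF, hFr⟩
  obtain ⟨Fs, hFs, hP⟩ := exists_list_lift ρ (fun F => σA (ψ F) = 0) rs hl
  letI : Algebra Bc N := φ.toAlgebra
  letI : Algebra N R := ρ.toAlgebra
  haveI : Module.Flat Bc N := H.flatφ
  have hregN : IsWeaklyRegular R Fs := by
    have h1 : IsWeaklyRegular R (Fs.map (algebraMap N R)) := by
      have e : Fs.map (algebraMap N R) = rs := hFs
      rw [e]
      exact hreg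
    exact (isWeaklyRegular_map_algebraMap_iff (R := N) (S := R) (M := R) Fs).1 h1
  have hkp : ∀ x : N, (Algebra.linearMap N R) x = 0 ↔ x ∈ RegLift.mM (C := Bc) (A := N) N := by
    intro x
    have e1 : (Algebra.linearMap N R) x = ρ x := rfl
    have e2 : RegLift.mM (C := Bc) (A := N) N = (IsLocalRing.maximalIdeal Bc).map φ := by
      change ((IsLocalRing.maximalIdeal Bc).map φ) • (⊤ : Ideal N) = _
      rw [Ideal.smul_eq_mul, Ideal.mul_top]
    rw [e1, e2, ← H.kerρ, RingHom.mem_ker]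
  obtain ⟨-, hflat⟩ := RegLift.isWeaklyRegular_and_flat (C := Bc) (A := N) n hn Fs N R
    (Algebra.linearMap N R) H.surjρ hkp hregN
  have hIBle : ∀ b ∈ Ideal.ofList Fs, σA (ψ b) = 0 := by
    have : Ideal.ofList Fs ≤ RingHom.ker (σA.comp ψ) := by
      rw [Ideal.ofList, Ideal.span_le]
      intro F hF
      exact hP F hF
    exact fun b hb => this hb
  have hρIB : (Ideal.ofList Fs).map ρ = RingHom.ker π := by
    rw [Ideal.map_ofList, hFs, hker]
  have h𝔫 : ((IsLocalRing.maximalIdeal Bc).map φ) ^ n = ⊥ := by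
    rw [← Ideal.map_pow, hn, Ideal.map_bot]
  have hsum : RingHom.ker (σA.comp ψ) ≤ Ideal.ofList Fs ⊔ Ideal.span {φ t} := by
    refine RegLift.le_of_le_sup_mul _ _ ((IsLocalRing.maximalIdeal Bc).map φ) ?_ n h𝔫
    intro j hj
    have hj' : σA (ψ j) = 0 := hj
    have h1 : ρ j ∈ (Ideal.ofList Fs).map ρ := by
      rw [hρIB]
      exact RingHom.mem_ker.2 (H.pi_rho_eq_zero_of_mem hj')
    obtain ⟨b, hb, hbj⟩ := (Ideal.mem_map_iff_of_surjective ρ H.surjρ).1 h1
    have h2 : σA (ψ (j - b)) = 0 := by rw [map_sub, map_sub, hj', hIBle b hb, sub_zero]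
    have h3 : ρ (j - b) = 0 := by rw [map_sub, hbj, sub_self]
    obtain ⟨c, hc⟩ := H.exists_sigT_eq h2 h3
    have h4 : (j - b) - φ t * c ∈ RingHom.ker σT := by
      rw [RingHom.mem_ker, map_sub, hc, sub_self]
    rw [H.kerσT] at h4
    have e : j = (b + φ t * c) + ((j - b) - φ t * c) := by ring
    rw [e]
    exact Submodule.add_mem_sup
      (Submodule.add_mem_sup hb (Ideal.mem_span_singleton'.2 ⟨c, by ring⟩)) h4
  refine ⟨Ideal.ofList Fs, hIBle, ?_, ?_⟩
  · intro j hj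
    have h1 := hsum (show j ∈ RingHom.ker (σA.comp ψ) from hj)
    obtain ⟨b, hb, y, hy, rfl⟩ := Submodule.mem_sup.1 h1
    obtain ⟨c, rfl⟩ := Ideal.mem_span_singleton'.1 hy
    exact ⟨b, hb, c, by ring⟩
  · intro c hc
    have hq0 : (Ideal.ofList Fs • ⊤ : Submodule N N) = Ideal.ofList Fs := by
      change Ideal.ofList Fs • (⊤ : Ideal N) = Ideal.ofList Fs
      rw [Ideal.smul_eq_mul, Ideal.mul_top]
    have hmk0 : ∀ y : N, (Submodule.Quotient.mk y :
        N ⧸ (Ideal.ofList Fs • ⊤ : Submodule N N)) = 0 ↔ y ∈ Ideal.ofList Fs := by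
      intro y
      rw [Submodule.Quotient.mk_eq_zero, hq0]
    have h1 : t • (Submodule.Quotient.mk c : N ⧸ (Ideal.ofList Fs • ⊤ : Submodule N N)) = 0 := by
      rw [← Submodule.Quotient.mk_smul, hmk0, Algebra.smul_def]
      exact hc
    have h2 := mem_smul_top_of_smul_eq_zero (IsLocalRing.maximalIdeal Bc) t H.ann _ h1
    have hρφ : ∀ m ∈ IsLocalRing.maximalIdeal Bc, ρ (φ m) = 0 := by
      intro m hm
      have : φ m ∈ RingHom.ker ρ := by
        rw [H.kerρ]
        exact Ideal.mem_map_of_mem φ hm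
      exact this
    have key : ∀ x : N ⧸ (Ideal.ofList Fs • ⊤ : Submodule N N),
        x ∈ (IsLocalRing.maximalIdeal Bc) •
          (⊤ : Submodule Bc (N ⧸ (Ideal.ofList Fs • ⊤ : Submodule N N))) →
        ∀ c : N, (Submodule.Quotient.mk c : N ⧸ (Ideal.ofList Fs • ⊤ : Submodule N N)) = x →
          π (ρ c) = 0 := by
      intro x hx
      refine Submodule.smul_induction_on hx ?_ ?_
      · intro m hm y _ c hcy
        obtain ⟨c', rfl⟩ := Submodule.Quotient.mk_surjective _ y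
        have h3 : c - φ m * c' ∈ Ideal.ofList Fs := by
          rw [← hmk0, Submodule.Quotient.mk_sub, hcy, sub_eq_zero, ← Submodule.Quotient.mk_smul,
            Algebra.smul_def]
          rfl
        have h4 := H.pi_rho_eq_zero_of_mem (hIBle _ h3)
        rw [map_sub, map_sub, map_mul, hρφ m hm, zero_mul, map_zero, sub_zero] at h4
        exact h4
      · intro x y hx hy c hc
        obtain ⟨c₁, rfl⟩ := Submodule.Quotient.mk_surjective _ x
        have h3 : (Submodule.Quotient.mk (c - c₁) :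
            N ⧸ (Ideal.ofList Fs • ⊤ : Submodule N N)) = y := by
          rw [Submodule.Quotient.mk_sub, hc, add_sub_cancel_left]
        have h4 := hx c₁ rfl
        have h5 := hy (c - c₁) h3
        rw [map_sub, map_sub, h4, sub_zero] at h5
        exact h5
    exact key _ h2 c rfl

end LocalSplit

end Groth.Agent.Lib.Helper1.AH
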