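import Groth.Agent.Lib.Helper1.AH7

/-!
# Unobstructedness of embedded deformations along a small extension: the lifted ideal sheaf
-/

universe u

open CategoryTheory CategoryTheory.Limits AlgebraicGeometry Opposite TopologicalSpace
open ArtFun ArtFun.Art
open Groth.Agent.Lib.Helper29.QCoh Groth.Agent.Lib.Helper3

namespace Groth.Agent.Lib.Helper1.AH

/-- Restriction of functions. -/
noncomputable abbrev resN {Y : Scheme.{u}} {W W' : Y.Opens} (h : W' ≤ W) : Γ(Y, W) →+* Γ(Y, W') :=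
  (Y.presheaf.map (homOfLE h).op).hom

theorem resN_resN {Y : Scheme.{u}} {W W' W'' : Y.Opens} (h : W' ≤ W) (h' : W'' ≤ W') (g : Γ(Y, W)) :
    resN h' (resN h g) = resN (h'.trans h) g :=
  map_map_apply Y h h' g

theorem resN_self {Y : Scheme.{u}} {W : Y.Opens} (h : W ≤ W) (g : Γ(Y, W)) : resN h g = g :=
  presheaf_map_self Y W h g

section IB

variable {k : Type u} [Field k] {X : Scheme.{u}} (x : X ⟶ specPt k) {B A : Art k k} (p : B ⟶ A)
  (IA : (XA x A).IdealSheafData) [IsClosedImmersion (XAmap x p)] (I₀ : X.IdealSheafData) (t : B)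
  (r : PP x p IA ⟶ ClSub.quotMod I₀)

omit [IsClosedImmersion (XAmap x p)] in
theorem vT_sub {U : X.Opens} (z z' : Γ(PP x p IA, U)) :
    vT x p IA (z - z') = vT x p IA z - vT x p IA z' := by
  unfold vT
  have h : toK x p IA (z - z') = toK x p IA z - toK x p IA z' := rfl
  rw [h, map_sub]
  rfl

/-- Membership in the lifted ideal over `W_U`. -/
def IBmem (U : X.Opens) (n : Γ(XA x B, WW x B U)) : Prop :=
  sigA x p IA U (psi x p U n) = 0 ∧
    ∃ z : Γ(PP x p IA, U), vT x p IA z = sigT x p IA U n ∧ r.app U z = 0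

omit [IsClosedImmersion (XAmap x p)] in
theorem IBmem_res {U V : X.Opens} (hVU : V ≤ U) {n : Γ(XA x B, WW x B U)}
    (h : IBmem x p IA I₀ r U n) : IBmem x p IA I₀ r V (resN (WW_mono x B hVU) n) := by
  obtain ⟨hn, z, hz, hrz⟩ := h
  refine ⟨sigA_psi_res x p IA hVU n hn, res (PP x p IA) hVU z, ?_, ?_⟩
  · rw [vT_res, hz]
    exact (app_map_apply (iT x p IA) (WW_mono x B hVU) n).symm
  · rw [app_res, hrz, map_zero]

variable (H : ∀ (U : X.Opens), IsAffineOpen U → Hyp2 (IsLocalRing.maximalIdeal B) t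
  p.toAlgHom.toRingHom (phi x B U) (phiA x p U) (psi x p U) (sigA x p IA U) (rho x B U)
  (pi0 I₀ U) (sigT x p IA U))

/-- The lifted ideal over `W_U`. -/
noncomputable def IBW (U : X.Opens) (hU : IsAffineOpen U) : Ideal Γ(XA x B, WW x B U) where
  carrier := {n | IBmem x p IA I₀ r U n}
  add_mem' := by
    rintro a b ⟨ha, za, hza, hra⟩ ⟨hb, zb, hzb, hrb⟩
    refine ⟨by rw [map_add, map_add, ha, hb, add_zero], za + zb,
      by rw [vT_add, hza, hzb, map_add], ?_⟩
    rw [map_add, hra, hrb, add_zero]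
  zero_mem' := ⟨by rw [map_zero, map_zero], 0, by rw [vT_zero, map_zero], map_zero _⟩
  smul_mem' := by
    rintro c n ⟨hn, z, hz, hrz⟩
    refine ⟨?_, (rho x B U c) • z, ?_, ?_⟩
    · rw [smul_eq_mul, map_mul, map_mul, hn, mul_zero]
    · rw [vT_smul x p IA I₀ t H hU c z, hz, smul_eq_mul, map_mul]
    · rw [Scheme.Modules.Hom.app_smul, hrz, smul_zero]

/-- The lifted ideal over an arbitrary affine open. -/
noncomputable def IBideal (V : (XA x B).affineOpens) : Ideal Γ(XA x B, V.1) :=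
  ⨅ (U : X.affineOpens) (h : WW x B U.1 ≤ V.1), (IBW x p IA I₀ t r H U.1 U.2).comap (resN h)

theorem mem_IBideal (V : (XA x B).affineOpens) (g : Γ(XA x B, V.1)) :
    g ∈ IBideal x p IA I₀ t r H V ↔
      ∀ (U : X.affineOpens) (h : WW x B U.1 ≤ V.1), IBmem x p IA I₀ r U.1 (resN h g) := by
  unfold IBideal
  rw [Ideal.mem_iInf]
  constructor
  · intro h U hle
    have := h U
    rw [Ideal.mem_iInf] at this
    exact this hle
  · intro h U
    rw [Ideal.mem_iInf]
    intro hle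
    exact h U hle

theorem IBideal_WW (U : X.Opens) (hU : IsAffineOpen U) (hW : IsAffineOpen (WW x B U))
    (g : Γ(XA x B, WW x B U)) :
    g ∈ IBideal x p IA I₀ t r H ⟨WW x B U, hW⟩ ↔ IBmem x p IA I₀ r U g := by
  rw [mem_IBideal]
  constructor
  · intro h
    have := h ⟨U, hU⟩ le_rfl
    rwa [resN_self] at this
  · intro h U' hle
    exact IBmem_res x p IA I₀ r (le_of_WW_le x B hle) h

theorem IBideal_res {V V' : (XA x B).affineOpens} (hle : V'.1 ≤ V.1) {g : Γ(XA x B, V.1)}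
    (hg : g ∈ IBideal x p IA I₀ t r H V) : resN hle g ∈ IBideal x p IA I₀ t r H V' := by
  rw [mem_IBideal] at hg ⊢
  intro U h
  rw [resN_resN]
  exact hg U (h.trans hle)

theorem IBideal_loc (U : X.Opens) (hU : IsAffineOpen U) (hW : IsAffineOpen (WW x B U))
    (f : Γ(XA x B, WW x B U)) (g' : Γ(XA x B, (XA x B).basicOpen f))
    (hg' : g' ∈ IBideal x p IA I₀ t r H ⟨(XA x B).basicOpen f, hW.basicOpen f⟩) :
    g' ∈ (IBideal x p IA I₀ t r H ⟨WW x B U, hW⟩).map (resN ((XA x B).basicOpen_le f)) := by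
  have hD : IsAffineOpen (X.basicOpen (rho x B U f)) := hU.basicOpen _
  have hle1 : X.basicOpen (rho x B U f) ≤ U := X.basicOpen_le _
  have hWD : WW x B (X.basicOpen (rho x B U f)) = (XA x B).basicOpen f := WW_basicOpen x B U f
  have hleN : (XA x B).basicOpen f ≤ WW x B U := (XA x B).basicOpen_le f
  rw [mem_IBideal] at hg'
  obtain ⟨hg1, z'', hz'', hrz''⟩ := hg' ⟨X.basicOpen (rho x B U f), hD⟩ hWD.le
  -- Step 1: `g' ∈ J`
  have hgJ : g' ∈ (JJ x p IA).ideal ⟨(XA x B).basicOpen f, hW.basicOpen f⟩ := by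
    have h1 : resN hWD.le g' ∈
        (JJ x p IA).ideal ⟨WW x B (X.basicOpen (rho x B U f)), isAffineOpen_WW x B hD⟩ := by
      rw [JJ_ideal x p IA _ hD]
      exact hg1
    have h2 := (JJ x p IA).ideal_le_comap_ideal
      (U := ⟨(XA x B).basicOpen f, hW.basicOpen f⟩)
      (V := ⟨WW x B (X.basicOpen (rho x B U f)), isAffineOpen_WW x B hD⟩) hWD.ge h1
    have e : resN hWD.ge (resN hWD.le g') = g' := by
      rw [resN_resN, resN_self]
    have h3 : resN hWD.ge (resN hWD.le g') ∈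
        (JJ x p IA).ideal ⟨(XA x B).basicOpen f, hW.basicOpen f⟩ := h2
    rwa [e] at h3
  -- Step 2: clear denominators
  obtain ⟨s, hs⟩ := exists_idealModι_app_eq (JJ x p IA) ⟨(XA x B).basicOpen f, hW.basicOpen f⟩
    g' hgJ
  obtain ⟨n, m, hnm⟩ := exists_pow_smul_eq_res (ClSub.idealMod (JJ x p IA)) hW f s
  have hjJ : fromUnit ((ClSub.idealModι (JJ x p IA)).app (WW x B U) m) ∈
      (JJ x p IA).ideal ⟨WW x B U, hW⟩ := idealModι_app_mem (JJ x p IA) ⟨WW x B U, hW⟩ m
  obtain ⟨j, hj⟩ : ∃ j : Γ(XA x B, WW x B U),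
      j = fromUnit ((ClSub.idealModι (JJ x p IA)).app (WW x B U) m) := ⟨_, rfl⟩
  rw [← hj] at hjJ
  have hjg : (resN hleN f) ^ n * g' = resN hleN j := by
    have h1 := congrArg
      (fun z => fromUnit ((ClSub.idealModι (JJ x p IA)).app ((XA x B).basicOpen f) z)) hnm
    simp only at h1
    rw [Scheme.Modules.Hom.app_smul, app_res] at h1
    rw [← hs, hj]
    exact h1
  have hjJ' : sigA x p IA U (psi x p U j) = 0 := by
    rw [JJ_ideal x p IA U hU] at hjJ
    exact hjJ
  -- Step 3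
  obtain ⟨zj, hzj⟩ := exists_vT_eq x p IA hU (sigT x p IA U j)
    (Ideal.mem_map_of_mem _ (show j ∈ RingHom.ker ((sigA x p IA U).comp (psi x p U)) from hjJ'))
  have hres : res (ClSub.quotMod I₀) hle1 (r.app U zj) = 0 := by
    rw [← app_res]
    have hz : res (PP x p IA) hle1 zj =
        (rho x B (X.basicOpen (rho x B U f)) ((resN (WW_mono x B hle1) f) ^ n)) • z'' := by
      apply vT_injective x p IA
      rw [vT_res, hzj, vT_smul x p IA I₀ t H hD, hz'', ← map_mul]
      have e1 : ((TT x p IA).presheaf.map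
          (homOfLE ((iT x p IA).preimage_mono (WW_mono x B hle1))).op).hom (sigT x p IA U j) =
          sigT x p IA (X.basicOpen (rho x B U f)) (resN (WW_mono x B hle1) j) :=
        (app_map_apply (iT x p IA) (WW_mono x B hle1) j).symm
      rw [e1]
      congr 1
      have e2 : resN (WW_mono x B hle1) j = resN hWD.le (resN hleN j) := by
        rw [resN_resN]
      have e3 : resN (WW_mono x B hle1) f = resN hWD.le (resN hleN f) := by
        rw [resN_resN]
      rw [e2, e3, ← hjg, map_mul, map_pow]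
    rw [hz, Scheme.Modules.Hom.app_smul, hrz'', smul_zero]
  -- Step 4
  obtain ⟨m', hm'⟩ := exists_pow_smul_eq_zero (ClSub.quotMod I₀) hU (rho x B U f) (r.app U zj) hres
  -- Step 5
  have hj' : IBmem x p IA I₀ r U (f ^ m' * j) := by
    refine ⟨by rw [map_mul, map_mul, hjJ', mul_zero], (rho x B U (f ^ m')) • zj, ?_, ?_⟩
    · rw [vT_smul x p IA I₀ t H hU, hzj, map_mul]
    · rw [Scheme.Modules.Hom.app_smul, map_pow]
      exact hm'
  -- Step 6
  have hu : IsUnit (resN hleN f) := RingedSpace.isUnit_res_basicOpen _ f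
  obtain ⟨u, hu'⟩ := hu.pow (n + m')
  have h3 : (resN hleN f) ^ (n + m') * g' = resN hleN (f ^ m' * j) := by
    rw [pow_add, mul_comm ((resN hleN f) ^ n), mul_assoc, hjg, map_mul, map_pow]
  have h2 : g' = (↑u⁻¹ : Γ(XA x B, (XA x B).basicOpen f)) * resN hleN (f ^ m' * j) := by
    rw [← h3, ← hu', ← mul_assoc, Units.inv_mul, one_mul]
  rw [h2]
  exact Ideal.mul_mem_left _ _ (Ideal.mem_map_of_mem _
    ((IBideal_WW x p IA I₀ t r H U hU hW _).2 hj'))

/-- The lifted ideal sheaf. -/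
noncomputable def IB : (XA x B).IdealSheafData where
  ideal := IBideal x p IA I₀ t r H
  map_ideal_basicOpen := by
    rintro ⟨V, hV⟩ f
    obtain ⟨U, hU, rfl⟩ := exists_eq_WW x B V hV
    apply le_antisymm
    · rw [Ideal.map_le_iff_le_comap]
      intro g hg
      exact IBideal_res x p IA I₀ t r H (V := ⟨WW x B U, hV⟩)
        (V' := ⟨(XA x B).basicOpen f, hV.basicOpen f⟩) ((XA x B).basicOpen_le f) hg
    · intro g' hg'
      exact IBideal_loc x p IA I₀ t r H U hU hV f g' hg'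

theorem IB_ideal (U : X.Opens) (hU : IsAffineOpen U) :
    (IB x p IA I₀ t r H).ideal ⟨WW x B U, isAffineOpen_WW x B hU⟩ = IBW x p IA I₀ t r H U hU :=
  Ideal.ext fun g => IBideal_WW x p IA I₀ t r H U hU _ g

variable (hr : fHom x p IA I₀ t H ≫ r = 𝟙 _)

include hr

theorem exists_sub_mem {U : X.Opens} (hU : IsAffineOpen U) (f : Γ(XA x B, WW x B U))
    (hf : sigA x p IA U (psi x p U f) = 0) :
    ∃ c, IBmem x p IA I₀ r U (f - phi x B U t * c) := by
  obtain ⟨z, hz⟩ := exists_vT_eq x p IA hU (sigT x p IA U f)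
    (Ideal.mem_map_of_mem _ (show f ∈ RingHom.ker ((sigA x p IA U).comp (psi x p U)) from hf))
  have hF := fHom_spec x p IA I₀ t H hU (r.app U z)
  obtain ⟨c, hc1, hc2⟩ := hF
  have hrr : r.app U ((fHom x p IA I₀ t H).app U (r.app U z)) = r.app U z :=
    congrArg (fun φ => φ.app U (r.app U z)) hr
  refine ⟨c, ?_, z - (fHom x p IA I₀ t H).app U (r.app U z), ?_, ?_⟩
  · rw [map_sub, map_sub, hf, map_mul, map_mul, (H U hU).phi_t_mem, zero_mul, sub_zero]
  · rw [vT_sub, hz, ← hc2, map_sub]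
  · rw [map_sub, hrr, sub_self]

theorem pi_rho_eq_zero_of_IBmem {U : X.Opens} (hU : IsAffineOpen U) (c : Γ(XA x B, WW x B U))
    (h : IBmem x p IA I₀ r U (phi x B U t * c)) : pi0 I₀ U (rho x B U c) = 0 := by
  obtain ⟨_, z, hz, hrz⟩ := h
  have hF : FRel x p IA I₀ t U (toQ I₀ (pi0 I₀ U (rho x B U c))) z := by
    unfold FRel
    exact ⟨c, rfl, hz.symm⟩
  have h1 := fHom_app_eq x p IA I₀ t H hU hF
  have h2 : r.app U ((fHom x p IA I₀ t H).app U (toQ I₀ (pi0 I₀ U (rho x B U c)))) =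
      toQ I₀ (pi0 I₀ U (rho x B U c)) :=
    congrArg (fun φ => φ.app U (toQ I₀ (pi0 I₀ U (rho x B U c)))) hr
  rw [h1, hrz] at h2
  exact h2.symm

theorem flat_sig_IB (U : X.Opens) (hU : IsAffineOpen U) :
    ((sig x B (IB x p IA I₀ t r H) U).comp (phi x B U)).Flat := by
  have hker : RingHom.ker (sig x B (IB x p IA I₀ t r H) U) = IBW x p IA I₀ t r H U hU := by
    rw [ker_sig x B _ U hU]
    exact IB_ideal x p IA I₀ t r H U hU
  refine (H U hU).flat_of_IB (sig x B (IB x p IA I₀ t r H) U) (sig_surjective x B _ U hU)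
    ?_ ?_ ?_
  · intro n hn
    rw [hker] at hn
    exact hn.1
  · intro f hf
    obtain ⟨c, hc⟩ := exists_sub_mem x p IA I₀ t r H hr hU f hf
    refine ⟨c, ?_⟩
    have : f - phi x B U t * c ∈ RingHom.ker (sig x B (IB x p IA I₀ t r H) U) := by
      rw [hker]; exact hc
    rw [RingHom.mem_ker, map_sub, sub_eq_zero] at this
    exact this
  · intro c hc
    have : phi x B U t * c ∈ RingHom.ker (sig x B (IB x p IA I₀ t r H) U) := hc
    rw [hker] at this
    exact pi_rho_eq_zero_of_IBmem x p IA I₀ t r H hr hU c this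

theorem flatOver_IB : FlatOver X x B (IB x p IA I₀ t r H) := by
  unfold FlatOver
  refine HasRingHomProperty.of_iSup_eq_top (P := @Flat)
    (fun U : X.affineOpens => ⟨(IB x p IA I₀ t r H).subschemeι ⁻¹ᵁ (WW x B U.1),
      (isAffineOpen_WW x B U.2).preimage _⟩) ?_ ?_
  · exact (IB x p IA I₀ t r H).subschemeι.iSup_preimage_eq_top (iSup_WW x B)
  · intro U
    apply flat_appLE_of_flat_secMap
    have e : secMap ((IB x p IA I₀ t r H).subschemeι ≫ XApr x B)
        ((IB x p IA I₀ t r H).subschemeι ⁻¹ᵁ (WW x B U.1)) =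
        (sig x B (IB x p IA I₀ t r H) U.1).comp (phi x B U.1) := by
      ext b
      have h1 := secMap_comp_left (IB x p IA I₀ t r H).subschemeι (XApr x B) (WW x B U.1)
        ((IB x p IA I₀ t r H).subschemeι ⁻¹ᵁ (WW x B U.1)) le_rfl b
      have h2 : (IB x p IA I₀ t r H).subschemeι.appLE (WW x B U.1)
          ((IB x p IA I₀ t r H).subschemeι ⁻¹ᵁ (WW x B U.1)) le_rfl =
          (IB x p IA I₀ t r H).subschemeι.app (WW x B U.1) := Scheme.Hom.appLE_eq_app _
      rw [h2] at h1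
      exact h1.symm
    rw [e]
    exact flat_sig_IB x p IA I₀ t r H hr U.1 U.2

theorem comap_IB : (IB x p IA I₀ t r H).comap (XAmap x p) = IA := by
  refine Scheme.IdealSheafData.ext_of_iSup_eq_top
    (fun U : X.affineOpens => ⟨WA x p U.1, isAffineOpen_WA x p U.2⟩) (iSup_WA x p) ?_
  intro U
  show ((IB x p IA I₀ t r H).comap (XAmap x p)).ideal ⟨WA x p U.1, isAffineOpen_WA x p U.2⟩ =
    IA.ideal ⟨WA x p U.1, isAffineOpen_WA x p U.2⟩
  have c := ideal_comap (IB x p IA I₀ t r H) (XAmap x p)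
    ⟨WA x p U.1, isAffineOpen_WA x p U.2⟩ ⟨WW x B U.1, isAffineOpen_WW x B U.2⟩ le_rfl
  have h2 : (XAmap x p).appLE (WW x B U.1) (WA x p U.1) le_rfl = (XAmap x p).app (WW x B U.1) :=
    Scheme.Hom.appLE_eq_app _
  rw [h2] at c
  rw [c, IB_ideal x p IA I₀ t r H U.1 U.2,
    ← IA.ker_subschemeι_app ⟨WA x p U.1, isAffineOpen_WA x p U.2⟩]
  apply le_antisymm
  · rw [Ideal.map_le_iff_le_comap]
    intro n hn
    exact hn.1
  · intro m hm
    obtain ⟨f, rfl⟩ := psi_surjective x p U.1 U.2 m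
    obtain ⟨c', hc'⟩ := exists_sub_mem x p IA I₀ t r H hr U.2 f hm
    have e : psi x p U.1 (f - phi x B U.1 t * c') = psi x p U.1 f := by
      rw [map_sub, map_mul, psi_phi, (H U.1 U.2).p_t, map_zero, zero_mul, sub_zero]
    rw [← e]
    exact Ideal.mem_map_of_mem _ hc'

end IB

section Final

variable {k : Type u} [Field k] {X : Scheme.{u}} (x : X ⟶ specPt k) {B A : Art k k} (p : B ⟶ A)
  (IA : (XA x A).IdealSheafData) (I₀ : X.IdealSheafData)

/-- Lifting a flat closed subscheme along a small extension when `Ext¹(I₀, O/I₀) = 0`. -/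
theorem exists_lift_small [HasExt.{u} X.Modules]
    (hsub : Subsingleton (Abelian.Ext.{u} (ClSub.idealMod I₀) (ClSub.quotMod I₀) 1))
    (hp : IsSmallExt p) (hIA : FlatOver X x A IA) (h0 : IA.comap (XAincl x A) = I₀) :
    ∃ IB' : (XA x B).IdealSheafData, FlatOver X x B IB' ∧ IB'.comap (XAmap x p) = IA := by
  haveI := isClosedImmersion_XAmap x p hp.1
  obtain ⟨t, ht⟩ := hp.2.2.1.principal
  have H := hyp2 x p IA I₀ hp t ht hIA h0
  obtain ⟨r, hr⟩ := exists_retraction_of_subsingleton_ext (shortExact x p IA I₀ t H) hsub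
  exact ⟨IB x p IA I₀ t r H, flatOver_IB x p IA I₀ t r H hr, comap_IB x p IA I₀ t r H hr⟩

end Final

end Groth.Agent.Lib.Helper1.AH
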