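import Groth.Agent.Lib.Helper1.AH19
import Groth.Agent.Lib.Helper1.AH8
import Groth.Agent.Lib.Helper1.AH16
import Groth.Agent.Lib.Helper1.ArtFunArt
import Groth.Agent.Helper19.PullUnit
import Groth.Agent.Lib.Helper29.ProjF2
import Groth.Agent.Lib.Helper29.QCohPush
import Groth.Agent.Lib.Helper29.QCohIdealMod
import Groth.Agent.Lib.Helper3.ModCrit
import Groth.Agent.Lib.Helper3.ModHomAff

/-!
# Embedded deformations of a regularly embedded closed subscheme: the obstruction lies in
`Ext¹(I/I², O_Z)`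

For a closed immersion `i : Z ⟶ X` whose ideal is locally generated by a (weakly) regular sequence,
the obstruction extension `0 → O_X / I₀ → J / 𝔪 J → I₀ → 0` splits locally; hence its pullback to
`Z` is still short exact, and it splits globally as soon as `Ext¹_Z(i^* I₀, O_Z) = 0`.
-/

universe u

open CategoryTheory CategoryTheory.Limits AlgebraicGeometry Opposite TopologicalSpace
open scoped TensorProduct
open ArtFun ArtFun.Art
open Groth.Agent.Lib.Helper29.QCoh Groth.Agent.Lib.Helper3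

namespace Groth.Agent.Lib.Helper1.AH

/-! ### Pullbacks of locally split monomorphisms -/

section PullMono

variable {Z X : Scheme.{u}} (i : Z ⟶ X) {F G : X.Modules} [F.IsQuasicoherent] [G.IsQuasicoherent]
  (f : F ⟶ G) {V : X.Opens} (hV : IsAffineOpen V) {U : Z.Opens} (hU : IsAffineOpen U)
  (e : U ≤ i ⁻¹ᵁ V)

set_option maxRecDepth 20000 in
theorem pullbackSectionsEquiv_map (s : Γ((Scheme.Modules.pullback i).obj F, U)) :
    letI := (i.appLE V U e).hom.toAlgebra
    pullbackSectionsEquiv i G hU hV e (((Scheme.Modules.pullback i).map f).app U s) =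
      (LinearMap.baseChange Γ(Z, U) (appₗ f V)) (pullbackSectionsEquiv i F hU hV e s) := by
  letI := (i.appLE V U e).hom.toAlgebra
  have key : (pullbackSectionsEquiv i G hU hV e).toLinearMap ∘ₗ
      (appₗ ((Scheme.Modules.pullback i).map f) U) =
      (LinearMap.baseChange Γ(Z, U) (appₗ f V)) ∘ₗ
        (pullbackSectionsEquiv i F hU hV e).toLinearMap := by
    refine LinearMap.ext_on (ProjF.span_pullSect_eq_top i F hV hU e) ?_
    rintro _ ⟨m, rfl⟩
    change pullbackSectionsEquiv i G hU hV e (((Scheme.Modules.pullback i).map f).app U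
        (res ((Scheme.Modules.pullback i).obj F) e (pullSect i F V m))) =
      (LinearMap.baseChange Γ(Z, U) (appₗ f V))
        (pullbackSectionsEquiv i F hU hV e
          (res ((Scheme.Modules.pullback i).obj F) e (pullSect i F V m)))
    rw [app_res, pullSect_naturality,
      Groth.Agent.Helper19.PullUnit.pullbackSectionsEquiv_pullSect i G hU hV e,
      Groth.Agent.Helper19.PullUnit.pullbackSectionsEquiv_pullSect i F hU hV e,
      LinearMap.baseChange_tmul]
    rfl
  exact LinearMap.congr_fun key s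

include hV hU e in
theorem pullback_map_app_injective (r : Γ(G, V) →ₗ[Γ(X, V)] Γ(F, V))
    (hr : ∀ q, r (f.app V q) = q) :
    Function.Injective (((Scheme.Modules.pullback i).map f).app U) := by
  letI := (i.appLE V U e).hom.toAlgebra
  intro s s' h
  have h1 := congrArg (pullbackSectionsEquiv i G hU hV e) h
  rw [pullbackSectionsEquiv_map i f hV hU e s, pullbackSectionsEquiv_map i f hV hU e s'] at h1
  have h2 := congrArg (LinearMap.baseChange Γ(Z, U) r) h1
  have hid : ∀ w : Γ(Z, U) ⊗[Γ(X, V)] Γ(F, V),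
      (LinearMap.baseChange Γ(Z, U) r) ((LinearMap.baseChange Γ(Z, U) (appₗ f V)) w) = w := by
    intro w
    have hc : r ∘ₗ (appₗ f V) = LinearMap.id := LinearMap.ext hr
    rw [← LinearMap.comp_apply, ← LinearMap.baseChange_comp, hc, LinearMap.baseChange_id]
    rfl
  rw [hid, hid] at h2
  exact (pullbackSectionsEquiv i F hU hV e).injective h2

omit hV hU e in
/-- The pullback of a morphism of quasi-coherent modules that admits local retractions (on sections
over affine opens covering the image) is a monomorphism. -/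
theorem mono_pullback_map_of_local_retraction
    (h : ∀ z : Z, ∃ (V : X.Opens) (_ : IsAffineOpen V), i z ∈ V ∧
      ∃ r : Γ(G, V) →ₗ[Γ(X, V)] Γ(F, V), ∀ q, r (f.app V q) = q) :
    Mono ((Scheme.Modules.pullback i).map f) := by
  refine ModGlue.mono_of_local _
    (fun W => ∃ (V : X.Opens) (_ : IsAffineOpen V), W ≤ i ⁻¹ᵁ V ∧
      ∃ r : Γ(G, V) →ₗ[Γ(X, V)] Γ(F, V), ∀ q, r (f.app V q) = q) ?_ ?_ ?_
  · rintro W W' hle ⟨V, hV, hWV, r, hr⟩
    exact ⟨V, hV, hle.trans hWV, r, hr⟩
  · intro z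
    obtain ⟨V, hV, hz, r, hr⟩ := h z
    exact ⟨i ⁻¹ᵁ V, ⟨V, hV, le_rfl, r, hr⟩, hz⟩
  · rintro W ⟨V, hV, hWV, r, hr⟩ s hs
    refine section_ext_aff _ s 0 fun U hU hUW => ?_
    rw [map_zero]
    apply pullback_map_app_injective i f hV hU (hUW.trans hWV) r hr
    rw [app_res, hs, map_zero, map_zero]

end PullMono

/-! ### The local retraction on a chart -/

section Chart

variable {k : Type u} [Field k] {X : Scheme.{u}} (x : X ⟶ specPt k) {B A : Art k k} (p : B ⟶ A)
  (IA : (XA x A).IdealSheafData) [IsClosedImmersion (XAmap x p)] (I₀ : X.IdealSheafData) (t : B)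
  (H : ∀ (U : X.Opens), IsAffineOpen U → Hyp2 (IsLocalRing.maximalIdeal B) t
    p.toAlgHom.toRingHom (phi x B U) (phiA x p U) (psi x p U) (sigA x p IA U) (rho x B U)
    (pi0 I₀ U) (sigT x p IA U))
  {V : X.Opens} (hV : IsAffineOpen V) (IBr : Ideal Γ(XA x B, WW x B V))
  (L : LiftData t (phi x B V) (psi x p V) (sigA x p IA V) (rho x B V) (pi0 I₀ V) IBr)

instance isQuasicoherent_PP : (PP x p IA).IsQuasicoherent := by
  unfold PP
  haveI := isQuasicoherent_pushforward_of_isAffineHom (iT x p IA) (ClSub.idealMod (KK x p IA))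
  exact isQuasicoherent_pushforward_of_isAffineHom (pullback.fst x (specOver B)) _

/-- The graph of the local retraction `J / 𝔪 J → O_X / I₀` over the chart `V`. -/
def ChartRel (z : Γ(PP x p IA, V)) (q : Γ(ClSub.quotMod I₀, V)) : Prop :=
  RRelA IBr t (phi x B V) (rho x B V) (pi0 I₀ V) (sigT x p IA V) (vT x p IA z) (ofQ I₀ q)

omit [IsClosedImmersion (XAmap x p)] in
theorem ChartRel.add {z z' : Γ(PP x p IA, V)} {q q' : Γ(ClSub.quotMod I₀, V)}
    (h : ChartRel x p IA I₀ t IBr z q) (h' : ChartRel x p IA I₀ t IBr z' q') :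
    ChartRel x p IA I₀ t IBr (z + z') (q + q') := by
  unfold ChartRel at *
  rw [vT_add]
  exact RRelA.add h h'

include H hV in
theorem ChartRel.smul (c : Γ(X, V)) {z : Γ(PP x p IA, V)} {q : Γ(ClSub.quotMod I₀, V)}
    (h : ChartRel x p IA I₀ t IBr z q) : ChartRel x p IA I₀ t IBr (c • z) (c • q) := by
  unfold ChartRel at *
  obtain ⟨c', rfl⟩ := rho_surjective x B V c
  rw [vT_smul x p IA I₀ t H hV c']
  exact RRelA.mul c' h

include H hV L in
theorem ChartRel.exists (z : Γ(PP x p IA, V)) : ∃ q, ChartRel x p IA I₀ t IBr z q := by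
  obtain ⟨q, hq⟩ := RRelA.exists (H V hV) L (vT_mem x p IA hV z)
  exact ⟨toQ I₀ q, hq⟩

include H hV L in
theorem ChartRel.unique {z : Γ(PP x p IA, V)} {q q' : Γ(ClSub.quotMod I₀, V)}
    (h : ChartRel x p IA I₀ t IBr z q) (h' : ChartRel x p IA I₀ t IBr z q') : q = q' :=
  RRelA.unique (H V hV) L h h'

/-- The local retraction over a chart. -/
noncomputable def rV : Γ(PP x p IA, V) →ₗ[Γ(X, V)] Γ(ClSub.quotMod I₀, V) where
  toFun z := Classical.choose (ChartRel.exists x p IA I₀ t H hV IBr L z)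
  map_add' z z' := by
    have h1 := Classical.choose_spec (ChartRel.exists x p IA I₀ t H hV IBr L (z + z'))
    have h2 := Classical.choose_spec (ChartRel.exists x p IA I₀ t H hV IBr L z)
    have h3 := Classical.choose_spec (ChartRel.exists x p IA I₀ t H hV IBr L z')
    exact ChartRel.unique x p IA I₀ t H hV IBr L h1 (ChartRel.add x p IA I₀ t IBr h2 h3)
  map_smul' c z := by
    have h1 := Classical.choose_spec (ChartRel.exists x p IA I₀ t H hV IBr L (c • z))
    have h2 := Classical.choose_spec (ChartRel.exists x p IA I₀ t H hV IBr L z)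
    exact ChartRel.unique x p IA I₀ t H hV IBr L h1 (ChartRel.smul x p IA I₀ t H hV IBr c h2)

theorem rV_spec (z : Γ(PP x p IA, V)) :
    ChartRel x p IA I₀ t IBr z (rV x p IA I₀ t H hV IBr L z) :=
  Classical.choose_spec (ChartRel.exists x p IA I₀ t H hV IBr L z)

theorem rV_fHom (q : Γ(ClSub.quotMod I₀, V)) :
    rV x p IA I₀ t H hV IBr L ((fHom x p IA I₀ t H).app V q) = q := by
  have h1 := rV_spec x p IA I₀ t H hV IBr L ((fHom x p IA I₀ t H).app V q)
  have h2 : ChartRel x p IA I₀ t IBr ((fHom x p IA I₀ t H).app V q) q := by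
    have h3 := fHom_spec x p IA I₀ t H hV q
    unfold FRel at h3
    unfold ChartRel
    exact RRelA.of_FRelA h3
  exact ChartRel.unique x p IA I₀ t H hV IBr L h1 h2

end Chart

/-! ### The global splitting -/

section Global

theorem exists_extension_of_subsingleton_ext {C : Type*} [Category C] [Abelian C]
    [HasExt.{u} C] {S : ShortComplex C} (hS : S.ShortExact) (O : C)
    (h : Subsingleton (Abelian.Ext.{u} S.X₃ O 1)) (φ : S.X₁ ⟶ O) :
    ∃ r : S.X₂ ⟶ O, S.f ≫ r = φ := by
  have h0 : hS.extClass.comp (Abelian.Ext.mk₀ φ) (by norm_num : 1 + 0 = 1) = 0 :=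
    Subsingleton.elim _ _
  obtain ⟨x₂, hx₂⟩ := Abelian.Ext.contravariant_sequence_exact₁ hS O
    (Abelian.Ext.mk₀ φ) (by norm_num) h0
  obtain ⟨r, rfl⟩ := (Abelian.Ext.mk₀_bijective _ _).2 x₂
  refine ⟨r, ?_⟩
  rw [Abelian.Ext.mk₀_comp_mk₀] at hx₂
  exact (Abelian.Ext.mk₀_bijective _ _).1 hx₂

variable {k : Type u} [Field k] {X : Scheme.{u}} (x : X ⟶ specPt k) {B A : Art k k} (p : B ⟶ A)
  (IA : (XA x A).IdealSheafData)

/-- Lifting a flat closed subscheme along a small extension when the closed fibre `Z' ⊆ X` is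
regularly embedded and `Ext¹(I/I², O_{Z'}) = 0`. -/
theorem exists_lift_small_lci {Z' : Scheme.{u}} (i : Z' ⟶ X) [IsClosedImmersion i]
    [HasExt.{u} Z'.Modules]
    (hsub : Subsingleton (Abelian.Ext.{u} (Omega.conormal i) (Coh.structureModule Z') 1))
    (hchart : ∀ z : Z', ∃ (V : X.Opens) (hV : IsAffineOpen V), i z ∈ V ∧
      ∃ rs : List Γ(X, V), RingTheory.Sequence.IsWeaklyRegular Γ(X, V) rs ∧
        i.ker.ideal ⟨V, hV⟩ = Ideal.ofList rs)
    (hp : IsSmallExt p) (hIA : FlatOver X x A IA) (h0 : IA.comap (XAincl x A) = i.ker) :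
    ∃ IB' : (XA x B).IdealSheafData, FlatOver X x B IB' ∧ IB'.comap (XAmap x p) = IA := by
  haveI := isClosedImmersion_XAmap x p hp.1
  obtain ⟨t, ht⟩ := hp.2.2.1.principal
  have H := hyp2 x p IA i.ker hp t ht hIA h0
  obtain ⟨θ⟩ := nonempty_push_iso i
  obtain ⟨n, hn⟩ := Groth.Agent.Lib.Helper1.ArtFunLib.exists_maximalIdeal_pow_eq_bot B
  have hloc : ∀ z : Z', ∃ (V : X.Opens) (_ : IsAffineOpen V), i z ∈ V ∧
      ∃ r : Γ(PP x p IA, V) →ₗ[Γ(X, V)] Γ(ClSub.quotMod i.ker, V),
        ∀ q, r ((fHom x p IA i.ker t H).app V q) = q := by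
    intro z
    obtain ⟨V, hV, hz, rs, hreg, hrs⟩ := hchart z
    obtain ⟨IBr, L⟩ := exists_liftData (H V hV) n hn rs hreg
      (by rw [ker_pi0 i.ker V hV]; exact hrs)
    exact ⟨V, hV, hz, rV x p IA i.ker t H hV IBr L, rV_fHom x p IA i.ker t H hV IBr L⟩
  haveI hmono : Mono ((Scheme.Modules.pullback i).map (fHom x p IA i.ker t H)) :=
    mono_pullback_map_of_local_retraction i _ hloc
  have hS := shortExact x p IA i.ker t H
  let S' := (ShortComplex.mk (fHom x p IA i.ker t H) (gHom x p IA i.ker t H)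
    (fHom_gHom x p IA i.ker t H)).map (Scheme.Modules.pullback i)
  haveI : Epi (gHom x p IA i.ker t H) := hS.epi_g
  have hS' : S'.ShortExact :=
    { exact := hS.exact.map_of_epi_of_preservesCokernel (Scheme.Modules.pullback i)
        hS.epi_g inferInstance
      mono_f := hmono
      epi_g := inferInstanceAs (Epi ((Scheme.Modules.pullback i).map (gHom x p IA i.ker t H))) }
  let adj := Scheme.Modules.pullbackPushforwardAdjunction i
  have hsub' : Subsingleton (Abelian.Ext.{u} S'.X₃ (Coh.structureModule Z') 1) := hsub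
  obtain ⟨rt, hrt⟩ := exists_extension_of_subsingleton_ext hS' (Coh.structureModule Z') hsub'
    ((Scheme.Modules.pullback i).map θ.inv ≫ adj.counit.app (Coh.structureModule Z'))
  have hrt' : (Scheme.Modules.pullback i).map (fHom x p IA i.ker t H) ≫ rt =
      (Scheme.Modules.pullback i).map θ.inv ≫ adj.counit.app (Coh.structureModule Z') := hrt
  have n1 := adj.homEquiv_naturality_left (fHom x p IA i.ker t H) rt
  have n2 := adj.homEquiv_naturality_left θ.inv (adj.counit.app (Coh.structureModule Z'))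
  have n3 : adj.homEquiv _ _ (adj.counit.app (Coh.structureModule Z')) = 𝟙 _ := by
    rw [Adjunction.homEquiv_unit]
    exact adj.right_triangle_components _
  rw [hrt'] at n1
  have e1 : fHom x p IA i.ker t H ≫ adj.homEquiv _ _ rt = θ.inv :=
    n1.symm.trans (n2.trans ((congrArg (fun w => θ.inv ≫ w) n3).trans (Category.comp_id _)))
  have hr : fHom x p IA i.ker t H ≫ (adj.homEquiv _ _ rt ≫ θ.hom) = 𝟙 _ := by
    rw [← Category.assoc, e1, Iso.inv_hom_id]
  exact ⟨IB x p IA i.ker t (adj.homEquiv _ _ rt ≫ θ.hom) H,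
    flatOver_IB x p IA i.ker t (adj.homEquiv _ _ rt ≫ θ.hom) H hr,
    comap_IB x p IA i.ker t (adj.homEquiv _ _ rt ≫ θ.hom) H hr⟩

end Global

end Groth.Agent.Lib.Helper1.AH
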