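import Mathlib
import Groth.Prelude.Def_ArtFun5
import Groth.Prelude.Def_CAlgX
import Groth.Agent.Lib.Helper1.ArtFunFormal

/-!
# `h_R` smooth iff `Λ → R` formally smooth for the adic topology
-/
universe u v
open CategoryTheory

namespace Groth.Agent.Lib.Helper1.ArtFunLib

open ArtFun ArtFun.Art

variable {Λ : Type u} {k : Type u} [CommRing Λ] [Field k] [Algebra Λ k]

section Sub

variable [IsNoetherianRing Λ] [Module.Finite Λ k]

/-- a square-zero "thickening" of an object of `Art` inside any `Λ`-algebra can be cut down to an object of `Art` -/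
theorem exists_art_thickening (C : Art Λ k) (A : Type u) [CommRing A] [Algebra Λ A] (J : Ideal A) (hJ : J ^ 2 = ⊥)
    (ψb : C →ₐ[Λ] A ⧸ J) :
    ∃ (A₀ : Art Λ k) (μ : A₀ ⟶ C) (ι : A₀ →ₐ[Λ] A), Function.Surjective μ ∧
      ∀ x : A₀, Ideal.Quotient.mk J (ι x) = ψb (μ x) := by
  classical
  have hfinC : Module.Finite Λ C := by
    have := isFiniteLength_obj C
    rw [isFiniteLength_iff_isNoetherian_isArtinian] at this
    haveI := this.1
    infer_instance
  obtain ⟨s, hs⟩ := (Module.finite_def.1 hfinC)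
  let a : C → A := fun c => Function.surjInv Ideal.Quotient.mk_surjective (ψb c)
  have ha : ∀ c, Ideal.Quotient.mk J (a c) = ψb c := fun c => Function.surjInv_eq _ _
  let gens : Set (C × A) := (fun c => (c, a c)) '' (s : Set C)
  have hgensfin : gens.Finite := (Finset.finite_toSet s).image _
  let S₀ : Subalgebra Λ (C × A) := Algebra.adjoin Λ gens
  let E : Subalgebra Λ (C × A) := AlgHom.equalizer (ψb.comp (AlgHom.fst Λ C A))
    ((Ideal.Quotient.mkₐ Λ J).comp (AlgHom.snd Λ C A))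
  have hSE : S₀ ≤ E := by
    apply Algebra.adjoin_le
    rintro _ ⟨c, -, rfl⟩
    change ψb c = Ideal.Quotient.mk J (a c)
    exact (ha c).symm
  have hE : ∀ x : S₀, Ideal.Quotient.mk J (x.1.2) = ψb (x.1.1) := fun x => (hSE x.2).symm
  let π₁ : S₀ →ₐ[Λ] C := (AlgHom.fst Λ C A).comp S₀.val
  have hπ₁ : Function.Surjective π₁ := by
    have hrange : (⊤ : Submodule Λ C) ≤ LinearMap.range π₁.toLinearMap := by
      rw [← hs, Submodule.span_le]
      intro c hc
      exact ⟨⟨(c, a c), Algebra.subset_adjoin ⟨c, hc, rfl⟩⟩, rfl⟩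
    intro c
    obtain ⟨x, hx⟩ := hrange (Submodule.mem_top (x := c))
    exact ⟨x, hx⟩
  -- kernel square zero
  have hK : ∀ x y : S₀, π₁ x = 0 → π₁ y = 0 → x * y = 0 := by
    intro x y hx hy
    have hx2 : x.1.2 ∈ J := by
      rw [← Ideal.Quotient.eq_zero_iff_mem, hE x]
      have : x.1.1 = 0 := hx
      rw [this, map_zero]
    have hy2 : y.1.2 ∈ J := by
      rw [← Ideal.Quotient.eq_zero_iff_mem, hE y]
      have : y.1.1 = 0 := hy
      rw [this, map_zero]
    apply Subtype.ext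
    apply Prod.ext
    · change x.1.1 * y.1.1 = 0
      have : x.1.1 = 0 := hx
      rw [this, zero_mul]
    · change x.1.2 * y.1.2 = 0
      have : x.1.2 * y.1.2 ∈ J ^ 2 := by
        rw [pow_two]
        exact Ideal.mul_mem_mul hx2 hy2
      rw [hJ] at this
      exact this
  haveI : Algebra.FiniteType Λ S₀ := Algebra.FiniteType.adjoin_of_finite hgensfin
  haveI : IsNoetherianRing S₀ := Algebra.FiniteType.isNoetherianRing Λ S₀
  haveI hloc : IsLocalHom (π₁ : S₀ →+* C) := by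
    refine ⟨fun x hx => ?_⟩
    obtain ⟨c, hc⟩ := hx.exists_right_inv
    obtain ⟨y, rfl⟩ := hπ₁ c
    have h1 : π₁ (x * y - 1) = 0 := by
      rw [map_sub, map_mul, map_one, sub_eq_zero]
      exact hc
    have h2 : (x * y - 1) * (x * y - 1) = 0 := hK _ _ h1 h1
    refine IsUnit.of_mul_eq_one (y * (1 - (x * y - 1))) ?_
    have : x * (y * (1 - (x * y - 1))) = 1 - (x * y - 1) * (x * y - 1) := by ring
    rw [this, h2, sub_zero]
  haveI : IsLocalRing S₀ := RingHom.domain_isLocalRing (π₁ : S₀ →+* C)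
  have hmax : ∀ x ∈ IsLocalRing.maximalIdeal S₀, π₁ x ∈ IsLocalRing.maximalIdeal C := by
    intro x hx
    rw [IsLocalRing.mem_maximalIdeal] at hx ⊢
    intro hu
    exact hx (hloc.map_nonunit x hu)
  haveI : IsArtinianRing S₀ := by
    rw [isArtinianRing_iff_isNilpotent_maximalIdeal]
    obtain ⟨M, hM⟩ := exists_maximalIdeal_pow_eq_bot C
    refine ⟨M * 2, ?_⟩
    rw [Ideal.zero_eq_bot, eq_bot_iff, pow_mul]
    have hle : IsLocalRing.maximalIdeal S₀ ^ M ≤ RingHom.ker (π₁ : S₀ →+* C) := by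
      have h1 : (IsLocalRing.maximalIdeal S₀).map (π₁ : S₀ →+* C) ≤ IsLocalRing.maximalIdeal C :=
        Ideal.map_le_iff_le_comap.2 hmax
      have h2 : (IsLocalRing.maximalIdeal S₀ ^ M).map (π₁ : S₀ →+* C) ≤ ⊥ := by
        rw [Ideal.map_pow, ← hM]
        exact Ideal.pow_right_mono h1 M
      intro x hx
      rw [RingHom.mem_ker]
      exact h2 (Ideal.mem_map_of_mem _ hx)
    rw [pow_two, Ideal.mul_le]
    intro x hx y hy
    rw [Ideal.mem_bot]
    exact hK x y (hle hx) (hle hy)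
  let A₀ : Art Λ k :=
    { carrier := S₀
      res := C.res.comp π₁
      res_surjective := C.res_surjective.comp hπ₁ }
  refine ⟨A₀, ⟨π₁, rfl⟩, (AlgHom.snd Λ C A).comp S₀.val, hπ₁, ?_⟩
  intro x
  exact hE x

end Sub

section Main

variable [IsNoetherianRing Λ] [Module.Finite Λ k]

theorem isAdicFormallySmooth_of_isSmoothFunctor (R : CRing Λ k)
    (hsm : IsSmoothFunctor (hR R.carrier R.res)) :
    CAlgX.IsAdicFormallySmooth Λ R.carrier (IsLocalRing.maximalIdeal R.carrier) := by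
  intro A _ _ J hJ ψ ⟨N, hN⟩
  -- ψ factors through the truncation
  have hkill : ∀ x ∈ R.mpow N, ψ x = 0 := fun x hx => hN x (Ideal.pow_le_pow_right (Nat.le_succ N) hx)
  let ψb : (R.trunc N) →ₐ[Λ] A ⧸ J := Ideal.Quotient.liftₐ (R.mpow N) ψ hkill
  obtain ⟨A₀, μ, ι, hμ, hι⟩ := exists_art_thickening (R.trunc N) A J hJ ψb
  obtain ⟨ψ', hψ'⟩ := hsm μ hμ (R.truncHom N)
  have hψ'' : HomSet.map μ ψ' = R.truncHom N := hψ'
  refine ⟨ι.comp ψ'.1, ?_⟩
  apply AlgHom.ext
  intro r
  change Ideal.Quotient.mk J (ι (ψ'.1 r)) = ψ r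
  rw [hι]
  have := congrArg (fun w : HomSet R.carrier R.res (R.trunc N) => w.1 r) hψ''
  change μ (ψ'.1 r) = Ideal.Quotient.mk _ r at this
  rw [this]
  rfl

theorem isSmoothFunctor_of_isAdicFormallySmooth (R : CRing Λ k)
    (h : CAlgX.IsAdicFormallySmooth Λ R.carrier (IsLocalRing.maximalIdeal R.carrier)) :
    IsSmoothFunctor (hR R.carrier R.res) := by
  intro B A μ hμ
  refine surjective_induction (fun A B μ => Function.Surjective ((hR R.carrier R.res).map μ)) ?_ ?_ ?_ μ hμ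
  · intro A B e he φ
    refine ⟨HomSet.map (inv e) φ, ?_⟩
    change HomSet.map e (HomSet.map (inv e) φ) = φ
    rw [← homSet_map_comp, IsIso.inv_hom_id, homSet_map_id]
  · intro A B p hp φ
    -- square zero kernel
    set J := RingHom.ker p.toAlgHom with hJdef
    have hJ : J ^ 2 = ⊥ := by
      rw [eq_bot_iff, pow_two]
      calc J * J ≤ IsLocalRing.maximalIdeal B * J := Ideal.mul_mono_left (ker_le_maximalIdeal p)
        _ = ⊥ := hp.2.2.2
    let e : (B ⧸ J) ≃ₐ[Λ] A := Ideal.quotientKerAlgEquivOfSurjective (f := p.toAlgHom) hp.1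
    have he : ∀ b : B, e (Ideal.Quotient.mk J b) = p b := fun b => rfl
    let ψ : R.carrier →ₐ[Λ] B ⧸ J := (e.symm : A →ₐ[Λ] B ⧸ J).comp φ.1
    obtain ⟨n, ū, hū⟩ := exists_factor_trunc R φ
    have hkill : ∃ N : ℕ, ∀ x ∈ IsLocalRing.maximalIdeal R.carrier ^ N, ψ x = 0 := by
      refine ⟨n + 1, fun x hx => ?_⟩
      have h1 : φ.1 x = 0 := by
        have := congrArg (fun w : HomSet R.carrier R.res A => w.1 x) hū
        change ū (Ideal.Quotient.mk _ x) = φ.1 x at this
        rw [← this, Ideal.Quotient.eq_zero_iff_mem.2 hx]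
        exact map_zero ū.toAlgHom
      change e.symm (φ.1 x) = 0
      rw [h1, map_zero]
    obtain ⟨χ, hχ⟩ := h B J hJ ψ hkill
    have hχ' : ∀ r, p (χ r) = φ.1 r := by
      intro r
      have := congrArg (fun w : R.carrier →ₐ[Λ] B ⧸ J => e (w r)) hχ
      change e (Ideal.Quotient.mk J (χ r)) = e (e.symm (φ.1 r)) at this
      rw [he, AlgEquiv.apply_symm_apply] at this
      exact this
    refine ⟨⟨χ, ?_⟩, ?_⟩
    · apply AlgHom.ext
      intro r
      change B.res (χ r) = R.res r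
      rw [← res_app p, hχ', res_homSet]
    · apply homSet_ext
      intro r
      exact hχ' r
  · intro A B C p q hp hq φ
    obtain ⟨ψ₁, h1⟩ := hq φ
    obtain ⟨ψ₂, h2⟩ := hp ψ₁
    refine ⟨ψ₂, ?_⟩
    change HomSet.map (p ≫ q) ψ₂ = φ
    rw [homSet_map_comp]
    have h2' : HomSet.map p ψ₂ = ψ₁ := h2
    have h1' : HomSet.map q ψ₁ = φ := h1
    rw [h2', h1']

theorem isSmoothFunctor_hR_iff_isAdicFormallySmooth (R : CRing Λ k) :
    IsSmoothFunctor (hR R.carrier R.res) ↔
      CAlgX.IsAdicFormallySmooth Λ R.carrier (IsLocalRing.maximalIdeal R.carrier) :=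
  ⟨isAdicFormallySmooth_of_isSmoothFunctor R, isSmoothFunctor_of_isAdicFormallySmooth R⟩

/-- a functor with a versal family over `R` is smooth iff `h_R` is -/
theorem isSmoothFunctor_iff_of_isVersal {F : Art Λ k ⥤ Type v} (h0 : H0 F) (R : CRing Λ k)
    (ξ : Family R.carrier R.res F) (hξ : IsVersal ξ) :
    IsSmoothFunctor F ↔ IsSmoothFunctor (hR R.carrier R.res) := by
  constructor
  · intro hF B A μ hμ φ
    obtain ⟨y, hy⟩ := hF μ hμ (ξ.app A φ)
    obtain ⟨ψ, hψ, -⟩ := hξ μ hμ φ y hy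
    exact ⟨ψ, hψ⟩
  · intro hR' B A μ hμ x
    obtain ⟨φ, rfl⟩ := surjective_app_of_isVersal ξ hξ h0 A x
    obtain ⟨ψ, hψ⟩ := hR' μ hμ φ
    have hψ' : HomSet.map μ ψ = φ := hψ
    exact ⟨ξ.app B ψ, by rw [← ξ.natural, hψ']⟩

end Main

end Groth.Agent.Lib.Helper1.ArtFunLib
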