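import Mathlib
import Groth.Prelude.Def_ArtFun5
import Groth.Prelude.Def_CAlgX
import Groth.Agent.Lib.Helper21.AdicNoetherian
import Groth.Agent.Lib.Helper1.ArtFunAdicSmooth
import Groth.Agent.Lib.Helper1.ArtFunFibre

/-!
# Completions of Noetherian `Λ`-algebras at a `k`-point as objects of `CRing`
-/
universe u v
open CategoryTheory

namespace Groth.Agent.Lib.Helper1.ArtFunLib

open ArtFun ArtFun.Art

section Compl

variable {Λ : Type u} [CommRing Λ] {P : Type u} [CommRing P] [Algebra Λ P] (M : Ideal P)

instance isScalarTower_adicCompletion : IsScalarTower Λ P (AdicCompletion M P) :=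
  IsScalarTower.of_algebraMap_eq (fun _ => rfl)

lemma evalₐ_eq_zero_iff (n : ℕ) (x : AdicCompletion M P) :
    AdicCompletion.evalₐ M n x = 0 ↔ AdicCompletion.eval M P n x = 0 := by
  have h : (M ^ n • ⊤ : Ideal P) = M ^ n := by ext x; simp
  change (Ideal.quotientEquivAlgOfEq P h) (AdicCompletion.eval M P n x) = 0 ↔ _
  exact map_eq_zero_iff _ (Ideal.quotientEquivAlgOfEq P h).injective

lemma mem_map_pow_iff_evalₐ (hM : M.FG) (n : ℕ) (x : AdicCompletion M P) :
    x ∈ (M.map (algebraMap P (AdicCompletion M P))) ^ n ↔ AdicCompletion.evalₐ M n x = 0 := by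
  rw [evalₐ_eq_zero_iff, ← Ideal.map_pow, ← Submodule.restrictScalars_mem P,
    ← Ideal.smul_top_eq_map, AdicCompletion.pow_smul_top_eq_ker_eval hM, LinearMap.mem_ker]

/-- every element of the completion is congruent to an element of `P` modulo any power. -/
lemma exists_sub_mem_map_pow (hM : M.FG) (n : ℕ) (x : AdicCompletion M P) :
    ∃ y : P, x - algebraMap P (AdicCompletion M P) y ∈
      (M.map (algebraMap P (AdicCompletion M P))) ^ n := by
  obtain ⟨y, hy⟩ := Ideal.Quotient.mk_surjective (AdicCompletion.evalₐ M n x)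
  refine ⟨y, ?_⟩
  rw [mem_map_pow_iff_evalₐ M hM, map_sub, AdicCompletion.algebraMap_apply,
    AdicCompletion.evalₐ_of, Algebra.algebraMap_self, RingHom.id_apply, hy, sub_self]

theorem isAdicFormallySmooth_adicCompletion [Algebra.FormallySmooth Λ P] (hM : M.FG) :
    CAlgX.IsAdicFormallySmooth Λ (AdicCompletion M P)
      (M.map (algebraMap P (AdicCompletion M P))) := by
  intro A _ _ J hJ ψ ⟨N, hN⟩
  let ι : P →ₐ[Λ] AdicCompletion M P := IsScalarTower.toAlgHom Λ P (AdicCompletion M P)
  have hι : ∀ y, ι y = algebraMap P (AdicCompletion M P) y := fun _ => rfl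
  let ψ₀ : P →ₐ[Λ] A ⧸ J := ψ.comp ι
  have hnil : IsNilpotent J := ⟨2, by rw [hJ]; rfl⟩
  let φ : P →ₐ[Λ] A := Algebra.FormallySmooth.lift J hnil ψ₀
  have hφ : ∀ y, Ideal.Quotient.mk J (φ y) = ψ (ι y) := fun y =>
    Algebra.FormallySmooth.mk_lift J hnil ψ₀ y
  have hφJ : ∀ y ∈ M ^ N, φ y ∈ J := by
    intro y hy
    rw [← Ideal.Quotient.eq_zero_iff_mem, hφ]
    apply hN
    rw [hι, ← Ideal.map_pow]
    exact Ideal.mem_map_of_mem _ hy
  have hφ0 : ∀ y ∈ M ^ (N + N), φ y = 0 := by
    intro y hy
    rw [pow_add] at hy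
    have : φ y ∈ J * J := by
      refine Submodule.mul_induction_on hy ?_ ?_
      · intro a ha b hb
        rw [map_mul]
        exact Ideal.mul_mem_mul (hφJ a ha) (hφJ b hb)
      · intro a b ha hb
        rw [map_add]
        exact Ideal.add_mem _ ha hb
    rw [← pow_two, hJ] at this
    exact this
  let χ : AdicCompletion M P →ₐ[Λ] A :=
    (Ideal.Quotient.liftₐ (M ^ (N + N)) φ hφ0).comp
      ((AdicCompletion.evalₐ M (N + N)).restrictScalars Λ)
  have hχι : ∀ y, χ (ι y) = φ y := by
    intro y
    change Ideal.Quotient.liftₐ (M ^ (N + N)) φ hφ0 (AdicCompletion.evalₐ M (N + N) (ι y)) = φ y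
    rw [hι, AdicCompletion.algebraMap_apply, AdicCompletion.evalₐ_of]
    rfl
  have hχ0 : ∀ x ∈ (M.map (algebraMap P (AdicCompletion M P))) ^ (N + N), χ x = 0 := by
    intro x hx
    rw [mem_map_pow_iff_evalₐ M hM] at hx
    change Ideal.Quotient.liftₐ (M ^ (N + N)) φ hφ0 (AdicCompletion.evalₐ M (N + N) x) = 0
    rw [hx, map_zero]
  refine ⟨χ, ?_⟩
  apply AlgHom.ext
  intro x
  obtain ⟨y, hy⟩ := exists_sub_mem_map_pow M hM (N + N) x
  have hx : x = (x - algebraMap P (AdicCompletion M P) y) + ι y := by rw [hι]; ring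
  change Ideal.Quotient.mk J (χ x) = ψ x
  rw [hx, map_add, map_add, map_add, hχ0 _ hy, map_zero, zero_add, hχι, hφ,
    hN _ (Ideal.pow_le_pow_right (Nat.le_add_right N N) hy), zero_add]

variable [M.IsMaximal]

lemma isLocalRing_adicCompletion (hM : M.FG) : IsLocalRing (AdicCompletion M P) := by
  haveI := AdicCompletion.isMaximal_map_of_le M M le_rfl hM
  haveI := AdicCompletion.isAdicComplete_self M hM
  exact isLocalRing_of_isAdicComplete_maximal (M.map (algebraMap P (AdicCompletion M P)))

lemma maximalIdeal_adicCompletion (hM : M.FG) :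
    @IsLocalRing.maximalIdeal _ _ (isLocalRing_adicCompletion M hM) =
      M.map (algebraMap P (AdicCompletion M P)) :=
  letI := isLocalRing_adicCompletion M hM
  (IsLocalRing.eq_maximalIdeal (AdicCompletion.isMaximal_map_of_le M M le_rfl hM)).symm

end Compl

section CR

variable {Λ : Type u} {k : Type u} [CommRing Λ] [Field k] [Algebra Λ k]
variable (P : Type u) [CommRing P] [Algebra Λ P] [IsNoetherianRing P]
variable (π : P →ₐ[Λ] k) (hπ : Function.Surjective π)

include hπ in
lemma ker_isMaximal : (RingHom.ker π).IsMaximal :=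
  RingHom.ker_isMaximal_of_surjective π hπ

/-- The completion of a Noetherian `Λ`-algebra `P` at the kernel of a surjection onto `k`. -/
noncomputable def complCRing : CRing Λ k :=
  haveI := ker_isMaximal P π hπ
  have hM : (RingHom.ker π).FG := (isNoetherianRing_iff_ideal_fg P).1 inferInstance _
  letI := isLocalRing_adicCompletion (RingHom.ker π) hM
  { carrier := AdicCompletion (RingHom.ker π) P
    isNoetherianRing :=
      Groth.Agent.Lib.Helper21.isNoetherianRing_adicCompletion_of_fg (RingHom.ker π) hM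
    res := (Ideal.Quotient.liftₐ (RingHom.ker π) π (fun a ha => ha)).comp
      ((AdicCompletion.evalOneₐ (RingHom.ker π)).restrictScalars Λ)
    res_surjective := by
      have h1 : Function.Surjective (Ideal.Quotient.liftₐ (RingHom.ker π) π (fun a ha => ha)) :=
        Ideal.Quotient.lift_surjective_of_surjective _ _ hπ
      have h2 := AdicCompletion.evalOneₐ_surjective (RingHom.ker π)
      exact h1.comp h2
    isAdicComplete := by
      rw [maximalIdeal_adicCompletion (RingHom.ker π) hM]
      exact AdicCompletion.isAdicComplete_self _ hM }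

theorem isSmoothFunctor_hR_complCRing [IsNoetherianRing Λ] [Module.Finite Λ k]
    [Algebra.FormallySmooth Λ P] :
    IsSmoothFunctor (hR (complCRing P π hπ).carrier (complCRing P π hπ).res) := by
  apply isSmoothFunctor_of_isAdicFormallySmooth
  have := ker_isMaximal P π hπ
  have hM : (RingHom.ker π).FG := (isNoetherianRing_iff_ideal_fg P).1 inferInstance _
  have h := isAdicFormallySmooth_adicCompletion (Λ := Λ) (RingHom.ker π) hM
  have e : IsLocalRing.maximalIdeal (complCRing P π hπ).carrier =
      (RingHom.ker π).map (algebraMap P (AdicCompletion (RingHom.ker π) P)) :=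
    maximalIdeal_adicCompletion (RingHom.ker π) hM
  rw [e]
  exact h

lemma complCRing_res_of (y : P) :
    (complCRing P π hπ).res (algebraMap P (AdicCompletion (RingHom.ker π) P) y) = π y := rfl

lemma maximalIdeal_complCRing :
    IsLocalRing.maximalIdeal (complCRing P π hπ).carrier =
      (RingHom.ker π).map (algebraMap P (AdicCompletion (RingHom.ker π) P)) := by
  haveI := ker_isMaximal P π hπ
  have hM : (RingHom.ker π).FG := (isNoetherianRing_iff_ideal_fg P).1 inferInstance _
  exact maximalIdeal_adicCompletion (RingHom.ker π) hM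

section Lift

variable {A : Art Λ k} (φ : P →ₐ[Λ] A) (hφ : A.res.comp φ = π)

include hφ in
lemma complLift_kills (N : ℕ) (hN : IsLocalRing.maximalIdeal A ^ N = ⊥) :
    ∀ y ∈ (RingHom.ker π) ^ N, φ y = 0 := by
  intro y hy
  have h1 : Ideal.map φ ((RingHom.ker π) ^ N) ≤ IsLocalRing.maximalIdeal A ^ N := by
    rw [Ideal.map_pow]
    apply Ideal.pow_right_mono
    rw [Ideal.map_le_iff_le_comap]
    intro a ha
    rw [Ideal.mem_comap, Art.mem_maximalIdeal_iff]
    have : A.res (φ a) = π a := congrArg (fun m : P →ₐ[Λ] k => m a) hφ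
    rw [this]
    exact ha
  have h2 := h1 (Ideal.mem_map_of_mem _ hy)
  rw [hN] at h2
  exact h2

/-- the underlying algebra map of `complLiftN` -/
noncomputable def complLiftAlg (N : ℕ) (hN : IsLocalRing.maximalIdeal A ^ N = ⊥) :
    AdicCompletion (RingHom.ker π) P →ₐ[Λ] A :=
  (Ideal.Quotient.liftₐ ((RingHom.ker π) ^ N) φ (complLift_kills P π φ hφ N hN)).comp
      ((AdicCompletion.evalₐ (RingHom.ker π) N).restrictScalars Λ)

lemma complLiftAlg_apply (N : ℕ) (hN : IsLocalRing.maximalIdeal A ^ N = ⊥)
    (x : AdicCompletion (RingHom.ker π) P) :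
    complLiftAlg P π φ hφ N hN x =
      Ideal.Quotient.liftₐ ((RingHom.ker π) ^ N) φ (complLift_kills P π φ hφ N hN)
        (AdicCompletion.evalₐ (RingHom.ker π) N x) := rfl

lemma complLiftAlg_of (N : ℕ) (hN : IsLocalRing.maximalIdeal A ^ N = ⊥) (y : P) :
    complLiftAlg P π φ hφ N hN (algebraMap P (AdicCompletion (RingHom.ker π) P) y) = φ y := by
  rw [complLiftAlg_apply, AdicCompletion.algebraMap_apply, AdicCompletion.evalₐ_of,
    Algebra.algebraMap_self, RingHom.id_apply]
  rfl

include hπ in
lemma complLiftAlg_res (N : ℕ) (hN : IsLocalRing.maximalIdeal A ^ N = ⊥)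
    (x : AdicCompletion (RingHom.ker π) P) :
    A.res (complLiftAlg P π φ hφ N hN x) = (complCRing P π hπ).res x := by
  have hM : (RingHom.ker π).FG := (isNoetherianRing_iff_ideal_fg P).1 inferInstance _
  obtain ⟨y, hy⟩ := exists_sub_mem_map_pow (RingHom.ker π) hM (N + 1) x
  set z : AdicCompletion (RingHom.ker π) P :=
    x - algebraMap P (AdicCompletion (RingHom.ker π) P) y with hz
  have hx : x = z + algebraMap P (AdicCompletion (RingHom.ker π) P) y := by rw [hz]; ring
  have hz1 : complLiftAlg P π φ hφ N hN z = 0 := by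
    rw [complLiftAlg_apply]
    have : AdicCompletion.evalₐ (RingHom.ker π) N z = 0 := by
      rw [← mem_map_pow_iff_evalₐ (RingHom.ker π) hM]
      exact Ideal.pow_le_pow_right (Nat.le_succ N) hy
    rw [this, map_zero]
  have hz2 : (complCRing P π hπ).res z = 0 := by
    have h1 : z ∈ IsLocalRing.maximalIdeal (complCRing P π hπ).carrier := by
      rw [maximalIdeal_complCRing]
      exact Ideal.pow_le_self (Nat.succ_ne_zero N) hy
    exact ((complCRing P π hπ).mem_maximalIdeal_iff z).1 h1
  have e1 : complLiftAlg P π φ hφ N hN x = complLiftAlg P π φ hφ N hN z +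
      complLiftAlg P π φ hφ N hN (algebraMap P (AdicCompletion (RingHom.ker π) P) y) := by
    rw [← map_add, ← hx]
  have e2 : (complCRing P π hπ).res x = (complCRing P π hπ).res z +
      (complCRing P π hπ).res (algebraMap P (AdicCompletion (RingHom.ker π) P) y) := by
    have := map_add (complCRing P π hπ).res z (algebraMap P (AdicCompletion (RingHom.ker π) P) y)
    exact (congrArg (complCRing P π hπ).res hx).trans this
  rw [e1, e2, hz1, hz2, zero_add, zero_add, complLiftAlg_of, complCRing_res_of]
  exact congrArg (fun m : P →ₐ[Λ] k => m y) hφ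

/-- the extension to the completion of an augmentation-compatible map from `P` to an object of `Art` -/
noncomputable def complLiftN (N : ℕ) (hN : IsLocalRing.maximalIdeal A ^ N = ⊥) :
    HomSet (complCRing P π hπ).carrier (complCRing P π hπ).res A :=
  ⟨complLiftAlg P π φ hφ N hN, AlgHom.ext (complLiftAlg_res P π hπ φ hφ N hN)⟩

lemma complLiftN_of (N : ℕ) (hN : IsLocalRing.maximalIdeal A ^ N = ⊥) (y : P) :
    (complLiftN P π hπ φ hφ N hN).1 (algebraMap P (AdicCompletion (RingHom.ker π) P) y) = φ y :=
  complLiftAlg_of P π φ hφ N hN y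

/-- the extension to the completion of an augmentation-compatible map from `P` to an object of `Art` -/
noncomputable def complLift : HomSet (complCRing P π hπ).carrier (complCRing P π hπ).res A :=
  complLiftN P π hπ φ hφ (exists_maximalIdeal_pow_eq_bot A).choose
    (exists_maximalIdeal_pow_eq_bot A).choose_spec

lemma complLift_of (y : P) :
    (complLift P π hπ φ hφ).1 (algebraMap P (AdicCompletion (RingHom.ker π) P) y) = φ y :=
  complLiftN_of P π hπ φ hφ _ _ y

lemma complLift_surjective (hs : Function.Surjective φ) :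
    Function.Surjective (complLift P π hπ φ hφ).1 := by
  intro a
  obtain ⟨y, rfl⟩ := hs a
  exact ⟨_, complLift_of P π hπ φ hφ y⟩

end Lift

end CR

section Exists

variable {Λ : Type u} {k : Type u} [CommRing Λ] [Field k] [Algebra Λ k]
variable [IsNoetherianRing Λ] [Module.Finite Λ k]

theorem exists_cring_isSmoothFunctor_hR :
    ∃ R : CRing Λ k, IsSmoothFunctor (hR R.carrier R.res) := by
  obtain ⟨n, f, hf⟩ := Algebra.FiniteType.iff_quotient_mvPolynomial''.1
    (inferInstance : Algebra.FiniteType Λ k)
  exact ⟨complCRing (MvPolynomial (Fin n) Λ) f hf, isSmoothFunctor_hR_complCRing _ f hf⟩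

/-- every object of `Art` is a quotient of a smooth coefficient ring -/
theorem exists_smooth_cover (A : Art Λ k) :
    ∃ (S : CRing Λ k) (σ : HomSet S.carrier S.res A),
      IsSmoothFunctor (hR S.carrier S.res) ∧ Function.Surjective σ.1 := by
  have : IsNoetherian Λ A := (isFiniteLength_iff_isNoetherian_isArtinian.1 (isFiniteLength_obj A)).1
  have : Module.Finite Λ A := inferInstance
  obtain ⟨n, f, hf⟩ := Algebra.FiniteType.iff_quotient_mvPolynomial''.1
    (inferInstance : Algebra.FiniteType Λ A)
  have hπ : Function.Surjective (A.res.comp f) := A.res_surjective.comp hf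
  exact ⟨complCRing (MvPolynomial (Fin n) Λ) (A.res.comp f) hπ,
    complLift _ (A.res.comp f) hπ f rfl, isSmoothFunctor_hR_complCRing _ _ hπ,
    complLift_surjective _ _ hπ f rfl hf⟩

end Exists

end Groth.Agent.Lib.Helper1.ArtFunLib
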