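import Mathlib
import Groth.Prelude.Def_ArtFun5
import Groth.Agent.Lib.Helper1.ArtFunComplRing

/-!
# Maps out of the completion of a Noetherian algebra at a `k`-point into Artinian objects
-/
universe u v
open CategoryTheory

namespace Groth.Agent.Lib.Helper1.ArtFunLib

open ArtFun ArtFun.Art

section CR

variable {Λ : Type u} {k : Type u} [CommRing Λ] [Field k] [Algebra Λ k]
variable (P : Type u) [CommRing P] [Algebra Λ P] [IsNoetherianRing P]
variable (π : P →ₐ[Λ] k) (hπ : Function.Surjective π)

/-- restriction of a map out of the completion to `P` -/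
noncomputable def complRestrict {A : Art Λ k}
    (χ : HomSet (complCRing P π hπ).carrier (complCRing P π hπ).res A) :
    {φ : P →ₐ[Λ] A // A.res.comp φ = π} :=
  ⟨χ.1.comp (IsScalarTower.toAlgHom Λ P (AdicCompletion (RingHom.ker π) P)), by
    apply AlgHom.ext
    intro y
    have h1 : A.res (χ.1 (algebraMap P (AdicCompletion (RingHom.ker π) P) y)) =
        (complCRing P π hπ).res (algebraMap P (AdicCompletion (RingHom.ker π) P) y) :=
      congrArg (fun m : (complCRing P π hπ).carrier →ₐ[Λ] k =>
        m (algebraMap P (AdicCompletion (RingHom.ker π) P) y)) χ.2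
    exact h1.trans (complCRing_res_of P π hπ y)⟩

lemma complRestrict_apply {A : Art Λ k}
    (χ : HomSet (complCRing P π hπ).carrier (complCRing P π hπ).res A) (y : P) :
    (complRestrict P π hπ χ).1 y = χ.1 (algebraMap P (AdicCompletion (RingHom.ker π) P) y) := rfl

/-- a map out of the completion into an Artinian object is determined by its restriction to `P` -/
lemma complHomSet_ext {A : Art Λ k}
    (χ₁ χ₂ : HomSet (complCRing P π hπ).carrier (complCRing P π hπ).res A)
    (h : ∀ y : P, χ₁.1 (algebraMap P (AdicCompletion (RingHom.ker π) P) y) =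
      χ₂.1 (algebraMap P (AdicCompletion (RingHom.ker π) P) y)) : χ₁ = χ₂ := by
  have hM : (RingHom.ker π).FG := (isNoetherianRing_iff_ideal_fg P).1 inferInstance _
  obtain ⟨N, hN⟩ := exists_maximalIdeal_pow_eq_bot A
  have hkill : ∀ (χ : HomSet (complCRing P π hπ).carrier (complCRing P π hπ).res A)
      (z : (complCRing P π hπ).carrier),
      z ∈ IsLocalRing.maximalIdeal (complCRing P π hπ).carrier ^ N → χ.1 z = 0 := by
    intro χ z hz
    have h1 : Ideal.map χ.1 (IsLocalRing.maximalIdeal (complCRing P π hπ).carrier ^ N) ≤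
        IsLocalRing.maximalIdeal A ^ N := by
      rw [Ideal.map_pow]
      apply Ideal.pow_right_mono
      rw [Ideal.map_le_iff_le_comap]
      intro a ha
      rw [Ideal.mem_comap, Art.mem_maximalIdeal_iff]
      have h2 : A.res (χ.1 a) = (complCRing P π hπ).res a :=
        congrArg (fun m : (complCRing P π hπ).carrier →ₐ[Λ] k => m a) χ.2
      rw [h2]
      exact ((complCRing P π hπ).mem_maximalIdeal_iff a).1 ha
    have h3 := h1 (Ideal.mem_map_of_mem _ hz)
    rw [hN] at h3
    exact h3
  apply Subtype.ext
  apply AlgHom.ext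
  intro x
  obtain ⟨y, hy⟩ := exists_sub_mem_map_pow (RingHom.ker π) hM N x
  rw [← maximalIdeal_complCRing P π hπ] at hy
  have e1 : χ₁.1 x - χ₁.1 (algebraMap P (AdicCompletion (RingHom.ker π) P) y) = 0 :=
    (map_sub χ₁.1 x _).symm.trans (hkill χ₁ _ hy)
  have e2 : χ₂.1 x - χ₂.1 (algebraMap P (AdicCompletion (RingHom.ker π) P) y) = 0 :=
    (map_sub χ₂.1 x _).symm.trans (hkill χ₂ _ hy)
  rw [sub_eq_zero] at e1 e2
  exact e1.trans ((h y).trans e2.symm)

/-- augmentation-compatible maps out of the completion of `P` at a `k`-point into an Artinian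
object are the augmentation-compatible maps out of `P` -/
noncomputable def complHomSetEquiv (A : Art Λ k) :
    HomSet (complCRing P π hπ).carrier (complCRing P π hπ).res A ≃
      {φ : P →ₐ[Λ] A // A.res.comp φ = π} where
  toFun := complRestrict P π hπ
  invFun φ := complLift P π hπ φ.1 φ.2
  left_inv χ := by
    apply complHomSet_ext
    intro y
    rw [complLift_of]
    rfl
  right_inv φ := by
    apply Subtype.ext
    apply AlgHom.ext
    intro y
    exact complLift_of P π hπ φ.1 φ.2 y

lemma complHomSetEquiv_apply (A : Art Λ k)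
    (χ : HomSet (complCRing P π hπ).carrier (complCRing P π hπ).res A) (y : P) :
    ((complHomSetEquiv P π hπ A) χ).1 y =
      χ.1 (algebraMap P (AdicCompletion (RingHom.ker π) P) y) := rfl

lemma complHomSetEquiv_map {A B : Art Λ k} (h : A ⟶ B)
    (χ : HomSet (complCRing P π hπ).carrier (complCRing P π hπ).res A) :
    ((complHomSetEquiv P π hπ B) (HomSet.map h χ)).1 =
      h.toAlgHom.comp ((complHomSetEquiv P π hπ A) χ).1 := rfl

end CR

end Groth.Agent.Lib.Helper1.ArtFunLib
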