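import Groth.Agent.Lib.Helper1.AH20
import Groth.Agent.Lib.Helper1.ArtFunInduct
import Groth.Agent.Lib.Helper1.ArtFunComplEquiv
import Groth.Agent.Lib.Helper1.ArtFunProrep
import Groth.Agent.Lib.Helper1.ArtFunObsDimMain
import Groth.Agent.Lib.Helper5.FinLocFreeExt
import Groth.Agent.Lib.Helper25.BlowUpFP
import Groth.Agent.S8919
import Groth.Agent.S19474

/-!
# Regularly embedded closed subschemes with `H¹(N) = 0`: the local Hilbert functor is smooth, and a
local ring pro-representing a smooth functor is regular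
-/

universe u v

open CategoryTheory CategoryTheory.Limits AlgebraicGeometry Opposite TopologicalSpace
open scoped TensorProduct
open ArtFun ArtFun.Art

namespace Groth.Agent.Lib.Helper1.AH

section Smooth

variable {k : Type u} [Field k]

/-- `Ext¹(I/I², O_{Z'}) = 0` for a regularly embedded closed fibre `Z'` makes the local Hilbert functor
smooth. -/
theorem isSmoothFunctor_localHilb_lci (X : Scheme.{u}) (x : X ⟶ specPt k) (I₀ : X.IdealSheafData)
    {Z' : Scheme.{u}} (i : Z' ⟶ X) [IsClosedImmersion i] (hI : i.ker = I₀) [HasExt.{u} Z'.Modules]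
    (hsub : Subsingleton (Abelian.Ext.{u} (Omega.conormal i) (Coh.structureModule Z') 1))
    (hchart : ∀ z : Z', ∃ (V : X.Opens) (hV : IsAffineOpen V), i z ∈ V ∧
      ∃ rs : List Γ(X, V), RingTheory.Sequence.IsWeaklyRegular Γ(X, V) rs ∧
        i.ker.ideal ⟨V, hV⟩ = Ideal.ofList rs) :
    IsSmoothFunctor (localHilb X x I₀) := by
  subst hI
  intro B A μ hμ
  refine Groth.Agent.Lib.Helper1.ArtFunLib.surjective_induction (Λ := k) (k := k)
    (fun A B f => Function.Surjective ((localHilb X x i.ker).map f)) ?_ ?_ ?_ μ hμ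
  · intro A B e he
    haveI := he
    intro z
    exact ⟨(localHilb X x i.ker).map (inv e) z,
      Groth.Agent.Lib.Helper1.ArtFunLib.map_map_inv (localHilb X x i.ker) e z⟩
  · intro A B q hq I
    obtain ⟨IB', hflat, hcomap⟩ := exists_lift_small_lci x q I.1 i hsub hchart hq I.2.1 I.2.2
    refine ⟨⟨IB', hflat, ?_⟩, Subtype.ext hcomap⟩
    rw [← XAincl_XAmap x q, Scheme.IdealSheafData.comap_comp, hcomap, I.2.2]
  · intro A B C q r hq hr z
    obtain ⟨y, hy⟩ := hr z
    obtain ⟨w, hw⟩ := hq y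
    refine ⟨w, ?_⟩
    rw [(localHilb X x i.ker).map_comp_apply, hw, hy]

end Smooth

section Conormal

variable {Z X : Scheme.{u}} (i : Z ⟶ X)

theorem weaklyRegular_charts (hreg : Mor2.IsRegularClosedImmersion i) :
    ∀ z : Z, ∃ (V : X.Opens) (hV : IsAffineOpen V), i z ∈ V ∧
      ∃ rs : List Γ(X, V), RingTheory.Sequence.IsWeaklyRegular Γ(X, V) rs ∧
        i.ker.ideal ⟨V, hV⟩ = Ideal.ofList rs := by
  intro z
  obtain ⟨V, hV, hz, rs, hrs, hker⟩ := hreg.2 z
  exact ⟨V, hV, hz, rs, hrs.toIsWeaklyRegular, hker⟩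

/-- The conormal sheaf of a regular closed immersion is finite locally free. -/
theorem isFinLocFree_conormal_of_regular (hreg : Mor2.IsRegularClosedImmersion i) :
    FlatMod.IsFinLocFree (Omega.conormal i) := by
  haveI : IsClosedImmersion i := hreg.1
  haveI := Groth.Agent.Helper19.Conormal.isQuasicoherent_conormal i
  have key : ∀ V : {V : X.Opens // ∃ hV : IsAffineOpen V, ∃ rs : List Γ(X, V),
      RingTheory.Sequence.IsRegular Γ(X, V) rs ∧ i.ker.ideal ⟨V, hV⟩ = Ideal.ofList rs},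
      Module.Finite Γ(Z, i ⁻¹ᵁ V.1) Γ(Omega.conormal i, i ⁻¹ᵁ V.1) ∧
        Module.Projective Γ(Z, i ⁻¹ᵁ V.1) Γ(Omega.conormal i, i ⁻¹ᵁ V.1) := by
    rintro ⟨V, hV, rs, hrs, hker⟩
    have hW : IsAffineOpen (i ⁻¹ᵁ V) := hV.preimage i
    have eW : i ⁻¹ᵁ V ≤ i ⁻¹ᵁ V := le_rfl
    have ci : Groth.Agent.Helper19.Conormal.IsClosedChart i hV eW := by
      constructor
      · rw [Scheme.Hom.appLE_eq_app]
        exact Scheme.Hom.app_surjective i V hV
      · rw [Scheme.Hom.appLE_eq_app]
        exact (Scheme.Hom.ker_apply i ⟨V, hV⟩).symm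
    have hspan : i.ker.ideal ⟨V, hV⟩ = Ideal.span (Set.range rs.get) := by
      rw [hker, Set.range_list_get]
    letI := (i.appLE V (i ⁻¹ᵁ V) eW).hom.toAlgebra
    have hfp := Groth.Agent.S8919.finite_projective_of_h1 (B := Γ(X, V)) (C := Γ(Z, i ⁻¹ᵁ V))
      (i.ker.ideal ⟨V, hV⟩) ci.2 ci.1 rs.get hspan
      (Groth.Agent.Lib.Helper25.BlowUpFP.isH1Regular_get_of_isRegular rs hrs)
    haveI := hfp.1
    haveI := hfp.2
    let Q := Groth.Agent.Helper19.Conormal.conormalSectionsEquiv i hV hW eW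
    exact ⟨Module.Finite.equiv Q.symm, Module.Projective.of_equiv Q.symm⟩
  refine Groth.Agent.Lib.Helper29.QCoh.isFinLocFree_of_finite_projective_sections (Omega.conormal i)
    (fun V : {V : X.Opens // ∃ hV : IsAffineOpen V, ∃ rs : List Γ(X, V),
      RingTheory.Sequence.IsRegular Γ(X, V) rs ∧ i.ker.ideal ⟨V, hV⟩ = Ideal.ofList rs} =>
      i ⁻¹ᵁ V.1) ?_ ?_ ?_ ?_
  · rw [IsOpenCover, eq_top_iff]
    intro z _
    obtain ⟨V, hV, hz, rs, hrs, hker⟩ := hreg.2 z
    exact Opens.mem_iSup.mpr ⟨⟨V, hV, rs, hrs, hker⟩, hz⟩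
  · rintro ⟨V, hV, -⟩
    exact hV.preimage i
  · intro V
    exact (key V).1
  · intro V
    exact (key V).2

/-- For a regular closed immersion, `H¹(Z, N) = 0` gives `Ext¹(I/I², O_Z) = 0`. -/
theorem subsingleton_ext_conormal (hreg : Mor2.IsRegularClosedImmersion i) [HasExt.{u} Z.Modules]
    [DCoh.HasSheafHom (Omega.conormal i)]
    (h1 : Subsingleton (Coh.HH Z ((DCoh.sheafHom (Omega.conormal i)).obj
      (Coh.structureModule Z)) 1)) :
    Subsingleton (Abelian.Ext.{u} (Omega.conormal i) (Coh.structureModule Z) 1) := by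
  obtain ⟨e⟩ := Groth.Agent.Lib.Helper5.FinLocFreeExt.main Z (Omega.conormal i)
    (Coh.structureModule Z) (isFinLocFree_conormal_of_regular i hreg) 1
  exact e.toEquiv.subsingleton

end Conormal

section Regular

variable {k : Type u} [Field k] (S : Type u) [CommRing S] [IsLocalRing S] [IsNoetherianRing S]
  [Algebra k S]

/-- A Noetherian local `k`-algebra with residue field `k` that pro-represents a smooth functor is
regular. -/
theorem isRegularLocalRing_of_family_bijective (π : S →ₐ[k] k) {F : Art k k ⥤ Type v}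
    (ξ : Family S π F) (hξ : ∀ A, Function.Bijective (ξ.app A)) (hF : IsSmoothFunctor F) :
    IsRegularLocalRing S := by
  have hπ : Function.Surjective π := fun c => ⟨algebraMap k S c, by rw [AlgHom.commutes]; rfl⟩
  let R := Groth.Agent.Lib.Helper1.ArtFunLib.complCRing S π hπ
  let g : S →ₐ[k] R.carrier := IsScalarTower.toAlgHom k S (AdicCompletion (RingHom.ker π) S)
  have hg : R.res.comp g = π := AlgHom.ext fun y => rfl
  let ξ' : Family R.carrier R.res F := ξ.along g hg
  have huniv : IsUniversal ξ' := by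
    intro A
    have e : ξ'.app A =
        ξ.app A ∘ (Groth.Agent.Lib.Helper1.ArtFunLib.complHomSetEquiv S π hπ A) := rfl
    rw [e]
    exact (hξ A).comp (Groth.Agent.Lib.Helper1.ArtFunLib.complHomSetEquiv S π hπ A).bijective
  let Hl : Hull F :=
    ⟨R, ξ', Groth.Agent.Lib.Helper1.ArtFunLib.isVersal_of_isUniversal ξ' huniv, huniv (dual k k)⟩
  let O : ObsTheory F PUnit.{u + 1} :=
    { obs := fun _ _ _ => 0
      obs_eq_zero_iff := fun p hp u => ⟨fun _ => hF p hp.1 u, fun _ => rfl⟩
      obs_quot := fun p hp K hK hKJ hq u => (map_zero _).symm }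
  have h := (Groth.Agent.Lib.Helper1.ArtFunLib.hull_dim_bounds PUnit.{u + 1} O Hl).2.2.1
    (Module.finrank_zero_of_subsingleton)
  have h' : IsRegularLocalRing (AdicCompletion (RingHom.ker π) S) := h
  have hne : RingHom.ker π ≠ ⊤ := RingHom.ker_ne_top _
  exact ((Groth.Agent.S19474.result S (RingHom.ker π) hne).2).2 h'

end Regular

end Groth.Agent.Lib.Helper1.AH
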