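import Groth.Agent.Lib.Helper1.AH2

/-!
# Uniqueness of embedded deformations along a small extension: the difference homomorphism
-/

universe u

open CategoryTheory CategoryTheory.Limits AlgebraicGeometry Opposite TopologicalSpace
open ArtFun ArtFun.Art
open Groth.Agent.Lib.Helper29.QCoh Groth.Agent.Lib.Helper3

namespace Groth.Agent.Lib.Helper1.AH

section Data

variable {k : Type u} [Field k] {X : Scheme.{u}} (x : X ⟶ specPt k) (B : Art k k) (t : B)
  (I₁ I₂ : (XA x B).IdealSheafData) (I₀ : X.IdealSheafData)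

/-- Sections of `O_X / I₀` as functions on the closed subscheme. -/
def ofQ {U : X.Opens} (q : Γ(ClSub.quotMod I₀, U)) : Γ(I₀.subscheme, I₀.subschemeι ⁻¹ᵁ U) := q

/-- Functions on the closed subscheme as sections of `O_X / I₀`. -/
def toQ {U : X.Opens} (q : Γ(I₀.subscheme, I₀.subschemeι ⁻¹ᵁ U)) : Γ(ClSub.quotMod I₀, U) := q

/-- The graph of the difference homomorphism on sections over `U`. -/
def MRel (U : X.Opens) (s : Γ(ClSub.idealMod I₀, U)) (q : Γ(ClSub.quotMod I₀, U)) : Prop :=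
  Rel t (phi x B U) (sig x B I₁ U) (sig x B I₂ U) (rho x B U) (pi0 I₀ U)
    (fromUnit ((ClSub.idealModι I₀).app U s)) (ofQ I₀ q)

variable {x B t I₁ I₂ I₀}

theorem MRel.add {U : X.Opens} {s s' : Γ(ClSub.idealMod I₀, U)} {q q' : Γ(ClSub.quotMod I₀, U)}
    (h : MRel x B t I₁ I₂ I₀ U s q) (h' : MRel x B t I₁ I₂ I₀ U s' q') :
    MRel x B t I₁ I₂ I₀ U (s + s') (q + q') := by
  unfold MRel at *
  rw [map_add]
  exact Rel.add h h'

theorem MRel.smul {U : X.Opens} {s : Γ(ClSub.idealMod I₀, U)} {q : Γ(ClSub.quotMod I₀, U)}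
    (r : Γ(X, U)) (h : MRel x B t I₁ I₂ I₀ U s q) :
    MRel x B t I₁ I₂ I₀ U (r • s) (r • q) := by
  unfold MRel at *
  obtain ⟨r', rfl⟩ := rho_surjective x B U r
  rw [Scheme.Modules.Hom.app_smul]
  exact Rel.mul r' h

theorem MRel.res {U V : X.Opens} (hVU : V ≤ U) {s : Γ(ClSub.idealMod I₀, U)}
    {q : Γ(ClSub.quotMod I₀, U)} (h : MRel x B t I₁ I₂ I₀ U s q) :
    MRel x B t I₁ I₂ I₀ V (res (ClSub.idealMod I₀) hVU s) (res (ClSub.quotMod I₀) hVU q) := by
  unfold MRel at *
  rw [app_res]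
  refine Rel.map ((XA x B).presheaf.map (homOfLE (WW_mono x B hVU)).op).hom
    (X.presheaf.map (homOfLE hVU).op).hom
    (I₀.subscheme.presheaf.map (homOfLE (I₀.subschemeι.preimage_mono hVU)).op).hom
    ?_ ?_ ?_ ?_ ?_ h
  · intro n hn
    have e := app_map_apply I₁.subschemeι (WW_mono x B hVU) n
    change (I₁.subschemeι.app (WW x B V)) _ = 0
    rw [e]
    change _ = 0 at hn
    have hn' : (I₁.subschemeι.app (WW x B U)) n = 0 := hn
    rw [hn', map_zero]
  · intro n hn
    have e := app_map_apply I₂.subschemeι (WW_mono x B hVU) n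
    change (I₂.subschemeι.app (WW x B V)) _ = 0
    rw [e]
    have hn' : (I₂.subschemeι.app (WW x B U)) n = 0 := hn
    rw [hn', map_zero]
  · intro n
    have e1 := Scheme.Hom.map_appLE (XAincl x B) (XAincl_preimage_WW x B V).ge
      (homOfLE (WW_mono x B hVU)).op
    have e2 := Scheme.Hom.appLE_map (XAincl x B) (XAincl_preimage_WW x B U).ge (homOfLE hVU).op
    have e3 := e1.trans e2.symm
    exact congrArg (fun k => k.hom n) e3
  · intro r
    exact app_map_apply I₀.subschemeι hVU r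
  · have e := Scheme.Hom.appLE_map (XApr x B) (U := ⊤) (V := WW x B U) (V' := WW x B V) le_top
      (homOfLE (WW_mono x B hVU)).op
    exact congrArg (fun k => k.hom ((Scheme.ΓSpecIso (CommRingCat.of B)).inv.hom t)) e

variable (H : ∀ (U : X.Opens), IsAffineOpen U → Hyp (IsLocalRing.maximalIdeal B) t (phi x B U)
  (sig x B I₁ U) (sig x B I₂ U) (rho x B U) (pi0 I₀ U))

include H

theorem MRel.exists (U : X.Opens) (hU : IsAffineOpen U) (s : Γ(ClSub.idealMod I₀, U)) :
    ∃ q, MRel x B t I₁ I₂ I₀ U s q := by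
  have hs : pi0 I₀ U (fromUnit ((ClSub.idealModι I₀).app U s)) = 0 := by
    have := idealModι_app_mem I₀ ⟨U, hU⟩ s
    rw [← ker_pi0 I₀ U hU] at this
    exact this
  obtain ⟨q, hq⟩ := Rel.exists (H U hU) _ hs
  exact ⟨toQ I₀ q, hq⟩

theorem MRel.unique (U : X.Opens) (hU : IsAffineOpen U) {s : Γ(ClSub.idealMod I₀, U)}
    {q q' : Γ(ClSub.quotMod I₀, U)} (h : MRel x B t I₁ I₂ I₀ U s q)
    (h' : MRel x B t I₁ I₂ I₀ U s q') : q = q' :=
  Rel.unique (H U hU) h h'

/-- The difference homomorphism on sections over an affine open. -/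
noncomputable def tmap (U : X.Opens) (hU : IsAffineOpen U) :
    Γ(ClSub.idealMod I₀, U) →+ Γ(ClSub.quotMod I₀, U) :=
  AddMonoidHom.mk' (fun s => Classical.choose (MRel.exists H U hU s)) (fun s s' =>
    MRel.unique H U hU (Classical.choose_spec (MRel.exists H U hU (s + s')))
      (MRel.add (Classical.choose_spec (MRel.exists H U hU s))
        (Classical.choose_spec (MRel.exists H U hU s'))))

theorem tmap_spec (U : X.Opens) (hU : IsAffineOpen U) (s : Γ(ClSub.idealMod I₀, U)) :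
    MRel x B t I₁ I₂ I₀ U s (tmap H U hU s) :=
  Classical.choose_spec (MRel.exists H U hU s)

/-- The difference homomorphism `I₀ ⟶ O_X / I₀`. -/
noncomputable def affData : AffHomData (ClSub.idealMod I₀) (ClSub.quotMod I₀) where
  t := tmap H
  res_t U hU f m :=
    MRel.unique H (X.basicOpen f) (hU.basicOpen f)
      (MRel.res (X.basicOpen_le f) (tmap_spec H U hU m))
      (tmap_spec H (X.basicOpen f) (hU.basicOpen f) _)
  t_smul U hU r m :=
    MRel.unique H U hU (tmap_spec H U hU (r • m)) (MRel.smul r (tmap_spec H U hU m))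

theorem ideal_le (hsub : Subsingleton (ClSub.idealMod I₀ ⟶ ClSub.quotMod I₀)) (U : X.Opens)
    (hU : IsAffineOpen U) :
    I₁.ideal ⟨WW x B U, isAffineOpen_WW x B hU⟩ ≤ I₂.ideal ⟨WW x B U, isAffineOpen_WW x B hU⟩ := by
  rw [← ker_sig x B I₁ U hU, ← ker_sig x B I₂ U hU]
  refine ker_le_of_rel_zero (H U hU) fun s q hrel => ?_
  have hs : s ∈ I₀.ideal ⟨U, hU⟩ := by
    obtain ⟨f₁, f₂, g, h1, h2, h3, h4, h5⟩ := hrel
    rw [← ker_pi0 I₀ U hU, (H U hU).kerπ₁, ← h3]
    exact Ideal.mem_map_of_mem _ h1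
  obtain ⟨m, hm⟩ := exists_idealModι_app_eq I₀ ⟨U, hU⟩ s hs
  have hM : MRel x B t I₁ I₂ I₀ U m (toQ I₀ q) := by
    unfold MRel
    rw [hm]
    exact hrel
  have h0 : (affData H).hom = 0 := Subsingleton.elim _ _
  have h1 : tmap H U hU m = toQ I₀ q := MRel.unique H U hU (tmap_spec H U hU m) hM
  have h2 : (affData H).hom.app U m = tmap H U hU m := AffHomData.hom_app _ U hU m
  rw [h0, h1] at h2
  exact h2.symm

end Data

end Groth.Agent.Lib.Helper1.AH
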