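import Groth.Agent.Lib.Helper1.AH5

/-!
# Unobstructedness of embedded deformations along a small extension: the extension `J / 𝔪 J`
-/

universe u

open CategoryTheory CategoryTheory.Limits AlgebraicGeometry Opposite TopologicalSpace
open ArtFun ArtFun.Art
open Groth.Agent.Lib.Helper29.QCoh Groth.Agent.Lib.Helper3

namespace Groth.Agent.Lib.Helper1.AH

section Defs

variable {k : Type u} [Field k] {X : Scheme.{u}} (x : X ⟶ specPt k) {B A : Art k k} (p : B ⟶ A)
  (IA : (XA x A).IdealSheafData)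

/-- The ideal sheaf of `Z_A` in `X_B`. -/
noncomputable def JJ : (XA x B).IdealSheafData := IA.map (XAmap x p)

/-- `𝔪 J`. -/
noncomputable def MM : (XA x B).IdealSheafData := (XAincl x B).ker * JJ x p IA

/-- The closed subscheme of `X_B` defined by `𝔪 J`. -/
noncomputable abbrev TT : Scheme.{u} := (MM x p IA).subscheme

/-- Its inclusion. -/
noncomputable abbrev iT : TT x p IA ⟶ XA x B := (MM x p IA).subschemeι

/-- The ideal `J / 𝔪 J` of `T`. -/
noncomputable def KK : (TT x p IA).IdealSheafData := (JJ x p IA).comap (iT x p IA)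

/-- `J / 𝔪 J` as an `O_X`-module. -/
noncomputable def PP : X.Modules :=
  (Scheme.Modules.pushforward (pullback.fst x (specOver B))).obj
    ((Scheme.Modules.pushforward (iT x p IA)).obj (ClSub.idealMod (KK x p IA)))

/-- The preimage of `U ⊆ X` in `X_A`, as the preimage of `W_U ⊆ X_B`. -/
noncomputable def WA (U : X.Opens) : (XA x A).Opens := (XAmap x p) ⁻¹ᵁ (WW x B U)

/-- `Γ(X_B, W_U) → Γ(X_A, W_U)`. -/
noncomputable def psi (U : X.Opens) : Γ(XA x B, WW x B U) →+* Γ(XA x A, WA x p U) :=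
  ((XAmap x p).app (WW x B U)).hom

/-- `A → Γ(X_A, W_U)`. -/
noncomputable def phiA (U : X.Opens) : A →+* Γ(XA x A, WA x p U) :=
  secMap (XApr x A) (WA x p U)

/-- `Γ(X_A, W_U) → Γ(Z_A, W_U ∩ Z_A)`. -/
noncomputable def sigA (U : X.Opens) :
    Γ(XA x A, WA x p U) →+* Γ(IA.subscheme, IA.subschemeι ⁻¹ᵁ (WA x p U)) :=
  (IA.subschemeι.app (WA x p U)).hom

/-- `Γ(X_B, W_U) → Γ(T, W_U ∩ T)`. -/
noncomputable abbrev sigT (U : X.Opens) :
    Γ(XA x B, WW x B U) →+* Γ(TT x p IA, (iT x p IA) ⁻¹ᵁ (WW x B U)) :=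
  sig x B (MM x p IA) U

theorem isClosedImmersion_XAmap (hp : Function.Surjective p) : IsClosedImmersion (XAmap x p) :=
  isClosedImmersion_of_isPullback (CommRingCat.ofHom p.toAlgHom.toRingHom)
    (show Function.Surjective (CommRingCat.ofHom p.toAlgHom.toRingHom).hom from hp)
    (isPullback_XAmap x p)

section CI

variable [IsClosedImmersion (XAmap x p)]

theorem isAffineOpen_WA {U : X.Opens} (hU : IsAffineOpen U) : IsAffineOpen (WA x p U) :=
  (isAffineOpen_WW x B hU).preimage (XAmap x p)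

theorem iSup_WA : ⨆ U : X.affineOpens, WA x p U.1 = ⊤ :=
  (XAmap x p).iSup_preimage_eq_top (iSup_WW x B)

theorem psi_surjective (U : X.Opens) (hU : IsAffineOpen U) : Function.Surjective (psi x p U) :=
  Scheme.Hom.app_surjective (XAmap x p) (WW x B U) (isAffineOpen_WW x B hU)

theorem JJ_ideal (U : X.Opens) (hU : IsAffineOpen U) :
    (JJ x p IA).ideal ⟨WW x B U, isAffineOpen_WW x B hU⟩ =
      RingHom.ker ((sigA x p IA U).comp (psi x p U)) := by
  have h1 := Scheme.IdealSheafData.ideal_map_of_isAffineHom IA (XAmap x p)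
    ⟨WW x B U, isAffineOpen_WW x B hU⟩
  have h2 := IA.ker_subschemeι_app ⟨WA x p U, isAffineOpen_WA x p hU⟩
  rw [← RingHom.comap_ker]
  exact h1.trans (congrArg (Ideal.comap (psi x p U)) h2.symm)

theorem ker_sigT (U : X.Opens) (hU : IsAffineOpen U) :
    RingHom.ker (sigT x p IA U) = (IsLocalRing.maximalIdeal B).map (phi x B U) *
      RingHom.ker ((sigA x p IA U).comp (psi x p U)) := by
  rw [ker_sig x B (MM x p IA) U hU, ← JJ_ideal x p IA U hU, ← ker_XAincl_ideal x B U hU]
  rfl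

theorem KK_ideal (U : X.Opens) (hU : IsAffineOpen U) :
    (KK x p IA).ideal ⟨(iT x p IA) ⁻¹ᵁ (WW x B U), (isAffineOpen_WW x B hU).preimage _⟩ =
      (RingHom.ker ((sigA x p IA U).comp (psi x p U))).map (sigT x p IA U) := by
  have h := ideal_comap (JJ x p IA) (iT x p IA)
    ⟨_, (isAffineOpen_WW x B hU).preimage (iT x p IA)⟩ ⟨WW x B U, isAffineOpen_WW x B hU⟩ le_rfl
  rw [JJ_ideal x p IA U hU, Scheme.Hom.appLE_eq_app] at h
  exact h

theorem psi_phi (U : X.Opens) (b : B) :
    psi x p U (phi x B U b) = phiA x p U (p.toAlgHom.toRingHom b) := by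
  have h1 := secMap_comp_left (XAmap x p) (XApr x B) (WW x B U) (WA x p U) le_rfl b
  have h2 : (XAmap x p).appLE (WW x B U) (WA x p U) le_rfl = (XAmap x p).app (WW x B U) :=
    Scheme.Hom.appLE_eq_app _
  have h3 : secMap (XAmap x p ≫ XApr x B) (WA x p U) b =
      secMap (XApr x A ≫ specMap p) (WA x p U) b := by rw [XAmap_snd]
  have h4 := secMap_comp_right (XApr x A) (CommRingCat.ofHom p.toAlgHom.toRingHom) (WA x p U) b
  rw [h2] at h1
  exact h1.trans (h3.trans h4)

theorem flat_phiA (U : X.Opens) (hU : IsAffineOpen U) : (phiA x p U).Flat := by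
  haveI := flat_XApr x A
  exact flat_secMap (XApr x A) (WA x p U) (isAffineOpen_WA x p hU)

theorem flat_sigA_phiA (hIA : FlatOver X x A IA) (U : X.Opens) (hU : IsAffineOpen U) :
    ((sigA x p IA U).comp (phiA x p U)).Flat := by
  haveI : Flat (IA.subschemeι ≫ XApr x A) := hIA
  have e : (sigA x p IA U).comp (phiA x p U) =
      secMap (IA.subschemeι ≫ XApr x A) (IA.subschemeι ⁻¹ᵁ (WA x p U)) := by
    ext a
    have h1 := secMap_comp_left IA.subschemeι (XApr x A) (WA x p U)
      (IA.subschemeι ⁻¹ᵁ (WA x p U)) le_rfl a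
    have h2 : IA.subschemeι.appLE (WA x p U) (IA.subschemeι ⁻¹ᵁ (WA x p U)) le_rfl =
        IA.subschemeι.app (WA x p U) := Scheme.Hom.appLE_eq_app _
    rw [h2] at h1
    exact h1
  rw [e]
  exact flat_secMap _ _ ((isAffineOpen_WA x p hU).preimage IA.subschemeι)

theorem ker_psi (hp : Function.Surjective p) (t : B)
    (ht : RingHom.ker p.toAlgHom = Ideal.span {t}) (U : X.Opens) (hU : IsAffineOpen U) :
    RingHom.ker (psi x p U) = Ideal.span {phi x B U t} := by
  have hq : Function.Surjective (CommRingCat.ofHom p.toAlgHom.toRingHom).hom := hp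
  have hk := ker_app_of_isPullback _ hq (isPullback_XAmap x p) (WW x B U)
    (isAffineOpen_WW x B hU)
  have hk2 : RingHom.ker (CommRingCat.ofHom p.toAlgHom.toRingHom).hom = Ideal.span {t} := ht
  rw [hk2, Ideal.map_span, Set.image_singleton] at hk
  exact hk

theorem le_preimage_WA (U : X.Opens) : U ≤ (XAincl x A) ⁻¹ᵁ (WA x p U) := by
  have : (XAincl x A) ⁻¹ᵁ (WA x p U) = U := by
    unfold WA
    rw [← Scheme.Hom.comp_preimage, XAincl_XAmap, XAincl_preimage_WW]
  exact this.ge

theorem rho_eq (U : X.Opens) (n : Γ(XA x B, WW x B U)) :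
    rho x B U n = ((XAincl x A).appLE (WA x p U) U (le_preimage_WA x p U)).hom (psi x p U n) := by
  have h1 := Scheme.Hom.appLE_comp_appLE (XAincl x A) (XAmap x p) (WW x B U) (WA x p U) U le_rfl
    (le_preimage_WA x p U)
  have h2 : (XAmap x p).appLE (WW x B U) (WA x p U) le_rfl = (XAmap x p).app (WW x B U) :=
    Scheme.Hom.appLE_eq_app _
  have h3 := appLE_congr_hom (XAincl_XAmap x p) (WW x B U) U
    ((le_preimage_WA x p U).trans ((Opens.map (XAincl x A).base).map (homOfLE le_rfl)).le)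
    (XAincl_preimage_WW x B U).ge
  rw [h2, h3] at h1
  exact (congrArg (fun k => k.hom n) h1).symm

theorem ker_pi0_eq (I₀ : X.IdealSheafData) (h0 : IA.comap (XAincl x A) = I₀) (U : X.Opens)
    (hU : IsAffineOpen U) :
    RingHom.ker (pi0 I₀ U) = (RingHom.ker ((sigA x p IA U).comp (psi x p U))).map (rho x B U) := by
  have c := ideal_comap IA (XAincl x A) ⟨U, hU⟩ ⟨WA x p U, isAffineOpen_WA x p hU⟩
    (le_preimage_WA x p U)
  rw [h0] at c
  have hρ' : rho x B U =
      (((XAincl x A).appLE (WA x p U) U (le_preimage_WA x p U)).hom).comp (psi x p U) :=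
    RingHom.ext (rho_eq x p U)
  rw [ker_pi0 I₀ U hU, c, hρ', ← Ideal.map_map, ← RingHom.comap_ker,
    Ideal.map_comap_of_surjective _ (psi_surjective x p U hU)]
  congr 1
  exact (IA.ker_subschemeι_app ⟨WA x p U, isAffineOpen_WA x p hU⟩).symm

/-- The standing hypotheses hold. -/
theorem hyp2 (I₀ : X.IdealSheafData) (hp : IsSmallExt p) (t : B)
    (ht : RingHom.ker p.toAlgHom = Ideal.span {t}) (hIA : FlatOver X x A IA)
    (h0 : IA.comap (XAincl x A) = I₀) (U : X.Opens) (hU : IsAffineOpen U) :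
    Hyp2 (IsLocalRing.maximalIdeal B) t p.toAlgHom.toRingHom (phi x B U) (phiA x p U) (psi x p U)
      (sigA x p IA U) (rho x B U) (pi0 I₀ U) (sigT x p IA U) := by
  have htne : t ≠ 0 := by
    intro h0
    apply hp.2.1
    rw [ht, h0]
    exact Ideal.span_singleton_eq_bot.2 rfl
  have htk : t ∈ RingHom.ker p.toAlgHom := by
    rw [ht]; exact Ideal.subset_span rfl
  refine ⟨hp.1, ht, ?_, ?_, ?_, flat_phi x B U hU, flat_phiA x p U hU,
    flat_sigA_phiA x p IA hIA U hU, psi_surjective x p U hU, ker_psi x p hp.1 t ht U hU,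
    psi_phi x p U, IA.subschemeι_app_surjective ⟨WA x p U, isAffineOpen_WA x p hU⟩,
    rho_surjective x B U, ker_rho x B U hU, I₀.subschemeι_app_surjective ⟨U, hU⟩,
    ker_pi0_eq x p IA I₀ h0 U hU, sig_surjective x B (MM x p IA) U hU, ker_sigT x p IA U hU⟩
  · -- t ∈ 𝔪
    rw [IsLocalRing.mem_maximalIdeal, mem_nonunits_iff]
    intro hu
    have h1 : IsUnit (p.toAlgHom t) := hu.map p.toAlgHom
    have h2 : p.toAlgHom t = 0 := htk
    rw [h2] at h1
    exact not_isUnit_zero h1
  · -- mt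
    intro b hb
    have h := hp.2.2.2
    have : b * t ∈ IsLocalRing.maximalIdeal B * RingHom.ker p.toAlgHom := Ideal.mul_mem_mul hb htk
    rw [h] at this
    exact this
  · -- ann
    intro b hb
    by_contra hbm
    have hu : IsUnit b := by
      by_contra hnu
      exact hbm ((IsLocalRing.mem_maximalIdeal b).2 hnu)
    obtain ⟨u, rfl⟩ := hu
    apply htne
    have : t * (u : B) * ((u⁻¹ : Bˣ) : B) = 0 := by rw [hb, zero_mul]
    rwa [mul_assoc, Units.mul_inv, mul_one] at this

end CI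

end Defs

end Groth.Agent.Lib.Helper1.AH
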