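import Groth.Agent.Lib.Helper1.AH6

/-!
# Unobstructedness of embedded deformations along a small extension: the short exact sequence
`0 → O_X / I₀ → J / 𝔪 J → I₀ → 0`
-/

universe u

open CategoryTheory CategoryTheory.Limits AlgebraicGeometry Opposite TopologicalSpace
open ArtFun ArtFun.Art
open Groth.Agent.Lib.Helper29.QCoh Groth.Agent.Lib.Helper3

namespace Groth.Agent.Lib.Helper1.AH

section VT

variable {k : Type u} [Field k] {X : Scheme.{u}} (x : X ⟶ specPt k) {B A : Art k k} (p : B ⟶ A)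
  (IA : (XA x A).IdealSheafData)

/-- Sections of `PP` as sections of the ideal sheaf module on `T`. -/
def toK {U : X.Opens} (z : Γ(PP x p IA, U)) :
    Γ(ClSub.idealMod (KK x p IA), (iT x p IA) ⁻¹ᵁ (WW x B U)) := z

/-- Sections of the ideal sheaf module on `T` as sections of `PP`. -/
def ofK {U : X.Opens} (z : Γ(ClSub.idealMod (KK x p IA), (iT x p IA) ⁻¹ᵁ (WW x B U))) :
    Γ(PP x p IA, U) := z

/-- The function on `T` of a section of `PP`. -/
noncomputable def vT {U : X.Opens} (z : Γ(PP x p IA, U)) :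
    Γ(TT x p IA, (iT x p IA) ⁻¹ᵁ (WW x B U)) :=
  fromUnit ((ClSub.idealModι (KK x p IA)).app ((iT x p IA) ⁻¹ᵁ (WW x B U)) (toK x p IA z))

theorem vT_add {U : X.Opens} (z z' : Γ(PP x p IA, U)) :
    vT x p IA (z + z') = vT x p IA z + vT x p IA z' := by
  unfold vT
  have h : toK x p IA (z + z') = toK x p IA z + toK x p IA z' := rfl
  rw [h, map_add]
  rfl

theorem vT_zero {U : X.Opens} : vT x p IA (0 : Γ(PP x p IA, U)) = 0 := by
  unfold vT
  have h : toK x p IA (0 : Γ(PP x p IA, U)) = 0 := rfl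
  rw [h, map_zero]
  rfl

theorem vT_injective {U : X.Opens} : Function.Injective (vT x p IA (U := U)) := fun _ _ h =>
  idealModι_app_injective (KK x p IA) _ h

theorem vT_smul_fst {U : X.Opens} (r : Γ(X, U)) (z : Γ(PP x p IA, U)) :
    vT x p IA (r • z) =
      sigT x p IA U (((pullback.fst x (specOver B)).app U).hom r) * vT x p IA z := by
  unfold vT
  have h1 : toK x p IA (r • z) =
      ((iT x p IA).app (WW x B U)).hom (((pullback.fst x (specOver B)).app U).hom r) •
        toK x p IA z := rfl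
  rw [h1, Scheme.Modules.Hom.app_smul]
  rfl

theorem vT_res {U V : X.Opens} (hVU : V ≤ U) (z : Γ(PP x p IA, U)) :
    vT x p IA (res (PP x p IA) hVU z) =
      ((TT x p IA).presheaf.map
        (homOfLE ((iT x p IA).preimage_mono (WW_mono x B hVU))).op).hom (vT x p IA z) := by
  unfold vT
  have h1 : toK x p IA (res (PP x p IA) hVU z) =
      res (ClSub.idealMod (KK x p IA)) ((iT x p IA).preimage_mono (WW_mono x B hVU))
        (toK x p IA z) := rfl
  rw [h1, app_res]
  rfl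

variable [IsClosedImmersion (XAmap x p)]

theorem vT_mem {U : X.Opens} (hU : IsAffineOpen U) (z : Γ(PP x p IA, U)) :
    vT x p IA z ∈ (RingHom.ker ((sigA x p IA U).comp (psi x p U))).map (sigT x p IA U) := by
  rw [← KK_ideal x p IA U hU]
  exact idealModι_app_mem (KK x p IA) ⟨_, (isAffineOpen_WW x B hU).preimage (iT x p IA)⟩
    (toK x p IA z)

theorem exists_vT_eq {U : X.Opens} (hU : IsAffineOpen U)
    (a : Γ(TT x p IA, (iT x p IA) ⁻¹ᵁ (WW x B U)))
    (ha : a ∈ (RingHom.ker ((sigA x p IA U).comp (psi x p U))).map (sigT x p IA U)) :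
    ∃ z : Γ(PP x p IA, U), vT x p IA z = a := by
  rw [← KK_ideal x p IA U hU] at ha
  obtain ⟨s, hs⟩ := exists_idealModι_app_eq (KK x p IA)
    ⟨_, (isAffineOpen_WW x B hU).preimage (iT x p IA)⟩ a ha
  exact ⟨ofK x p IA s, hs⟩

variable (I₀ : X.IdealSheafData) (t : B)

/-- The graph of `J / 𝔪 J → I₀`. -/
def GRel (U : X.Opens) (z : Γ(PP x p IA, U)) (m : Γ(ClSub.idealMod I₀, U)) : Prop :=
  GRelA (psi x p U) (sigA x p IA U) (rho x B U) (sigT x p IA U) (vT x p IA z)
    (fromUnit ((ClSub.idealModι I₀).app U m))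

/-- The graph of `O_X / I₀ → J / 𝔪 J`. -/
def FRel (U : X.Opens) (q : Γ(ClSub.quotMod I₀, U)) (z : Γ(PP x p IA, U)) : Prop :=
  FRelA t (phi x B U) (rho x B U) (pi0 I₀ U) (sigT x p IA U) (ofQ I₀ q) (vT x p IA z)

omit [IsClosedImmersion (XAmap x p)] in
theorem sigA_psi_res {U V : X.Opens} (hVU : V ≤ U) (n : Γ(XA x B, WW x B U))
    (hn : sigA x p IA U (psi x p U n) = 0) :
    sigA x p IA V (psi x p V (((XA x B).presheaf.map (homOfLE (WW_mono x B hVU)).op).hom n)) =
      0 := by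
  have e1 : psi x p V (((XA x B).presheaf.map (homOfLE (WW_mono x B hVU)).op).hom n) =
      ((XA x A).presheaf.map
        (homOfLE ((XAmap x p).preimage_mono (WW_mono x B hVU))).op).hom (psi x p U n) :=
    app_map_apply (XAmap x p) (WW_mono x B hVU) n
  have e2 : sigA x p IA V (((XA x A).presheaf.map
        (homOfLE ((XAmap x p).preimage_mono (WW_mono x B hVU))).op).hom (psi x p U n)) =
      (IA.subscheme.presheaf.map (homOfLE (IA.subschemeι.preimage_mono
        ((XAmap x p).preimage_mono (WW_mono x B hVU)))).op).hom (sigA x p IA U (psi x p U n)) :=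
    app_map_apply IA.subschemeι ((XAmap x p).preimage_mono (WW_mono x B hVU)) (psi x p U n)
  rw [e1, e2, hn]
  exact map_zero _

omit [IsClosedImmersion (XAmap x p)] in
theorem GRel.add {U : X.Opens} {z z' : Γ(PP x p IA, U)} {m m' : Γ(ClSub.idealMod I₀, U)}
    (h : GRel x p IA I₀ U z m) (h' : GRel x p IA I₀ U z' m') :
    GRel x p IA I₀ U (z + z') (m + m') := by
  unfold GRel at *
  rw [vT_add, map_add]
  exact GRelA.add h h'

omit [IsClosedImmersion (XAmap x p)] in
theorem GRel.res {U V : X.Opens} (hVU : V ≤ U) {z : Γ(PP x p IA, U)}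
    {m : Γ(ClSub.idealMod I₀, U)} (h : GRel x p IA I₀ U z m) :
    GRel x p IA I₀ V (res (PP x p IA) hVU z) (res (ClSub.idealMod I₀) hVU m) := by
  unfold GRel at *
  rw [vT_res, app_res]
  exact GRelA.map ((XA x B).presheaf.map (homOfLE (WW_mono x B hVU)).op).hom
    ((TT x p IA).presheaf.map (homOfLE ((iT x p IA).preimage_mono (WW_mono x B hVU))).op).hom
    (X.presheaf.map (homOfLE hVU).op).hom
    (fun n hn => sigA_psi_res x p IA hVU n hn)
    (fun n => app_map_apply (iT x p IA) (WW_mono x B hVU) n)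
    (fun n => rho_res x B hVU n) h

omit [IsClosedImmersion (XAmap x p)] in
theorem FRel.add {U : X.Opens} {q q' : Γ(ClSub.quotMod I₀, U)} {z z' : Γ(PP x p IA, U)}
    (h : FRel x p IA I₀ t U q z) (h' : FRel x p IA I₀ t U q' z') :
    FRel x p IA I₀ t U (q + q') (z + z') := by
  unfold FRel at *
  rw [vT_add]
  exact FRelA.add h h'

omit [IsClosedImmersion (XAmap x p)] in
theorem FRel.res {U V : X.Opens} (hVU : V ≤ U) {q : Γ(ClSub.quotMod I₀, U)}
    {z : Γ(PP x p IA, U)} (h : FRel x p IA I₀ t U q z) :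
    FRel x p IA I₀ t V (res (ClSub.quotMod I₀) hVU q) (res (PP x p IA) hVU z) := by
  unfold FRel at *
  rw [vT_res]
  exact FRelA.map ((XA x B).presheaf.map (homOfLE (WW_mono x B hVU)).op).hom
    ((TT x p IA).presheaf.map (homOfLE ((iT x p IA).preimage_mono (WW_mono x B hVU))).op).hom
    (X.presheaf.map (homOfLE hVU).op).hom
    (I₀.subscheme.presheaf.map (homOfLE (I₀.subschemeι.preimage_mono hVU)).op).hom
    (fun n => app_map_apply (iT x p IA) (WW_mono x B hVU) n)
    (fun n => rho_res x B hVU n)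
    (fun r => app_map_apply I₀.subschemeι hVU r)
    (phi_res x B hVU t) h

variable (H : ∀ (U : X.Opens), IsAffineOpen U → Hyp2 (IsLocalRing.maximalIdeal B) t
  p.toAlgHom.toRingHom (phi x B U) (phiA x p U) (psi x p U) (sigA x p IA U) (rho x B U)
  (pi0 I₀ U) (sigT x p IA U))

include H

theorem vT_smul {U : X.Opens} (hU : IsAffineOpen U) (c : Γ(XA x B, WW x B U))
    (z : Γ(PP x p IA, U)) :
    vT x p IA ((rho x B U c) • z) = sigT x p IA U c * vT x p IA z := by
  obtain ⟨j, hj, hjz⟩ := (Ideal.mem_map_iff_of_surjective (sigT x p IA U) (H U hU).surjσT).1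
    (vT_mem x p IA hU z)
  rw [vT_smul_fst, ← hjz]
  exact (H U hU).sigT_mul_eq (rho_fst_app x B U (rho x B U c))
    (show sigA x p IA U (psi x p U j) = 0 from hj)

theorem GRel.exists {U : X.Opens} (hU : IsAffineOpen U) (z : Γ(PP x p IA, U)) :
    ∃ m, GRel x p IA I₀ U z m := by
  obtain ⟨s, hs, hπ⟩ := GRelA.exists (H U hU) (vT_mem x p IA hU z)
  have hs' : s ∈ I₀.ideal ⟨U, hU⟩ := by
    rw [← ker_pi0 I₀ U hU]; exact hπ
  obtain ⟨m, hm⟩ := exists_idealModι_app_eq I₀ ⟨U, hU⟩ s hs'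
  refine ⟨m, ?_⟩
  unfold GRel
  rw [hm]
  exact hs

theorem GRel.unique {U : X.Opens} (hU : IsAffineOpen U) {z : Γ(PP x p IA, U)}
    {m m' : Γ(ClSub.idealMod I₀, U)} (h : GRel x p IA I₀ U z m) (h' : GRel x p IA I₀ U z m') :
    m = m' :=
  idealModι_app_injective I₀ U (GRelA.unique (H U hU) h h')

theorem GRel.smul {U : X.Opens} (hU : IsAffineOpen U) (r : Γ(X, U)) {z : Γ(PP x p IA, U)}
    {m : Γ(ClSub.idealMod I₀, U)} (h : GRel x p IA I₀ U z m) :
    GRel x p IA I₀ U (r • z) (r • m) := by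
  unfold GRel at *
  obtain ⟨c, rfl⟩ := rho_surjective x B U r
  rw [vT_smul x p IA I₀ t H hU c, Scheme.Modules.Hom.app_smul]
  exact GRelA.mul c h

theorem FRel.exists {U : X.Opens} (hU : IsAffineOpen U) (q : Γ(ClSub.quotMod I₀, U)) :
    ∃ z, FRel x p IA I₀ t U q z := by
  obtain ⟨zT, hz⟩ := FRelA.exists (H U hU) (ofQ I₀ q)
  obtain ⟨z, rfl⟩ := exists_vT_eq x p IA hU zT (FRelA.mem (H U hU) hz)
  exact ⟨z, hz⟩

theorem FRel.unique {U : X.Opens} (hU : IsAffineOpen U) {q : Γ(ClSub.quotMod I₀, U)}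
    {z z' : Γ(PP x p IA, U)} (h : FRel x p IA I₀ t U q z) (h' : FRel x p IA I₀ t U q z') :
    z = z' :=
  vT_injective x p IA (FRelA.unique (H U hU) h h')

theorem FRel.smul {U : X.Opens} (hU : IsAffineOpen U) (r : Γ(X, U)) {q : Γ(ClSub.quotMod I₀, U)}
    {z : Γ(PP x p IA, U)} (h : FRel x p IA I₀ t U q z) :
    FRel x p IA I₀ t U (r • q) (r • z) := by
  unfold FRel at *
  obtain ⟨c, rfl⟩ := rho_surjective x B U r
  rw [vT_smul x p IA I₀ t H hU c]
  exact FRelA.mul c h

/-- The data of `J / 𝔪 J → I₀`. -/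
noncomputable def gData : RelData (PP x p IA) (ClSub.idealMod I₀) where
  Rl := GRel x p IA I₀
  ex _ hU z := GRel.exists x p IA I₀ t H hU z
  uniq _ hU := GRel.unique x p IA I₀ t H hU
  add _ _ := GRel.add x p IA I₀
  smul _ hU r := GRel.smul x p IA I₀ t H hU r
  res _ _ hVU := GRel.res x p IA I₀ hVU

/-- The data of `O_X / I₀ → J / 𝔪 J`. -/
noncomputable def fData : RelData (ClSub.quotMod I₀) (PP x p IA) where
  Rl := FRel x p IA I₀ t
  ex _ hU q := FRel.exists x p IA I₀ t H hU q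
  uniq _ hU := FRel.unique x p IA I₀ t H hU
  add _ _ := FRel.add x p IA I₀ t
  smul _ hU r := FRel.smul x p IA I₀ t H hU r
  res _ _ hVU := FRel.res x p IA I₀ t hVU

/-- `J / 𝔪 J → I₀`. -/
noncomputable def gHom : PP x p IA ⟶ ClSub.idealMod I₀ := (gData x p IA I₀ t H).hom

/-- `O_X / I₀ → J / 𝔪 J`. -/
noncomputable def fHom : ClSub.quotMod I₀ ⟶ PP x p IA := (fData x p IA I₀ t H).hom

theorem fHom_spec {U : X.Opens} (hU : IsAffineOpen U) (q : Γ(ClSub.quotMod I₀, U)) :
    FRel x p IA I₀ t U q ((fHom x p IA I₀ t H).app U q) :=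
  (fData x p IA I₀ t H).hom_spec U hU q

theorem fHom_app_eq {U : X.Opens} (hU : IsAffineOpen U) {q : Γ(ClSub.quotMod I₀, U)}
    {z : Γ(PP x p IA, U)} (h : FRel x p IA I₀ t U q z) : (fHom x p IA I₀ t H).app U q = z :=
  (fData x p IA I₀ t H).hom_app_eq U hU h

theorem fHom_gHom : fHom x p IA I₀ t H ≫ gHom x p IA I₀ t H = 0 := by
  refine modulesHom_ext_aff fun U hU q => ?_
  change (gHom x p IA I₀ t H).app U ((fHom x p IA I₀ t H).app U q) = 0
  have h1 := fHom_spec x p IA I₀ t H hU q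
  have h2 : GRel x p IA I₀ U ((fHom x p IA I₀ t H).app U q) 0 := by
    unfold GRel
    rw [map_zero]
    exact FRelA.comp_zero (H U hU) h1
  exact (gData x p IA I₀ t H).hom_app_eq U hU h2

theorem mono_fHom : Mono (fHom x p IA I₀ t H) := by
  refine ModGlue.mono_of_local _ (fun _ => True) (fun _ _ _ _ => trivial)
    (fun w => ⟨⊤, trivial, trivial⟩) ?_
  intro W _ s hs
  refine section_ext_aff _ s 0 fun V hV hVW => ?_
  rw [map_zero]
  have h1 : (fHom x p IA I₀ t H).app V (res (ClSub.quotMod I₀) hVW s) = 0 := by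
    rw [app_res, hs, map_zero]
  have h2 := fHom_spec x p IA I₀ t H hV (res (ClSub.quotMod I₀) hVW s)
  rw [h1] at h2
  have h3 : FRelA t (phi x B V) (rho x B V) (pi0 I₀ V) (sigT x p IA V)
      (ofQ I₀ (res (ClSub.quotMod I₀) hVW s)) 0 := by
    have := h2
    unfold FRel at this
    rw [vT_zero] at this
    exact this
  exact FRelA.mono (H V hV) h3

theorem epi_gHom : Epi (gHom x p IA I₀ t H) := by
  refine ModGlue.epi_of_local _ (fun _ => True) (fun _ _ _ _ => trivial)
    (fun w => ⟨⊤, trivial, trivial⟩) ?_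
  intro W _ s y hy
  obtain ⟨_, ⟨V, hV : IsAffineOpen V, rfl⟩, hyV, hVW⟩ :=
    X.isBasis_affineOpens.exists_subset_of_mem_open hy W.isOpen
  refine ⟨V, hVW, hyV, ?_⟩
  have hπ : pi0 I₀ V
      (fromUnit ((ClSub.idealModι I₀).app V (res (ClSub.idealMod I₀) hVW s))) = 0 := by
    have := idealModι_app_mem I₀ ⟨V, hV⟩ (res (ClSub.idealMod I₀) hVW s)
    rw [← ker_pi0 I₀ V hV] at this
    exact this
  obtain ⟨zT, hzT, hrel⟩ := GRelA.surj (H V hV) hπ
  obtain ⟨z, rfl⟩ := exists_vT_eq x p IA hV zT hzT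
  exact ⟨z, (gData x p IA I₀ t H).hom_app_eq V hV hrel⟩

theorem exact_fg :
    (ShortComplex.mk (fHom x p IA I₀ t H) (gHom x p IA I₀ t H) (fHom_gHom x p IA I₀ t H)).Exact := by
  refine ModGlue.exact_of_local _ (fun _ => True) (fun _ _ _ _ => trivial)
    (fun w => ⟨⊤, trivial, trivial⟩) ?_
  intro W _ s hs y hy
  obtain ⟨_, ⟨V, hV : IsAffineOpen V, rfl⟩, hyV, hVW⟩ :=
    X.isBasis_affineOpens.exists_subset_of_mem_open hy W.isOpen
  refine ⟨V, hVW, hyV, ?_⟩
  have hs0 : (gHom x p IA I₀ t H).app W s = 0 := hs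
  have hs' : (gHom x p IA I₀ t H).app V (res (PP x p IA) hVW s) = 0 := by
    rw [app_res, hs0, map_zero]
  have h1 := (gData x p IA I₀ t H).hom_spec V hV (res (PP x p IA) hVW s)
  have h2 : GRelA (psi x p V) (sigA x p IA V) (rho x B V) (sigT x p IA V)
      (vT x p IA (res (PP x p IA) hVW s)) 0 := by
    have h1' : GRel x p IA I₀ V (res (PP x p IA) hVW s) 0 := by
      have e : (gData x p IA I₀ t H).hom.app V (res (PP x p IA) hVW s) = 0 := hs'
      rw [e] at h1
      exact h1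
    unfold GRel at h1'
    rw [map_zero] at h1'
    exact h1'
  obtain ⟨q, hq⟩ := GRelA.exact (H V hV) h2
  exact ⟨toQ I₀ q, fHom_app_eq x p IA I₀ t H hV hq⟩

theorem shortExact :
    (ShortComplex.mk (fHom x p IA I₀ t H) (gHom x p IA I₀ t H)
      (fHom_gHom x p IA I₀ t H)).ShortExact :=
  { exact := exact_fg x p IA I₀ t H
    mono_f := mono_fHom x p IA I₀ t H
    epi_g := epi_gHom x p IA I₀ t H }

end VT

end Groth.Agent.Lib.Helper1.AH
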