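import Groth.Agent.Lib.Helper1.NABase

/-!
# Projections of a limit with affine transition maps are eventually closed immersions (helper1)

If `X = lim Xᵢ` with affine transition maps, `X_{i₀}` quasi-compact and `X ⟶ X_{i₀}` locally of
finite type, then `X ⟶ Xᵢ` is a closed immersion for all large `i`.
-/

set_option autoImplicit false
set_option linter.unusedSectionVars false
set_option linter.style.haveILetI false
universe u

namespace Groth.Agent.Lib.Helper1.NA

open AlgebraicGeometry CategoryTheory CategoryTheory.Limits TopologicalSpace Opposite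

/-- A finite-type ring map has a finite set `T` such that any subring containing the range and `T`
is everything. -/
lemma exists_finset_of_finiteType {R A : Type u} [CommRing R] [CommRing A] (φ : R →+* A)
    (hφ : φ.FiniteType) :
    ∃ T : Finset A, ∀ S : Subring A, φ.range ≤ S → (T : Set A) ⊆ S → S = ⊤ := by
  letI := φ.toAlgebra
  have h : Algebra.FiniteType R A := hφ
  obtain ⟨T, hT⟩ := h.out
  refine ⟨T, fun S h1 h2 => ?_⟩
  have h3 : (Algebra.adjoin R (T : Set A)).toSubring = ⊤ := by rw [hT]; rfl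
  rw [Algebra.adjoin_eq_ring_closure] at h3
  rw [eq_top_iff, ← h3, Subring.closure_le]
  rintro x (hx | hx)
  · obtain ⟨r, rfl⟩ := hx
    exact h1 ⟨r, rfl⟩
  · exact h2 hx

section affine

variable {I : Type u} [Category.{u} I] (D : I ⥤ Scheme.{u}) (c : Cone D) (hc : IsLimit c)

/-- The cone legs, with the expected type. -/
abbrev coneLeg (k : I) : c.pt ⟶ D.obj k := c.π.app k

include hc in
/-- For a cofiltered diagram of affine schemes, if one projection is of finite type on global
sections then the later ones are surjective on global sections. -/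
lemma exists_surjective_appTop_of_finiteType [IsCofiltered I] [∀ i, IsAffine (D.obj i)] (i₀ : I)
    (h : (coneLeg D c i₀).appTop.hom.FiniteType) :
    ∃ j : I, Nonempty (j ⟶ i₀) ∧
      ∀ (k : I) (_ : k ⟶ j), Function.Surjective (coneLeg D c k).appTop.hom := by
  classical
  obtain ⟨T, hT⟩ := exists_finset_of_finiteType _ h
  choose ι u hu using exists_appTop_π_eq_of_isAffine_of_isLimit D c hc
  obtain ⟨j, hj⟩ := IsCofiltered.inf_objs_exists (insert i₀ (T.image ι))
  refine ⟨j, hj (Finset.mem_insert_self _ _), fun k g => ?_⟩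
  have key : (coneLeg D c k).appTop.hom.range = ⊤ := by
    apply hT
    · rintro _ ⟨r, rfl⟩
      obtain ⟨a⟩ := hj (Finset.mem_insert_self i₀ (T.image ι))
      refine ⟨(D.map (g ≫ a)).appTop.hom r, ?_⟩
      have : coneLeg D c k ≫ D.map (g ≫ a) = coneLeg D c i₀ := c.w (g ≫ a)
      rw [← this, Scheme.Hom.comp_appTop]
      rfl
    · intro t ht
      obtain ⟨a⟩ := hj (Finset.mem_insert_of_mem (Finset.mem_image_of_mem ι ht))
      refine ⟨(D.map (g ≫ a)).appTop.hom (u t), ?_⟩
      have : coneLeg D c k ≫ D.map (g ≫ a) = coneLeg D c (ι t) := c.w (g ≫ a)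
      have h2 : (coneLeg D c (ι t)).appTop.hom (u t) = t := hu t
      rw [← this, Scheme.Hom.comp_appTop] at h2
      exact h2
  intro x
  have : x ∈ (coneLeg D c k).appTop.hom.range := by rw [key]; trivial
  exact this

end affine

section CI

variable {I : Type u} [Preorder I] [IsDirected I (fun a b => a ≤ b)] [Nonempty I]
  (D : Iᵒᵖ ⥤ Scheme.{u}) (c : Cone D) (hc : IsLimit c)
  (haff : ∀ (i j : Iᵒᵖ) (a : i ⟶ j), IsAffineHom (D.map a))

include hc haff in
/-- Local statement: for an affine open `W` of `D.obj i₀`, the projections are eventually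
closed immersions over `W`. -/
lemma exists_isClosedImmersion_opensCone (i₀ : I) [LocallyOfFiniteType (c.π.app (op i₀))]
    (W : (D.obj (op i₀)).Opens) (hW : IsAffineOpen W) :
    ∃ j : Over (op i₀), ∀ (k : Over (op i₀)) (_ : k ⟶ j),
      IsClosedImmersion (coneLeg _ (opensCone D c (op i₀) W) k) := by
  have haff' : ∀ {i j : Iᵒᵖ} (a : i ⟶ j), IsAffineHom (D.map a) := fun a => haff _ _ a
  have hA : ∀ j : Over (op i₀), IsAffine ((opensDiagram D (op i₀) W).obj j) :=
    fun j => hW.preimage (D.map _)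
  have hπ : IsAffineHom (c.π.app (op i₀)) := isAffineHom_π_app D c hc (op i₀)
  have hpt : IsAffine (opensCone D c (op i₀) W).pt := hW.preimage (c.π.app (op i₀))
  have hlft : LocallyOfFiniteType (coneLeg _ (opensCone D c (op i₀) W) (Over.mk (𝟙 (op i₀)))) := by
    change LocallyOfFiniteType ((c.π.app (op i₀)).resLE _ _ _)
    infer_instance
  have hft := (HasRingHomProperty.iff_of_isAffine (P := @LocallyOfFiniteType)).mp hlft
  obtain ⟨j, -, hj⟩ := exists_surjective_appTop_of_finiteType (opensDiagram D (op i₀) W)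
    (opensCone D c (op i₀) W) (isLimitOpensCone D c hc (op i₀) W) (Over.mk (𝟙 (op i₀))) hft
  exact ⟨j, fun k g => IsClosedImmersion.of_surjective_of_isAffine _ (hj k g)⟩

include hc haff in
/-- **Closed immersion at a finite level**: if `D.obj i₀` is quasi-compact and the projection
`c.pt ⟶ D.obj i₀` is locally of finite type, then the projections `c.pt ⟶ D.obj k` are closed
immersions for all large `k`. -/
theorem exists_isClosedImmersion_π (i₀ : I) [CompactSpace (D.obj (op i₀))]
    [LocallyOfFiniteType (c.π.app (op i₀))] :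
    ∃ j, i₀ ≤ j ∧ ∀ k, j ≤ k → IsClosedImmersion (coneLeg D c (op k)) := by
  classical
  obtain ⟨m, W, hW, hcov⟩ := exists_fin_affine_cover (D.obj (op i₀))
  have h := fun l => exists_isClosedImmersion_opensCone D c hc haff i₀ (W l) (hW l)
  choose jo hjo using h
  let jl : Fin m → I := fun l => (jo l).left.unop
  obtain ⟨j, hj⟩ := Finset.exists_le (insert i₀ (Finset.univ.image jl))
  have hi₀j : i₀ ≤ j := hj _ (Finset.mem_insert_self _ _)
  refine ⟨j, hi₀j, fun k hk => ?_⟩
  have hi₀k : i₀ ≤ k := hi₀j.trans hk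
  let a : op k ⟶ op i₀ := (homOfLE hi₀k).op
  let K : Over (op i₀) := Over.mk a
  have hcov' : ⨆ l, D.map a ⁻¹ᵁ W l = ⊤ := by
    rw [← Scheme.Hom.preimage_iSup, hcov]
    rfl
  rw [IsZariskiLocalAtTarget.iff_of_iSup_eq_top (P := @IsClosedImmersion) _ hcov']
  intro l
  have hlk : jl l ≤ k :=
    (hj _ (Finset.mem_insert_of_mem (Finset.mem_image_of_mem _ (Finset.mem_univ l)))).trans hk
  let g : K ⟶ jo l := Over.homMk (homOfLE hlk).op (Subsingleton.elim _ _)
  have h1 := hjo l K g
  rw [← Scheme.Hom.resLE_eq_morphismRestrict]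
  have e₂ : c.π.app (op i₀) ⁻¹ᵁ W l = coneLeg D c (op k) ⁻¹ᵁ (D.map a ⁻¹ᵁ W l) := by
    rw [← Scheme.Hom.comp_preimage]
    have : coneLeg D c (op k) ≫ D.map a = c.π.app (op i₀) := c.w a
    rw [this]
  exact (Scheme.Hom.resLE_congr (coneLeg D c (op k)) _ rfl e₂ @IsClosedImmersion).mp h1

end CI

/-- **Relative approximation**: `X` qcqs over a quasi-separated `S` is a directed limit of schemes
of finite presentation over `S` with affine transition maps. -/
theorem exists_fp_limit' {X S : Scheme.{u}} (f : X ⟶ S) [CompactSpace X] [QuasiSeparatedSpace X]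
    [QuasiSeparatedSpace S] :
    ∃ (I : Type u) (_ : Preorder I) (_ : IsDirected I (fun a b => a ≤ b)) (_ : Nonempty I)
      (D : Iᵒᵖ ⥤ Scheme.{u}) (s : D ⟶ (Functor.const Iᵒᵖ).obj S) (c : Cone D) (_ : IsLimit c)
      (e : c.pt ≅ X),
      (∀ i, c.π.app i ≫ s.app i = e.hom ≫ f) ∧
      (∀ i, LocallyOfFinitePresentation (s.app i) ∧ QuasiCompact (s.app i) ∧
        QuasiSeparated (s.app i)) ∧
      (∀ (i j : Iᵒᵖ) (a : i ⟶ j), IsAffineHom (D.map a)) ∧
      (∀ i, IsAffineHom (c.π.app i)) ∧ (∀ i, CompactSpace (D.obj i)) := by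
  obtain ⟨S', hS'c, hS'⟩ := exists_isCompact_opens_range_le f
  have hC : CompactSpace (S' : Scheme.{u}) := isCompact_iff_compactSpace.mp hS'c
  have hQ : QuasiSeparatedSpace (S' : Scheme.{u}) := S'.ι.isOpenEmbedding.quasiSeparatedSpace
  let f' : X ⟶ (S' : Scheme.{u}) := IsOpenImmersion.lift S'.ι f (by
    rw [Scheme.Opens.range_ι]; exact hS')
  have hf' : f' ≫ S'.ι = f := IsOpenImmersion.lift_fac _ _ _
  obtain ⟨PX⟩ := nonempty_pres X
  obtain ⟨PS⟩ := nonempty_pres (S' : Scheme.{u})
  obtain ⟨hlim⟩ := Tri.nonempty_isLimit_cXp f' PX PS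
  have hι : QuasiCompact S'.ι := inferInstance
  let s : Tri.DXp f' PX PS ⟶ (Functor.const _).obj S :=
    { app := fun i => (Tri.sS f' PX PS).app i ≫ S'.ι
      naturality := by
        intro i i' a
        have := (Tri.sS f' PX PS).naturality a
        change (Tri.DXp f' PX PS).map a ≫ (Tri.sS f' PX PS).app i' ≫ S'.ι =
          ((Tri.sS f' PX PS).app i ≫ S'.ι) ≫ 𝟙 S
        rw [← Category.assoc, this, Category.comp_id]
        rfl }
  refine ⟨Tri f' PX PS, inferInstance, inferInstance, inferInstance, Tri.DXp f' PX PS, s,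
    Tri.cXp f' PX PS, hlim, Iso.refl X, ?_, ?_, ?_, ?_, ?_⟩
  · intro i
    change Tri.toXp f' PX PS i.unop ≫ pullback.snd _ _ ≫ S'.ι = 𝟙 X ≫ f
    rw [Tri.toXp_snd_assoc, hf', Category.id_comp]
  · intro i
    have h1 := Tri.lfp_snd i.unop
    have h2 := Tri.quasiCompact_snd i.unop
    have h3 := Tri.quasiSeparated_snd i.unop
    change LocallyOfFinitePresentation (pullback.snd _ _ ≫ S'.ι) ∧
      QuasiCompact (pullback.snd _ _ ≫ S'.ι) ∧ QuasiSeparated (pullback.snd _ _ ≫ S'.ι)
    exact ⟨inferInstance, inferInstance, inferInstance⟩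
  · intro i j a
    exact Tri.isAffineHom_XpMap (leOfHom a.unop)
  · intro i
    have : ∀ {i j : (Tri f' PX PS)ᵒᵖ} (a : i ⟶ j), IsAffineHom ((Tri.DXp f' PX PS).map a) :=
      fun a => Tri.isAffineHom_XpMap (leOfHom a.unop)
    exact isAffineHom_π_app (Tri.DXp f' PX PS) (Tri.cXp f' PX PS) hlim i
  · intro i
    have h2 := Tri.quasiCompact_snd i.unop
    exact @QuasiCompact.compactSpace_of_compactSpace _ _ _ h2 hC

end Groth.Agent.Lib.Helper1.NA
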