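import Groth.Agent.Lib.Helper1.AbsSeg
import Groth.Agent.Lib.Helper1.NACI

/-!
# Base change of an inverse system along a morphism to its bottom stage (helper1)
-/

set_option autoImplicit false
set_option linter.unusedSectionVars false
set_option linter.style.haveILetI false
universe u

namespace Groth.Agent.Lib.Helper1.Abs

open AlgebraicGeometry CategoryTheory CategoryTheory.Limits TopologicalSpace Opposite
open Groth.Agent.Lib.Helper1.NA

section

variable {B : Type u} [Preorder B] (DS : Bᵒᵖ ⥤ Scheme.{u}) (cS : Cone DS)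
  (bot : B) (hbot : ∀ b, bot ≤ b) {Y₀ : Scheme.{u}} (g₀ : Y₀ ⟶ DS.obj (op bot))

/-- The map from a stage to the bottom stage. -/
noncomputable def toBot (b : Bᵒᵖ) : DS.obj b ⟶ DS.obj (op bot) :=
  DS.map (homOfLE (hbot b.unop)).op

lemma map_toBot {b b' : Bᵒᵖ} (a : b ⟶ b') : DS.map a ≫ toBot DS bot hbot b' = toBot DS bot hbot b := by
  unfold toBot
  rw [← DS.map_comp]
  congr 1

lemma coneLeg_toBot (b : Bᵒᵖ) :
    coneLeg DS cS b ≫ toBot DS bot hbot b = coneLeg DS cS (op bot) :=
  cS.w _

/-- The base-changed stage `Y₀ ×_{S_bot} S_b`. -/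
noncomputable abbrev bcY (b : Bᵒᵖ) : Scheme.{u} := pullback g₀ (toBot DS bot hbot b)

/-- The transition maps of the base-changed system. -/
noncomputable def bcMap {b b' : Bᵒᵖ} (a : b ⟶ b') : bcY DS bot hbot g₀ b ⟶ bcY DS bot hbot g₀ b' :=
  pullback.lift (pullback.fst _ _) (pullback.snd _ _ ≫ DS.map a)
    (by rw [pullback.condition, Category.assoc, map_toBot])

@[reassoc]
lemma bcMap_fst {b b' : Bᵒᵖ} (a : b ⟶ b') :
    bcMap DS bot hbot g₀ a ≫ pullback.fst g₀ (toBot DS bot hbot b') =
      pullback.fst g₀ (toBot DS bot hbot b) :=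
  pullback.lift_fst _ _ _

@[reassoc]
lemma bcMap_snd {b b' : Bᵒᵖ} (a : b ⟶ b') :
    bcMap DS bot hbot g₀ a ≫ pullback.snd g₀ (toBot DS bot hbot b') =
      pullback.snd g₀ (toBot DS bot hbot b) ≫ DS.map a :=
  pullback.lift_snd _ _ _

/-- The base-changed system. -/
noncomputable def bcD : Bᵒᵖ ⥤ Scheme.{u} where
  obj b := bcY DS bot hbot g₀ b
  map a := bcMap DS bot hbot g₀ a
  map_id b := by
    apply pullback.hom_ext
    · rw [bcMap_fst, Category.id_comp]
    · rw [bcMap_snd, DS.map_id, Category.id_comp]; exact Category.comp_id _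
  map_comp a a' := by
    apply pullback.hom_ext
    · rw [Category.assoc, bcMap_fst, bcMap_fst, bcMap_fst]
    · rw [Category.assoc, bcMap_snd, bcMap_snd, bcMap_snd_assoc, DS.map_comp]

/-- The projections to the original system. -/
noncomputable def bcψ : bcD DS bot hbot g₀ ⟶ DS where
  app b := pullback.snd g₀ (toBot DS bot hbot b)
  naturality _ _ a := bcMap_snd DS bot hbot g₀ a

lemma bc_isPullback {b b' : Bᵒᵖ} (a : b ⟶ b') :
    IsPullback ((bcD DS bot hbot g₀).map a) ((bcψ DS bot hbot g₀).app b)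
      ((bcψ DS bot hbot g₀).app b') (DS.map a) := by
  have hbig : IsPullback (bcMap DS bot hbot g₀ a ≫ pullback.fst g₀ (toBot DS bot hbot b'))
      (pullback.snd g₀ (toBot DS bot hbot b)) g₀ (DS.map a ≫ toBot DS bot hbot b') := by
    rw [bcMap_fst, map_toBot]
    exact IsPullback.of_hasPullback _ _
  exact IsPullback.of_right hbig (bcMap_snd DS bot hbot g₀ a) (IsPullback.of_hasPullback _ _)

/-- The limit of the base-changed system. -/
noncomputable abbrev bcPt : Scheme.{u} := pullback g₀ (coneLeg DS cS (op bot))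

/-- The legs of the cone over the base-changed system. -/
noncomputable def bcLeg (b : Bᵒᵖ) : bcPt DS cS bot g₀ ⟶ bcY DS bot hbot g₀ b :=
  pullback.lift (pullback.fst _ _) (pullback.snd _ _ ≫ coneLeg DS cS b)
    (by rw [pullback.condition, Category.assoc, coneLeg_toBot])

@[reassoc]
lemma bcLeg_fst (b : Bᵒᵖ) :
    bcLeg DS cS bot hbot g₀ b ≫ pullback.fst g₀ (toBot DS bot hbot b) =
      pullback.fst g₀ (coneLeg DS cS (op bot)) :=
  pullback.lift_fst _ _ _

@[reassoc]
lemma bcLeg_snd (b : Bᵒᵖ) :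
    bcLeg DS cS bot hbot g₀ b ≫ pullback.snd g₀ (toBot DS bot hbot b) =
      pullback.snd g₀ (coneLeg DS cS (op bot)) ≫ coneLeg DS cS b :=
  pullback.lift_snd _ _ _

/-- The cone over the base-changed system. -/
noncomputable def bcCone : Cone (bcD DS bot hbot g₀) where
  pt := bcPt DS cS bot g₀
  π :=
    { app := fun b => bcLeg DS cS bot hbot g₀ b
      naturality := fun b b' a => by
        change 𝟙 _ ≫ bcLeg DS cS bot hbot g₀ b' =
          bcLeg DS cS bot hbot g₀ b ≫ bcMap DS bot hbot g₀ a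
        rw [Category.id_comp]
        apply pullback.hom_ext
        · rw [bcLeg_fst, Category.assoc, bcMap_fst, bcLeg_fst]
        · rw [bcLeg_snd, Category.assoc, bcMap_snd, bcLeg_snd_assoc]
          congr 1
          exact (cS.w a).symm }

lemma bcCone_isPullback (b : Bᵒᵖ) :
    IsPullback (coneLeg _ (bcCone DS cS bot hbot g₀) b) (pullback.snd g₀ (coneLeg DS cS (op bot)))
      ((bcψ DS bot hbot g₀).app b) (coneLeg DS cS b) := by
  have hbig : IsPullback (bcLeg DS cS bot hbot g₀ b ≫ pullback.fst g₀ (toBot DS bot hbot b))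
      (pullback.snd g₀ (coneLeg DS cS (op bot))) g₀
      (coneLeg DS cS b ≫ toBot DS bot hbot b) := by
    rw [bcLeg_fst, coneLeg_toBot]
    exact IsPullback.of_hasPullback _ _
  exact IsPullback.of_right hbig (bcLeg_snd DS cS bot hbot g₀ b) (IsPullback.of_hasPullback _ _)

/-- The base-changed cone is a limit cone. -/
noncomputable def isLimitBcCone [IsConnected Bᵒᵖ] (hcS : IsLimit cS) :
    IsLimit (bcCone DS cS bot hbot g₀) :=
  isLimitOfIsPullbackOfIsConnected (bcψ DS bot hbot g₀) _ cS
    { hom := pullback.snd g₀ (coneLeg DS cS (op bot))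
      w := fun b => (bcLeg_snd DS cS bot hbot g₀ b).symm }
    (fun b => bcCone_isPullback DS cS bot hbot g₀ b) hcS

end

end Groth.Agent.Lib.Helper1.Abs
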