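import Mathlib

/-!
# Final segments of directed preorders (helper1)
-/

set_option autoImplicit false
universe u v w

namespace Groth.Agent.Lib.Helper1.Abs

open CategoryTheory CategoryTheory.Limits Opposite

variable {B : Type u} [Preorder B]

/-- The final segment `{b // b₀ ≤ b}`. -/
abbrev Seg (b₀ : B) : Type u := {b : B // b₀ ≤ b}

instance instIsDirectedSeg [IsDirected B (fun a b => a ≤ b)] (b₀ : B) :
    IsDirected (Seg b₀) (fun a b => a ≤ b) :=
  ⟨fun x y => by
    obtain ⟨z, hxz, hyz⟩ := exists_ge_ge x.1 y.1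
    exact ⟨⟨z, x.2.trans hxz⟩, hxz, hyz⟩⟩

instance instNonemptySeg (b₀ : B) : Nonempty (Seg b₀) := ⟨⟨b₀, le_rfl⟩⟩

/-- The inclusion of a final segment. -/
def segIncl (b₀ : B) : Seg b₀ ⥤ B := (Subtype.mono_coe (fun b => b₀ ≤ b)).functor

@[simp] lemma segIncl_obj (b₀ : B) (b : Seg b₀) : (segIncl b₀).obj b = b.1 := rfl

theorem initial_segIncl_op [IsDirected B (fun a b => a ≤ b)] (b₀ : B) :
    (segIncl b₀).op.Initial := by
  haveI : Nonempty B := ⟨b₀⟩
  refine Functor.initial_of_exists_of_isCofiltered _ (fun d => ?_) (fun {d c} s s' => ?_)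
  · obtain ⟨z, h1, h2⟩ := exists_ge_ge b₀ d.unop
    exact ⟨op ⟨z, h1⟩, ⟨(homOfLE h2).op⟩⟩
  · exact ⟨c, 𝟙 _, Subsingleton.elim _ _⟩

/-- Restricting a limit cone to a final segment gives a limit cone. -/
noncomputable def isLimitSeg [IsDirected B (fun a b => a ≤ b)] {C : Type v} [Category.{w} C]
    (b₀ : B) {D : Bᵒᵖ ⥤ C} (c : Cone D) (hc : IsLimit c) :
    IsLimit (c.whisker (segIncl b₀).op) :=
  haveI := initial_segIncl_op b₀
  (Functor.Initial.isLimitWhiskerEquiv (segIncl b₀).op c).symm hc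

end Groth.Agent.Lib.Helper1.Abs
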