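import Mathlib

/-!
# Chow's lemma: scheme-theoretically dominant morphisms (helper1)

Morphisms `h` with `h.ker = ⊥`: the canonical map to the scheme-theoretic image, restriction to
opens, uniqueness of extensions into separated targets.
-/

set_option autoImplicit false
universe u

namespace Groth.Agent.Lib.Helper1.Chow

open AlgebraicGeometry CategoryTheory CategoryTheory.Limits TopologicalSpace Opposite

/-- The canonical map to the scheme-theoretic image of a quasi-compact morphism has trivial
kernel. -/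
theorem ker_toImage {X Y : Scheme.{u}} (f : X ⟶ Y) [QuasiCompact f] : f.toImage.ker = ⊥ := by
  refine Scheme.IdealSheafData.ext_of_iSup_eq_top (ι := Y.affineOpens)
    (fun U => ⟨f.imageι ⁻¹ᵁ U.1, U.2.preimage f.imageι⟩) ?_ ?_
  · change ⨆ U : Y.affineOpens, f.imageι ⁻¹ᵁ (U : Y.Opens) = ⊤
    rw [← Scheme.Hom.preimage_iSup, iSup_affineOpens_eq_top Y]
    rfl
  · intro U
    rw [Scheme.Hom.ker_apply, Scheme.IdealSheafData.ideal_bot]
    exact (RingHom.injective_iff_ker_eq_bot _).mp (f.toImage_app_injective U)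

/-- Trivial kernel is preserved by restriction to an open of the target. -/
theorem ker_morphismRestrict_eq_bot {X Y : Scheme.{u}} (f : X ⟶ Y) [QuasiCompact f]
    (hf : f.ker = ⊥) (U : Y.Opens) : (f ∣_ U).ker = ⊥ := by
  apply Scheme.IdealSheafData.ext
  funext V
  rw [Scheme.ker_morphismRestrict_ideal, hf]
  rfl

/-- If `τ` has trivial kernel and lands in the open `B`, the induced map to `B` has trivial
kernel. -/
theorem exists_lift_ker_eq_bot {U X' : Scheme.{u}} (τ : U ⟶ X') [QuasiCompact τ]
    (hτ : τ.ker = ⊥) (B : X'.Opens) (hB : ∀ x, τ x ∈ B) :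
    ∃ σ : U ⟶ B, σ ≫ B.ι = τ ∧ σ.ker = ⊥ := by
  have hr : Set.range τ ⊆ Set.range B.ι := by
    rw [Scheme.Opens.range_ι]
    rintro _ ⟨x, rfl⟩
    exact hB x
  refine ⟨IsOpenImmersion.lift B.ι τ hr, IsOpenImmersion.lift_fac _ _ _, ?_⟩
  set σ := IsOpenImmersion.lift B.ι τ hr with hσ
  have hσι : σ ≫ B.ι = τ := IsOpenImmersion.lift_fac _ _ _
  have htop : τ ⁻¹ᵁ B = ⊤ := by
    ext x
    simpa using hB x
  have hiso : IsIso (τ ⁻¹ᵁ B).ι :=
    isIso_of_isOpenImmersion_of_opensRange_eq_top _ (by rw [Scheme.Opens.opensRange_ι, htop])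
  have hcomp : (τ ⁻¹ᵁ B).ι ≫ σ = τ ∣_ B := by
    rw [← cancel_mono B.ι, Category.assoc, hσι, morphismRestrict_ι]
  have h1 := Scheme.Hom.ker_comp_of_isIso (τ ⁻¹ᵁ B).ι σ
  rw [hcomp, ker_morphismRestrict_eq_bot τ hτ B] at h1
  exact h1.symm

/-- Two morphisms into a separated `D`-scheme which agree after composing with a morphism of
trivial kernel are equal. -/
theorem ext_of_ker_eq_bot {B' B C D : Scheme.{u}} (h : B' ⟶ B) (hh : h.ker = ⊥) (a b : B ⟶ C)
    (s : C ⟶ D) [IsSeparated s] (hs : a ≫ s = b ≫ s) (hab : h ≫ a = h ≫ b) : a = b := by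
  let ab : B ⟶ pullback s s := pullback.lift a b hs
  let e : pullback ab (pullback.diagonal s) ⟶ B := pullback.fst ab (pullback.diagonal s)
  have hci : IsClosedImmersion e := inferInstance
  have h1 : e ≫ ab = pullback.snd ab (pullback.diagonal s) ≫ pullback.diagonal s :=
    pullback.condition
  have hab1 : ab ≫ pullback.fst s s = a := pullback.lift_fst _ _ _
  have hab2 : ab ≫ pullback.snd s s = b := pullback.lift_snd _ _ _
  have ha : e ≫ a = pullback.snd ab (pullback.diagonal s) := by
    have h2 := congrArg (fun z => z ≫ pullback.fst s s) h1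
    simp only [Category.assoc, hab1, pullback.diagonal_fst, Category.comp_id] at h2
    exact h2
  have hb : e ≫ b = pullback.snd ab (pullback.diagonal s) := by
    have h2 := congrArg (fun z => z ≫ pullback.snd s s) h1
    simp only [Category.assoc, hab2, pullback.diagonal_snd, Category.comp_id] at h2
    exact h2
  have hl : h ≫ ab = (h ≫ a) ≫ pullback.diagonal s := by
    apply pullback.hom_ext
    · simp only [Category.assoc, hab1, pullback.diagonal_fst, Category.comp_id]
    · simp only [Category.assoc, hab2, pullback.diagonal_snd, Category.comp_id, hab]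
  let l : B' ⟶ pullback ab (pullback.diagonal s) := pullback.lift h (h ≫ a) hl
  have hle : l ≫ e = h := pullback.lift_fst _ _ _
  have hker : e.ker = ⊥ := by
    have h3 := Scheme.Hom.le_ker_comp l e
    rw [hle, hh] at h3
    exact le_bot_iff.mp h3
  have hiso : IsIso e := IsClosedImmersion.isIso_iff_ker_eq_bot.mpr hker
  exact (cancel_epi e).mp (ha.trans hb.symm)

end Groth.Agent.Lib.Helper1.Chow
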