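import Groth.Agent.Lib.Helper1.ISLim3
import Groth.Agent.Lib.Helper1.ChowSD
import Groth.Agent.Lib.Helper1.AbsSeg

/-!
# The system of scheme-theoretic images in the stages of a limit (helper1)

For `X' = lim Y_b` (directed, affine transition maps) and `ι : X ⟶ X'` a closed immersion, the
scheme-theoretic images `W_b` of `X` in `Y_b` form an inverse system with limit `X`.
-/

set_option autoImplicit false
set_option linter.unusedSectionVars false
set_option linter.style.haveILetI false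
universe u

namespace Groth.Agent.Lib.Helper1.Abs

open AlgebraicGeometry CategoryTheory CategoryTheory.Limits TopologicalSpace Opposite
open Scheme.IdealSheafData
open Groth.Agent.Lib.Helper1.NA Groth.Agent.Lib.Helper1.Chow

/-- If `h` has trivial kernel then `ker (h ≫ g) = ker g`. -/
lemma ker_comp_of_ker_eq_bot {X W Z : Scheme.{u}} (h : X ⟶ W) (g : W ⟶ Z) (hh : h.ker = ⊥) :
    (h ≫ g).ker = g.ker := by
  rw [← Scheme.IdealSheafData.map_ker, hh, Scheme.IdealSheafData.map_bot]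

lemma ker_le_ker_comp {T W Z : Scheme.{u}} (s : T ⟶ W) (g : W ⟶ Z) : g.ker ≤ (s ≫ g).ker := by
  rw [← Scheme.IdealSheafData.map_ker, ← Scheme.IdealSheafData.map_bot g]
  exact Scheme.IdealSheafData.map_mono g bot_le

section

variable {B : Type u} [Preorder B] [IsDirected B (fun a b => a ≤ b)] [Nonempty B]
  (DY : Bᵒᵖ ⥤ Scheme.{u}) (cY : Cone DY) (hcY : IsLimit cY)
  (haff : ∀ (i j : Bᵒᵖ) (a : i ⟶ j), IsAffineHom (DY.map a))
  {X : Scheme.{u}} (ι : X ⟶ cY.pt)
  (hqc : ∀ b : Bᵒᵖ, QuasiCompact (ι ≫ coneLeg DY cY b))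

/-- The scheme-theoretic image of `X` in the stage `Y_b`. -/
noncomputable def imgW (b : Bᵒᵖ) : Scheme.{u} := (ι ≫ coneLeg DY cY b).image

/-- The closed immersion `W_b ⟶ Y_b`. -/
noncomputable def imgι (b : Bᵒᵖ) : imgW DY cY ι b ⟶ DY.obj b := (ι ≫ coneLeg DY cY b).imageι

/-- The map `X ⟶ W_b`. -/
noncomputable def imgTo (b : Bᵒᵖ) : X ⟶ imgW DY cY ι b := (ι ≫ coneLeg DY cY b).toImage

instance (b : Bᵒᵖ) : IsClosedImmersion (imgι DY cY ι b) := by
  change IsClosedImmersion (Scheme.IdealSheafData.subschemeι _); infer_instance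

lemma imgTo_ι (b : Bᵒᵖ) : imgTo DY cY ι b ≫ imgι DY cY ι b = ι ≫ coneLeg DY cY b :=
  Scheme.Hom.toImage_imageι _

include hqc in
lemma ker_imgTo (b : Bᵒᵖ) : (imgTo DY cY ι b).ker = ⊥ :=
  haveI := hqc b
  ker_toImage _

lemma ker_imgι (b : Bᵒᵖ) : (imgι DY cY ι b).ker = (ι ≫ coneLeg DY cY b).ker :=
  Scheme.IdealSheafData.ker_subschemeι _

include hqc in
lemma ker_imgι_comp {b b' : Bᵒᵖ} (a : b ⟶ b') :
    (imgι DY cY ι b ≫ DY.map a).ker = (imgι DY cY ι b').ker := by
  rw [ker_imgι, ← ker_comp_of_ker_eq_bot (imgTo DY cY ι b) _ (ker_imgTo DY cY ι hqc b),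
    ← Category.assoc, imgTo_ι, Category.assoc]
  congr 2
  exact cY.w a

/-- The transition maps `W_b ⟶ W_b'`. -/
noncomputable def imgMap {b b' : Bᵒᵖ} (a : b ⟶ b') : imgW DY cY ι b ⟶ imgW DY cY ι b' :=
  IsClosedImmersion.lift (imgι DY cY ι b') (imgι DY cY ι b ≫ DY.map a)
    (ker_imgι_comp DY cY ι hqc a).ge

@[reassoc]
lemma imgMap_ι {b b' : Bᵒᵖ} (a : b ⟶ b') :
    imgMap DY cY ι hqc a ≫ imgι DY cY ι b' = imgι DY cY ι b ≫ DY.map a :=
  IsClosedImmersion.lift_fac _ _ _

/-- The diagram of scheme-theoretic images. -/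
noncomputable def imgD : Bᵒᵖ ⥤ Scheme.{u} where
  obj b := imgW DY cY ι b
  map a := imgMap DY cY ι hqc a
  map_id b := by
    rw [← cancel_mono (imgι DY cY ι b), imgMap_ι, DY.map_id, Category.id_comp]
    exact Category.comp_id _
  map_comp a a' := by
    rw [← cancel_mono (imgι DY cY ι _), Category.assoc, imgMap_ι, imgMap_ι, imgMap_ι_assoc,
      DY.map_comp]

/-- The closed immersions `W_b ⟶ Y_b` as a natural transformation. -/
noncomputable def imgNat : imgD DY cY ι hqc ⟶ DY where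
  app b := imgι DY cY ι b
  naturality _ _ a := imgMap_ι DY cY ι hqc a

lemma imgTo_map {b b' : Bᵒᵖ} (a : b ⟶ b') :
    imgTo DY cY ι b ≫ imgMap DY cY ι hqc a = imgTo DY cY ι b' := by
  rw [← cancel_mono (imgι DY cY ι b'), Category.assoc, imgMap_ι, ← Category.assoc, imgTo_ι,
    imgTo_ι, Category.assoc]
  congr 1
  exact cY.w a

/-- The cone over the diagram of images with point `X`. -/
noncomputable def imgCone : Cone (imgD DY cY ι hqc) where
  pt := X
  π :=
    { app := fun b => imgTo DY cY ι b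
      naturality := fun b b' a => by
        change 𝟙 X ≫ imgTo DY cY ι b' = imgTo DY cY ι b ≫ imgMap DY cY ι hqc a
        rw [Category.id_comp, imgTo_map] }

include haff in
lemma isAffineHom_imgMap {b b' : Bᵒᵖ} (a : b ⟶ b') : IsAffineHom (imgMap DY cY ι hqc a) := by
  haveI := haff _ _ a
  haveI : IsAffineHom (imgMap DY cY ι hqc a ≫ imgι DY cY ι b') := by
    rw [imgMap_ι]; infer_instance
  exact IsAffineHom.of_comp _ (imgι DY cY ι b')

variable [IsClosedImmersion ι]

/-- Auxiliary cone over `DY` attached to a cone over the images. -/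
noncomputable def imgAuxCone (s : Cone (imgD DY cY ι hqc)) : Cone DY :=
  (Cone.postcompose (imgNat DY cY ι hqc)).obj s

include hcY haff in
lemma ker_le_ker_lift (s : Cone (imgD DY cY ι hqc)) :
    ι.ker ≤ (hcY.lift (imgAuxCone DY cY ι hqc s)).ker := by
  let l : s.pt ⟶ cY.pt := hcY.lift (imgAuxCone DY cY ι hqc s)
  have hl : ∀ b : Bᵒᵖ, l ≫ coneLeg DY cY b = s.π.app b ≫ imgι DY cY ι b := fun b =>
    hcY.fac (imgAuxCone DY cY ι hqc s) b
  change ι.ker ≤ l.ker
  rw [← iSup_Jb DY cY hcY haff ι.ker]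
  refine iSup_le fun b => ?_
  unfold Jb
  rw [← Scheme.IdealSheafData.le_map_iff_comap_le, Scheme.IdealSheafData.map_ker,
    Scheme.IdealSheafData.map_ker, hl (op b), ← ker_imgι]
  exact ker_le_ker_comp _ _

/-- The lift of a cone over the images to `X`. -/
noncomputable def imgLift (s : Cone (imgD DY cY ι hqc)) : s.pt ⟶ X :=
  IsClosedImmersion.lift ι (hcY.lift (imgAuxCone DY cY ι hqc s))
    (ker_le_ker_lift DY cY hcY haff ι hqc s)

lemma imgLift_ι (s : Cone (imgD DY cY ι hqc)) :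
    imgLift DY cY hcY haff ι hqc s ≫ ι = hcY.lift (imgAuxCone DY cY ι hqc s) :=
  IsClosedImmersion.lift_fac _ _ _

/-- `X` is the limit of its scheme-theoretic images in the stages. -/
noncomputable def isLimitImgCone : IsLimit (imgCone DY cY ι hqc) where
  lift s := imgLift DY cY hcY haff ι hqc s
  fac s b := by
    change imgLift DY cY hcY haff ι hqc s ≫ imgTo DY cY ι b = s.π.app b
    rw [← cancel_mono (imgι DY cY ι b), Category.assoc, imgTo_ι, ← Category.assoc, imgLift_ι]
    exact hcY.fac (imgAuxCone DY cY ι hqc s) b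
  uniq s m hm := by
    let m' : s.pt ⟶ X := m
    have hm' : ∀ b, m' ≫ imgTo DY cY ι b = s.π.app b := hm
    change m' = imgLift DY cY hcY haff ι hqc s
    rw [← cancel_mono ι, imgLift_ι]
    refine hcY.hom_ext fun b => ?_
    let sb : s.pt ⟶ imgW DY cY ι b := s.π.app b
    have hsb : m' ≫ imgTo DY cY ι b = sb := hm b
    have h1 : hcY.lift (imgAuxCone DY cY ι hqc s) ≫ cY.π.app b = sb ≫ imgι DY cY ι b :=
      hcY.fac (imgAuxCone DY cY ι hqc s) b
    have h2 : (m' ≫ ι) ≫ coneLeg DY cY b = sb ≫ imgι DY cY ι b := by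
      rw [← hsb, Category.assoc, Category.assoc, imgTo_ι]
    exact h2.trans h1.symm

end

end Groth.Agent.Lib.Helper1.Abs
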