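import Groth.Agent.Lib.Helper1.NACI

/-!
# Closed immersion into a base change of a morphism of finite type `ℤ`-schemes (helper1)
-/

set_option autoImplicit false
set_option linter.unusedSectionVars false
set_option linter.style.haveILetI false
universe u

namespace Groth.Agent.Lib.Helper1.NA

open AlgebraicGeometry CategoryTheory CategoryTheory.Limits TopologicalSpace Opposite

/-- For `f : X ⟶ S` locally of finite type between qcqs schemes, `X` is a closed subscheme of
`X_a ×_{S_b} S` for some morphism `X_a ⟶ S_b` of schemes of finite type over `ℤ`. -/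
theorem Tri.exists_isClosedImmersion_toXp {X S : Scheme.{u}} (f : X ⟶ S) [CompactSpace X]
    [QuasiSeparatedSpace X] [CompactSpace S] [QuasiSeparatedSpace S] [LocallyOfFiniteType f]
    (PX : Pres X) (PS : Pres S) :
    ∃ t : Tri f PX PS, IsClosedImmersion (Tri.toXp f PX PS t) := by
  obtain ⟨hlim⟩ := Tri.nonempty_isLimit_cXp f PX PS
  obtain ⟨i₀⟩ := (inferInstance : Nonempty (Tri f PX PS))
  have haff : ∀ (i j : (Tri f PX PS)ᵒᵖ) (a : i ⟶ j), IsAffineHom ((Tri.DXp f PX PS).map a) :=
    fun i j a => Tri.isAffineHom_XpMap (leOfHom a.unop)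
  have hC : CompactSpace ((Tri.DXp f PX PS).obj (op i₀)) := by
    have h2 := Tri.quasiCompact_snd i₀
    exact @QuasiCompact.compactSpace_of_compactSpace _ S _ h2 ‹CompactSpace S›
  have hlft : LocallyOfFiniteType ((Tri.cXp f PX PS).π.app (op i₀)) := by
    have h0 : Tri.toXp f PX PS i₀ ≫ pullback.snd i₀.g (PS.π.app (op i₀.b)) = f :=
      Tri.toXp_snd f PX PS i₀
    have h1 : LocallyOfFiniteType
        (Tri.toXp f PX PS i₀ ≫ pullback.snd i₀.g (PS.π.app (op i₀.b))) := by
      rw [h0]; infer_instance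
    exact locallyOfFiniteType_of_comp (Tri.toXp f PX PS i₀)
      (pullback.snd i₀.g (PS.π.app (op i₀.b)))
  obtain ⟨j, -, hj⟩ := exists_isClosedImmersion_π (Tri.DXp f PX PS) (Tri.cXp f PX PS) hlim haff i₀
  exact ⟨j, hj j le_rfl⟩

end Groth.Agent.Lib.Helper1.NA
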