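import Groth.Agent.Lib.Helper1.AbsProp
import Groth.Agent.Lib.Helper1.AbsBC
import Groth.Agent.Lib.Helper1.NATri2

/-!
# Absolute Noetherian approximation of proper morphisms (helper1)
-/

set_option autoImplicit false
set_option linter.unusedSectionVars false
set_option linter.style.haveILetI false
universe u

namespace Groth.Agent.Lib.Helper1.Abs

open AlgebraicGeometry CategoryTheory CategoryTheory.Limits TopologicalSpace Opposite
open Groth.Agent.Lib.Helper1.NA Groth.Agent.Lib.Helper1.Chow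

set_option maxHeartbeats 1600000 in
/-- A proper morphism over a qcqs base is a limit of proper morphisms between schemes of finite
type over `ℤ`. -/
theorem proper_absolute_approx {X S : Scheme.{u}} (f : X ⟶ S) [IsProper f] [CompactSpace S]
    [QuasiSeparatedSpace S] :
    ∃ (I : Type u) (_ : SmallCategory I) (_ : IsCofiltered I) (DX DS : I ⥤ Scheme.{u}) (φ : DX ⟶ DS)
      (cX : Limits.Cone DX) (cS : Limits.Cone DS) (_ : Limits.IsLimit cX) (_ : Limits.IsLimit cS)
      (eX : cX.pt ≅ X) (eS : cS.pt ≅ S),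
      (∀ (i j : I) (a : i ⟶ j), IsAffineHom (DX.map a) ∧ IsAffineHom (DS.map a)) ∧
      (∀ i, IsProper (φ.app i) ∧ CompactSpace (DS.obj i) ∧
        LocallyOfFiniteType (Limits.IsTerminal.from specULiftZIsTerminal (DS.obj i))) ∧
      (∀ i, cX.π.app i ≫ φ.app i = eX.hom ≫ f ≫ eS.inv ≫ cS.π.app i) := by
  haveI : CompactSpace X := QuasiCompact.compactSpace_of_compactSpace f
  haveI : QuasiSeparatedSpace X := quasiSeparatedSpace_of_quasiSeparated f
  obtain ⟨PX⟩ := nonempty_pres X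
  obtain ⟨PS⟩ := nonempty_pres S
  obtain ⟨t, ht⟩ := Tri.exists_isClosedImmersion_toXp f PX PS
  -- the restricted presentation of `S`
  let DS : (Seg t.b)ᵒᵖ ⥤ Scheme.{u} := (segIncl t.b).op ⋙ PS.D
  let cS : Cone DS := PS.cone.whisker (segIncl t.b).op
  have hcS : IsLimit cS := isLimitSeg t.b PS.cone PS.hlim
  let bot : Seg t.b := ⟨t.b, le_rfl⟩
  have hbot : ∀ b : Seg t.b, bot ≤ b := fun b => b.2
  let g₀ : PX.D.obj (op t.a) ⟶ DS.obj (op bot) := t.g
  have haffS : ∀ (i j : (Seg t.b)ᵒᵖ) (a : i ⟶ j), IsAffineHom (DS.map a) :=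
    fun i j a => PS.haff _ _ _
  haveI : IsConnected (Seg t.b)ᵒᵖ := IsCofiltered.isConnected _
  let DY : (Seg t.b)ᵒᵖ ⥤ Scheme.{u} := bcD DS bot hbot g₀
  let ψ : DY ⟶ DS := bcψ DS bot hbot g₀
  let cY : Cone DY := bcCone DS cS bot hbot g₀
  have hcY : IsLimit cY := isLimitBcCone DS cS bot hbot g₀ hcS
  let f' : cY.pt ⟶ cS.pt := pullback.snd g₀ (coneLeg DS cS (op bot))
  let ι : X ⟶ cY.pt := Tri.toXp f PX PS t
  haveI : IsClosedImmersion ι := ht
  have hf : ι ≫ f' = f := Tri.toXp_snd f PX PS t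
  have hsq : ∀ {b b' : (Seg t.b)ᵒᵖ} (a : b ⟶ b'),
      IsPullback (DY.map a) (ψ.app b) (ψ.app b') (DS.map a) :=
    fun a => bc_isPullback DS bot hbot g₀ a
  have hsqlim : ∀ b : (Seg t.b)ᵒᵖ, IsPullback (coneLeg DY cY b) f' (ψ.app b) (coneLeg DS cS b) :=
    fun b => bcCone_isPullback DS cS bot hbot g₀ b
  have haffY : ∀ (i j : (Seg t.b)ᵒᵖ) (a : i ⟶ j), IsAffineHom (DY.map a) :=
    fun i j a => MorphismProperty.of_isPullback (hsq a).flip (haffS i j a)
  -- instances
  haveI hg₀ : LocallyOfFiniteType g₀ := Tri.lft_g t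
  haveI : CompactSpace cS.pt := ‹CompactSpace S›
  haveI : QuasiSeparatedSpace cS.pt := ‹QuasiSeparatedSpace S›
  haveI hS1 : ∀ b, CompactSpace (DS.obj b) := fun b => (PS.hft _).1
  haveI hS2 : ∀ b, QuasiSeparatedSpace (DS.obj b) := fun b => (PS.hft _).quasiSeparatedSpace
  haveI : CompactSpace (PX.D.obj (op t.a)) := (PX.hft _).1
  haveI : QuasiSeparatedSpace (PX.D.obj (op t.a)) := (PX.hft _).quasiSeparatedSpace
  haveI hψ1 : ∀ b, LocallyOfFiniteType (ψ.app b) := fun b => by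
    change LocallyOfFiniteType (pullback.snd g₀ (toBot DS bot hbot b)); infer_instance
  haveI hψ2 : ∀ b, QuasiCompact (ψ.app b) := fun b => by
    change QuasiCompact (pullback.snd g₀ (toBot DS bot hbot b)); infer_instance
  haveI hψ3 : ∀ b, QuasiSeparated (ψ.app b) := fun b => by
    change QuasiSeparated (pullback.snd g₀ (toBot DS bot hbot b)); infer_instance
  haveI hY1 : ∀ b, CompactSpace (DY.obj b) := fun b =>
    QuasiCompact.compactSpace_of_compactSpace (ψ.app b)
  haveI hY2 : ∀ b, QuasiSeparatedSpace (DY.obj b) := fun b =>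
    quasiSeparatedSpace_of_quasiSeparated (ψ.app b)
  haveI : LocallyOfFiniteType f' := by
    change LocallyOfFiniteType (pullback.snd g₀ (coneLeg DS cS (op bot))); infer_instance
  haveI : QuasiCompact f' := by
    change QuasiCompact (pullback.snd g₀ (coneLeg DS cS (op bot))); infer_instance
  haveI : QuasiSeparated f' := by
    change QuasiSeparated (pullback.snd g₀ (coneLeg DS cS (op bot))); infer_instance
  haveI : CompactSpace cY.pt := QuasiCompact.compactSpace_of_compactSpace f'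
  haveI : QuasiSeparatedSpace cY.pt := quasiSeparatedSpace_of_quasiSeparated f'
  have hqc : ∀ b : (Seg t.b)ᵒᵖ, QuasiCompact (ι ≫ coneLeg DY cY b) := fun b => inferInstance
  obtain ⟨b₃, hb₃⟩ := exists_isProper_img DY DS ψ cY hcY cS hcS haffY haffS f' hsq hsqlim ι f hf hqc
  -- the final index category
  refine ⟨(Seg b₃)ᵒᵖ, inferInstance, inferInstance, (segIncl b₃).op ⋙ imgD DY cY ι hqc,
    (segIncl b₃).op ⋙ DS, Functor.whiskerLeft (segIncl b₃).op (imgNat DY cY ι hqc ≫ ψ),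
    (imgCone DY cY ι hqc).whisker (segIncl b₃).op, cS.whisker (segIncl b₃).op,
    isLimitSeg b₃ _ (isLimitImgCone DY cY hcY haffY ι hqc), isLimitSeg b₃ _ hcS,
    Iso.refl X, Iso.refl S, ?_, ?_, ?_⟩
  · intro i j a
    exact ⟨isAffineHom_imgMap DY cY haffY ι hqc _, haffS _ _ _⟩
  · intro i
    exact ⟨hb₃ i.unop.1 i.unop.2, (PS.hft _).1, (PS.hft _).2⟩
  · intro i
    change imgTo DY cY ι _ ≫ (imgι DY cY ι _ ≫ ψ.app _) = 𝟙 X ≫ f ≫ 𝟙 S ≫ coneLeg DS cS _
    rw [Category.id_comp, Category.id_comp, ← Category.assoc, imgTo_ι, Category.assoc,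
      (hsqlim _).w, ← Category.assoc, hf]

end Groth.Agent.Lib.Helper1.Abs
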