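import Groth.Agent.Lib.Helper1.ISLim3

/-!
# A directed intersection of locally closed subschemes which is closed (helper1)

If `j : T ⟶ P` is a quasi-compact immersion, `L b` a directed family of ideal sheaves on `T`, and
`V(⨆ L b) ⟶ P` is a closed immersion, then some `V(L b) ⟶ P` is a closed immersion.
-/

set_option autoImplicit false
set_option linter.unusedSectionVars false
set_option linter.style.haveILetI false
universe u

namespace Groth.Agent.Lib.Helper1.NA

open AlgebraicGeometry CategoryTheory CategoryTheory.Limits TopologicalSpace Opposite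
open Scheme.IdealSheafData

lemma app_eq_zero_iff_of_eq_comp {X Y Z : Scheme.{u}} (f : X ⟶ Z) (g : X ⟶ Y) (h : Y ⟶ Z)
    (e : f = g ≫ h) (U : Z.Opens) (s : Γ(Z, U)) :
    f.app U s = 0 ↔ g.app (h ⁻¹ᵁ U) (h.app U s) = 0 := by
  subst e
  rw [Scheme.Hom.comp_app]
  rfl

section

variable {T P : Scheme.{u}} (j : T ⟶ P) {B : Type u} [Preorder B]
  [IsDirected B (fun a b => a ≤ b)] [Nonempty B] (L : B → T.IdealSheafData) (hL : Monotone L)

include hL in
/-- The kernel of `V(⨆ L) ⟶ P` is the supremum of the kernels of the `V(L b) ⟶ P`. -/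
lemma ker_iSup_comp_le [QuasiCompact j] [CompactSpace T] [QuasiSeparatedSpace T] :
    ((⨆ b, L b).subschemeι ≫ j).ker ≤ ⨆ b, ((L b).subschemeι ≫ j).ker := by
  have hconn : IsConnected Bᵒᵖ := IsCofiltered.isConnected _
  let D₀ : Bᵒᵖ ⥤ Scheme.{u} := subDiag L hL ⋙ Over.forget T
  let c₀ : Cone D₀ := (Over.forget T).mapCone (subCone L hL (⨆ b, L b) (le_iSup L))
  have hc₀ : IsLimit c₀ := isLimitOfPreserves (Over.forget T) (isLimitSubCone L hL)
  have haff : ∀ {i i' : Bᵒᵖ} (a : i ⟶ i'), IsAffineHom (D₀.map a) := by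
    intro i i' a
    change IsAffineHom (inclusion (hL (leOfHom a.unop)))
    infer_instance
  rw [le_def]
  intro U
  rw [ideal_iSup, iSup_apply]
  intro s hs
  rw [Scheme.Hom.ker_apply, RingHom.mem_ker] at hs
  obtain ⟨b₀⟩ := (inferInstance : Nonempty B)
  let jb₀ : (L b₀).subscheme ⟶ P := (L b₀).subschemeι ≫ j
  have hU' : IsCompact ((jb₀ ⁻¹ᵁ U.1 : (L b₀).subscheme.Opens) : Set (L b₀).subscheme) :=
    QuasiCompact.isCompact_preimage (f := jb₀) _ U.1.isOpen U.2.isCompact
  have hleg : (⨆ b, L b).subschemeι ≫ j = c₀.π.app (op b₀) ≫ jb₀ := by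
    change _ = inclusion (le_iSup L b₀) ≫ (L b₀).subschemeι ≫ j
    rw [inclusion_subschemeι_assoc]
  have hs' : (c₀.π.app (op b₀)).app (jb₀ ⁻¹ᵁ U.1) (jb₀.app U.1 s) = 0 :=
    (app_eq_zero_iff_of_eq_comp _ _ _ hleg U.1 s).mp hs
  obtain ⟨i, f, hf⟩ := exists_app_map_eq_zero_of_isLimit D₀ c₀ hc₀ (i := op b₀)
    (U := jb₀ ⁻¹ᵁ U.1) hU' (jb₀.app U.1 s) hs'
  have hle : b₀ ≤ i.unop := leOfHom f.unop
  have hmap : (L i.unop).subschemeι ≫ j = D₀.map f ≫ jb₀ := by
    change _ = inclusion (hL hle) ≫ (L b₀).subschemeι ≫ j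
    rw [inclusion_subschemeι_assoc]
  have h2 : ((L i.unop).subschemeι ≫ j).app U.1 s = 0 :=
    (app_eq_zero_iff_of_eq_comp _ _ _ hmap U.1 s).mpr hf
  have h3 : s ∈ (((L i.unop).subschemeι ≫ j).ker).ideal U := by
    rw [Scheme.Hom.ker_apply, RingHom.mem_ker]
    exact h2
  exact (le_iSup (fun b => (((L b).subschemeι ≫ j).ker).ideal U) i.unop) h3

include hL in
/-- **A directed intersection of locally closed subschemes which is closed is eventually closed.** -/
theorem exists_isClosedImmersion_comp_of_iSup [IsImmersion j] [QuasiCompact j] [CompactSpace T]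
    [QuasiSeparatedSpace T] [CompactSpace P]
    (hcl : IsClosedImmersion ((⨆ b, L b).subschemeι ≫ j)) :
    ∃ b, IsClosedImmersion ((L b).subschemeι ≫ j) := by
  classical
  let R : Set P := closure (Set.range j) \ Set.range j
  have hRcl : IsClosed R := by
    have h1 : IsLocallyClosed (Set.range j) := j.isLocallyClosed_range
    have h2 := h1.isOpen_coborder
    have h3 : R = (coborder (Set.range j))ᶜ := by
      rw [coborder, compl_compl]
    rw [h3]
    exact h2.isClosed_compl
  let C : B → Set P := fun b => closure (Set.range ((L b).subschemeι ≫ j))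
  have hCsupp : ∀ b, ((((L b).subschemeι ≫ j).ker).support : Set P) = C b :=
    fun b => Scheme.Hom.support_ker _
  -- some `C b` misses `R`
  have hex : ∃ b, C b ∩ R = ∅ := by
    by_contra hne
    push_neg at hne
    have hanti : ∀ b b', b ≤ b' → C b' ⊆ C b := by
      intro b b' hbb'
      apply closure_mono
      have : (L b').subschemeι ≫ j = inclusion (hL hbb') ≫ (L b).subschemeι ≫ j := by
        rw [inclusion_subschemeι_assoc]
      rw [this]
      rintro _ ⟨x, rfl⟩
      exact ⟨inclusion (hL hbb') x, rfl⟩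
    have hdir : Directed (fun s t : Set P => s ⊇ t) (fun b => C b ∩ R) := by
      intro b b'
      obtain ⟨b'', h1, h2⟩ := exists_ge_ge b b'
      exact ⟨b'', Set.inter_subset_inter_left _ (hanti _ _ h1),
        Set.inter_subset_inter_left _ (hanti _ _ h2)⟩
    obtain ⟨z, hz⟩ := IsCompact.nonempty_iInter_of_directed_nonempty_isCompact_isClosed
      (fun b => C b ∩ R) hdir (fun b => hne b)
      (fun b => (isClosed_closure.inter hRcl).isCompact) (fun b => isClosed_closure.inter hRcl)
    rw [Set.mem_iInter] at hz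
    have hzR : z ∈ R := (hz (Classical.arbitrary B)).2
    have hz1 : z ∈ ((⨆ b, ((L b).subschemeι ≫ j).ker).support : Set P) := by
      rw [support_iSup, Closeds.coe_iInf, Set.mem_iInter]
      intro b
      rw [hCsupp]
      exact (hz b).1
    have hz2 : z ∈ ((((⨆ b, L b).subschemeι ≫ j).ker).support : Set P) :=
      support_antitone (ker_iSup_comp_le j L hL) hz1
    rw [Scheme.Hom.support_ker, ((⨆ b, L b).subschemeι ≫ j).isClosedEmbedding.isClosed_range.closure_eq]
      at hz2
    obtain ⟨x, rfl⟩ := hz2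
    exact hzR.2 ⟨(⨆ b, L b).subschemeι x, rfl⟩
  obtain ⟨b, hb⟩ := hex
  refine ⟨b, IsClosedImmersion.of_isPreimmersion _ ?_⟩
  -- the range is `range j ∩ C b`, and `C b ⊆ range j`
  have hsub : C b ⊆ Set.range j := by
    intro z hz
    by_contra hzr
    have hzc : z ∈ closure (Set.range j) := by
      refine closure_mono ?_ hz
      rintro _ ⟨x, rfl⟩
      exact ⟨(L b).subschemeι x, rfl⟩
    have : z ∈ C b ∩ R := ⟨hz, hzc, hzr⟩
    rw [hb] at this
    exact this
  have hrange : Set.range ((L b).subschemeι ≫ j) = C b := by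
    apply subset_antisymm subset_closure
    intro z hz
    obtain ⟨y, rfl⟩ := hsub hz
    -- `y` lies in the closed set `range ι_b`
    have hcl : IsClosed (Set.range (L b).subschemeι) :=
      (L b).subschemeι.isClosedEmbedding.isClosed_range
    have hy : y ∈ closure (Set.range (L b).subschemeι) := by
      rw [j.isEmbedding.isInducing.closure_eq_preimage_closure_image]
      refine closure_mono ?_ hz
      rintro _ ⟨x, rfl⟩
      exact ⟨(L b).subschemeι x, ⟨x, rfl⟩, rfl⟩
    rw [hcl.closure_eq] at hy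
    obtain ⟨x, rfl⟩ := hy
    exact ⟨x, rfl⟩
  rw [hrange]
  exact isClosed_closure

end

end Groth.Agent.Lib.Helper1.NA
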