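import Groth.Agent.Lib.Helper1.ChowProper3
import Groth.Agent.Lib.Helper1.ChowClosed

/-!
# A proper scheme over a qcqs base is a limit of proper schemes of finite presentation (helper1)
-/

set_option autoImplicit false
set_option linter.unusedSectionVars false
set_option linter.style.haveILetI false
universe u

namespace Groth.Agent.Lib.Helper1.Chow

open AlgebraicGeometry CategoryTheory CategoryTheory.Limits TopologicalSpace Opposite
open Groth.Agent.Lib.Helper1.NA Groth.Agent.Lib.Helper29.QCoh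
open Scheme.IdealSheafData

set_option maxHeartbeats 1600000 in
/-- Eventually the closed subschemes `V(J b)` are proper over `S`. -/
theorem exists_isProper_subscheme {X S X' : Scheme.{u}} (f : X ⟶ S) [IsProper f] [CompactSpace S]
    [QuasiSeparatedSpace S] (f' : X' ⟶ S) [LocallyOfFiniteType f'] [CompactSpace X']
    [QuasiSeparatedSpace X'] (j : X ⟶ X') [IsClosedImmersion j] (hjf : j ≫ f' = f)
    {I : Type u} [Preorder I] [IsDirected I (fun a b => a ≤ b)] [Nonempty I]
    (J : I → X'.IdealSheafData) (hJ : Monotone J) (hsup : (⨆ b, J b) = j.ker) :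
    ∃ b₂, ∀ b, b₂ ≤ b → IsProper ((J b).subschemeι ≫ f') := by
  have hconn : IsConnected Iᵒᵖ := IsCofiltered.isConnected _
  -- the iso `V(⨆ J) ≅ X`
  have hk : j.ker = (⨆ b, J b).subschemeι.ker := by rw [ker_subschemeι, hsup]
  have hiso := IsClosedImmersion.isIso_lift j (⨆ b, J b).subschemeι hk
  let e : (⨆ b, J b).subscheme ≅ X :=
    @asIso _ _ _ _ (IsClosedImmersion.lift j (⨆ b, J b).subschemeι hk.le) hiso
  have he : e.hom ≫ j = (⨆ b, J b).subschemeι := IsClosedImmersion.lift_fac _ _ _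
  have he' : (⨆ b, J b).subschemeι ≫ f' = e.hom ≫ f := by
    rw [← hjf, ← Category.assoc, he]
  have hsupp : IsProper ((⨆ b, J b).subschemeι ≫ f') := by rw [he']; infer_instance
  -- the diagram of the `V(J b)` as schemes
  let D₀ : Iᵒᵖ ⥤ Scheme.{u} := subDiag J hJ ⋙ Over.forget X'
  let c₀ : Cone D₀ := (Over.forget X').mapCone (subCone J hJ (⨆ b, J b) (le_iSup J))
  have hc₀ : IsLimit c₀ := isLimitOfPreserves (Over.forget X') (isLimitSubCone J hJ)
  let t : D₀ ⟶ (Functor.const Iᵒᵖ).obj S :=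
    { app := fun b => (J b.unop).subschemeι ≫ f'
      naturality := by
        intro b b' a
        change inclusion (hJ (leOfHom a.unop)) ≫ (J b'.unop).subschemeι ≫ f' =
          ((J b.unop).subschemeι ≫ f') ≫ 𝟙 S
        rw [inclusion_subschemeι_assoc, Category.comp_id] }
  have haff : ∀ {i i' : Iᵒᵖ} (a : i ⟶ i'), IsAffineHom (D₀.map a) := by
    intro i i' a
    change IsAffineHom (inclusion (hJ (leOfHom a.unop)))
    infer_instance
  have hC : ∀ i : Iᵒᵖ, CompactSpace (D₀.obj i) := by
    intro i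
    have h : CompactSpace (J i.unop).subscheme :=
      QuasiCompact.compactSpace_of_compactSpace (J i.unop).subschemeι
    exact h
  have hQS : ∀ i : Iᵒᵖ, QuasiSeparatedSpace (D₀.obj i) := by
    intro i
    have h : QuasiSeparatedSpace (J i.unop).subscheme :=
      quasiSeparatedSpace_of_quasiSeparated (J i.unop).subschemeι
    exact h
  obtain ⟨i₀⟩ := (inferInstance : Nonempty I)
  have hsep₀ : IsSeparated (c₀.π.app (op i₀) ≫ t.app (op i₀)) := by
    change IsSeparated (inclusion (le_iSup J i₀) ≫ (J i₀).subschemeι ≫ f')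
    rw [inclusion_subschemeι_assoc]
    infer_instance
  obtain ⟨i₁, hi₁⟩ := Groth.Agent.Lib.Helper13.exists_isSeparated_app D₀ t c₀ hc₀ (op i₀)
  let b₀ : I := i₁.unop
  have hsepb : ∀ b, b₀ ≤ b → IsSeparated ((J b).subschemeι ≫ f') :=
    fun b hb => hi₁ (op b) (homOfLE hb).op
  -- Chow's lemma for `V(J b₀) ⟶ S`
  have hsepb₀ : IsSeparated ((J b₀).subschemeι ≫ f') := hsepb b₀ le_rfl
  have hX₀c : CompactSpace (J b₀).subscheme := hC (op b₀)
  have hX₀q : QuasiSeparatedSpace (J b₀).subscheme := hQS (op b₀)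
  obtain ⟨n, X'', π, jP, hjPimm, hjPq, hπp, hπs⟩ := chow_qcqs ((J b₀).subschemeι ≫ f')
  have hX''c : CompactSpace X'' := QuasiCompact.compactSpace_of_compactSpace π
  have hX''q : QuasiSeparatedSpace X'' := quasiSeparatedSpace_of_quasiSeparated π
  have hPq : QuasiSeparatedSpace (CohB1.ProjSpaceOver n S) :=
    quasiSeparatedSpace_of_quasiSeparated (CohB1.ProjSpaceOver.toBase n S)
  have hPc : CompactSpace (CohB1.ProjSpaceOver n S) :=
    QuasiCompact.compactSpace_of_compactSpace (CohB1.ProjSpaceOver.toBase n S)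
  have hjPqc : QuasiCompact jP := inferInstance
  let ρ : X'' ⟶ X' := π ≫ (J b₀).subschemeι
  have hρp : IsProper ρ := inferInstanceAs (IsProper (π ≫ (J b₀).subschemeι))
  have hρ : jP ≫ CohB1.ProjSpaceOver.toBase n S = ρ ≫ f' := by
    rw [hjPq, Category.assoc]
  let L : I → X''.IdealSheafData := fun b => (J b).comap ρ
  have hL : Monotone L := fun b b' h => comap_mono ρ (hJ h)
  have hLsup : (⨆ b, L b) = (⨆ b, J b).comap ρ := ((map_gc ρ).l_iSup).symm
  -- the maps `V(L b) ⟶ V(J b)`
  have hσ : ∀ K : X'.IdealSheafData, ∃ σ : (K.comap ρ).subscheme ⟶ K.subscheme,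
      IsProper σ ∧ σ ≫ K.subschemeι = (K.comap ρ).subschemeι ≫ ρ := by
    intro K
    refine ⟨(K.comapIso ρ).hom ≫ pullback.snd ρ K.subschemeι, inferInstance, ?_⟩
    rw [Category.assoc, ← pullback.condition, comapIso_hom_fst_assoc]
  -- the supremum is closed in projective space
  have hcl : IsClosedImmersion ((⨆ b, L b).subschemeι ≫ jP) := by
    rw [hLsup]
    obtain ⟨σ, hσp, hσι⟩ := hσ (⨆ b, J b)
    have h1 : (((⨆ b, J b).comap ρ).subschemeι ≫ jP) ≫ CohB1.ProjSpaceOver.toBase n S =
        σ ≫ (⨆ b, J b).subschemeι ≫ f' := by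
      rw [Category.assoc, hρ, ← Category.assoc, ← hσι, Category.assoc]
    have h2 : IsProper ((((⨆ b, J b).comap ρ).subschemeι ≫ jP) ≫
        CohB1.ProjSpaceOver.toBase n S) := by
      rw [h1]; infer_instance
    have h3 : IsProper (((⨆ b, J b).comap ρ).subschemeι ≫ jP) :=
      IsProper.of_comp _ (CohB1.ProjSpaceOver.toBase n S)
    exact IsClosedImmersion.of_isPreimmersion _
      (((⨆ b, J b).comap ρ).subschemeι ≫ jP).isClosedMap.isClosed_range
  obtain ⟨b₁, hb₁⟩ := exists_isClosedImmersion_comp_of_iSup jP L hL hcl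
  obtain ⟨b₂, hb₂0, hb₂1⟩ := exists_ge_ge b₀ b₁
  refine ⟨b₂, fun b hb => ?_⟩
  have hb0 : b₀ ≤ b := hb₂0.trans hb
  have hb1 : b₁ ≤ b := hb₂1.trans hb
  have hsep := hsepb b hb0
  obtain ⟨σ, hσp, hσι⟩ := hσ (J b)
  -- `V(L b) ⟶ P^n_S` is a closed immersion
  have hclb : IsClosedImmersion ((L b).subschemeι ≫ jP) := by
    have : (L b).subschemeι ≫ jP = inclusion (hL hb1) ≫ (L b₁).subschemeι ≫ jP := by
      rw [inclusion_subschemeι_assoc]
    rw [this]
    infer_instance
  -- `σ` is surjective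
  have hσs : Surjective σ := by
    refine ⟨fun y => ?_⟩
    have hy : (J b).subschemeι y ∈ ((J b₀).support : Set X') := by
      have h1 : (J b).subschemeι y ∈ ((J b).support : Set X') := by
        rw [← range_subschemeι]; exact ⟨y, rfl⟩
      exact support_antitone (hJ hb0) h1
    rw [← range_subschemeι] at hy
    obtain ⟨y₀, hy₀⟩ := hy
    obtain ⟨x'', rfl⟩ := π.surjective y₀
    have hx'' : x'' ∈ ((L b).support : Set X'') := by
      change x'' ∈ (((J b).comap ρ).support : Set X'')
      rw [support_comap]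
      change ρ x'' ∈ ((J b).support : Set X')
      rw [← range_subschemeι]
      refine ⟨y, ?_⟩
      rw [← hy₀]
      rfl
    rw [← range_subschemeι] at hx''
    obtain ⟨w, hw⟩ := hx''
    refine ⟨w, (J b).subschemeι.isClosedEmbedding.injective ?_⟩
    rw [← Scheme.Hom.comp_apply, hσι, Scheme.Hom.comp_apply]
    change ρ ((L b).subschemeι w) = _
    rw [hw, ← hy₀]
    rfl
  have huc : UniversallyClosed ((J b).subschemeι ≫ f') := by
    have hclb' : IsClosedImmersion (((J b).comap ρ).subschemeι ≫ jP) := hclb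
    have h1 : σ ≫ (J b).subschemeι ≫ f' =
        (((J b).comap ρ).subschemeι ≫ jP) ≫ CohB1.ProjSpaceOver.toBase n S := by
      rw [Category.assoc, hρ, ← Category.assoc ((J b).comap ρ).subschemeι, ← hσι, Category.assoc]
    have : UniversallyClosed (σ ≫ (J b).subschemeι ≫ f') := by
      rw [h1]; infer_instance
    exact UniversallyClosed.of_comp_surjective σ _
  exact { }

end Groth.Agent.Lib.Helper1.Chow
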