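import Groth.Agent.Lib.Helper1.AbsImg
import Groth.Agent.Lib.Helper1.ChowProper4

/-!
# Eventually the scheme-theoretic images are proper over the stages (helper1)
-/

set_option autoImplicit false
set_option linter.unusedSectionVars false
set_option linter.style.haveILetI false
universe u

namespace Groth.Agent.Lib.Helper1.Abs

open AlgebraicGeometry CategoryTheory CategoryTheory.Limits TopologicalSpace Opposite
open Scheme.IdealSheafData
open Groth.Agent.Lib.Helper1.NA Groth.Agent.Lib.Helper1.Chow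

section

variable {B : Type u} [Preorder B] [IsDirected B (fun a b => a ≤ b)] [Nonempty B]
  (DY DS : Bᵒᵖ ⥤ Scheme.{u}) (ψ : DY ⟶ DS) (cY : Cone DY) (hcY : IsLimit cY)
  (cS : Cone DS) (hcS : IsLimit cS)
  (haffY : ∀ (i j : Bᵒᵖ) (a : i ⟶ j), IsAffineHom (DY.map a))
  (haffS : ∀ (i j : Bᵒᵖ) (a : i ⟶ j), IsAffineHom (DS.map a))
  (f' : cY.pt ⟶ cS.pt)
  (hsq : ∀ {b b' : Bᵒᵖ} (a : b ⟶ b'), IsPullback (DY.map a) (ψ.app b) (ψ.app b') (DS.map a))
  (hsqlim : ∀ b : Bᵒᵖ, IsPullback (coneLeg DY cY b) f' (ψ.app b) (coneLeg DS cS b))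
  {X : Scheme.{u}} (ι : X ⟶ cY.pt) [IsClosedImmersion ι] (f : X ⟶ cS.pt) [IsProper f]
  (hf : ι ≫ f' = f)
  [CompactSpace cS.pt] [QuasiSeparatedSpace cS.pt] [CompactSpace cY.pt]
  [QuasiSeparatedSpace cY.pt] [LocallyOfFiniteType f']
  [∀ b, CompactSpace (DS.obj b)] [∀ b, QuasiSeparatedSpace (DS.obj b)]
  [∀ b, CompactSpace (DY.obj b)] [∀ b, QuasiSeparatedSpace (DY.obj b)]
  [∀ b, LocallyOfFiniteType (ψ.app b)]
  (hqc : ∀ b : Bᵒᵖ, QuasiCompact (ι ≫ coneLeg DY cY b))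

include hcY haffY hsqlim hf in
/-- Step 1: the base change of some image `W_b` to `S` is proper over `S`. -/
theorem exists_isProper_baseChange :
    ∃ (b₂ : B) (V : Scheme.{u}) (qX : V ⟶ imgW DY cY ι (op b₂)) (g : V ⟶ cS.pt),
      IsPullback qX g (imgι DY cY ι (op b₂) ≫ ψ.app (op b₂)) (coneLeg DS cS (op b₂)) ∧
        IsProper g := by
  let J : B → cY.pt.IdealSheafData := fun b =>
    ((ι ≫ coneLeg DY cY (op b)).ker).comap (coneLeg DY cY (op b))
  have hJeq : J = Jb DY cY ι.ker := funext fun b => by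
    change _ = (ι.ker.map (coneLeg DY cY (op b))).comap (coneLeg DY cY (op b))
    rw [Scheme.IdealSheafData.map_ker]
  have hJmono : Monotone J := by
    rw [hJeq]; exact fun b b' h => Jb_mono DY cY ι.ker h
  have hJsup : (⨆ b, J b) = ι.ker := by
    rw [hJeq]; exact iSup_Jb DY cY hcY haffY ι.ker
  obtain ⟨b₂, hb₂⟩ := exists_isProper_subscheme f f' ι hf J hJmono hJsup
  have hp := hb₂ b₂ le_rfl
  let πb : cY.pt ⟶ DY.obj (op b₂) := coneLeg DY cY (op b₂)
  let Kb : (DY.obj (op b₂)).IdealSheafData := (ι ≫ πb).ker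
  let Zf : (Kb.comap πb).subscheme ⟶ Kb.subscheme :=
    Scheme.IdealSheafData.subschemeMap _ _ πb (Kb.le_map_comap πb)
  have h1 : IsPullback (Kb.comap πb).subschemeι Zf πb Kb.subschemeι :=
    isPullback_of_isClosedImmersion _ _ _ _
      (Scheme.IdealSheafData.subschemeMap_subschemeι _ _ _ _).symm
      (by rw [Scheme.IdealSheafData.ker_subschemeι, Scheme.IdealSheafData.ker_subschemeι])
  have h2 := h1.flip.paste_vert (hsqlim (op b₂))
  exact ⟨b₂, (Kb.comap πb).subscheme, Zf, (Kb.comap πb).subschemeι ≫ f', h2, hp⟩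

include hcY hcS haffY haffS hsq hsqlim hf hqc in
set_option maxHeartbeats 1600000 in
/-- Eventually the scheme-theoretic images are proper over the stages. -/
theorem exists_isProper_img :
    ∃ b₃ : B, ∀ b : B, b₃ ≤ b → IsProper (imgι DY cY ι (op b) ≫ ψ.app (op b)) := by
  obtain ⟨b₂, V, qX, g, hV, hg⟩ :=
    exists_isProper_baseChange DY DS ψ cY hcY cS haffY f' hsqlim ι f hf
  haveI : ∀ (i j : Bᵒᵖ) (a : i ⟶ j), IsAffineHom (DS.map a) := haffS
  let W₂ : Scheme.{u} := imgW DY cY ι (op b₂)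
  let f₀ : W₂ ⟶ DS.obj (op b₂) := imgι DY cY ι (op b₂) ≫ ψ.app (op b₂)
  haveI : CompactSpace W₂ := QuasiCompact.compactSpace_of_compactSpace (imgι DY cY ι (op b₂))
  haveI : QuasiSeparatedSpace W₂ := quasiSeparatedSpace_of_quasiSeparated (imgι DY cY ι (op b₂))
  haveI : LocallyOfFiniteType f₀ := by
    change LocallyOfFiniteType (imgι DY cY ι (op b₂) ≫ ψ.app (op b₂)); infer_instance
  have hY : IsPullback (coneLeg DS cS (op b₂)) (𝟙 cS.pt) (𝟙 (DS.obj (op b₂)))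
      (coneLeg DS cS (op b₂)) :=
    IsPullback.of_vert_isIso ⟨by simp⟩
  obtain ⟨i, φ, Xi, Yi, fi, gi, pY, pX, h1, h2, hfi⟩ :=
    exists_isProper_descend DS cS hcS (op b₂) f₀ (𝟙 _) g (𝟙 _) (coneLeg DS cS (op b₂)) qX hY hV
  haveI : IsIso gi := h1.isIso_snd_of_isIso
  have hP3 : IsPullback pX (fi ≫ gi) f₀ (DS.map φ) := by
    have := h2.paste_vert h1
    rwa [Category.comp_id] at this
  have hprop3 : IsProper (fi ≫ gi) := inferInstance
  refine ⟨i.unop, fun b hb => ?_⟩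
  let a₃ : op b ⟶ i := (homOfLE hb).op
  let a₂ : op b ⟶ op b₂ := a₃ ≫ φ
  -- the base change `P` of `W₂` to `S_b`
  let P : Scheme.{u} := pullback f₀ (DS.map a₂)
  let p1 : P ⟶ W₂ := pullback.fst f₀ (DS.map a₂)
  let p2 : P ⟶ DS.obj (op b) := pullback.snd f₀ (DS.map a₂)
  have hP : IsPullback p1 p2 f₀ (DS.map a₂) := IsPullback.of_hasPullback _ _
  have hmap : DS.map a₂ = DS.map a₃ ≫ DS.map φ := DS.map_comp a₃ φ
  let l : P ⟶ Xi := hP3.lift p1 (p2 ≫ DS.map a₃) (by rw [Category.assoc, ← hmap]; exact hP.w)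
  have hl1 : l ≫ pX = p1 := hP3.lift_fst _ _ _
  have hl2 : l ≫ (fi ≫ gi) = p2 ≫ DS.map a₃ := hP3.lift_snd _ _ _
  have hbig : IsPullback (l ≫ pX) p2 f₀ (DS.map a₃ ≫ DS.map φ) := by
    rw [hl1, ← hmap]; exact hP
  have hleft : IsPullback l p2 (fi ≫ gi) (DS.map a₃) := IsPullback.of_right hbig hl2 hP3
  have hp2 : IsProper p2 := MorphismProperty.of_isPullback hleft hprop3
  -- the closed immersion `W_b ⟶ P`
  have hqc' := hqc
  have hnat : DY.map a₂ ≫ ψ.app (op b₂) = ψ.app (op b) ≫ DS.map a₂ := ψ.naturality a₂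
  let k : imgW DY cY ι (op b) ⟶ P :=
    pullback.lift (imgMap DY cY ι hqc a₂) (imgι DY cY ι (op b) ≫ ψ.app (op b)) (by
      change imgMap DY cY ι hqc a₂ ≫ imgι DY cY ι (op b₂) ≫ ψ.app (op b₂) = _
      rw [imgMap_ι_assoc, hnat, Category.assoc])
  have hk1 : k ≫ p1 = imgMap DY cY ι hqc a₂ := pullback.lift_fst _ _ _
  have hk2 : k ≫ p2 = imgι DY cY ι (op b) ≫ ψ.app (op b) := pullback.lift_snd _ _ _
  let q : P ⟶ DY.obj (op b) := (hsq a₂).lift (p1 ≫ imgι DY cY ι (op b₂)) p2 (by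
    rw [Category.assoc]; exact hP.w)
  have hq1 : q ≫ DY.map a₂ = p1 ≫ imgι DY cY ι (op b₂) := (hsq a₂).lift_fst _ _ _
  have hq2 : q ≫ ψ.app (op b) = p2 := (hsq a₂).lift_snd _ _ _
  have hkq : k ≫ q = imgι DY cY ι (op b) := by
    refine (hsq a₂).hom_ext ?_ ?_
    · rw [Category.assoc, hq1, ← Category.assoc, hk1, imgMap_ι]
    · rw [Category.assoc, hq2, hk2]
  haveI : IsSeparated (q ≫ ψ.app (op b)) := by rw [hq2]; infer_instance
  haveI : IsSeparated q := IsSeparated.of_comp q (ψ.app (op b))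
  haveI : IsClosedImmersion (k ≫ q) := by rw [hkq]; infer_instance
  haveI : IsClosedImmersion k := IsClosedImmersion.of_comp k q
  rw [← hk2]
  infer_instance

end

end Groth.Agent.Lib.Helper1.Abs
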