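import Groth.Agent.Lib.Helper1.AffDefObsC
import Groth.Agent.Lib.Helper1.AffDefFlat
import Groth.Agent.Lib.Helper1.AffDef
import Groth.Agent.Lib.Helper1.ArtFunSmall

/-!
# Unobstructedness of affine schemes with `T² = 0` (helper1)

* `exists_lift_algDef`: under `ET2` for a presentation of `B₀`, every algebraic deformation over `A` lifts along a small
  extension `A' → A`.
* `surjective_defFunctor_map_of_ET2`: the map `Def(A') → Def(A)` is surjective.
-/

universe u
open CategoryTheory CategoryTheory.Limits AlgebraicGeometry TensorProduct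
open ArtFun ArtFun.Art

namespace Groth.Agent.Lib.Helper1.AffDef

variable {Λ k : Type u} [CommRing Λ] [Field k] [Algebra Λ k]
  {B₀ : Type u} [CommRing B₀] [Algebra k B₀] {ι σ : Type u}

section Small

variable {A' A : Art Λ k} (p : A' ⟶ A) (hp : Art.IsSmallExt p)

include hp in
lemma small_data : ∃ t : A', RingHom.ker p.toAlgHom.toRingHom = Ideal.span {t} ∧
    (∀ m ∈ IsLocalRing.maximalIdeal A', m * t = 0) ∧
    (∀ a : A', a * t = 0 → a ∈ IsLocalRing.maximalIdeal A') ∧ t ∈ IsLocalRing.maximalIdeal A' := by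
  obtain ⟨hsurj, hne, ⟨t, ht⟩, hm⟩ := hp
  have ht' : RingHom.ker p.toAlgHom = Ideal.span {t} := ht
  have htker : t ∈ RingHom.ker p.toAlgHom := by rw [ht']; exact Ideal.subset_span rfl
  refine ⟨t, ht', ?_, ?_, ?_⟩
  · intro m hm'
    have : m * t ∈ IsLocalRing.maximalIdeal A' * RingHom.ker p.toAlgHom := Ideal.mul_mem_mul hm' htker
    rw [hm] at this
    exact this
  · intro a ha
    by_contra hna
    have hu : IsUnit a := by
      rw [IsLocalRing.mem_maximalIdeal, mem_nonunits_iff, not_not] at hna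
      exact hna
    have ht0 : t = 0 := hu.mul_right_eq_zero.mp ha
    apply hne
    rw [ht', ht0]
    simp
  · rw [Art.mem_maximalIdeal_iff, ← Art.res_app p]
    have : p t = 0 := htker
    rw [this, map_zero]

end Small

section Main

variable (P : Algebra.Presentation k B₀ ι σ)
  (hET : ET2 (CotT.rel P) (algebraMap P.toExtension.Ring B₀))
  {A' A : Art Λ k} (p : A' ⟶ A) (hp : Art.IsSmallExt p) (𝔅 : AlgDef B₀ A)

include hET hp in
/-- Under `ET2`, algebraic deformations lift along small extensions. -/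
theorem exists_lift_algDef :
    ∃ (𝔅' : AlgDef B₀ A') (θ : 𝔅'.B →+* 𝔅.B), (∀ b, 𝔅.π (θ b) = 𝔅'.π b) ∧
      IsPushout (CommRingCat.ofHom p.toAlgHom.toRingHom) (CommRingCat.ofHom (algebraMap A' 𝔅'.B))
        (CommRingCat.ofHom (algebraMap A 𝔅.B)) (CommRingCat.ofHom θ) := by
  classical
  obtain ⟨t, hkg, ht, hann, htm⟩ := small_data p hp
  have hg : Function.Surjective p.toAlgHom.toRingHom := hp.1
  have hgm : ∀ a : A', p.toAlgHom.toRingHom a ∈ IsLocalRing.maximalIdeal A ↔
      a ∈ IsLocalRing.maximalIdeal A' := by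
    intro a
    rw [Art.mem_maximalIdeal_iff, Art.mem_maximalIdeal_iff]
    have : A.res (p.toAlgHom.toRingHom a) = A'.res a := Art.res_app p a
    rw [this]
  have hmap𝔪 : (IsLocalRing.maximalIdeal A').map p.toAlgHom.toRingHom = IsLocalRing.maximalIdeal A := by
    apply le_antisymm
    · rw [Ideal.map_le_iff_le_comap]
      intro a ha
      exact (hgm a).2 ha
    · intro x hx
      obtain ⟨a, rfl⟩ := hg x
      exact Ideal.mem_map_of_mem _ ((hgm a).1 hx)
  -- Part I
  let red : MvPolynomial ι A →+* P.toExtension.Ring := MvPolynomial.map (A.res : A →+* k)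
  have hred : Function.Surjective red := MvPolynomial.map_surjective _ A.res_surjective
  have hkred : RingHom.ker red = (IsLocalRing.maximalIdeal A).map (algebraMap A (MvPolynomial ι A)) := by
    change RingHom.ker (MvPolynomial.map (A.res : A →+* k)) = _
    rw [MvPolynomial.ker_map, AlgDef.ker_res, MvPolynomial.algebraMap_eq]
  choose y hy using fun i => 𝔅.surj (P.val i)
  let ev : MvPolynomial ι A →ₐ[A] 𝔅.B := MvPolynomial.aeval y
  let ev₀ : P.toExtension.Ring →+* B₀ := algebraMap P.toExtension.Ring B₀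
  have hev₀ : Function.Surjective ev₀ := P.toExtension.algebraMap_surjective
  have hf : RingHom.ker ev₀ = Ideal.span (Set.range (CotT.rel P)) := P.span_range_relation_eq_ker.symm
  have hcomp' : 𝔅.π.comp ev.toRingHom = ev₀.comp red := by
    apply MvPolynomial.ringHom_ext
    · intro a
      change 𝔅.π (MvPolynomial.aeval y (MvPolynomial.C a)) =
        algebraMap P.Ring B₀ (MvPolynomial.map (A.res : A →+* k) (MvPolynomial.C a))
      rw [MvPolynomial.aeval_C, 𝔅.comm, MvPolynomial.map_C, Algebra.Generators.algebraMap_apply,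
        MvPolynomial.aeval_C]
      rfl
    · intro i
      change 𝔅.π (MvPolynomial.aeval y (MvPolynomial.X i)) =
        algebraMap P.Ring B₀ (MvPolynomial.map (A.res : A →+* k) (MvPolynomial.X i))
      rw [MvPolynomial.aeval_X, hy, MvPolynomial.map_X, Algebra.Generators.algebraMap_apply,
        MvPolynomial.aeval_X]
  have hcomp : ∀ x, 𝔅.π (ev x) = ev₀ (red x) := fun x => congrArg (fun m => m x) hcomp'
  have hnil := isNilpotent_maximalIdeal A
  have hkπ := 𝔅.ker_eq
  have hπ := 𝔅.surj
  have hev := ev_surjective (IsLocalRing.maximalIdeal A) hnil ev red 𝔅.π ev₀ hred hπ hkπ hev₀ hcomp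
  choose F hFred hFev using fun s =>
    exists_lift_gen (IsLocalRing.maximalIdeal A) hnil ev red 𝔅.π ev₀ hred hkred hπ hkπ hev₀ hcomp (CotT.rel P) hf s
  have hkev := ker_ev_eq (IsLocalRing.maximalIdeal A) hnil ev red 𝔅.π ev₀ hred hkred hπ hkπ hev₀ hcomp
    (CotT.rel P) hf F hFred hFev
  have hET' : ET2 F (ev₀.comp red) := by
    refine ET2.lift red hred F (CotT.rel P) hFred ev₀ ?_ ?_ hET
    · intro r₀ hr₀
      exact exists_rel_lift (IsLocalRing.maximalIdeal A) hnil ev red 𝔅.π ev₀ hred hkred hπ hkπ hev₀ hcomp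
        (CotT.rel P) hf F hFred hFev r₀ hr₀
    · intro r hr hr0 φ hφ
      refine rel_ker (IsLocalRing.maximalIdeal A) hnil ev red 𝔅.π ev₀ hred hkred hπ hkπ hev₀ hcomp
        (CotT.rel P) hf F hFred hFev r hr hr0 φ ?_
      intro a ha ρ
      rw [hφ]
      have : red (algebraMap A (MvPolynomial ι A) a) = 0 := by
        rw [← RingHom.mem_ker, hkred]
        exact Ideal.mem_map_of_mem _ ha
      rw [this, map_zero, zero_mul]
  -- Lemma C
  have hG : Function.Surjective (MvPolynomial.map p.toAlgHom.toRingHom :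
      MvPolynomial ι A' →+* MvPolynomial ι A) := MvPolynomial.map_surjective _ hg
  have hεF : ∀ s, (ev₀.comp red) (F s) = 0 := by
    intro s
    change ev₀ (red (F s)) = 0
    rw [hFred, ← RingHom.mem_ker, hf]
    exact Ideal.subset_span ⟨s, rfl⟩
  have hredG : ∀ w ∈ (IsLocalRing.maximalIdeal A').map (MvPolynomial.C : A' →+* MvPolynomial ι A'),
      red (MvPolynomial.map p.toAlgHom.toRingHom w) = 0 := by
    intro w hw
    have h1 : (IsLocalRing.maximalIdeal A').map (MvPolynomial.C : A' →+* MvPolynomial ι A') ≤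
        RingHom.ker (red.comp (MvPolynomial.map p.toAlgHom.toRingHom)) := by
      rw [Ideal.map_le_iff_le_comap]
      intro m hm
      rw [Ideal.mem_comap, RingHom.mem_ker]
      change red (MvPolynomial.map p.toAlgHom.toRingHom (MvPolynomial.C m)) = 0
      rw [MvPolynomial.map_C, ← RingHom.mem_ker, hkred, MvPolynomial.algebraMap_eq]
      exact Ideal.mem_map_of_mem _ ((hgm m).2 hm)
    exact h1 hw
  have hε𝔪 : ∀ w ∈ (IsLocalRing.maximalIdeal A').map (MvPolynomial.C : A' →+* MvPolynomial ι A'),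
      (ev₀.comp red) (MvPolynomial.map p.toAlgHom.toRingHom w) = 0 := by
    intro w hw
    change ev₀ (red _) = 0
    rw [hredG w hw, map_zero]
  have hε : Function.Surjective (ev₀.comp red) := hev₀.comp hred
  have hkε : ∀ z, (ev₀.comp red) z = 0 → ∃ (c : σ →₀ MvPolynomial ι A) (w : MvPolynomial ι A'),
      w ∈ (IsLocalRing.maximalIdeal A').map (MvPolynomial.C : A' →+* MvPolynomial ι A') ∧
        z = Finsupp.linearCombination _ F c + MvPolynomial.map p.toAlgHom.toRingHom w := by
    intro z hz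
    have h1 : red z ∈ Ideal.span (Set.range (CotT.rel P)) := by
      rw [← hf, RingHom.mem_ker]
      exact hz
    obtain ⟨c₀, hc₀⟩ := (Finsupp.mem_ideal_span_range_iff_exists_finsupp).1 h1
    obtain ⟨c, rfl⟩ := exists_finsupp_lift red hred c₀
    have h2 : red (Finsupp.linearCombination _ F c) = red z := by
      rw [red_linearCombination red F (CotT.rel P) hFred, ← hc₀]
      rfl
    have h3 : z - Finsupp.linearCombination _ F c ∈
        (IsLocalRing.maximalIdeal A).map (algebraMap A (MvPolynomial ι A)) := by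
      rw [← hkred, RingHom.mem_ker, map_sub, h2, sub_self]
    have h4 : (IsLocalRing.maximalIdeal A).map (algebraMap A (MvPolynomial ι A)) =
        ((IsLocalRing.maximalIdeal A').map (MvPolynomial.C : A' →+* MvPolynomial ι A')).map
          (MvPolynomial.map p.toAlgHom.toRingHom) := by
      rw [Ideal.map_map, MvPolynomial.algebraMap_eq, ← hmap𝔪, Ideal.map_map]
      congr 1
      ext a
      simp
    rw [h4] at h3
    obtain ⟨w, hw, hwz⟩ := (Ideal.mem_map_iff_of_surjective _ hG).1 h3
    refine ⟨c, w, hw, ?_⟩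
    rw [hwz]
    ring
  obtain ⟨F'', hF'', hkey⟩ := exists_lift_relations (g := p.toAlgHom.toRingHom) (hg := hg) (t := t) (hkg := hkg)
    (𝔪' := IsLocalRing.maximalIdeal A') (hann := hann) (htm := htm) (F := F) (ε := ev₀.comp red)
    (hεF := hεF) (hε𝔪 := hε𝔪) (hε := hε) (hkε := hkε) (hET := hET')
  -- the lifted algebra
  have hθker : ∀ x ∈ Ideal.span (Set.range F''),
      (ev.toRingHom.comp (MvPolynomial.map p.toAlgHom.toRingHom)) x = 0 := by
    intro x hx
    have h1 : Ideal.span (Set.range F'') ≤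
        RingHom.ker (ev.toRingHom.comp (MvPolynomial.map p.toAlgHom.toRingHom)) := by
      rw [Ideal.span_le]
      rintro _ ⟨s, rfl⟩
      change ev (MvPolynomial.map p.toAlgHom.toRingHom (F'' s)) = 0
      rw [hF'', hFev]
    exact h1 hx
  let θ : MvPolynomial ι A' ⧸ Ideal.span (Set.range F'') →+* 𝔅.B :=
    Ideal.Quotient.lift (Ideal.span (Set.range F'')) (ev.toRingHom.comp (MvPolynomial.map p.toAlgHom.toRingHom))
      hθker
  have hθmk : ∀ x, θ (Ideal.Quotient.mk _ x) = ev (MvPolynomial.map p.toAlgHom.toRingHom x) := fun x => rfl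
  have hθ : Function.Surjective θ :=
    Ideal.Quotient.lift_surjective_of_surjective _ _ (hev.comp hG)
  have halg : ∀ a : A', algebraMap A' (MvPolynomial ι A' ⧸ Ideal.span (Set.range F'')) a =
      Ideal.Quotient.mk _ (MvPolynomial.C a) := fun a => rfl
  have hθg : ∀ a : A', θ (algebraMap A' (MvPolynomial ι A' ⧸ Ideal.span (Set.range F'')) a) =
      algebraMap A 𝔅.B (p.toAlgHom.toRingHom a) := by
    intro a
    rw [halg, hθmk, MvPolynomial.map_C]
    exact MvPolynomial.aeval_C y _
  have hker : RingHom.ker θ ≤ (RingHom.ker p.toAlgHom.toRingHom).map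
      (algebraMap A' (MvPolynomial ι A' ⧸ Ideal.span (Set.range F''))) := by
    intro b hb
    obtain ⟨x, rfl⟩ := Ideal.Quotient.mk_surjective b
    rw [RingHom.mem_ker, hθmk] at hb
    have h1 : MvPolynomial.map p.toAlgHom.toRingHom x ∈ Ideal.span (Set.range F) := by
      rw [← hkev]
      exact hb
    obtain ⟨c, hc⟩ := (Finsupp.mem_ideal_span_range_iff_exists_finsupp).1 h1
    obtain ⟨c', rfl⟩ := exists_finsupp_lift _ hG c
    have h2 : MvPolynomial.map p.toAlgHom.toRingHom (x - Finsupp.linearCombination _ F'' c') = 0 := by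
      rw [map_sub, red_linearCombination _ F'' F hF'', sub_eq_zero, ← hc]
      rfl
    obtain ⟨u, hu⟩ := exists_eq_C_mul_of_map_eq_zero _ t hkg _ h2
    have h3 : Finsupp.linearCombination _ F'' c' ∈ Ideal.span (Set.range F'') := by
      rw [Finsupp.mem_ideal_span_range_iff_exists_finsupp]
      exact ⟨c', rfl⟩
    have h4 : Ideal.Quotient.mk (Ideal.span (Set.range F'')) x =
        algebraMap A' (MvPolynomial ι A' ⧸ Ideal.span (Set.range F'')) t * Ideal.Quotient.mk _ u := by
      rw [halg, ← map_mul, ← hu, map_sub, Ideal.Quotient.eq_zero_iff_mem.2 h3, sub_zero]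
    rw [h4]
    refine Ideal.mul_mem_right _ _ (Ideal.mem_map_of_mem _ ?_)
    rw [hkg]
    exact Ideal.mem_span_singleton_self t
  have hmapmk : ((IsLocalRing.maximalIdeal A').map (MvPolynomial.C : A' →+* MvPolynomial ι A')).map
      (Ideal.Quotient.mk (Ideal.span (Set.range F''))) =
      (IsLocalRing.maximalIdeal A').map (algebraMap A' (MvPolynomial ι A' ⧸ Ideal.span (Set.range F''))) := by
    rw [Ideal.map_map]
    rfl
  have hflat : Module.Flat A' (MvPolynomial ι A' ⧸ Ideal.span (Set.range F'')) := by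
    refine flat_of_small p.toAlgHom.toRingHom hg θ hθ hθg hker t hkg (IsLocalRing.maximalIdeal A') ht htm ?_
    intro b hb
    obtain ⟨x, rfl⟩ := Ideal.Quotient.mk_surjective b
    rw [Algebra.smul_def, halg, ← map_mul, Ideal.Quotient.eq_zero_iff_mem] at hb
    have h1 := hkey x hb
    obtain ⟨i, hi, m, hm, rfl⟩ := Submodule.mem_sup.1 h1
    rw [Ideal.smul_top_eq_map, Submodule.restrictScalars_mem, ← hmapmk, map_add,
      Ideal.Quotient.eq_zero_iff_mem.2 hi, zero_add]
    exact Ideal.mem_map_of_mem _ hm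
  have hkg𝔪 : RingHom.ker p.toAlgHom.toRingHom ≤ IsLocalRing.maximalIdeal A' := by
    rw [hkg, Ideal.span_singleton_le_iff_mem]
    exact htm
  let 𝔅' : AlgDef B₀ A' :=
    { B := MvPolynomial ι A' ⧸ Ideal.span (Set.range F'')
      flat := hflat
      π := 𝔅.π.comp θ
      comm := fun a => by
        change 𝔅.π (θ (algebraMap A' _ a)) = _
        rw [hθg, 𝔅.comm]
        congr 1
        exact Art.res_app p a
      surj := 𝔅.surj.comp hθ
      ker_le := by
        intro b hb
        have hb' : θ b ∈ RingHom.ker 𝔅.π := hb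
        rw [𝔅.ker_eq] at hb'
        have h1 : (IsLocalRing.maximalIdeal A).map (algebraMap A 𝔅.B) =
            ((IsLocalRing.maximalIdeal A').map
              (algebraMap A' (MvPolynomial ι A' ⧸ Ideal.span (Set.range F'')))).map θ := by
          rw [Ideal.map_map, ← hmap𝔪, Ideal.map_map]
          congr 1
          ext a
          exact (hθg a).symm
        rw [h1] at hb'
        obtain ⟨m, hm, hmb⟩ := (Ideal.mem_map_iff_of_surjective θ hθ).1 hb'
        have h2 : b - m ∈ RingHom.ker θ := by
          rw [RingHom.mem_ker, map_sub, hmb, sub_self]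
        have h3 := Ideal.map_mono (f := algebraMap A' (MvPolynomial ι A' ⧸ Ideal.span (Set.range F''))) hkg𝔪
          (hker h2)
        have : b = m + (b - m) := by ring
        rw [this]
        exact Ideal.add_mem _ hm h3 }
  refine ⟨𝔅', θ, fun b => rfl, ?_⟩
  exact isPushout_of_surjective p.toAlgHom.toRingHom (algebraMap A' 𝔅'.B) (algebraMap A 𝔅.B) θ hθg hg hθ hker

include hET hp in
/-- Under `ET2`, `Def(A') → Def(A)` is surjective for small extensions. -/
theorem surjective_defFunctor_map_of_ET2 :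
    Function.Surjective ((defFunctor (Λ := Λ) (Spec (CommRingCat.of B₀)) (x₀ (k := k) B₀)).map p) := by
  intro q
  obtain ⟨ξ, rfl⟩ : ∃ ξ : DefSch (Spec (CommRingCat.of B₀)) (x₀ (k := k) B₀) A, ξ.cl = q :=
    Quotient.exists_rep q
  obtain ⟨𝔅, ⟨i⟩⟩ := exists_algDef ξ
  obtain ⟨𝔅', θ, hπ, hpo⟩ := exists_lift_algDef P hET p hp 𝔅
  refine ⟨𝔅'.toDefSch.cl, ?_⟩
  rw [defFunctor_map_cl]
  exact Quotient.sound ⟨(AlgDef.baseChangeIso 𝔅' 𝔅 p θ hπ hpo).trans i.symm⟩

end Main

end Groth.Agent.Lib.Helper1.AffDef
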