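import Groth.Agent.Lib.Helper1.AffDefPres
import Groth.Prelude.Def_CotT

/-!
# The obstruction to lifting a flat deformation along a small extension (helper1)

* `ET2 F ε`: elementary form of `T² = 0` for a family of relations `F` and a coefficient map `ε`;
* `ET2.lift`: `ET2` passes from the closed fibre to a flat deformation (relations lift);
* `ET2_of_subsingleton_T2`: `T²(P, B₀) = 0` gives `ET2`;
* `exists_lift_relations`: under `ET2`, the relations `F_s` of a flat deformation lift along a small extension so that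
  `t y ∈ (F'') ⇒ y ∈ (F'') + 𝔪' R'`.
-/

universe u

open TensorProduct

namespace Groth.Agent.Lib.Helper1.AffDef

/-- Elementary `T² = 0`: every semilinear map on relations which kills the trivial relations is a combination. -/
def ET2 {S : Type*} [CommRing S] {σ : Type*} (F : σ → S) {B₀ : Type*} [CommRing B₀] (ε : S →+* B₀) : Prop :=
  ∀ φ : ↥(LinearMap.ker (Finsupp.linearCombination S F)) →+ B₀,
    (∀ (a : S) r, φ (a • r) = ε a * φ r) →
    (∀ (a b : σ →₀ S) (h : Finsupp.linearCombination S F a • b - Finsupp.linearCombination S F b • a ∈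
      LinearMap.ker (Finsupp.linearCombination S F)), φ ⟨_, h⟩ = 0) →
    ∃ h : σ → B₀, ∀ r : ↥(LinearMap.ker (Finsupp.linearCombination S F)),
      φ r = (r : σ →₀ S).sum fun s c => ε c * h s

section Lift

variable {R R₀ : Type*} [CommRing R] [CommRing R₀] (red : R →+* R₀) (hred : Function.Surjective red)
  {σ : Type*} (F : σ → R) (f : σ → R₀) (hF : ∀ s, red (F s) = f s) {B₀ : Type*} [CommRing B₀] (ε₀ : R₀ →+* B₀)

lemma mapRange_smul' (a : R) (r : σ →₀ R) :
    Finsupp.mapRange red (map_zero red) (a • r) = red a • Finsupp.mapRange red (map_zero red) r := by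
  ext s
  simp

include hred hF in
/-- `ET2` lifts from the closed fibre when relations lift. -/
theorem ET2.lift
    (hlift : ∀ r₀ : σ →₀ R₀, Finsupp.linearCombination R₀ f r₀ = 0 →
      ∃ r : σ →₀ R, Finsupp.mapRange red (map_zero red) r = r₀ ∧ Finsupp.linearCombination R F r = 0)
    (hker : ∀ (r : σ →₀ R) (hr : Finsupp.linearCombination R F r = 0),
      Finsupp.mapRange red (map_zero red) r = 0 →
      ∀ φ : ↥(LinearMap.ker (Finsupp.linearCombination R F)) →+ B₀,
        (∀ a ρ, φ (a • ρ) = ε₀ (red a) * φ ρ) → φ ⟨r, hr⟩ = 0)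
    (h₀ : ET2 f ε₀) : ET2 F (ε₀.comp red) := by
  intro φ hsemi htriv
  have hsemi' : ∀ a ρ, φ (a • ρ) = ε₀ (red a) * φ ρ := hsemi
  -- master fact
  have MF : ∀ r r' : ↥(LinearMap.ker (Finsupp.linearCombination R F)),
      Finsupp.mapRange red (map_zero red) (r : σ →₀ R) = Finsupp.mapRange red (map_zero red) (r' : σ →₀ R) →
      φ r = φ r' := by
    intro r r' h
    have h1 : Finsupp.mapRange red (map_zero red) ((r - r' : ↥(LinearMap.ker (Finsupp.linearCombination R F))) : σ →₀ R)
        = 0 := by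
      change Finsupp.mapRange red (map_zero red) ((r : σ →₀ R) - (r' : σ →₀ R)) = 0
      rw [Finsupp.mapRange_sub (map_sub red), h, sub_self]
    have h2 := hker _ (r - r').2 h1 φ hsemi'
    have h3 : φ (r - r') = 0 := h2
    have h4 : φ (r - r') = φ r - φ r' := map_sub φ r r'
    rw [h4, sub_eq_zero] at h3
    exact h3
  -- the chosen lifts
  let lft : ↥(LinearMap.ker (Finsupp.linearCombination R₀ f)) → ↥(LinearMap.ker (Finsupp.linearCombination R F)) :=
    fun r₀ => ⟨(hlift r₀.1 r₀.2).choose, (hlift r₀.1 r₀.2).choose_spec.2⟩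
  have hlft : ∀ r₀, Finsupp.mapRange red (map_zero red) ((lft r₀ : ↥(LinearMap.ker (Finsupp.linearCombination R F))) : σ →₀ R)
      = (r₀ : σ →₀ R₀) := fun r₀ => (hlift r₀.1 r₀.2).choose_spec.1
  let φ₀ : ↥(LinearMap.ker (Finsupp.linearCombination R₀ f)) →+ B₀ :=
    AddMonoidHom.mk' (fun r₀ => φ (lft r₀)) (fun x y => by
      rw [← map_add]
      apply MF
      rw [hlft]
      change _ = Finsupp.mapRange red (map_zero red) ((lft x : σ →₀ R) + (lft y : σ →₀ R))
      rw [Finsupp.mapRange_add (map_add red), hlft, hlft]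
      rfl)
  have hφ₀ : ∀ r : ↥(LinearMap.ker (Finsupp.linearCombination R F)),
      ∀ r₀ : ↥(LinearMap.ker (Finsupp.linearCombination R₀ f)),
      Finsupp.mapRange red (map_zero red) (r : σ →₀ R) = (r₀ : σ →₀ R₀) → φ₀ r₀ = φ r := by
    intro r r₀ h
    change φ (lft r₀) = φ r
    apply MF
    rw [hlft, h]
  have hs0 : ∀ (a₀ : R₀) (r₀ : ↥(LinearMap.ker (Finsupp.linearCombination R₀ f))),
      φ₀ (a₀ • r₀) = ε₀ a₀ * φ₀ r₀ := by
    intro a₀ r₀
    obtain ⟨a, rfl⟩ := hred a₀
    have h1 := hφ₀ (a • lft r₀) (red a • r₀) (by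
      change Finsupp.mapRange red (map_zero red) (a • (lft r₀ : σ →₀ R)) = red a • (r₀ : σ →₀ R₀)
      rw [mapRange_smul', hlft])
    rw [h1, hsemi']
    rfl
  have ht0 : ∀ (a₀ b₀ : σ →₀ R₀) (h : Finsupp.linearCombination R₀ f a₀ • b₀ -
      Finsupp.linearCombination R₀ f b₀ • a₀ ∈ LinearMap.ker (Finsupp.linearCombination R₀ f)),
      φ₀ ⟨_, h⟩ = 0 := by
    intro a₀ b₀ h
    obtain ⟨a, rfl⟩ := exists_finsupp_lift red hred a₀
    obtain ⟨b, rfl⟩ := exists_finsupp_lift red hred b₀
    have hmem : Finsupp.linearCombination R F a • b - Finsupp.linearCombination R F b • a ∈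
        LinearMap.ker (Finsupp.linearCombination R F) := by
      rw [LinearMap.mem_ker, map_sub, map_smul, map_smul, smul_eq_mul, smul_eq_mul, mul_comm, sub_self]
    have h1 := hφ₀ ⟨_, hmem⟩ ⟨_, h⟩ (by
      change Finsupp.mapRange red (map_zero red)
        (Finsupp.linearCombination R F a • b - Finsupp.linearCombination R F b • a) = _
      rw [Finsupp.mapRange_sub (map_sub red), mapRange_smul', mapRange_smul',
        red_linearCombination red F f hF, red_linearCombination red F f hF])
    rw [h1]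
    exact htriv a b hmem
  obtain ⟨h, hh⟩ := h₀ φ₀ hs0 ht0
  refine ⟨h, fun r => ?_⟩
  have hr₀ : Finsupp.linearCombination R₀ f (Finsupp.mapRange red (map_zero red) (r : σ →₀ R)) = 0 := by
    rw [← red_linearCombination red F f hF, r.2, map_zero]
  have := hφ₀ r ⟨_, hr₀⟩ rfl
  rw [← this, hh]
  change (Finsupp.mapRange red (map_zero red) (r : σ →₀ R)).sum _ = _
  rw [Finsupp.sum_mapRange_index (by intro s; simp)]
  rfl

end Lift


section LemmaA

variable {k : Type*} {B₀ : Type*} {ι σ : Type*} [CommRing k] [CommRing B₀] [Algebra k B₀]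
  (P : Algebra.Presentation k B₀ ι σ)

open CotT in
/-- `T²(P, B₀) = 0` in elementary form. -/
theorem ET2_of_subsingleton_T2 (hT2 : Subsingleton (CotT.T2 P B₀)) :
    ET2 (CotT.rel P) (algebraMap P.toExtension.Ring B₀) := by
  change ∀ φ : ↥(relKer P) →+ B₀,
    (∀ (a : P.toExtension.Ring) (r : relKer P), φ (a • r) = algebraMap P.toExtension.Ring B₀ a * φ r) →
    (∀ (a b : relMod P) (h : jmap P a • b - jmap P b • a ∈ relKer P), φ ⟨_, h⟩ = 0) →
    ∃ h : σ → B₀, ∀ r : relKer P, φ r = (r : relMod P).sum fun s c => algebraMap P.toExtension.Ring B₀ c * h s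
  intro φ hsemi htriv
  -- `φ` as a linear map
  let φₗ : relKer P →ₗ[P.toExtension.Ring] B₀ :=
    { toFun := φ
      map_add' := map_add φ
      map_smul' := fun a r => by
        rw [RingHom.id_apply, Algebra.smul_def]
        exact hsemi a r }
  -- vanishing on trivial relations
  have hφtriv : ∀ y : relMod P, y ∈ trivRel P → ∀ hy : y ∈ relKer P, φ ⟨y, hy⟩ = 0 := by
    intro y hy
    refine Submodule.span_induction (p := fun y _ => ∀ hy : y ∈ relKer P, φ ⟨y, hy⟩ = 0) ?_ ?_ ?_ ?_ hy
    · rintro _ ⟨a, b, rfl⟩ h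
      exact htriv a b h
    · intro h
      exact map_zero φ
    · intro x z hx hz ihx ihz h
      have hx' : x ∈ relKer P := trivRel_le_relKer P hx
      have hz' : z ∈ relKer P := trivRel_le_relKer P hz
      have : (⟨x + z, h⟩ : relKer P) = ⟨x, hx'⟩ + ⟨z, hz'⟩ := rfl
      rw [this, map_add, ihx hx', ihz hz', add_zero]
    · intro a x hx ihx h
      have hx' : x ∈ relKer P := trivRel_le_relKer P hx
      have : (⟨a • x, h⟩ : relKer P) = a • ⟨x, hx'⟩ := rfl
      rw [this, hsemi, ihx hx', mul_zero]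
  let Φ : B₀ ⊗[P.toExtension.Ring] relKer P →ₗ[B₀] B₀ := LinearMap.liftBaseChange B₀ φₗ
  have hΦ : LinearMap.range ((trivRelKer P).subtype.baseChange B₀) ≤ LinearMap.ker Φ := by
    rw [LinearMap.range_le_ker_iff]
    refine TensorProduct.AlgebraTensorModule.ext fun b q => ?_
    simp only [LinearMap.coe_comp, Function.comp_apply, LinearMap.baseChange_tmul, Submodule.coe_subtype,
      LinearMap.zero_apply]
    change LinearMap.liftBaseChange B₀ φₗ (b ⊗ₜ (q : relKer P)) = 0
    rw [LinearMap.liftBaseChange_tmul]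
    have hq : ((q : relKer P) : relMod P) ∈ trivRel P := q.2
    have : φₗ (q : relKer P) = 0 := hφtriv _ hq _
    rw [this, smul_zero]
  let Ψ : L2 P →ₗ[B₀] B₀ := Submodule.liftQ _ Φ hΦ
  have h0 : toT2 P B₀ Ψ = 0 := Subsingleton.elim _ _
  have h1 : Ψ ∈ LinearMap.range (d2Star P B₀) := by
    unfold toT2 at h0
    exact (Submodule.Quotient.mk_eq_zero _).1 h0
  obtain ⟨g, hg⟩ := h1
  refine ⟨fun s => g ((1 : B₀) ⊗ₜ Finsupp.single s (1 : P.toExtension.Ring)), fun r => ?_⟩
  have h2 : φ r = g ((1 : B₀) ⊗ₜ (r : relMod P)) := by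
    have h3 : Ψ (Submodule.Quotient.mk ((1 : B₀) ⊗ₜ r)) = φ r := by
      change Φ ((1 : B₀) ⊗ₜ r) = φ r
      change LinearMap.liftBaseChange B₀ φₗ ((1 : B₀) ⊗ₜ r) = φ r
      rw [LinearMap.liftBaseChange_tmul, one_smul]
      rfl
    rw [← h3, ← hg, d2Star_apply, LinearMap.comp_apply, d2_mk_tmul]
  rw [h2]
  have key : ∀ c : relMod P, g ((1 : B₀) ⊗ₜ c) =
      c.sum fun s a => algebraMap P.toExtension.Ring B₀ a *
        g ((1 : B₀) ⊗ₜ Finsupp.single s (1 : P.toExtension.Ring)) := by
    intro c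
    classical
    induction c using Finsupp.induction_linear with
    | zero => simp
    | add x y hx hy =>
      rw [TensorProduct.tmul_add, map_add, hx, hy, Finsupp.sum_add_index']
      · intro s; simp
      · intro s a b; rw [map_add, add_mul]
    | single s a =>
      rw [Finsupp.sum_single_index (by simp)]
      have : Finsupp.single s a = a • Finsupp.single s (1 : P.toExtension.Ring) := by
        rw [Finsupp.smul_single, smul_eq_mul, mul_one]
      rw [this, TensorProduct.tmul_smul, TensorProduct.smul_tmul']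
      have e : (a • (1 : B₀)) ⊗ₜ[P.toExtension.Ring] Finsupp.single s (1 : P.toExtension.Ring) =
          (algebraMap P.toExtension.Ring B₀ a) •
            ((1 : B₀) ⊗ₜ[P.toExtension.Ring] Finsupp.single s (1 : P.toExtension.Ring)) := by
        rw [TensorProduct.smul_tmul', Algebra.smul_def, smul_eq_mul]
      rw [e, map_smul, smul_eq_mul]
  exact key _

end LemmaA

end Groth.Agent.Lib.Helper1.AffDef
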