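import Mathlib
import Groth.Agent.Lib.Helper1.KoszulLow
import Groth.Agent.Lib.Helper1.AffDefObs
import Groth.Prelude.Def_LCI2

/-!
# Koszul-regular ideals have vanishing elementary `T²` (helper1)

* `exists_pow_smul_mem_of_im_mem_span`: clearing denominators for membership in a localised submodule of `R^c`;
* `exists_global_data`: a Koszul-regular generating sequence of `I R_g` gives elements `l'` of `I` generating `I` up to
  powers of `g` whose relations are Koszul relations up to powers of `g`;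
* `exists_pow_smul_eq`: the local computation; `exists_eq_linearCombination`: the local-to-global argument;
* `ET2_of_locKoszul`, `ET2_of_isKoszulRegularIdeal`.
-/

set_option autoImplicit false
universe u

namespace Groth.Agent.Lib.Helper1.KoszulLow

section Descend

variable {R : Type*} [CommRing R] (g : R) (S : Type*) [CommRing S] [Algebra R S]

/-- image of a vector in the localisation -/
def im {c : ℕ} (x : Fin c → R) : Fin c → S := fun j => algebraMap R S (x j)

lemma im_apply {c : ℕ} (x : Fin c → R) (j : Fin c) : im S x j = algebraMap R S (x j) := rfl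

lemma im_add {c : ℕ} (x y : Fin c → R) : im S (x + y) = im S x + im S y := by
  funext j
  simp [im]

lemma im_sub {c : ℕ} (x y : Fin c → R) : im S (x - y) = im S x - im S y := by
  funext j
  simp [im]

lemma im_smul {c : ℕ} (r : R) (x : Fin c → R) : im S (r • x) = algebraMap R S r • im S x := by
  funext j
  simp [im]

lemma im_zero {c : ℕ} : im S (0 : Fin c → R) = 0 := by
  funext j
  simp [im]

lemma im_single_one {c : ℕ} (j : Fin c) : im S (Pi.single j (1 : R)) = Pi.single j (1 : S) := by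
  funext i
  rw [im_apply, Pi.single_apply, Pi.single_apply]
  split_ifs
  · exact map_one _
  · exact map_zero _

variable [IsLocalization.Away g S]

theorem exists_pow_smul_mem_of_im_mem_span {c : ℕ} (N : Submodule R (Fin c → R)) (x : Fin c → R)
    (hx : im S x ∈ Submodule.span S (im S '' (N : Set (Fin c → R)))) : ∃ K : ℕ, g ^ K • x ∈ N := by
  have key : ∀ y ∈ Submodule.span S (im S '' (N : Set (Fin c → R))),
      ∃ K : ℕ, ∃ n ∈ N, (algebraMap R S g) ^ K • y = im S n := by
    intro y hy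
    induction hy using Submodule.span_induction with
    | mem y hy =>
      obtain ⟨n, hn, rfl⟩ := hy
      exact ⟨0, n, hn, by rw [pow_zero, one_smul]⟩
    | zero => exact ⟨0, 0, N.zero_mem, by rw [smul_zero, im_zero]⟩
    | add y z _ _ hy hz =>
      obtain ⟨K₁, n₁, hn₁, e₁⟩ := hy
      obtain ⟨K₂, n₂, hn₂, e₂⟩ := hz
      refine ⟨K₁ + K₂, g ^ K₂ • n₁ + g ^ K₁ • n₂,
        N.add_mem (N.smul_mem _ hn₁) (N.smul_mem _ hn₂), ?_⟩
      rw [im_add, im_smul, im_smul, ← e₁, ← e₂, map_pow, map_pow, smul_smul, smul_smul, smul_add,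
        ← pow_add, ← pow_add, add_comm K₂ K₁]
    | smul s y _ hy =>
      obtain ⟨K, n, hn, e⟩ := hy
      obtain ⟨m, a, ha⟩ := IsLocalization.Away.surj g s
      refine ⟨m + K, a • n, N.smul_mem _ hn, ?_⟩
      rw [im_smul, ← e, ← ha, smul_smul, smul_smul]
      congr 1
      ring
  obtain ⟨K, n, hn, e⟩ := key _ hx
  have h0 : ∀ j, ∃ k : ℕ, g ^ k * ((g ^ K • x - n) j) = 0 := by
    intro j
    have h1 : algebraMap R S ((g ^ K • x - n) j) = 0 := by
      have h2 := congrFun e j
      rw [Pi.smul_apply, im_apply, im_apply, smul_eq_mul] at h2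
      rw [Pi.sub_apply, Pi.smul_apply, smul_eq_mul, map_sub, map_mul, map_pow, h2, sub_self]
    obtain ⟨⟨_, k, rfl⟩, hk⟩ := (IsLocalization.map_eq_zero_iff (Submonoid.powers g) S _).1 h1
    exact ⟨k, hk⟩
  choose k hk using h0
  refine ⟨(∑ j, k j) + K, ?_⟩
  have h1 : g ^ (∑ j, k j) • (g ^ K • x - n) = 0 := by
    funext j
    rw [Pi.smul_apply, smul_eq_mul, Pi.zero_apply]
    have h2 : ∑ j, k j = (∑ j, k j - k j) + k j :=
      (Nat.sub_add_cancel (Finset.single_le_sum (fun _ _ => Nat.zero_le _) (Finset.mem_univ j))).symm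
    rw [h2, pow_add, mul_assoc, hk, mul_zero]
  rw [smul_sub, sub_eq_zero] at h1
  rw [pow_add, mul_smul, h1]
  exact N.smul_mem _ hn

theorem exists_pow_smul_mem_kosz {c : ℕ} (l' : Fin c → R)
    (h : ∀ y : Fin c → S, ∑ j, y j * im S l' j = 0 → y ∈ kosz (im S l'))
    (w : Fin c → R) (hw : ∑ j, w j * l' j = 0) : ∃ N : ℕ, g ^ N • w ∈ kosz l' := by
  apply exists_pow_smul_mem_of_im_mem_span g S
  have h1 : im S w ∈ kosz (im S l') := by
    apply h
    have h2 := congrArg (algebraMap R S) hw
    rw [map_sum, map_zero] at h2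
    rw [← h2]
    refine Finset.sum_congr rfl fun j _ => ?_
    rw [map_mul]
    rfl
  refine (Submodule.span_le.2 ?_ : kosz (im S l') ≤ _) h1
  rintro _ ⟨i, j, rfl⟩
  refine Submodule.subset_span ⟨l' i • Pi.single j 1 - l' j • Pi.single i 1,
    Submodule.subset_span ⟨i, j, rfl⟩, ?_⟩
  rw [im_sub, im_smul, im_smul, im_single_one, im_single_one]
  rfl

end Descend

section Scale

theorem rel_mem_kosz_of_unit {S : Type*} [CommRing S] {c : ℕ} (l m : Fin c → S) (u : S) (hu : IsUnit u)
    (hm : ∀ j, m j = u * l j)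
    (h : ∀ y : Fin c → S, ∑ j, y j * l j = 0 → y ∈ kosz l) (y : Fin c → S)
    (hy : ∑ j, y j * m j = 0) : y ∈ kosz m := by
  obtain ⟨v, hv⟩ := hu.exists_left_inv
  have h1 : ∑ j, y j * l j = 0 := by
    have h2 : u * ∑ j, y j * l j = 0 := by
      rw [Finset.mul_sum, ← hy]
      refine Finset.sum_congr rfl fun j _ => ?_
      rw [hm]
      ring
    have h3 := congrArg (fun z => v * z) h2
    simp only [mul_zero, ← mul_assoc, hv, one_mul] at h3
    exact h3
  refine (Submodule.span_le.2 ?_ : kosz l ≤ kosz m) (h y h1)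
  rintro _ ⟨i, j, rfl⟩
  have h4 : l i • Pi.single j (1 : S) - l j • Pi.single i (1 : S) =
      v • (m i • Pi.single j (1 : S) - m j • Pi.single i (1 : S)) := by
    rw [hm, hm, smul_sub, smul_smul, smul_smul, ← mul_assoc, ← mul_assoc, hv, one_mul, one_mul]
  rw [SetLike.mem_coe, h4]
  exact Submodule.smul_mem _ _ (Submodule.subset_span ⟨i, j, rfl⟩)

end Scale

section GlobalData

variable {R : Type u} [CommRing R] (g : R) (S : Type u) [CommRing S] [Algebra R S] [IsLocalization.Away g S]

theorem exists_global_data (I : Ideal R) (l : List S) (hreg : LCI.IsKoszulRegularSeq S l)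
    (hI : I.map (algebraMap R S) = Ideal.span {x | x ∈ l}) :
    ∃ (c : ℕ) (l' : Fin c → R), (∀ j, l' j ∈ I) ∧
      (∀ x ∈ I, ∃ M : ℕ, g ^ M * x ∈ Ideal.span (Set.range l')) ∧
      (∀ w : Fin c → R, ∑ j, w j * l' j = 0 → ∃ N : ℕ, g ^ N • w ∈ kosz l') := by
  have hset : {x | x ∈ l} = Set.range (fun j : Fin l.length => l.get j) := by
    ext x
    simp [List.mem_iff_get]
  have h1 : ∀ j : Fin l.length, ∃ (a : R) (m : ℕ), a ∈ I ∧
      l.get j * algebraMap R S g ^ m = algebraMap R S a := by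
    intro j
    have h2 : l.get j ∈ I.map (algebraMap R S) := by
      rw [hI]
      exact Ideal.subset_span (List.get_mem _ _)
    obtain ⟨⟨⟨a, ha⟩, ⟨_, m, rfl⟩⟩, h⟩ :=
      (IsLocalization.mem_map_algebraMap_iff (Submonoid.powers g) S).1 h2
    refine ⟨a, m, ha, ?_⟩
    rw [← map_pow]
    exact h
  choose a m ha hm using h1
  set E := ∑ j, m j with hE
  let l' : Fin l.length → R := fun j => g ^ (E - m j) * a j
  have hEle : ∀ j, m j ≤ E := fun j =>
    Finset.single_le_sum (fun _ _ => Nat.zero_le _) (Finset.mem_univ j)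
  have hl'S : ∀ j, im S l' j = algebraMap R S g ^ E * l.get j := by
    intro j
    rw [im_apply]
    change algebraMap R S (g ^ (E - m j) * a j) = _
    rw [map_mul, map_pow, ← hm, mul_comm (l.get j), ← mul_assoc, ← pow_add,
      Nat.sub_add_cancel (hEle j)]
  have hu : IsUnit (algebraMap R S g ^ E) := (IsLocalization.Away.algebraMap_isUnit g).pow E
  obtain ⟨v, hv⟩ := hu.exists_left_inv
  refine ⟨l.length, l', fun j => I.mul_mem_left _ (ha j), ?_, ?_⟩
  · intro x hx
    have h2 : algebraMap R S x ∈ Ideal.map (algebraMap R S) (Ideal.span (Set.range l')) := by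
      rw [Ideal.map_span, ← Set.range_comp]
      have h3 : algebraMap R S x ∈ Ideal.span (Set.range fun j : Fin l.length => l.get j) := by
        rw [← hset, ← hI]
        exact Ideal.mem_map_of_mem _ hx
      refine (Ideal.span_le.2 ?_ :
        Ideal.span (Set.range fun j : Fin l.length => l.get j) ≤ _) h3
      rintro _ ⟨j, rfl⟩
      have h4 : l.get j = v * (algebraMap R S ∘ l') j := by
        have := hl'S j
        rw [im_apply] at this
        rw [Function.comp_apply, this, ← mul_assoc, hv, one_mul]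
      change l.get j ∈ _
      rw [h4]
      exact Ideal.mul_mem_left _ _ (Ideal.subset_span ⟨j, rfl⟩)
    obtain ⟨⟨⟨b, hb⟩, ⟨_, m', rfl⟩⟩, h⟩ :=
      (IsLocalization.mem_map_algebraMap_iff (Submonoid.powers g) S).1 h2
    have h4 : algebraMap R S (x * g ^ m' - b) = 0 := by
      rw [map_sub, map_mul]
      exact sub_eq_zero.2 h
    obtain ⟨⟨_, k, rfl⟩, hk⟩ := (IsLocalization.map_eq_zero_iff (Submonoid.powers g) S _).1 h4
    refine ⟨k + m', ?_⟩
    have h5 : g ^ (k + m') * x = g ^ k * b := by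
      have h6 : g ^ k * (x * g ^ m' - b) = 0 := hk
      rw [pow_add]
      linear_combination h6
    rw [h5]
    exact Ideal.mul_mem_left _ _ hb
  · intro w hw
    refine exists_pow_smul_mem_kosz g S l' ?_ w hw
    intro y hy
    refine rel_mem_kosz_of_unit (fun j => l.get j) (im S l') _ hu hl'S ?_ y hy
    intro y hy
    exact rel_mem_kosz l (hreg (-1) (by norm_num)) y hy

end GlobalData

section Global

variable {R : Type*} [CommRing R] {σ : Type*} (F : σ → R)

/-- the span of the trivial relations -/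
noncomputable def triv : Submodule R (σ →₀ R) :=
  Submodule.span R {y | ∃ a b : σ →₀ R,
    y = Finsupp.linearCombination R F a • b - Finsupp.linearCombination R F b • a}

lemma triv_le : triv F ≤ LinearMap.ker (Finsupp.linearCombination R F) := by
  refine Submodule.span_le.2 ?_
  rintro _ ⟨a, b, rfl⟩
  rw [SetLike.mem_coe, LinearMap.mem_ker, map_sub, map_smul, map_smul, smul_eq_mul, smul_eq_mul,
    mul_comm, sub_self]

variable {T : Type*} [AddCommGroup T] [Module R T]
  (φ : ↥(LinearMap.ker (Finsupp.linearCombination R F)) →ₗ[R] T)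
  (htriv : ∀ (a b : σ →₀ R) (h : Finsupp.linearCombination R F a • b -
    Finsupp.linearCombination R F b • a ∈ LinearMap.ker (Finsupp.linearCombination R F)), φ ⟨_, h⟩ = 0)

include htriv in
lemma map_triv (y : σ →₀ R) (hy : y ∈ triv F)
    (hy' : y ∈ LinearMap.ker (Finsupp.linearCombination R F)) : φ ⟨y, hy'⟩ = 0 := by
  have key : ∀ y (_ : y ∈ triv F), ∀ h : y ∈ LinearMap.ker (Finsupp.linearCombination R F),
      φ ⟨y, h⟩ = 0 := by
    intro y hy
    induction hy using Submodule.span_induction with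
    | mem y hy =>
      obtain ⟨a, b, rfl⟩ := hy
      intro h
      exact htriv a b h
    | zero =>
      intro h
      exact map_zero φ
    | add x z hx hz ihx ihz =>
      intro h
      have e : (⟨x + z, h⟩ : ↥(LinearMap.ker (Finsupp.linearCombination R F))) =
          ⟨x, triv_le F hx⟩ + ⟨z, triv_le F hz⟩ := rfl
      rw [e, map_add, ihx, ihz, add_zero]
    | smul c x hx ihx =>
      intro h
      have e : (⟨c • x, h⟩ : ↥(LinearMap.ker (Finsupp.linearCombination R F))) =
          c • ⟨x, triv_le F hx⟩ := rfl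
      rw [e, map_smul, ihx, smul_zero]
  exact key y hy hy'

include htriv in
theorem exists_pow_smul_eq [IsNoetherianRing R] [Finite σ] (g : R) {c : ℕ} (l' : Fin c → R)
    (hl' : ∀ j, l' j ∈ Ideal.span (Set.range F))
    (hM : ∀ s, ∃ M : ℕ, g ^ M * F s ∈ Ideal.span (Set.range l'))
    (hK : ∀ w : Fin c → R, ∑ j, w j * l' j = 0 → ∃ N : ℕ, g ^ N • w ∈ kosz l') :
    ∃ (K : ℕ) (h : σ → T), ∀ r : ↥(LinearMap.ker (Finsupp.linearCombination R F)),
      g ^ K • φ r = Finsupp.linearCombination R h (r : σ →₀ R) := by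
  classical
  have hu : ∀ j, ∃ u : σ →₀ R, Finsupp.linearCombination R F u = l' j := by
    intro j
    have h1 := hl' j
    rw [Ideal.span, ← Finsupp.range_linearCombination] at h1
    exact h1
  choose u hu using hu
  choose Ms hMs using hM
  obtain ⟨M, hMle⟩ := Finite.exists_le Ms
  have hM' : ∀ s, g ^ M * F s ∈ Ideal.span (Set.range l') := by
    intro s
    have h1 : g ^ M * F s = g ^ (M - Ms s) * (g ^ Ms s * F s) := by
      rw [← mul_assoc, ← pow_add, Nat.sub_add_cancel (hMle s)]
    rw [h1]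
    exact Ideal.mul_mem_left _ _ (hMs s)
  have hv : ∀ s, ∃ v : Fin c → R, ∑ j, v j * l' j = g ^ M * F s := fun s =>
    (Ideal.mem_span_range_iff_exists_fun).1 (hM' s)
  choose v hv using hv
  let V : (σ →₀ R) →ₗ[R] (Fin c → R) := Finsupp.linearCombination R v
  let U : (Fin c → R) →ₗ[R] (σ →₀ R) := Fintype.linearCombination R u
  let LF : (σ →₀ R) →ₗ[R] R := Finsupp.linearCombination R F
  let Ll : (Fin c → R) →ₗ[R] R := Fintype.linearCombination R l'
  have hLl : ∀ w, Ll w = ∑ j, w j * l' j := fun w => by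
    simp only [Ll, Fintype.linearCombination_apply, smul_eq_mul]
  have hUs : ∀ j, U (Pi.single j 1) = u j := fun j => by
    simp only [U, Fintype.linearCombination_apply_single, one_smul]
  have ha : ∀ w, LF (U w) = Ll w := fun w => by
    simp only [U, Ll, LF, Fintype.linearCombination_apply, map_sum, map_smul, hu]
  have hb : Ll ∘ₗ V = g ^ M • LF := by
    refine Finsupp.lhom_ext fun s a => ?_
    rw [LinearMap.comp_apply, LinearMap.smul_apply]
    simp only [V, LF, Finsupp.linearCombination_single]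
    rw [map_smul, hLl, hv, smul_eq_mul, smul_eq_mul, smul_eq_mul]
    ring
  have hb' : ∀ r, Ll (V r) = g ^ M * LF r := fun r => by
    have := congrArg (fun f => f r) hb
    simpa using this
  have hc : Submodule.map U (kosz l') ≤ triv F := by
    unfold kosz
    rw [Submodule.map_span_le]
    rintro _ ⟨i, j, rfl⟩
    have h1 : U (l' i • Pi.single j 1 - l' j • Pi.single i 1) =
        Finsupp.linearCombination R F (u i) • u j - Finsupp.linearCombination R F (u j) • u i := by
      rw [map_sub, map_smul, map_smul, hUs, hUs, hu, hu]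
    rw [h1]
    exact Submodule.subset_span ⟨u i, u j, rfl⟩
  let ρ : σ → (σ →₀ R) := fun s => g ^ M • Finsupp.single s 1 - U (v s)
  have hρ : ∀ s, ρ s ∈ LinearMap.ker LF := by
    intro s
    rw [LinearMap.mem_ker]
    change LF (g ^ M • Finsupp.single s 1 - U (v s)) = 0
    rw [map_sub, map_smul, ha, hLl, hv]
    simp only [LF, Finsupp.linearCombination_single, smul_eq_mul, one_mul]
    ring
  let ρ' : σ → ↥(LinearMap.ker LF) := fun s => ⟨ρ s, hρ s⟩
  have he : ∀ r : σ →₀ R, g ^ M • r - U (V r) = Finsupp.linearCombination R ρ r := by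
    intro r
    have h1 : g ^ M • LinearMap.id - U ∘ₗ V = Finsupp.linearCombination R ρ := by
      refine Finsupp.lhom_ext fun s a => ?_
      rw [LinearMap.sub_apply, LinearMap.smul_apply, LinearMap.id_apply, LinearMap.comp_apply]
      simp only [V, Finsupp.linearCombination_single]
      change _ = a • (g ^ M • Finsupp.single s 1 - U (v s))
      rw [map_smul, smul_sub, smul_comm a (g ^ M), Finsupp.smul_single a s 1, smul_eq_mul, mul_one]
    have := congrArg (fun f => f r) h1
    simpa using this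
  -- the endomorphism `U ∘ V` of the relation module
  have hW : ∀ x ∈ LinearMap.ker LF, (U ∘ₗ V) x ∈ LinearMap.ker LF := by
    intro x hx
    rw [LinearMap.mem_ker] at hx ⊢
    rw [LinearMap.comp_apply, ha, hb', hx, mul_zero]
  let W : ↥(LinearMap.ker LF) →ₗ[R] ↥(LinearMap.ker LF) := (U ∘ₗ V).restrict hW
  have hWc : ∀ r : ↥(LinearMap.ker LF), ((W r : ↥(LinearMap.ker LF)) : σ →₀ R) = U (V r) := fun r => rfl
  let Ψ : ↥(LinearMap.ker LF) →ₗ[R] T := φ ∘ₗ W
  -- pointwise vanishing
  have hpt : ∀ r : ↥(LinearMap.ker LF), ∃ N : ℕ, g ^ N • Ψ r = 0 := by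
    intro r
    have h1 : ∑ j, V r j * l' j = 0 := by
      rw [← hLl, hb', show LF (r : σ →₀ R) = 0 from r.2, mul_zero]
    obtain ⟨N, hN⟩ := hK (V r) h1
    refine ⟨N, ?_⟩
    have h2 : U (g ^ N • V r) ∈ triv F := hc ⟨_, hN, rfl⟩
    have h3 : ((g ^ N • W r : ↥(LinearMap.ker LF)) : σ →₀ R) = U (g ^ N • V r) := by
      rw [map_smul]
      rfl
    have h4 : φ (g ^ N • W r) = 0 := by
      have h5 := map_triv F φ htriv _ h2 (h3 ▸ (g ^ N • W r).2)
      have h6 : (g ^ N • W r : ↥(LinearMap.ker LF)) = ⟨U (g ^ N • V r), h3 ▸ (g ^ N • W r).2⟩ :=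
        Subtype.ext h3
      rw [h6]
      exact h5
    change g ^ N • φ (W r) = 0
    rw [← map_smul]
    exact h4
  -- uniform exponent by the ascending chain condition
  haveI : IsNoetherian R (σ →₀ R) :=
    isNoetherian_of_linearEquiv (Finsupp.linearEquivFunOnFinite R R σ).symm
  let Sn : ℕ →o Submodule R ↥(LinearMap.ker LF) :=
    { toFun := fun N => LinearMap.ker (g ^ N • Ψ)
      monotone' := by
        intro N N' hNN' x hx
        rw [LinearMap.mem_ker, LinearMap.smul_apply] at hx ⊢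
        rw [← Nat.sub_add_cancel hNN', pow_add, mul_smul, hx, smul_zero] }
  obtain ⟨N₀, hN₀⟩ := monotone_stabilizes_iff_noetherian.2 inferInstance Sn
  have hall : ∀ r : ↥(LinearMap.ker LF), g ^ N₀ • Ψ r = 0 := by
    intro r
    obtain ⟨N, hN⟩ := hpt r
    have h1 : r ∈ Sn N := by
      change r ∈ LinearMap.ker (g ^ N • Ψ)
      rw [LinearMap.mem_ker, LinearMap.smul_apply]
      exact hN
    have h2 : r ∈ Sn (max N N₀) := Sn.monotone (le_max_left _ _) h1
    rw [← hN₀ _ (le_max_right _ _)] at h2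
    have h3 : r ∈ LinearMap.ker (g ^ N₀ • Ψ) := h2
    rw [LinearMap.mem_ker, LinearMap.smul_apply] at h3
    exact h3
  refine ⟨N₀ + M, fun s => g ^ N₀ • φ (ρ' s), fun r => ?_⟩
  have h1 : g ^ M • r - W r = Finsupp.linearCombination R ρ' (r : σ →₀ R) := by
    apply Subtype.ext
    have h2 : (((Finsupp.linearCombination R ρ' (r : σ →₀ R)) : ↥(LinearMap.ker LF)) : σ →₀ R) =
        Finsupp.linearCombination R ρ (r : σ →₀ R) := by
      have := Finsupp.apply_linearCombination R (LinearMap.ker LF).subtype ρ' (r : σ →₀ R)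
      exact this
    rw [h2, ← he]
    rfl
  have h2 : g ^ M • r = W r + Finsupp.linearCombination R ρ' (r : σ →₀ R) := by
    rw [← h1]
    abel
  have h3 : φ (Finsupp.linearCombination R ρ' (r : σ →₀ R)) =
      Finsupp.linearCombination R (fun s => φ (ρ' s)) (r : σ →₀ R) :=
    Finsupp.apply_linearCombination R φ ρ' (r : σ →₀ R)
  have h4 : g ^ N₀ • Finsupp.linearCombination R (fun s => φ (ρ' s)) (r : σ →₀ R) =
      Finsupp.linearCombination R (fun s => g ^ N₀ • φ (ρ' s)) (r : σ →₀ R) := by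
    rw [Finsupp.linearCombination_apply, Finsupp.linearCombination_apply, Finsupp.smul_sum]
    refine Finsupp.sum_congr fun s _ => ?_
    rw [smul_comm]
  rw [pow_add, mul_smul, ← map_smul φ (g ^ M) r, h2, map_add, smul_add, h3, h4]
  have h5 : g ^ N₀ • φ (W r) = 0 := hall r
  rw [h5, zero_add]

include htriv in
theorem exists_eq_linearCombination [IsNoetherianRing R] [Finite σ] (hI : ∀ s (t : T), F s • t = 0)
    (hloc : ∀ 𝔭 : Ideal R, 𝔭.IsPrime → Ideal.span (Set.range F) ≤ 𝔭 → ∃ g, g ∉ 𝔭 ∧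
      ∃ (c : ℕ) (l' : Fin c → R), (∀ j, l' j ∈ Ideal.span (Set.range F)) ∧
        (∀ s, ∃ M : ℕ, g ^ M * F s ∈ Ideal.span (Set.range l')) ∧
        (∀ w : Fin c → R, ∑ j, w j * l' j = 0 → ∃ N : ℕ, g ^ N • w ∈ kosz l')) :
    ∃ h : σ → T, ∀ r : ↥(LinearMap.ker (Finsupp.linearCombination R F)),
      φ r = Finsupp.linearCombination R h (r : σ →₀ R) := by
  let 𝔞 : Ideal R :=
    { carrier := {b | ∃ h : σ → T, ∀ r : ↥(LinearMap.ker (Finsupp.linearCombination R F)),
        b • φ r = Finsupp.linearCombination R h (r : σ →₀ R)}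
      add_mem' := by
        rintro b b' ⟨h, hh⟩ ⟨h', hh'⟩
        refine ⟨h + h', fun r => ?_⟩
        rw [add_smul, hh, hh']
        simp only [Finsupp.linearCombination_apply, Pi.add_apply, smul_add]
        rw [Finsupp.sum_add]
      zero_mem' := ⟨0, fun r => by
        rw [zero_smul]
        simp [Finsupp.linearCombination_apply]⟩
      smul_mem' := by
        rintro c b ⟨h, hh⟩
        refine ⟨fun s => c • h s, fun r => ?_⟩
        rw [smul_eq_mul, mul_smul, hh]
        rw [Finsupp.linearCombination_apply, Finsupp.linearCombination_apply, Finsupp.smul_sum]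
        refine Finsupp.sum_congr fun s _ => ?_
        rw [smul_comm] }
  have h𝔞 : ∀ b, b ∈ 𝔞 ↔ ∃ h : σ → T, ∀ r : ↥(LinearMap.ker (Finsupp.linearCombination R F)),
      b • φ r = Finsupp.linearCombination R h (r : σ →₀ R) := fun b => Iff.rfl
  have hI𝔞 : Ideal.span (Set.range F) ≤ 𝔞 := by
    rw [Ideal.span_le]
    rintro _ ⟨s, rfl⟩
    refine ⟨0, fun r => ?_⟩
    rw [hI]
    simp [Finsupp.linearCombination_apply]
  have htop : 𝔞 = ⊤ := by
    by_contra hne
    obtain ⟨𝔪, h𝔪, hle⟩ := Ideal.exists_le_maximal 𝔞 hne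
    obtain ⟨g, hg, c, l', hl', hM, hK⟩ := hloc 𝔪 h𝔪.isPrime (hI𝔞.trans hle)
    obtain ⟨K, h, hh⟩ := exists_pow_smul_eq F φ htriv g l' hl' hM hK
    have h1 : g ^ K ∈ 𝔞 := ⟨h, hh⟩
    exact hg (h𝔪.isPrime.mem_of_pow_mem K (hle h1))
  have h1 : (1 : R) ∈ 𝔞 := by
    rw [htop]
    exact Submodule.mem_top
  obtain ⟨h, hh⟩ := h1
  refine ⟨h, fun r => ?_⟩
  rw [← hh r, one_smul]

end Global

section ET2

open Groth.Agent.Lib.Helper1.AffDef

theorem ET2_of_locKoszul {R : Type*} [CommRing R] [IsNoetherianRing R] {σ : Type*} [Finite σ]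
    (F : σ → R) {B₀ : Type*} [CommRing B₀] (ε : R →+* B₀) (hε : ∀ s, ε (F s) = 0)
    (hloc : ∀ 𝔭 : Ideal R, 𝔭.IsPrime → Ideal.span (Set.range F) ≤ 𝔭 → ∃ g, g ∉ 𝔭 ∧
      ∃ (c : ℕ) (l' : Fin c → R), (∀ j, l' j ∈ Ideal.span (Set.range F)) ∧
        (∀ s, ∃ M : ℕ, g ^ M * F s ∈ Ideal.span (Set.range l')) ∧
        (∀ w : Fin c → R, ∑ j, w j * l' j = 0 → ∃ N : ℕ, g ^ N • w ∈ kosz l')) :
    ET2 F ε := by
  intro φ hsemi htriv
  letI : Module R B₀ := Module.compHom B₀ ε
  have hsm : ∀ (a : R) (b : B₀), a • b = ε a * b := fun a b => rfl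
  let φₗ : ↥(LinearMap.ker (Finsupp.linearCombination R F)) →ₗ[R] B₀ :=
    { toFun := φ
      map_add' := map_add φ
      map_smul' := fun a r => by
        rw [RingHom.id_apply, hsm]
        exact hsemi a r }
  obtain ⟨h, hh⟩ := exists_eq_linearCombination F φₗ (fun a b h => htriv a b h)
    (fun s t => by rw [hsm, hε, zero_mul]) hloc
  refine ⟨h, fun r => ?_⟩
  have h1 := hh r
  rw [Finsupp.linearCombination_apply] at h1
  exact h1

/-- A Koszul-regular ideal (given with finitely many generators) has vanishing elementary `T²`. -/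
theorem ET2_of_isKoszulRegularIdeal {R : Type u} [CommRing R] [IsNoetherianRing R] {σ : Type*} [Finite σ]
    (F : σ → R) {B₀ : Type*} [CommRing B₀] (ε : R →+* B₀) (hε : ∀ s, ε (F s) = 0)
    (hreg : LCI.IsKoszulRegularIdeal (Ideal.span (Set.range F))) : ET2 F ε := by
  refine ET2_of_locKoszul F ε hε ?_
  intro 𝔭 h𝔭 hle
  obtain ⟨g, hg, l, hl, hI⟩ := hreg ⟨𝔭, h𝔭⟩ hle
  obtain ⟨c, l', h1, h2, h3⟩ := exists_global_data g (Localization.Away g) _ l hl hI
  exact ⟨g, hg, c, l', h1, fun s => h2 _ (Ideal.subset_span ⟨s, rfl⟩), h3⟩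

end ET2

end Groth.Agent.Lib.Helper1.KoszulLow
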