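import Mathlib
import Groth.Agent.Lib.Helper1.KoszulET2
import Groth.Agent.Lib.Helper1.AffDefUnobs
import Groth.Agent.Lib.Helper1.ArtFunArt

/-!
# Local complete intersections are unobstructed (helper1)

* `ET2.of_ringEquiv`: transport of the elementary `T² = 0` along a ring isomorphism;
* `presU`: a presentation on `ULift (Fin n)` from a surjection `k[x_1..x_n] → A₀` and generators of the kernel;
* `isSmoothFunctor_of_isLCI`.
-/

set_option autoImplicit false
universe u
open CategoryTheory CategoryTheory.Limits AlgebraicGeometry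
open ArtFun ArtFun.Art

namespace Groth.Agent.Lib.Helper1.AffDef

open Groth.Agent.Lib.Helper1.KoszulLow

theorem ET2.of_ringEquiv {S S' : Type*} [CommRing S] [CommRing S'] (e : S' ≃+* S) {σ : Type*}
    (F : σ → S) (F' : σ → S') (hF : ∀ s, e (F' s) = F s) {B₀ : Type*} [CommRing B₀] (ε : S →+* B₀)
    (h : ET2 F ε) : ET2 F' (ε.comp (e : S' →+* S)) := by
  intro φ' hsemi htriv
  let m : (σ →₀ S') → (σ →₀ S) := Finsupp.mapRange e (map_zero e)
  let m' : (σ →₀ S) → (σ →₀ S') := Finsupp.mapRange e.symm (map_zero e.symm)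
  have hm'm : ∀ r, m' (m r) = r := by
    intro r
    ext s
    simp [m, m']
  have hm'add : ∀ r r', m' (r + r') = m' r + m' r' := fun r r' =>
    Finsupp.mapRange_add (map_add e.symm) r r'
  have hm'sub : ∀ r r', m' (r - r') = m' r - m' r' := fun r r' =>
    Finsupp.mapRange_sub (map_sub e.symm) r r'
  have hm'smul : ∀ (a : S) r, m' (a • r) = e.symm a • m' r := by
    intro a r
    ext s
    simp [m']
  have hF' : ∀ s, e.symm (F s) = F' s := fun s => by rw [← hF, e.symm_apply_apply]
  have hLC : ∀ r : σ →₀ S, Finsupp.linearCombination S' F' (m' r) =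
      e.symm (Finsupp.linearCombination S F r) := by
    intro r
    induction r using Finsupp.induction_linear with
    | zero =>
      have : m' 0 = 0 := Finsupp.mapRange_zero
      rw [this, map_zero, map_zero, map_zero]
    | add f g hf hg => rw [hm'add, map_add, hf, hg, map_add, map_add]
    | single s a =>
      have : m' (Finsupp.single s a) = Finsupp.single s (e.symm a) := Finsupp.mapRange_single
      rw [this, Finsupp.linearCombination_single, Finsupp.linearCombination_single, smul_eq_mul,
        smul_eq_mul, map_mul, hF']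
  have hmem : ∀ r : ↥(LinearMap.ker (Finsupp.linearCombination S F)),
      m' (r : σ →₀ S) ∈ LinearMap.ker (Finsupp.linearCombination S' F') := by
    intro r
    rw [LinearMap.mem_ker, hLC, show Finsupp.linearCombination S F (r : σ →₀ S) = 0 from r.2, map_zero]
  let φ : ↥(LinearMap.ker (Finsupp.linearCombination S F)) →+ B₀ :=
    AddMonoidHom.mk' (fun r => φ' ⟨m' (r : σ →₀ S), hmem r⟩) (fun r r' => by
      rw [← map_add]
      congr 1
      apply Subtype.ext
      exact hm'add _ _)
  have hφ : ∀ r, φ r = φ' ⟨m' (r : σ →₀ S), hmem r⟩ := fun r => rfl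
  have hsemiφ : ∀ (a : S) (r : ↥(LinearMap.ker (Finsupp.linearCombination S F))), φ (a • r) = ε a * φ r := by
    intro a r
    rw [hφ, hφ]
    have h1 : (⟨m' ((a • r : ↥(LinearMap.ker (Finsupp.linearCombination S F))) : σ →₀ S), hmem (a • r)⟩ :
        ↥(LinearMap.ker (Finsupp.linearCombination S' F'))) =
        e.symm a • ⟨m' (r : σ →₀ S), hmem r⟩ := Subtype.ext (hm'smul a _)
    rw [h1, hsemi, RingHom.comp_apply]
    congr 2
    exact e.apply_symm_apply a
  have htrivφ : ∀ (a b : σ →₀ S) (hab : Finsupp.linearCombination S F a • b - Finsupp.linearCombination S F b • a ∈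
      LinearMap.ker (Finsupp.linearCombination S F)), φ ⟨_, hab⟩ = 0 := by
    intro a b hab
    rw [hφ]
    have h1 : m' (Finsupp.linearCombination S F a • b - Finsupp.linearCombination S F b • a) =
        Finsupp.linearCombination S' F' (m' a) • m' b - Finsupp.linearCombination S' F' (m' b) • m' a := by
      rw [hm'sub, hm'smul, hm'smul, hLC, hLC]
    have h2 : Finsupp.linearCombination S' F' (m' a) • m' b - Finsupp.linearCombination S' F' (m' b) • m' a ∈
        LinearMap.ker (Finsupp.linearCombination S' F') := h1 ▸ hmem ⟨_, hab⟩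
    have h3 := htriv (m' a) (m' b) h2
    have h4 : (⟨m' (Finsupp.linearCombination S F a • b - Finsupp.linearCombination S F b • a),
        hmem ⟨_, hab⟩⟩ : ↥(LinearMap.ker (Finsupp.linearCombination S' F'))) = ⟨_, h2⟩ := Subtype.ext h1
    rw [h4]
    exact h3
  obtain ⟨h0, hh⟩ := h φ hsemiφ htrivφ
  refine ⟨h0, fun r' => ?_⟩
  have hmr : m (r' : σ →₀ S') ∈ LinearMap.ker (Finsupp.linearCombination S F) := by
    rw [LinearMap.mem_ker]
    have h1 := hLC (m (r' : σ →₀ S'))
    rw [hm'm, show Finsupp.linearCombination S' F' (r' : σ →₀ S') = 0 from r'.2] at h1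
    have h2 := congrArg e h1
    rw [map_zero, e.apply_symm_apply] at h2
    exact h2.symm
  have h1 := hh ⟨m (r' : σ →₀ S'), hmr⟩
  rw [hφ] at h1
  have h2 : (⟨m' (m (r' : σ →₀ S')), hmem ⟨m (r' : σ →₀ S'), hmr⟩⟩ :
      ↥(LinearMap.ker (Finsupp.linearCombination S' F'))) = r' := Subtype.ext (hm'm _)
  rw [h2] at h1
  rw [h1]
  change (Finsupp.mapRange e (map_zero e) (r' : σ →₀ S')).sum (fun s c => ε c * h0 s) = _
  rw [Finsupp.sum_mapRange_index (fun s => by rw [map_zero, zero_mul])]
  rfl

section LCI

variable {k : Type u} [Field k] {A₀ : Type u} [CommRing A₀] [Algebra k A₀] {n : ℕ}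
  (f : MvPolynomial (Fin n) k →ₐ[k] A₀) (hf : Function.Surjective f)

/-- the renaming equivalence -/
noncomputable def eU (k : Type u) [Field k] (n : ℕ) :
    MvPolynomial (ULift.{u} (Fin n)) k ≃ₐ[k] MvPolynomial (Fin n) k :=
  MvPolynomial.renameEquiv k Equiv.ulift

/-- generators indexed by `ULift (Fin n)` -/
noncomputable def gensU : Algebra.Generators k A₀ (ULift.{u} (Fin n)) :=
  Algebra.Generators.ofAlgHom (f.comp (eU k n).toAlgHom) (hf.comp (eU k n).surjective)

lemma aeval_gensU (y : MvPolynomial (ULift.{u} (Fin n)) k) :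
    MvPolynomial.aeval (gensU f hf).val y = f (eU k n y) := by
  have h1 : MvPolynomial.aeval (gensU f hf).val = f.comp (eU k n).toAlgHom := by
    apply MvPolynomial.algHom_ext
    intro i
    rw [MvPolynomial.aeval_X]
    rfl
  rw [h1]
  rfl

/-- the presentation on `ULift (Fin n)` given by a finite generating set of the kernel -/
noncomputable def presU (s : Finset (MvPolynomial (Fin n) k))
    (hs : Ideal.span (s : Set (MvPolynomial (Fin n) k)) = RingHom.ker f.toRingHom) :
    Algebra.Presentation k A₀ (ULift.{u} (Fin n)) (↥s) where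
  toGenerators := gensU f hf
  relation x := (eU k n).symm x
  span_range_relation_eq_ker := by
    rw [Algebra.Generators.ker_eq_ker_aeval_val]
    apply le_antisymm
    · rw [Ideal.span_le]
      rintro _ ⟨x, rfl⟩
      rw [SetLike.mem_coe, RingHom.mem_ker, aeval_gensU, AlgEquiv.apply_symm_apply]
      have h1 : (x : MvPolynomial (Fin n) k) ∈ RingHom.ker f.toRingHom := by
        rw [← hs]
        exact Ideal.subset_span x.2
      exact h1
    · intro y hy
      rw [RingHom.mem_ker, aeval_gensU] at hy
      have h1 : eU k n y ∈ Ideal.span (s : Set (MvPolynomial (Fin n) k)) := by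
        rw [hs]
        exact hy
      have h2 := Ideal.mem_map_of_mem ((eU k n).symm.toAlgHom.toRingHom) h1
      rw [Ideal.map_span] at h2
      have h3 : ((eU k n).symm.toAlgHom.toRingHom) (eU k n y) = y := (eU k n).symm_apply_apply y
      rw [h3] at h2
      refine Ideal.span_mono ?_ h2
      rintro _ ⟨x, hx, rfl⟩
      exact ⟨⟨x, hx⟩, rfl⟩

end LCI

/-- A local complete intersection has a smooth deformation functor. -/
theorem isSmoothFunctor_of_isLCI (Λ k : Type u) [CommRing Λ] [Field k] [Algebra Λ k]
    (A₀ : Type u) [CommRing A₀] [Algebra k A₀] (hA : LCI.IsLCI k A₀) :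
    IsSmoothFunctor (defFunctor (Λ := Λ) (Spec (CommRingCat.of A₀)) (x₀ (k := k) A₀)) := by
  obtain ⟨-, n, f, hf, hreg⟩ := hA
  obtain ⟨s, hs⟩ : (RingHom.ker f.toRingHom).FG :=
    (isNoetherianRing_iff_ideal_fg _).1 inferInstance _
  have hreg' : LCI.IsKoszulRegularIdeal
      (Ideal.span (Set.range (fun x : ↥s => (x : MvPolynomial (Fin n) k)))) := by
    rw [Subtype.range_coe_subtype]
    have : {x | x ∈ s} = (s : Set (MvPolynomial (Fin n) k)) := rfl
    rw [this, hs]
    exact hreg
  have hET : ET2 (fun x : ↥s => (x : MvPolynomial (Fin n) k)) (f : MvPolynomial (Fin n) k →+* A₀) := by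
    refine ET2_of_isKoszulRegularIdeal _ _ (fun x => ?_) hreg'
    have h1 : (x : MvPolynomial (Fin n) k) ∈ RingHom.ker f.toRingHom := by
      rw [← hs]
      exact Ideal.subset_span x.2
    exact h1
  let P := presU f hf s hs
  have hET' : ET2 (CotT.rel P) (algebraMap P.toExtension.Ring A₀) := by
    have h1 := ET2.of_ringEquiv (eU k n).toRingEquiv
      (fun x : ↥s => (x : MvPolynomial (Fin n) k)) (CotT.rel P)
      (fun x => (eU k n).apply_symm_apply (x : MvPolynomial (Fin n) k)) (f : MvPolynomial (Fin n) k →+* A₀) hET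
    have h2 : algebraMap P.toExtension.Ring A₀ =
        (f : MvPolynomial (Fin n) k →+* A₀).comp
          ((eU k n).toRingEquiv : MvPolynomial (ULift.{u} (Fin n)) k →+* MvPolynomial (Fin n) k) := by
      ext y
      change MvPolynomial.aeval (gensU f hf).val y = f (eU k n y)
      rw [aeval_gensU]
    rw [h2]
    exact h1
  intro B A μ hμ
  refine Groth.Agent.Lib.Helper1.ArtFunLib.surjective_induction
    (fun A B μ => Function.Surjective
      ((defFunctor (Λ := Λ) (Spec (CommRingCat.of A₀)) (x₀ (k := k) A₀)).map μ)) ?_ ?_ ?_ μ hμ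
  · intro A B e he
    exact ((isIso_iff_bijective _).1 inferInstance).2
  · intro A B p hp
    exact surjective_defFunctor_map_of_ET2 P hET' p hp
  · intro A B C p q hp hq
    rw [Functor.map_comp]
    exact hq.comp hp

end Groth.Agent.Lib.Helper1.AffDef
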