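import Groth.Agent.Lib.Helper1.AffDefHom
import Groth.Agent.Lib.Helper1.AffDef

/-!
# The inclusion `B₀ ⊗ J → B'` for a deformation `B'` over `C'` and an ideal `J` killed by the maximal ideal (helper1)

* `AlgDef.nu J hJ 𝔅' : B₀ ⊗[k] J →+ 𝔅'.B`, `ν (π b ⊗ j) = j • b`; injective (by flatness), with range `J 𝔅'.B`.
-/

universe u
open TensorProduct ArtFun ArtFun.Art

namespace Groth.Agent.Lib.Helper1.AffDef

section Nu

variable {k : Type u} [Field k] {B₀ : Type u} [CommRing B₀] [Algebra k B₀] {C' : Art k k}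
  (J : Ideal C') (hJ : ∀ m ∈ IsLocalRing.maximalIdeal C', ∀ j ∈ J, m * j = 0)

lemma sub_algebraMap_res_mem (c : C') : c - algebraMap k C' (C'.res c) ∈ IsLocalRing.maximalIdeal C' := by
  rw [Art.mem_maximalIdeal_iff, map_sub, AlgHom.commutes]
  simp

include hJ in
lemma mul_eq_res_mul (c : C') (j : C') (hj : j ∈ J) : c * j = algebraMap k C' (C'.res c) * j := by
  have := hJ _ (sub_algebraMap_res_mem c) j hj
  rw [sub_mul, sub_eq_zero] at this
  exact this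

include hJ in
lemma smul_eq_res_smul (c : C') (j : J) : c • j = C'.res c • j := by
  apply Subtype.ext
  change c * (j : C') = C'.res c • (j : C')
  rw [Algebra.smul_def]
  exact mul_eq_res_mul J hJ c j j.2

namespace AlgDef

variable (𝔅' : AlgDef B₀ C')

include hJ in
lemma smul_eq_zero_of_π_eq_zero (j : C') (hj : j ∈ J) (x : 𝔅'.B) (hx : 𝔅'.π x = 0) : j • x = 0 := by
  have hx' := (mem_smul_top_iff 𝔅' x).2 hx
  refine Submodule.smul_induction_on (p := fun x : 𝔅'.B => j • x = 0) hx' ?_ ?_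
  · intro m hm z _
    rw [smul_smul, mul_comm, hJ m hm j hj, zero_smul]
  · intro x y hx hy
    rw [smul_add, hx, hy, add_zero]

include hJ in
lemma smul_eq_smul_of_π_eq (j : C') (hj : j ∈ J) (x y : 𝔅'.B) (h : 𝔅'.π x = 𝔅'.π y) : j • x = j • y := by
  rw [← sub_eq_zero, ← smul_sub]
  apply smul_eq_zero_of_π_eq_zero J hJ 𝔅' j hj
  rw [map_sub, h, sub_self]

include hJ in
lemma tmul_eq_zero_of_π_eq_zero (j : J) (x : 𝔅'.B) (hx : 𝔅'.π x = 0) : j ⊗ₜ[C'] x = 0 := by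
  have hx' := (mem_smul_top_iff 𝔅' x).2 hx
  refine Submodule.smul_induction_on (p := fun x : 𝔅'.B => j ⊗ₜ[C'] x = 0) hx' ?_ ?_
  · intro m hm z _
    rw [TensorProduct.tmul_smul, TensorProduct.smul_tmul']
    have : m • j = 0 := by
      apply Subtype.ext
      change m * (j : C') = 0
      exact hJ m hm j j.2
    rw [this, TensorProduct.zero_tmul]
  · intro x y hx hy
    rw [TensorProduct.tmul_add, hx, hy, add_zero]

include hJ in
lemma tmul_eq_tmul_of_π_eq (j : J) (x y : 𝔅'.B) (h : 𝔅'.π x = 𝔅'.π y) : j ⊗ₜ[C'] x = j ⊗ₜ[C'] y := by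
  rw [← sub_eq_zero, ← TensorProduct.tmul_sub]
  apply tmul_eq_zero_of_π_eq_zero J hJ 𝔅' j
  rw [map_sub, h, sub_self]

lemma π_smul (c : C') (x : 𝔅'.B) : 𝔅'.π (c • x) = C'.res c • 𝔅'.π x := by
  rw [Algebra.smul_def, map_mul, 𝔅'.comm, Algebra.smul_def]

/-- `b₀ ⊗ j ↦ j ⊗ b̃₀`. -/
noncomputable def tensorSwap : B₀ ⊗[k] J →+ J ⊗[C'] 𝔅'.B :=
  TensorProduct.liftAddHom
    { toFun := fun b₀ =>
        { toFun := fun j => j ⊗ₜ[C'] (Function.surjInv 𝔅'.surj b₀)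
          map_zero' := TensorProduct.zero_tmul _ _
          map_add' := fun x y => TensorProduct.add_tmul _ _ _ }
      map_zero' := by
        ext j
        change j ⊗ₜ[C'] (Function.surjInv 𝔅'.surj 0) = 0
        apply tmul_eq_zero_of_π_eq_zero J hJ 𝔅' j
        exact Function.surjInv_eq 𝔅'.surj 0
      map_add' := fun x y => by
        ext j
        change j ⊗ₜ[C'] (Function.surjInv 𝔅'.surj (x + y)) =
          j ⊗ₜ[C'] (Function.surjInv 𝔅'.surj x) + j ⊗ₜ[C'] (Function.surjInv 𝔅'.surj y)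
        rw [← TensorProduct.tmul_add]
        apply tmul_eq_tmul_of_π_eq J hJ 𝔅' j
        rw [map_add, Function.surjInv_eq 𝔅'.surj, Function.surjInv_eq 𝔅'.surj, Function.surjInv_eq 𝔅'.surj] }
    (fun r b₀ j => by
      change j ⊗ₜ[C'] (Function.surjInv 𝔅'.surj (r • b₀)) = (r • j) ⊗ₜ[C'] (Function.surjInv 𝔅'.surj b₀)
      have h1 : r • j = algebraMap k C' r • j := by
        apply Subtype.ext
        change r • (j : C') = algebraMap k C' r * (j : C')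
        rw [Algebra.smul_def]
      rw [h1, ← TensorProduct.smul_tmul', ← TensorProduct.tmul_smul]
      apply tmul_eq_tmul_of_π_eq J hJ 𝔅' j
      rw [π_smul, Function.surjInv_eq 𝔅'.surj, Function.surjInv_eq 𝔅'.surj, AlgHom.commutes]
      rfl)

lemma tensorSwap_tmul (b : 𝔅'.B) (j : J) : tensorSwap J hJ 𝔅' (𝔅'.π b ⊗ₜ j) = j ⊗ₜ[C'] b := by
  change j ⊗ₜ[C'] (Function.surjInv 𝔅'.surj (𝔅'.π b)) = j ⊗ₜ[C'] b
  apply tmul_eq_tmul_of_π_eq J hJ 𝔅' j
  exact Function.surjInv_eq 𝔅'.surj _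

/-- `j ⊗ b ↦ π b ⊗ j`. -/
noncomputable def tensorSwapInv : J ⊗[C'] 𝔅'.B →+ B₀ ⊗[k] J :=
  TensorProduct.liftAddHom
    { toFun := fun j =>
        { toFun := fun b => 𝔅'.π b ⊗ₜ[k] j
          map_zero' := by rw [map_zero, TensorProduct.zero_tmul]
          map_add' := fun x y => by rw [map_add, TensorProduct.add_tmul] }
      map_zero' := by
        ext b
        exact TensorProduct.tmul_zero _ _
      map_add' := fun x y => by
        ext b
        exact TensorProduct.tmul_add _ _ _ }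
    (fun c j b => by
      change 𝔅'.π b ⊗ₜ[k] (c • j) = 𝔅'.π (c • b) ⊗ₜ[k] j
      rw [π_smul, smul_eq_res_smul J hJ, TensorProduct.smul_tmul])

lemma tensorSwapInv_tmul (j : J) (b : 𝔅'.B) : tensorSwapInv J hJ 𝔅' (j ⊗ₜ[C'] b) = 𝔅'.π b ⊗ₜ[k] j := rfl

lemma tensorSwapInv_tensorSwap (n : B₀ ⊗[k] J) : tensorSwapInv J hJ 𝔅' (tensorSwap J hJ 𝔅' n) = n := by
  induction n using TensorProduct.induction_on with
  | zero => rw [map_zero, map_zero]
  | tmul b₀ j =>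
    obtain ⟨b, rfl⟩ := 𝔅'.surj b₀
    rw [tensorSwap_tmul, tensorSwapInv_tmul]
  | add x y hx hy => rw [map_add, map_add, hx, hy]

/-- The inclusion `B₀ ⊗ J → B'`. -/
noncomputable def nu : B₀ ⊗[k] J →+ 𝔅'.B :=
  (((TensorProduct.lid C' 𝔅'.B).toLinearMap.comp (J.subtype.rTensor 𝔅'.B)).toAddMonoidHom).comp
    (tensorSwap J hJ 𝔅')

lemma nu_tmul (b : 𝔅'.B) (j : J) : nu J hJ 𝔅' (𝔅'.π b ⊗ₜ j) = (j : C') • b := by
  change (TensorProduct.lid C' 𝔅'.B) ((J.subtype.rTensor 𝔅'.B) (tensorSwap J hJ 𝔅' (𝔅'.π b ⊗ₜ j))) = _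
  rw [tensorSwap_tmul, LinearMap.rTensor_tmul, TensorProduct.lid_tmul]
  rfl

lemma nu_injective : Function.Injective (nu J hJ 𝔅') := by
  have h1 : Function.Injective (tensorSwap J hJ 𝔅') :=
    Function.LeftInverse.injective (tensorSwapInv_tensorSwap J hJ 𝔅')
  have h2 : Function.Injective (J.subtype.rTensor 𝔅'.B) :=
    Module.Flat.rTensor_preserves_injective_linearMap _ Subtype.val_injective
  exact ((TensorProduct.lid C' 𝔅'.B).injective.comp h2).comp h1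

lemma nu_smul (b : 𝔅'.B) (n : B₀ ⊗[k] J) : nu J hJ 𝔅' (𝔅'.π b • n) = b * nu J hJ 𝔅' n := by
  induction n using TensorProduct.induction_on with
  | zero => rw [smul_zero, map_zero, mul_zero]
  | tmul b₀ j =>
    obtain ⟨b', rfl⟩ := 𝔅'.surj b₀
    rw [TensorProduct.smul_tmul', smul_eq_mul, ← map_mul, nu_tmul, nu_tmul, mul_smul_comm]
  | add x y hx hy => rw [smul_add, map_add, map_add, hx, hy, mul_add]

lemma nu_mem (n : B₀ ⊗[k] J) : nu J hJ 𝔅' n ∈ J.map (algebraMap C' 𝔅'.B) := by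
  induction n using TensorProduct.induction_on with
  | zero => rw [map_zero]; exact Ideal.zero_mem _
  | tmul b₀ j =>
    obtain ⟨b', rfl⟩ := 𝔅'.surj b₀
    rw [nu_tmul, Algebra.smul_def]
    exact Ideal.mul_mem_right _ _ (Ideal.mem_map_of_mem _ j.2)
  | add x y hx hy => rw [map_add]; exact Ideal.add_mem _ hx hy

lemma exists_nu_eq (x : 𝔅'.B) (hx : x ∈ J.map (algebraMap C' 𝔅'.B)) : ∃ n, nu J hJ 𝔅' n = x := by
  refine Submodule.span_induction (p := fun x _ => ∃ n, nu J hJ 𝔅' n = x) ?_ ?_ ?_ ?_ hx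
  · rintro _ ⟨j, hj, rfl⟩
    refine ⟨𝔅'.π 1 ⊗ₜ (⟨j, hj⟩ : J), ?_⟩
    rw [nu_tmul, Algebra.smul_def, mul_one]
  · exact ⟨0, map_zero _⟩
  · rintro x y _ _ ⟨n, rfl⟩ ⟨m, rfl⟩
    exact ⟨n + m, map_add _ _ _⟩
  · rintro a x _ ⟨n, rfl⟩
    exact ⟨𝔅'.π a • n, by rw [nu_smul, smul_eq_mul]⟩

lemma mem_map_iff_exists_nu (x : 𝔅'.B) : x ∈ J.map (algebraMap C' 𝔅'.B) ↔ ∃ n, nu J hJ 𝔅' n = x :=
  ⟨exists_nu_eq J hJ 𝔅' x, by rintro ⟨n, rfl⟩; exact nu_mem J hJ 𝔅' n⟩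

include hJ in
lemma π_eq_zero_of_mem_map (hJ' : J ≤ IsLocalRing.maximalIdeal C') (x : 𝔅'.B)
    (hx : x ∈ J.map (algebraMap C' 𝔅'.B)) : 𝔅'.π x = 0 := by
  have : x ∈ RingHom.ker 𝔅'.π := by
    rw [𝔅'.ker_eq]
    exact Ideal.map_mono hJ' hx
  exact this

lemma π_nu (hJ' : J ≤ IsLocalRing.maximalIdeal C') (n : B₀ ⊗[k] J) : 𝔅'.π (nu J hJ 𝔅' n) = 0 :=
  π_eq_zero_of_mem_map J hJ 𝔅' hJ' _ (nu_mem J hJ 𝔅' n)

lemma smul_nu (c : C') (n : B₀ ⊗[k] J) : c • nu J hJ 𝔅' n = nu J hJ 𝔅' (C'.res c • n) := by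
  have h1 : C'.res c • n = 𝔅'.π (algebraMap C' 𝔅'.B c) • n := by
    rw [𝔅'.comm, algebraMap_smul]
  rw [h1, nu_smul, Algebra.smul_def]

lemma smul_nu_eq_zero (m : C') (hm : m ∈ IsLocalRing.maximalIdeal C') (n : B₀ ⊗[k] J) :
    m • nu J hJ 𝔅' n = 0 := by
  rw [smul_nu, (Art.mem_maximalIdeal_iff C' m).1 hm, zero_smul, map_zero]

/-- Naturality of `ν`. -/
lemma nu_natural (𝔅'' : AlgDef B₀ C') (φ : 𝔅'.B →+* 𝔅''.B)
    (hA : ∀ c, φ (algebraMap C' 𝔅'.B c) = algebraMap C' 𝔅''.B c) (hπ : ∀ b, 𝔅''.π (φ b) = 𝔅'.π b)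
    (n : B₀ ⊗[k] J) : φ (nu J hJ 𝔅' n) = nu J hJ 𝔅'' n := by
  induction n using TensorProduct.induction_on with
  | zero => rw [map_zero, map_zero, map_zero]
  | tmul b₀ j =>
    obtain ⟨b', rfl⟩ := 𝔅'.surj b₀
    rw [nu_tmul, ← hπ, nu_tmul, Algebra.smul_def, map_mul, hA, ← Algebra.smul_def]
  | add x y hx hy => rw [map_add, map_add, map_add, hx, hy]

end AlgDef

end Nu

end Groth.Agent.Lib.Helper1.AffDef
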