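import Mathlib
import Groth.Prelude.Def_ArtFun2
import Groth.Agent.Lib.Helper1.ArtFunTangent

/-!
# Functors of Artin rings: construction of the vector space structure on the tangent space
-/
universe u v
open CategoryTheory

namespace Groth.Agent.Lib.Helper1.ArtFunLib

open ArtFun ArtFun.Art

variable {Λ : Type u} {k : Type u} [CommRing Λ] [Field k] [Algebra Λ k]

namespace TStr

variable {F : Art Λ k ⥤ Type v} (h0 : H0 F) (h2 : Heps F)

variable (Λ k) in
/-- `k[ε]` -/
abbrev D1 : Art Λ k := tszeObj Λ k k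
variable (Λ k) in
/-- `k[ε₁, ε₂]` -/
abbrev D2 : Art Λ k := tszeObj Λ k (k × k)
variable (Λ k) in
/-- `k[ε₁, ε₂, ε₃]` -/
abbrev D3 : Art Λ k := tszeObj Λ k ((k × k) × k)

/-- first projection -/
abbrev P1 : D2 Λ k ⟶ D1 Λ k := tszeHom (LinearMap.fst k k k)
/-- second projection -/
abbrev P2 : D2 Λ k ⟶ D1 Λ k := tszeHom (LinearMap.snd k k k)
/-- sum -/
abbrev PL : D2 Λ k ⟶ D1 Λ k := tszeHom (LinearMap.fst k k k + LinearMap.snd k k k)

include h0 h2 in
lemma exists_pair (x y : F.obj (D1 Λ k)) :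
    ∃ z : F.obj (D2 Λ k), F.map P1 z = x ∧ F.map P2 z = y :=
  exists_dual2_of_heps h0 h2 x y

include h2 in
lemma eq_of_pair (z z' : F.obj (D2 Λ k))
    (h₁ : F.map P1 z = F.map P1 z') (h₂ : F.map P2 z = F.map P2 z') : z = z' :=
  eq_of_dual2_of_heps h2 z z' h₁ h₂

/-- the element of `F(k[ε₁,ε₂])` with given projections -/
noncomputable def pair (x y : F.obj (D1 Λ k)) : F.obj (D2 Λ k) :=
  (exists_pair h0 h2 x y).choose

lemma pair_fst (x y : F.obj (D1 Λ k)) : F.map P1 (pair h0 h2 x y) = x :=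
  (exists_pair h0 h2 x y).choose_spec.1

lemma pair_snd (x y : F.obj (D1 Λ k)) : F.map P2 (pair h0 h2 x y) = y :=
  (exists_pair h0 h2 x y).choose_spec.2

lemma pair_eq (x y : F.obj (D1 Λ k)) (z : F.obj (D2 Λ k)) (h₁ : F.map P1 z = x) (h₂ : F.map P2 z = y) :
    pair h0 h2 x y = z :=
  eq_of_pair h2 _ _ ((pair_fst h0 h2 x y).trans h₁.symm) ((pair_snd h0 h2 x y).trans h₂.symm)

/-- addition -/
noncomputable def tadd (x y : F.obj (D1 Λ k)) : F.obj (D1 Λ k) := F.map PL (pair h0 h2 x y)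

lemma tadd_eq (x y : F.obj (D1 Λ k)) (z : F.obj (D2 Λ k)) (h₁ : F.map P1 z = x) (h₂ : F.map P2 z = y) :
    tadd h0 h2 x y = F.map PL z := by
  rw [tadd, pair_eq h0 h2 x y z h₁ h₂]

/-- zero -/
noncomputable def tzero : F.obj (D1 Λ k) := F.map (baseToTsze Λ k k) h0.1.some

lemma map_toBase_baseToDual (x : F.obj (D1 Λ k)) :
    F.map (toBase (D1 Λ k) ≫ baseToTsze Λ k k) x = tzero h0 := by
  rw [F.map_comp_apply]
  have := h0.2
  rw [tzero, Subsingleton.elim (F.map (toBase (D1 Λ k)) x) h0.1.some]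

/-- scalar multiplication -/
def tsmul (c : k) (x : F.obj (D1 Λ k)) : F.obj (D1 Λ k) :=
  F.map (tszeHom (Λ := Λ) (c • (LinearMap.id : k →ₗ[k] k))) x

section
variable {V : Type u}
  [AddCommGroup V] [Module k V] [Module kᵐᵒᵖ V] [SMulCommClass k kᵐᵒᵖ V]
  [IsCentralScalar k V] [Module.Finite k V] [Module Λ V] [IsScalarTower Λ k V] [IsScalarTower Λ kᵐᵒᵖ V]

/-- general principle: sums of images under maps `k[V] → k[ε]` induced by a map to `k[ε₁, ε₂]` -/
lemma tadd_map (j : V →ₗ[k] k × k) (x : F.obj (tszeObj Λ k V)) :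
    tadd h0 h2 (F.map (tszeHom (Λ := Λ) (LinearMap.fst k k k ∘ₗ j)) x)
      (F.map (tszeHom (Λ := Λ) (LinearMap.snd k k k ∘ₗ j)) x) =
    F.map (tszeHom (Λ := Λ) ((LinearMap.fst k k k + LinearMap.snd k k k) ∘ₗ j)) x := by
  rw [tadd_eq h0 h2 _ _ (F.map (tszeHom (Λ := Λ) j) x)]
  · rw [← F.map_comp_apply, tszeHom_comp]
  · rw [← F.map_comp_apply, tszeHom_comp]
  · rw [← F.map_comp_apply, tszeHom_comp]
end

lemma map_id' (x : F.obj (D1 Λ k)) : F.map (tszeHom (Λ := Λ) (LinearMap.id : k →ₗ[k] k)) x = x := by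
  rw [tszeHom_id]; exact F.map_id_apply _ x

lemma map_zero' (x : F.obj (D1 Λ k)) : F.map (tszeHom (Λ := Λ) (0 : k →ₗ[k] k)) x = tzero h0 := by
  rw [tszeHom_zero]; exact map_toBase_baseToDual h0 x

theorem tadd_comm (x y : F.obj (D1 Λ k)) : tadd h0 h2 x y = tadd h0 h2 y x := by
  have := tadd_map h0 h2 ((LinearMap.snd k k k).prod (LinearMap.fst k k k)) (pair h0 h2 x y)
  rw [LinearMap.fst_prod, LinearMap.snd_prod, pair_fst, pair_snd] at this
  have e : (LinearMap.fst k k k + LinearMap.snd k k k) ∘ₗ ((LinearMap.snd k k k).prod (LinearMap.fst k k k)) =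
      LinearMap.fst k k k + LinearMap.snd k k k := by
    ext <;> simp
  rw [e] at this
  rw [this, tadd]

theorem tadd_zero (x : F.obj (D1 Λ k)) : tadd h0 h2 x (tzero h0) = x := by
  have := tadd_map h0 h2 (LinearMap.inl k k k) x
  rw [LinearMap.fst_comp_inl, LinearMap.snd_comp_inl, map_id', map_zero' h0] at this
  rw [this]
  have e : (LinearMap.fst k k k + LinearMap.snd k k k) ∘ₗ LinearMap.inl k k k = LinearMap.id := by
    ext; simp
  rw [e, map_id']

theorem tadd_assoc (x y w : F.obj (D1 Λ k)) :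
    tadd h0 h2 (tadd h0 h2 x y) w = tadd h0 h2 x (tadd h0 h2 y w) := by
  -- the element of `F(k[ε₁,ε₂,ε₃])`
  have hb := h2 (tszeHom (Λ := Λ) (LinearMap.fst k (k × k) k)) (tszeHom (Λ := Λ) (LinearMap.snd k (k × k) k))
    (isFibreProd_tsze (Λ := Λ) (V := k × k) (W := k))
  have hsub := h0.2
  obtain ⟨t, ht⟩ := hb.2 ⟨(pair h0 h2 x y, w), Subsingleton.elim _ _⟩
  have ht1 : F.map (tszeHom (Λ := Λ) (LinearMap.fst k (k × k) k)) t = pair h0 h2 x y :=
    congrArg (fun t => t.1.1) ht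
  have ht2 : F.map (tszeHom (Λ := Λ) (LinearMap.snd k (k × k) k)) t = w := congrArg (fun t => t.1.2) ht
  set q₁ : (k × k) × k →ₗ[k] k := LinearMap.fst k k k ∘ₗ LinearMap.fst k (k × k) k with hq₁
  set q₂ : (k × k) × k →ₗ[k] k := LinearMap.snd k k k ∘ₗ LinearMap.fst k (k × k) k with hq₂
  set q₃ : (k × k) × k →ₗ[k] k := LinearMap.snd k (k × k) k with hq₃
  have hx : F.map (tszeHom (Λ := Λ) q₁) t = x := by
    rw [hq₁, ← tszeHom_comp, F.map_comp_apply, ht1, pair_fst]
  have hy : F.map (tszeHom (Λ := Λ) q₂) t = y := by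
    rw [hq₂, ← tszeHom_comp, F.map_comp_apply, ht1, pair_snd]
  have hw : F.map (tszeHom (Λ := Λ) q₃) t = w := ht2
  -- x + y
  have hxy : F.map (tszeHom (Λ := Λ) (q₁ + q₂)) t = tadd h0 h2 x y := by
    have := tadd_map h0 h2 (q₁.prod q₂) t
    rw [LinearMap.fst_prod, LinearMap.snd_prod, hx, hy] at this
    have e : (LinearMap.fst k k k + LinearMap.snd k k k) ∘ₗ (q₁.prod q₂) = q₁ + q₂ := by
      ext <;> simp
    rw [this, e]
  have hyw : F.map (tszeHom (Λ := Λ) (q₂ + q₃)) t = tadd h0 h2 y w := by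
    have := tadd_map h0 h2 (q₂.prod q₃) t
    rw [LinearMap.fst_prod, LinearMap.snd_prod, hy, hw] at this
    have e : (LinearMap.fst k k k + LinearMap.snd k k k) ∘ₗ (q₂.prod q₃) = q₂ + q₃ := by
      ext <;> simp
    rw [this, e]
  have h1 := tadd_map h0 h2 ((q₁ + q₂).prod q₃) t
  rw [LinearMap.fst_prod, LinearMap.snd_prod, hxy, hw] at h1
  have h2' := tadd_map h0 h2 (q₁.prod (q₂ + q₃)) t
  rw [LinearMap.fst_prod, LinearMap.snd_prod, hx, hyw] at h2'
  have e : (LinearMap.fst k k k + LinearMap.snd k k k) ∘ₗ ((q₁ + q₂).prod q₃) =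
      (LinearMap.fst k k k + LinearMap.snd k k k) ∘ₗ (q₁.prod (q₂ + q₃)) := by
    ext <;> simp [add_assoc]
  rw [h1, h2', e]

theorem tsmul_neg_add (x : F.obj (D1 Λ k)) : tadd h0 h2 (tsmul (-1) x) x = tzero h0 := by
  have := tadd_map h0 h2 (((-1 : k) • LinearMap.id).prod LinearMap.id) x
  rw [LinearMap.fst_prod, LinearMap.snd_prod, map_id'] at this
  rw [tsmul, this]
  have e : (LinearMap.fst k k k + LinearMap.snd k k k) ∘ₗ (((-1 : k) • LinearMap.id).prod LinearMap.id) = 0 := by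
    ext; simp
  rw [e, map_zero' h0]

/-- the additive group structure on the tangent space -/
noncomputable def addCommGroup : AddCommGroup (F.obj (D1 Λ k)) :=
  letI : Add (F.obj (D1 Λ k)) := ⟨tadd h0 h2⟩
  letI : Zero (F.obj (D1 Λ k)) := ⟨tzero h0⟩
  letI : Neg (F.obj (D1 Λ k)) := ⟨tsmul (-1)⟩
  { AddGroup.ofLeftAxioms (tadd_assoc h0 h2)
      (fun x => (tadd_comm h0 h2 _ _).trans (tadd_zero h0 h2 x)) (tsmul_neg_add h0 h2) with
    add_comm := tadd_comm h0 h2 }

lemma add_def (x y : F.obj (D1 Λ k)) :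
    letI := addCommGroup h0 h2
    x + y = tadd h0 h2 x y := rfl

lemma zero_def :
    letI := addCommGroup h0 h2
    (0 : F.obj (D1 Λ k)) = tzero h0 := rfl

theorem tsmul_one (x : F.obj (D1 Λ k)) : tsmul (1 : k) x = x := by
  rw [tsmul, one_smul, map_id']

theorem tsmul_mul (c d : k) (x : F.obj (D1 Λ k)) : tsmul (c * d) x = tsmul c (tsmul d x) := by
  have e : (c * d) • (LinearMap.id : k →ₗ[k] k) = (c • LinearMap.id) ∘ₗ (d • LinearMap.id) := by
    ext; simp
  rw [tsmul, tsmul, tsmul, ← F.map_comp_apply, tszeHom_comp, e]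

theorem tsmul_zero (c : k) : tsmul c (tzero (F := F) h0) = tzero h0 := by
  have e : baseToTsze Λ k k ≫ tszeHom (Λ := Λ) (c • (LinearMap.id : k →ₗ[k] k)) = baseToTsze Λ k k := by
    apply hom_ext
    apply AlgHom.ext
    intro a
    change ((algebraMap k (TrivSqZeroExt k k) a).fst, c • (algebraMap k (TrivSqZeroExt k k) a).snd) =
      algebraMap k (TrivSqZeroExt k k) a
    rw [TrivSqZeroExt.algebraMap_eq_inl]
    exact TrivSqZeroExt.ext rfl (by simp)
  rw [tsmul, tzero, ← F.map_comp_apply, e]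

theorem tsmul_add (c : k) (x y : F.obj (D1 Λ k)) :
    tsmul c (tadd h0 h2 x y) = tadd h0 h2 (tsmul c x) (tsmul c y) := by
  have := tadd_map h0 h2 ((c • LinearMap.fst k k k).prod (c • LinearMap.snd k k k)) (pair h0 h2 x y)
  rw [LinearMap.fst_prod, LinearMap.snd_prod] at this
  have e1 : c • LinearMap.fst k k k = (c • (LinearMap.id : k →ₗ[k] k)) ∘ₗ LinearMap.fst k k k := by
    ext <;> simp
  have e2 : c • LinearMap.snd k k k = (c • (LinearMap.id : k →ₗ[k] k)) ∘ₗ LinearMap.snd k k k := by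
    ext <;> simp
  have e3 : (LinearMap.fst k k k + LinearMap.snd k k k) ∘ₗ
      ((c • LinearMap.fst k k k).prod (c • LinearMap.snd k k k)) =
      (c • (LinearMap.id : k →ₗ[k] k)) ∘ₗ (LinearMap.fst k k k + LinearMap.snd k k k) := by
    ext <;> simp
  rw [e3] at this
  conv_lhs at this => rw [e1, e2]
  rw [← tszeHom_comp, ← tszeHom_comp, ← tszeHom_comp, F.map_comp_apply, F.map_comp_apply, F.map_comp_apply,
    pair_fst, pair_snd] at this
  exact this.symm

theorem add_tsmul (c d : k) (x : F.obj (D1 Λ k)) :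
    tsmul (c + d) x = tadd h0 h2 (tsmul c x) (tsmul d x) := by
  have := tadd_map h0 h2 ((c • LinearMap.id).prod (d • LinearMap.id)) x
  rw [LinearMap.fst_prod, LinearMap.snd_prod] at this
  have e : (LinearMap.fst k k k + LinearMap.snd k k k) ∘ₗ ((c • (LinearMap.id : k →ₗ[k] k)).prod (d • LinearMap.id)) =
      (c + d) • LinearMap.id := by
    ext; simp [add_mul]
  rw [tsmul, tsmul, tsmul, this, e]

theorem zero_tsmul (x : F.obj (D1 Λ k)) : tsmul (0 : k) x = tzero h0 := by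
  rw [tsmul, zero_smul, map_zero' h0]

/-- the module structure on the tangent space -/
noncomputable def module : @Module k (F.obj (D1 Λ k)) _ (addCommGroup h0 h2).toAddCommMonoid :=
  letI := addCommGroup h0 h2
  { smul := tsmul
    one_smul := tsmul_one
    mul_smul := tsmul_mul
    smul_zero := tsmul_zero h0
    smul_add := tsmul_add h0 h2
    add_smul := add_tsmul h0 h2
    zero_smul := zero_tsmul h0 }

/-- the tangent structure -/
noncomputable def tangentStr : TangentStr F where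
  addCommGroup := addCommGroup h0 h2
  module := module h0 h2
  smul_eq _ _ := rfl
  add_eq z := tadd_eq h0 h2 _ _ z rfl rfl

end TStr

end Groth.Agent.Lib.Helper1.ArtFunLib
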