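import Groth.Agent.Lib.Helper1.ExalT1

/-!
# Functoriality of the class of an extension in the coefficient module (helper1)

* `T1map_add`, `T1map_smul`, `T1map_id`, `T1map_comp`;
* `cls_of_hom`: a morphism of extensions over `g : M → N` gives `cls Y = T1map g (cls X)`.
-/

universe u

open TensorProduct CotT

namespace Groth.Agent.Lib.Helper1.ExalT1

section
variable {A B M N N' : Type u} {ι σ : Type u} [CommRing A] [CommRing B] [Algebra A B]
  [AddCommGroup M] [Module B M] [AddCommGroup N] [Module B N] [AddCommGroup N'] [Module B N']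
variable (P : Algebra.Presentation A B ι σ)

lemma T1map_mk (g : M →ₗ[B] N) (c : cocycles1 P M) :
    T1map P g (Submodule.Quotient.mk c) = Submodule.Quotient.mk (cocycles1Map P g c) := rfl

lemma T1map_homToT1 (g : M →ₗ[B] N) (φ : P.toExtension.Cotangent →ₗ[B] M) :
    T1map P g (homToT1 P M φ) = homToT1 P N (g ∘ₗ φ) := rfl

lemma T1map_add (g₁ g₂ : M →ₗ[B] N) (x : T1 P M) :
    T1map P (g₁ + g₂) x = T1map P g₁ x + T1map P g₂ x := by
  obtain ⟨c, rfl⟩ := Submodule.Quotient.mk_surjective _ x
  rw [T1map_mk, T1map_mk, T1map_mk, ← Submodule.Quotient.mk_add]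
  congr 1

lemma T1map_smul (b : B) (g : M →ₗ[B] N) (x : T1 P M) :
    T1map P (b • g) x = b • T1map P g x := by
  obtain ⟨c, rfl⟩ := Submodule.Quotient.mk_surjective _ x
  rw [T1map_mk, T1map_mk, ← Submodule.Quotient.mk_smul]
  congr 1

lemma T1map_id (x : T1 P M) : T1map P (LinearMap.id : M →ₗ[B] M) x = x := by
  obtain ⟨c, rfl⟩ := Submodule.Quotient.mk_surjective _ x
  rw [T1map_mk]
  congr 1

lemma T1map_comp (g : M →ₗ[B] N) (h : N →ₗ[B] N') (x : T1 P M) :
    T1map P (h ∘ₗ g) x = T1map P h (T1map P g x) := by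
  obtain ⟨c, rfl⟩ := Submodule.Quotient.mk_surjective _ x
  rw [T1map_mk, T1map_mk, T1map_mk]
  congr 1

/-- `T¹` of a linear equivalence is bijective -/
lemma T1map_bijective (e : M ≃ₗ[B] N) : Function.Bijective (T1map P e.toLinearMap) := by
  refine Function.bijective_iff_has_inverse.2 ⟨T1map P e.symm.toLinearMap, fun x => ?_, fun x => ?_⟩
  · rw [← T1map_comp]
    have : e.symm.toLinearMap ∘ₗ e.toLinearMap = LinearMap.id := by ext m; simp
    rw [this, T1map_id]
  · rw [← T1map_comp]
    have : e.toLinearMap ∘ₗ e.symm.toLinearMap = LinearMap.id := by ext m; simp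
    rw [this, T1map_id]

variable {P}

/-- a morphism of extensions over `g : M → N` -/
theorem cls_of_hom (g : M →ₗ[B] N) (X : Exal.Ext A B M) (Y : Exal.Ext A B N) (φ : X.E →ₐ[A] Y.E)
    (hproj : ∀ x, Y.proj (φ x) = X.proj x) (hincl : ∀ m, φ (X.incl m) = Y.incl (g m)) :
    cls P Y = T1map P g (cls P X) := by
  let l := chosenLift P X
  let l' : LiftData P Y :=
    { u := φ.comp l.u
      hu := fun r => by
        change Y.proj (φ (l.u r)) = _
        rw [hproj, l.hu] }
  have h1 : ∀ x, deltaFun l' x = g (deltaFun l x) := by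
    intro x
    apply Y.isExtension.incl_injective
    rw [incl_deltaFun, ← hincl, incl_deltaFun]
    rfl
  have h2 : deltaBar l' = g ∘ₗ deltaBar l := by
    apply LinearMap.ext
    intro z
    obtain ⟨x, rfl⟩ := Algebra.Extension.Cotangent.mk_surjective z
    rw [LinearMap.comp_apply, deltaBar_mk, deltaBar_mk, h1]
  rw [cls_eq l', h2, ← T1map_homToT1]
  rfl

end

end Groth.Agent.Lib.Helper1.ExalT1
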