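import Groth.Agent.Lib.Helper1.AffDefSchl
import Groth.Agent.Lib.Helper1.AffDefNu
import Groth.Agent.Lib.Helper1.ExalT1Hom
import Groth.Agent.Lib.Helper1.ArtFunTangentStr

/-!
# First order deformations of an affine scheme and `T¹`, linearly (helper1)

* `extOf hC 𝔅'`: the extension of `B₀` by `B₀ ⊗ 𝔪` underlying a deformation over `C'` with `𝔪² = 0`;
* `cls_extOf_of_hom`: naturality of its class in `T¹`.
-/

universe u
open CategoryTheory AlgebraicGeometry ArtFun ArtFun.Art TensorProduct CotT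

namespace Groth.Agent.Lib.Helper1.AffDef

variable {k : Type u} [Field k] {B₀ : Type u} [CommRing B₀] [Algebra k B₀]

section ExtOf

variable {C' : Art k k}
  (hC : ∀ m ∈ IsLocalRing.maximalIdeal C', ∀ j ∈ IsLocalRing.maximalIdeal C', m * j = 0)
  (𝔅' : AlgDef B₀ C')

/-- the `k`-algebra structure of a deformation -/
@[reducible] noncomputable def AlgDef.kAlgebra : Algebra k 𝔅'.B :=
  ((algebraMap C' 𝔅'.B).comp (algebraMap k C')).toAlgebra

/-- the reduction as a `k`-algebra map -/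
noncomputable def AlgDef.πₐ : @AlgHom k 𝔅'.B B₀ _ _ _ 𝔅'.kAlgebra _ :=
  letI := 𝔅'.kAlgebra
  { 𝔅'.π with
    commutes' := fun c => by
      change 𝔅'.π (algebraMap C' 𝔅'.B (algebraMap k C' c)) = algebraMap k B₀ c
      rw [𝔅'.comm, AlgHom.commutes]
      rfl }

/-- the `k`-algebra extension of `B₀` by `B₀ ⊗ 𝔪` underlying a deformation over `C'` with `𝔪² = 0` -/
noncomputable def extOf : Exal.Ext k B₀ (B₀ ⊗[k] IsLocalRing.maximalIdeal C') :=
  letI := 𝔅'.kAlgebra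
  { E := 𝔅'.B
    proj := 𝔅'.πₐ
    incl := AlgDef.nu (IsLocalRing.maximalIdeal C') hC 𝔅'
    isExtension :=
      { proj_surjective := 𝔅'.surj
        incl_injective := AlgDef.nu_injective _ hC 𝔅'
        exact := fun x => by
          change 𝔅'.π x = 0 ↔ _
          rw [← RingHom.mem_ker, 𝔅'.ker_eq, AlgDef.mem_map_iff_exists_nu _ hC 𝔅']
          rfl
        mul_incl := fun x z => by
          change x * AlgDef.nu _ hC 𝔅' z = AlgDef.nu _ hC 𝔅' (𝔅'.π x • z)
          rw [AlgDef.nu_smul] } }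

lemma extOf_proj (x : 𝔅'.B) : (extOf hC 𝔅').proj x = 𝔅'.π x := rfl

lemma extOf_incl (n : B₀ ⊗[k] IsLocalRing.maximalIdeal C') :
    (extOf hC 𝔅').incl n = AlgDef.nu (IsLocalRing.maximalIdeal C') hC 𝔅' n := rfl

end ExtOf

section Nat

variable {C' C'' : Art k k}
  (hC' : ∀ m ∈ IsLocalRing.maximalIdeal C', ∀ j ∈ IsLocalRing.maximalIdeal C', m * j = 0)
  (hC'' : ∀ m ∈ IsLocalRing.maximalIdeal C'', ∀ j ∈ IsLocalRing.maximalIdeal C'', m * j = 0)
  (g : C' ⟶ C'')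

/-- a morphism restricted to the maximal ideals -/
noncomputable def mMap : IsLocalRing.maximalIdeal C' →ₗ[k] IsLocalRing.maximalIdeal C'' where
  toFun j := ⟨g j.1, by
    rw [Art.mem_maximalIdeal_iff, Art.res_app g]
    exact (Art.mem_maximalIdeal_iff _ _).1 j.2⟩
  map_add' x y := Subtype.ext (map_add g.toAlgHom x.1 y.1)
  map_smul' c x := Subtype.ext (map_smul g.toAlgHom c x.1)

lemma mMap_coe (j : IsLocalRing.maximalIdeal C') : ((mMap g j : IsLocalRing.maximalIdeal C'') : C'') = g j.1 := rfl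

variable {ι σ : Type u} (P : Algebra.Presentation k B₀ ι σ)

/-- naturality of the class of the underlying extension -/
theorem cls_extOf_of_hom (𝔅' : AlgDef B₀ C') (𝔅'' : AlgDef B₀ C'') (θ : 𝔅'.B →+* 𝔅''.B)
    (hθA : ∀ c, θ (algebraMap C' 𝔅'.B c) = algebraMap C'' 𝔅''.B (g c))
    (hθπ : ∀ b, 𝔅''.π (θ b) = 𝔅'.π b) :
    ExalT1.cls P (extOf hC'' 𝔅'') =
      T1map P ((mMap g).baseChange B₀) (ExalT1.cls P (extOf hC' 𝔅')) := by
  letI := 𝔅'.kAlgebra
  letI := 𝔅''.kAlgebra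
  let φ : (extOf hC' 𝔅').E →ₐ[k] (extOf hC'' 𝔅'').E :=
    { θ with
      commutes' := fun c => by
        change θ (algebraMap C' 𝔅'.B (algebraMap k C' c)) = algebraMap C'' 𝔅''.B (algebraMap k C'' c)
        rw [hθA]
        congr 1
        exact g.toAlgHom.commutes c }
  refine ExalT1.cls_of_hom _ _ _ φ (fun x => hθπ x) (fun n => ?_)
  change θ (AlgDef.nu _ hC' 𝔅' n) = AlgDef.nu _ hC'' 𝔅'' ((mMap g).baseChange B₀ n)
  induction n using TensorProduct.induction_on with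
  | zero => rw [map_zero, map_zero, map_zero, map_zero]
  | tmul b₀ j =>
    obtain ⟨b', rfl⟩ := 𝔅'.surj b₀
    rw [LinearMap.baseChange_tmul, AlgDef.nu_tmul, ← hθπ, AlgDef.nu_tmul, Algebra.smul_def, map_mul, hθA,
      ← Algebra.smul_def]
    rfl
  | add x y hx hy => rw [map_add, map_add, map_add, map_add, hx, hy]

end Nat

section Theta

open Groth.Agent.Lib.Helper1.ArtFunLib

variable {Λ : Type u} [CommRing Λ] [Algebra Λ k]
variable (V : Type u) [AddCommGroup V] [Module k V] [Module kᵐᵒᵖ V] [SMulCommClass k kᵐᵒᵖ V]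
  [IsCentralScalar k V] [Module.Finite k V] [Module Λ V] [IsScalarTower Λ k V] [IsScalarTower Λ kᵐᵒᵖ V]
  [IsScalarTower k kᵐᵒᵖ V]
variable {W : Type u} [AddCommGroup W] [Module k W] [Module kᵐᵒᵖ W] [SMulCommClass k kᵐᵒᵖ W]
  [IsCentralScalar k W] [Module.Finite k W] [Module Λ W] [IsScalarTower Λ k W] [IsScalarTower Λ kᵐᵒᵖ W]
  [IsScalarTower k kᵐᵒᵖ W]

/-- forget `Λ` -/
@[reducible] noncomputable def AlgDef.toK (𝔅 : AlgDef B₀ (tszeObj Λ k V)) : AlgDef B₀ (tszeObj k k V) :=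
  { B := 𝔅.B, commRing := 𝔅.commRing, algebra := 𝔅.algebra, flat := 𝔅.flat, π := 𝔅.π,
    comm := 𝔅.comm, surj := 𝔅.surj, ker_le := 𝔅.ker_le }

variable (k) in
lemma tsze_fst_eq_zero (m : (tszeObj k k V : Art k k))
    (hm : m ∈ IsLocalRing.maximalIdeal (tszeObj k k V : Art k k)) : TrivSqZeroExt.fst m = 0 :=
  (Art.mem_maximalIdeal_iff _ _).1 hm

variable (k) in
lemma tsze_sq_zero : ∀ m ∈ IsLocalRing.maximalIdeal (tszeObj k k V : Art k k),
    ∀ j ∈ IsLocalRing.maximalIdeal (tszeObj k k V : Art k k), m * j = 0 := by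
  intro m hm j hj
  have hm' := tsze_fst_eq_zero k V m hm
  have hj' := tsze_fst_eq_zero k V j hj
  apply TrivSqZeroExt.ext
  · change TrivSqZeroExt.fst m * TrivSqZeroExt.fst j = 0
    rw [hm', zero_mul]
  · change TrivSqZeroExt.fst m • TrivSqZeroExt.snd j + MulOpposite.op (TrivSqZeroExt.fst j) • TrivSqZeroExt.snd m = 0
    rw [hm', hj', zero_smul, MulOpposite.op_zero, zero_smul, add_zero]

variable (k) in
/-- the maximal ideal of `k ⊕ V` -/
abbrev tszeM : Type u := IsLocalRing.maximalIdeal (tszeObj k k V : Art k k)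

variable {ι σ : Type u} (P : Algebra.Presentation k B₀ ι σ)

/-- the class in `T¹` of a first order deformation -/
noncomputable def thetaRep (𝔅 : AlgDef B₀ (tszeObj Λ k V)) : T1 P (B₀ ⊗[k] tszeM k V) :=
  ExalT1.cls P (extOf (tsze_sq_zero k V) (𝔅.toK V))

variable {V}

theorem thetaRep_of_hom (f : V →ₗ[k] W) (𝔅 : AlgDef B₀ (tszeObj Λ k V)) (𝔅' : AlgDef B₀ (tszeObj Λ k W))
    (θ : 𝔅.B →+* 𝔅'.B)
    (hθA : ∀ c, θ (algebraMap (tszeObj Λ k V) 𝔅.B c) = algebraMap (tszeObj Λ k W) 𝔅'.B (tszeHom (Λ := Λ) f c))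
    (hθπ : ∀ b, 𝔅'.π (θ b) = 𝔅.π b) :
    thetaRep W P 𝔅' = T1map P ((mMap (tszeHom (Λ := k) f)).baseChange B₀) (thetaRep V P 𝔅) :=
  cls_extOf_of_hom (tsze_sq_zero k V) (tsze_sq_zero k W) (tszeHom (Λ := k) f) P (𝔅.toK V) (𝔅'.toK W) θ hθA hθπ

lemma mMap_tszeHom_id : mMap (tszeHom (Λ := k) (LinearMap.id : V →ₗ[k] V)) = LinearMap.id := by
  apply LinearMap.ext
  intro j
  apply Subtype.ext
  rfl

lemma mMap_tszeHom_add (f g : V →ₗ[k] W) :
    mMap (tszeHom (Λ := k) (f + g)) = mMap (tszeHom (Λ := k) f) + mMap (tszeHom (Λ := k) g) := by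
  apply LinearMap.ext
  intro j
  apply Subtype.ext
  have hj := tsze_fst_eq_zero k V j.1 j.2
  apply TrivSqZeroExt.ext
  · change TrivSqZeroExt.fst j.1 = TrivSqZeroExt.fst j.1 + TrivSqZeroExt.fst j.1
    rw [hj, add_zero]
  · rfl

lemma mMap_tszeHom_smul (c : k) (f : V →ₗ[k] W) :
    mMap (tszeHom (Λ := k) (c • f)) = c • mMap (tszeHom (Λ := k) f) := by
  apply LinearMap.ext
  intro j
  apply Subtype.ext
  have hj := tsze_fst_eq_zero k V j.1 j.2
  apply TrivSqZeroExt.ext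
  · change TrivSqZeroExt.fst j.1 = c • TrivSqZeroExt.fst j.1
    rw [hj, smul_zero]
  · rfl

theorem thetaRep_eq_of_cl_eq (𝔅 𝔅' : AlgDef B₀ (tszeObj Λ k V)) (h : 𝔅.cl = 𝔅'.cl) :
    thetaRep V P 𝔅 = thetaRep V P 𝔅' := by
  obtain ⟨e, heA, heπ⟩ := AlgDef.exists_ringEquiv_of_cl_eq _ _ h
  have h1 := thetaRep_of_hom P (LinearMap.id : V →ₗ[k] V) 𝔅 𝔅' e.toRingHom
    (fun c => by
      change e (algebraMap (tszeObj Λ k V) 𝔅.B c) = _
      rw [heA]
      rfl) heπ
  rw [mMap_tszeHom_id, LinearMap.baseChange_id, ExalT1.T1map_id] at h1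
  exact h1.symm

theorem cl_eq_of_thetaRep_eq (𝔅 𝔅' : AlgDef B₀ (tszeObj Λ k V)) (h : thetaRep V P 𝔅 = thetaRep V P 𝔅') :
    𝔅.cl = 𝔅'.cl := by
  obtain ⟨e⟩ := ExalT1.nonempty_equiv_of_cls_eq P h
  letI := (𝔅.toK V).kAlgebra
  letI := (𝔅'.toK V).kAlgebra
  let φ : (𝔅.toK V).B →+* (𝔅'.toK V).B := e.toAlgEquiv.toAlgHom.toRingHom
  have hπ : ∀ b, (𝔅'.toK V).π (φ b) = (𝔅.toK V).π b := fun b => e.proj_apply b
  have hnu : ∀ n, φ (AlgDef.nu _ (tsze_sq_zero k V) (𝔅.toK V) n) = AlgDef.nu _ (tsze_sq_zero k V) (𝔅'.toK V) n :=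
    fun n => e.apply_incl n
  have hk : ∀ x : k, φ (algebraMap (tszeObj k k V : Art k k) (𝔅.toK V).B (algebraMap k _ x)) =
      algebraMap (tszeObj k k V : Art k k) (𝔅'.toK V).B (algebraMap k _ x) := fun x => e.toAlgEquiv.commutes x
  have hm : ∀ m ∈ IsLocalRing.maximalIdeal (tszeObj k k V : Art k k),
      φ (algebraMap (tszeObj k k V : Art k k) (𝔅.toK V).B m) = algebraMap (tszeObj k k V : Art k k) (𝔅'.toK V).B m := by
    intro m hm
    have h1 : algebraMap (tszeObj k k V : Art k k) (𝔅.toK V).B m =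
        AlgDef.nu _ (tsze_sq_zero k V) (𝔅.toK V) ((𝔅.toK V).π 1 ⊗ₜ ⟨m, hm⟩) := by
      rw [AlgDef.nu_tmul, Algebra.smul_def, mul_one]
    have h2 : algebraMap (tszeObj k k V : Art k k) (𝔅'.toK V).B m =
        AlgDef.nu _ (tsze_sq_zero k V) (𝔅'.toK V) ((𝔅'.toK V).π 1 ⊗ₜ ⟨m, hm⟩) := by
      rw [AlgDef.nu_tmul, Algebra.smul_def, mul_one]
    rw [h1, h2, hnu, map_one, map_one]
  refine AlgDef.cl_eq_of_hom 𝔅 𝔅' φ (fun c' => ?_) hπ
  let c : (tszeObj k k V : Art k k) := c'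
  have hc := sub_algebraMap_res_mem (C' := (tszeObj k k V : Art k k)) c
  have h3 : c = algebraMap k _ ((tszeObj k k V : Art k k).res c) +
      (c - algebraMap k _ ((tszeObj k k V : Art k k).res c)) := by ring
  change φ (algebraMap (tszeObj k k V : Art k k) (𝔅.toK V).B c) = algebraMap (tszeObj k k V : Art k k) (𝔅'.toK V).B c
  rw [h3, map_add, map_add, map_add, hk, hm _ hc]

variable (V)

/-- the map `Def(k ⊕ V) → T¹(B₀/k, B₀ ⊗ 𝔪)` -/
noncomputable def theta (z : (DefF Λ k B₀).obj (tszeObj Λ k V)) : T1 P (B₀ ⊗[k] tszeM k V) :=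
  thetaRep V P (Classical.choose (AlgDef.exists_cl z))

lemma theta_cl (𝔅 : AlgDef B₀ (tszeObj Λ k V)) : theta V P 𝔅.cl = thetaRep V P 𝔅 :=
  thetaRep_eq_of_cl_eq P _ _ (Classical.choose_spec (AlgDef.exists_cl 𝔅.cl))

theorem theta_injective : Function.Injective (theta (Λ := Λ) V P) := by
  intro z z' h
  obtain ⟨𝔅, rfl⟩ := AlgDef.exists_cl z
  obtain ⟨𝔅', rfl⟩ := AlgDef.exists_cl z'
  rw [theta_cl, theta_cl] at h
  exact cl_eq_of_thetaRep_eq P _ _ h

variable {V}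

theorem theta_map (f : V →ₗ[k] W) (z : (DefF Λ k B₀).obj (tszeObj Λ k V)) :
    theta W P ((DefF Λ k B₀).map (tszeHom (Λ := Λ) f) z) =
      T1map P ((mMap (tszeHom (Λ := k) f)).baseChange B₀) (theta V P z) := by
  obtain ⟨𝔅, rfl⟩ := AlgDef.exists_cl z
  rw [AlgDef.map_cl_tensor, theta_cl, theta_cl]
  exact thetaRep_of_hom P f 𝔅 (𝔅.tensor (tszeHom (Λ := Λ) f)) (𝔅.tensorθ _)
    (AlgDef.tensorθ_algebraMap 𝔅 _) (AlgDef.tensor_π_θ 𝔅 _)

end Theta

section Hfin

open Groth.Agent.Lib.Helper1.ArtFunLib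

variable {Λ : Type u} [CommRing Λ] [Algebra Λ k] {ι σ : Type u} (P : Algebra.Presentation k B₀ ι σ)

/-- the `k`-vector space structure of a `B₀`-module -/
@[reducible] def kMod (M : Type*) [AddCommGroup M] [Module B₀ M] : Module k M :=
  Module.compHom M (algebraMap k B₀)

lemma baseChange_smul' {M N : Type*} [AddCommGroup M] [Module k M] [AddCommGroup N] [Module k N] (c : k)
    (f : M →ₗ[k] N) : (c • f).baseChange B₀ = (algebraMap k B₀ c) • f.baseChange B₀ := by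
  refine TensorProduct.AlgebraTensorModule.ext fun b m => ?_
  rw [LinearMap.baseChange_tmul, LinearMap.smul_apply, LinearMap.smul_apply, LinearMap.baseChange_tmul,
    TensorProduct.tmul_smul, algebraMap_smul]

theorem theta_scale (c : k) (x : (DefF Λ k B₀).obj (dual Λ k)) :
    theta k P ((DefF Λ k B₀).map (scale c) x) = (algebraMap k B₀ c) • theta k P x := by
  have h := theta_map (Λ := Λ) P (c • (LinearMap.id : k →ₗ[k] k)) x
  rw [mMap_tszeHom_smul, mMap_tszeHom_id, baseChange_smul', LinearMap.baseChange_id, ExalT1.T1map_smul,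
    ExalT1.T1map_id] at h
  exact h

theorem theta_plus (w : (DefF Λ k B₀).obj (dual2 Λ k)) :
    theta k P ((DefF Λ k B₀).map plus w) =
      theta k P ((DefF Λ k B₀).map pr₁ w) + theta k P ((DefF Λ k B₀).map pr₂ w) := by
  have h := theta_map (Λ := Λ) P (LinearMap.fst k k k + LinearMap.snd k k k) w
  have h1 := theta_map (Λ := Λ) P (LinearMap.fst k k k) w
  have h2 := theta_map (Λ := Λ) P (LinearMap.snd k k k) w
  rw [mMap_tszeHom_add, LinearMap.baseChange_add, ExalT1.T1map_add, ← h1, ← h2] at h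
  exact h

/-- `𝔪 ≃ k` for the dual numbers -/
noncomputable def tszeMEquiv : tszeM k k ≃ₗ[k] k where
  toFun j := TrivSqZeroExt.snd j.1
  map_add' _ _ := rfl
  map_smul' _ _ := rfl
  invFun c := ⟨TrivSqZeroExt.inr c, by
    rw [Art.mem_maximalIdeal_iff]
    rfl⟩
  left_inv j := Subtype.ext (TrivSqZeroExt.ext (tsze_fst_eq_zero k k j.1 j.2).symm rfl)
  right_inv c := rfl

/-- `B₀ ⊗ 𝔪 ≃ B₀` -/
noncomputable def tszeMB : B₀ ⊗[k] tszeM k k ≃ₗ[B₀] B₀ :=
  (LinearEquiv.baseChange k B₀ _ _ tszeMEquiv).trans (TensorProduct.AlgebraTensorModule.rid k B₀ B₀)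

/-- the tangent space of the deformation functor of `Spec B₀` embeds `k`-linearly in `T¹(B₀/k, B₀)` -/
theorem hfin_defF (hT : @Module.Finite k (T1 P B₀) _ _ (kMod (k := k) (B₀ := B₀) (T1 P B₀))) :
    @Hfin Λ k _ _ _ (DefF Λ k B₀) (TStr.tangentStr h0_defF heps_defF) := by
  letI TS : TangentStr (DefF Λ k B₀) := TStr.tangentStr h0_defF heps_defF
  letI : Module k (T1 P B₀) := kMod (k := k) (B₀ := B₀) (T1 P B₀)
  haveI : IsNoetherian k (T1 P B₀) := isNoetherian_of_isNoetherianRing_of_finite k _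
  let Θ : TangentSpace (DefF Λ k B₀) →ₗ[k] T1 P B₀ :=
    { toFun := fun x => T1map P (tszeMB (B₀ := B₀)).toLinearMap (theta k P x)
      map_add' := fun x y => by
        obtain ⟨w, hw1, hw2⟩ := exists_dual2_of_heps h0_defF heps_defF x y
        have e1 : x + y = (DefF Λ k B₀).map plus w := by
          rw [← hw1, ← hw2]
          exact TS.add_eq w
        rw [e1, theta_plus, hw1, hw2, map_add]
      map_smul' := fun c x => by
        have e1 : c • x = (DefF Λ k B₀).map (scale c) x := TS.smul_eq c x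
        rw [e1, theta_scale, map_smul]
        rfl }
  have hinj : Function.Injective Θ := fun x y h =>
    theta_injective k P ((ExalT1.T1map_bijective P (tszeMB (B₀ := B₀))).1 h)
  exact Module.Finite.of_injective Θ hinj

end Hfin

end Groth.Agent.Lib.Helper1.AffDef
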