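import Mathlib
import Groth.Prelude.Def_ArtFun3
import Groth.Agent.Lib.Helper1.ArtFunSmoothCrit

/-!
# Criterion for versality of a family
-/
universe u v
open CategoryTheory

namespace Groth.Agent.Lib.Helper1.ArtFunLib

open ArtFun ArtFun.Art

variable {Λ : Type u} {k : Type u} [CommRing Λ] [Field k] [Algebra Λ k]

variable {R : Type u} [CommRing R] [Algebra Λ R] {resR : R →ₐ[Λ] k} {F : Art Λ k ⥤ Type v}

/-- versality can be checked on small extensions -/
theorem isVersal_of_smallExt (ξ : Family R resR F)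
    (h : ∀ ⦃B A : Art Λ k⦄ (μ : B ⟶ A), IsSmallExt μ → ∀ (φ : HomSet R resR A) (y : F.obj B),
      F.map μ y = ξ.app A φ → ∃ ψ : HomSet R resR B, HomSet.map μ ψ = φ ∧ ξ.app B ψ = y) : IsVersal ξ := by
  intro B A μ hμ
  refine surjective_induction (fun A B μ => ∀ (φ : HomSet R resR A) (y : F.obj B),
      F.map μ y = ξ.app A φ → ∃ ψ : HomSet R resR B, HomSet.map μ ψ = φ ∧ ξ.app B ψ = y) ?_ ?_ ?_ μ hμ
  · intro A B e he φ y hy
    refine ⟨HomSet.map (inv e) φ, ?_, ?_⟩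
    · rw [← homSet_map_comp, IsIso.inv_hom_id, homSet_map_id]
    · rw [ξ.natural, ← hy, map_inv_map]
  · intro A B p hp
    exact h p hp
  · intro A B C p q hp hq φ y hy
    rw [F.map_comp_apply] at hy
    obtain ⟨ψ₁, h1, h2⟩ := hq φ (F.map p y) hy
    obtain ⟨ψ, h3, h4⟩ := hp ψ₁ y h2.symm
    exact ⟨ψ, by rw [homSet_map_comp, h3, h1], h4⟩

theorem tangent_surjective_of_isVersal (h0 : H0 F) (ξ : Family R resR F) (hξ : IsVersal ξ) :
    Function.Surjective (TangentSpace.ofFamily ξ) :=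
  surjective_app_of_isVersal ξ hξ h0 (dual Λ k)

section

variable [IsNoetherianRing Λ] [Module.Finite Λ k]

theorem isVersal_of_tangent_surjective_of_lifts (h0 : H0 F) (h1 : Hbar F) (h2 : Heps F) (ξ : Family R resR F)
    (hd : Function.Surjective (TangentSpace.ofFamily ξ))
    (hl : ∀ ⦃B A : Art Λ k⦄ (μ : B ⟶ A), IsSmallExt μ →
          ∀ (φ : HomSet R resR A) (y : F.obj B), F.map μ y = ξ.app A φ →
            ∃ ψ : HomSet R resR B, HomSet.map μ ψ = φ) : IsVersal ξ := by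
  apply isVersal_of_smallExt
  intro B A μ hμ φ y e
  obtain ⟨ψ, hψ⟩ := hl μ hμ φ y e
  obtain ⟨P, π₁, π₂, hP⟩ := exists_isFibreProd_of_surjective μ μ hμ.1
  obtain ⟨t, ht⟩ := exists_generator hμ
  have h' := isFibreProd_deltaHom hμ ht hP
  have e' : F.map μ (ξ.app B ψ) = F.map μ y := by rw [← ξ.natural, hψ, e]
  obtain ⟨θ, hθ⟩ := act_transitive h0 h2 h1 hμ hP h' (ξ.app B ψ) y e'
  obtain ⟨τ, hτ⟩ := hd θ
  have hτ' : ξ.app (dual Λ k) τ = θ := hτ
  have hcompat : HomSet.map (toBase B) ψ = HomSet.map (toBase (dual Λ k)) τ := Subsingleton.elim _ _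
  set χ := fpLift h' ψ τ hcompat with hχdef
  have hχ : ξ.app P χ = actElt h0 h2 h' (ξ.app B ψ) θ := by
    apply (h2 π₁ _ h').1
    apply FibProd.ext
    · change F.map π₁ (ξ.app P χ) = F.map π₁ (actElt h0 h2 h' (ξ.app B ψ) θ)
      rw [← ξ.natural, fpLift_fst, actElt_fst]
    · change F.map (deltaHom hμ ht hP) (ξ.app P χ) = F.map (deltaHom hμ ht hP) (actElt h0 h2 h' (ξ.app B ψ) θ)
      rw [← ξ.natural, fpLift_snd, actElt_snd, hτ']
  refine ⟨HomSet.map π₂ χ, ?_, ?_⟩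
  · rw [← homSet_map_comp, ← hP.w, homSet_map_comp, fpLift_fst, hψ]
  · rw [ξ.natural, hχ, hθ]

theorem isVersal_iff_tangent_surjective_and_exists_lift (h0 : H0 F) (h1 : S1 F) (h2 : Heps F)
    (ξ : Family R resR F) :
    IsVersal ξ ↔
      (Function.Surjective (TangentSpace.ofFamily ξ) ∧
        ∀ ⦃B A : Art Λ k⦄ (μ : B ⟶ A), IsSmallExt μ →
          ∀ (φ : HomSet R resR A) (y : F.obj B), F.map μ y = ξ.app A φ →
            ∃ ψ : HomSet R resR B, HomSet.map μ ψ = φ) := by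
  constructor
  · intro hξ
    refine ⟨tangent_surjective_of_isVersal h0 ξ hξ, ?_⟩
    intro B A μ hμ φ y e
    obtain ⟨ψ, hψ, -⟩ := hξ μ hμ.1 φ y e
    exact ⟨ψ, hψ⟩
  · rintro ⟨hd, hl⟩
    exact isVersal_of_tangent_surjective_of_lifts h0 ((s1_iff_hbar F).1 h1) h2 ξ hd hl

end

end Groth.Agent.Lib.Helper1.ArtFunLib
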