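import Mathlib
import Groth.Prelude.Def_ArtFun5
import Groth.Agent.Lib.Helper1.ArtFunQuotRing
import Groth.Agent.Lib.Helper1.ArtFunTangentFin
import Groth.Agent.Lib.Helper1.ArtFunTangentStr
import Groth.Agent.Lib.Helper1.ArtFunVersalCrit
import Groth.Agent.Lib.Helper1.ArtFunAction
import Groth.Agent.Lib.Helper1.ArtFunDer

/-!
# Cutting a versal family down to a hull (when `k` has no nonzero `Λ`-derivation)
-/
universe u v w
open CategoryTheory

namespace Groth.Agent.Lib.Helper1.ArtFunLib

open ArtFun ArtFun.Art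

section LinAlg

theorem exists_dual_coords {k : Type u} {V : Type v} {X : Type w} [Field k] [AddCommGroup V] [Module k V]
    [FiniteDimensional k V] (Φ : V →ₗ[k] (X → k)) (hΦ : Function.Injective Φ) :
    ∃ (ι : Type (max u v)) (x : ι → X), Function.Bijective (fun (v : V) (j : ι) => Φ v (x j)) := by
  classical
  let ev : X → Module.Dual k V := fun x => (LinearMap.proj x).comp Φ
  let s : Set (Module.Dual k V) := Set.range ev
  have hs : Submodule.span k s = ⊤ := by
    have h1 : (Submodule.span k s).dualCoannihilator = ⊥ := by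
      rw [eq_bot_iff]
      intro v hv
      rw [Submodule.mem_dualCoannihilator] at hv
      have h0 : Φ v = 0 := by
        ext x
        exact hv (ev x) (Submodule.subset_span ⟨x, rfl⟩)
      exact hΦ (h0.trans (map_zero Φ).symm)
    have h2 := Subspace.dualCoannihilator_dualAnnihilator_eq (W := Submodule.span k s)
    rw [h1, Submodule.dualAnnihilator_bot] at h2
    exact h2.symm
  obtain ⟨b, hbs, hbspan, hbli⟩ := exists_linearIndependent k s
  rw [hs] at hbspan
  have : Finite b := hbli.finite
  let _ : Fintype b := Fintype.ofFinite b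
  let β : Module.Basis b k (Module.Dual k V) := Module.Basis.mk hbli (by
    rw [Subtype.range_coe_subtype]
    exact le_of_eq hbspan.symm)
  have hx : ∀ φ : b, ∃ x : X, ev x = φ.1 := fun φ => hbs φ.2
  choose x hx using hx
  refine ⟨b, x, ?_⟩
  let E : V →ₗ[k] (b → k) :=
    { toFun := fun v j => Φ v (x j)
      map_add' := fun v w => by ext j; simp
      map_smul' := fun c v => by ext j; simp }
  have hE : ∀ v j, E v j = (j : Module.Dual k V) v := by
    intro v j
    rw [← hx j]
    rfl
  have hinj : Function.Injective E := by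
    rw [← LinearMap.ker_eq_bot, eq_bot_iff]
    intro v hv
    rw [LinearMap.mem_ker] at hv
    rw [Submodule.mem_bot, ← Module.forall_dual_apply_eq_zero_iff k]
    intro φ
    have hφ : φ ∈ Submodule.span k b := by rw [hbspan]; exact Submodule.mem_top
    refine Submodule.span_induction (p := fun φ _ => φ v = 0) ?_ ?_ ?_ ?_ hφ
    · intro ψ hψ
      have := congrFun hv ⟨ψ, hψ⟩
      rw [hE] at this
      exact this
    · rfl
    · intro a b _ _ ha hb
      rw [LinearMap.add_apply, ha, hb, add_zero]
    · intro c a _ ha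
      rw [LinearMap.smul_apply, ha, smul_zero]
  have hfr : Module.finrank k V = Module.finrank k (b → k) := by
    rw [Module.finrank_fintype_fun_eq_card, ← Module.finrank_eq_card_basis β, Subspace.dual_finrank_eq]
  exact ⟨hinj, (LinearMap.injective_iff_surjective_of_finrank_eq_finrank hfr).1 hinj⟩

end LinAlg

variable {Λ : Type u} {k : Type u} [CommRing Λ] [Field k] [Algebra Λ k]

section DerVanish

variable {R : Type u} [CommRing R] [Algebra Λ R] [Algebra R k] [IsScalarTower Λ R k]

/-- a `Λ`-derivation `R → k` vanishing on the kernel of the surjection `R → k` is zero when `k` has no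
nonzero `Λ`-derivation -/
theorem derivation_eq_zero_of_vanish (hk : Subsingleton (Derivation Λ k k))
    (hres : Function.Surjective (algebraMap R k)) (D : Derivation Λ R k)
    (h : ∀ f : R, algebraMap R k f = 0 → D f = 0) : D = 0 := by
  let s : k → R := Function.surjInv hres
  have hs : ∀ c, algebraMap R k (s c) = c := Function.surjInv_eq hres
  have key : ∀ r r' : R, algebraMap R k r = algebraMap R k r' → D r = D r' := by
    intro r r' e
    have := h (r - r') (by rw [map_sub, e, sub_self])
    rw [map_sub, sub_eq_zero] at this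
    exact this
  let Db : Derivation Λ k k :=
    { toFun := fun c => D (s c)
      map_add' := fun c c' => by
        rw [← map_add]
        exact key _ _ (by rw [map_add, hs, hs, hs])
      map_smul' := fun l c => by
        rw [RingHom.id_apply, ← D.map_smul]
        apply key
        rw [hs, Algebra.smul_def, Algebra.smul_def, map_mul, hs, ← IsScalarTower.algebraMap_apply]
      map_one_eq_zero' := by
        change D (s 1) = 0
        rw [key (s 1) 1 (by rw [hs, map_one])]
        exact D.map_one_eq_zero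
      leibniz' := fun c c' => by
        change D (s (c * c')) = c • D (s c') + c' • D (s c)
        rw [key (s (c * c')) (s c * s c') (by rw [map_mul, hs, hs, hs]), D.leibniz]
        congr 1
        · rw [Algebra.smul_def, hs, smul_eq_mul]
        · rw [Algebra.smul_def, hs, smul_eq_mul] }
  have hDb : Db = 0 := Subsingleton.elim _ _
  ext r
  have h1 : D r = Db (algebraMap R k r) := key _ _ (hs _).symm
  rw [h1, hDb]
  rfl

end DerVanish

section Cut

variable [IsNoetherianRing Λ] [Module.Finite Λ k]
variable {F : Art Λ k ⥤ Type v}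

theorem exists_miniversal_quot_of_isVersal_of_vanish
    (h0 : H0 F) (h2 : Heps F) (R : CRing Λ k) (ξ : Family R.carrier R.res F)
    (hξ : IsVersal ξ)
    (hvan : ∀ u : HomSet R.carrier R.res (dual Λ k),
      ξ.app _ u = ξ.app _ (HomSet.map baseToDual (homSetBase R.carrier R.res)) →
      (∀ f ∈ IsLocalRing.maximalIdeal R.carrier, u.1 f = 0) →
      u = HomSet.map baseToDual (homSetBase R.carrier R.res)) :
    ∃ (J : Ideal R.carrier) (hJ : J ≤ IsLocalRing.maximalIdeal R.carrier),
      IsMiniversal (ξ.along (quotCHom R J hJ) (quotCHom_res R J hJ)) := by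
  classical
  have h1 : S1 F := s1_of_isVersal ξ hξ h0
  letI TF : TangentStr F := TStr.tangentStr h0 h2
  letI : Algebra R.carrier k := R.res.toRingHom.toAlgebra
  haveI : IsScalarTower Λ R.carrier k := IsScalarTower.of_algebraMap_eq (fun l => (R.res.commutes l).symm)
  haveI := R.isAdicComplete
  have hres : Function.Surjective (algebraMap R.carrier k) := R.res_surjective
  have halg : ∀ a : R.carrier, algebraMap R.carrier k a = R.res a := fun _ => rfl
  haveI : Module.Finite k (Derivation Λ R.carrier k) := finite_derivation_residueField R.carrier hres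
  let ξ' : Family R.carrier (IsScalarTower.toAlgHom Λ R.carrier k) F := ξ
  let L := tangentOfDer ξ'
  let K := LinearMap.ker L
  let X := ↥(IsLocalRing.maximalIdeal R.carrier)
  let Φ : K →ₗ[k] (X → k) :=
    { toFun := fun D f => D.1 f.1
      map_add' := fun D D' => by ext f; rfl
      map_smul' := fun c D => by ext f; rfl }
  have hLapp0 : ∀ D : Derivation Λ R.carrier k, L D = ξ.app (dual Λ k) (homSetOfDer D) := fun _ => rfl
  have hu₀ : (homSetOfDer (0 : Derivation Λ R.carrier k) :
      HomSet R.carrier R.res (dual Λ k)) = HomSet.map baseToDual (homSetBase R.carrier R.res) := by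
    apply homSet_ext
    intro r
    apply TrivSqZeroExt.ext
    · change (homOfDer (0 : Derivation Λ R.carrier k) r).fst = _
      rw [homOfDer_fst]
      rfl
    · change (homOfDer (0 : Derivation Λ R.carrier k) r).snd = _
      rw [homOfDer_snd]
      rfl
  have hvanD : ∀ D : Derivation Λ R.carrier k, L D = 0 →
      (∀ f ∈ IsLocalRing.maximalIdeal R.carrier, D f = 0) → D = 0 := by
    intro D hD hf
    have e1 : ξ.app (dual Λ k) (homSetOfDer D) =
        ξ.app _ (HomSet.map baseToDual (homSetBase R.carrier R.res)) := by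
      rw [← hu₀]
      change L D = L 0
      rw [hD, map_zero]
    have e2 : ∀ f ∈ IsLocalRing.maximalIdeal R.carrier, (homSetOfDer D).1 f = 0 := by
      intro f hfm
      apply TrivSqZeroExt.ext
      · change (homOfDer D f).fst = 0
        rw [homOfDer_fst, halg, (R.mem_maximalIdeal_iff f).1 hfm]
      · change (homOfDer D f).snd = 0
        rw [homOfDer_snd, hf f hfm]
    have e3 := hvan (homSetOfDer D) e1 e2
    ext r
    have e4 : (homOfDer D r).snd = (homOfDer (0 : Derivation Λ R.carrier k) r).snd := by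
      have := congrArg (fun m : HomSet R.carrier R.res (dual Λ k) => (m.1 r)) (e3.trans hu₀.symm)
      exact congrArg TrivSqZeroExt.snd this
    rw [homOfDer_snd, homOfDer_snd] at e4
    exact e4
  have hΦ : Function.Injective Φ := by
    intro D D' e
    apply Subtype.ext
    have h0' : D.1 - D'.1 = 0 := by
      apply hvanD
      · rw [map_sub, D.2, D'.2, sub_zero]
      · intro f hfm
        have := congrFun e ⟨f, hfm⟩
        rw [Derivation.sub_apply, sub_eq_zero]
        exact this
    exact sub_eq_zero.1 h0'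
  obtain ⟨ι, x, hbij⟩ := exists_dual_coords (k := k) (V := K) (X := X) Φ hΦ
  have hinj : ∀ D : Derivation Λ R.carrier k, L D = 0 → (∀ j, D (x j).1 = 0) → D = 0 := by
    intro D hD hj
    have : (⟨D, hD⟩ : K) = 0 := by
      apply hbij.1
      funext j
      exact hj j
    exact congrArg Subtype.val this
  have hsurj : ∀ c : ι → k, ∃ D : Derivation Λ R.carrier k, L D = 0 ∧ ∀ j, D (x j).1 = c j := by
    intro c
    obtain ⟨D, hD⟩ := hbij.2 c
    exact ⟨D.1, D.2, fun j => congrFun hD j⟩
  set J : Ideal R.carrier := Ideal.span (Set.range (fun j => (x j).1)) with hJdef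
  have hJ : J ≤ IsLocalRing.maximalIdeal R.carrier := by
    rw [hJdef, Ideal.span_le]
    rintro _ ⟨j, rfl⟩
    exact (x j).2
  -- a derivation vanishing on the generators vanishes on `J`
  have hF1 : ∀ D : Derivation Λ R.carrier k, (∀ j, D (x j).1 = 0) → ∀ a ∈ J, D a = 0 := by
    intro D hD a ha
    refine Submodule.span_induction (p := fun a _ => D a = 0) ?_ ?_ ?_ ?_ ha
    · rintro _ ⟨j, rfl⟩
      exact hD j
    · exact map_zero D
    · intro a b _ _ ha hb
      rw [map_add, ha, hb, add_zero]
    · intro c a ha' hDa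
      have ham : a ∈ IsLocalRing.maximalIdeal R.carrier := hJ ha'
      rw [smul_eq_mul, D.leibniz, hDa, smul_zero, zero_add, Algebra.smul_def, halg,
        (R.mem_maximalIdeal_iff a).1 ham, zero_mul]
  -- an element of `h_R(k[ε])` whose derivation vanishes on the generators kills `J`
  have hF2 : ∀ D : Derivation Λ R.carrier k, (∀ j, D (x j).1 = 0) →
      J ≤ RingHom.ker (homSetOfDer D).1 := by
    intro D hD a ha
    rw [RingHom.mem_ker]
    apply TrivSqZeroExt.ext
    · change (homOfDer D a).fst = 0
      rw [homOfDer_fst, halg, (R.mem_maximalIdeal_iff a).1 (hJ ha)]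
    · change (homOfDer D a).snd = 0
      rw [homOfDer_snd, hF1 D hD a ha]
  set ξq := ξ.along (quotCHom R J hJ) (quotCHom_res R J hJ) with hξq
  have hξq_app : ∀ (A : Art Λ k) (φ : HomSet (quotC R J hJ).carrier (quotC R J hJ).res A),
      ξq.app A φ = ξ.app A (quotCRestr R J hJ φ) := fun _ _ => rfl
  have hLapp : ∀ D : Derivation Λ R.carrier k, L D = ξ.app (dual Λ k) (homSetOfDer D) := fun _ => rfl
  -- surjectivity on tangent spaces
  have htsurj : Function.Surjective (ξq.app (dual Λ k)) := by
    intro θ
    obtain ⟨u, hu⟩ := tangent_surjective_of_isVersal h0 ξ hξ θ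
    let u' : HomSet R.carrier (IsScalarTower.toAlgHom Λ R.carrier k) (dual Λ k) := u
    have hLD : L (derOfHom u') = θ := by
      rw [hLapp, homSetOfDer_derOfHom]
      exact hu
    obtain ⟨D₀, hD₀, hD₀j⟩ := hsurj (fun j => derOfHom u' (x j).1)
    set D' := derOfHom u' - D₀ with hD'
    have hD'j : ∀ j, D' (x j).1 = 0 := by
      intro j
      rw [hD', Derivation.sub_apply, hD₀j, sub_self]
    have hLD' : L D' = θ := by
      rw [hD', map_sub, hD₀, sub_zero, hLD]
    refine ⟨quotCDesc R J hJ (homSetOfDer D') (hF2 D' hD'j), ?_⟩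
    rw [hξq_app, quotCRestr_quotCDesc]
    exact hLD'
  have htinj : Function.Injective (ξq.app (dual Λ k)) := by
    intro φ₁ φ₂ e
    rw [hξq_app, hξq_app] at e
    let u₁ : HomSet R.carrier (IsScalarTower.toAlgHom Λ R.carrier k) (dual Λ k) := quotCRestr R J hJ φ₁
    let u₂ : HomSet R.carrier (IsScalarTower.toAlgHom Λ R.carrier k) (dual Λ k) := quotCRestr R J hJ φ₂
    have hL : L (derOfHom u₁ - derOfHom u₂) = 0 := by
      rw [map_sub, hLapp, hLapp, homSetOfDer_derOfHom, homSetOfDer_derOfHom, sub_eq_zero]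
      exact e
    have hj : ∀ j, (derOfHom u₁ - derOfHom u₂) (x j).1 = 0 := by
      intro j
      have hx0 : quotCHom R J hJ (x j).1 = 0 :=
        (quotCHom_eq_zero_iff R J hJ _).2 (Ideal.subset_span ⟨j, rfl⟩)
      have e1 : u₁.1 (x j).1 = 0 := by
        change φ₁.1 (quotCHom R J hJ (x j).1) = 0
        rw [hx0, map_zero]
      have e2 : u₂.1 (x j).1 = 0 := by
        change φ₂.1 (quotCHom R J hJ (x j).1) = 0
        rw [hx0, map_zero]
      rw [Derivation.sub_apply, derOfHom_apply, derOfHom_apply, e1, e2]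
      simp
    have hD := hinj _ hL hj
    have hu : u₁ = u₂ := by
      rw [← homSetOfDer_derOfHom u₁, ← homSetOfDer_derOfHom u₂, sub_eq_zero.1 hD]
    exact quotCRestr_injective R J hJ hu
  refine ⟨J, hJ, ?_, htinj, htsurj⟩
  -- versality
  apply isVersal_of_tangent_surjective_of_lifts h0 ((s1_iff_hbar F).1 h1) h2 ξq htsurj
  intro B A μ hμ φ' y hy
  rw [hξq_app] at hy
  obtain ⟨ψ, hψ, -⟩ := hξ μ hμ.1 (quotCRestr R J hJ φ') y hy
  have hψ' : ∀ s, μ (ψ.1 s) = φ'.1 (quotCHom R J hJ s) :=
    fun s => congrArg (fun m : HomSet R.carrier R.res A => m.1 s) hψ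
  obtain ⟨t, ht⟩ := exists_generator hμ
  obtain ⟨P, π₁, π₂, hP⟩ := exists_isFibreProd_of_surjective μ μ hμ.1
  have h' := isFibreProd_deltaHom hμ ht hP
  have hmem : ∀ j, ψ.1 (x j).1 ∈ RingHom.ker μ.toAlgHom := by
    intro j
    rw [RingHom.mem_ker]
    change μ (ψ.1 (x j).1) = 0
    rw [hψ', (quotCHom_eq_zero_iff R J hJ _).2 (Ideal.subset_span ⟨j, rfl⟩), map_zero]
  have hex : ∀ j, ∃ a : B, a * t = ψ.1 (x j).1 := fun j => exists_of_mem_ker ht (hmem j)
  choose a ha using hex
  obtain ⟨D₀, hD₀, hD₀j⟩ := hsurj (fun j => - B.res (a j))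
  let τ : HomSet R.carrier R.res (dual Λ k) := homSetOfDer D₀
  have hcompat : HomSet.map (toBase B) ψ = HomSet.map (toBase (dual Λ k)) τ := Subsingleton.elim _ _
  set χ := fpLift h' ψ τ hcompat with hχ
  have hχ1 : ∀ s, π₁ (χ.1 s) = ψ.1 s :=
    fun s => congrArg (fun m : HomSet R.carrier R.res B => m.1 s) (fpLift_fst h' ψ τ hcompat)
  have hχ2 : ∀ s, deltaHom hμ ht hP (χ.1 s) = τ.1 s :=
    fun s => congrArg (fun m : HomSet R.carrier R.res (dual Λ k) => m.1 s) (fpLift_snd h' ψ τ hcompat)
  set ψ₂ := HomSet.map π₂ χ with hψ₂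
  have hkill : ∀ j, ψ₂.1 (x j).1 = 0 := by
    intro j
    set z := χ.1 (x j).1 with hz
    obtain ⟨b, hb⟩ := exists_of_mem_ker ht (sub_mem_ker hP z)
    have h3 : (deltaHom hμ ht hP z).snd = B.res b := deltaHom_snd hμ ht hP z b hb
    have h4 : (deltaHom hμ ht hP z).snd = - B.res (a j) := by
      rw [hχ2]
      change (homOfDer D₀ (x j).1).snd = _
      rw [homOfDer_snd, hD₀j]
    have h5 : B.res (a j + b) = B.res 0 := by
      rw [map_add, ← h3, h4, map_zero, add_neg_cancel]
    have h6 := mul_t_eq_of_res_eq hμ ht h5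
    rw [zero_mul, add_mul, ha, hb, hχ1] at h6
    change π₂ z = 0
    rw [← h6]
    ring
  have hle : J ≤ RingHom.ker ψ₂.1 := by
    rw [hJdef, Ideal.span_le]
    rintro _ ⟨j, rfl⟩
    exact RingHom.mem_ker.2 (hkill j)
  refine ⟨quotCDesc R J hJ ψ₂ hle, ?_⟩
  apply quotCRestr_injective R J hJ
  apply homSet_ext
  intro s
  change μ (π₂ (χ.1 s)) = φ'.1 (quotCHom R J hJ s)
  rw [← hP.w_apply, hχ1, hψ']

theorem exists_miniversal_quot_of_isVersal (hk : Subsingleton (Derivation Λ k k))
    (h0 : H0 F) (h2 : Heps F) (R : CRing Λ k) (ξ : Family R.carrier R.res F)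
    (hξ : IsVersal ξ) :
    ∃ (J : Ideal R.carrier) (hJ : J ≤ IsLocalRing.maximalIdeal R.carrier),
      IsMiniversal (ξ.along (quotCHom R J hJ) (quotCHom_res R J hJ)) := by
  apply exists_miniversal_quot_of_isVersal_of_vanish h0 h2 R ξ hξ
  intro u _ hu
  letI : Algebra R.carrier k := R.res.toRingHom.toAlgebra
  haveI : IsScalarTower Λ R.carrier k := IsScalarTower.of_algebraMap_eq (fun l => (R.res.commutes l).symm)
  have hres : Function.Surjective (algebraMap R.carrier k) := R.res_surjective
  let u' : HomSet R.carrier (IsScalarTower.toAlgHom Λ R.carrier k) (dual Λ k) := u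
  have hD : derOfHom u' = 0 := by
    apply derivation_eq_zero_of_vanish hk hres
    intro f hf
    have hfm : f ∈ IsLocalRing.maximalIdeal R.carrier := (R.mem_maximalIdeal_iff f).2 hf
    rw [derOfHom_apply]
    have : u'.1 f = 0 := hu f hfm
    rw [this]
    rfl
  apply homSet_ext
  intro r
  have h1 : u'.1 r = (homSetOfDer (derOfHom u')).1 r := by rw [homSetOfDer_derOfHom]
  change u'.1 r = _
  rw [h1, hD]
  apply TrivSqZeroExt.ext
  · change (homOfDer (0 : Derivation Λ R.carrier k) r).fst = _
    rw [homOfDer_fst]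
    rfl
  · change (homOfDer (0 : Derivation Λ R.carrier k) r).snd = _
    rw [homOfDer_snd]
    rfl

end Cut

end Groth.Agent.Lib.Helper1.ArtFunLib
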