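import Mathlib
import Groth.Prelude.Def_ArtFun5
import Groth.Agent.Lib.Helper1.ArtFunDiag
import Groth.Agent.Lib.Helper1.ArtFunFibre
import Groth.Agent.Lib.Helper1.ArtFunInduct

/-!
# First-order step: an element over an object of `Art` through which every tangent vector factors
-/
universe u v
open CategoryTheory

namespace Groth.Agent.Lib.Helper1.ArtFunLib

open ArtFun ArtFun.Art

variable {Λ : Type u} {k : Type u} [CommRing Λ] [Field k] [Algebra Λ k]
variable {F : Art Λ k ⥤ Type v}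

section TanRange

variable [TF : TangentStr F] {A : Art Λ k} (z : F.obj A)

/-- the tangent vectors obtained from `z ∈ F(A)` along maps `A → k[ε]` form a subspace -/
def tanRange : Submodule k (TangentSpace F) where
  carrier := {θ | ∃ τ : A ⟶ dual Λ k, F.map τ z = θ}
  zero_mem' := by
    refine ⟨(toBase A ≫ baseToDual) ≫ scale 0, ?_⟩
    rw [F.map_comp_apply]
    have := TF.smul_eq 0 (F.map (toBase A ≫ baseToDual) z)
    rw [← this]
    exact zero_smul k (TangentSpace.mk (F.map (toBase A ≫ baseToDual) z))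
  add_mem' := by
    rintro θ₁ θ₂ ⟨τ₁, rfl⟩ ⟨τ₂, rfl⟩
    have e : τ₁ ≫ toBase (dual Λ k) = τ₂ ≫ toBase (dual Λ k) := by
      rw [eq_toBase (τ₁ ≫ toBase _), eq_toBase (τ₂ ≫ toBase _)]
    set p := fpLiftHom isFibreProd_dual2 τ₁ τ₂ e with hp
    refine ⟨p ≫ plus, ?_⟩
    have h1 : F.map pr₁ (F.map p z) = F.map τ₁ z := by
      rw [← F.map_comp_apply, hp, fpLiftHom_fst]
    have h2 : F.map pr₂ (F.map p z) = F.map τ₂ z := by
      rw [← F.map_comp_apply, hp, fpLiftHom_snd]
    have := TF.add_eq (F.map p z)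
    rw [h1, h2] at this
    rw [F.map_comp_apply]
    exact this.symm
  smul_mem' := by
    rintro c θ ⟨τ, rfl⟩
    refine ⟨τ ≫ scale c, ?_⟩
    rw [F.map_comp_apply]
    exact (TF.smul_eq c _).symm

lemma mem_tanRange (θ : TangentSpace F) : θ ∈ tanRange z ↔ ∃ τ : A ⟶ dual Λ k, F.map τ z = θ := Iff.rfl

end TanRange

section Exists

variable [IsNoetherianRing Λ] [Module.Finite Λ k] [TF : TangentStr F]

theorem exists_tanRange_ge (h0 : H0 F) (h2 : Heps F) (T : Finset (TangentSpace F)) :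
    ∃ (A : Art Λ k) (z : F.obj A), ∀ θ ∈ T, θ ∈ tanRange z := by
  classical
  induction T using Finset.induction_on with
  | empty =>
    exact ⟨base Λ k, h0.1.some, fun θ hθ => absurd hθ (Finset.notMem_empty θ)⟩
  | insert θ₀ T hθ₀ ih =>
    obtain ⟨A, z, hz⟩ := ih
    obtain ⟨B, p₁, p₂, hB⟩ := exists_isFibreProd_of_surjective (toBase A) (toBase (dual Λ k))
      (dual Λ k).res_surjective
    have hsub := h0.2
    obtain ⟨w, hw⟩ := (h2 p₁ p₂ hB).2 ⟨(z, θ₀), Subsingleton.elim _ _⟩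
    have hw1 : F.map p₁ w = z := congrArg (fun t => t.1.1) hw
    have hw2 : F.map p₂ w = θ₀ := congrArg (fun t => t.1.2) hw
    refine ⟨B, w, fun θ hθ => ?_⟩
    rcases Finset.mem_insert.1 hθ with rfl | hθ'
    · exact ⟨p₂, hw2⟩
    · obtain ⟨τ, hτ⟩ := hz θ hθ'
      refine ⟨p₁ ≫ τ, ?_⟩
      rw [F.map_comp_apply, hw1, hτ]

theorem exists_tangent_versal (h0 : H0 F) (h2 : Heps F) (h3 : Hfin F) :
    ∃ (A : Art Λ k) (z : F.obj A), ∀ θ : F.obj (dual Λ k), ∃ τ : A ⟶ dual Λ k, F.map τ z = θ := by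
  have hfin : Module.Finite k (TangentSpace F) := h3
  obtain ⟨T, hT⟩ := hfin.fg_top
  obtain ⟨A, z, hz⟩ := exists_tanRange_ge h0 h2 T
  refine ⟨A, z, fun θ => ?_⟩
  have hle : Submodule.span k (T : Set (TangentSpace F)) ≤ tanRange z :=
    Submodule.span_le.2 (fun θ hθ => hz θ hθ)
  rw [hT] at hle
  exact hle (Submodule.mem_top (x := TangentSpace.mk θ))

end Exists

end Groth.Agent.Lib.Helper1.ArtFunLib
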