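import Mathlib
import Groth.Prelude.Def_ArtFun3
import Groth.Agent.Lib.Helper1.ArtFunDiag

/-!
# Descending morphisms along surjections
-/
universe u v
open CategoryTheory

namespace Groth.Agent.Lib.Helper1.ArtFunLib

open ArtFun ArtFun.Art

variable {Λ : Type u} {k : Type u} [CommRing Λ] [Field k] [Algebra Λ k]

lemma bijective_quotFactor_ker {A B : Art Λ k} (f : B ⟶ A) (hf : Function.Surjective f) :
    Function.Bijective (quotFactor (ker_le_maximalIdeal f) f le_rfl) := by
  constructor
  · intro a b hab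
    obtain ⟨a, rfl⟩ := Ideal.Quotient.mk_surjective a
    obtain ⟨b, rfl⟩ := Ideal.Quotient.mk_surjective b
    have : f a = f b := hab
    exact Ideal.Quotient.eq.2 (by rw [RingHom.mem_ker, map_sub, sub_eq_zero]; exact this)
  · intro a
    obtain ⟨b, rfl⟩ := hf a
    exact ⟨Ideal.Quotient.mk _ b, rfl⟩

/-- a morphism killing the kernel of a surjection descends -/
theorem exists_factor_of_surjective {A B C : Art Λ k} (f : B ⟶ A) (hf : Function.Surjective f) (g : B ⟶ C)
    (hg : RingHom.ker f.toAlgHom ≤ RingHom.ker g.toAlgHom) : ∃ g' : A ⟶ C, f ≫ g' = g := by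
  have hm := ker_le_maximalIdeal f
  have := isIso_of_bijective _ (bijective_quotFactor_ker f hf)
  refine ⟨inv (quotFactor hm f le_rfl) ≫ quotFactor hm g hg, ?_⟩
  have e1 : f = quotMk B _ hm ≫ quotFactor hm f le_rfl := (quotMk_quotFactor hm f le_rfl).symm
  calc f ≫ inv (quotFactor hm f le_rfl) ≫ quotFactor hm g hg
      = (quotMk B _ hm ≫ quotFactor hm f le_rfl) ≫ inv (quotFactor hm f le_rfl) ≫ quotFactor hm g hg :=
        congrArg (fun m => m ≫ inv (quotFactor hm f le_rfl) ≫ quotFactor hm g hg) e1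
    _ = quotMk B _ hm ≫ quotFactor hm g hg := by
        rw [Category.assoc, IsIso.hom_inv_id_assoc]
    _ = g := quotMk_quotFactor hm g hg

/-- surjections are epimorphisms -/
lemma hom_ext_of_surjective {A B C : Art Λ k} (f : B ⟶ A) (hf : Function.Surjective f) {g g' : A ⟶ C}
    (h : f ≫ g = f ≫ g') : g = g' := by
  apply hom_ext
  apply AlgHom.ext
  intro a
  obtain ⟨b, rfl⟩ := hf a
  exact congrArg (fun m : B ⟶ C => m b) h

end Groth.Agent.Lib.Helper1.ArtFunLib
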