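import Mathlib
import Groth.Prelude.Def_ArtFun3
import Groth.Agent.Lib.Helper1.ArtFunInduct

/-!
# The least ideal to which an element lifts (under (S1))
-/
universe u v
open CategoryTheory

namespace Groth.Agent.Lib.Helper1.ArtFunLib

open ArtFun ArtFun.Art

variable {Λ : Type u} {k : Type u} [CommRing Λ] [Field k] [Algebra Λ k]

section

variable {B A : Art Λ k} (p : B ⟶ A)

/-- `B/(J ∩ K) = B/J ×_A B/K` when `J + K = ker p` -/
theorem isFibreProd_quot_inf (J K : Ideal B) (hJ : J ≤ RingHom.ker p.toAlgHom) (hK : K ≤ RingHom.ker p.toAlgHom)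
    (hJK : J ⊔ K = RingHom.ker p.toAlgHom)
    (hJ' : J ≤ IsLocalRing.maximalIdeal B) (hK' : K ≤ IsLocalRing.maximalIdeal B)
    (hJK' : J ⊓ K ≤ IsLocalRing.maximalIdeal B) :
    IsFibreProd (quotQuot B (J ⊓ K) J hJK' hJ' inf_le_left) (quotQuot B (J ⊓ K) K hJK' hK' inf_le_right)
      (quotFactor hJ' p hJ) (quotFactor hK' p hK) where
  w := by rw [quotQuot_quotFactor, quotQuot_quotFactor]
  inj := by
    intro b₁ b₂ h1 h2
    obtain ⟨c₁, rfl⟩ := Ideal.Quotient.mk_surjective b₁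
    obtain ⟨c₂, rfl⟩ := Ideal.Quotient.mk_surjective b₂
    have h1' : c₁ - c₂ ∈ J := Ideal.Quotient.eq.1 h1
    have h2' : c₁ - c₂ ∈ K := Ideal.Quotient.eq.1 h2
    exact Ideal.Quotient.eq.2 ⟨h1', h2'⟩
  surj := by
    intro a' a'' e
    obtain ⟨b₁, rfl⟩ := Ideal.Quotient.mk_surjective a'
    obtain ⟨b₂, rfl⟩ := Ideal.Quotient.mk_surjective a''
    have e' : p b₁ = p b₂ := e
    have hmem : b₁ - b₂ ∈ J ⊔ K := by
      rw [hJK, RingHom.mem_ker, map_sub, sub_eq_zero]
      exact e'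
    obtain ⟨j, hj, κ, hκ, hjk⟩ := Submodule.mem_sup.1 hmem
    refine ⟨Ideal.Quotient.mk _ (b₁ - j), ?_, ?_⟩
    · have : b₁ - j - b₁ = -j := by ring
      exact Ideal.Quotient.eq.2 (by rw [this]; exact J.neg_mem hj)
    · have : b₁ - j - b₂ = κ := by
        have : b₁ - j - b₂ = (b₁ - b₂) - j := by ring
        rw [this, ← hjk]; ring
      exact Ideal.Quotient.eq.2 (by rw [this]; exact hκ)

end

section Least

variable {F : Art Λ k ⥤ Type v} {B A : Art Λ k} (p : B ⟶ A) (x : F.obj A)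

/-- `x` lifts to `B/J` -/
def LiftsTo (J : Ideal B) : Prop :=
  ∃ (hJ : J ≤ RingHom.ker p.toAlgHom) (hJ' : J ≤ IsLocalRing.maximalIdeal B),
    ∃ y : F.obj (quot B J hJ'), F.map (quotFactor hJ' p hJ) y = x

variable {p x}

lemma LiftsTo.mono {J J' : Ideal B} (h : LiftsTo p x J) (hJJ' : J ≤ J') (hJ' : J' ≤ RingHom.ker p.toAlgHom) :
    LiftsTo p x J' := by
  obtain ⟨hJ, hJm, y, hy⟩ := h
  have hJ'm : J' ≤ IsLocalRing.maximalIdeal B := hJ'.trans (ker_le_maximalIdeal p)
  refine ⟨hJ', hJ'm, F.map (quotQuot B J J' hJm hJ'm hJJ') y, ?_⟩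
  rw [← F.map_comp_apply, quotQuot_quotFactor, hy]

lemma liftsTo_ker (hp : Function.Surjective p) : LiftsTo p x (RingHom.ker p.toAlgHom) := by
  have hm := ker_le_maximalIdeal p
  refine ⟨le_rfl, hm, ?_⟩
  have hb : Function.Bijective (quotFactor hm p le_rfl) := by
    constructor
    · intro a b hab
      obtain ⟨a, rfl⟩ := Ideal.Quotient.mk_surjective a
      obtain ⟨b, rfl⟩ := Ideal.Quotient.mk_surjective b
      have : p a = p b := hab
      exact Ideal.Quotient.eq.2 (by rw [RingHom.mem_ker, map_sub, sub_eq_zero]; exact this)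
    · intro a
      obtain ⟨b, rfl⟩ := hp a
      exact ⟨Ideal.Quotient.mk _ b, rfl⟩
  have := isIso_of_bijective _ hb
  exact ⟨F.map (inv (quotFactor hm p le_rfl)) x, map_map_inv F _ x⟩

theorem liftsTo_inf (h1 : S1 F) (hp : Function.Surjective p) {J K : Ideal B} (hJ : LiftsTo p x J)
    (hK : LiftsTo p x K) (hJK : J ⊔ K = RingHom.ker p.toAlgHom) : LiftsTo p x (J ⊓ K) := by
  obtain ⟨hJ1, hJ2, yJ, hyJ⟩ := hJ
  obtain ⟨hK1, hK2, yK, hyK⟩ := hK
  have hJK' : J ⊓ K ≤ IsLocalRing.maximalIdeal B := inf_le_left.trans hJ2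
  have hfp := isFibreProd_quot_inf p J K hJ1 hK1 hJK hJ2 hK2 hJK'
  have hsurj : Function.Surjective (quotFactor hK2 p hK1) := by
    intro a
    obtain ⟨b, rfl⟩ := hp a
    exact ⟨Ideal.Quotient.mk _ b, rfl⟩
  obtain ⟨z, hz1, -⟩ := (cmp_surjective_iff F hfp).1 (h1 _ _ _ _ hfp hsurj) yJ yK (hyJ.trans hyK.symm)
  refine ⟨inf_le_left.trans hJ1, hJK', z, ?_⟩
  rw [← quotQuot_quotFactor B p (J ⊓ K) J hJK' hJ2 inf_le_left hJ1, F.map_comp_apply, hz1, hyJ]

theorem exists_least_liftsTo (h1 : S1 F) (hp : IsSemismallExt p) (x : F.obj A) :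
    ∃ J₀ : Ideal B, LiftsTo p x J₀ ∧ ∀ J : Ideal B, LiftsTo p x J → J₀ ≤ J := by
  classical
  set I := RingHom.ker p.toAlgHom with hI
  obtain ⟨J₀, hJ₀, hmin⟩ := (inferInstance : WellFoundedLT (Ideal B)).wf.has_min
    {J : Ideal B | LiftsTo p x J} ⟨I, liftsTo_ker hp.1⟩
  refine ⟨J₀, hJ₀, ?_⟩
  intro J hJ
  by_contra hnot
  obtain ⟨t, htJ₀, htJ⟩ := SetLike.not_le_iff_exists.1 hnot
  have hJ₀I : J₀ ≤ I := hJ₀.1
  have hJI : J ≤ I := hJ.1
  obtain ⟨K, ⟨hJK, hKI, htK⟩, hKmax⟩ := (inferInstance : WellFoundedGT (Ideal B)).wf.has_min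
    {K : Ideal B | J ≤ K ∧ K ≤ I ∧ t ∉ K} ⟨J, le_rfl, hJI, htJ⟩
  have hKt : K ⊔ Ideal.span {t} = I := by
    apply le_antisymm
    · exact sup_le hKI ((Ideal.span_singleton_le_iff_mem _).2 (hJ₀I htJ₀))
    · intro v hv
      by_cases hvK : v ∈ K
      · exact Ideal.mem_sup_left hvK
      · have hlt : K < K ⊔ Ideal.span {v} := by
          apply lt_of_le_of_ne le_sup_left
          intro h
          apply hvK
          rw [h]
          exact Ideal.mem_sup_right (Ideal.subset_span rfl)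
        have htin : t ∈ K ⊔ Ideal.span {v} := by
          by_contra hnot'
          exact hKmax (K ⊔ Ideal.span {v}) ⟨hJK.trans le_sup_left,
            sup_le hKI ((Ideal.span_singleton_le_iff_mem _).2 hv), hnot'⟩ hlt
        obtain ⟨κ, hκ, w, hw, hκw⟩ := Submodule.mem_sup.1 htin
        obtain ⟨b, rfl⟩ := Ideal.mem_span_singleton'.1 hw
        have hbu : IsUnit b := by
          by_contra hb
          have hbm : b ∈ IsLocalRing.maximalIdeal B := (IsLocalRing.mem_maximalIdeal b).2 hb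
          have h0 : b * v ∈ IsLocalRing.maximalIdeal B * RingHom.ker p.toAlgHom := Ideal.mul_mem_mul hbm hv
          rw [hp.2] at h0
          have h0' : b * v = 0 := h0
          apply htK
          rw [← hκw, h0', add_zero]
          exact hκ
        obtain ⟨b', hb'⟩ := hbu.exists_left_inv
        have hv' : v = b' * (t - κ) := by
          rw [← hκw]
          have : κ + b * v - κ = b * v := by ring
          rw [this, ← mul_assoc, hb', one_mul]
        rw [hv']
        apply Ideal.mul_mem_left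
        apply Ideal.sub_mem
        · exact Ideal.mem_sup_right (Ideal.subset_span rfl)
        · exact Ideal.mem_sup_left hκ
  have hsup : J₀ ⊔ K = I := by
    apply le_antisymm (sup_le hJ₀I hKI)
    rw [← hKt]
    exact sup_le le_sup_right (((Ideal.span_singleton_le_iff_mem _).2 htJ₀).trans le_sup_left)
  have hK : LiftsTo p x K := hJ.mono hJK hKI
  have hinf := liftsTo_inf h1 hp.1 hJ₀ hK hsup
  apply hmin (J₀ ⊓ K) hinf
  apply lt_of_le_of_ne inf_le_left
  intro h
  apply htK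
  have : t ∈ J₀ ⊓ K := by rw [h]; exact htJ₀
  exact this.2

end Least

end Groth.Agent.Lib.Helper1.ArtFunLib
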