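import Mathlib
import Groth.Prelude.Def_ArtFun5
import Groth.Agent.Lib.Helper1.ArtFunQuotRing
import Groth.Agent.Lib.Helper1.ArtFunLeastIdeal
import Groth.Agent.Lib.Helper1.ArtFunDescend
import Groth.Agent.Lib.Helper1.ArtFunBasic

/-!
# One step of the construction of a versal family: least quotients of a coefficient ring
-/
universe u v
open CategoryTheory

namespace Groth.Agent.Lib.Helper1.ArtFunLib

open ArtFun ArtFun.Art

variable {Λ : Type u} {k : Type u} [CommRing Λ] [Field k] [Algebra Λ k]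

section HomSetSurj

variable {R : Type u} [CommRing R] [Algebra Λ R] {resR : R →ₐ[Λ] k}

lemma hom_ext_of_homSet_surjective {A B : Art Λ k} (β : HomSet R resR A) (hβ : Function.Surjective β.1)
    {f g : A ⟶ B} (h : HomSet.map f β = HomSet.map g β) : f = g := by
  apply hom_ext
  apply AlgHom.ext
  intro a
  obtain ⟨r, rfl⟩ := hβ a
  exact congrArg (fun m : HomSet R resR B => m.1 r) h

end HomSetSurj

variable (S : CRing Λ k) (F : Art Λ k ⥤ Type v)

/-- a stage of the construction: a quotient `S → A` in `Art` with an element of `F(A)` -/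
structure Stage where
  /-- the object -/
  A : Art Λ k
  /-- the quotient map -/
  σ : HomSet S.carrier S.res A
  surj : Function.Surjective σ.1
  /-- the element -/
  x : F.obj A

variable {S F}

/-- the kernel of the quotient map of a stage -/
def Stage.ker (T : Stage S F) : Ideal S.carrier := RingHom.ker T.σ.1

lemma Stage.mem_ker (T : Stage S F) (s : S.carrier) : s ∈ T.ker ↔ T.σ.1 s = 0 := RingHom.mem_ker

/-- `T'` is a least semismall prolongation of `T` -/
structure IsStep (T T' : Stage S F) : Prop where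
  exists_hom : ∃ q : T'.A ⟶ T.A, HomSet.map q T'.σ = T.σ ∧ F.map q T'.x = T.x
  least : ∀ (C : Art Λ k) (τ : HomSet S.carrier S.res C) (p : C ⟶ T.A), Function.Surjective τ.1 →
    HomSet.map p τ = T.σ → IsLocalRing.maximalIdeal C * RingHom.ker p.toAlgHom = ⊥ →
    (∃ z : F.obj C, F.map p z = T.x) → T'.ker ≤ RingHom.ker τ.1

theorem exists_isStep (h1 : S1 F) (T : Stage S F) : ∃ T' : Stage S F, IsStep T T' := by
  set I := T.ker with hI
  have hIm : I ≤ IsLocalRing.maximalIdeal S.carrier := ker_le_maximalIdeal_homSet S T.σ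
  obtain ⟨N, hN⟩ := exists_pow_le_ker S T.σ
  set K := IsLocalRing.maximalIdeal S.carrier * I with hK
  have hKm : K ≤ IsLocalRing.maximalIdeal S.carrier := Ideal.mul_le_left
  have hKI : K ≤ I := Ideal.mul_le_right
  have hKN : IsLocalRing.maximalIdeal S.carrier ^ (N + 1) ≤ K := by
    rw [pow_succ']
    exact Ideal.mul_mono_right hN
  set B := quotArt S K hKm (N + 1) hKN with hB
  set β := quotArtHom S K hKm (N + 1) hKN with hβ
  have hβs : Function.Surjective β.1 := quotArtHom_surjective S K hKm (N + 1) hKN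
  have hβ0 : ∀ s, β.1 s = 0 ↔ s ∈ K := quotArtHom_eq_zero_iff S K hKm (N + 1) hKN
  set p : B ⟶ T.A := quotArtFactor S K hKm (N + 1) hKN T.σ hKI with hp
  have hpβ : HomSet.map p β = T.σ := quotArtFactor_comp S K hKm (N + 1) hKN T.σ hKI
  have hpβ' : ∀ s, p (β.1 s) = T.σ.1 s := fun s => congrArg (fun m : HomSet S.carrier S.res T.A => m.1 s) hpβ
  have hps : Function.Surjective p := by
    intro a
    obtain ⟨s, rfl⟩ := T.surj a
    exact ⟨β.1 s, hpβ' s⟩
  have hsemi : IsSemismallExt p := by
    refine ⟨hps, ?_⟩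
    rw [← le_bot_iff]
    apply Ideal.mul_le.2
    intro b hb c hc
    obtain ⟨s, rfl⟩ := hβs b
    obtain ⟨s', rfl⟩ := hβs c
    have hs : s ∈ IsLocalRing.maximalIdeal S.carrier := (homSet_mem_maximalIdeal_iff S β s).1 hb
    have hs' : s' ∈ I := by
      rw [hI, Stage.mem_ker, ← hpβ']
      exact RingHom.mem_ker.1 hc
    have : β.1 (s * s') = 0 := (hβ0 _).2 (Ideal.mul_mem_mul hs hs')
    rw [map_mul] at this
    rw [this]
    exact Ideal.zero_mem _
  obtain ⟨J₀, ⟨hJ₀1, hJ₀2, y, hy⟩, hleast⟩ := exists_least_liftsTo h1 hsemi T.x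
  refine ⟨{ A := quot B J₀ hJ₀2
            σ := HomSet.map (quotMk B J₀ hJ₀2) β
            surj := (quotMk_surjective B J₀ hJ₀2).comp hβs
            x := y }, ?_, ?_⟩
  · refine ⟨quotFactor hJ₀2 p hJ₀1, ?_, hy⟩
    change HomSet.map (quotFactor hJ₀2 p hJ₀1) (HomSet.map (quotMk B J₀ hJ₀2) β) = T.σ
    rw [← homSet_map_comp, quotMk_quotFactor, hpβ]
  · intro C τ p' hτs hp'τ hsemi' ⟨z, hz⟩
    have hp'τ' : ∀ s, p' (τ.1 s) = T.σ.1 s :=
      fun s => congrArg (fun m : HomSet S.carrier S.res T.A => m.1 s) hp'τ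
    have hKτ : K ≤ RingHom.ker τ.1 := by
      rw [hK]
      apply Ideal.mul_le.2
      intro s hs s' hs'
      rw [RingHom.mem_ker, map_mul]
      have h1' : τ.1 s ∈ IsLocalRing.maximalIdeal C := (homSet_mem_maximalIdeal_iff S τ s).2 hs
      have h2' : τ.1 s' ∈ RingHom.ker p'.toAlgHom := by
        rw [RingHom.mem_ker]
        change p' (τ.1 s') = 0
        rw [hp'τ']
        exact (T.mem_ker s').1 hs'
      have h3' := Ideal.mul_mem_mul h1' h2'
      rw [hsemi'] at h3'
      exact h3'
    set τb : B ⟶ C := quotArtFactor S K hKm (N + 1) hKN τ hKτ with hτb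
    have hτbβ : HomSet.map τb β = τ := quotArtFactor_comp S K hKm (N + 1) hKN τ hKτ
    have hτbβ' : ∀ s, τb (β.1 s) = τ.1 s :=
      fun s => congrArg (fun m : HomSet S.carrier S.res C => m.1 s) hτbβ
    have hτbs : Function.Surjective τb := by
      intro c
      obtain ⟨s, rfl⟩ := hτs c
      exact ⟨β.1 s, hτbβ' s⟩
    have hcomp : τb ≫ p' = p := by
      apply hom_ext_of_homSet_surjective β hβs
      rw [homSet_map_comp, hτbβ, hp'τ, hpβ]
    set J := RingHom.ker τb.toAlgHom with hJ
    have hJm : J ≤ IsLocalRing.maximalIdeal B := ker_le_maximalIdeal τb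
    have hJp : J ≤ RingHom.ker p.toAlgHom := by
      intro b hb
      rw [RingHom.mem_ker] at hb ⊢
      change p b = 0
      rw [← hcomp]
      change p' (τb b) = 0
      have : τb b = 0 := hb
      rw [this]
      exact map_zero p'.toAlgHom
    have hbij := bijective_quotFactor_ker τb hτbs
    haveI := isIso_of_bijective _ hbij
    have hlift : LiftsTo p T.x J := by
      refine ⟨hJp, hJm, F.map (inv (quotFactor hJm τb le_rfl)) z, ?_⟩
      have e : quotFactor hJm p hJp = quotFactor hJm τb le_rfl ≫ p' := by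
        apply hom_ext_of_surjective (quotMk B J hJm) (quotMk_surjective B J hJm)
        rw [quotMk_quotFactor, ← Category.assoc, quotMk_quotFactor, hcomp]
      rw [e, ← F.map_comp_apply, IsIso.inv_hom_id_assoc, hz]
    have hJ₀J : J₀ ≤ J := hleast J hlift
    intro s hs
    have h1' : quotMk B J₀ hJ₀2 (β.1 s) = 0 := hs
    have h2' : β.1 s ∈ J₀ := (quotMk_eq_zero_iff B J₀ hJ₀2 _).1 h1'
    have h3' : β.1 s ∈ J := hJ₀J h2'
    rw [RingHom.mem_ker, ← hτbβ']
    exact h3'

end Groth.Agent.Lib.Helper1.ArtFunLib
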