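import Mathlib
import Groth.Prelude.Def_ArtFun5
import Groth.Agent.Lib.Helper28.Chevalley
import Groth.Agent.Lib.Helper1.ArtFunSchlessStep
import Groth.Agent.Lib.Helper1.ArtFunFirstOrder
import Groth.Agent.Lib.Helper1.ArtFunComplRing
import Groth.Agent.Lib.Helper1.ArtFunVersalCrit
import Groth.Agent.Lib.Helper1.ArtFunFormal

/-!
# Existence of a versal family (Schlessinger / SGA7-style construction)
-/
universe u v
open CategoryTheory

namespace Groth.Agent.Lib.Helper1.ArtFunLib

open ArtFun ArtFun.Art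

variable {Λ : Type u} {k : Type u} [CommRing Λ] [Field k] [Algebra Λ k]

section Factor

variable {R : Type u} [CommRing R] [Algebra Λ R] {resR : R →ₐ[Λ] k}

/-- factor an element of `h_R(A)` through a surjective element of `h_R(A')` with smaller kernel -/
theorem exists_factor_homSet {A' A : Art Λ k} (σ : HomSet R resR A') (hσ : Function.Surjective σ.1)
    (ψ : HomSet R resR A) (h : RingHom.ker σ.1 ≤ RingHom.ker ψ.1) :
    ∃ g : A' ⟶ A, HomSet.map g σ = ψ := by
  let e : (R ⧸ RingHom.ker σ.1) ≃ₐ[Λ] A' := Ideal.quotientKerAlgEquivOfSurjective hσ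
  let g₀ : A' →ₐ[Λ] A := (Ideal.Quotient.liftₐ (RingHom.ker σ.1) ψ.1 (fun a ha => h ha)).comp
    (e.symm : A' →ₐ[Λ] R ⧸ RingHom.ker σ.1)
  have hg₀ : ∀ r, g₀ (σ.1 r) = ψ.1 r := by
    intro r
    have : e.symm (σ.1 r) = Ideal.Quotient.mk _ r := by
      rw [AlgEquiv.symm_apply_eq]
      rfl
    change Ideal.Quotient.liftₐ (RingHom.ker σ.1) ψ.1 (fun a ha => h ha) (e.symm (σ.1 r)) = ψ.1 r
    rw [this]
    rfl
  have hres : A.res.comp g₀ = A'.res := by
    apply AlgHom.ext
    intro a
    obtain ⟨r, rfl⟩ := hσ a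
    change A.res (g₀ (σ.1 r)) = A'.res (σ.1 r)
    rw [hg₀]
    have h1 : A.res (ψ.1 r) = resR r := congrArg (fun m : R →ₐ[Λ] k => m r) ψ.2
    have h2 : A'.res (σ.1 r) = resR r := congrArg (fun m : R →ₐ[Λ] k => m r) σ.2
    rw [h1, h2]
  exact ⟨⟨g₀, hres⟩, homSet_ext hg₀⟩

end Factor

section Dichotomy

variable {S : CRing Λ k}

/-- a lift of a surjection along a small extension is surjective or has the same kernel -/
theorem ker_le_ker_of_not_surjective {C A' : Art Λ k} (p : C ⟶ A') (hp : IsSmallExt p)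
    (τ : HomSet S.carrier S.res C) (σ : HomSet S.carrier S.res A') (hσ : Function.Surjective σ.1)
    (h : HomSet.map p τ = σ) (hns : ¬ Function.Surjective τ.1) :
    RingHom.ker σ.1 ≤ RingHom.ker τ.1 := by
  have hpτ : ∀ s, p (τ.1 s) = σ.1 s := fun s => congrArg (fun m : HomSet S.carrier S.res A' => m.1 s) h
  obtain ⟨t, ht⟩ := exists_generator hp
  by_contra hnot
  obtain ⟨s, hs, hs'⟩ := SetLike.not_le_iff_exists.1 hnot
  rw [RingHom.mem_ker] at hs hs'
  have ht₀ : τ.1 s ∈ RingHom.ker p.toAlgHom := by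
    rw [RingHom.mem_ker]
    exact (hpτ s).trans hs
  obtain ⟨a, ha⟩ := exists_of_mem_ker ht ht₀
  have hau : IsUnit a := by
    by_contra hna
    have ham : a ∈ IsLocalRing.maximalIdeal C := (IsLocalRing.mem_maximalIdeal a).2 hna
    have h0 : a * t ∈ IsLocalRing.maximalIdeal C * RingHom.ker p.toAlgHom :=
      Ideal.mul_mem_mul ham (t_mem_ker ht)
    rw [hp.2.2.2] at h0
    apply hs'
    rw [← ha]
    exact h0
  obtain ⟨a', ha'⟩ := hau.exists_left_inv
  -- step A: every element of the kernel is in the range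
  have hA : ∀ u ∈ RingHom.ker p.toAlgHom, ∃ r, τ.1 r = u := by
    intro u hu
    obtain ⟨b, hb⟩ := exists_of_mem_ker ht hu
    obtain ⟨s', hs''⟩ := S.res_surjective (C.res (b * a'))
    have hres : C.res (τ.1 s') = C.res (b * a') := by
      rw [homSet_res_apply S τ, hs'']
    refine ⟨s' * s, ?_⟩
    rw [map_mul, ← ha, ← mul_assoc]
    rw [mul_t_eq_of_res_eq hp ht (a := τ.1 s' * a) (a' := b)]
    · exact hb
    · rw [map_mul, hres, ← map_mul]
      congr 1
      rw [mul_assoc, ha', mul_one]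
  apply hns
  intro c
  obtain ⟨s'', hs''⟩ := hσ (p c)
  have hmem : c - τ.1 s'' ∈ RingHom.ker p.toAlgHom := by
    rw [RingHom.mem_ker, map_sub, sub_eq_zero]
    exact ((hpτ s'').trans hs'').symm
  obtain ⟨r, hr⟩ := hA _ hmem
  refine ⟨s'' + r, ?_⟩
  rw [map_add, hr]
  ring

end Dichotomy

section Chain

variable {S : CRing Λ k} {F : Art Λ k ⥤ Type v} (T : ℕ → Stage S F)
  (hT : ∀ n, IsStep (T n) (T (n + 1)))

include hT

lemma chain_ker_succ_le (n : ℕ) : (T (n + 1)).ker ≤ (T n).ker := by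
  obtain ⟨q, hq, -⟩ := (hT n).exists_hom
  intro s hs
  rw [Stage.mem_ker] at hs ⊢
  have : q ((T (n + 1)).σ.1 s) = (T n).σ.1 s :=
    congrArg (fun m : HomSet S.carrier S.res (T n).A => m.1 s) hq
  rw [← this, hs]
  exact map_zero q.toAlgHom

lemma chain_ker_antitone : Antitone (fun n => (T n).ker) :=
  antitone_nat_of_succ_le (chain_ker_succ_le T hT)

lemma chain_exists_trans {n m : ℕ} (h : n ≤ m) :
    ∃ q : (T m).A ⟶ (T n).A, HomSet.map q (T m).σ = (T n).σ ∧ F.map q (T m).x = (T n).x := by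
  induction m, h using Nat.le_induction with
  | base => exact ⟨𝟙 _, homSet_map_id _, F.map_id_apply _ _⟩
  | succ m hnm ih =>
    obtain ⟨q, hq1, hq2⟩ := ih
    obtain ⟨q', hq'1, hq'2⟩ := (hT m).exists_hom
    exact ⟨q' ≫ q, by rw [homSet_map_comp, hq'1, hq1], by rw [F.map_comp_apply, hq'2, hq2]⟩

lemma chain_val_eq_of_le {A : Art Λ k} {n m : ℕ} (hnm : n ≤ m) (g : (T n).A ⟶ A) (g' : (T m).A ⟶ A)
    (h : HomSet.map g (T n).σ = HomSet.map g' (T m).σ) : F.map g (T n).x = F.map g' (T m).x := by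
  obtain ⟨q, hq1, hq2⟩ := chain_exists_trans T hT hnm
  have e : g' = q ≫ g := by
    apply hom_ext_of_homSet_surjective (T m).σ (T m).surj
    rw [homSet_map_comp, hq1, h]
  rw [e, F.map_comp_apply, hq2]

lemma chain_val_eq {A : Art Λ k} {n m : ℕ} (g : (T n).A ⟶ A) (g' : (T m).A ⟶ A)
    (h : HomSet.map g (T n).σ = HomSet.map g' (T m).σ) : F.map g (T n).x = F.map g' (T m).x := by
  rcases le_total n m with hnm | hmn
  · exact chain_val_eq_of_le T hT hnm g g' h
  · exact (chain_val_eq_of_le T hT hmn g' g h.symm).symm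

omit hT

/-- the intersection of the kernels of the stages -/
def limKer : Ideal S.carrier := ⨅ n, (T n).ker

lemma limKer_le_ker (n : ℕ) : limKer T ≤ (T n).ker := iInf_le _ n

lemma limKer_le_maximalIdeal : limKer T ≤ IsLocalRing.maximalIdeal S.carrier :=
  (limKer_le_ker T 0).trans (ker_le_maximalIdeal_homSet S (T 0).σ)

/-- the limit ring -/
noncomputable def limRing : CRing Λ k := quotC S (limKer T) (limKer_le_maximalIdeal T)

include hT

/-- every map from the limit ring to an object of `Art` factors through a stage -/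
theorem exists_ker_le {A : Art Λ k} (φ : HomSet (limRing T).carrier (limRing T).res A) :
    ∃ n, (T n).ker ≤ RingHom.ker (quotCRestr S (limKer T) (limKer_le_maximalIdeal T) φ).1 := by
  obtain ⟨N, hN⟩ := exists_pow_le_ker (limRing T) φ
  let I : ℕ → Ideal (limRing T).carrier :=
    fun s => ((T s).ker).map (quotCHom S (limKer T) (limKer_le_maximalIdeal T))
  have hI : Antitone I := fun a b hab => Ideal.map_mono (chain_ker_antitone T hT hab)
  have hinf : ⨅ s, I s = ⊥ := by
    rw [eq_bot_iff]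
    intro x hx
    obtain ⟨a, rfl⟩ := quotCHom_surjective S (limKer T) (limKer_le_maximalIdeal T) x
    have ha : a ∈ limKer T := by
      rw [limKer, Submodule.mem_iInf]
      intro s
      have h1 : quotCHom S (limKer T) (limKer_le_maximalIdeal T) a ∈ I s := (Submodule.mem_iInf _).1 hx s
      obtain ⟨b, hb, hab⟩ := (Ideal.mem_map_iff_of_surjective _
        (quotCHom_surjective S (limKer T) (limKer_le_maximalIdeal T))).1 h1
      have h2 : b - a ∈ limKer T := by
        rw [← quotCHom_eq_zero_iff S (limKer T) (limKer_le_maximalIdeal T), map_sub, hab, sub_self]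
      have h3 : a = b - (b - a) := by ring
      rw [h3]
      exact Ideal.sub_mem _ hb (limKer_le_ker T s h2)
    rw [(quotCHom_eq_zero_iff S (limKer T) (limKer_le_maximalIdeal T) a).2 ha]
    exact Ideal.zero_mem _
  have : IsAdicComplete (IsLocalRing.maximalIdeal (limRing T).carrier) (limRing T).carrier :=
    (limRing T).isAdicComplete
  obtain ⟨s, hs⟩ := Groth.Agent.Lib.Helper28.Chevalley.chevalley I hI hinf N
  refine ⟨s, fun a ha => ?_⟩
  rw [RingHom.mem_ker, quotCRestr_apply]
  have h1 : quotCHom S (limKer T) (limKer_le_maximalIdeal T) a ∈ I s := Ideal.mem_map_of_mem _ ha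
  exact RingHom.mem_ker.1 (hN (hs h1))

theorem exists_factor_stage {A : Art Λ k} (φ : HomSet (limRing T).carrier (limRing T).res A) :
    ∃ (n : ℕ) (g : (T n).A ⟶ A),
      HomSet.map g (T n).σ = quotCRestr S (limKer T) (limKer_le_maximalIdeal T) φ := by
  obtain ⟨n, hn⟩ := exists_ker_le T hT φ
  obtain ⟨g, hg⟩ := exists_factor_homSet (T n).σ (T n).surj _ hn
  exact ⟨n, g, hg⟩

/-- the limit family -/
noncomputable def limFamily : Family (limRing T).carrier (limRing T).res F where
  app A φ := F.map (exists_factor_stage T hT φ).choose_spec.choose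
    (T (exists_factor_stage T hT φ).choose).x
  natural := by
    intro A B f φ
    have h1 := (exists_factor_stage T hT φ).choose_spec.choose_spec
    have h2 := (exists_factor_stage T hT (HomSet.map f φ)).choose_spec.choose_spec
    rw [← F.map_comp_apply]
    apply chain_val_eq T hT
    rw [h2, homSet_map_comp, h1]
    rfl

lemma limFamily_app {A : Art Λ k} (φ : HomSet (limRing T).carrier (limRing T).res A) (n : ℕ)
    (g : (T n).A ⟶ A)
    (hg : HomSet.map g (T n).σ = quotCRestr S (limKer T) (limKer_le_maximalIdeal T) φ) :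
    (limFamily T hT).app A φ = F.map g (T n).x := by
  have h1 := (exists_factor_stage T hT φ).choose_spec.choose_spec
  change F.map (exists_factor_stage T hT φ).choose_spec.choose
    (T (exists_factor_stage T hT φ).choose).x = _
  apply chain_val_eq T hT
  rw [h1, hg]

end Chain

section Versal

variable [IsNoetherianRing Λ] [Module.Finite Λ k]
variable {S : CRing Λ k} {F : Art Λ k ⥤ Type v} (T : ℕ → Stage S F)
  (hT : ∀ n, IsStep (T n) (T (n + 1)))

theorem isVersal_limFamily (hsm : IsSmoothFunctor (hR S.carrier S.res))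
    (h0 : H0 F) (h1 : S1 F) (h2 : Heps F)
    (htan : ∀ θ : F.obj (dual Λ k), ∃ τ : (T 0).A ⟶ dual Λ k, F.map τ (T 0).x = θ) :
    IsVersal (limFamily T hT) := by
  have hJm := limKer_le_maximalIdeal T
  apply isVersal_of_tangent_surjective_of_lifts h0 ((s1_iff_hbar F).1 h1) h2
  · -- tangent surjectivity
    intro θ
    obtain ⟨τ, hτ⟩ := htan θ
    set ψ := HomSet.map τ (T 0).σ with hψ
    have hle : limKer T ≤ RingHom.ker ψ.1 := by
      intro s hs
      have h0' : (T 0).σ.1 s = 0 := ((T 0).mem_ker s).1 (limKer_le_ker T 0 hs)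
      rw [RingHom.mem_ker]
      change τ ((T 0).σ.1 s) = 0
      rw [h0']
      exact map_zero τ.toAlgHom
    refine ⟨quotCDesc S (limKer T) hJm ψ hle, ?_⟩
    change (limFamily T hT).app (dual Λ k) (quotCDesc S (limKer T) hJm ψ hle) = θ
    rw [limFamily_app T hT _ 0 τ (by rfl), hτ]
  · -- lifting
    intro B A μ hμ φ y hy
    obtain ⟨n, g, hg⟩ := exists_factor_stage T hT φ
    rw [limFamily_app T hT φ n g hg] at hy
    obtain ⟨C, p₁, p₂, hC⟩ := exists_isFibreProd_of_surjective g μ hμ.1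
    have hp₁ : IsSmallExt p₁ := isSmallExt_fst_of_isFibreProd hC hμ
    obtain ⟨z, hz1, hz2⟩ := (cmp_surjective_iff F hC).1 (h1 _ _ _ _ hC hμ.1) (T n).x y hy.symm
    obtain ⟨(τ : HomSet S.carrier S.res C), hτ⟩ := hsm p₁ hp₁.1 (T n).σ
    have hτ' : HomSet.map p₁ τ = (T n).σ := hτ
    have hker : (T (n + 1)).ker ≤ RingHom.ker τ.1 := by
      by_cases hτs : Function.Surjective τ.1
      · exact (hT n).least C τ p₁ hτs hτ' hp₁.2.2.2 ⟨z, hz1⟩
      · exact (chain_ker_succ_le T hT n).trans
          (ker_le_ker_of_not_surjective p₁ hp₁ τ (T n).σ (T n).surj hτ' hτs)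
    have hle : limKer T ≤ RingHom.ker (HomSet.map p₂ τ).1 := by
      intro s hs
      have h3 : τ.1 s = 0 := RingHom.mem_ker.1 (hker (limKer_le_ker T (n + 1) hs))
      rw [RingHom.mem_ker]
      change p₂ (τ.1 s) = 0
      rw [h3]
      exact map_zero p₂.toAlgHom
    refine ⟨quotCDesc S (limKer T) hJm (HomSet.map p₂ τ) hle, ?_⟩
    apply quotCRestr_injective S (limKer T) hJm
    apply homSet_ext
    intro s
    have e1 : (quotCRestr S (limKer T) hJm φ).1 s = g ((T n).σ.1 s) := by rw [← hg]; rfl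
    have e2 : p₁ (τ.1 s) = (T n).σ.1 s :=
      congrArg (fun m : HomSet S.carrier S.res (T n).A => m.1 s) hτ'
    change μ (p₂ (τ.1 s)) = _
    rw [e1, ← e2]
    exact (hC.w_apply _).symm

end Versal

section Main

variable [IsNoetherianRing Λ] [Module.Finite Λ k]

theorem hasVersal_of_s1_heps_hfin (F : Art Λ k ⥤ Type v) [TangentStr F]
    (h0 : H0 F) (h1 : S1 F) (h2 : Heps F) (h3 : Hfin F) : HasVersal F := by
  obtain ⟨A₁, x₁, htan⟩ := exists_tangent_versal h0 h2 h3
  obtain ⟨S, σ₁, hsm, hσ₁⟩ := exists_smooth_cover A₁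
  let T₀ : Stage S F := { A := A₁, σ := σ₁, surj := hσ₁, x := x₁ }
  obtain ⟨T, hT0, hT⟩ := exists_dep_seq (X := fun _ => Stage S F)
    (fun _ T T' => IsStep T T') T₀ (fun _ T => exists_isStep h1 T)
  have htan' : ∀ θ : F.obj (dual Λ k), ∃ τ : (T 0).A ⟶ dual Λ k, F.map τ (T 0).x = θ := by
    rw [hT0]
    exact htan
  exact ⟨⟨limRing T, limFamily T hT, isVersal_limFamily T hT hsm h0 h1 h2 htan'⟩⟩

end Main

end Groth.Agent.Lib.Helper1.ArtFunLib
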