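import Mathlib
import Groth.Prelude.Def_ArtFun5
import Groth.Agent.Lib.Helper1.ArtFunHullCut
import Groth.Agent.Lib.Helper1.ArtFunSchless

/-!
# Existence of a hull
-/
universe u v
open CategoryTheory

namespace Groth.Agent.Lib.Helper1.ArtFunLib

open ArtFun ArtFun.Art

variable {Λ : Type u} {k : Type u} [CommRing Λ] [Field k] [Algebra Λ k]
variable [IsNoetherianRing Λ] [Module.Finite Λ k]

theorem hasHull_of_hasVersal (hk : Subsingleton (Derivation Λ k k)) {F : Art Λ k ⥤ Type v}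
    (h0 : H0 F) (h1 : S1 F) (h2 : Heps F) (hv : HasVersal F) : HasHull F := by
  obtain ⟨⟨R, ξ, hξ⟩⟩ := hv
  obtain ⟨J, hJ, hmini⟩ := exists_miniversal_quot_of_isVersal hk h0 h2 R ξ hξ
  exact ⟨⟨quotC R J hJ, _, hmini⟩⟩

theorem hasHull_of_s1_heps_hfin (hk : Subsingleton (Derivation Λ k k)) (F : Art Λ k ⥤ Type v)
    [TangentStr F] (h0 : H0 F) (h1 : S1 F) (h2 : Heps F) (h3 : Hfin F) : HasHull F :=
  hasHull_of_hasVersal hk h0 h1 h2 (hasVersal_of_s1_heps_hfin F h0 h1 h2 h3)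

end Groth.Agent.Lib.Helper1.ArtFunLib
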