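import Mathlib

/-!
# Abstract nine-term cohomology sequence of a short exact sequence of three-term complexes (helper1)

Rows `0 → X_k → Y_k → Z_k` (`k = 0, 1, 2`) exact, with `Y_k → Z_k` surjective for `k = 0, 1`;
columns complexes.  Cohomology is given abstractly (`H⁰` by an injection onto the kernel, `H¹` by a type
of cocycles and a surjection with kernel the coboundaries, `H²` by a surjection with kernel the coboundaries).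
-/

namespace Groth.Agent.Lib.Helper1.NineTerm

/-- an additive map from a total, functional, additive relation -/
noncomputable def homOfRel {G H : Type*} [AddCommGroup G] [AddCommGroup H] (r : G → H → Prop)
    (tot : ∀ g, ∃ h, r g h) (uniq : ∀ g h h', r g h → r g h' → h = h')
    (add : ∀ g g' h h', r g h → r g' h' → r (g + g') (h + h')) : G →+ H :=
  AddMonoidHom.mk' (fun g => (tot g).choose) (fun g g' =>
    uniq _ _ _ (tot (g + g')).choose_spec (add _ _ _ _ (tot g).choose_spec (tot g').choose_spec))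

lemma homOfRel_spec {G H : Type*} [AddCommGroup G] [AddCommGroup H] (r : G → H → Prop)
    (tot : ∀ g, ∃ h, r g h) (uniq : ∀ g h h', r g h → r g h' → h = h')
    (add : ∀ g g' h h', r g h → r g' h' → r (g + g') (h + h')) (g : G) :
    r g (homOfRel r tot uniq add g) := (tot g).choose_spec

lemma homOfRel_eq {G H : Type*} [AddCommGroup G] [AddCommGroup H] (r : G → H → Prop)
    (tot : ∀ g, ∃ h, r g h) (uniq : ∀ g h h', r g h → r g h' → h = h')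
    (add : ∀ g g' h h', r g h → r g' h' → r (g + g') (h + h')) {g : G} {t : H} (h : r g t) :
    homOfRel r tot uniq add g = t := uniq _ _ _ (homOfRel_spec r tot uniq add g) h

section

variable {X0 X1 X2 Y0 Y1 Y2 Z0 Z1 Z2 : Type*}
  [AddCommGroup X0] [AddCommGroup X1] [AddCommGroup X2]
  [AddCommGroup Y0] [AddCommGroup Y1] [AddCommGroup Y2]
  [AddCommGroup Z0] [AddCommGroup Z1] [AddCommGroup Z2]
  (dX0 : X0 →+ X1) (dX1 : X1 →+ X2) (dY0 : Y0 →+ Y1) (dY1 : Y1 →+ Y2)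
  (dZ0 : Z0 →+ Z1) (dZ1 : Z1 →+ Z2)
  (i0 : X0 →+ Y0) (i1 : X1 →+ Y1) (i2 : X2 →+ Y2)
  (p0 : Y0 →+ Z0) (p1 : Y1 →+ Z1) (p2 : Y2 →+ Z2)

/-- the hypotheses on the diagram -/
structure Diagram : Prop where
  hc1 : ∀ x, i1 (dX0 x) = dY0 (i0 x)
  hc2 : ∀ x, i2 (dX1 x) = dY1 (i1 x)
  hc3 : ∀ y, p1 (dY0 y) = dZ0 (p0 y)
  hc4 : ∀ y, p2 (dY1 y) = dZ1 (p1 y)
  hX : ∀ x, dX1 (dX0 x) = 0
  hY : ∀ x, dY1 (dY0 x) = 0
  hZ : ∀ x, dZ1 (dZ0 x) = 0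
  hi0 : Function.Injective i0
  hi1 : Function.Injective i1
  hi2 : Function.Injective i2
  he0 : ∀ y, p0 y = 0 ↔ ∃ x, i0 x = y
  he1 : ∀ y, p1 y = 0 ↔ ∃ x, i1 x = y
  he2 : ∀ y, p2 y = 0 ↔ ∃ x, i2 x = y
  hp0 : Function.Surjective p0
  hp1 : Function.Surjective p1

/-- abstract cohomology of a three-term complex `W0 → W1 → W2` -/
structure Coh {W0 W1 W2 : Type*} [AddCommGroup W0] [AddCommGroup W1] [AddCommGroup W2]
    (d0 : W0 →+ W1) (d1 : W1 →+ W2) (H0 Zc H1 H2 : Type*)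
    [AddCommGroup H0] [AddCommGroup Zc] [AddCommGroup H1] [AddCommGroup H2] where
  ι0 : H0 →+ W0
  ι0_inj : Function.Injective ι0
  ι0_range : ∀ x, d0 x = 0 ↔ ∃ h, ι0 h = x
  ι1 : Zc →+ W1
  ι1_inj : Function.Injective ι1
  ι1_range : ∀ c, d1 c = 0 ↔ ∃ z, ι1 z = c
  q1 : Zc →+ H1
  q1_surj : Function.Surjective q1
  q1_ker : ∀ z, q1 z = 0 ↔ ∃ w, d0 w = ι1 z
  q2 : W2 →+ H2
  q2_surj : Function.Surjective q2
  q2_ker : ∀ x, q2 x = 0 ↔ ∃ w, d1 w = x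

end

section Main

variable {X0 X1 X2 Y0 Y1 Y2 Z0 Z1 Z2 : Type*}
  [AddCommGroup X0] [AddCommGroup X1] [AddCommGroup X2]
  [AddCommGroup Y0] [AddCommGroup Y1] [AddCommGroup Y2]
  [AddCommGroup Z0] [AddCommGroup Z1] [AddCommGroup Z2]
  {dX0 : X0 →+ X1} {dX1 : X1 →+ X2} {dY0 : Y0 →+ Y1} {dY1 : Y1 →+ Y2}
  {dZ0 : Z0 →+ Z1} {dZ1 : Z1 →+ Z2}
  {i0 : X0 →+ Y0} {i1 : X1 →+ Y1} {i2 : X2 →+ Y2}
  {p0 : Y0 →+ Z0} {p1 : Y1 →+ Z1} {p2 : Y2 →+ Z2}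
  (D : Diagram dX0 dX1 dY0 dY1 dZ0 dZ1 i0 i1 i2 p0 p1 p2)
  {HX0 ZX1 HX1 HX2 HY0 ZY1 HY1 HY2 HZ0 ZZ1 HZ1 HZ2 : Type*}
  [AddCommGroup HX0] [AddCommGroup ZX1] [AddCommGroup HX1] [AddCommGroup HX2]
  [AddCommGroup HY0] [AddCommGroup ZY1] [AddCommGroup HY1] [AddCommGroup HY2]
  [AddCommGroup HZ0] [AddCommGroup ZZ1] [AddCommGroup HZ1] [AddCommGroup HZ2]
  (CX : Coh dX0 dX1 HX0 ZX1 HX1 HX2) (CY : Coh dY0 dY1 HY0 ZY1 HY1 HY2)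
  (CZ : Coh dZ0 dZ1 HZ0 ZZ1 HZ1 HZ2)
  {α0 : HX0 → HY0} {β0 : HY0 → HZ0} {α1 : HX1 → HY1} {β1 : HY1 → HZ1}
  {α2 : HX2 → HY2} {β2 : HY2 → HZ2}
  (a0 : ∀ h, CY.ι0 (α0 h) = i0 (CX.ι0 h)) (b0 : ∀ h, CZ.ι0 (β0 h) = p0 (CY.ι0 h))
  (a1 : ∀ z z', CY.ι1 z' = i1 (CX.ι1 z) → α1 (CX.q1 z) = CY.q1 z')
  (b1 : ∀ z z', CZ.ι1 z' = p1 (CY.ι1 z) → β1 (CY.q1 z) = CZ.q1 z')
  (a2 : ∀ x, α2 (CX.q2 x) = CY.q2 (i2 x)) (b2 : ∀ y, β2 (CY.q2 y) = CZ.q2 (p2 y))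

include D in
lemma pi0 (x : X0) : p0 (i0 x) = 0 := (D.he0 _).2 ⟨x, rfl⟩
include D in
lemma pi1 (x : X1) : p1 (i1 x) = 0 := (D.he1 _).2 ⟨x, rfl⟩
include D in
lemma pi2 (x : X2) : p2 (i2 x) = 0 := (D.he2 _).2 ⟨x, rfl⟩

include D a0 in
theorem alpha0_injective : Function.Injective α0 := by
  intro h h' hh
  have := congrArg CY.ι0 hh
  rw [a0, a0] at this
  exact CX.ι0_inj (D.hi0 this)

include D a0 b0 in
theorem exact_alpha0_beta0 : Function.Exact α0 β0 := by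
  intro k
  constructor
  · intro hk
    have h1 : p0 (CY.ι0 k) = 0 := by rw [← b0, hk, map_zero]
    obtain ⟨x0, hx0⟩ := (D.he0 _).1 h1
    have h2 : dX0 x0 = 0 := by
      apply D.hi1
      rw [D.hc1, hx0, map_zero]
      exact (CY.ι0_range _).2 ⟨k, rfl⟩
    obtain ⟨h, rfl⟩ := (CX.ι0_range _).1 h2
    refine ⟨h, CY.ι0_inj ?_⟩
    rw [a0, hx0]
  · rintro ⟨h, rfl⟩
    apply CZ.ι0_inj
    rw [b0, a0, pi0 D, map_zero]

include D a1 b1 in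
theorem exact_alpha1_beta1 : Function.Exact α1 β1 := by
  intro u
  constructor
  · intro hu
    obtain ⟨z', rfl⟩ := CY.q1_surj u
    have hc : dZ1 (p1 (CY.ι1 z')) = 0 := by
      rw [← D.hc4, (CY.ι1_range _).2 ⟨z', rfl⟩, map_zero]
    obtain ⟨z'', hz''⟩ := (CZ.ι1_range _).1 hc
    rw [b1 z' z'' hz''] at hu
    obtain ⟨w, hw⟩ := (CZ.q1_ker _).1 hu
    obtain ⟨y0, rfl⟩ := D.hp0 w
    have h1 : p1 (CY.ι1 z' - dY0 y0) = 0 := by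
      rw [map_sub, D.hc3, hw, hz'', sub_self]
    obtain ⟨x1, hx1⟩ := (D.he1 _).1 h1
    have h2 : dX1 x1 = 0 := by
      apply D.hi2
      rw [D.hc2, hx1, map_sub, D.hY, sub_zero, map_zero]
      exact (CY.ι1_range _).2 ⟨z', rfl⟩
    obtain ⟨z, rfl⟩ := (CX.ι1_range _).1 h2
    have h3 : dY1 (i1 (CX.ι1 z)) = 0 := by
      rw [← D.hc2, h2, map_zero]
    obtain ⟨z3, hz3⟩ := (CY.ι1_range _).1 h3
    refine ⟨CX.q1 z, ?_⟩
    rw [a1 z z3 hz3, ← sub_eq_zero, ← map_sub, CY.q1_ker]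
    refine ⟨-y0, ?_⟩
    rw [map_sub, hz3, hx1, map_neg]
    abel
  · rintro ⟨t, rfl⟩
    obtain ⟨z, rfl⟩ := CX.q1_surj t
    have h3 : dY1 (i1 (CX.ι1 z)) = 0 := by
      rw [← D.hc2, (CX.ι1_range _).2 ⟨z, rfl⟩, map_zero]
    obtain ⟨z', hz'⟩ := (CY.ι1_range _).1 h3
    rw [a1 z z' hz']
    have h4 : CZ.ι1 0 = p1 (CY.ι1 z') := by rw [hz', pi1 D, map_zero]
    rw [b1 z' 0 h4, map_zero]

include D a2 b2 in
theorem exact_alpha2_beta2 : Function.Exact α2 β2 := by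
  intro u
  constructor
  · intro hu
    obtain ⟨y, rfl⟩ := CY.q2_surj u
    rw [b2] at hu
    obtain ⟨w1, hw1⟩ := (CZ.q2_ker _).1 hu
    obtain ⟨y1, rfl⟩ := D.hp1 w1
    have h1 : p2 (y - dY1 y1) = 0 := by rw [map_sub, D.hc4, hw1, sub_self]
    obtain ⟨x, hx⟩ := (D.he2 _).1 h1
    refine ⟨CX.q2 x, ?_⟩
    rw [a2, hx, map_sub, sub_eq_self, CY.q2_ker]
    exact ⟨y1, rfl⟩
  · rintro ⟨t, rfl⟩
    obtain ⟨x, rfl⟩ := CX.q2_surj t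
    rw [a2, b2, pi2 D, map_zero]

/-- the relation defining `δ₀` -/
def rel0 (h : HZ0) (t : HX1) : Prop :=
  ∃ (y0 : Y0) (z : ZX1), p0 y0 = CZ.ι0 h ∧ i1 (CX.ι1 z) = dY0 y0 ∧ t = CX.q1 z

include D in
lemma rel0_tot (h : HZ0) : ∃ t, rel0 (i1 := i1) (p0 := p0) (dY0 := dY0) CX CZ h t := by
  obtain ⟨y0, hy0⟩ := D.hp0 (CZ.ι0 h)
  have h1 : p1 (dY0 y0) = 0 := by
    rw [D.hc3, hy0]
    exact (CZ.ι0_range _).2 ⟨h, rfl⟩
  obtain ⟨x1, hx1⟩ := (D.he1 _).1 h1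
  have h2 : dX1 x1 = 0 := by
    apply D.hi2
    rw [D.hc2, hx1, D.hY, map_zero]
  obtain ⟨z, rfl⟩ := (CX.ι1_range _).1 h2
  exact ⟨CX.q1 z, y0, z, hy0, hx1, rfl⟩

include D in
lemma rel0_uniq (h : HZ0) (t t' : HX1)
    (ht : rel0 (i1 := i1) (p0 := p0) (dY0 := dY0) CX CZ h t)
    (ht' : rel0 (i1 := i1) (p0 := p0) (dY0 := dY0) CX CZ h t') : t = t' := by
  obtain ⟨y0, z, h1, h2, rfl⟩ := ht
  obtain ⟨y0', z', h1', h2', rfl⟩ := ht'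
  have h3 : p0 (y0 - y0') = 0 := by rw [map_sub, h1, h1', sub_self]
  obtain ⟨x0, hx0⟩ := (D.he0 _).1 h3
  rw [← sub_eq_zero, ← map_sub, CX.q1_ker]
  refine ⟨x0, D.hi1 ?_⟩
  rw [D.hc1, hx0, map_sub, map_sub, map_sub, h2, h2']

lemma rel0_add (h h' : HZ0) (t t' : HX1)
    (ht : rel0 (i1 := i1) (p0 := p0) (dY0 := dY0) CX CZ h t)
    (ht' : rel0 (i1 := i1) (p0 := p0) (dY0 := dY0) CX CZ h' t') :
    rel0 (i1 := i1) (p0 := p0) (dY0 := dY0) CX CZ (h + h') (t + t') := by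
  obtain ⟨y0, z, h1, h2, rfl⟩ := ht
  obtain ⟨y0', z', h1', h2', rfl⟩ := ht'
  refine ⟨y0 + y0', z + z', ?_, ?_, ?_⟩
  · rw [map_add, map_add, h1, h1']
  · rw [map_add, map_add, map_add, h2, h2']
  · rw [map_add]

/-- the connecting map `δ₀ : H⁰(Z) → H¹(X)` -/
noncomputable def delta0 : HZ0 →+ HX1 :=
  homOfRel (rel0 (i1 := i1) (p0 := p0) (dY0 := dY0) CX CZ) (rel0_tot D CX CZ) (rel0_uniq D CX CZ)
    (rel0_add CX CZ)

include b0 in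
theorem exact_beta0_delta0 : Function.Exact β0 (delta0 D CX CZ) := by
  intro h
  constructor
  · intro hh
    obtain ⟨y0, z, h1, h2, h3⟩ := homOfRel_spec (rel0 (i1 := i1) (p0 := p0) (dY0 := dY0) CX CZ)
      (rel0_tot D CX CZ) (rel0_uniq D CX CZ) (rel0_add CX CZ) h
    change delta0 D CX CZ h = _ at h3
    rw [hh] at h3
    obtain ⟨w, hw⟩ := (CX.q1_ker _).1 h3.symm
    have h4 : dY0 (y0 - i0 w) = 0 := by
      rw [map_sub, ← h2, ← D.hc1, hw, sub_self]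
    obtain ⟨h', hh'⟩ := (CY.ι0_range _).1 h4
    refine ⟨h', CZ.ι0_inj ?_⟩
    rw [b0, hh', map_sub, pi0 D, sub_zero, h1]
  · rintro ⟨h', rfl⟩
    refine homOfRel_eq _ _ _ _ ⟨CY.ι0 h', 0, (b0 h').symm, ?_, (map_zero _).symm⟩
    rw [map_zero, map_zero]
    exact ((CY.ι0_range _).2 ⟨h', rfl⟩).symm

include a1 in
theorem exact_delta0_alpha1 : Function.Exact (delta0 D CX CZ) α1 := by
  intro t
  constructor
  · intro ht
    obtain ⟨z, rfl⟩ := CX.q1_surj t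
    have h3 : dY1 (i1 (CX.ι1 z)) = 0 := by
      rw [← D.hc2, (CX.ι1_range _).2 ⟨z, rfl⟩, map_zero]
    obtain ⟨z', hz'⟩ := (CY.ι1_range _).1 h3
    rw [a1 z z' hz'] at ht
    obtain ⟨y0, hy0⟩ := (CY.q1_ker _).1 ht
    have h4 : dZ0 (p0 y0) = 0 := by rw [← D.hc3, hy0, hz', pi1 D]
    obtain ⟨h, hh⟩ := (CZ.ι0_range _).1 h4
    refine ⟨h, homOfRel_eq _ _ _ _ ⟨y0, z, hh.symm, ?_, rfl⟩⟩
    rw [← hz', hy0]
  · rintro ⟨h, rfl⟩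
    obtain ⟨y0, z, h1, h2, h3⟩ := homOfRel_spec (rel0 (i1 := i1) (p0 := p0) (dY0 := dY0) CX CZ)
      (rel0_tot D CX CZ) (rel0_uniq D CX CZ) (rel0_add CX CZ) h
    change delta0 D CX CZ h = _ at h3
    rw [h3]
    have h4 : dY1 (i1 (CX.ι1 z)) = 0 := by rw [h2, D.hY]
    obtain ⟨z', hz'⟩ := (CY.ι1_range _).1 h4
    rw [a1 z z' hz', CY.q1_ker]
    exact ⟨y0, by rw [hz', h2]⟩

/-- the relation defining `δ₁` -/
def rel1 (v : HZ1) (t : HX2) : Prop :=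
  ∃ (z'' : ZZ1) (y1 : Y1) (x2 : X2), CZ.q1 z'' = v ∧ p1 y1 = CZ.ι1 z'' ∧ i2 x2 = dY1 y1 ∧
    t = CX.q2 x2

include D in
lemma rel1_tot (v : HZ1) : ∃ t, rel1 (i2 := i2) (p1 := p1) (dY1 := dY1) CX CZ v t := by
  obtain ⟨z'', rfl⟩ := CZ.q1_surj v
  obtain ⟨y1, hy1⟩ := D.hp1 (CZ.ι1 z'')
  have h1 : p2 (dY1 y1) = 0 := by
    rw [D.hc4, hy1]
    exact (CZ.ι1_range _).2 ⟨z'', rfl⟩
  obtain ⟨x2, hx2⟩ := (D.he2 _).1 h1
  exact ⟨CX.q2 x2, z'', y1, x2, rfl, hy1, hx2, rfl⟩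

include D in
lemma rel1_uniq (v : HZ1) (t t' : HX2)
    (ht : rel1 (i2 := i2) (p1 := p1) (dY1 := dY1) CX CZ v t)
    (ht' : rel1 (i2 := i2) (p1 := p1) (dY1 := dY1) CX CZ v t') : t = t' := by
  obtain ⟨z, y1, x2, h0, h1, h2, rfl⟩ := ht
  obtain ⟨z', y1', x2', h0', h1', h2', rfl⟩ := ht'
  have h3 : CZ.q1 (z - z') = 0 := by rw [map_sub, h0, h0', sub_self]
  obtain ⟨w, hw⟩ := (CZ.q1_ker _).1 h3
  obtain ⟨y0, rfl⟩ := D.hp0 w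
  have h4 : p1 (y1 - y1' - dY0 y0) = 0 := by
    rw [map_sub, map_sub, h1, h1', D.hc3, hw, map_sub, sub_self]
  obtain ⟨x1, hx1⟩ := (D.he1 _).1 h4
  rw [← sub_eq_zero, ← map_sub, CX.q2_ker]
  refine ⟨x1, D.hi2 ?_⟩
  rw [D.hc2, hx1, map_sub, map_sub, map_sub, D.hY, sub_zero, h2, h2']

lemma rel1_add (v v' : HZ1) (t t' : HX2)
    (ht : rel1 (i2 := i2) (p1 := p1) (dY1 := dY1) CX CZ v t)
    (ht' : rel1 (i2 := i2) (p1 := p1) (dY1 := dY1) CX CZ v' t') :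
    rel1 (i2 := i2) (p1 := p1) (dY1 := dY1) CX CZ (v + v') (t + t') := by
  obtain ⟨z, y1, x2, h0, h1, h2, rfl⟩ := ht
  obtain ⟨z', y1', x2', h0', h1', h2', rfl⟩ := ht'
  refine ⟨z + z', y1 + y1', x2 + x2', ?_, ?_, ?_, ?_⟩
  · rw [map_add, h0, h0']
  · rw [map_add, map_add, h1, h1']
  · rw [map_add, map_add, h2, h2']
  · rw [map_add]

/-- the connecting map `δ₁ : H¹(Z) → H²(X)` -/
noncomputable def delta1 : HZ1 →+ HX2 :=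
  homOfRel (rel1 (i2 := i2) (p1 := p1) (dY1 := dY1) CX CZ) (rel1_tot D CX CZ) (rel1_uniq D CX CZ)
    (rel1_add CX CZ)

include b1 in
theorem exact_beta1_delta1 : Function.Exact β1 (delta1 D CX CZ) := by
  intro v
  constructor
  · intro hv
    obtain ⟨z'', y1, x2, h0, h1, h2, h3⟩ :=
      homOfRel_spec (rel1 (i2 := i2) (p1 := p1) (dY1 := dY1) CX CZ)
        (rel1_tot D CX CZ) (rel1_uniq D CX CZ) (rel1_add CX CZ) v
    change delta1 D CX CZ v = _ at h3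
    rw [hv] at h3
    obtain ⟨x1, hx1⟩ := (CX.q2_ker _).1 h3.symm
    have h4 : dY1 (y1 - i1 x1) = 0 := by
      rw [map_sub, ← h2, ← D.hc2, hx1, sub_self]
    obtain ⟨z', hz'⟩ := (CY.ι1_range _).1 h4
    refine ⟨CY.q1 z', ?_⟩
    rw [b1 z' z'' (by rw [hz', map_sub, pi1 D, sub_zero, h1]), h0]
  · rintro ⟨u, rfl⟩
    obtain ⟨z', rfl⟩ := CY.q1_surj u
    have hc : dZ1 (p1 (CY.ι1 z')) = 0 := by
      rw [← D.hc4, (CY.ι1_range _).2 ⟨z', rfl⟩, map_zero]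
    obtain ⟨z'', hz''⟩ := (CZ.ι1_range _).1 hc
    rw [b1 z' z'' hz'']
    refine homOfRel_eq _ _ _ _ ⟨z'', CY.ι1 z', 0, rfl, hz''.symm, ?_, (map_zero _).symm⟩
    rw [map_zero]
    exact ((CY.ι1_range _).2 ⟨z', rfl⟩).symm

include a2 in
theorem exact_delta1_alpha2 : Function.Exact (delta1 D CX CZ) α2 := by
  intro t
  constructor
  · intro ht
    obtain ⟨x2, rfl⟩ := CX.q2_surj t
    rw [a2] at ht
    obtain ⟨y1, hy1⟩ := (CY.q2_ker _).1 ht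
    have h4 : dZ1 (p1 y1) = 0 := by rw [← D.hc4, hy1, pi2 D]
    obtain ⟨z'', hz''⟩ := (CZ.ι1_range _).1 h4
    exact ⟨CZ.q1 z'', homOfRel_eq _ _ _ _ ⟨z'', y1, x2, rfl, hz''.symm, hy1.symm, rfl⟩⟩
  · rintro ⟨v, rfl⟩
    obtain ⟨z'', y1, x2, h0, h1, h2, h3⟩ :=
      homOfRel_spec (rel1 (i2 := i2) (p1 := p1) (dY1 := dY1) CX CZ)
        (rel1_tot D CX CZ) (rel1_uniq D CX CZ) (rel1_add CX CZ) v
    change delta1 D CX CZ v = _ at h3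
    rw [h3, a2, h2, CY.q2_ker]
    exact ⟨y1, rfl⟩

end Main

end Groth.Agent.Lib.Helper1.NineTerm
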