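import Groth.Agent.Lib.Helper1.CotTHom
import Groth.Agent.Lib.Helper1.NineTerm

/-!
# The nine-term sequence of cotangent modules for `A → B → C` (helper1)
-/

universe u v w t u' v' w' t' t'' m

open TensorProduct CotT

namespace Groth.Agent.Lib.Helper1.CotTComp

open Groth.Agent.Lib.Helper1.CotTHom Groth.Agent.Lib.Helper1.NineTerm

section Kappa

variable {A : Type u} {B : Type v} {ι : Type w} {σ : Type t}
variable [CommRing A] [CommRing B] [Algebra A B]
variable (P : Algebra.Presentation A B ι σ)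

/-- `κ : Q → L₂`, `q ↦ [1 ⊗ q]` -/
noncomputable def kappa (q : relKer P) : L2 P := Submodule.Quotient.mk ((1 : B) ⊗ₜ q)

lemma kappa_add (q q' : relKer P) : kappa P (q + q') = kappa P q + kappa P q' := by
  unfold kappa
  rw [TensorProduct.tmul_add, Submodule.Quotient.mk_add]

lemma kappa_zero : kappa P 0 = 0 := by
  unfold kappa
  rw [TensorProduct.tmul_zero, Submodule.Quotient.mk_zero]

lemma kappa_smul (r : P.toExtension.Ring) (q : relKer P) :
    kappa P (r • q) = algebraMap P.toExtension.Ring B r • kappa P q := by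
  unfold kappa
  rw [← Submodule.Quotient.mk_smul, TensorProduct.smul_tmul', smul_eq_mul, mul_one,
    ← TensorProduct.smul_tmul, Algebra.smul_def, mul_one]

/-- additive-hom version of `κ` -/
noncomputable def kappaHom : relKer P →+ L2 P :=
  AddMonoidHom.mk' (kappa P) (kappa_add P)

lemma kappa_sub (q q' : relKer P) : kappa P (q - q') = kappa P q - kappa P q' :=
  (kappaHom P).map_sub q q'

lemma kappa_sum {α : Type*} (s : Finset α) (f : α → relKer P) :
    kappa P (∑ i ∈ s, f i) = ∑ i ∈ s, kappa P (f i) :=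
  map_sum (kappaHom P) f s

lemma exists_one_tmul_relKer (x : B ⊗[P.toExtension.Ring] relKer P) :
    ∃ q : relKer P, x = (1 : B) ⊗ₜ q := by
  induction x using TensorProduct.induction_on with
  | zero => exact ⟨0, (TensorProduct.tmul_zero _ _).symm⟩
  | tmul b f =>
    obtain ⟨r, rfl⟩ := P.toExtension.algebraMap_surjective b
    refine ⟨r • f, ?_⟩
    rw [← TensorProduct.smul_tmul, Algebra.smul_def, mul_one]
  | add x y hx hy =>
    obtain ⟨f, rfl⟩ := hx
    obtain ⟨g, rfl⟩ := hy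
    exact ⟨f + g, (TensorProduct.tmul_add _ _ _).symm⟩

lemma kappa_surjective : Function.Surjective (kappa P) := by
  intro z
  obtain ⟨x, rfl⟩ := Submodule.Quotient.mk_surjective _ z
  obtain ⟨q, rfl⟩ := exists_one_tmul_relKer P x
  exact ⟨q, rfl⟩

lemma kappa_eq_zero_of_mem (q : relKer P) (hq : (q : relMod P) ∈ trivRel P) : kappa P q = 0 := by
  unfold kappa
  rw [Submodule.Quotient.mk_eq_zero]
  exact ⟨(1 : B) ⊗ₜ ⟨q, hq⟩, rfl⟩

lemma smul_mem_trivRel_of_mem_ker {i : P.toExtension.Ring} (hi : i ∈ P.toExtension.ker)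
    (q : relKer P) : i • (q : relMod P) ∈ trivRel P := by
  have h1 : i ∈ LinearMap.range (jmap P) := by rw [range_jmap]; exact hi
  obtain ⟨f, rfl⟩ := h1
  have h2 : jmap P f • (q : relMod P) = jmap P f • (q : relMod P) - jmap P (q : relMod P) • f := by
    rw [show jmap P (q : relMod P) = 0 from q.2, zero_smul, sub_zero]
  rw [h2]
  exact Submodule.subset_span ⟨f, q, rfl⟩

/-- `Q → F/F₀` -/
noncomputable def qToPQ : relKer P →ₗ[P.toExtension.Ring] PQ P :=
  PQ.mk P ∘ₗ (relKer P).subtype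

lemma qToPQ_apply (q : relKer P) : qToPQ P q = PQ.mk P (q : relMod P) := rfl

/-- auxiliary: `B ⊗ Q → F/F₀`, `r̄ ⊗ q ↦ r • [q]`. -/
noncomputable def thetaAux :
    B →ₗ[P.toExtension.Ring] (relKer P →ₗ[P.toExtension.Ring] PQ P) :=
  (Submodule.liftQ (LinearMap.ker (Algebra.linearMap P.toExtension.Ring B))
    ((LinearMap.lsmul P.toExtension.Ring
      (relKer P →ₗ[P.toExtension.Ring] PQ P)).flip (qToPQ P))
    (by
      intro i hi
      rw [LinearMap.mem_ker] at hi ⊢
      refine LinearMap.ext fun q => ?_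
      rw [LinearMap.flip_apply, LinearMap.lsmul_apply, LinearMap.smul_apply, LinearMap.zero_apply,
        qToPQ_apply, ← map_smul, PQ.mk_eq_zero_iff]
      exact smul_mem_trivRel_of_mem_ker P hi q)) ∘ₗ
  ((Algebra.linearMap P.toExtension.Ring B).quotKerEquivOfSurjective
    P.toExtension.algebraMap_surjective).symm.toLinearMap

lemma thetaAux_algebraMap (r : P.toExtension.Ring) (q : relKer P) :
    thetaAux P (algebraMap P.toExtension.Ring B r) q = r • qToPQ P q := by
  unfold thetaAux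
  have : ((Algebra.linearMap P.toExtension.Ring B).quotKerEquivOfSurjective
      P.toExtension.algebraMap_surjective).symm (algebraMap P.toExtension.Ring B r) =
      Submodule.Quotient.mk r := by
    rw [LinearEquiv.symm_apply_eq]
    rfl
  rw [LinearMap.comp_apply, LinearEquiv.coe_coe, this, Submodule.liftQ_apply]
  rfl

/-- `Θ : B ⊗ Q → F/F₀` -/
noncomputable def theta : B ⊗[P.toExtension.Ring] relKer P →ₗ[P.toExtension.Ring] PQ P :=
  TensorProduct.lift (thetaAux P)

lemma theta_one_tmul (q : relKer P) : theta P ((1 : B) ⊗ₜ q) = qToPQ P q := by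
  unfold theta
  rw [TensorProduct.lift.tmul, ← map_one (algebraMap P.toExtension.Ring B), thetaAux_algebraMap,
    one_smul]

lemma theta_range_eq_zero (x : B ⊗[P.toExtension.Ring] relKer P)
    (hx : x ∈ LinearMap.range ((trivRelKer P).subtype.baseChange B)) : theta P x = 0 := by
  obtain ⟨y, rfl⟩ := hx
  induction y using TensorProduct.induction_on with
  | zero => simp
  | add x y hx hy => rw [map_add, map_add, hx, hy, add_zero]
  | tmul b k =>
    obtain ⟨r, rfl⟩ := P.toExtension.algebraMap_surjective b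
    rw [LinearMap.baseChange_tmul]
    unfold theta
    rw [TensorProduct.lift.tmul, thetaAux_algebraMap, Submodule.subtype_apply, qToPQ_apply]
    have hk : ((k : relKer P) : relMod P) ∈ trivRel P := k.2
    rw [(PQ.mk_eq_zero_iff P _).2 hk, smul_zero]

lemma mem_trivRel_of_kappa_eq_zero (q : relKer P) (h : kappa P q = 0) :
    (q : relMod P) ∈ trivRel P := by
  unfold kappa at h
  rw [Submodule.Quotient.mk_eq_zero] at h
  have h1 := theta_range_eq_zero P _ h
  rw [theta_one_tmul, qToPQ_apply, PQ.mk_eq_zero_iff] at h1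
  exact h1

lemma kappa_eq_zero_iff (q : relKer P) : kappa P q = 0 ↔ (q : relMod P) ∈ trivRel P :=
  ⟨mem_trivRel_of_kappa_eq_zero P q, kappa_eq_zero_of_mem P q⟩

end Kappa

section KappaMap
variable {A : Type u} {B : Type v} {ι : Type w} {σ : Type t}
variable {A' : Type u'} {B' : Type v'} {ι' : Type w'} {σ' : Type t'}
variable [CommRing A] [CommRing B] [Algebra A B] [CommRing A'] [CommRing B'] [Algebra A' B']
variable [Algebra A A'] [Algebra B B'] [Algebra A B'] [IsScalarTower A A' B'] [IsScalarTower A B B']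
variable {P : Algebra.Presentation A B ι σ} {P' : Algebra.Presentation A' B' ι' σ'}
variable (h : PresHom P P')

lemma L2map_kappa (q : relKer P) : h.L2map (kappa P q) = kappa P' (h.relKerMap q) := by
  change (Submodule.Quotient.mk (algebraMap B B' 1 ⊗ₜ h.relKerMap q) : L2 P') = _
  rw [map_one]
  rfl

end KappaMap

section Adapted

variable {A : Type u} {B : Type v} {C : Type u'} [CommRing A] [CommRing B] [CommRing C]
  [Algebra A B] [Algebra B C] [Algebra A C] [IsScalarTower A B C]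
variable {ι₁ : Type w} {σ₁ : Type t} {ι₂ : Type w'} {σ₂ : Type t'}
variable (P₁ : Algebra.Presentation A B ι₁ σ₁) (P₂ : Algebra.Presentation B C ι₂ σ₂)

/-- the morphism `P₁ → P₂ ∘ P₁` over `A = A`, `B → C` -/
noncomputable def homA : PresHom P₁ (P₂.comp P₁) where
  hom := P₂.toGenerators.toComp P₁.toGenerators
  relVal s := Finsupp.single (Sum.inr s) 1
  jmap_relVal s := by
    rw [jmap_single, one_mul]
    change MvPolynomial.rename Sum.inr (P₁.relation s) =
      (P₂.toGenerators.toComp P₁.toGenerators).toAlgHom (P₁.relation s)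
    rw [Algebra.Generators.toComp_toAlgHom]

/-- the morphism `P₂ ∘ P₁ → P₂` over `A → B`, `C = C` -/
noncomputable def homB : PresHom (P₂.comp P₁) P₂ where
  hom := P₂.toGenerators.ofComp P₁.toGenerators
  relVal := Sum.elim (fun s => Finsupp.single s 1) (fun _ => 0)
  jmap_relVal s := by
    cases s with
    | inl s₂ =>
      rw [Sum.elim_inl, jmap_single, one_mul]
      exact (P₂.comp_aeval_relation_inl P₁ s₂).symm
    | inr s₁ =>
      rw [Sum.elim_inr, map_zero]
      change 0 = (P₂.toGenerators.ofComp P₁.toGenerators).toAlgHom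
        (MvPolynomial.rename Sum.inr (P₁.relation s₁))
      rw [Algebra.Generators.toAlgHom_ofComp_rename]
      have : algebraMap P₁.toGenerators.Ring B (P₁.relation s₁) = 0 := algebraMap_rel P₁ s₁
      rw [this, map_zero]

lemma homA_L1map_basis (s : σ₁) :
    (homA P₁ P₂).L1map (L1basis P₁ s) = L1basis (P₂.comp P₁) (Sum.inr s) := by
  rw [L1basis_apply, L1basis_apply, PresHom.L1map_tmul, PresHom.relModMap_single, map_one, map_one,
    one_smul]
  rfl

lemma homB_L1map_basis_inl (s : σ₂) :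
    (homB P₁ P₂).L1map (L1basis (P₂.comp P₁) (Sum.inl s)) = L1basis P₂ s := by
  rw [L1basis_apply, L1basis_apply, PresHom.L1map_tmul, PresHom.relModMap_single, map_one, map_one,
    one_smul]
  rfl

lemma homB_L1map_basis_inr (s : σ₁) :
    (homB P₁ P₂).L1map (L1basis (P₂.comp P₁) (Sum.inr s)) = 0 := by
  rw [L1basis_apply, PresHom.L1map_tmul, PresHom.relModMap_single, map_one, map_one, one_smul]
  change (1 : C) ⊗ₜ[P₂.toExtension.Ring] (0 : relMod P₂) = 0
  rw [TensorProduct.tmul_zero]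

attribute [local instance] SMulCommClass.of_commMonoid in
lemma homA_L0map_basis (i : ι₁) :
    (homA P₁ P₂).L0map (P₁.cotangentSpaceBasis i) = (P₂.comp P₁).cotangentSpaceBasis (Sum.inr i) := by
  rw [PresHom.L0map_apply, Algebra.Generators.cotangentSpaceBasis_apply,
    Algebra.Generators.cotangentSpaceBasis_apply]
  erw [Algebra.Extension.CotangentSpace.map_tmul]
  rw [map_one]
  have hX : (homA P₁ P₂).hom.toExtensionHom.toAlgHom (MvPolynomial.X i : MvPolynomial ι₁ A) =
      (MvPolynomial.X (Sum.inr i) : MvPolynomial (ι₂ ⊕ ι₁) A) := by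
    change (P₂.toGenerators.toComp P₁.toGenerators).toAlgHom (MvPolynomial.X i) = _
    rw [Algebra.Generators.Hom.toAlgHom_X]
    rfl
  rw [hX]
  rfl

attribute [local instance] SMulCommClass.of_commMonoid in
lemma homB_L0map_basis_inl (i : ι₂) :
    (homB P₁ P₂).L0map ((P₂.comp P₁).cotangentSpaceBasis (Sum.inl i)) = P₂.cotangentSpaceBasis i := by
  rw [PresHom.L0map_apply, Algebra.Generators.cotangentSpaceBasis_apply,
    Algebra.Generators.cotangentSpaceBasis_apply]
  erw [Algebra.Extension.CotangentSpace.map_tmul]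
  rw [map_one]
  have hX : (homB P₁ P₂).hom.toExtensionHom.toAlgHom
      (MvPolynomial.X (Sum.inl i) : MvPolynomial (ι₂ ⊕ ι₁) A) =
      (MvPolynomial.X i : MvPolynomial ι₂ B) := by
    change (P₂.toGenerators.ofComp P₁.toGenerators).toAlgHom (MvPolynomial.X (Sum.inl i)) = _
    rw [Algebra.Generators.Hom.toAlgHom_X]
    rfl
  rw [hX]
  rfl

attribute [local instance] SMulCommClass.of_commMonoid in
lemma homB_L0map_basis_inr (i : ι₁) :
    (homB P₁ P₂).L0map ((P₂.comp P₁).cotangentSpaceBasis (Sum.inr i)) = 0 := by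
  rw [PresHom.L0map_apply, Algebra.Generators.cotangentSpaceBasis_apply]
  erw [Algebra.Extension.CotangentSpace.map_tmul]
  rw [map_one]
  have : (homB P₁ P₂).hom.toExtensionHom.toAlgHom
      (MvPolynomial.X (Sum.inr i) : MvPolynomial (ι₂ ⊕ ι₁) A) =
      algebraMap B P₂.toExtension.Ring (P₁.val i) := by
    change (P₂.toGenerators.ofComp P₁.toGenerators).toAlgHom (MvPolynomial.X (Sum.inr i)) = _
    rw [Algebra.Generators.Hom.toAlgHom_X]
    rfl
  rw [this, Derivation.map_algebraMap, TensorProduct.tmul_zero]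

end Adapted

section Free

variable {S₁ : Type*} {S : Type*} [CommRing S₁] [CommRing S] [Algebra S₁ S]
  {L₁ L₃ L₂ M : Type*} [AddCommGroup L₁] [Module S₁ L₁] [AddCommGroup L₃] [Module S L₃]
  [AddCommGroup L₂] [Module S L₂] [AddCommGroup M] [Module S M] [Module S₁ M] [IsScalarTower S₁ S M]
  {κ₁ κ₂ : Type*} (e₁ : Module.Basis κ₁ S₁ L₁) (e₃ : Module.Basis (κ₂ ⊕ κ₁) S L₃)
  (e₂ : Module.Basis κ₂ S L₂)
  (α : L₁ → L₃) (β : L₃ → L₂)

include e₃ in
lemma free_inj (hβl : ∀ s, β (e₃ (Sum.inl s)) = e₂ s) (ψ : L₂ →ₗ[S] M) (h : ∀ x, ψ (β x) = 0) :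
    ψ = 0 :=
  e₂.ext fun s => by rw [← hβl s, h]; rfl

lemma free_ex (hβadd : ∀ x y, β (x + y) = β x + β y) (hβsmul : ∀ (c : S) x, β (c • x) = c • β x)
    (hβl : ∀ s, β (e₃ (Sum.inl s)) = e₂ s) (hβr : ∀ s, β (e₃ (Sum.inr s)) = 0)
    (φ : L₃ →ₗ[S] M) (h : ∀ s, φ (e₃ (Sum.inr s)) = 0) :
    ∃ ψ : L₂ →ₗ[S] M, ∀ x, ψ (β x) = φ x := by
  let β' : L₃ →ₗ[S] L₂ := { toFun := β, map_add' := hβadd, map_smul' := hβsmul }
  refine ⟨e₂.constr S (fun s => φ (e₃ (Sum.inl s))), fun x => ?_⟩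
  change ((e₂.constr S (fun s => φ (e₃ (Sum.inl s)))) ∘ₗ β') x = φ x
  congr 1
  refine e₃.ext fun t => ?_
  cases t with
  | inl s =>
    change (e₂.constr S (fun s => φ (e₃ (Sum.inl s)))) (β (e₃ (Sum.inl s))) = _
    rw [hβl, Module.Basis.constr_basis]
  | inr s =>
    change (e₂.constr S (fun s => φ (e₃ (Sum.inl s)))) (β (e₃ (Sum.inr s))) = _
    rw [hβr, map_zero, h]

lemma free_surj (hαadd : ∀ x y, α (x + y) = α x + α y)
    (hαsmul : ∀ (c : S₁) x, α (c • x) = algebraMap S₁ S c • α x)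
    (hα : ∀ s, α (e₁ s) = e₃ (Sum.inr s)) (χ : L₁ →ₗ[S₁] M) :
    ∃ φ : L₃ →ₗ[S] M, ∀ x, φ (α x) = χ x := by
  let φ : L₃ →ₗ[S] M := e₃.constr S (Sum.elim (fun _ => 0) (fun s => χ (e₁ s)))
  let γ : L₁ →ₗ[S₁] M :=
    { toFun := fun x => φ (α x)
      map_add' := fun x y => by rw [hαadd, map_add]
      map_smul' := fun c x => by
        rw [hαsmul, map_smul, RingHom.id_apply, IsScalarTower.algebraMap_smul] }
  refine ⟨φ, fun x => ?_⟩
  change γ x = χ x
  congr 1
  refine e₁.ext fun s => ?_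
  change φ (α (e₁ s)) = _
  rw [hα, Module.Basis.constr_basis, Sum.elim_inr]

end Free
section Coeff
open MvPolynomial
variable {A : Type*} [CommRing A] {ι₂ ι₁ : Type*}

/-- the coefficient of `y^m`, as an additive map `A[y,x] → A[x]` -/
noncomputable def piM (m : ι₂ →₀ ℕ) : MvPolynomial (ι₂ ⊕ ι₁) A →+ MvPolynomial ι₁ A where
  toFun c := coeff m (sumAlgEquiv A ι₂ ι₁ c)
  map_zero' := by rw [map_zero, coeff_zero]
  map_add' x y := by rw [map_add, coeff_add]

lemma piM_apply (m : ι₂ →₀ ℕ) (c : MvPolynomial (ι₂ ⊕ ι₁) A) :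
    piM m c = coeff m (sumAlgEquiv A ι₂ ι₁ c) := rfl

/-- the monomial `y^m` in `A[y,x]` -/
noncomputable def yM (m : ι₂ →₀ ℕ) : MvPolynomial (ι₂ ⊕ ι₁) A :=
  (sumAlgEquiv A ι₂ ι₁).symm (monomial m 1)

lemma sumAlgEquiv_rename_inr (r : MvPolynomial ι₁ A) :
    sumAlgEquiv A ι₂ ι₁ (rename Sum.inr r) = C r := by
  have := DFunLike.congr_fun (sumAlgEquiv_comp_rename_inr (R := A) (S₁ := ι₂) (S₂ := ι₁)) r
  simpa using this

lemma piM_mul_rename (m : ι₂ →₀ ℕ) (c : MvPolynomial (ι₂ ⊕ ι₁) A) (r : MvPolynomial ι₁ A) :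
    piM m (c * rename Sum.inr r) = piM m c * r := by
  rw [piM_apply, piM_apply, map_mul, sumAlgEquiv_rename_inr, mul_comm, coeff_C_mul, mul_comm]

lemma sum_yM (c : MvPolynomial (ι₂ ⊕ ι₁) A) (S : Finset (ι₂ →₀ ℕ))
    (hS : (sumAlgEquiv A ι₂ ι₁ c).support ⊆ S) :
    c = ∑ m ∈ S, yM m * rename Sum.inr (piM m c) := by
  apply (sumAlgEquiv A ι₂ ι₁).injective
  rw [map_sum]
  have h1 : ∀ m ∈ S, sumAlgEquiv A ι₂ ι₁ (yM m * rename Sum.inr (piM m c)) =
      monomial m (coeff m (sumAlgEquiv A ι₂ ι₁ c)) := by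
    intro m _
    rw [map_mul, sumAlgEquiv_rename_inr, yM, AlgEquiv.apply_symm_apply, mul_comm, C_mul_monomial,
      mul_one, piM_apply]
  rw [Finset.sum_congr rfl h1]
  conv_lhs => rw [as_sum (sumAlgEquiv A ι₂ ι₁ c)]
  refine Finset.sum_subset hS fun m _ hm => ?_
  rw [notMem_support_iff.mp hm, monomial_zero]

end Coeff
section E2

variable {A : Type u} {B : Type v} {C : Type u'} [CommRing A] [CommRing B] [CommRing C]
  [Algebra A B] [Algebra B C] [Algebra A C] [IsScalarTower A B C]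
variable {ι₁ : Type w} {σ₁ : Type t} {ι₂ : Type w'} {σ₂ : Type t'}
variable (P₁ : Algebra.Presentation A B ι₁ σ₁) (P₂ : Algebra.Presentation B C ι₂ σ₂)

lemma homB_ringHom_surjective : Function.Surjective (homB P₁ P₂).ringHom :=
  Algebra.Generators.toAlgHom_ofComp_surjective P₂.toGenerators P₁.toGenerators

lemma homA_ringHom_apply (r : P₁.toExtension.Ring) :
    (homA P₁ P₂).ringHom r = MvPolynomial.rename Sum.inr (show MvPolynomial ι₁ A from r) := by
  change (P₂.toGenerators.toComp P₁.toGenerators).toAlgHom r = _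
  rw [Algebra.Generators.toComp_toAlgHom]

/-- the kernel of `A[y,x] → B[y]` consists of the combinations of the `rel (inr s)` -/
lemma exists_of_homB_ringHom_eq_zero (r : (P₂.comp P₁).toExtension.Ring)
    (hr : (homB P₁ P₂).ringHom r = 0) :
    ∃ c : σ₁ →₀ (P₂.comp P₁).toExtension.Ring, jmap (P₂.comp P₁) (c.mapDomain Sum.inr) = r := by
  have h1 : r ∈ RingHom.ker (P₂.toGenerators.ofComp P₁.toGenerators).toAlgHom := hr
  rw [← Algebra.Generators.map_toComp_ker] at h1
  have h2 : P₁.toGenerators.ker = Ideal.span (Set.range P₁.relation) :=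
    P₁.span_range_relation_eq_ker.symm
  rw [h2, Ideal.map_span, ← Set.range_comp] at h1
  have hset : (⇑(P₂.toGenerators.toComp P₁.toGenerators).toAlgHom ∘ P₁.relation) =
      fun s : σ₁ => (MvPolynomial.rename Sum.inr (P₁.relation s) : MvPolynomial (ι₂ ⊕ ι₁) A) := by
    funext s
    rw [Function.comp_apply, Algebra.Generators.toComp_toAlgHom]
  rw [hset] at h1
  have h3 : (show MvPolynomial (ι₂ ⊕ ι₁) A from r) ∈ Ideal.span (Set.range
      (fun s : σ₁ => (MvPolynomial.rename Sum.inr (P₁.relation s) : MvPolynomial (ι₂ ⊕ ι₁) A))) := h1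
  obtain ⟨c, hc⟩ := Finsupp.mem_span_range_iff_exists_finsupp.1 h3
  refine ⟨c, ?_⟩
  rw [jmap, Finsupp.linearCombination_mapDomain, Finsupp.linearCombination_apply]
  exact hc

lemma homB_relModMap_mapDomain_inr (c : σ₁ →₀ (P₂.comp P₁).toExtension.Ring) :
    (homB P₁ P₂).relModMap (c.mapDomain Sum.inr) = 0 := by
  induction c using Finsupp.induction_linear with
  | zero => simp
  | add f g hf hg => rw [Finsupp.mapDomain_add, map_add, hf, hg, add_zero]
  | single s r =>
    rw [Finsupp.mapDomain_single, PresHom.relModMap_single]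
    change _ • (0 : relMod P₂) = 0
    rw [smul_zero]

lemma homB_relModMap_single_inl (s : σ₂) (r : (P₂.comp P₁).toExtension.Ring) :
    (homB P₁ P₂).relModMap (Finsupp.single (Sum.inl s) r) =
      Finsupp.single s ((homB P₁ P₂).ringHom r) := by
  rw [PresHom.relModMap_single]
  change _ • Finsupp.single s (1 : P₂.toExtension.Ring) = _
  rw [Finsupp.smul_single, smul_eq_mul, mul_one]

lemma homB_relModMap_surjective : Function.Surjective (homB P₁ P₂).relModMap := by
  intro f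
  induction f using Finsupp.induction_linear with
  | zero => exact ⟨0, map_zero _⟩
  | add f g hf hg =>
    obtain ⟨f', rfl⟩ := hf
    obtain ⟨g', rfl⟩ := hg
    exact ⟨f' + g', map_add _ _ _⟩
  | single s r =>
    obtain ⟨r', rfl⟩ := homB_ringHom_surjective P₁ P₂ r
    exact ⟨Finsupp.single (Sum.inl s) r', homB_relModMap_single_inl P₁ P₂ s r'⟩

/-- (R2a): `Q₃ → Q₂` is surjective -/
lemma homB_relKerMap_surjective : Function.Surjective (homB P₁ P₂).relKerMap := by
  intro q₂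
  obtain ⟨f₃, hf₃⟩ := homB_relModMap_surjective P₁ P₂ (q₂ : relMod P₂)
  have h1 : (homB P₁ P₂).ringHom (jmap (P₂.comp P₁) f₃) = 0 := by
    rw [← PresHom.jmap_relModMap, hf₃]
    exact q₂.2
  obtain ⟨c, hc⟩ := exists_of_homB_ringHom_eq_zero P₁ P₂ _ h1
  have hq : f₃ - c.mapDomain Sum.inr ∈ relKer (P₂.comp P₁) := by
    change jmap (P₂.comp P₁) (f₃ - c.mapDomain Sum.inr) = 0
    rw [map_sub, hc, sub_self]
  refine ⟨⟨_, hq⟩, Subtype.ext ?_⟩
  rw [PresHom.relKerMap_coe]
  change (homB P₁ P₂).relModMap (f₃ - c.mapDomain Sum.inr) = _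
  rw [map_sub, homB_relModMap_mapDomain_inr, sub_zero, hf₃]

lemma homB_L2map_surjective : Function.Surjective (homB P₁ P₂).L2map := by
  intro z
  obtain ⟨q₂, rfl⟩ := kappa_surjective P₂ z
  obtain ⟨q₃, rfl⟩ := homB_relKerMap_surjective P₁ P₂ q₂
  exact ⟨kappa _ q₃, L2map_kappa _ q₃⟩

/-- trivial relations lift along `F₃ → F₂` -/
lemma exists_trivRel_lift (t₂ : relMod P₂) (ht : t₂ ∈ trivRel P₂) :
    ∃ t₃ ∈ trivRel (P₂.comp P₁), (homB P₁ P₂).relModMap t₃ = t₂ := by
  induction ht using Submodule.span_induction with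
  | mem x hx =>
    obtain ⟨a, b, rfl⟩ := hx
    obtain ⟨a', rfl⟩ := homB_relModMap_surjective P₁ P₂ a
    obtain ⟨b', rfl⟩ := homB_relModMap_surjective P₁ P₂ b
    refine ⟨jmap _ a' • b' - jmap _ b' • a', Submodule.subset_span ⟨a', b', rfl⟩, ?_⟩
    rw [map_sub, LinearMap.map_smulₛₗ, LinearMap.map_smulₛₗ, PresHom.jmap_relModMap,
      PresHom.jmap_relModMap]
  | zero => exact ⟨0, Submodule.zero_mem _, map_zero _⟩
  | add x y _ _ hx hy =>
    obtain ⟨x', hx', rfl⟩ := hx
    obtain ⟨y', hy', rfl⟩ := hy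
    exact ⟨x' + y', Submodule.add_mem _ hx' hy', map_add _ _ _⟩
  | smul r x _ hx =>
    obtain ⟨x', hx', rfl⟩ := hx
    obtain ⟨r', rfl⟩ := homB_ringHom_surjective P₁ P₂ r
    exact ⟨r' • x', Submodule.smul_mem _ _ hx', LinearMap.map_smulₛₗ _ _ _⟩

end E2
section E2b

variable {A : Type u} {B : Type v} {C : Type u'} [CommRing A] [CommRing B] [CommRing C]
  [Algebra A B] [Algebra B C] [Algebra A C] [IsScalarTower A B C]
variable {ι₁ : Type w} {σ₁ : Type t} {ι₂ : Type w'} {σ₂ : Type t'}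
variable (P₁ : Algebra.Presentation A B ι₁ σ₁) (P₂ : Algebra.Presentation B C ι₂ σ₂)

lemma single_inl_sub_mem_trivRel (a : σ₂) (c : σ₁ →₀ (P₂.comp P₁).toExtension.Ring) :
    Finsupp.single (Sum.inl a) (jmap (P₂.comp P₁) (c.mapDomain Sum.inr)) -
      (rel (P₂.comp P₁) (Sum.inl a) • c).mapDomain Sum.inr ∈ trivRel (P₂.comp P₁) := by
  refine Submodule.subset_span ⟨c.mapDomain Sum.inr, Finsupp.single (Sum.inl a) 1, ?_⟩
  rw [jmap_single, one_mul, Finsupp.smul_single, smul_eq_mul, mul_one, Finsupp.mapDomain_smul]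

lemma exists_inr_of_inl (gl : σ₂ →₀ (P₂.comp P₁).toExtension.Ring)
    (h : ∀ s, (homB P₁ P₂).ringHom (gl s) = 0) :
    ∃ d : σ₁ →₀ (P₂.comp P₁).toExtension.Ring,
      gl.mapDomain Sum.inl - d.mapDomain Sum.inr ∈ trivRel (P₂.comp P₁) := by
  induction gl using Finsupp.induction with
  | zero => exact ⟨0, by simp⟩
  | single_add a r f haf hr ih =>
    have hfa : f a = 0 := Finsupp.notMem_support_iff.mp haf
    have h1 : (homB P₁ P₂).ringHom r = 0 := by
      have := h a
      rwa [Finsupp.add_apply, Finsupp.single_eq_same, hfa, add_zero] at this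
    have h2 : ∀ s, (homB P₁ P₂).ringHom (f s) = 0 := by
      intro s
      by_cases hs : s = a
      · rw [hs, hfa, map_zero]
      · have := h s
        rwa [Finsupp.add_apply, Finsupp.single_eq_of_ne hs, zero_add] at this
    obtain ⟨d, hd⟩ := ih h2
    obtain ⟨c, hc⟩ := exists_of_homB_ringHom_eq_zero P₁ P₂ r h1
    refine ⟨rel (P₂.comp P₁) (Sum.inl a) • c + d, ?_⟩
    have h3 := single_inl_sub_mem_trivRel P₁ P₂ a c
    rw [hc] at h3
    have : (Finsupp.single a r + f).mapDomain Sum.inl -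
        (rel (P₂.comp P₁) (Sum.inl a) • c + d).mapDomain Sum.inr =
        (Finsupp.single (Sum.inl a) r - (rel (P₂.comp P₁) (Sum.inl a) • c).mapDomain Sum.inr) +
        (f.mapDomain Sum.inl - d.mapDomain Sum.inr) := by
      rw [Finsupp.mapDomain_add, Finsupp.mapDomain_add, Finsupp.mapDomain_single]
      abel
    rw [this]
    exact Submodule.add_mem _ h3 hd

lemma homB_relModMap_mapDomain_inl (gl : σ₂ →₀ (P₂.comp P₁).toExtension.Ring) (s : σ₂) :
    ((homB P₁ P₂).relModMap (gl.mapDomain Sum.inl)) s = (homB P₁ P₂).ringHom (gl s) := by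
  induction gl using Finsupp.induction_linear with
  | zero => simp
  | add f g hf hg =>
    rw [Finsupp.mapDomain_add, map_add, Finsupp.add_apply, hf, hg, Finsupp.add_apply, map_add]
  | single a r =>
    classical
    rw [Finsupp.mapDomain_single, homB_relModMap_single_inl, Finsupp.single_apply,
      Finsupp.single_apply]
    split_ifs
    · rfl
    · rw [map_zero]

lemma sum_decomp (f : σ₂ ⊕ σ₁ →₀ (P₂.comp P₁).toExtension.Ring) :
    f = (f.comapDomain Sum.inl Sum.inl_injective.injOn).mapDomain Sum.inl +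
      (f.comapDomain Sum.inr Sum.inr_injective.injOn).mapDomain Sum.inr := by
  ext t
  cases t with
  | inl s =>
    rw [Finsupp.add_apply, Finsupp.mapDomain_apply Sum.inl_injective,
      Finsupp.mapDomain_of_notMem_range _ _ (by simp), add_zero, Finsupp.comapDomain_apply]
  | inr s =>
    rw [Finsupp.add_apply, Finsupp.mapDomain_apply Sum.inr_injective,
      Finsupp.mapDomain_of_notMem_range _ _ (by simp), zero_add, Finsupp.comapDomain_apply]

/-- Claim A -/
lemma exists_inr_of_relModMap_eq_zero (f : relMod (P₂.comp P₁))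
    (hf : (homB P₁ P₂).relModMap f = 0) :
    ∃ d : σ₁ →₀ (P₂.comp P₁).toExtension.Ring,
      f - d.mapDomain Sum.inr ∈ trivRel (P₂.comp P₁) := by
  have hdec := sum_decomp P₁ P₂ f
  set gl := f.comapDomain Sum.inl Sum.inl_injective.injOn with hgl
  set gr := f.comapDomain Sum.inr Sum.inr_injective.injOn with hgr
  have h1 : ∀ s, (homB P₁ P₂).ringHom (gl s) = 0 := by
    intro s
    rw [← homB_relModMap_mapDomain_inl]
    have : (homB P₁ P₂).relModMap (gl.mapDomain Sum.inl) = 0 := by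
      have h2 := hf
      rw [hdec, map_add, homB_relModMap_mapDomain_inr, add_zero] at h2
      exact h2
    rw [this]
    rfl
  obtain ⟨d, hd⟩ := exists_inr_of_inl P₁ P₂ gl h1
  refine ⟨d + gr, ?_⟩
  have : f - (d + gr).mapDomain Sum.inr = gl.mapDomain Sum.inl - d.mapDomain Sum.inr := by
    conv_lhs => rw [hdec]
    rw [Finsupp.mapDomain_add]
    abel
  rw [this]
  exact hd

end E2b
section E2c

variable {A : Type u} {B : Type v} {C : Type u'} [CommRing A] [CommRing B] [CommRing C]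
  [Algebra A B] [Algebra B C] [Algebra A C] [IsScalarTower A B C]
variable {ι₁ : Type w} {σ₁ : Type t} {ι₂ : Type w'} {σ₂ : Type t'}
variable (P₁ : Algebra.Presentation A B ι₁ σ₁) (P₂ : Algebra.Presentation B C ι₂ σ₂)

lemma homA_relModMap_apply_inr (q : relMod P₁) (s : σ₁) :
    ((homA P₁ P₂).relModMap q) (Sum.inr s) = (homA P₁ P₂).ringHom (q s) := by
  classical
  induction q using Finsupp.induction_linear with
  | zero => simp
  | add f g hf hg => rw [map_add, Finsupp.add_apply, hf, hg, Finsupp.add_apply, map_add]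
  | single a r =>
    rw [PresHom.relModMap_single]
    change ((homA P₁ P₂).ringHom r • Finsupp.single (Sum.inr a) (1 : (P₂.comp P₁).toExtension.Ring))
      (Sum.inr s) = _
    rw [Finsupp.smul_single, smul_eq_mul, mul_one, Finsupp.single_apply, Finsupp.single_apply]
    by_cases h : a = s
    · rw [if_pos h, if_pos (by rw [h])]
    · rw [if_neg h, if_neg (fun h' => h (Sum.inr_injective h')), map_zero]

lemma homA_relModMap_apply_inl (q : relMod P₁) (s : σ₂) :
    ((homA P₁ P₂).relModMap q) (Sum.inl s) = 0 := by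
  classical
  induction q using Finsupp.induction_linear with
  | zero => simp
  | add f g hf hg => rw [map_add, Finsupp.add_apply, hf, hg, add_zero]
  | single a r =>
    rw [PresHom.relModMap_single]
    change ((homA P₁ P₂).ringHom r • Finsupp.single (Sum.inr a) (1 : (P₂.comp P₁).toExtension.Ring))
      (Sum.inl s) = _
    rw [Finsupp.smul_single, Finsupp.single_apply, if_neg (by simp)]

/-- `piM` with the types of the presentations -/
noncomputable def piR (m : ι₂ →₀ ℕ) : (P₂.comp P₁).toExtension.Ring →+ P₁.toExtension.Ring :=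
  piM (A := A) (ι₂ := ι₂) (ι₁ := ι₁) m

lemma piR_mul (m : ι₂ →₀ ℕ) (c : (P₂.comp P₁).toExtension.Ring) (s : σ₁) :
    piR P₁ P₂ m (c * rel (P₂.comp P₁) (Sum.inr s)) = piR P₁ P₂ m c * rel P₁ s :=
  piM_mul_rename m c (P₁.relation s)

/-- the `y^m`-coefficient of a relation supported on the `inr` part -/
noncomputable def coeffRel (m : ι₂ →₀ ℕ) (d : σ₁ →₀ (P₂.comp P₁).toExtension.Ring) : relMod P₁ :=
  Finsupp.mapRange (piR P₁ P₂ m) (map_zero _) d

lemma coeffRel_apply (m : ι₂ →₀ ℕ) (d : σ₁ →₀ (P₂.comp P₁).toExtension.Ring) (s : σ₁) :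
    coeffRel P₁ P₂ m d s = piR P₁ P₂ m (d s) := rfl

lemma jmap_coeffRel (m : ι₂ →₀ ℕ) (d : σ₁ →₀ (P₂.comp P₁).toExtension.Ring) :
    jmap P₁ (coeffRel P₁ P₂ m d) =
      piR P₁ P₂ m (jmap (P₂.comp P₁) (d.mapDomain Sum.inr)) := by
  induction d using Finsupp.induction_linear with
  | zero =>
    rw [coeffRel, Finsupp.mapRange_zero, map_zero, Finsupp.mapDomain_zero, map_zero, map_zero]
  | add f g hf hg =>
    rw [coeffRel, Finsupp.mapRange_add (map_add _), map_add, Finsupp.mapDomain_add, map_add, map_add]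
    rw [coeffRel] at hf hg
    rw [hf, hg]
  | single s r =>
    rw [coeffRel, Finsupp.mapRange_single, jmap_single, Finsupp.mapDomain_single, jmap_single]
    exact (piR_mul P₁ P₂ m r s).symm

/-- `yM` with the types of the presentations -/
noncomputable def yR (m : ι₂ →₀ ℕ) : (P₂.comp P₁).toExtension.Ring :=
  yM (A := A) (ι₂ := ι₂) (ι₁ := ι₁) m

lemma mapDomain_inr_eq_sum (d : σ₁ →₀ (P₂.comp P₁).toExtension.Ring) (S : Finset (ι₂ →₀ ℕ))
    (hS : ∀ s, (MvPolynomial.sumAlgEquiv A ι₂ ι₁ (d s)).support ⊆ S) :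
    d.mapDomain Sum.inr =
      ∑ m ∈ S, yR P₁ P₂ m • (homA P₁ P₂).relModMap (coeffRel P₁ P₂ m d) := by
  ext t
  rw [Finsupp.finsetSum_apply]
  cases t with
  | inl s =>
    rw [Finsupp.mapDomain_of_notMem_range _ _ (by simp)]
    symm
    refine Finset.sum_eq_zero fun m _ => ?_
    rw [Finsupp.smul_apply, homA_relModMap_apply_inl, smul_zero]
  | inr s =>
    rw [Finsupp.mapDomain_apply Sum.inr_injective]
    have h1 := sum_yM (d s) S (hS s)
    conv_lhs => rw [h1]
    refine Finset.sum_congr rfl fun m _ => ?_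
    rw [Finsupp.smul_apply, homA_relModMap_apply_inr, smul_eq_mul, coeffRel_apply,
      homA_ringHom_apply]
    rfl

variable (M : Type m) [AddCommGroup M] [Module C M]

/-- (R2b'), the `inr` case -/
lemma phi_kappa_inr_eq_zero (φ : L2 (P₂.comp P₁) →ₗ[C] M)
    (hφ : ∀ z : L2 P₁, φ ((homA P₁ P₂).L2map z) = 0)
    (d : σ₁ →₀ (P₂.comp P₁).toExtension.Ring) (hd : d.mapDomain Sum.inr ∈ relKer (P₂.comp P₁)) :
    φ (kappa (P₂.comp P₁) ⟨d.mapDomain Sum.inr, hd⟩) = 0 := by
  classical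
  let S := d.support.biUnion (fun s => (MvPolynomial.sumAlgEquiv A ι₂ ι₁ (d s)).support)
  have hS : ∀ s, (MvPolynomial.sumAlgEquiv A ι₂ ι₁ (d s)).support ⊆ S := by
    intro s
    by_cases hs : s ∈ d.support
    · exact Finset.subset_biUnion_of_mem
        (fun s => (MvPolynomial.sumAlgEquiv A ι₂ ι₁ (d s)).support) hs
    · have h0 : MvPolynomial.sumAlgEquiv A ι₂ ι₁ (d s) = 0 := by
        rw [Finsupp.notMem_support_iff.mp hs]
        exact map_zero (MvPolynomial.sumAlgEquiv A ι₂ ι₁)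
      rw [h0, MvPolynomial.support_zero]
      exact Finset.empty_subset _
  have hq : ∀ m, coeffRel P₁ P₂ m d ∈ relKer P₁ := by
    intro m
    change jmap P₁ _ = 0
    rw [jmap_coeffRel, show jmap _ (d.mapDomain Sum.inr) = 0 from hd, map_zero]
  have hsum : (⟨d.mapDomain Sum.inr, hd⟩ : relKer (P₂.comp P₁)) =
      ∑ m ∈ S, yR P₁ P₂ m • (homA P₁ P₂).relKerMap ⟨coeffRel P₁ P₂ m d, hq m⟩ := by
    apply Subtype.ext
    rw [Submodule.coe_sum]
    exact mapDomain_inr_eq_sum P₁ P₂ d S hS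
  rw [hsum, kappa_sum, map_sum]
  refine Finset.sum_eq_zero fun m _ => ?_
  rw [kappa_smul, map_smul, ← L2map_kappa, hφ, smul_zero]

/-- (R2b) -/
lemma phi_eq_zero_of_L2map_eq_zero (φ : L2 (P₂.comp P₁) →ₗ[C] M)
    (hφ : ∀ z : L2 P₁, φ ((homA P₁ P₂).L2map z) = 0)
    (z : L2 (P₂.comp P₁)) (hz : (homB P₁ P₂).L2map z = 0) : φ z = 0 := by
  obtain ⟨q₃, rfl⟩ := kappa_surjective _ z
  rw [L2map_kappa, kappa_eq_zero_iff, PresHom.relKerMap_coe] at hz
  obtain ⟨t₃, ht₃, ht⟩ := exists_trivRel_lift P₁ P₂ _ hz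
  have h0 : (homB P₁ P₂).relModMap ((q₃ : relMod (P₂.comp P₁)) - t₃) = 0 := by
    rw [map_sub, ht, sub_self]
  obtain ⟨d, hd⟩ := exists_inr_of_relModMap_eq_zero P₁ P₂ _ h0
  have hmem : (q₃ : relMod (P₂.comp P₁)) - d.mapDomain Sum.inr ∈ trivRel (P₂.comp P₁) := by
    have : (q₃ : relMod (P₂.comp P₁)) - d.mapDomain Sum.inr =
        ((q₃ : relMod (P₂.comp P₁)) - t₃ - d.mapDomain Sum.inr) + t₃ := by abel
    rw [this]
    exact Submodule.add_mem _ hd ht₃
  have hD : d.mapDomain Sum.inr ∈ relKer (P₂.comp P₁) := by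
    have h1 := (relKer (P₂.comp P₁)).sub_mem q₃.2 (trivRel_le_relKer _ hmem)
    rwa [sub_sub_cancel] at h1
  have hk : kappa (P₂.comp P₁) q₃ = kappa (P₂.comp P₁) ⟨d.mapDomain Sum.inr, hD⟩ := by
    rw [← sub_eq_zero, ← kappa_sub, kappa_eq_zero_iff]
    exact hmem
  rw [hk]
  exact phi_kappa_inr_eq_zero P₁ P₂ M φ hφ d hD

/-- (ex₂): a map on `L₂(P₃)` killing the image of `L₂(P₁)` factors through `L₂(P₂)` -/
lemma exists_factor_L2 (φ : L2 (P₂.comp P₁) →ₗ[C] M)
    (hφ : ∀ z : L2 P₁, φ ((homA P₁ P₂).L2map z) = 0) :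
    ∃ ψ : L2 P₂ →ₗ[C] M, ∀ z, ψ ((homB P₁ P₂).L2map z) = φ z := by
  let β' : L2 (P₂.comp P₁) →ₗ[C] L2 P₂ :=
    { toFun := (homB P₁ P₂).L2map
      map_add' := (homB P₁ P₂).L2map.map_add
      map_smul' := fun c z => by
        rw [(homB P₁ P₂).L2map.map_smulₛₗ, RingHom.id_apply, Algebra.algebraMap_self_apply] }
  have hsurj : Function.Surjective β' := homB_L2map_surjective P₁ P₂
  have hker : LinearMap.ker β' ≤ LinearMap.ker φ := fun z hz =>
    phi_eq_zero_of_L2map_eq_zero P₁ P₂ M φ hφ z hz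
  let e := β'.quotKerEquivOfSurjective hsurj
  refine ⟨(Submodule.liftQ _ φ hker) ∘ₗ e.symm.toLinearMap, fun z => ?_⟩
  change Submodule.liftQ _ φ hker (e.symm (β' z)) = φ z
  have : e.symm (β' z) = Submodule.Quotient.mk z := by
    rw [LinearEquiv.symm_apply_eq]
    rfl
  rw [this, Submodule.liftQ_apply]

end E2c
section CohInst
variable {A : Type u} {B : Type v} {ι : Type w} {σ : Type t}
variable [CommRing A] [CommRing B] [Algebra A B]
variable (P : Algebra.Presentation A B ι σ) (M : Type m) [AddCommGroup M] [Module B M]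

/-- the cohomology data of the dual complex of a presentation -/
noncomputable def cohOf : Coh (d1Star P M).toAddMonoidHom (d2Star P M).toAddMonoidHom
    (T0 P M) (cocycles1 P M) (T1 P M) (T2 P M) where
  ι0 := (LinearMap.ker (d1Star P M)).subtype.toAddMonoidHom
  ι0_inj := Subtype.val_injective
  ι0_range x := ⟨fun hx => ⟨⟨x, hx⟩, rfl⟩, fun ⟨h, hh⟩ => hh ▸ h.2⟩
  ι1 := (cocycles1 P M).subtype.toAddMonoidHom
  ι1_inj := Subtype.val_injective
  ι1_range c := ⟨fun hc => ⟨⟨c, hc⟩, rfl⟩, fun ⟨z, hz⟩ => hz ▸ z.2⟩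
  q1 := (coboundaries1 P M).mkQ.toAddMonoidHom
  q1_surj := Submodule.mkQ_surjective _
  q1_ker z := by
    change Submodule.Quotient.mk z = 0 ↔ _
    rw [Submodule.Quotient.mk_eq_zero]
    rfl
  q2 := (LinearMap.range (d2Star P M)).mkQ.toAddMonoidHom
  q2_surj := Submodule.mkQ_surjective _
  q2_ker x := by
    change Submodule.Quotient.mk x = 0 ↔ _
    rw [Submodule.Quotient.mk_eq_zero]
    rfl

end CohInst

section AdaptedNine

variable {A : Type u} {B : Type v} {C : Type u'} [CommRing A] [CommRing B] [CommRing C]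
  [Algebra A B] [Algebra B C] [Algebra A C] [IsScalarTower A B C]
variable {ι₁ : Type w} {σ₁ : Type t} {ι₂ : Type w'} {σ₂ : Type t'}
variable (P₁ : Algebra.Presentation A B ι₁ σ₁) (P₂ : Algebra.Presentation B C ι₂ σ₂)
variable (M : Type m) [AddCommGroup M] [Module C M] [Module B M] [IsScalarTower B C M]

lemma homB_relModMap_homA (q : relMod P₁) :
    (homB P₁ P₂).relModMap ((homA P₁ P₂).relModMap q) = 0 := by
  induction q using Finsupp.induction_linear with
  | zero => simp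
  | add f g hf hg => rw [map_add, map_add, hf, hg, add_zero]
  | single s r =>
    rw [PresHom.relModMap_single, LinearMap.map_smulₛₗ]
    change _ • (homB P₁ P₂).relModMap (Finsupp.single (Sum.inr s) 1) = 0
    rw [PresHom.relModMap_single]
    change _ • (_ • (0 : relMod P₂)) = 0
    rw [smul_zero, smul_zero]

lemma homB_L2map_homA (z : L2 P₁) : (homB P₁ P₂).L2map ((homA P₁ P₂).L2map z) = 0 := by
  obtain ⟨q, rfl⟩ := kappa_surjective P₁ z
  rw [L2map_kappa, L2map_kappa, kappa_eq_zero_iff, PresHom.relKerMap_coe, PresHom.relKerMap_coe,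
    homB_relModMap_homA]
  exact Submodule.zero_mem _

lemma homB_L1map_homA (y : L1 P₁) : (homB P₁ P₂).L1map ((homA P₁ P₂).L1map y) = 0 := by
  induction y using TensorProduct.induction_on with
  | zero => simp
  | add x y hx hy => rw [map_add, map_add, hx, hy, add_zero]
  | tmul b f =>
    rw [PresHom.L1map_tmul, PresHom.L1map_tmul, homB_relModMap_homA, TensorProduct.tmul_zero]

lemma homB_L0map_homA (x : L0 P₁) : (homB P₁ P₂).L0map ((homA P₁ P₂).L0map x) = 0 := by
  have h : ∀ x : L0 P₁, x ∈ Submodule.span B (Set.range P₁.cotangentSpaceBasis) := fun x => by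
    rw [P₁.cotangentSpaceBasis.span_eq]; trivial
  refine Submodule.span_induction ?_ ?_ ?_ ?_ (h x)
  · rintro _ ⟨i, rfl⟩
    rw [homA_L0map_basis, homB_L0map_basis_inr]
  · simp
  · intro x y _ _ hx hy
    rw [map_add, map_add, hx, hy, add_zero]
  · intro b x _ hx
    rw [LinearMap.map_smulₛₗ, LinearMap.map_smulₛₗ, hx, smul_zero]

lemma homB_L2map_add (x y : L2 (P₂.comp P₁)) :
    (homB P₁ P₂).L2map (x + y) = (homB P₁ P₂).L2map x + (homB P₁ P₂).L2map y :=
  (homB P₁ P₂).L2map.map_add x y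

/-- the diagram of dual complexes of the adapted triple -/
lemma diagram_adapted : Diagram (d1Star P₂ M).toAddMonoidHom (d2Star P₂ M).toAddMonoidHom
    (d1Star (P₂.comp P₁) M).toAddMonoidHom (d2Star (P₂.comp P₁) M).toAddMonoidHom
    (d1Star P₁ M).toAddMonoidHom (d2Star P₁ M).toAddMonoidHom
    ((homB P₁ P₂).pull0 M).toAddMonoidHom ((homB P₁ P₂).pull1 M).toAddMonoidHom
    ((homB P₁ P₂).pull2 M).toAddMonoidHom
    ((homA P₁ P₂).pull0 M).toAddMonoidHom ((homA P₁ P₂).pull1 M).toAddMonoidHom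
    ((homA P₁ P₂).pull2 M).toAddMonoidHom where
  hc1 x := (homB P₁ P₂).pull1_d1Star M x
  hc2 x := (homB P₁ P₂).pull2_d2Star M x
  hc3 y := (homA P₁ P₂).pull1_d1Star M y
  hc4 y := (homA P₁ P₂).pull2_d2Star M y
  hX x := LinearMap.congr_fun (d2Star_comp_d1Star P₂ M) x
  hY x := LinearMap.congr_fun (d2Star_comp_d1Star (P₂.comp P₁) M) x
  hZ x := LinearMap.congr_fun (d2Star_comp_d1Star P₁ M) x
  hi0 := by
    refine (injective_iff_map_eq_zero _).2 fun ψ hψ => ?_
    refine free_inj (P₂.comp P₁).cotangentSpaceBasis P₂.cotangentSpaceBasis (homB P₁ P₂).L0map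
      (homB_L0map_basis_inl P₁ P₂) ψ fun x => ?_
    exact LinearMap.congr_fun hψ x
  hi1 := by
    refine (injective_iff_map_eq_zero _).2 fun ψ hψ => ?_
    refine free_inj (L1basis (P₂.comp P₁)) (L1basis P₂) (homB P₁ P₂).L1map
      (homB_L1map_basis_inl P₁ P₂) ψ fun x => ?_
    exact LinearMap.congr_fun hψ x
  hi2 := by
    refine (injective_iff_map_eq_zero _).2 fun ψ hψ => ?_
    refine LinearMap.ext fun z => ?_
    obtain ⟨z', rfl⟩ := homB_L2map_surjective P₁ P₂ z
    exact LinearMap.congr_fun hψ z'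
  he0 y := by
    constructor
    · intro hy
      obtain ⟨ψ, hψ⟩ := free_ex (P₂.comp P₁).cotangentSpaceBasis P₂.cotangentSpaceBasis
        (homB P₁ P₂).L0map (homB P₁ P₂).L0map.map_add
        (fun c x => by rw [(homB P₁ P₂).L0map.map_smulₛₗ, Algebra.algebraMap_self_apply])
        (homB_L0map_basis_inl P₁ P₂) (homB_L0map_basis_inr P₁ P₂) y (fun s => by
          rw [← homA_L0map_basis]
          exact LinearMap.congr_fun hy (P₁.cotangentSpaceBasis s))
      exact ⟨ψ, LinearMap.ext hψ⟩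
    · rintro ⟨x, rfl⟩
      refine LinearMap.ext fun v => ?_
      change x ((homB P₁ P₂).L0map ((homA P₁ P₂).L0map v)) = 0
      rw [homB_L0map_homA, map_zero]
  he1 y := by
    constructor
    · intro hy
      obtain ⟨ψ, hψ⟩ := free_ex (L1basis (P₂.comp P₁)) (L1basis P₂)
        (homB P₁ P₂).L1map (homB P₁ P₂).L1map.map_add
        (fun c x => by rw [(homB P₁ P₂).L1map.map_smulₛₗ, Algebra.algebraMap_self_apply])
        (homB_L1map_basis_inl P₁ P₂) (homB_L1map_basis_inr P₁ P₂) y (fun s => by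
          rw [← homA_L1map_basis]
          exact LinearMap.congr_fun hy (L1basis P₁ s))
      exact ⟨ψ, LinearMap.ext hψ⟩
    · rintro ⟨x, rfl⟩
      refine LinearMap.ext fun v => ?_
      change x ((homB P₁ P₂).L1map ((homA P₁ P₂).L1map v)) = 0
      rw [homB_L1map_homA, map_zero]
  he2 y := by
    constructor
    · intro hy
      obtain ⟨ψ, hψ⟩ := exists_factor_L2 P₁ P₂ M y (fun z => LinearMap.congr_fun hy z)
      exact ⟨ψ, LinearMap.ext hψ⟩
    · rintro ⟨x, rfl⟩
      refine LinearMap.ext fun v => ?_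
      change x ((homB P₁ P₂).L2map ((homA P₁ P₂).L2map v)) = 0
      rw [homB_L2map_homA, map_zero]
  hp0 χ := by
    obtain ⟨φ, hφ⟩ := free_surj P₁.cotangentSpaceBasis (P₂.comp P₁).cotangentSpaceBasis
      (homA P₁ P₂).L0map (homA P₁ P₂).L0map.map_add (homA P₁ P₂).L0map.map_smulₛₗ
      (homA_L0map_basis P₁ P₂) χ
    exact ⟨φ, LinearMap.ext hφ⟩
  hp1 χ := by
    obtain ⟨φ, hφ⟩ := free_surj (L1basis P₁) (L1basis (P₂.comp P₁))
      (homA P₁ P₂).L1map (homA P₁ P₂).L1map.map_add (homA P₁ P₂).L1map.map_smulₛₗ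
      (homA_L1map_basis P₁ P₂) χ
    exact ⟨φ, LinearMap.ext hφ⟩

/-- the conclusion of the nine-term sequence for morphisms `a : P₁ → P₃`, `b : P₃ → P₂` -/
def NineConclusion {ι₃ : Type*} {σ₃ : Type*} {P₁ : Algebra.Presentation A B ι₁ σ₁}
    {P₂ : Algebra.Presentation B C ι₂ σ₂} {P₃ : Algebra.Presentation A C ι₃ σ₃}
    (a : PresHom P₁ P₃) (b : PresHom P₃ P₂)
    (M : Type m) [AddCommGroup M] [Module C M] [Module B M] [IsScalarTower B C M] : Prop :=
  Function.Injective (b.T0pull M) ∧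
  Function.Exact (b.T0pull M) (a.T0pull M) ∧
  Function.Exact (b.T1pull M) (a.T1pull M) ∧
  Function.Exact (b.T2pull M) (a.T2pull M) ∧
  ∃ (δ₀ : T0 P₁ M →+ T1 P₂ M) (δ₁ : T1 P₁ M →+ T2 P₂ M),
    Function.Exact (a.T0pull M) δ₀ ∧ Function.Exact δ₀ (b.T1pull M) ∧
    Function.Exact (a.T1pull M) δ₁ ∧ Function.Exact δ₁ (b.T2pull M)

theorem nine_adapted : NineConclusion (homA P₁ P₂) (homB P₁ P₂) M := by
  have D := diagram_adapted P₁ P₂ M
  have a0 : ∀ h, (cohOf (P₂.comp P₁) M).ι0 ((homB P₁ P₂).T0pull M h) =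
      ((homB P₁ P₂).pull0 M).toAddMonoidHom ((cohOf P₂ M).ι0 h) := fun h => rfl
  have b0 : ∀ h, (cohOf P₁ M).ι0 ((homA P₁ P₂).T0pull M h) =
      ((homA P₁ P₂).pull0 M).toAddMonoidHom ((cohOf (P₂.comp P₁) M).ι0 h) := fun h => rfl
  have a1 : ∀ z z', (cohOf (P₂.comp P₁) M).ι1 z' =
      ((homB P₁ P₂).pull1 M).toAddMonoidHom ((cohOf P₂ M).ι1 z) →
      (homB P₁ P₂).T1pull M ((cohOf P₂ M).q1 z) = (cohOf (P₂.comp P₁) M).q1 z' := by
    intro z z' hz
    have : z' = (homB P₁ P₂).cocycles1Pull M z := Subtype.ext hz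
    rw [this]
    rfl
  have b1 : ∀ z z', (cohOf P₁ M).ι1 z' =
      ((homA P₁ P₂).pull1 M).toAddMonoidHom ((cohOf (P₂.comp P₁) M).ι1 z) →
      (homA P₁ P₂).T1pull M ((cohOf (P₂.comp P₁) M).q1 z) = (cohOf P₁ M).q1 z' := by
    intro z z' hz
    have : z' = (homA P₁ P₂).cocycles1Pull M z := Subtype.ext hz
    rw [this]
    rfl
  have a2 : ∀ x, (homB P₁ P₂).T2pull M ((cohOf P₂ M).q2 x) =
      (cohOf (P₂.comp P₁) M).q2 (((homB P₁ P₂).pull2 M).toAddMonoidHom x) := fun x => rfl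
  have b2 : ∀ y, (homA P₁ P₂).T2pull M ((cohOf (P₂.comp P₁) M).q2 y) =
      (cohOf P₁ M).q2 (((homA P₁ P₂).pull2 M).toAddMonoidHom y) := fun y => rfl
  refine ⟨alpha0_injective D (cohOf P₂ M) (cohOf (P₂.comp P₁) M) a0,
    exact_alpha0_beta0 D (cohOf P₂ M) (cohOf (P₂.comp P₁) M) (cohOf P₁ M) a0 b0,
    exact_alpha1_beta1 D (cohOf P₂ M) (cohOf (P₂.comp P₁) M) (cohOf P₁ M) a1 b1,
    exact_alpha2_beta2 D (cohOf P₂ M) (cohOf (P₂.comp P₁) M) (cohOf P₁ M) a2 b2,
    delta0 D (cohOf P₂ M) (cohOf P₁ M), delta1 D (cohOf P₂ M) (cohOf P₁ M),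
    exact_beta0_delta0 D (cohOf P₂ M) (cohOf (P₂.comp P₁) M) (cohOf P₁ M) b0,
    exact_delta0_alpha1 D (cohOf P₂ M) (cohOf (P₂.comp P₁) M) (cohOf P₁ M) a1,
    exact_beta1_delta1 D (cohOf P₂ M) (cohOf (P₂.comp P₁) M) (cohOf P₁ M) b1,
    exact_delta1_alpha2 D (cohOf P₂ M) (cohOf (P₂.comp P₁) M) (cohOf P₁ M) a2⟩

end AdaptedNine

section Transfer

lemma exact_transfer {X Y Y' Z : Type*} [Zero Z] {f : X → Y} {g : Y → Z} {f' : X → Y'}
    {g' : Y' → Z} (e : Y' → Y) (he : Function.Bijective e) (hf : ∀ x, e (f' x) = f x)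
    (hg : ∀ y', g (e y') = g' y') (h : Function.Exact f' g') : Function.Exact f g := by
  intro y
  obtain ⟨y', rfl⟩ := he.2 y
  rw [hg, h y']
  constructor
  · rintro ⟨x, rfl⟩
    exact ⟨x, (hf x).symm⟩
  · rintro ⟨x, hx⟩
    exact ⟨x, he.1 ((hf x).trans hx)⟩

lemma exact_transfer_left {X X' Y Z : Type*} [Zero Z] {f : X → Y} {g : Y → Z} {f' : X' → Y}
    (e : X' → X) (he : Function.Surjective e) (hf : ∀ x', f (e x') = f' x')
    (h : Function.Exact f' g) : Function.Exact f g := by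
  intro y
  rw [h y]
  constructor
  · rintro ⟨x', rfl⟩
    exact ⟨e x', hf x'⟩
  · rintro ⟨x, rfl⟩
    obtain ⟨x', rfl⟩ := he x
    exact ⟨x', (hf x').symm⟩

lemma exact_transfer_right {X Y Z Z' : Type*} [Zero Z] [Zero Z'] {f : X → Y} {g : Y → Z}
    {g' : Y → Z'} (e : Z' → Z) (he : Function.Injective e) (he0 : e 0 = 0)
    (hg : ∀ y, e (g' y) = g y) (h : Function.Exact f g') : Function.Exact f g := by
  intro y
  rw [← h y, ← hg]
  constructor
  · intro hy
    exact he (hy.trans he0.symm)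
  · intro hy
    rw [hy, he0]

variable {A : Type u} {B : Type v} {C : Type u'} [CommRing A] [CommRing B] [CommRing C]
  [Algebra A B] [Algebra B C] [Algebra A C] [IsScalarTower A B C]
variable {ι₁ : Type w} {σ₁ : Type t} {ι₂ : Type w'} {σ₂ : Type t'} {ι₃ : Type v'} {σ₃ : Type t''}
variable {P₁ : Algebra.Presentation A B ι₁ σ₁} {P₂ : Algebra.Presentation B C ι₂ σ₂}
  {P₃ : Algebra.Presentation A C ι₃ σ₃}
variable (a : PresHom P₁ P₃) (b : PresHom P₃ P₂)
variable (M : Type m) [AddCommGroup M] [Module C M] [Module B M] [IsScalarTower B C M]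

/-- The nine-term sequence for arbitrary presentations and arbitrary morphisms over the two squares. -/
theorem nine_general : NineConclusion a b M := by
  obtain ⟨c⟩ := exists_presHom P₃ (P₂.comp P₁)
  obtain ⟨inj0, ex0, ex1, ex2, δ₀, δ₁, e1, e2, e3, e4⟩ := nine_adapted P₁ P₂ M
  have hc0 := T0pull_bijective c M
  have hc1 := T1pull_bijective c M
  have hc2 := T2pull_bijective c M
  -- a ∘ c ≃ a°
  have ha0 : ∀ x, a.T0pull M (c.T0pull M x) = (homA P₁ P₂).T0pull M x := fun x => by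
    rw [← comp_T0pull c a M x, T0pull_eq (comp c a) (homA P₁ P₂) M]
  have ha1 : ∀ x, a.T1pull M (c.T1pull M x) = (homA P₁ P₂).T1pull M x := fun x => by
    rw [← comp_T1pull c a M x, T1pull_eq (comp c a) (homA P₁ P₂) M]
  have ha2 : ∀ x, a.T2pull M (c.T2pull M x) = (homA P₁ P₂).T2pull M x := fun x => by
    rw [← comp_T2pull c a M x, T2pull_eq (comp c a) (homA P₁ P₂) M]
  -- b° ∘ c ≃ b
  have hb0 : ∀ x, c.T0pull M ((homB P₁ P₂).T0pull M x) = b.T0pull M x := fun x => by
    rw [← comp_T0pull (homB P₁ P₂) c M x, T0pull_eq (comp (homB P₁ P₂) c) b M]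
  have hb1 : ∀ x, c.T1pull M ((homB P₁ P₂).T1pull M x) = b.T1pull M x := fun x => by
    rw [← comp_T1pull (homB P₁ P₂) c M x, T1pull_eq (comp (homB P₁ P₂) c) b M]
  have hb2 : ∀ x, c.T2pull M ((homB P₁ P₂).T2pull M x) = b.T2pull M x := fun x => by
    rw [← comp_T2pull (homB P₁ P₂) c M x, T2pull_eq (comp (homB P₁ P₂) c) b M]
  refine ⟨?_, exact_transfer _ hc0 hb0 ha0 ex0, exact_transfer _ hc1 hb1 ha1 ex1,
    exact_transfer _ hc2 hb2 ha2 ex2, δ₀, δ₁, exact_transfer_left _ hc0.2 ha0 e1,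
    exact_transfer_right _ hc1.1 (map_zero _) hb1 e2, exact_transfer_left _ hc1.2 ha1 e3,
    exact_transfer_right _ hc2.1 (map_zero _) hb2 e4⟩
  intro x y hxy
  rw [← hb0, ← hb0] at hxy
  exact inj0 (hc0.1 hxy)

end Transfer

end Groth.Agent.Lib.Helper1.CotTComp
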