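import Groth.Prelude.Def_CotT2
import Groth.Agent.Lib27.CotTL
import Mathlib

/-!
# Morphisms of presentations: existence, composition, homotopy (helper1)

* `exists_presHom` : over any square there is a `CotT.PresHom`.
* `PresHom.comp'` : composition, with `L1map`, `L2map`, `L0map` of a composite.
* homotopy lemma: two morphisms over the same square induce the same maps on `T⁰`, `T¹`, `T²`.
-/

universe u v w t u' v' w' t' u'' v'' w'' t'' m

open TensorProduct CotT

namespace Groth.Agent.Lib.Helper1.CotTHom

section PQ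

variable {A : Type u} {B : Type v} {ι : Type w} {σ : Type t}
variable [CommRing A] [CommRing B] [Algebra A B]
variable (P : Algebra.Presentation A B ι σ)

/-- `F ⧸ F₀`, the free module on the relations modulo the trivial relations. -/
def PQ : Type (max t w u) := relMod P ⧸ trivRel P

noncomputable instance : AddCommGroup (PQ P) :=
  inferInstanceAs (AddCommGroup (relMod P ⧸ trivRel P))

noncomputable instance : Module P.toExtension.Ring (PQ P) :=
  inferInstanceAs (Module P.toExtension.Ring (relMod P ⧸ trivRel P))

/-- the class map `F → F ⧸ F₀` -/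
noncomputable def PQ.mk : relMod P →ₗ[P.toExtension.Ring] PQ P := (trivRel P).mkQ

lemma PQ.mk_surjective : Function.Surjective (PQ.mk P) := Submodule.mkQ_surjective _

lemma PQ.mk_eq_zero_iff (f : relMod P) : PQ.mk P f = 0 ↔ f ∈ trivRel P :=
  Submodule.Quotient.mk_eq_zero _

/-- `j` on `F ⧸ F₀`. -/
noncomputable def PQ.j : PQ P →ₗ[P.toExtension.Ring] P.toExtension.Ring :=
  (trivRel P).liftQ (jmap P) (trivRel_le_relKer P)

@[simp] lemma PQ.j_mk (f : relMod P) : PQ.j P (PQ.mk P f) = jmap P f := rfl

lemma PQ.j_smul_comm (m n : PQ P) : PQ.j P m • n = PQ.j P n • m := by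
  obtain ⟨a, rfl⟩ := PQ.mk_surjective P m
  obtain ⟨b, rfl⟩ := PQ.mk_surjective P n
  rw [PQ.j_mk, PQ.j_mk, ← map_smul, ← map_smul, ← sub_eq_zero, ← map_sub, PQ.mk_eq_zero_iff]
  exact Submodule.subset_span ⟨a, b, rfl⟩

noncomputable instance : Mul (PQ P) := ⟨fun m n => PQ.j P m • n⟩

lemma PQ.mul_def (m n : PQ P) : m * n = PQ.j P m • n := rfl

noncomputable instance : NonUnitalCommRing (PQ P) where
  left_distrib a b c := by simp only [PQ.mul_def, smul_add]
  right_distrib a b c := by simp only [PQ.mul_def, map_add, add_smul]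
  zero_mul a := by simp only [PQ.mul_def, map_zero, zero_smul]
  mul_zero a := by simp only [PQ.mul_def, smul_zero]
  mul_assoc a b c := by
    simp only [PQ.mul_def, map_smul, smul_eq_mul, mul_smul]
  mul_comm a b := PQ.j_smul_comm P a b

instance : IsScalarTower P.toExtension.Ring (PQ P) (PQ P) where
  smul_assoc r m n := by
    change PQ.j P (r • m) • n = r • (PQ.j P m • n)
    rw [map_smul, smul_eq_mul, mul_smul]

instance : SMulCommClass P.toExtension.Ring (PQ P) (PQ P) where
  smul_comm r m n := by
    change r • (PQ.j P m • n) = PQ.j P m • (r • n)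
    rw [smul_comm]

/-- `j` as a non-unital algebra hom `F⧸F₀ → R`. -/
noncomputable def PQ.jAlg : PQ P →ₙₐ[P.toExtension.Ring] P.toExtension.Ring where
  toFun := PQ.j P
  map_smul' r m := map_smul _ r m
  map_zero' := map_zero _
  map_add' := map_add _
  map_mul' m n := by
    change PQ.j P (PQ.j P m • n) = _
    rw [map_smul, smul_eq_mul]

/-- the unitization `E = R ⊕ F/F₀` -/
abbrev PE : Type (max t w u) := Unitization P.toExtension.Ring (PQ P)

/-- `E → R`, `(a, m) ↦ a + j m`. -/
noncomputable def PE.sum : PE P →ₐ[P.toExtension.Ring] P.toExtension.Ring :=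
  Unitization.lift (PQ.jAlg P)

lemma PE.sum_apply (x : PE P) : PE.sum P x = x.fst + PQ.j P x.snd := by
  simp [PE.sum, PQ.jAlg]

/-- `F/F₀ → L₁ = B ⊗ F`, the class of `f` going to `1 ⊗ f`. -/
noncomputable def PQ.toL1 : PQ P →ₗ[P.toExtension.Ring] L1 P :=
  (trivRel P).liftQ (TensorProduct.mk P.toExtension.Ring B (relMod P) 1)
    (fun y hy => by
      rw [LinearMap.mem_ker]
      exact one_tmul_eq_zero_of_mem_trivRel P y hy)

@[simp] lemma PQ.toL1_mk (f : relMod P) : PQ.toL1 P (PQ.mk P f) = (1 : B) ⊗ₜ f := rfl

end PQ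

section Homotopy

variable {A : Type u} {B : Type v} {ι : Type w} {σ : Type t}
variable {A' : Type u'} {B' : Type v'} {ι' : Type w'} {σ' : Type t'}
variable [CommRing A] [CommRing B] [Algebra A B] [CommRing A'] [CommRing B'] [Algebra A' B']
variable [Algebra A A'] [Algebra B B'] [Algebra A B'] [IsScalarTower A A' B'] [IsScalarTower A B B']
variable {P : Algebra.Presentation A B ι σ} {P' : Algebra.Presentation A' B' ι' σ'}
variable (h h' : PresHom P P')

lemma ringHom_sub_mem_ker (r : P.toExtension.Ring) :
    h.ringHom r - h'.ringHom r ∈ P'.toExtension.ker := by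
  change algebraMap _ B' (h.ringHom r - h'.ringHom r) = 0
  rw [map_sub, h.algebraMap_ringHom, h'.algebraMap_ringHom, sub_self]

/-- the variable `x_i` as an element of `P.toExtension.Ring` -/
noncomputable def PX (P : Algebra.Presentation A B ι σ) (i : ι) : P.toExtension.Ring :=
  (MvPolynomial.X i : MvPolynomial ι A)

lemma ring_induction (P : Algebra.Presentation A B ι σ) {motive : P.toExtension.Ring → Prop}
    (r : P.toExtension.Ring)
    (hC : ∀ a : A, motive (algebraMap A P.toExtension.Ring a))
    (hadd : ∀ p q, motive p → motive q → motive (p + q))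
    (hmul : ∀ p i, motive p → motive (p * PX P i)) : motive r :=
  MvPolynomial.induction_on (motive := motive) r hC hadd hmul

lemma ringHom_PX (i : ι) : h.ringHom (PX P i) = h.hom.val i :=
  h.hom.toAlgHom_X i

lemma ringHom_algebraMap (a : A) : h.ringHom (algebraMap A P.toExtension.Ring a) =
    algebraMap A' P'.toExtension.Ring (algebraMap A A' a) :=
  h.hom.toExtensionHom.toRingHom_algebraMap a

lemma exists_gen_lift (i : ι) : ∃ g : relMod P', jmap P' g = h.hom.val i - h'.hom.val i := by
  have h1 : h.hom.val i - h'.hom.val i ∈ LinearMap.range (jmap P') := by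
    rw [range_jmap]
    have := ringHom_sub_mem_ker h h' (PX P i)
    rwa [ringHom_PX, ringHom_PX] at this
  exact h1

/-- chosen lifts `g_i ∈ F'` of `τ(x_i) - τ'(x_i)` -/
noncomputable def genLift (i : ι) : relMod P' := (exists_gen_lift h h' i).choose

lemma jmap_genLift (i : ι) : jmap P' (genLift h h' i) = h.hom.val i - h'.hom.val i :=
  (exists_gen_lift h h' i).choose_spec

/-- The ring map `R → E' = R' ⊕ F'/F₀'`, `x_i ↦ (τ' x_i, [g_i])`. -/
noncomputable def Phi : P.toExtension.Ring →+* PE P' :=
  (MvPolynomial.eval₂Hom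
    ((Unitization.inlRingHom P'.toExtension.Ring (PQ P')).comp
      ((algebraMap A' P'.toExtension.Ring).comp (algebraMap A A')))
    (fun i => (Unitization.inl (show P'.toExtension.Ring from h'.hom.val i) : PE P') +
      ((PQ.mk P' (genLift h h' i) : PQ P') : PE P')) : MvPolynomial ι A →+* PE P')

lemma Phi_algebraMap (a : A) : Phi h h' (algebraMap A P.toExtension.Ring a) =
    (Unitization.inl (algebraMap A' P'.toExtension.Ring (algebraMap A A' a)) : PE P') :=
  MvPolynomial.eval₂Hom_C _ _ a

lemma Phi_PX (i : ι) : Phi h h' (PX P i) =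
    (Unitization.inl (show P'.toExtension.Ring from h'.hom.val i) : PE P') +
      ((PQ.mk P' (genLift h h' i) : PQ P') : PE P') :=
  MvPolynomial.eval₂Hom_X' _ _ i

lemma Phi_fst (r : P.toExtension.Ring) : (Phi h h' r).fst = h'.ringHom r := by
  induction r using ring_induction P with
  | hC a => rw [ringHom_algebraMap, Phi_algebraMap, Unitization.fst_inl]
  | hadd p q hp hq => rw [map_add, Unitization.fst_add, hp, hq, map_add]
  | hmul p i hp =>
    rw [map_mul, Unitization.fst_mul, hp, map_mul, ringHom_PX, Phi_PX, Unitization.fst_add,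
      Unitization.fst_inl, Unitization.fst_inr, add_zero]

lemma Phi_sum (r : P.toExtension.Ring) : PE.sum P' (Phi h h' r) = h.ringHom r := by
  induction r using ring_induction P with
  | hC a =>
    rw [ringHom_algebraMap, Phi_algebraMap, PE.sum_apply, Unitization.fst_inl, Unitization.snd_inl,
      map_zero, add_zero]
  | hadd p q hp hq => rw [map_add, map_add, hp, hq, map_add]
  | hmul p i hp =>
    rw [map_mul, map_mul, hp, map_mul, ringHom_PX, Phi_PX, PE.sum_apply, Unitization.fst_add,
      Unitization.fst_inl, Unitization.fst_inr, add_zero, Unitization.snd_add, Unitization.snd_inl,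
      Unitization.snd_inr, zero_add, PQ.j_mk, jmap_genLift]
    congr 1
    exact add_sub_cancel _ _

/-- The twisted derivation `D̃ : R → F'/F₀'`. -/
noncomputable def Dt (r : P.toExtension.Ring) : PQ P' := (Phi h h' r).snd

lemma Dt_add (r r' : P.toExtension.Ring) : Dt h h' (r + r') = Dt h h' r + Dt h h' r' := by
  simp [Dt]

lemma Dt_zero : Dt h h' 0 = 0 := by simp [Dt]

lemma ringHom_eq_add (r : P.toExtension.Ring) :
    h.ringHom r = h'.ringHom r + PQ.j P' (Dt h h' r) := by
  rw [← Phi_sum h h' r, PE.sum_apply, Phi_fst]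
  rfl

lemma Dt_mul (a b : P.toExtension.Ring) :
    Dt h h' (a * b) = h.ringHom a • Dt h h' b + h'.ringHom b • Dt h h' a := by
  rw [ringHom_eq_add h h' a, add_smul]
  simp only [Dt, map_mul, Unitization.snd_mul, Phi_fst]
  rw [PQ.mul_def]
  abel

/-- chosen lift to `F'` of `D̃ (rel s)` -/
noncomputable def dLift (s : σ) : relMod P' := (PQ.mk_surjective P' (Dt h h' (rel P s))).choose

lemma mk_dLift (s : σ) : PQ.mk P' (dLift h h' s) = Dt h h' (rel P s) :=
  (PQ.mk_surjective P' (Dt h h' (rel P s))).choose_spec

lemma jmap_dLift (s : σ) : jmap P' (dLift h h' s) = h.ringHom (rel P s) - h'.ringHom (rel P s) := by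
  rw [← PQ.j_mk, mk_dLift, ringHom_eq_add h h' (rel P s), add_sub_cancel_left]

/-- the relation `q_s = relVal s - relVal' s - D̃(rel s)` of `P'` -/
noncomputable def qs (s : σ) : relKer P' :=
  ⟨h.relVal s - h'.relVal s - dLift h h' s, by
    change jmap P' _ = 0
    rw [map_sub, map_sub, h.jmap_relVal, h'.jmap_relVal, jmap_dLift, sub_self]⟩

lemma qs_coe (s : σ) : (qs h h' s : relMod P') = h.relVal s - h'.relVal s - dLift h h' s := rfl

/-- the semilinear map `F → Q'`, `e_s ↦ q_s` -/
noncomputable def G1 : relMod P →ₛₗ[h.ringHom] relKer P' where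
  toFun f := Finsupp.linearCombination P'.toExtension.Ring (qs h h')
    (Finsupp.mapRange h.ringHom (map_zero _) f)
  map_add' f g := by rw [Finsupp.mapRange_add (map_add _), map_add]
  map_smul' r f := by
    rw [← map_smul]
    congr 1
    ext s
    simp only [Finsupp.mapRange_apply, Finsupp.smul_apply, smul_eq_mul]
    exact map_mul h.ringHom r (f s)

@[simp] lemma G1_single (s : σ) (r : P.toExtension.Ring) :
    G1 h h' (Finsupp.single s r) = h.ringHom r • qs h h' s := by
  simp [G1]

/-- key identity: modulo trivial relations, `relModMap f - relModMap' f - G1 f = D̃ (j f)`. -/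
lemma mk_relModMap_sub (f : relMod P) :
    PQ.mk P' (h.relModMap f - h'.relModMap f - (G1 h h' f : relMod P')) = Dt h h' (jmap P f) := by
  induction f using Finsupp.induction_linear with
  | zero => simp [Dt_zero]
  | add f g hf hg =>
    rw [map_add (jmap P), Dt_add, ← hf, ← hg, ← map_add]
    congr 1
    simp only [map_add, Submodule.coe_add]
    abel
  | single s r =>
    rw [PresHom.relModMap_single, PresHom.relModMap_single, G1_single, jmap_single, Dt_mul,
      Submodule.coe_smul, qs_coe, smul_sub, smul_sub, map_sub, map_sub, map_sub, map_sub,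
      map_smul, map_smul, map_smul, map_smul, mk_dLift]
    have h1 : h.ringHom r = h'.ringHom r + PQ.j P' (Dt h h' r) := ringHom_eq_add h h' r
    have h2 : h'.ringHom (rel P s) = PQ.j P' (PQ.mk P' (h'.relVal s)) := by
      rw [PQ.j_mk, h'.jmap_relVal]
    have h3 := PQ.j_smul_comm P' (Dt h h' r) (PQ.mk P' (h'.relVal s))
    rw [h2, ← h3]
    generalize PQ.mk P' (h.relVal s) = x
    generalize PQ.mk P' (h'.relVal s) = y
    generalize Dt h h' (rel P s) = z
    rw [h1]
    simp only [add_smul]
    abel

/-- the degree-1 homotopy `s₁ : L₁ → L₂'`, `b ⊗ e_s ↦ b̄ · [q_s]`. -/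
noncomputable def s1 : L1 P →ₛₗ[(algebraMap B B' : B →+* B')] L2 P' where
  toFun z := Submodule.Quotient.mk (tensorMap h.ringHom h.algebraMap_ringHom (G1 h h') z)
  map_add' x y := by rw [map_add, Submodule.Quotient.mk_add]
  map_smul' b z := by rw [LinearMap.map_smulₛₗ, Submodule.Quotient.mk_smul]

lemma s1_tmul (b : B) (f : relMod P) :
    s1 h h' (b ⊗ₜ f) = Submodule.Quotient.mk (algebraMap B B' b ⊗ₜ G1 h h' f) := rfl

lemma hk_mem (q : relKer P) : (h.relKerMap q - h'.relKerMap q - G1 h h' (q : relMod P)) ∈ trivRelKer P' := by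
  change ((h.relKerMap q - h'.relKerMap q - G1 h h' (q : relMod P) : relKer P') : relMod P')
    ∈ trivRel P'
  rw [← PQ.mk_eq_zero_iff, Submodule.coe_sub, Submodule.coe_sub, PresHom.relKerMap_coe,
    PresHom.relKerMap_coe, mk_relModMap_sub, show jmap P (q : relMod P) = 0 from q.2, Dt_zero]

set_option maxHeartbeats 400000 in
lemma L2map_sub_tmul (b : B) (q : relKer P) :
    h.L2map (Submodule.Quotient.mk (b ⊗ₜ q)) - h'.L2map (Submodule.Quotient.mk (b ⊗ₜ q)) =
      s1 h h' (d2 P (Submodule.Quotient.mk (b ⊗ₜ q))) := by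
  have e1 : d2 P (Submodule.Quotient.mk (b ⊗ₜ q)) = b ⊗ₜ (q : relMod P) := d2_mk_tmul P b q
  rw [e1]
  change (Submodule.Quotient.mk (algebraMap B B' b ⊗ₜ h.relKerMap q) : L2 P') -
          Submodule.Quotient.mk (algebraMap B B' b ⊗ₜ h'.relKerMap q) =
        Submodule.Quotient.mk (algebraMap B B' b ⊗ₜ G1 h h' (q : relMod P))
  have key : ∀ x y : relKer P', (algebraMap B B' b) ⊗ₜ[P'.toExtension.Ring] (x - y) =
      (algebraMap B B' b) ⊗ₜ x - (algebraMap B B' b) ⊗ₜ y := fun x y => TensorProduct.tmul_sub _ x y
  have hmem : algebraMap B B' b ⊗ₜ[P'.toExtension.Ring] h.relKerMap q -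
      algebraMap B B' b ⊗ₜ h'.relKerMap q - algebraMap B B' b ⊗ₜ G1 h h' (q : relMod P) ∈
      LinearMap.range ((trivRelKer P').subtype.baseChange B') := by
    refine ⟨algebraMap B B' b ⊗ₜ ⟨_, hk_mem h h' q⟩, ?_⟩
    rw [LinearMap.baseChange_tmul, ← key, ← key]
    rfl
  have h0 := (Submodule.Quotient.mk_eq_zero _).2 hmem
  rw [Submodule.Quotient.mk_sub, Submodule.Quotient.mk_sub, sub_eq_zero] at h0
  exact h0

/-- `L₂map - L₂map' = s₁ ∘ d₂`. -/
lemma L2map_sub_L2map (z : L2 P) : h.L2map z - h'.L2map z = s1 h h' (d2 P z) := by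
  induction z using Submodule.Quotient.induction_on with
  | H z =>
    induction z using TensorProduct.induction_on with
    | zero =>
      have a1 : h.L2map (Submodule.Quotient.mk 0) = 0 := h.L2map.map_zero
      have a2 : h'.L2map (Submodule.Quotient.mk 0) = 0 := h'.L2map.map_zero
      have a3 : s1 h h' (d2 P (Submodule.Quotient.mk 0)) = 0 := by
        have : d2 P (Submodule.Quotient.mk 0) = 0 := (d2 P).map_zero
        rw [this]
        exact (s1 h h').map_zero
      rw [a1, a2, a3, sub_zero]
    | add x y hx hy =>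
      have a1 : h.L2map (Submodule.Quotient.mk (x + y)) =
          h.L2map (Submodule.Quotient.mk x) + h.L2map (Submodule.Quotient.mk y) :=
        h.L2map.map_add (Submodule.Quotient.mk x) (Submodule.Quotient.mk y)
      have a2 : h'.L2map (Submodule.Quotient.mk (x + y)) =
          h'.L2map (Submodule.Quotient.mk x) + h'.L2map (Submodule.Quotient.mk y) :=
        h'.L2map.map_add (Submodule.Quotient.mk x) (Submodule.Quotient.mk y)
      have a3 : s1 h h' (d2 P (Submodule.Quotient.mk (x + y))) =
          s1 h h' (d2 P (Submodule.Quotient.mk x)) + s1 h h' (d2 P (Submodule.Quotient.mk y)) := by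
        have : d2 P (Submodule.Quotient.mk (x + y)) =
            d2 P (Submodule.Quotient.mk x) + d2 P (Submodule.Quotient.mk y) :=
          (d2 P).map_add (Submodule.Quotient.mk x) (Submodule.Quotient.mk y)
        rw [this]
        exact (s1 h h').map_add _ _
      rw [a1, a2, a3, ← hx, ← hy]
      abel
    | tmul b q => exact L2map_sub_tmul h h' b q

section Pull

variable (M' : Type m) [AddCommGroup M'] [Module B' M'] [Module B M'] [IsScalarTower B B' M']

lemma T2pull_mk (ψ : L2 P' →ₗ[B'] M') :
    h.T2pull M' (Submodule.Quotient.mk ψ) = Submodule.Quotient.mk (h.pull2 M' ψ) := rfl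

lemma T1pull_mk (c : cocycles1 P' M') :
    h.T1pull M' (Submodule.Quotient.mk c) = Submodule.Quotient.mk (h.cocycles1Pull M' c) := rfl

lemma T0pull_coe (ψ : T0 P' M') : (h.T0pull M' ψ : L0 P →ₗ[B] M') = h.pull0 M' ψ := rfl

set_option maxHeartbeats 400000 in
lemma pull2_sub (ψ : L2 P' →ₗ[B'] M') :
    h.pull2 M' ψ - h'.pull2 M' ψ = d2Star P M' (PresHom.linOfSemilinear M' (ψ.comp (s1 h h'))) := by
  refine LinearMap.ext fun z => ?_
  rw [d2Star_apply, LinearMap.comp_apply, PresHom.linOfSemilinear_apply, LinearMap.comp_apply,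
    ← L2map_sub_L2map, map_sub]
  rfl

set_option maxHeartbeats 400000 in
theorem T2pull_eq : h.T2pull M' = h'.T2pull M' := by
  refine LinearMap.ext fun x => ?_
  obtain ⟨ψ, rfl⟩ := Submodule.Quotient.mk_surjective _ x
  rw [T2pull_mk, T2pull_mk]
  refine (Submodule.Quotient.eq _).2 ?_
  exact ⟨_, (pull2_sub h h' M' ψ).symm⟩

section
variable {M : Type m} [AddCommGroup M] [Module B M]

/-- a `1`-cocycle factors through `toCot`. -/
lemma exists_factor_toCot (c : cocycles1 P M) :
    ∃ cbar : P.toExtension.Cotangent →ₗ[B] M, cbar ∘ₗ toCot P = (c : L1 P →ₗ[B] M) := by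
  have hsurj := Groth.Agent.Lib27.CotTL.toCot_surjective P
  obtain ⟨c, hc⟩ := c
  rw [LinearMap.mem_ker, d2Star_apply] at hc
  have hker : LinearMap.ker (toCot P) ≤ LinearMap.ker c := by
    intro x hx
    obtain ⟨y, rfl⟩ := Groth.Agent.Lib27.CotTL.ker_toCot_le_range_d2 P hx
    exact congrArg (fun g : L2 P →ₗ[B] M => g y) hc
  let e := (toCot P).quotKerEquivOfSurjective hsurj
  refine ⟨(Submodule.liftQ _ c hker) ∘ₗ e.symm.toLinearMap, ?_⟩
  apply LinearMap.ext
  intro x
  change Submodule.liftQ _ c hker (e.symm (toCot P x)) = c x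
  have : e.symm (toCot P x) = Submodule.Quotient.mk x := by
    rw [LinearEquiv.symm_apply_eq]
    rfl
  rw [this, Submodule.liftQ_apply]

lemma T0_apply_cotangentComplex (ψ : T0 P M) (z : P.toExtension.Cotangent) :
    (ψ : L0 P →ₗ[B] M) (P.toExtension.cotangentComplex z) = 0 := by
  obtain ⟨y, rfl⟩ := Groth.Agent.Lib27.CotTL.toCot_surjective P z
  have := ψ.2
  rw [LinearMap.mem_ker, d1Star_apply] at this
  exact congrArg (fun g : L1 P →ₗ[B] M => g y) this
end

attribute [local instance] SMulCommClass.of_commMonoid in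
set_option maxHeartbeats 400000 in
theorem T0pull_eq : h.T0pull M' = h'.T0pull M' := by
  refine LinearMap.ext fun ψ => Subtype.ext ?_
  rw [T0pull_coe, T0pull_coe]
  refine LinearMap.ext fun x => ?_
  rw [PresHom.pull0_apply, PresHom.pull0_apply, PresHom.L0map_apply, PresHom.L0map_apply]
  have h1 := congrArg (fun l => l x)
    (Algebra.Extension.CotangentSpace.map_sub_map h.hom.toExtensionHom h'.hom.toExtensionHom)
  simp only [LinearMap.sub_apply, LinearMap.coe_comp, Function.comp_apply,
    LinearMap.coe_restrictScalars] at h1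
  rw [← sub_eq_zero, ← map_sub, h1, T0_apply_cotangentComplex]

attribute [local instance] SMulCommClass.of_commMonoid in
set_option maxHeartbeats 400000 in
theorem T1pull_eq : h.T1pull M' = h'.T1pull M' := by
  refine LinearMap.ext fun x => ?_
  obtain ⟨c, rfl⟩ := Submodule.Quotient.mk_surjective _ x
  rw [T1pull_mk, T1pull_mk]
  refine (Submodule.Quotient.eq _).2 ?_
  obtain ⟨cbar, hcbar⟩ := exists_factor_toCot c
  let φ : L0 P →ₗ[B] M' :=
    { toFun := fun x => cbar ((h.hom.toExtensionHom.sub h'.hom.toExtensionHom) x)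
      map_add' := fun x y => by rw [map_add, map_add]
      map_smul' := fun b x => by
        rw [map_smul, RingHom.id_apply, ← IsScalarTower.algebraMap_smul B' b
          ((h.hom.toExtensionHom.sub h'.hom.toExtensionHom) x), map_smul,
          IsScalarTower.algebraMap_smul] }
  refine ⟨φ, ?_⟩
  refine LinearMap.ext fun y => ?_
  have h1 := congrArg (fun l => l (toCot P y))
    (Algebra.Extension.Cotangent.map_sub_map h.hom.toExtensionHom h'.hom.toExtensionHom)
  simp only [LinearMap.sub_apply, LinearMap.coe_comp, Function.comp_apply] at h1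
  change cbar ((h.hom.toExtensionHom.sub h'.hom.toExtensionHom)
    (P.toExtension.cotangentComplex (toCot P y))) = c.1 (h.L1map y) - c.1 (h'.L1map y)
  rw [← h1, map_sub, ← hcbar, LinearMap.comp_apply, LinearMap.comp_apply, PresHom.toCot_L1map,
    PresHom.toCot_L1map, PresHom.cotMap_apply, PresHom.cotMap_apply]

end Pull

end Homotopy

section Exists
variable {A : Type u} {B : Type v} {ι : Type w} {σ : Type t}
variable {A' : Type u'} {B' : Type v'} {ι' : Type w'} {σ' : Type t'}
variable [CommRing A] [CommRing B] [Algebra A B] [CommRing A'] [CommRing B'] [Algebra A' B']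
variable [Algebra A A'] [Algebra B B'] [Algebra A B'] [IsScalarTower A A' B'] [IsScalarTower A B B']
variable (P : Algebra.Presentation A B ι σ) (P' : Algebra.Presentation A' B' ι' σ')

/-- given where the variables go, a morphism of presentations exists -/
lemma exists_presHom_of_hom (hom : Algebra.Generators.Hom P.toGenerators P'.toGenerators) :
    ∃ h : PresHom P P', h.hom = hom := by
  have hmem : ∀ s, hom.toExtensionHom.toRingHom (rel P s) ∈ LinearMap.range (jmap P') := by
    intro s
    rw [range_jmap]
    change algebraMap _ B' _ = 0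
    rw [hom.toExtensionHom.algebraMap_toRingHom, algebraMap_rel, map_zero]
  exact ⟨⟨hom, fun s => (hmem s).choose, fun s => (hmem s).choose_spec⟩, rfl⟩

lemma exists_presHom : Nonempty (PresHom P P') :=
  ⟨(exists_presHom_of_hom P P' (Algebra.Generators.defaultHom _ _)).choose⟩

end Exists

section Comp
variable {A : Type u} {B : Type v} {ι : Type w} {σ : Type t}
variable {A' : Type u'} {B' : Type v'} {ι' : Type w'} {σ' : Type t'}
variable {A'' : Type u''} {B'' : Type v''} {ι'' : Type w''} {σ'' : Type t''}
variable [CommRing A] [CommRing B] [Algebra A B] [CommRing A'] [CommRing B'] [Algebra A' B']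
variable [CommRing A''] [CommRing B''] [Algebra A'' B'']
variable [Algebra A A'] [Algebra B B'] [Algebra A B'] [IsScalarTower A A' B'] [IsScalarTower A B B']
variable [Algebra A' A''] [Algebra B' B''] [Algebra A' B''] [IsScalarTower A' A'' B'']
  [IsScalarTower A' B' B'']
variable [Algebra A A''] [Algebra B B''] [Algebra A B''] [IsScalarTower A A'' B'']
  [IsScalarTower A B B'']
variable [IsScalarTower A A' A''] [IsScalarTower B B' B'']
variable {P : Algebra.Presentation A B ι σ} {P' : Algebra.Presentation A' B' ι' σ'}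
  {P'' : Algebra.Presentation A'' B'' ι'' σ''}

/-- composition of morphisms of presentations -/
noncomputable def comp (h' : PresHom P' P'') (h : PresHom P P') : PresHom P P'' where
  hom := h'.hom.comp h.hom
  relVal s := h'.relModMap (h.relVal s)
  jmap_relVal s := by
    rw [h'.jmap_relModMap, h.jmap_relVal]
    exact (Algebra.Generators.Hom.toAlgHom_comp_apply _ _ _ h.hom h'.hom (rel P s)).symm

variable (h' : PresHom P' P'') (h : PresHom P P')

lemma comp_ringHom (r : P.toExtension.Ring) :
    (comp h' h).ringHom r = h'.ringHom (h.ringHom r) :=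
  Algebra.Generators.Hom.toAlgHom_comp_apply _ _ _ h.hom h'.hom r

lemma comp_relModMap (f : relMod P) :
    (comp h' h).relModMap f = h'.relModMap (h.relModMap f) := by
  induction f using Finsupp.induction_linear with
  | zero => simp
  | add f g hf hg => rw [map_add, map_add, map_add, hf, hg]
  | single s r =>
    rw [PresHom.relModMap_single, PresHom.relModMap_single, LinearMap.map_smulₛₗ, comp_ringHom]
    rfl

lemma comp_relKerMap (q : relKer P) :
    (comp h' h).relKerMap q = h'.relKerMap (h.relKerMap q) :=
  Subtype.ext (comp_relModMap h' h q)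

lemma comp_L1map (y : L1 P) : (comp h' h).L1map y = h'.L1map (h.L1map y) := by
  induction y using TensorProduct.induction_on with
  | zero => simp
  | add x y hx hy => rw [map_add, map_add, map_add, hx, hy]
  | tmul b f =>
    rw [PresHom.L1map_tmul, PresHom.L1map_tmul, PresHom.L1map_tmul, comp_relModMap,
      ← IsScalarTower.algebraMap_apply]

set_option maxHeartbeats 400000 in
lemma comp_L2map (z : L2 P) : (comp h' h).L2map z = h'.L2map (h.L2map z) := by
  induction z using Submodule.Quotient.induction_on with
  | H z =>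
    induction z using TensorProduct.induction_on with
    | zero =>
      have a1 : (comp h' h).L2map (Submodule.Quotient.mk 0) = 0 := (comp h' h).L2map.map_zero
      have a2 : h.L2map (Submodule.Quotient.mk 0) = 0 := h.L2map.map_zero
      rw [a1, a2]
      exact h'.L2map.map_zero.symm
    | add x y hx hy =>
      have a1 : (comp h' h).L2map (Submodule.Quotient.mk (x + y)) =
          (comp h' h).L2map (Submodule.Quotient.mk x) + (comp h' h).L2map (Submodule.Quotient.mk y) :=
        (comp h' h).L2map.map_add (Submodule.Quotient.mk x) (Submodule.Quotient.mk y)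
      have a2 : h.L2map (Submodule.Quotient.mk (x + y)) =
          h.L2map (Submodule.Quotient.mk x) + h.L2map (Submodule.Quotient.mk y) :=
        h.L2map.map_add (Submodule.Quotient.mk x) (Submodule.Quotient.mk y)
      rw [a1, a2, hx, hy]
      exact (h'.L2map.map_add _ _).symm
    | tmul b q =>
      change (Submodule.Quotient.mk (algebraMap B B'' b ⊗ₜ (comp h' h).relKerMap q) : L2 P'') =
        Submodule.Quotient.mk (algebraMap B' B'' (algebraMap B B' b) ⊗ₜ h'.relKerMap (h.relKerMap q))
      rw [comp_relKerMap, ← IsScalarTower.algebraMap_apply]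

attribute [local instance] SMulCommClass.of_commMonoid in
set_option maxHeartbeats 400000 in
lemma comp_L0map (x : L0 P) : (comp h' h).L0map x = h'.L0map (h.L0map x) := by
  rw [PresHom.L0map_apply, PresHom.L0map_apply, PresHom.L0map_apply]
  change Algebra.Extension.CotangentSpace.map (h'.hom.comp h.hom).toExtensionHom x = _
  rw [Algebra.Generators.Hom.toExtensionHom_comp, Algebra.Extension.CotangentSpace.map_comp]
  rfl

section Pull

variable (M'' : Type m) [AddCommGroup M''] [Module B'' M''] [Module B' M''] [Module B M'']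
  [IsScalarTower B' B'' M''] [IsScalarTower B B' M''] [IsScalarTower B B'' M'']

lemma comp_pull2 (ψ : L2 P'' →ₗ[B''] M'') :
    (comp h' h).pull2 M'' ψ = h.pull2 M'' (h'.pull2 M'' ψ) := by
  refine LinearMap.ext fun z => ?_
  rw [PresHom.pull2_apply, PresHom.pull2_apply, PresHom.pull2_apply, comp_L2map]

theorem comp_T2pull (x : T2 P'' M'') :
    (comp h' h).T2pull M'' x = h.T2pull M'' (h'.T2pull M'' x) := by
  obtain ⟨ψ, rfl⟩ := Submodule.Quotient.mk_surjective _ x
  rw [T2pull_mk, T2pull_mk, T2pull_mk, comp_pull2]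

lemma comp_cocycles1Pull (c : cocycles1 P'' M'') :
    (comp h' h).cocycles1Pull M'' c = h.cocycles1Pull M'' (h'.cocycles1Pull M'' c) := by
  refine Subtype.ext (LinearMap.ext fun y => ?_)
  rw [PresHom.cocycles1Pull_coe, PresHom.cocycles1Pull_coe, PresHom.pull1_apply,
    PresHom.pull1_apply, PresHom.cocycles1Pull_coe, PresHom.pull1_apply, comp_L1map]

theorem comp_T1pull (x : T1 P'' M'') :
    (comp h' h).T1pull M'' x = h.T1pull M'' (h'.T1pull M'' x) := by
  obtain ⟨c, rfl⟩ := Submodule.Quotient.mk_surjective _ x
  rw [T1pull_mk, T1pull_mk, T1pull_mk, comp_cocycles1Pull]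

theorem comp_T0pull (x : T0 P'' M'') :
    (comp h' h).T0pull M'' x = h.T0pull M'' (h'.T0pull M'' x) := by
  refine Subtype.ext (LinearMap.ext fun y => ?_)
  rw [T0pull_coe, T0pull_coe, PresHom.pull0_apply, PresHom.pull0_apply, T0pull_coe,
    PresHom.pull0_apply, comp_L0map]

end Pull

end Comp

section Id
variable {A : Type u} {B : Type v} {ι : Type w} {σ : Type t}
variable [CommRing A] [CommRing B] [Algebra A B]
variable (P : Algebra.Presentation A B ι σ)

lemma id_ringHom (r : P.toExtension.Ring) : (PresHom.id P).ringHom r = r := by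
  change (Algebra.Generators.Hom.id P.toGenerators).toAlgHom r = r
  rw [Algebra.Generators.Hom.toAlgHom_id]
  rfl

lemma id_relModMap (f : relMod P) : (PresHom.id P).relModMap f = f := by
  induction f using Finsupp.induction_linear with
  | zero => simp
  | add f g hf hg => rw [map_add, hf, hg]
  | single s r =>
    rw [PresHom.relModMap_single, id_ringHom]
    change r • Finsupp.single s (1 : P.toExtension.Ring) = _
    rw [Finsupp.smul_single, smul_eq_mul, mul_one]

lemma id_relKerMap (q : relKer P) : (PresHom.id P).relKerMap q = q :=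
  Subtype.ext (id_relModMap P q)

lemma id_L1map (y : L1 P) : (PresHom.id P).L1map y = y := by
  induction y using TensorProduct.induction_on with
  | zero => simp
  | add x y hx hy => rw [map_add, hx, hy]
  | tmul b f => rw [PresHom.L1map_tmul, id_relModMap]; rfl

lemma id_L2map (z : L2 P) : (PresHom.id P).L2map z = z := by
  induction z using Submodule.Quotient.induction_on with
  | H z =>
    induction z using TensorProduct.induction_on with
    | zero => exact (PresHom.id P).L2map.map_zero
    | add x y hx hy =>
      have a1 : (PresHom.id P).L2map (Submodule.Quotient.mk (x + y)) =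
          (PresHom.id P).L2map (Submodule.Quotient.mk x) + (PresHom.id P).L2map (Submodule.Quotient.mk y) :=
        (PresHom.id P).L2map.map_add (Submodule.Quotient.mk x) (Submodule.Quotient.mk y)
      rw [a1, hx, hy]
      rfl
    | tmul b q =>
      change (Submodule.Quotient.mk (algebraMap B B b ⊗ₜ (PresHom.id P).relKerMap q) : L2 P) = _
      rw [id_relKerMap]
      rfl

attribute [local instance] SMulCommClass.of_commMonoid in
lemma id_L0map (x : L0 P) : (PresHom.id P).L0map x = x := by
  rw [PresHom.L0map_apply]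
  change Algebra.Extension.CotangentSpace.map (Algebra.Generators.Hom.id P.toGenerators).toExtensionHom x = x
  rw [Algebra.Generators.Hom.toExtensionHom_id, Algebra.Extension.CotangentSpace.map_id]
  rfl

variable (M : Type m) [AddCommGroup M] [Module B M]

theorem id_T2pull (x : T2 P M) : (PresHom.id P).T2pull M x = x := by
  obtain ⟨ψ, rfl⟩ := Submodule.Quotient.mk_surjective _ x
  rw [T2pull_mk]
  have : (PresHom.id P).pull2 M ψ = ψ := by
    refine LinearMap.ext fun z => ?_
    rw [PresHom.pull2_apply, id_L2map]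
  rw [this]

theorem id_T1pull (x : T1 P M) : (PresHom.id P).T1pull M x = x := by
  obtain ⟨c, rfl⟩ := Submodule.Quotient.mk_surjective _ x
  rw [T1pull_mk]
  have : (PresHom.id P).cocycles1Pull M c = c := by
    refine Subtype.ext (LinearMap.ext fun z => ?_)
    rw [PresHom.cocycles1Pull_coe, PresHom.pull1_apply, id_L1map]
  rw [this]

theorem id_T0pull (x : T0 P M) : (PresHom.id P).T0pull M x = x := by
  refine Subtype.ext (LinearMap.ext fun z => ?_)
  rw [T0pull_coe, PresHom.pull0_apply, id_L0map]

end Id

section Bij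
variable {A : Type u} {B : Type v} {ι : Type w} {σ : Type t} {ι' : Type w'} {σ' : Type t'}
variable [CommRing A] [CommRing B] [Algebra A B]
variable {P : Algebra.Presentation A B ι σ} {P' : Algebra.Presentation A B ι' σ'}
variable (h : PresHom P P') (M : Type m) [AddCommGroup M] [Module B M]

theorem T2pull_bijective : Function.Bijective (h.T2pull M) := by
  obtain ⟨h'⟩ := exists_presHom P' P
  constructor
  · intro x y hxy
    have hx := comp_T2pull h h' M x
    have hy := comp_T2pull h h' M y
    rw [T2pull_eq (comp h h') (PresHom.id P') M, id_T2pull] at hx hy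
    rw [hx, hy, hxy]
  · intro x
    refine ⟨h'.T2pull M x, ?_⟩
    have hx := comp_T2pull h' h M x
    rw [T2pull_eq (comp h' h) (PresHom.id P) M, id_T2pull] at hx
    exact hx.symm

theorem T1pull_bijective : Function.Bijective (h.T1pull M) := by
  obtain ⟨h'⟩ := exists_presHom P' P
  constructor
  · intro x y hxy
    have hx := comp_T1pull h h' M x
    have hy := comp_T1pull h h' M y
    rw [T1pull_eq (comp h h') (PresHom.id P') M, id_T1pull] at hx hy
    rw [hx, hy, hxy]
  · intro x
    refine ⟨h'.T1pull M x, ?_⟩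
    have hx := comp_T1pull h' h M x
    rw [T1pull_eq (comp h' h) (PresHom.id P) M, id_T1pull] at hx
    exact hx.symm

theorem T0pull_bijective : Function.Bijective (h.T0pull M) := by
  obtain ⟨h'⟩ := exists_presHom P' P
  constructor
  · intro x y hxy
    have hx := comp_T0pull h h' M x
    have hy := comp_T0pull h h' M y
    rw [T0pull_eq (comp h h') (PresHom.id P') M, id_T0pull] at hx hy
    rw [hx, hy, hxy]
  · intro x
    refine ⟨h'.T0pull M x, ?_⟩
    have hx := comp_T0pull h' h M x
    rw [T0pull_eq (comp h' h) (PresHom.id P) M, id_T0pull] at hx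
    exact hx.symm

end Bij

end Groth.Agent.Lib.Helper1.CotTHom
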