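import Groth.Agent.Lib.Helper1.CotTCI
import Groth.Agent.Lib27.CotTL
import Groth.Agent.S12289
import Groth.Agent.Lib.Helper12.RegularSeqQuot

/-!
# Formal smoothness and the vanishing of `T¹`, `T²` (helper1)

* `subsingleton_T1_of_formallySmooth`, `formallySmooth_of_subsingleton_T1`.
* Koszul span and localization: `koszulSpan_map`, `exists_smul_mem_koszulSpan`,
  `mem_koszulSpan_of_forall_maximal`.
* `IsTight`, `isTight_of_T2`, `isTight_of_isRegFamily_generators`.
* `mem_mul_ker_of_mem_sq` (conormal criterion), its localization, local regular generators.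
* `subsingleton_T2_of_d2_injective`, `d2_injective_of_isTight`.
* `isTight_of_formallySmooth`, `subsingleton_T2_of_formallySmooth`.
-/

universe u v w t m

open TensorProduct CotT

namespace Groth.Agent.Lib.Helper1.CotTSmooth

open Groth.Agent.Lib.Helper1.CotTVanish Groth.Agent.Lib.Helper1.CotTComp
  Groth.Agent.Lib.Helper1.CotTHom Groth.Agent.Lib.Helper1.CotTCI

section Inst
variable {k : Type u} {B : Type v} {ι : Type w} {σ : Type t}
variable [CommRing k] [CommRing B] [Algebra k B]
variable (P : Algebra.Presentation k B ι σ)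

instance formallySmooth_ring : Algebra.FormallySmooth k P.toExtension.Ring :=
  inferInstanceAs (Algebra.FormallySmooth k (MvPolynomial ι k))

end Inst

section T1
variable {k : Type u} {B : Type u} {ι : Type w} {σ : Type w}
variable [CommRing k] [CommRing B] [Algebra k B]
variable (P : Algebra.Presentation k B ι σ)

lemma subsingleton_T1_of_formallySmooth [Algebra.FormallySmooth k B]
    (M : Type m) [AddCommGroup M] [Module B M] : Subsingleton (T1 P M) := by
  obtain ⟨l, hl⟩ := (Algebra.Extension.formallySmooth_iff_split_injection P.toExtension).mp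
    inferInstance
  obtain ⟨_, hker, hsurj⟩ := Groth.Agent.S12289.result k B ι σ P M
  refine subsingleton_of_forall_eq 0 fun t => ?_
  obtain ⟨φ, rfl⟩ := hsurj t
  rw [← LinearMap.mem_ker, hker]
  refine ⟨φ ∘ₗ l, ?_⟩
  rw [LinearMap.lcomp_apply', LinearMap.comp_assoc, hl, LinearMap.comp_id]

lemma formallySmooth_of_subsingleton_T1
    (h : Subsingleton (T1 P P.toExtension.Cotangent)) : Algebra.FormallySmooth k B := by
  obtain ⟨_, hker, _⟩ := Groth.Agent.S12289.result k B ι σ P P.toExtension.Cotangent
  have h0 : homToT1 P P.toExtension.Cotangent LinearMap.id = 0 := Subsingleton.elim _ _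
  rw [← LinearMap.mem_ker, hker] at h0
  obtain ⟨l, hl⟩ := h0
  rw [LinearMap.lcomp_apply'] at hl
  exact (Algebra.Extension.formallySmooth_iff_split_injection P.toExtension).mpr ⟨l, hl⟩

end T1

section KoszulLoc
variable {R : Type u} [CommRing R] {n : ℕ}

lemma mapRange_koszulGen {S : Type v} [CommRing S] (φ : R →+* S) (a : Fin n → R) (i j : Fin n) :
    Finsupp.mapRange φ (map_zero φ)
      (a i • Finsupp.single j (1 : R) - a j • Finsupp.single i (1 : R)) =
      φ (a i) • Finsupp.single j (1 : S) - φ (a j) • Finsupp.single i (1 : S) := by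
  ext l
  simp [Finsupp.single_apply, apply_ite φ]

lemma koszulSpan_map {S : Type v} [CommRing S] (φ : R →+* S) (a : Fin n → R) (c : Fin n →₀ R)
    (hc : c ∈ koszulSpan a) :
    Finsupp.mapRange φ (map_zero φ) c ∈ koszulSpan (fun i => φ (a i)) := by
  unfold koszulSpan at hc
  induction hc using Submodule.span_induction with
  | mem y hy =>
    obtain ⟨i, j, rfl⟩ := hy
    rw [mapRange_koszulGen]
    exact Submodule.subset_span ⟨i, j, rfl⟩
  | zero =>
    rw [Finsupp.mapRange_zero]
    exact Submodule.zero_mem _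
  | add x y _ _ hx hy =>
    rw [Finsupp.mapRange_add (map_add φ)]
    exact Submodule.add_mem _ hx hy
  | smul r x _ hx =>
    have : Finsupp.mapRange φ (map_zero φ) (r • x) = φ r • Finsupp.mapRange φ (map_zero φ) x := by
      ext l
      simp
    rw [this]
    exact Submodule.smul_mem _ _ hx

/-- clearing denominators in the Koszul span -/
lemma exists_smul_mem_koszulSpan (S : Submonoid R) (A : Type v) [CommRing A] [Algebra R A]
    [IsLocalization S A] (a : Fin n → R) (c : Fin n →₀ R)
    (h : Finsupp.mapRange (algebraMap R A) (map_zero _) c ∈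
      koszulSpan (fun i => algebraMap R A (a i))) :
    ∃ s ∈ S, s • c ∈ koszulSpan a := by
  classical
  -- every element of the Koszul span over `A` is, up to a denominator, the image of one over `R`
  have key : ∀ z ∈ koszulSpan (fun i => algebraMap R A (a i)),
      ∃ s ∈ S, ∃ m ∈ koszulSpan a,
        algebraMap R A s • z = Finsupp.mapRange (algebraMap R A) (map_zero _) m := by
    intro z hz
    unfold koszulSpan at hz
    induction hz using Submodule.span_induction with
    | mem y hy =>
      obtain ⟨i, j, rfl⟩ := hy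
      refine ⟨1, S.one_mem, a i • Finsupp.single j (1 : R) - a j • Finsupp.single i (1 : R),
        Submodule.subset_span ⟨i, j, rfl⟩, ?_⟩
      rw [map_one, one_smul]
      exact (mapRange_koszulGen (algebraMap R A) a i j).symm
    | zero => exact ⟨1, S.one_mem, 0, Submodule.zero_mem _, by simp⟩
    | add x y _ _ hx hy =>
      obtain ⟨s1, hs1, m1, hm1, e1⟩ := hx
      obtain ⟨s2, hs2, m2, hm2, e2⟩ := hy
      refine ⟨s1 * s2, S.mul_mem hs1 hs2, s2 • m1 + s1 • m2,
        Submodule.add_mem _ (Submodule.smul_mem _ _ hm1) (Submodule.smul_mem _ _ hm2), ?_⟩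
      ext l
      have e1' := DFunLike.congr_fun e1 l
      have e2' := DFunLike.congr_fun e2 l
      simp only [Finsupp.smul_apply, Finsupp.mapRange_apply, smul_eq_mul, Finsupp.add_apply,
        map_add, map_mul] at e1' e2' ⊢
      rw [← e1', ← e2']
      ring
    | smul r x _ hx =>
      obtain ⟨s1, hs1, m1, hm1, e1⟩ := hx
      obtain ⟨r0, t, hr⟩ := IsLocalization.exists_mk'_eq S r
      refine ⟨t * s1, S.mul_mem t.2 hs1, r0 • m1, Submodule.smul_mem _ _ hm1, ?_⟩
      ext l
      have e1' := DFunLike.congr_fun e1 l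
      have hr' : algebraMap R A t * r = algebraMap R A r0 := by
        rw [← hr, mul_comm, IsLocalization.mk'_spec]
      simp only [Finsupp.smul_apply, Finsupp.mapRange_apply, smul_eq_mul, map_mul] at e1' ⊢
      rw [← e1', ← hr']
      ring
  obtain ⟨s, hs, m, hm, e⟩ := key _ h
  -- `s • c - m` maps to zero, hence is killed by some `t ∈ S`
  have hcoord : ∀ l : Fin n, ∃ t : S, (t : R) * (s * c l - m l) = 0 := by
    intro l
    have e' := DFunLike.congr_fun e l
    simp only [Finsupp.smul_apply, Finsupp.mapRange_apply, smul_eq_mul] at e'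
    have : algebraMap R A (s * c l - m l) = 0 := by
      rw [map_sub, map_mul, e', sub_self]
    rw [IsLocalization.map_eq_zero_iff S] at this
    exact this
  choose t ht using hcoord
  refine ⟨(∏ l, (t l : R)) * s, S.mul_mem (S.prod_mem fun l _ => (t l).2) hs, ?_⟩
  have : ((∏ l, (t l : R)) * s) • c = (∏ l, (t l : R)) • m := by
    ext l
    simp only [Finsupp.smul_apply, smul_eq_mul]
    have h1 : (∏ l, (t l : R)) * (s * c l - m l) = 0 := by
      rw [← Finset.mul_prod_erase Finset.univ _ (Finset.mem_univ l), mul_right_comm, ht l,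
        zero_mul]
    rw [mul_sub] at h1
    rw [mul_assoc]
    exact sub_eq_zero.mp h1
  rw [this]
  exact Submodule.smul_mem _ _ hm

lemma mem_koszulSpan_of_forall_maximal (a : Fin n → R) (c : Fin n →₀ R)
    (h : ∀ 𝔫 : Ideal R, 𝔫.IsMaximal → ∃ s ∉ 𝔫, s • c ∈ koszulSpan a) : c ∈ koszulSpan a := by
  let J : Ideal R := (koszulSpan a).comap (LinearMap.toSpanSingleton R (Fin n →₀ R) c)
  by_cases hJ : J = ⊤
  · have h1 : (1 : R) ∈ J := by rw [hJ]; trivial
    have h2 : (1 : R) • c ∈ koszulSpan a := h1
    rwa [one_smul] at h2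
  · obtain ⟨𝔫, h𝔫, hle⟩ := Ideal.exists_le_maximal J hJ
    obtain ⟨s, hs, hsc⟩ := h 𝔫 h𝔫
    exact absurd (hle (show s ∈ J from hsc)) hs

end KoszulLoc

section Star
variable {k : Type u} {R : Type v} {B : Type w} [CommRing k] [CommRing R] [CommRing B]
  [Algebra k R] [Algebra R B] [Algebra k B] [IsScalarTower k R B]

open KaehlerDifferential

/-- conormal form of the Jacobian criterion: if `R` and `B = R/I` are formally smooth over `k`, then
`I ∩ 𝔫² ⊆ 𝔫 I` for every ideal `𝔫 ⊇ I`. -/
theorem mem_mul_ker_of_mem_sq [Algebra.FormallySmooth k R] [Algebra.FormallySmooth k B]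
    (hs : Function.Surjective (algebraMap R B)) (𝔫 : Ideal R)
    (h𝔫 : RingHom.ker (algebraMap R B) ≤ 𝔫) (x : R) (hxI : x ∈ RingHom.ker (algebraMap R B))
    (hx2 : x ∈ 𝔫 ^ 2) : x ∈ 𝔫 * RingHom.ker (algebraMap R B) := by
  obtain ⟨l, hl⟩ :=
    (Algebra.FormallySmooth.iff_split_injection (R := k) (P := R) (A := B) hs).mp inferInstance
  have h1 : ∀ y ∈ 𝔫 ^ 2, ((1 : B) ⊗ₜ[R] D k R y) ∈ (𝔫 • ⊤ : Submodule R (B ⊗[R] Ω[R⁄k])) := by
    intro y hy
    rw [pow_two] at hy
    refine Submodule.mul_induction_on hy ?_ ?_
    · intro u hu v hv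
      rw [Derivation.leibniz, TensorProduct.tmul_add, TensorProduct.tmul_smul,
        TensorProduct.tmul_smul]
      exact Submodule.add_mem _ (Submodule.smul_mem_smul hu trivial)
        (Submodule.smul_mem_smul hv trivial)
    · intro a b ha hb
      rw [map_add, TensorProduct.tmul_add]
      exact Submodule.add_mem _ ha hb
  have h2 : ∀ z ∈ (𝔫 • ⊤ : Submodule R (RingHom.ker (algebraMap R B)).Cotangent),
      ∃ y : RingHom.ker (algebraMap R B), (y : R) ∈ 𝔫 * RingHom.ker (algebraMap R B) ∧
        (RingHom.ker (algebraMap R B)).toCotangent y = z := by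
    intro z hz
    refine Submodule.smul_induction_on hz ?_ ?_
    · intro n hn z' _
      obtain ⟨y', rfl⟩ := (RingHom.ker (algebraMap R B)).toCotangent_surjective z'
      refine ⟨n • y', ?_, by rw [map_smul]⟩
      exact Ideal.mul_mem_mul hn y'.2
    · rintro _ _ ⟨y1, h1, rfl⟩ ⟨y2, h2, rfl⟩
      exact ⟨y1 + y2, Ideal.add_mem _ h1 h2, map_add _ _ _⟩
  have h3 : (RingHom.ker (algebraMap R B)).toCotangent ⟨x, hxI⟩ =
      l (kerCotangentToTensor k R B ((RingHom.ker (algebraMap R B)).toCotangent ⟨x, hxI⟩)) := by
    have := LinearMap.congr_fun hl ((RingHom.ker (algebraMap R B)).toCotangent ⟨x, hxI⟩)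
    rw [LinearMap.comp_apply, LinearMap.id_apply] at this
    exact this.symm
  rw [kerCotangentToTensor_toCotangent] at h3
  have h4 : l ((1 : B) ⊗ₜ[R] D k R x) ∈
      (𝔫 • ⊤ : Submodule R (RingHom.ker (algebraMap R B)).Cotangent) := by
    have := Submodule.mem_map_of_mem (f := l) (h1 x hx2)
    rw [Submodule.map_smul''] at this
    exact Submodule.smul_mono le_rfl le_top this
  rw [← h3] at h4
  obtain ⟨y, hy1, hy2⟩ := h2 _ h4
  rw [Ideal.toCotangent_eq] at hy2
  have h5 : RingHom.ker (algebraMap R B) ^ 2 ≤ 𝔫 * RingHom.ker (algebraMap R B) := by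
    rw [pow_two]
    exact Ideal.mul_mono_left h𝔫
  have h6 : x = y - (y - x) := by ring
  rw [h6]
  exact Ideal.sub_mem _ hy1 (h5 hy2)

end Star

section StarLoc
variable {R : Type u} [CommRing R]

/-- the conormal criterion localizes -/
lemma mem_mul_map_of_mem_sq (𝔫 : Ideal R) [𝔫.IsPrime] (I : Ideal R)
    (hstar : ∀ x ∈ I, x ∈ 𝔫 ^ 2 → x ∈ 𝔫 * I)
    (x' : Localization.AtPrime 𝔫)
    (hxI : x' ∈ I.map (algebraMap R (Localization.AtPrime 𝔫)))
    (hx2 : x' ∈ IsLocalRing.maximalIdeal (Localization.AtPrime 𝔫) ^ 2) :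
    x' ∈ IsLocalRing.maximalIdeal (Localization.AtPrime 𝔫) *
      I.map (algebraMap R (Localization.AtPrime 𝔫)) := by
  rw [← Localization.AtPrime.map_eq_maximalIdeal, ← Ideal.map_pow] at hx2
  rw [← Localization.AtPrime.map_eq_maximalIdeal, ← Ideal.map_mul]
  rw [IsLocalization.mem_map_algebraMap_iff 𝔫.primeCompl] at hxI hx2 ⊢
  obtain ⟨⟨y, s⟩, hys⟩ := hxI
  obtain ⟨⟨z, t⟩, hzt⟩ := hx2
  simp only at hys hzt
  have h1 : algebraMap R (Localization.AtPrime 𝔫) ((y : R) * t) =
      algebraMap R (Localization.AtPrime 𝔫) ((z : R) * s) := by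
    rw [map_mul, map_mul, ← hys, ← hzt]
    ring
  obtain ⟨u, hu⟩ := (IsLocalization.eq_iff_exists 𝔫.primeCompl _).mp h1
  have hw : (u : R) * ((y : R) * t) ∈ 𝔫 * I := by
    apply hstar
    · exact I.mul_mem_left _ (I.mul_mem_right _ y.2)
    · rw [hu]
      exact Ideal.mul_mem_left _ _ (Ideal.mul_mem_right _ _ z.2)
  refine ⟨⟨⟨(u : R) * ((y : R) * t), hw⟩, u * s * t⟩, ?_⟩
  simp only
  rw [Submonoid.coe_mul, Submonoid.coe_mul, map_mul, map_mul, map_mul, map_mul, ← hys]
  ring

end StarLoc

section General2
variable {A : Type u} {B : Type v} {ι : Type w} {σ : Type t}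
variable [CommRing A] [CommRing B] [Algebra A B]
variable (P : Algebra.Presentation A B ι σ)

lemma d2_injective_of_T2 (hT : Subsingleton (T2 P (L2 P))) : Function.Injective (d2 P) := by
  have h0 : toT2 P (L2 P) LinearMap.id = 0 := Subsingleton.elim _ _
  have h1 : (LinearMap.id : L2 P →ₗ[B] L2 P) ∈ LinearMap.range (d2Star P (L2 P)) := by
    unfold toT2 at h0
    rw [Submodule.mkQ_apply, Submodule.Quotient.mk_eq_zero] at h0
    exact h0
  obtain ⟨φ, hφ⟩ := h1
  rw [d2Star_apply] at hφ
  intro x y hxy
  have hx := LinearMap.congr_fun hφ x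
  have hy := LinearMap.congr_fun hφ y
  rw [LinearMap.comp_apply, LinearMap.id_apply] at hx hy
  rw [← hx, ← hy, hxy]

lemma one_tmul_eq_zero_of_coeff (q : relMod P)
    (h : ∀ s, algebraMap P.toExtension.Ring B (q s) = 0) :
    (1 : B) ⊗ₜ[P.toExtension.Ring] q = (0 : L1 P) := by
  classical
  have hq : q = ∑ s ∈ q.support, q s • Finsupp.single s (1 : P.toExtension.Ring) := by
    conv_lhs => rw [← Finsupp.sum_single q]
    rw [Finsupp.sum]
    refine Finset.sum_congr rfl fun s _ => ?_
    rw [Finsupp.smul_single, smul_eq_mul, mul_one]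
  rw [hq, TensorProduct.tmul_sum]
  refine Finset.sum_eq_zero fun s _ => ?_
  rw [← TensorProduct.smul_tmul, Algebra.smul_def, mul_one, h s, TensorProduct.zero_tmul]

lemma coeff_of_one_tmul_eq_zero (q : relMod P)
    (h : (1 : B) ⊗ₜ[P.toExtension.Ring] q = (0 : L1 P)) (s : σ) :
    algebraMap P.toExtension.Ring B (q s) = 0 := by
  have h1 := congrArg (fun z => (L1basis P).repr z s) h
  simp only [map_zero, Finsupp.zero_apply] at h1
  unfold L1basis at h1
  rw [Algebra.TensorProduct.basis_repr_tmul, one_smul, Finsupp.mapRange_apply,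
    Finsupp.basisSingleOne_repr] at h1
  exact h1

lemma koszulSpan_le_trivRel {n : ℕ} (P : Algebra.Presentation A B ι (Fin n)) :
    koszulSpan (rel P) ≤ trivRel P := by
  refine Submodule.span_le.2 ?_
  rintro _ ⟨i, j, rfl⟩
  refine Submodule.subset_span ⟨Finsupp.single i 1, Finsupp.single j 1, ?_⟩
  rw [jmap_single, jmap_single, one_mul, one_mul]

end General2

section Tight
variable {R : Type u} [CommRing R] {n : ℕ}

/-- every relation with coefficients in the ideal is a Koszul relation -/
def IsTight (a : Fin n → R) : Prop :=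
  ∀ c : Fin n →₀ R, Finsupp.linearCombination R a c = 0 →
    (∀ i, c i ∈ Ideal.span (Set.range a)) → c ∈ koszulSpan a

end Tight

section TightT2
variable {A : Type u} {B : Type v} [CommRing A] [CommRing B] [Algebra A B]
variable (hs : Function.Surjective (algebraMap A B)) {n : ℕ} (a : Fin n → A)
  (hI : RingHom.ker (algebraMap A B) = Ideal.span (Set.range a))

theorem isTight_of_T2
    (hT : Subsingleton (T2 (quotPres.{u, v, w} hs a hI) (L2 (quotPres.{u, v, w} hs a hI)))) :
    IsTight a := by
  classical
  set P := quotPres.{u, v, w} hs a hI with hP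
  let φ : MvPolynomial PEmpty.{w + 1} A ≃+* A := MvPolynomial.isEmptyRingEquiv A PEmpty.{w + 1}
  have hφC : ∀ x : A, φ (MvPolynomial.C x) = x := by
    intro x
    have : (MvPolynomial.C x : MvPolynomial PEmpty.{w + 1} A) = φ.symm x := by
      rw [MvPolynomial.isEmptyRingEquiv_symm_apply]
    rw [this, φ.apply_symm_apply]
  have hinj : Function.Injective (d2 P) := d2_injective_of_T2 P hT
  intro c hc hcI
  let q : relMod P := Finsupp.mapRange (MvPolynomial.C : A →+* MvPolynomial PEmpty.{w + 1} A)
    (map_zero _) c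
  have hq : q ∈ relKer P := by
    change jmap P q = 0
    unfold jmap
    rw [Finsupp.linearCombination_apply, Finsupp.sum_fintype _ _ (by simp)] at hc ⊢
    have h2 := congrArg (MvPolynomial.C : A →+* MvPolynomial PEmpty.{w + 1} A) hc
    rw [map_sum, map_zero] at h2
    refine Eq.trans ?_ h2
    refine Finset.sum_congr rfl fun i _ => ?_
    exact (map_mul (MvPolynomial.C : A →+* MvPolynomial PEmpty.{w + 1} A) (c i) (a i)).symm
  have hd : d2 P (kappa P ⟨q, hq⟩) = 0 := by
    unfold kappa
    rw [d2_mk_tmul]
    refine one_tmul_eq_zero_of_coeff P q fun s => ?_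
    rw [algebraMap_toExtension]
    have h3 : c s ∈ RingHom.ker (algebraMap A B) := by rw [hI]; exact hcI s
    exact (MvPolynomial.aeval_C _ _).trans h3
  have hk : kappa P ⟨q, hq⟩ = 0 := hinj (hd.trans (map_zero _).symm)
  have hq' : q ∈ trivRel P := (kappa_eq_zero_iff P _).mp hk
  have hq'' := trivRel_le_koszulSpan P hq'
  have h5 := koszulSpan_map (φ : MvPolynomial PEmpty.{w + 1} A →+* A) (rel P) q hq''
  have h6 : (fun i => (φ : MvPolynomial PEmpty.{w + 1} A →+* A) (rel P i)) = a := by
    funext i
    exact hφC (a i)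
  have h7 : Finsupp.mapRange (φ : MvPolynomial PEmpty.{w + 1} A →+* A) (map_zero _) q = c := by
    ext i
    rw [Finsupp.mapRange_apply]
    exact hφC (c i)
  rw [h6, h7] at h5
  exact h5

end TightT2

section TightGen
variable {A : Type u} [CommRing A]

/-- if an ideal is generated by a regular family, then every finite generating family is tight -/
theorem isTight_of_isRegFamily_generators {n r : ℕ} (a : Fin n → A) (g : Fin r → A)
    (hag : Ideal.span (Set.range a) = Ideal.span (Set.range g)) (hg : IsRegFamily g) :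
    IsTight a := by
  have hs : Function.Surjective (algebraMap A (A ⧸ Ideal.span (Set.range a))) :=
    Ideal.Quotient.mk_surjective
  have hker : RingHom.ker (algebraMap A (A ⧸ Ideal.span (Set.range a))) =
      Ideal.span (Set.range a) := by
    rw [Ideal.Quotient.algebraMap_eq]
    exact Ideal.mk_ker
  refine isTight_of_T2.{u, u, 0} hs a hker ?_
  have h1 := subsingleton_T2_quotPres.{u, u, 0, u} hs g (hker.trans hag) hg
    (L2 (quotPres.{u, u, 0} hs a hker))
  exact subsingleton_T2_of_subsingleton (quotPres.{u, u, 0} hs g (hker.trans hag))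
    (quotPres.{u, u, 0} hs a hker) _ h1

end TightGen

section LocalReg
variable {A : Type u} [CommRing A] [IsRegularLocalRing A]

/-- In a regular local ring, a proper ideal `I` with `I ∩ 𝔪² ⊆ 𝔪 I` is generated by a regular
sequence. -/
theorem exists_regular_generators (I : Ideal A) (hI : I ≠ ⊤)
    (hstar : ∀ x ∈ I, x ∈ IsLocalRing.maximalIdeal A ^ 2 → x ∈ IsLocalRing.maximalIdeal A * I) :
    ∃ rs : List A, Ideal.ofList rs = I ∧ IsRegFamily (fun i : Fin rs.length => rs[i]) := by
  classical
  have hIm : I ≤ IsLocalRing.maximalIdeal A := IsLocalRing.le_maximalIdeal hI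
  obtain ⟨rs, hrs, hmin⟩ := exists_minimal_list I
  refine ⟨rs, hrs, ?_⟩
  have hmem : ∀ i : Fin rs.length, rs[i] ∈ I := by
    intro i
    rw [← hrs]
    exact Ideal.subset_span (List.getElem_mem i.2)
  have hind : ∀ b : Fin rs.length → A, ∑ j, b j * rs[j] ∈ IsLocalRing.maximalIdeal A ^ 2 →
      ∀ j, b j ∈ IsLocalRing.maximalIdeal A := by
    intro b hb
    have hxI : ∑ j, b j * rs[j] ∈ I := Ideal.sum_mem _ fun j _ => Ideal.mul_mem_left _ _ (hmem j)
    have h1 := hstar _ hxI hb
    -- write the element of `𝔪 I` as a combination with coefficients in `𝔪`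
    have h2 : ∀ y ∈ IsLocalRing.maximalIdeal A * I, ∃ d : Fin rs.length → A,
        (∀ j, d j ∈ IsLocalRing.maximalIdeal A) ∧ y = ∑ j, d j * rs[j] := by
      intro y hy
      refine Submodule.mul_induction_on hy ?_ ?_
      · intro u hu v hv
        rw [← hrs] at hv
        have hv' : v ∈ Ideal.span (Set.range (fun i : Fin rs.length => rs[i])) := by
          have : Set.range (fun i : Fin rs.length => rs[i]) = {x | x ∈ rs} := by
            ext x
            simp only [Set.mem_range, Set.mem_ofPred_eq]
            constructor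
            · rintro ⟨i, rfl⟩
              exact List.getElem_mem i.2
            · intro hx
              obtain ⟨i, hi, rfl⟩ := List.mem_iff_getElem.mp hx
              exact ⟨⟨i, hi⟩, rfl⟩
          rw [this]
          exact hv
        obtain ⟨e, he⟩ := (Ideal.mem_span_range_iff_exists_fun).mp hv'
        refine ⟨fun j => u * e j, fun j => Ideal.mul_mem_right _ _ hu, ?_⟩
        rw [← he, Finset.mul_sum]
        refine Finset.sum_congr rfl fun j _ => ?_
        rw [mul_assoc]
      · rintro _ _ ⟨d1, hd1, rfl⟩ ⟨d2, hd2, rfl⟩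
        refine ⟨fun j => d1 j + d2 j, fun j => Ideal.add_mem _ (hd1 j) (hd2 j), ?_⟩
        rw [← Finset.sum_add_distrib]
        refine Finset.sum_congr rfl fun j _ => ?_
        rw [add_mul]
    obtain ⟨d, hd, hyd⟩ := h2 _ h1
    intro j
    have h3 : Finsupp.linearCombination A (fun i : Fin rs.length => rs[i])
        (Finsupp.equivFunOnFinite.symm (fun j => b j - d j)) = 0 := by
      rw [Finsupp.linearCombination_apply, Finsupp.sum_fintype _ _ (by simp)]
      simp only [Finsupp.equivFunOnFinite_symm_apply_apply, smul_eq_mul, sub_mul]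
      rw [Finset.sum_sub_distrib, hyd, sub_self]
    have h4 := coeff_mem_maximalIdeal_of_minimal rs
      (fun rs' hrs' => hmin rs' (hrs'.trans hrs)) _ h3 j
    rw [Finsupp.equivFunOnFinite_symm_apply_apply] at h4
    have : b j = (b j - d j) + d j := by ring
    rw [this]
    exact Ideal.add_mem _ h4 (hd j)
  have h5 := (Groth.Agent.Lib.Helper12.isRegularLocalRing_quotient_and_isRegular_of_indep
    rs.length A (fun i : Fin rs.length => rs[i]) (fun i => hIm (hmem i)) hind).2
  have h6 : List.ofFn (fun i : Fin rs.length => rs[i]) = rs := List.ofFn_getElem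
  rw [h6] at h5
  exact isRegFamily_of_isWeaklyRegular rs h5.toIsWeaklyRegular

end LocalReg

section T2side
variable {A : Type u} {B : Type v} {ι : Type w} {σ : Type t}
variable [CommRing A] [CommRing B] [Algebra A B]
variable (P : Algebra.Presentation A B ι σ)

theorem subsingleton_T2_of_d2_injective [Module.Projective B P.toExtension.Cotangent]
    (hinj : Function.Injective (d2 P)) (M : Type m) [AddCommGroup M] [Module B M] :
    Subsingleton (T2 P M) := by
  obtain ⟨s, hs⟩ := Module.projective_lifting_property (toCot P) LinearMap.id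
    (Groth.Agent.Lib27.CotTL.toCot_surjective P)
  let π : L1 P →ₗ[B] L1 P := LinearMap.id - s ∘ₗ toCot P
  have hπ : ∀ x, π x ∈ LinearMap.range (d2 P) := by
    intro x
    apply Groth.Agent.Lib27.CotTL.ker_toCot_le_range_d2 P
    rw [LinearMap.mem_ker]
    change toCot P (x - s (toCot P x)) = 0
    rw [map_sub]
    have := LinearMap.congr_fun hs (toCot P x)
    rw [LinearMap.comp_apply, LinearMap.id_apply] at this
    rw [this, sub_self]
  let e := LinearEquiv.ofInjective (d2 P) hinj
  let φ : L1 P →ₗ[B] L2 P := e.symm.toLinearMap ∘ₗ π.codRestrict (LinearMap.range (d2 P)) hπ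
  have hφ : ∀ y, φ (d2 P y) = y := by
    intro y
    change e.symm (π.codRestrict (LinearMap.range (d2 P)) hπ (d2 P y)) = y
    have h1 : π.codRestrict (LinearMap.range (d2 P)) hπ (d2 P y) = e y := by
      apply Subtype.ext
      change d2 P y - s (toCot P (d2 P y)) = d2 P y
      have h2 : toCot P (d2 P y) = 0 := by
        have := LinearMap.congr_fun (toCot_comp_d2 P) y
        rw [LinearMap.comp_apply, LinearMap.zero_apply] at this
        exact this
      rw [h2, map_zero, sub_zero]
    rw [h1, e.symm_apply_apply]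
  refine subsingleton_of_forall_eq 0 fun t => ?_
  induction t using Submodule.Quotient.induction_on with
  | H ψ =>
    rw [Submodule.Quotient.mk_eq_zero]
    refine ⟨ψ ∘ₗ φ, ?_⟩
    rw [d2Star_apply]
    refine LinearMap.ext fun y => ?_
    rw [LinearMap.comp_apply, LinearMap.comp_apply, hφ]

lemma projective_cotangent_of_formallySmooth [Algebra.FormallySmooth A B] :
    Module.Projective B P.toExtension.Cotangent := by
  obtain ⟨l, hl⟩ := (Algebra.Extension.formallySmooth_iff_split_injection P.toExtension).mp
    inferInstance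
  have : Module.Free B P.toExtension.CotangentSpace := Module.Free.of_basis P.cotangentSpaceBasis
  exact Module.Projective.of_split P.toExtension.cotangentComplex l hl

lemma d2_injective_of_isTight {n : ℕ} (P : Algebra.Presentation A B ι (Fin n))
    (h : IsTight (rel P)) : Function.Injective (d2 P) := by
  rw [injective_iff_map_eq_zero]
  intro x hx
  obtain ⟨q, rfl⟩ := kappa_surjective P x
  unfold kappa at hx
  rw [d2_mk_tmul] at hx
  have h1 := coeff_of_one_tmul_eq_zero P (q : relMod P) hx
  have h2 : (q : relMod P) ∈ koszulSpan (rel P) := by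
    refine h _ q.2 fun i => ?_
    have : Ideal.span (Set.range (rel P)) = P.ker := P.span_range_relation_eq_ker
    rw [this]
    exact h1 i
  exact (kappa_eq_zero_iff P q).mpr (koszulSpan_le_trivRel P h2)

end T2side

section Main
variable {k : Type u} {B : Type v} {ι : Type w} [CommRing k] [CommRing B] [Algebra k B]

lemma span_range_getElem {A : Type u} [CommRing A] (rs : List A) :
    Ideal.span (Set.range (fun i : Fin rs.length => rs[i])) = Ideal.ofList rs := by
  unfold Ideal.ofList
  congr 1
  ext x
  simp only [Set.mem_range, Set.mem_ofPred_eq]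
  constructor
  · rintro ⟨i, rfl⟩
    exact List.getElem_mem i.2
  · intro hx
    obtain ⟨i, hi, rfl⟩ := List.mem_iff_getElem.mp hx
    exact ⟨⟨i, hi⟩, rfl⟩

/-- For a finite presentation `B = R/(f_1..f_n)` of a formally smooth algebra over `k` with `R` a regular
ring, every relation among the `f_i` with coefficients in the ideal is a Koszul relation. -/
theorem isTight_of_formallySmooth {n : ℕ} (P : Algebra.Presentation k B ι (Fin n))
    [IsRegularRing P.toExtension.Ring] [Algebra.FormallySmooth k B] : IsTight (rel P) := by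
  classical
  intro c hc hcI
  refine mem_koszulSpan_of_forall_maximal (rel P) c fun 𝔫 h𝔫 => ?_
  have hker : RingHom.ker (algebraMap P.toExtension.Ring B) = Ideal.span (Set.range (rel P)) :=
    P.span_range_relation_eq_ker.symm
  by_cases hle : Ideal.span (Set.range (rel P)) ≤ 𝔫
  · have := h𝔫.isPrime
    have hreg : IsRegularLocalRing (Localization.AtPrime 𝔫) := inferInstance
    have hI'top : (Ideal.span (Set.range (rel P))).map
        (algebraMap P.toExtension.Ring (Localization.AtPrime 𝔫)) ≠ ⊤ := by
      intro htop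
      have h1 := Ideal.map_mono (f := algebraMap P.toExtension.Ring (Localization.AtPrime 𝔫)) hle
      rw [htop, Localization.AtPrime.map_eq_maximalIdeal, top_le_iff] at h1
      exact (IsLocalRing.maximalIdeal.isMaximal _).ne_top h1
    have hstar : ∀ x ∈ Ideal.span (Set.range (rel P)), x ∈ 𝔫 ^ 2 →
        x ∈ 𝔫 * Ideal.span (Set.range (rel P)) := by
      intro x hx hx2
      have h1 := mem_mul_ker_of_mem_sq (k := k) (R := P.toExtension.Ring) (B := B)
        P.toExtension.algebraMap_surjective 𝔫 (hker ▸ hle) x (hker ▸ hx) hx2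
      rw [hker] at h1
      exact h1
    obtain ⟨rs, hrs, hregfam⟩ := exists_regular_generators _ hI'top
      (fun x hx hx2 => mem_mul_map_of_mem_sq 𝔫 _ hstar x hx hx2)
    have hf' : Ideal.span (Set.range (fun i =>
        algebraMap P.toExtension.Ring (Localization.AtPrime 𝔫) (rel P i))) =
        (Ideal.span (Set.range (rel P))).map
          (algebraMap P.toExtension.Ring (Localization.AtPrime 𝔫)) := by
      rw [Ideal.map_span, ← Set.range_comp]
      rfl
    have htight : IsTight (fun i =>
        algebraMap P.toExtension.Ring (Localization.AtPrime 𝔫) (rel P i)) :=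
      isTight_of_isRegFamily_generators _ _
        (hf'.trans (hrs.symm.trans (span_range_getElem rs).symm)) hregfam
    have hc' : Finsupp.mapRange (algebraMap P.toExtension.Ring (Localization.AtPrime 𝔫))
        (map_zero _) c ∈ koszulSpan (fun i =>
          algebraMap P.toExtension.Ring (Localization.AtPrime 𝔫) (rel P i)) := by
      apply htight
      · rw [Finsupp.linearCombination_apply, Finsupp.sum_fintype _ _ (by simp)] at hc ⊢
        have h2 := congrArg (algebraMap P.toExtension.Ring (Localization.AtPrime 𝔫)) hc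
        rw [map_sum, map_zero] at h2
        refine Eq.trans ?_ h2
        refine Finset.sum_congr rfl fun i _ => ?_
        rw [Finsupp.mapRange_apply, smul_eq_mul, smul_eq_mul, map_mul]
      · intro i
        rw [hf', Finsupp.mapRange_apply]
        exact Ideal.mem_map_of_mem _ (hcI i)
    obtain ⟨s, hs, hsc⟩ := exists_smul_mem_koszulSpan 𝔫.primeCompl (Localization.AtPrime 𝔫)
      (rel P) c hc'
    exact ⟨s, hs, hsc⟩
  · have hex : ∃ i, rel P i ∉ 𝔫 := by
      by_contra hcon
      simp only [not_exists, not_not] at hcon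
      apply hle
      rw [Ideal.span_le]
      rintro _ ⟨i, rfl⟩
      exact hcon i
    obtain ⟨i, hi⟩ := hex
    refine ⟨rel P i, hi, ?_⟩
    have h1 := lincomb_smul_single_sub_mem (rel P) i c
    rw [hc, zero_smul, zero_sub] at h1
    exact (Submodule.neg_mem_iff _).mp h1

/-- `T²` of a formally smooth algebra vanishes, computed from a finite presentation over a regular
polynomial ring. -/
theorem subsingleton_T2_of_formallySmooth {n : ℕ} (P : Algebra.Presentation k B ι (Fin n))
    [IsRegularRing P.toExtension.Ring] [Algebra.FormallySmooth k B]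
    (M : Type m) [AddCommGroup M] [Module B M] : Subsingleton (T2 P M) := by
  have := projective_cotangent_of_formallySmooth P
  exact subsingleton_T2_of_d2_injective P (d2_injective_of_isTight P (isTight_of_formallySmooth P)) M

end Main

end Groth.Agent.Lib.Helper1.CotTSmooth
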