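import Groth.Agent.Lib.Helper1.CotTLoc
import Groth.Agent.Lib.Helper1.CotTSmooth
import Groth.Agent.Lib.Helper1.CotTComp
import Groth.Agent.Lib.Helper1.CotTHom

/-!
# Finiteness of `T¹` for an algebra with finitely many non-smooth points (helper1)
-/

universe u

open TensorProduct CotT

namespace Groth.Agent.Lib.Helper1.CotTFinite

section CommAlg

/-- in a Jacobson ring with finitely many primes every prime is maximal -/
theorem isMaximal_of_isPrime_of_finite {R : Type*} [CommRing R] [IsJacobsonRing R] [Finite (PrimeSpectrum R)]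
    (p : Ideal R) [hp : p.IsPrime] : p.IsMaximal := by
  classical
  have hj : p.jacobson = p := (isJacobsonRing_iff_prime_eq.1 inferInstance) p hp
  let S : Set (PrimeSpectrum R) := {q | p ≤ q.asIdeal ∧ q.asIdeal.IsMaximal}
  have hS : S.Finite := Set.toFinite S
  have h1 : hS.toFinset.inf (fun q => q.asIdeal) ≤ p := by
    conv_rhs => rw [← hj]
    rw [Ideal.jacobson]
    refine le_sInf fun J hJ => ?_
    have hJm : J.IsMaximal := hJ.2
    have hmem : (⟨J, hJm.isPrime⟩ : PrimeSpectrum R) ∈ hS.toFinset := by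
      rw [Set.Finite.mem_toFinset]
      exact ⟨hJ.1, hJm⟩
    exact Finset.inf_le (f := fun q : PrimeSpectrum R => q.asIdeal) hmem
  obtain ⟨q, hq, hqp⟩ := (Ideal.IsPrime.inf_le' hp).1 h1
  rw [Set.Finite.mem_toFinset] at hq
  have : q.asIdeal = p := le_antisymm hqp hq.1
  rw [← this]
  exact hq.2

theorem exists_pow_mem_annihilator {R M : Type*} [CommRing R] [AddCommGroup M] [Module R M] [Module.Finite R M]
    (g : R) (h : ∀ x : M, ∃ n : ℕ, g ^ n • x = 0) : ∃ N : ℕ, g ^ N ∈ Module.annihilator R M := by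
  classical
  obtain ⟨s, hs⟩ := (Module.Finite.fg_top : (⊤ : Submodule R M).FG)
  choose n hn using h
  refine ⟨s.sup n, ?_⟩
  rw [Module.mem_annihilator]
  intro m
  have hm : m ∈ Submodule.span R (s : Set M) := by rw [hs]; trivial
  induction hm using Submodule.span_induction with
  | mem x hx =>
    have hle : n x ≤ s.sup n := Finset.le_sup (f := n) hx
    obtain ⟨d, hd⟩ := Nat.exists_eq_add_of_le hle
    rw [hd, pow_add, mul_comm, mul_smul, hn, smul_zero]
  | zero => rw [smul_zero]
  | add x y _ _ hx hy => rw [smul_add, hx, hy, add_zero]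
  | smul a x _ hx => rw [smul_comm, hx, smul_zero]

/-- a finite module over a finitely generated algebra over a field whose annihilator has finite zero locus is
finite dimensional -/
theorem finite_of_finite_zeroLocus_annihilator (k B T : Type*) [Field k] [CommRing B] [Algebra k B]
    [Algebra.FiniteType k B] [AddCommGroup T] [Module B T] [Module.Finite B T] [Module k T] [IsScalarTower k B T]
    (h : (PrimeSpectrum.zeroLocus (Module.annihilator B T : Set B)).Finite) : Module.Finite k T := by
  let 𝔞 := Module.annihilator B T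
  letI : Module (B ⧸ 𝔞) T := Module.quotientAnnihilator
  have hfin : Finite (PrimeSpectrum (B ⧸ 𝔞)) := by
    have hinj := PrimeSpectrum.comap_injective_of_surjective (Ideal.Quotient.mk 𝔞) Ideal.Quotient.mk_surjective
    have hrange : Set.range (PrimeSpectrum.comap (Ideal.Quotient.mk 𝔞)) = PrimeSpectrum.zeroLocus (𝔞 : Set B) := by
      rw [_root_.range_comap_of_surjective _ _ Ideal.Quotient.mk_surjective, Ideal.mk_ker]
    have : (Set.range (PrimeSpectrum.comap (Ideal.Quotient.mk 𝔞))).Finite := by rw [hrange]; exact h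
    exact Set.finite_univ_iff.1 (Set.Finite.of_finite_image (by rwa [Set.image_univ]) hinj.injOn)
  haveI : IsJacobsonRing B := isJacobsonRing_of_finiteType (A := k) (B := B)
  have hdim : Ring.KrullDimLE 0 (B ⧸ 𝔞) :=
    Ring.krullDimLE_zero_iff.2 fun I hI => isMaximal_of_isPrime_of_finite I
  have hQ : Module.Finite k (B ⧸ 𝔞) := (Module.finite_iff_krullDimLE_zero k (B ⧸ 𝔞)).2 hdim
  have : IsScalarTower B (B ⧸ 𝔞) T := by
    refine ⟨fun b q t => ?_⟩
    obtain ⟨b', rfl⟩ := Ideal.Quotient.mk_surjective q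
    change (Ideal.Quotient.mk 𝔞 (b * b')) • t = b • (Ideal.Quotient.mk 𝔞 b') • t
    change (b * b') • t = b • b' • t
    rw [mul_smul]
  have : Module.Finite (B ⧸ 𝔞) T := Module.Finite.of_restrictScalars_finite B (B ⧸ 𝔞) T
  have : IsScalarTower k (B ⧸ 𝔞) T := by
    refine ⟨fun c q t => ?_⟩
    obtain ⟨b', rfl⟩ := Ideal.Quotient.mk_surjective q
    change (Ideal.Quotient.mk 𝔞 (c • b')) • t = c • (Ideal.Quotient.mk 𝔞 b') • t
    change (c • b') • t = c • b' • t
    rw [smul_assoc]
  exact Module.Finite.trans (B ⧸ 𝔞) T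

end CommAlg

section T1

variable {k B : Type u} [CommRing k] [CommRing B] [Algebra k B] {ι σ : Type u}
  (P : Algebra.Presentation k B ι σ)

theorem finite_T1 [Finite σ] [IsNoetherianRing B] : Module.Finite B (T1 P B) := by
  haveI : Module.Finite B (L1 P) := Module.Finite.of_basis (L1basis P)
  haveI : Module.Free B (L1 P) := Module.Free.of_basis (L1basis P)
  haveI : Module.Finite B (L1 P →ₗ[B] B) := inferInstance
  haveI : IsNoetherian B (L1 P →ₗ[B] B) := isNoetherian_of_isNoetherianRing_of_finite B _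
  infer_instance

/-- if `T¹` with coefficients in `B_g` vanishes then every class in `T¹(B/k, B)` is killed by a power of `g` -/
theorem exists_pow_smul_eq_zero [Finite ι] [Finite σ] (g : B) (C : Type u) [CommRing C] [Algebra B C]
    [IsLocalization.Away g C] (hC : Subsingleton (T1 P C)) (x : T1 P B) : ∃ n : ℕ, g ^ n • x = 0 := by
  classical
  obtain ⟨φ, rfl⟩ := Submodule.Quotient.mk_surjective _ x
  have h0 : (Submodule.Quotient.mk (cocycles1Map P (Algebra.linearMap B C) φ) : T1 P C) = 0 :=
    Subsingleton.elim _ _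
  rw [Submodule.Quotient.mk_eq_zero] at h0
  obtain ⟨ψ, hψ⟩ := h0
  have hψ' : ∀ y, ψ (d1 P y) = algebraMap B C ((φ : L1 P →ₗ[B] B) y) := fun y =>
    LinearMap.congr_fun hψ y
  obtain ⟨b, hb⟩ := IsLocalization.exist_integer_multiples_of_finite (Submonoid.powers g)
    (fun i => ψ (P.cotangentSpaceBasis i))
  choose β hβ using hb
  let ψ' : L0 P →ₗ[B] B := P.cotangentSpaceBasis.constr B β
  have h1 : ∀ z, algebraMap B C (ψ' z) = (b : B) • ψ z := by
    intro z
    have : (Algebra.linearMap B C) ∘ₗ ψ' = (b : B) • ψ := by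
      apply P.cotangentSpaceBasis.ext
      intro i
      rw [LinearMap.comp_apply, Module.Basis.constr_basis, LinearMap.smul_apply]
      exact hβ i
    exact LinearMap.congr_fun this z
  let χ : L1 P →ₗ[B] B := (b : B) • (φ : L1 P →ₗ[B] B) - ψ' ∘ₗ d1 P
  have h2 : ∀ y, algebraMap B C (χ y) = 0 := by
    intro y
    change algebraMap B C ((b : B) • (φ : L1 P →ₗ[B] B) y - ψ' (d1 P y)) = 0
    rw [map_sub, h1, hψ', smul_eq_mul, map_mul, Algebra.smul_def, sub_self]
  have h3 : ∀ s, ∃ m : Submonoid.powers g, (m : B) * χ (L1basis P s) = 0 := fun s =>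
    (IsLocalization.map_eq_zero_iff (Submonoid.powers g) C _).1 (h2 _)
  choose m hm using h3
  cases nonempty_fintype σ
  let M : Submonoid.powers g := ∏ s, m s
  have hM : ∀ s, (M : B) * χ (L1basis P s) = 0 := by
    intro s
    obtain ⟨c, hc⟩ := Finset.dvd_prod_of_mem m (Finset.mem_univ s)
    have : (M : B) = (c : B) * (m s : B) := by
      change ((∏ s, m s : Submonoid.powers g) : B) = _
      rw [hc, Submonoid.coe_mul, mul_comm]
    rw [this, mul_assoc, hm, mul_zero]
  have h4 : (M : B) • χ = 0 := by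
    apply (L1basis P).ext
    intro s
    rw [LinearMap.smul_apply, smul_eq_mul, hM, LinearMap.zero_apply]
  have h5 : (M : B) • (b : B) • (φ : L1 P →ₗ[B] B) = ((M : B) • ψ') ∘ₗ d1 P := by
    have : (M : B) • χ = (M : B) • (b : B) • (φ : L1 P →ₗ[B] B) - ((M : B) • ψ') ∘ₗ d1 P := by
      change (M : B) • ((b : B) • (φ : L1 P →ₗ[B] B) - ψ' ∘ₗ d1 P) = _
      rw [smul_sub, LinearMap.smul_comp]
    rw [this, sub_eq_zero] at h4
    exact h4
  obtain ⟨n, hn⟩ := (M * b).2
  refine ⟨n, ?_⟩
  rw [← Submodule.Quotient.mk_smul, Submodule.Quotient.mk_eq_zero]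
  refine ⟨(M : B) • ψ', ?_⟩
  change ((M : B) • ψ') ∘ₗ d1 P = g ^ n • (φ : L1 P →ₗ[B] B)
  have hn' : g ^ n = (M : B) * (b : B) := hn
  rw [← h5, hn', mul_smul]

end T1

section Main

variable {k B : Type u} [Field k] [CommRing B] [Algebra k B] {ι σ : Type u}
  (P : Algebra.Presentation k B ι σ)

/-- `T¹(B/k, M) = 0` for `M` a module over a formally smooth localization `B_g` -/
theorem subsingleton_T1_away (g : B) (hfs : Algebra.FormallySmooth k (Localization.Away g)) :
    Subsingleton (T1 P (Localization.Away g)) := by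
  have h1 : Subsingleton (T1 (CotT.canon k (Localization.Away g)) (Localization.Away g)) :=
    Groth.Agent.Lib.Helper1.CotTSmooth.subsingleton_T1_of_formallySmooth
      (CotT.canon k (Localization.Away g)) (Localization.Away g)
  have h2 : Subsingleton (T2 (Groth.Agent.Lib.Helper1.CotTLoc.locPres (Submonoid.powers g)
      (Localization.Away g)) (Localization.Away g)) :=
    Groth.Agent.Lib.Helper1.CotTLoc.subsingleton_T2_locPres _ _ _
  obtain ⟨a⟩ := Groth.Agent.Lib.Helper1.CotTHom.exists_presHom P (CotT.canon k (Localization.Away g))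
  obtain ⟨b⟩ := Groth.Agent.Lib.Helper1.CotTHom.exists_presHom (CotT.canon k (Localization.Away g))
    (Groth.Agent.Lib.Helper1.CotTLoc.locPres (Submonoid.powers g) (Localization.Away g))
  obtain ⟨_, _, _, _, δ₀, δ₁, _, _, e3, _⟩ :=
    Groth.Agent.Lib.Helper1.CotTComp.nine_general a b (Localization.Away g)
  refine subsingleton_of_forall_eq 0 fun x => ?_
  have h0 : δ₁ x = 0 := Subsingleton.elim _ _
  obtain ⟨t, rfl⟩ := (e3 x).1 h0
  rw [Subsingleton.elim t 0, map_zero]

attribute [local instance] RestrictScalars.moduleOrig in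
/-- `T¹(B/k, B)` is finite dimensional when `Spec B` is smooth outside a finite set of primes -/
theorem finite_T1_of_finite_nonsmooth [Algebra.FiniteType k B] [Finite ι] [Finite σ]
    (Z : Set (PrimeSpectrum B)) (hZ : Z.Finite)
    (hsm : ∀ p : PrimeSpectrum B, p ∉ Z →
      ∃ g : B, g ∉ p.asIdeal ∧ Algebra.FormallySmooth k (Localization.Away g)) :
    Module.Finite k (RestrictScalars k B (T1 P B)) := by
  haveI : IsNoetherianRing B := Algebra.FiniteType.isNoetherianRing k B
  haveI := finite_T1 P
  haveI : Module.Finite B (RestrictScalars k B (T1 P B)) := inferInstanceAs (Module.Finite B (T1 P B))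
  refine @finite_of_finite_zeroLocus_annihilator k B (RestrictScalars k B (T1 P B)) _ _ _ _ _
    (RestrictScalars.moduleOrig k B (T1 P B)) this (RestrictScalars.module k B (T1 P B))
    (RestrictScalars.isScalarTower k B (T1 P B)) ?_
  refine hZ.subset fun p hp => ?_
  change (Module.annihilator B (T1 P B) : Set B) ⊆ p.asIdeal at hp
  by_contra hpZ
  obtain ⟨g, hg, hfs⟩ := hsm p hpZ
  obtain ⟨N, hN⟩ := exists_pow_mem_annihilator (R := B) (M := T1 P B) g
    (exists_pow_smul_eq_zero P g (Localization.Away g) (subsingleton_T1_away P g hfs))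
  exact hg (p.2.mem_of_pow_mem N (hp hN))

end Main

end Groth.Agent.Lib.Helper1.CotTFinite
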