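import Groth.Agent.Lib.Helper1.AffDefTransport
import Groth.Agent.Lib.Helper1.AffDefTsze
import Groth.Agent.Lib.Helper1.AffDefLCI
import Groth.Agent.Lib.Helper1.CotTFinite
import Groth.Agent.Lib.Helper1.ArtFunHull

/-!
# The deformation functor of an affine scheme of finite type with finitely many non-smooth points has a hull (helper1)
-/

universe u
open CategoryTheory CategoryTheory.Limits AlgebraicGeometry ArtFun ArtFun.Art

namespace Groth.Agent.Lib.Helper1.AffDef

open Groth.Agent.Lib.Helper1.ArtFunLib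

section Ring

variable (Λ k : Type u) [CommRing Λ] [IsNoetherianRing Λ] [Field k] [Algebra Λ k]

/-- ring form -/
theorem hasHull_defF (hk : Function.Surjective (algebraMap Λ k))
    (B₀ : Type u) [CommRing B₀] [Algebra k B₀] [Algebra.FiniteType k B₀]
    (Z : Set (PrimeSpectrum B₀)) (hZ : Z.Finite)
    (hsm : ∀ p : PrimeSpectrum B₀, p ∉ Z →
      ∃ g : B₀, g ∉ p.asIdeal ∧ Algebra.FormallySmooth k (Localization.Away g)) :
    HasHull (DefF Λ k B₀) := by
  classical
  haveI : Module.Finite Λ k := Module.Finite.of_surjective (Algebra.linearMap Λ k) hk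
  have hkD : Subsingleton (Derivation Λ k k) := by
    refine ⟨fun D₁ D₂ => ?_⟩
    ext c
    obtain ⟨l, rfl⟩ := hk c
    rw [Derivation.map_algebraMap, Derivation.map_algebraMap]
  obtain ⟨n, f, hf⟩ := Algebra.FiniteType.iff_quotient_mvPolynomial''.1 (inferInstance : Algebra.FiniteType k B₀)
  haveI : IsNoetherianRing (MvPolynomial (Fin n) k) := inferInstance
  obtain ⟨s, hs⟩ := (isNoetherianRing_iff_ideal_fg _).1 inferInstance (RingHom.ker f.toRingHom)
  let P := presU f hf s hs
  have hT := CotTFinite.finite_T1_of_finite_nonsmooth P Z hZ hsm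
  letI TS : TangentStr (DefF Λ k B₀) := TStr.tangentStr h0_defF heps_defF
  exact hasHull_of_s1_heps_hfin hkD (DefF Λ k B₀) h0_defF s1_defF heps_defF (hfin_defF P hT)

end Ring

section Smooth

variable {k : Type u} [Field k] {B₀ : Type u} [CommRing B₀] [Algebra k B₀]

/-- smoothness on an open of `Spec B₀` gives formally smooth localizations -/
theorem exists_formallySmooth_away (V : (Spec (CommRingCat.of B₀)).Opens)
    (hV : Smooth (V.ι ≫ x₀ (k := k) B₀)) (p : PrimeSpectrum B₀) (hp : (show ↥(Spec (CommRingCat.of B₀)) from p) ∈ V) :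
    ∃ g : B₀, g ∉ p.asIdeal ∧ Algebra.FormallySmooth k (Localization.Away g) := by
  obtain ⟨_, ⟨g, rfl⟩, hpg, hgV⟩ :=
    PrimeSpectrum.isTopologicalBasis_basic_opens.exists_subset_of_mem_open hp V.isOpen
  refine ⟨g, hpg, ?_⟩
  let j : Spec (CommRingCat.of (Localization.Away g)) ⟶ Spec (CommRingCat.of B₀) :=
    Spec.map (CommRingCat.ofHom (algebraMap B₀ (Localization.Away g)))
  have hrange : Set.range j ⊆ Set.range V.ι := by
    rw [Scheme.Opens.range_ι]
    refine subset_trans (le_of_eq ?_) hgV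
    exact PrimeSpectrum.localization_away_comap_range (Localization.Away g) g
  let ℓ := IsOpenImmersion.lift V.ι j hrange
  have hℓ : ℓ ≫ V.ι = j := IsOpenImmersion.lift_fac V.ι j hrange
  haveI : IsOpenImmersion (ℓ ≫ V.ι) := by rw [hℓ]; infer_instance
  haveI : IsOpenImmersion ℓ := IsOpenImmersion.of_comp ℓ V.ι
  haveI := hV
  have h1 : Smooth (ℓ ≫ V.ι ≫ x₀ (k := k) B₀) := inferInstance
  have e1 : ℓ ≫ V.ι ≫ x₀ (k := k) B₀ =
      Spec.map (CommRingCat.ofHom (algebraMap k (Localization.Away g))) := by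
    rw [← Category.assoc, hℓ]
    change Spec.map _ ≫ Spec.map _ = _
    rw [← Spec.map_comp, ← CommRingCat.ofHom_comp]
  rw [e1, HasRingHomProperty.Spec_iff (P := @Smooth)] at h1
  have h2 : Algebra.Smooth k (Localization.Away g) := RingHom.smooth_algebraMap.1 h1
  exact h2.1

end Smooth

section Affine

/-- the deformation functor of an affine scheme of finite type over `k`, smooth outside finitely many points,
has a hull -/
theorem hasHull_defFunctor_affine (Λ k : Type u) [CommRing Λ] [IsNoetherianRing Λ] [Field k] [Algebra Λ k]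
    (hk : Function.Surjective (algebraMap Λ k))
    (X : Scheme.{u}) [IsAffine X] (x : X ⟶ Spec (CommRingCat.of k)) [LocallyOfFiniteType x]
    (U : X.Opens) (hU : Smooth (U.ι ≫ x)) (hfin : ((U : Set X)ᶜ).Finite) :
    HasHull (defFunctor (Λ := Λ) X x) := by
  let B₀ : Type u := Γ(X, ⊤)
  let φ : k →+* B₀ := ((Scheme.ΓSpecIso (CommRingCat.of k)).inv ≫ x.appTop).hom
  letI : Algebra k B₀ := φ.toAlgebra
  let e : X ≅ Spec (CommRingCat.of B₀) := X.isoSpec
  have he : e.hom ≫ x₀ (k := k) B₀ = x := by
    change X.isoSpec.hom ≫ Spec.map ((Scheme.ΓSpecIso (CommRingCat.of k)).inv ≫ x.appTop) = x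
    rw [Spec.map_comp, Scheme.isoSpec_hom_naturality_assoc, Scheme.isoSpec_hom, toSpecΓ_SpecMap_ΓSpecIso_inv,
      Category.comp_id]
  have hx : e.inv ≫ x = x₀ (k := k) B₀ := by rw [← he, Iso.inv_hom_id_assoc]
  haveI : Algebra.FiniteType k B₀ := by
    have h1 : RingHom.FiniteType x.appTop.hom :=
      (HasRingHomProperty.iff_of_isAffine (P := @LocallyOfFiniteType)).1 inferInstance
    have h2 : RingHom.FiniteType (Scheme.ΓSpecIso (CommRingCat.of k)).inv.hom :=
      RingHom.FiniteType.of_surjective _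
        (ConcreteCategory.bijective_of_isIso (Scheme.ΓSpecIso (CommRingCat.of k)).inv).2
    exact h1.comp h2
  let Z : Set (PrimeSpectrum B₀) := {p | e.inv (show ↥(Spec (CommRingCat.of B₀)) from p) ∉ U}
  have hZ : Z.Finite := by
    have hinj : Function.Injective (fun p : PrimeSpectrum B₀ => e.inv (show ↥(Spec (CommRingCat.of B₀)) from p)) :=
      (Scheme.homeoOfIso e.symm).injective
    exact Set.Finite.preimage hinj.injOn hfin
  refine hasHull_of_iso e he (hasHull_defF Λ k hk B₀ Z hZ ?_)
  intro p hp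
  have hp' : e.inv (show ↥(Spec (CommRingCat.of B₀)) from p) ∈ U := by
    by_contra h
    exact hp h
  let V : (Spec (CommRingCat.of B₀)).Opens := e.inv ⁻¹ᵁ U
  have hV : Smooth (V.ι ≫ x₀ (k := k) B₀) := by
    rw [← hx, ← Category.assoc, ← morphismRestrict_ι, Category.assoc]
    haveI := hU
    infer_instance
  exact exists_formallySmooth_away V hV p hp'

end Affine

end Groth.Agent.Lib.Helper1.AffDef
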