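import Groth.Agent.Lib.Helper1.PSLift
import Groth.Agent.Lib.Helper21.AdicNoetherian
import Mathlib.RingTheory.AdicCompletion.LocalRing

/-!
# Extensions of the completion of a Noetherian local ring by a simple module (helper1)

* `equivOfHom`: the five lemma for `Exal.Ext` (a map of extensions over `B` and under `L` is an equivalence);
* `fiberExt`: the extension `Q ×_T S → S` deduced from a surjection `Q → T` with kernel `L` and a map `S → T`;
* `pullbackLift`, `pullbackFst`: maps into and out of `Exal.Ext.pullback`;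
* `ker_evalₐ`, `smul_eq_zero_of_mem_maximalIdeal`, `isSimpleModule_completion`: facts on `R̂`;
* `C Y n`: the extension of `R̂` deduced from an extension `Y` of `R` by the simple module `L`, on
  `Y.E ⧸ 𝔞^n ×_{R ⧸ 𝔪^n} R̂`;
* `pullback_C_equiv`: `(C Y n).pullback R ≃ Y`;
* `C_equiv_of_hom`: `C Y n ≃ X` for an extension `X` of `R̂` receiving a map from `Y` over `R → R̂`.
-/

universe u

namespace Groth.Agent.Lib.Helper1.ExalCompl

open IsLocalRing Groth.Agent.Lib.Helper10.ExalLib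

section Five

variable {A B L : Type u} [CommRing A] [CommRing B] [Algebra A B] [AddCommGroup L] [Module B L]

/-- The five lemma: a map of extensions of `B` by `L` is an equivalence. -/
noncomputable def equivOfHom (X Y : Exal.Ext A B L) (f : X.E →ₐ[A] Y.E)
    (hp : ∀ x, Y.proj (f x) = X.proj x) (hi : ∀ z, f (X.incl z) = Y.incl z) : X.Equiv Y where
  toAlgEquiv := AlgEquiv.ofBijective f ⟨by
      rw [injective_iff_map_eq_zero]
      intro x hx
      have h0 : X.proj x = 0 := by rw [← hp, hx, map_zero]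
      obtain ⟨z, rfl⟩ := (X.isExtension.exact x).1 h0
      rw [hi] at hx
      have hz : z = 0 := Y.isExtension.incl_injective (by rw [hx, map_zero])
      rw [hz, map_zero], by
      intro y
      obtain ⟨x, hx⟩ := X.isExtension.proj_surjective (Y.proj y)
      have h0 : Y.proj (y - f x) = 0 := by rw [map_sub, hp, hx, sub_self]
      obtain ⟨z, hz⟩ := (Y.isExtension.exact _).1 h0
      refine ⟨x + X.incl z, ?_⟩
      rw [map_add, hi, hz]; ring⟩
  proj_apply x := hp x
  apply_incl z := hi z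

end Five

section FiberExt

variable {A Q S L T : Type u} [CommRing A] [CommRing Q] [CommRing S] [CommRing T]
  [Algebra A Q] [Algebra A S] [Algebra A T] [AddCommGroup L] [Module S L]

/-- The extension `Q ×_T S → S` deduced from a surjection `a : Q → T` with kernel `L` and a map `b : S → T`. -/
noncomputable def fiberExt (a : Q →ₐ[A] T) (b : S →ₐ[A] T) (j : L →+ Q)
    (ha : Function.Surjective a) (hj : Function.Injective j)
    (hex : ∀ q, a q = 0 ↔ q ∈ Set.range j)
    (hmul : ∀ q s z, a q = b s → q * j z = j (s • z)) : Exal.Ext A S L where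
  E := AlgHom.equalizer (a.comp (AlgHom.fst A Q S)) (b.comp (AlgHom.snd A Q S))
  proj := (AlgHom.snd A Q S).comp (Subalgebra.val _)
  incl :=
    { toFun := fun z => ⟨(j z, 0), by
        change a (j z) = b 0
        rw [map_zero, (hex _).2 ⟨z, rfl⟩]⟩
      map_zero' := by
        apply Subtype.ext
        apply Prod.ext <;> simp
      map_add' := fun z z' => by
        apply Subtype.ext
        apply Prod.ext <;> simp }
  isExtension :=
    { proj_surjective := fun s => by
        obtain ⟨q, hq⟩ := ha (b s)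
        exact ⟨⟨(q, s), hq⟩, rfl⟩
      incl_injective := fun z z' h => by
        have := congrArg (fun e : AlgHom.equalizer (a.comp (AlgHom.fst A Q S))
          (b.comp (AlgHom.snd A Q S)) => e.1.1) h
        exact hj this
      exact := fun x => by
        obtain ⟨⟨q, s⟩, hx⟩ := x
        have hx' : a q = b s := hx
        constructor
        · intro hs
          change s = 0 at hs
          subst hs
          rw [map_zero] at hx'
          obtain ⟨z, rfl⟩ := (hex q).1 hx'
          exact ⟨z, rfl⟩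
        · rintro ⟨z, hz⟩
          have := congrArg (fun e : AlgHom.equalizer (a.comp (AlgHom.fst A Q S))
            (b.comp (AlgHom.snd A Q S)) => e.1.2) hz
          exact this.symm
      mul_incl := fun x z => by
        obtain ⟨⟨q, s⟩, hx⟩ := x
        have hx' : a q = b s := hx
        apply Subtype.ext
        apply Prod.ext
        · change q * j z = j (s • z)
          exact hmul q s z hx'
        · change s * 0 = 0
          exact mul_zero _ }

variable (a : Q →ₐ[A] T) (b : S →ₐ[A] T) (j : L →+ Q)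
    (ha : Function.Surjective a) (hj : Function.Injective j)
    (hex : ∀ q, a q = 0 ↔ q ∈ Set.range j)
    (hmul : ∀ q s z, a q = b s → q * j z = j (s • z))

/-- First projection of the fibre extension. -/
noncomputable def fiberFst : (fiberExt a b j ha hj hex hmul).E →ₐ[A] Q :=
  (AlgHom.fst A Q S).comp (Subalgebra.val _)

lemma fiber_cond (ζ : (fiberExt a b j ha hj hex hmul).E) :
    a (fiberFst a b j ha hj hex hmul ζ) = b ((fiberExt a b j ha hj hex hmul).proj ζ) := ζ.2

lemma fiberFst_incl (z : L) :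
    fiberFst a b j ha hj hex hmul ((fiberExt a b j ha hj hex hmul).incl z) = j z := rfl

/-- Maps into the fibre extension. -/
noncomputable def fiberLift {P : Type u} [CommRing P] [Algebra A P] (f : P →ₐ[A] Q) (g : P →ₐ[A] S)
    (h : ∀ p, a (f p) = b (g p)) : P →ₐ[A] (fiberExt a b j ha hj hex hmul).E :=
  (AlgHom.prod f g).codRestrict _ (fun p => h p)

lemma fiberFst_fiberLift {P : Type u} [CommRing P] [Algebra A P] (f : P →ₐ[A] Q) (g : P →ₐ[A] S)
    (h : ∀ p, a (f p) = b (g p)) (p : P) :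
    fiberFst a b j ha hj hex hmul (fiberLift a b j ha hj hex hmul f g h p) = f p := rfl

lemma proj_fiberLift {P : Type u} [CommRing P] [Algebra A P] (f : P →ₐ[A] Q) (g : P →ₐ[A] S)
    (h : ∀ p, a (f p) = b (g p)) (p : P) :
    (fiberExt a b j ha hj hex hmul).proj (fiberLift a b j ha hj hex hmul f g h p) = g p := rfl

lemma fiber_ext (ζ ζ' : (fiberExt a b j ha hj hex hmul).E)
    (h1 : fiberFst a b j ha hj hex hmul ζ = fiberFst a b j ha hj hex hmul ζ')
    (h2 : (fiberExt a b j ha hj hex hmul).proj ζ = (fiberExt a b j ha hj hex hmul).proj ζ') : ζ = ζ' :=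
  Subtype.ext (Prod.ext h1 h2)

end FiberExt

section PullbackMaps

variable {A B L : Type u} [CommRing A] [CommRing B] [Algebra A B] [AddCommGroup L] [Module B L]
variable (B₀ : Type u) [CommRing B₀] [Algebra A B₀] [Algebra B₀ B] [IsScalarTower A B₀ B]
variable [Module B₀ L] [IsScalarTower B₀ B L]
variable (X : Exal.Ext A B L)

/-- First projection of the inverse image. -/
noncomputable def pullbackFst : (X.pullback B₀).E →ₐ[A] X.E :=
  (AlgHom.fst A X.E B₀).comp (Subalgebra.val _)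

lemma proj_pullbackFst (ζ : (X.pullback B₀).E) :
    X.proj (pullbackFst B₀ X ζ) = algebraMap B₀ B ((X.pullback B₀).proj ζ) := ζ.2

lemma pullbackFst_incl (z : L) : pullbackFst B₀ X ((X.pullback B₀).incl z) = X.incl z := rfl

/-- Maps into the inverse image. -/
noncomputable def pullbackLift {P : Type u} [CommRing P] [Algebra A P] (f : P →ₐ[A] X.E) (g : P →ₐ[A] B₀)
    (h : ∀ p, X.proj (f p) = algebraMap B₀ B (g p)) : P →ₐ[A] (X.pullback B₀).E :=
  (AlgHom.prod f g).codRestrict (X.fiberProd B₀) (fun p => h p)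

lemma pullbackFst_pullbackLift {P : Type u} [CommRing P] [Algebra A P] (f : P →ₐ[A] X.E) (g : P →ₐ[A] B₀)
    (h : ∀ p, X.proj (f p) = algebraMap B₀ B (g p)) (p : P) :
    pullbackFst B₀ X (pullbackLift B₀ X f g h p) = f p := rfl

lemma proj_pullbackLift {P : Type u} [CommRing P] [Algebra A P] (f : P →ₐ[A] X.E) (g : P →ₐ[A] B₀)
    (h : ∀ p, X.proj (f p) = algebraMap B₀ B (g p)) (p : P) :
    (X.pullback B₀).proj (pullbackLift B₀ X f g h p) = g p := rfl

lemma pullback_ext (ζ ζ' : (X.pullback B₀).E)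
    (h1 : pullbackFst B₀ X ζ = pullbackFst B₀ X ζ')
    (h2 : (X.pullback B₀).proj ζ = (X.pullback B₀).proj ζ') : ζ = ζ' :=
  Subtype.ext (Prod.ext h1 h2)

end PullbackMaps

section Completion

variable {R : Type u} [CommRing R] [IsLocalRing R] [IsNoetherianRing R]

instance instNoethCompl : IsNoetherianRing (AdicCompletion (maximalIdeal R) R) :=
  Groth.Agent.Lib.Helper21.isNoetherianRing_adicCompletion_of_fg _ (IsNoetherian.noetherian _)

lemma ker_evalₐ (n : ℕ) (x : AdicCompletion (maximalIdeal R) R) :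
    AdicCompletion.evalₐ (maximalIdeal R) n x = 0 ↔
      x ∈ (maximalIdeal (AdicCompletion (maximalIdeal R) R)) ^ n := by
  rw [AdicCompletion.maximalIdeal_eq_map, ← Ideal.map_pow, ← Submodule.restrictScalars_mem R,
    ← Ideal.smul_top_eq_map,
    AdicCompletion.pow_smul_top_eq_ker_eval (maximalIdeal R).fg_of_isNoetherianRing, LinearMap.mem_ker]
  constructor
  · intro hx
    have h : (maximalIdeal R) ^ n ≤ (maximalIdeal R) ^ n • (⊤ : Ideal R) := by simp
    rw [← AdicCompletion.factor_evalₐ_eq_eval (maximalIdeal R) x h, hx, map_zero]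
  · intro hx
    have h : (maximalIdeal R) ^ n • (⊤ : Ideal R) ≤ (maximalIdeal R) ^ n := by simp
    rw [← AdicCompletion.factor_eval_eq_evalₐ (maximalIdeal R) x h, hx, map_zero]

variable (L : Type u) [AddCommGroup L] [Module (AdicCompletion (maximalIdeal R) R) L] [Module R L]
  [IsScalarTower R (AdicCompletion (maximalIdeal R) R) L] [IsSimpleModule R L]

omit [IsNoetherianRing R] [Module (AdicCompletion (maximalIdeal R) R) L]
  [IsScalarTower R (AdicCompletion (maximalIdeal R) R) L] in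
lemma smul_eq_zero_of_mem (m : R) (hm : m ∈ maximalIdeal R) (z : L) : m • z = 0 := by
  have h1 : Module.annihilator R L = maximalIdeal R :=
    IsLocalRing.eq_maximalIdeal IsSimpleModule.annihilator_isMaximal
  rw [← h1] at hm
  exact Module.mem_annihilator.1 hm z

lemma smul_eq_zero_of_mem_maximalIdeal (t : AdicCompletion (maximalIdeal R) R)
    (ht : t ∈ maximalIdeal (AdicCompletion (maximalIdeal R) R)) (z : L) : t • z = 0 := by
  rw [AdicCompletion.maximalIdeal_eq_map] at ht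
  refine Submodule.span_induction (p := fun t _ => ∀ z : L, t • z = 0) ?_ ?_ ?_ ?_ ht z
  · rintro _ ⟨m, hm', rfl⟩ z
    rw [algebraMap_smul]
    exact smul_eq_zero_of_mem L m hm' z
  · intro z; exact zero_smul _ _
  · intro x y _ _ hx hy z; rw [add_smul, hx, hy, add_zero]
  · intro a x _ hx z; rw [smul_eq_mul, mul_smul, hx, smul_zero]

omit [IsNoetherianRing R] in
lemma isSimpleModule_completion : IsSimpleModule (AdicCompletion (maximalIdeal R) R) L := by
  rw [isSimpleModule_iff_toSpanSingleton_surjective]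
  refine ⟨IsSimpleModule.nontrivial R L, fun x hx z => ?_⟩
  obtain ⟨r, hr⟩ := IsSimpleModule.toSpanSingleton_surjective R hx z
  refine ⟨algebraMap R _ r, ?_⟩
  rw [← hr]
  change algebraMap R (AdicCompletion (maximalIdeal R) R) r • x = r • x
  rw [algebraMap_smul]

end Completion

section AI

variable {Λ B L : Type u} [CommRing Λ] [CommRing B] [Algebra Λ B] [IsLocalRing B] [AddCommGroup L] [Module B L]

/-- The preimage of the maximal ideal in the middle ring. -/
def aI (Y : Exal.Ext Λ B L) : Ideal Y.E := Ideal.comap Y.proj (maximalIdeal B)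

lemma mem_aI (Y : Exal.Ext Λ B L) (e : Y.E) : e ∈ aI Y ↔ Y.proj e ∈ maximalIdeal B := Iff.rfl

lemma aI_ne_top (Y : Exal.Ext Λ B L) : aI Y ≠ ⊤ := by
  intro h
  have h1 : (1 : Y.E) ∈ aI Y := by rw [h]; trivial
  rw [mem_aI, map_one] at h1
  exact (Ideal.ne_top_iff_one _).1 (IsLocalRing.maximalIdeal.isMaximal B).ne_top h1

lemma map_aI_pow (Y : Exal.Ext Λ B L) (n : ℕ) :
    Ideal.map Y.proj ((aI Y) ^ n) = (maximalIdeal B) ^ n := by
  rw [Ideal.map_pow, aI, Ideal.map_comap_of_surjective _ Y.isExtension.proj_surjective]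

lemma aI_pow_le (Y : Exal.Ext Λ B L) (n : ℕ) :
    (aI Y) ^ n ≤ Ideal.comap Y.proj ((maximalIdeal B) ^ n) :=
  Ideal.le_comap_pow _ n

lemma exists_mem_aI_pow (Y : Exal.Ext Λ B L) (n : ℕ) (b : B) (hb : b ∈ (maximalIdeal B) ^ n) :
    ∃ t ∈ (aI Y) ^ n, Y.proj t = b := by
  rw [← map_aI_pow Y n] at hb
  exact (Ideal.mem_map_iff_of_surjective _ Y.isExtension.proj_surjective).1 hb

/-- `n` is large enough for the `n`-th power of `aI` to meet the kernel trivially. -/
def Valid (Y : Exal.Ext Λ B L) (n : ℕ) : Prop := ∀ x : Y.E, Y.proj x = 0 → x ∈ (aI Y) ^ n → x = 0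

lemma Valid.mono {Y : Exal.Ext Λ B L} {n m : ℕ} (h : Valid Y n) (hnm : n ≤ m) : Valid Y m :=
  fun x hx hxm => h x hx (Ideal.pow_le_pow_right hnm hxm)

lemma exists_valid [IsNoetherianRing B] [IsSimpleModule B L] (Y : Exal.Ext Λ B L) : ∃ n, Valid Y n :=
  PSLift.exists_pow_inf_ker_eq_bot Y (aI Y) (aI_ne_top Y)

end AI

section C

variable {Λ R L : Type u} [CommRing Λ] [CommRing R] [Algebra Λ R] [IsLocalRing R]
  [AddCommGroup L] [Module R L]

variable (Y : Exal.Ext Λ R L) (n : ℕ)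

/-- The map `Y.E ⧸ 𝔞^n → R ⧸ 𝔪^n`. -/
noncomputable def Ca : (Y.E ⧸ (aI Y) ^ n) →ₐ[Λ] (R ⧸ (maximalIdeal R) ^ n) :=
  Ideal.quotientMapₐ ((maximalIdeal R) ^ n) Y.proj (aI_pow_le Y n)

lemma Ca_mk (e : Y.E) : Ca Y n (Ideal.Quotient.mk _ e) = Ideal.Quotient.mk _ (Y.proj e) := rfl

/-- The map `L → Y.E ⧸ 𝔞^n`. -/
noncomputable def Cj : L →+ (Y.E ⧸ (aI Y) ^ n) :=
  (Ideal.Quotient.mk ((aI Y) ^ n) : Y.E →+* _).toAddMonoidHom.comp Y.incl

lemma Cj_apply (z : L) : Cj Y n z = Ideal.Quotient.mk _ (Y.incl z) := rfl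

lemma Ca_surjective : Function.Surjective (Ca Y n) := by
  intro t
  obtain ⟨r, rfl⟩ := Ideal.Quotient.mk_surjective t
  obtain ⟨e, rfl⟩ := Y.isExtension.proj_surjective r
  exact ⟨Ideal.Quotient.mk _ e, rfl⟩

lemma Cj_injective (hv : Valid Y n) : Function.Injective (Cj Y n) := by
  rw [injective_iff_map_eq_zero]
  intro z hz
  rw [Cj_apply, Ideal.Quotient.eq_zero_iff_mem] at hz
  exact Y.isExtension.incl_injective (by rw [hv _ (proj_incl Y z) hz, map_zero])

lemma C_exact (q : Y.E ⧸ (aI Y) ^ n) : Ca Y n q = 0 ↔ q ∈ Set.range (Cj Y n) := by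
  constructor
  · intro hq
    obtain ⟨e, rfl⟩ := Ideal.Quotient.mk_surjective q
    rw [Ca_mk, Ideal.Quotient.eq_zero_iff_mem] at hq
    obtain ⟨t, ht, hte⟩ := exists_mem_aI_pow Y n _ hq
    have h0 : Y.proj (e - t) = 0 := by rw [map_sub, hte, sub_self]
    obtain ⟨z, hz⟩ := (Y.isExtension.exact _).1 h0
    refine ⟨z, ?_⟩
    rw [Cj_apply, hz, map_sub, (Ideal.Quotient.eq_zero_iff_mem).2 ht, sub_zero]
  · rintro ⟨z, rfl⟩
    rw [Cj_apply, Ca_mk, proj_incl, map_zero]

variable [IsNoetherianRing R]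

/-- The map `R̂ → R ⧸ 𝔪^n`. -/
noncomputable def Cb : AdicCompletion (maximalIdeal R) R →ₐ[Λ] (R ⧸ (maximalIdeal R) ^ n) :=
  (AdicCompletion.evalₐ (maximalIdeal R) n).restrictScalars Λ

omit [IsNoetherianRing R] in
lemma Cb_algebraMap (r : R) : Cb (Λ := Λ) n (algebraMap R _ r) = Ideal.Quotient.mk _ r :=
  (AdicCompletion.evalₐ (maximalIdeal R) n).commutes r

lemma Cb_eq_zero_iff (x : AdicCompletion (maximalIdeal R) R) :
    Cb (Λ := Λ) n x = 0 ↔ x ∈ (maximalIdeal (AdicCompletion (maximalIdeal R) R)) ^ n :=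
  ker_evalₐ n x

variable [Module (AdicCompletion (maximalIdeal R) R) L]
  [IsScalarTower R (AdicCompletion (maximalIdeal R) R) L] [IsSimpleModule R L]

lemma C_mul (hn : 1 ≤ n) (q : Y.E ⧸ (aI Y) ^ n) (s : AdicCompletion (maximalIdeal R) R) (z : L)
    (h : Ca Y n q = Cb (Λ := Λ) n s) : q * Cj Y n z = Cj Y n (s • z) := by
  obtain ⟨e, rfl⟩ := Ideal.Quotient.mk_surjective q
  rw [Cj_apply, Cj_apply, ← map_mul, Y.isExtension.mul_incl]
  have h1 : Cb (Λ := Λ) n (s - algebraMap R _ (Y.proj e)) = 0 := by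
    rw [map_sub, Cb_algebraMap, ← h, Ca_mk, sub_self]
  rw [Cb_eq_zero_iff] at h1
  have h2 : s - algebraMap R _ (Y.proj e) ∈ maximalIdeal (AdicCompletion (maximalIdeal R) R) :=
    Ideal.pow_le_self (by omega) h1
  have h3 := smul_eq_zero_of_mem_maximalIdeal L _ h2 z
  rw [sub_smul, algebraMap_smul, sub_eq_zero] at h3
  rw [h3]

/-- The extension of `R̂` by `L` deduced from the extension `Y` of `R` by `L`, for `n` large. -/
noncomputable def C (hn : 1 ≤ n) (hv : Valid Y n) : Exal.Ext Λ (AdicCompletion (maximalIdeal R) R) L :=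
  fiberExt (Ca Y n) (Cb n) (Cj Y n) (Ca_surjective Y n) (Cj_injective Y n hv) (C_exact Y n)
    (C_mul Y n hn)

end C

section Main

variable {Λ R L : Type u} [CommRing Λ] [CommRing R] [Algebra Λ R] [IsLocalRing R] [IsNoetherianRing R]
  [AddCommGroup L] [Module (AdicCompletion (maximalIdeal R) R) L] [Module R L]
  [IsScalarTower R (AdicCompletion (maximalIdeal R) R) L] [IsSimpleModule R L]

variable (Y : Exal.Ext Λ R L) (n : ℕ) (hn : 1 ≤ n) (hv : Valid Y n)

/-- First projection `(C Y n).E → Y.E ⧸ 𝔞^n`. -/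
noncomputable def Cfst : (C Y n hn hv).E →ₐ[Λ] (Y.E ⧸ (aI Y) ^ n) :=
  fiberFst (Ca Y n) (Cb n) (Cj Y n) (Ca_surjective Y n) (Cj_injective Y n hv) (C_exact Y n)
    (C_mul Y n hn)

lemma C_cond (ζ : (C Y n hn hv).E) : Ca Y n (Cfst Y n hn hv ζ) = Cb (Λ := Λ) n ((C Y n hn hv).proj ζ) :=
  fiber_cond _ _ _ _ _ _ _ ζ

lemma Cfst_incl (z : L) : Cfst Y n hn hv ((C Y n hn hv).incl z) = Ideal.Quotient.mk _ (Y.incl z) := rfl

/-- The map `Y.E → (C Y n).E`. -/
noncomputable def toC : Y.E →ₐ[Λ] (C Y n hn hv).E :=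
  fiberLift (Ca Y n) (Cb n) (Cj Y n) (Ca_surjective Y n) (Cj_injective Y n hv) (C_exact Y n)
    (C_mul Y n hn) (Ideal.Quotient.mkₐ Λ _)
    ((IsScalarTower.toAlgHom Λ R (AdicCompletion (maximalIdeal R) R)).comp Y.proj)
    (fun e => by
      change Ca Y n (Ideal.Quotient.mk _ e) = Cb n (algebraMap R _ (Y.proj e))
      rw [Ca_mk, Cb_algebraMap])

lemma proj_toC (e : Y.E) : (C Y n hn hv).proj (toC Y n hn hv e) = algebraMap R _ (Y.proj e) := rfl

lemma Cfst_toC (e : Y.E) : Cfst Y n hn hv (toC Y n hn hv e) = Ideal.Quotient.mk _ e := rfl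

lemma C_ext (ζ ζ' : (C Y n hn hv).E) (h1 : Cfst Y n hn hv ζ = Cfst Y n hn hv ζ')
    (h2 : (C Y n hn hv).proj ζ = (C Y n hn hv).proj ζ') : ζ = ζ' :=
  fiber_ext _ _ _ _ _ _ _ ζ ζ' h1 h2

lemma toC_incl (z : L) : toC Y n hn hv (Y.incl z) = (C Y n hn hv).incl z := by
  apply C_ext
  · rw [Cfst_toC, Cfst_incl]
  · rw [proj_toC, proj_incl, proj_incl, map_zero]

/-- The inverse image of `C Y n` over `R` is `Y`. -/
theorem pullback_C_equiv : Nonempty (((C Y n hn hv).pullback R).Equiv Y) := by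
  let φ : Y.E →ₐ[Λ] ((C Y n hn hv).pullback R).E :=
    pullbackLift R (C Y n hn hv) (toC Y n hn hv) Y.proj (fun e => proj_toC Y n hn hv e)
  have hp : ∀ e, ((C Y n hn hv).pullback R).proj (φ e) = Y.proj e := fun e => rfl
  have hi : ∀ z, φ (Y.incl z) = ((C Y n hn hv).pullback R).incl z := by
    intro z
    apply pullback_ext
    · rw [pullbackFst_pullbackLift, pullbackFst_incl, toC_incl]
    · rw [hp, proj_incl, proj_incl]
  exact ⟨(equivOfHom Y _ φ hp hi).symm⟩

/-- An extension `X` of `R̂` receiving a map from `Y` over `R → R̂` is equivalent to `C Y n`. -/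
theorem C_equiv_of_hom (X : Exal.Ext Λ (AdicCompletion (maximalIdeal R) R) L) (hX : Valid X n)
    (φ₁ : Y.E →ₐ[Λ] X.E) (hφp : ∀ e, X.proj (φ₁ e) = algebraMap R _ (Y.proj e))
    (hφi : ∀ z, φ₁ (Y.incl z) = X.incl z) : Nonempty ((C Y n hn hv).Equiv X) := by
  have hle : aI Y ≤ Ideal.comap φ₁ (aI X) := by
    intro e he
    rw [Ideal.mem_comap, mem_aI, hφp]
    rw [mem_aI] at he
    rw [AdicCompletion.maximalIdeal_eq_map]
    exact Ideal.mem_map_of_mem _ he
  have hle' : (aI Y) ^ n ≤ Ideal.comap φ₁ ((aI X) ^ n) :=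
    (Ideal.pow_right_mono hle n).trans (Ideal.le_comap_pow _ n)
  let v₀ : (Y.E ⧸ (aI Y) ^ n) →ₐ[Λ] (X.E ⧸ (aI X) ^ n) := Ideal.quotientMapₐ _ φ₁ hle'
  have hv₀ : ∀ e, v₀ (Ideal.Quotient.mk _ e) = Ideal.Quotient.mk _ (φ₁ e) := fun e => rfl
  let v : (C Y n hn hv).E →ₐ[Λ] (X.E ⧸ (aI X) ^ n) := v₀.comp (Cfst Y n hn hv)
  have hex : ∀ ζ, ∃ x : X.E, X.proj x = (C Y n hn hv).proj ζ ∧ Ideal.Quotient.mk ((aI X) ^ n) x = v ζ := by
    intro ζ
    obtain ⟨e, he⟩ := Ideal.Quotient.mk_surjective (Cfst Y n hn hv ζ)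
    have hc := C_cond Y n hn hv ζ
    rw [← he, Ca_mk] at hc
    have h1 : Cb (Λ := Λ) n ((C Y n hn hv).proj ζ - algebraMap R _ (Y.proj e)) = 0 := by
      rw [map_sub, Cb_algebraMap, ← hc, sub_self]
    rw [Cb_eq_zero_iff] at h1
    obtain ⟨t, ht, hte⟩ := exists_mem_aI_pow X n _ h1
    refine ⟨φ₁ e + t, ?_, ?_⟩
    · rw [map_add, hφp, hte]; ring
    · rw [map_add, (Ideal.Quotient.eq_zero_iff_mem).2 ht, add_zero]
      change _ = v₀ (Cfst Y n hn hv ζ)
      rw [← he, hv₀]
  obtain ⟨u, hu1, hu2⟩ := PSLift.exists_lift_of_fiber X.proj ((aI X) ^ n) hX (C Y n hn hv).proj v hex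
  refine ⟨equivOfHom _ X u hu1 (fun z => ?_)⟩
  have h0 : X.proj (u ((C Y n hn hv).incl z) - X.incl z) = 0 := by
    rw [map_sub, hu1, proj_incl, proj_incl, sub_zero]
  have h1 : u ((C Y n hn hv).incl z) - X.incl z ∈ (aI X) ^ n := by
    rw [← Ideal.Quotient.eq_zero_iff_mem, map_sub, hu2]
    change v₀ (Cfst Y n hn hv ((C Y n hn hv).incl z)) - _ = 0
    rw [Cfst_incl, hv₀, hφi, sub_self]
  exact sub_eq_zero.mp (hX _ h0 h1)

end Main

end Groth.Agent.Lib.Helper1.ExalCompl
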