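import Groth.Agent.Lib.Helper1.AffDefPlus
import Groth.Agent.Lib.Helper1.ExalCompl

/-!
# The difference of two lifts as an extension of `B₀` by `B₀ ⊗ J` (helper1)

`diffExt hp ℓ ℓ₁ : Exal.Ext k B₀ (B₀ ⊗[k] J)` on `(B'' ×_B B'₁) ⧸ 𝔪'`.
-/

universe u
open TensorProduct ArtFun ArtFun.Art

namespace Groth.Agent.Lib.Helper1.AffDef

section Diff

variable {k : Type u} [Field k] {B₀ : Type u} [CommRing B₀] [Algebra k B₀] {C' C : Art k k}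
  {𝔅 : AlgDef B₀ C} {p : C' ⟶ C}
variable (hp : Art.IsSemismallExt p) (ℓ ℓ₁ : Lift 𝔅 p)

/-- The fibre product `B'' ×_B B'₁`. -/
def diffW : Subring (ℓ.𝔅'.B × ℓ₁.𝔅'.B) :=
  RingHom.eqLocus (ℓ.θ.comp (RingHom.fst ℓ.𝔅'.B ℓ₁.𝔅'.B)) (ℓ₁.θ.comp (RingHom.snd ℓ.𝔅'.B ℓ₁.𝔅'.B))

lemma mem_diffW (x : ℓ.𝔅'.B × ℓ₁.𝔅'.B) : x ∈ diffW ℓ ℓ₁ ↔ ℓ.θ x.1 = ℓ₁.θ x.2 := Iff.rfl

lemma diffW_cond (w : diffW ℓ ℓ₁) : ℓ.θ w.1.1 = ℓ₁.θ w.1.2 := w.2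

lemma diffW_π (w : diffW ℓ ℓ₁) : ℓ.𝔅'.π w.1.1 = ℓ₁.𝔅'.π w.1.2 :=
  Lift.π_eq_of_θ_eq ℓ ℓ₁ _ _ (diffW_cond ℓ ℓ₁ w)

/-- The structure map. -/
noncomputable def diffι : C' →+* diffW ℓ ℓ₁ :=
  RingHom.codRestrict (RingHom.prod (algebraMap C' ℓ.𝔅'.B) (algebraMap C' ℓ₁.𝔅'.B)) (diffW ℓ ℓ₁) (fun c => by
    rw [mem_diffW]
    change ℓ.θ (algebraMap C' ℓ.𝔅'.B c) = ℓ₁.θ (algebraMap C' ℓ₁.𝔅'.B c)
    rw [ℓ.hθA, ℓ₁.hθA])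

noncomputable instance diffWAlgebra : Algebra C' (diffW ℓ ℓ₁) := (diffι ℓ ℓ₁).toAlgebra

lemma diffW_algebraMap (c : C') : algebraMap C' (diffW ℓ ℓ₁) c = diffι ℓ ℓ₁ c := rfl

lemma diffW_smul_fst (c : C') (w : diffW ℓ ℓ₁) : (c • w).1.1 = c • w.1.1 := by
  rw [Algebra.smul_def, Algebra.smul_def]
  rfl

lemma diffW_smul_snd (c : C') (w : diffW ℓ ℓ₁) : (c • w).1.2 = c • w.1.2 := by
  rw [Algebra.smul_def, Algebra.smul_def]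
  rfl

/-- First projection, linear. -/
noncomputable def diffFst : diffW ℓ ℓ₁ →ₗ[C'] ℓ.𝔅'.B where
  toFun w := w.1.1
  map_add' _ _ := rfl
  map_smul' c w := diffW_smul_fst ℓ ℓ₁ c w

/-- Second projection, linear. -/
noncomputable def diffSnd : diffW ℓ ℓ₁ →ₗ[C'] ℓ₁.𝔅'.B where
  toFun w := w.1.2
  map_add' _ _ := rfl
  map_smul' c w := diffW_smul_snd ℓ ℓ₁ c w

lemma diffFst_surjective : Function.Surjective (diffFst ℓ ℓ₁) := by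
  intro x
  obtain ⟨y, hy⟩ := ℓ₁.hθ (ℓ.θ x)
  exact ⟨⟨(x, y), hy.symm⟩, rfl⟩

lemma diffSnd_surjective : Function.Surjective (diffSnd ℓ ℓ₁) := by
  intro y
  obtain ⟨x, hx⟩ := ℓ.hθ (ℓ₁.θ y)
  exact ⟨⟨(x, y), hx⟩, rfl⟩

/-- The ideal `𝔪' W`. -/
noncomputable def diffK : Ideal (diffW ℓ ℓ₁) := (IsLocalRing.maximalIdeal C').map (algebraMap C' (diffW ℓ ℓ₁))

lemma mem_diffK_iff (w : diffW ℓ ℓ₁) :
    w ∈ diffK ℓ ℓ₁ ↔ w ∈ (IsLocalRing.maximalIdeal C') • (⊤ : Submodule C' (diffW ℓ ℓ₁)) := by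
  rw [Ideal.smul_top_eq_map, Submodule.restrictScalars_mem]
  rfl

/-- The ring of the difference. -/
def diffRing : Type u := diffW ℓ ℓ₁ ⧸ diffK ℓ ℓ₁

noncomputable instance : CommRing (diffRing ℓ ℓ₁) := inferInstanceAs (CommRing (diffW ℓ ℓ₁ ⧸ diffK ℓ ℓ₁))

/-- The quotient map. -/
noncomputable def diffMk : diffW ℓ ℓ₁ →+* diffRing ℓ ℓ₁ := Ideal.Quotient.mk (diffK ℓ ℓ₁)

lemma diffMk_surjective : Function.Surjective (diffMk ℓ ℓ₁) := Ideal.Quotient.mk_surjective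

lemma diffMk_eq_zero_iff (w : diffW ℓ ℓ₁) : diffMk ℓ ℓ₁ w = 0 ↔ w ∈ diffK ℓ ℓ₁ := Ideal.Quotient.eq_zero_iff_mem

noncomputable instance diffRingAlgebra : Algebra k (diffRing ℓ ℓ₁) :=
  ((diffMk ℓ ℓ₁).comp ((diffι ℓ ℓ₁).comp (algebraMap k C'))).toAlgebra

lemma diffRing_algebraMap (x : k) :
    algebraMap k (diffRing ℓ ℓ₁) x = diffMk ℓ ℓ₁ (diffι ℓ ℓ₁ (algebraMap k C' x)) := rfl

lemma diffMk_ι (c : C') : diffMk ℓ ℓ₁ (diffι ℓ ℓ₁ c) = algebraMap k (diffRing ℓ ℓ₁) (C'.res c) := by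
  rw [diffRing_algebraMap, ← sub_eq_zero, ← map_sub, ← map_sub, diffMk_eq_zero_iff]
  exact Ideal.mem_map_of_mem _ (sub_algebraMap_res_mem c)

/-- The projection to `B₀`. -/
noncomputable def diffProj : diffRing ℓ ℓ₁ →ₐ[k] B₀ :=
  { Ideal.Quotient.lift (diffK ℓ ℓ₁)
      (ℓ.𝔅'.π.comp ((RingHom.fst ℓ.𝔅'.B ℓ₁.𝔅'.B).comp (diffW ℓ ℓ₁).subtype)) (by
        intro w hw
        have h1 : diffK ℓ ℓ₁ ≤
            RingHom.ker (ℓ.𝔅'.π.comp ((RingHom.fst ℓ.𝔅'.B ℓ₁.𝔅'.B).comp (diffW ℓ ℓ₁).subtype)) := by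
          unfold diffK
          rw [Ideal.map_le_iff_le_comap]
          intro m hm
          rw [Ideal.mem_comap, RingHom.mem_ker]
          change ℓ.𝔅'.π (algebraMap C' ℓ.𝔅'.B m) = 0
          rw [ℓ.𝔅'.comm, (Art.mem_maximalIdeal_iff C' m).1 hm, map_zero]
        exact h1 hw) with
    commutes' := fun x => by
      change ℓ.𝔅'.π (algebraMap C' ℓ.𝔅'.B (algebraMap k C' x)) = algebraMap k B₀ x
      rw [ℓ.𝔅'.comm, AlgHom.commutes]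
      rfl }

lemma diffProj_mk (w : diffW ℓ ℓ₁) : diffProj ℓ ℓ₁ (diffMk ℓ ℓ₁ w) = ℓ.𝔅'.π w.1.1 := rfl

/-- `n ↦ (ν n, 0)`. -/
noncomputable def diffInclW : B₀ ⊗[k] kerIdeal p →+ diffW ℓ ℓ₁ where
  toFun n := ⟨(ℓ.nu hp n, 0), by
    rw [mem_diffW]
    change ℓ.θ (ℓ.nu hp n) = ℓ₁.θ 0
    rw [Lift.θ_nu, map_zero]⟩
  map_zero' := by
    apply Subtype.ext
    apply Prod.ext
    · exact map_zero (ℓ.nu hp)
    · rfl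
  map_add' x y := by
    apply Subtype.ext
    apply Prod.ext
    · exact map_add (ℓ.nu hp) x y
    · exact (add_zero (0 : ℓ₁.𝔅'.B)).symm

/-- `n ↦ (0, ν₁ n)`. -/
noncomputable def diffInclW' : B₀ ⊗[k] kerIdeal p →+ diffW ℓ ℓ₁ where
  toFun n := ⟨(0, ℓ₁.nu hp n), by
    rw [mem_diffW]
    change ℓ.θ 0 = ℓ₁.θ (ℓ₁.nu hp n)
    rw [Lift.θ_nu, map_zero]⟩
  map_zero' := by
    apply Subtype.ext
    apply Prod.ext
    · rfl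
    · exact map_zero (ℓ₁.nu hp)
  map_add' x y := by
    apply Subtype.ext
    apply Prod.ext
    · exact (add_zero (0 : ℓ.𝔅'.B)).symm
    · exact map_add (ℓ₁.nu hp) x y

/-- The inclusion of `B₀ ⊗ J`. -/
noncomputable def diffIncl : B₀ ⊗[k] kerIdeal p →+ diffRing ℓ ℓ₁ :=
  (diffMk ℓ ℓ₁).toAddMonoidHom.comp (diffInclW hp ℓ ℓ₁)

lemma diffIncl_apply (n : B₀ ⊗[k] kerIdeal p) : diffIncl hp ℓ ℓ₁ n = diffMk ℓ ℓ₁ (diffInclW hp ℓ ℓ₁ n) := rfl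

/-- The diagonal lies in `𝔪' W`. -/
lemma diag_mem_diffK (n : B₀ ⊗[k] kerIdeal p) : diffInclW hp ℓ ℓ₁ n + diffInclW' hp ℓ ℓ₁ n ∈ diffK ℓ ℓ₁ := by
  induction n using TensorProduct.induction_on with
  | zero =>
    rw [map_zero, map_zero, add_zero]
    exact Ideal.zero_mem _
  | tmul b₀ j =>
    obtain ⟨x, rfl⟩ := ℓ.𝔅'.surj b₀
    obtain ⟨w, rfl⟩ := diffFst_surjective ℓ ℓ₁ x
    have h1 : diffInclW hp ℓ ℓ₁ (ℓ.𝔅'.π w.1.1 ⊗ₜ j) + diffInclW' hp ℓ ℓ₁ (ℓ.𝔅'.π w.1.1 ⊗ₜ j) =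
        diffι ℓ ℓ₁ j * w := by
      apply Subtype.ext
      apply Prod.ext
      · change ℓ.nu hp (ℓ.𝔅'.π w.1.1 ⊗ₜ j) + 0 = algebraMap C' ℓ.𝔅'.B j * w.1.1
        rw [add_zero, Lift.nu_tmul, Algebra.smul_def]
      · change 0 + ℓ₁.nu hp (ℓ.𝔅'.π w.1.1 ⊗ₜ j) = algebraMap C' ℓ₁.𝔅'.B j * w.1.2
        rw [zero_add, diffW_π, Lift.nu_tmul, Algebra.smul_def]
    change diffInclW hp ℓ ℓ₁ (ℓ.𝔅'.π w.1.1 ⊗ₜ j) + diffInclW' hp ℓ ℓ₁ (ℓ.𝔅'.π w.1.1 ⊗ₜ j) ∈ _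
    rw [h1]
    exact Ideal.mul_mem_right _ _ (Ideal.mem_map_of_mem _ (kerIdeal_le p j.2))
  | add x y hx hy =>
    rw [map_add, map_add]
    have : diffInclW hp ℓ ℓ₁ x + diffInclW hp ℓ ℓ₁ y + (diffInclW' hp ℓ ℓ₁ x + diffInclW' hp ℓ ℓ₁ y) =
        (diffInclW hp ℓ ℓ₁ x + diffInclW' hp ℓ ℓ₁ x) + (diffInclW hp ℓ ℓ₁ y + diffInclW' hp ℓ ℓ₁ y) := by
      abel
    rw [this]
    exact Ideal.add_mem _ hx hy

lemma diffMk_inclW' (n : B₀ ⊗[k] kerIdeal p) :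
    diffMk ℓ ℓ₁ (diffInclW' hp ℓ ℓ₁ n) = - diffIncl hp ℓ ℓ₁ n := by
  rw [diffIncl_apply, eq_neg_iff_add_eq_zero, ← map_add, diffMk_eq_zero_iff, add_comm]
  exact diag_mem_diffK hp ℓ ℓ₁ n

lemma diffIncl_injective : Function.Injective (diffIncl hp ℓ ℓ₁) := by
  rw [injective_iff_map_eq_zero]
  intro n hn
  rw [diffIncl_apply, diffMk_eq_zero_iff, mem_diffK_iff] at hn
  have hk : diffInclW hp ℓ ℓ₁ n ∈ LinearMap.ker (diffSnd ℓ ℓ₁) := rfl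
  have h1 := mem_smul_top_ker_of_flat (IsLocalRing.maximalIdeal C') (diffSnd ℓ ℓ₁) (diffSnd_surjective ℓ ℓ₁)
    ⟨_, hk⟩ hn
  have h2 : ∀ z : LinearMap.ker (diffSnd ℓ ℓ₁),
      z ∈ (IsLocalRing.maximalIdeal C') • (⊤ : Submodule C' (LinearMap.ker (diffSnd ℓ ℓ₁))) →
      (z : diffW ℓ ℓ₁).1.1 = 0 := by
    intro z hz
    refine Submodule.smul_induction_on
      (p := fun z : LinearMap.ker (diffSnd ℓ ℓ₁) => (z : diffW ℓ ℓ₁).1.1 = 0) hz ?_ ?_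
    · intro m hm x _
      have hx2 : (x : diffW ℓ ℓ₁).1.2 = 0 := x.2
      have hx1 : ℓ.θ (x : diffW ℓ ℓ₁).1.1 = 0 := by
        rw [diffW_cond, hx2, map_zero]
      obtain ⟨n', hn'⟩ := ℓ.exists_nu_of_θ_eq_zero hp _ hx1
      change (m • (x : diffW ℓ ℓ₁)).1.1 = 0
      rw [diffW_smul_fst, ← hn', Lift.smul_nu_eq_zero hp ℓ m hm]
    · intro x y hx hy
      change (x : diffW ℓ ℓ₁).1.1 + (y : diffW ℓ ℓ₁).1.1 = 0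
      rw [hx, hy, add_zero]
  have h3 : ℓ.nu hp n = 0 := h2 _ h1
  exact ℓ.nu_injective hp (by rw [h3, map_zero])

lemma diffProj_incl (n : B₀ ⊗[k] kerIdeal p) : diffProj ℓ ℓ₁ (diffIncl hp ℓ ℓ₁ n) = 0 := by
  rw [diffIncl_apply, diffProj_mk]
  exact ℓ.π_nu hp n

lemma exists_mem_diffK_fst (x : ℓ.𝔅'.B) (hx : ℓ.𝔅'.π x = 0) : ∃ w ∈ diffK ℓ ℓ₁, (w : diffW ℓ ℓ₁).1.1 = x := by
  have hx' := (AlgDef.mem_smul_top_iff ℓ.𝔅' x).2 hx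
  have h1 : Submodule.map (diffFst ℓ ℓ₁)
      ((IsLocalRing.maximalIdeal C') • (⊤ : Submodule C' (diffW ℓ ℓ₁))) =
      (IsLocalRing.maximalIdeal C') • (⊤ : Submodule C' ℓ.𝔅'.B) := by
    rw [Submodule.map_smul'', Submodule.map_top, LinearMap.range_eq_top.2 (diffFst_surjective ℓ ℓ₁)]
  rw [← h1] at hx'
  obtain ⟨w, hw, hwx⟩ := hx'
  exact ⟨w, (mem_diffK_iff ℓ ℓ₁ w).2 hw, hwx⟩

lemma diff_exact (z : diffRing ℓ ℓ₁) : diffProj ℓ ℓ₁ z = 0 ↔ z ∈ Set.range (diffIncl hp ℓ ℓ₁) := by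
  constructor
  · intro hz
    obtain ⟨w, rfl⟩ := diffMk_surjective ℓ ℓ₁ z
    rw [diffProj_mk] at hz
    obtain ⟨w', hw', hw'x⟩ := exists_mem_diffK_fst ℓ ℓ₁ _ hz
    have h1 : ℓ₁.θ (w - w').1.2 = 0 := by
      rw [← diffW_cond]
      change ℓ.θ (w.1.1 - w'.1.1) = 0
      rw [hw'x, sub_self, map_zero]
    obtain ⟨m, hm⟩ := ℓ₁.exists_nu_of_θ_eq_zero hp _ h1
    have h2 : w - w' = diffInclW' hp ℓ ℓ₁ m := by
      apply Subtype.ext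
      apply Prod.ext
      · change w.1.1 - w'.1.1 = 0
        rw [hw'x, sub_self]
      · exact hm.symm
    refine ⟨-m, ?_⟩
    rw [map_neg, ← diffMk_inclW', ← h2, map_sub, (diffMk_eq_zero_iff ℓ ℓ₁ w').2 hw', sub_zero]
  · rintro ⟨n, rfl⟩
    exact diffProj_incl hp ℓ ℓ₁ n

/-- The difference of two lifts. -/
@[reducible] noncomputable def diffExt : Exal.Ext k B₀ (B₀ ⊗[k] kerIdeal p) where
  E := diffRing ℓ ℓ₁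
  proj := diffProj ℓ ℓ₁
  incl := diffIncl hp ℓ ℓ₁
  isExtension :=
    { proj_surjective := fun b₀ => by
        obtain ⟨x, rfl⟩ := ℓ.𝔅'.surj b₀
        obtain ⟨w, rfl⟩ := diffFst_surjective ℓ ℓ₁ x
        exact ⟨diffMk ℓ ℓ₁ w, rfl⟩
      incl_injective := diffIncl_injective hp ℓ ℓ₁
      exact := diff_exact hp ℓ ℓ₁
      mul_incl := fun z n => by
        obtain ⟨w, rfl⟩ := diffMk_surjective ℓ ℓ₁ z
        rw [diffIncl_apply, diffIncl_apply, ← map_mul, diffProj_mk]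
        congr 1
        apply Subtype.ext
        apply Prod.ext
        · change w.1.1 * ℓ.nu hp n = ℓ.nu hp (ℓ.𝔅'.π w.1.1 • n)
          rw [Lift.nu_smul]
        · change w.1.2 * 0 = 0
          rw [mul_zero] }

end Diff

end Groth.Agent.Lib.Helper1.AffDef
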