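import Mathlib
import Groth.Prelude.Def_Exal
import Groth.Agent.Lib.Helper1.ExalCompl

/-!
# Lifting sections along a small thickening of a flat algebra, when `T¹ = 0` (helper1)

* `mem_of_smul_eq_zero_of_flat`: over a flat module, `t • m = 0` implies `m ∈ Ann(t) M`;
* `exists_lift_section`: if every extension of `B₀` by `B₀` is trivial, a `k`-algebra map `B₀ → B' ⧸ t B'` lifts to `B'`
  (for `B'` flat over `A'`, `𝔪 t = 0`, `Ann t ⊆ 𝔪`, `B' ⧸ 𝔪 B' = B₀`).
-/

universe u

namespace Groth.Agent.Lib.Helper1.AffDef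

open Groth.Agent.Lib.Helper1.ExalCompl

/-- Over a flat module, `t • m = 0` implies that `m` is a combination of elements with coefficients killing `t`. -/
theorem mem_of_smul_eq_zero_of_flat {R M : Type*} [CommRing R] [AddCommGroup M] [Module R M] [Module.Flat R M]
    (𝔞 : Ideal R) (t : R) (hann : ∀ a : R, a * t = 0 → a ∈ 𝔞) (m : M) (h : t • m = 0) :
    m ∈ 𝔞 • (⊤ : Submodule R M) := by
  have h1 : ∑ i : Fin 1, (fun _ => t) i • (fun _ => m) i = 0 := by simpa using h
  obtain ⟨n, a, y, hy, ha⟩ := Module.Flat.isTrivialRelation_of_sum_smul_eq_zero h1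
  have hy0 : m = ∑ j, a 0 j • y j := hy 0
  rw [hy0]
  refine Submodule.sum_mem _ fun j _ => ?_
  refine Submodule.smul_mem_smul (hann _ ?_) trivial
  have := ha j
  simp only [Finset.univ_unique, Fin.default_eq_zero, Finset.sum_singleton] at this
  rw [mul_comm]
  exact this

section Lift

variable {k : Type u} [Field k] {B₀ : Type u} [CommRing B₀] [Algebra k B₀]
  {A' : Type u} [CommRing A'] (𝔪 : Ideal A') (t : A')
  {B' B : Type u} [CommRing B'] [CommRing B] [Algebra A' B'] [Module.Flat A' B'] [Algebra k B'] [Algebra k B]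

/-- Lifting a section along `B' → B' ⧸ t B'`. -/
theorem exists_lift_section (hT : ∀ E : Exal.Ext k B₀ B₀, E.IsTrivial)
    (ht : ∀ m ∈ 𝔪, m * t = 0) (hann : ∀ a : A', a * t = 0 → a ∈ 𝔪)
    (π' : B' →ₐ[k] B₀) (hπ' : Function.Surjective π')
    (hker : ∀ b : B', π' b = 0 ↔ b ∈ 𝔪.map (algebraMap A' B'))
    (θ : B' →ₐ[k] B) (hθ : Function.Surjective θ)
    (hkerθ : ∀ b : B', θ b = 0 ↔ ∃ c : B', b = algebraMap A' B' t * c)
    (s₀ : B₀ →ₐ[k] B) (hs : ∀ b' b₀, θ b' = s₀ b₀ → π' b' = b₀) :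
    ∃ s' : B₀ →ₐ[k] B', ∀ b, θ (s' b) = s₀ b := by
  classical
  -- `t` kills `ker π'`
  have hF : ∀ b : B', π' b = 0 → algebraMap A' B' t * b = 0 := by
    intro b hb
    rw [hker] at hb
    refine Submodule.span_induction (p := fun x _ => algebraMap A' B' t * x = 0) ?_ ?_ ?_ ?_ hb
    · rintro _ ⟨m, hm, rfl⟩
      rw [← map_mul, mul_comm, ht m hm, map_zero]
    · exact mul_zero _
    · intro x y _ _ hx hy
      rw [mul_add, hx, hy, add_zero]
    · intro a x _ hx
      rw [smul_eq_mul, mul_left_comm, hx, mul_zero]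
  -- the inclusion `j : B₀ → B'`, `π' b ↦ t b`
  let σ : B₀ → B' := Function.surjInv hπ'
  have hσ : ∀ b, π' (σ b) = b := Function.surjInv_eq hπ'
  have hj : ∀ b : B', algebraMap A' B' t * σ (π' b) = algebraMap A' B' t * b := by
    intro b
    rw [← sub_eq_zero, ← mul_sub]
    apply hF
    rw [map_sub, hσ, sub_self]
  let j : B₀ →+ B' :=
    { toFun := fun b => algebraMap A' B' t * σ b
      map_zero' := by
        apply hF
        rw [hσ]
      map_add' := fun x y => by
        rw [← mul_add, ← sub_eq_zero, ← mul_sub]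
        apply hF
        rw [map_sub, map_add, hσ, hσ, hσ, sub_self] }
  have hjπ : ∀ b : B', j (π' b) = algebraMap A' B' t * b := hj
  have hjinj : Function.Injective j := by
    rw [injective_iff_map_eq_zero]
    intro b hb
    have h1 : t • σ b = 0 := by rw [Algebra.smul_def]; exact hb
    have h2 := mem_of_smul_eq_zero_of_flat 𝔪 t hann (σ b) h1
    rw [Ideal.smul_top_eq_map, Submodule.restrictScalars_mem, ← hker, hσ] at h2
    exact h2
  have hex : ∀ q : B', θ q = 0 ↔ q ∈ Set.range j := by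
    intro q
    rw [hkerθ]
    constructor
    · rintro ⟨c, rfl⟩
      exact ⟨π' c, hjπ c⟩
    · rintro ⟨b, rfl⟩
      exact ⟨σ b, rfl⟩
  have hmul : ∀ (q : B') (s : B₀) (z : B₀), θ q = s₀ s → q * j z = j (s • z) := by
    intro q s z hq
    have h1 : π' q = s := hs q s hq
    have h2 : j (s • z) = j (π' (q * σ z)) := by
      rw [map_mul, hσ, h1, smul_eq_mul]
    rw [h2, hjπ]
    change q * (algebraMap A' B' t * σ z) = _
    ring
  let E : Exal.Ext k B₀ B₀ := fiberExt θ s₀ j hθ hjinj hex hmul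
  obtain ⟨sE, hsE⟩ := hT E
  refine ⟨(fiberFst θ s₀ j hθ hjinj hex hmul).comp sE, fun b => ?_⟩
  rw [AlgHom.comp_apply, fiber_cond θ s₀ j hθ hjinj hex hmul (sE b), hsE]

end Lift

end Groth.Agent.Lib.Helper1.AffDef
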