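import Groth.Agent.Lib.Helper1.AffDefHom
import Groth.Agent.Lib.Helper1.AffDefLift
import Groth.Agent.Lib.Helper9.FlatCrit

/-!
# First-order deformations of an affine scheme and extensions (helper1)

Deformations of `Spec B` over the dual numbers `k[ε]` correspond to `k`-algebra extensions of `B` by `B`.
-/

universe u

open CategoryTheory AlgebraicGeometry ArtFun ArtFun.Art TensorProduct

namespace Groth.Agent.Lib.Helper1.AffDef

section Incl

variable {B₀ : Type*} [CommRing B₀] {A' : Type*} [CommRing A'] (𝔪 : Ideal A') (t : A')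
  {B' : Type*} [CommRing B'] [Algebra A' B'] [Module.Flat A' B']

/-- The inclusion `B₀ → B'`, `π' b ↦ t b`, for `B'` flat with `B' ⧸ 𝔪 B' = B₀`, `𝔪 t = 0`, `Ann t ⊆ 𝔪`. -/
theorem exists_incl (ht : ∀ m ∈ 𝔪, m * t = 0) (hann : ∀ a : A', a * t = 0 → a ∈ 𝔪)
    (π' : B' →+* B₀) (hπ' : Function.Surjective π')
    (hker : ∀ b : B', π' b = 0 ↔ b ∈ 𝔪.map (algebraMap A' B')) :
    ∃ j : B₀ →+ B', (∀ b : B', j (π' b) = algebraMap A' B' t * b) ∧ Function.Injective j := by
  classical
  have hF : ∀ b : B', π' b = 0 → algebraMap A' B' t * b = 0 := by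
    intro b hb
    rw [hker] at hb
    refine Submodule.span_induction (p := fun x _ => algebraMap A' B' t * x = 0) ?_ ?_ ?_ ?_ hb
    · rintro _ ⟨m, hm, rfl⟩
      rw [← map_mul, mul_comm, ht m hm, map_zero]
    · exact mul_zero _
    · intro x y _ _ hx hy
      rw [mul_add, hx, hy, add_zero]
    · intro a x _ hx
      rw [smul_eq_mul, mul_left_comm, hx, mul_zero]
  let σ : B₀ → B' := Function.surjInv hπ'
  have hσ : ∀ b, π' (σ b) = b := Function.surjInv_eq hπ'
  have hj : ∀ b : B', algebraMap A' B' t * σ (π' b) = algebraMap A' B' t * b := by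
    intro b
    rw [← sub_eq_zero, ← mul_sub]
    apply hF
    rw [map_sub, hσ, sub_self]
  let j : B₀ →+ B' :=
    { toFun := fun b => algebraMap A' B' t * σ b
      map_zero' := by
        apply hF
        rw [hσ]
      map_add' := fun x y => by
        rw [← mul_add, ← sub_eq_zero, ← mul_sub]
        apply hF
        rw [map_sub, map_add, hσ, hσ, hσ, sub_self] }
  refine ⟨j, hj, ?_⟩
  rw [injective_iff_map_eq_zero]
  intro b hb
  have h1 : t • σ b = 0 := by rw [Algebra.smul_def]; exact hb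
  have h2 := mem_of_smul_eq_zero_of_flat 𝔪 t hann (σ b) h1
  rw [Ideal.smul_top_eq_map, Submodule.restrictScalars_mem, ← hker, hσ] at h2
  exact h2

end Incl

section Quot

/-- A bijection between quotients from a relation compatible with the equivalences. -/
noncomputable def quotientEquivOfRel {α β : Type*} (sα : Setoid α) (sβ : Setoid β) (R : α → β → Prop)
    (h1 : ∀ a, ∃ b, R a b) (h2 : ∀ b, ∃ a, R a b)
    (h3 : ∀ a a' b b', R a b → R a' b' → (sα.r a a' ↔ sβ.r b b')) : Quotient sα ≃ Quotient sβ where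
  toFun := Quotient.lift (fun a => Quotient.mk sβ (h1 a).choose) (fun a a' haa' =>
    Quotient.sound ((h3 a a' _ _ (h1 a).choose_spec (h1 a').choose_spec).1 haa'))
  invFun := Quotient.lift (fun b => Quotient.mk sα (h2 b).choose) (fun b b' hbb' =>
    Quotient.sound ((h3 _ _ b b' (h2 b).choose_spec (h2 b').choose_spec).2 hbb'))
  left_inv := by
    intro q
    induction q using Quotient.inductionOn with
    | h a =>
      apply Quotient.sound
      exact (h3 _ a _ _ (h2 _).choose_spec (h1 a).choose_spec).2 (sβ.refl _)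
  right_inv := by
    intro q
    induction q using Quotient.inductionOn with
    | h b =>
      apply Quotient.sound
      exact (h3 _ _ _ b (h1 _).choose_spec (h2 b).choose_spec).1 (sα.refl _)

end Quot

variable {k : Type u} [Field k]

section DualFacts

lemma dn_eq_of_fst_eq_zero (m : DualNumber k) (hm : TrivSqZeroExt.fst m = 0) :
    m = algebraMap k (DualNumber k) (TrivSqZeroExt.snd m) * DualNumber.eps := by
  apply TrivSqZeroExt.ext
  · rw [hm]; simp [TrivSqZeroExt.algebraMap_eq_inl]
  · simp [TrivSqZeroExt.algebraMap_eq_inl]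

lemma dn_decomp (d : DualNumber k) :
    d = algebraMap k (DualNumber k) (TrivSqZeroExt.fst d) +
      algebraMap k (DualNumber k) (TrivSqZeroExt.snd d) * DualNumber.eps := by
  apply TrivSqZeroExt.ext
  · simp [TrivSqZeroExt.algebraMap_eq_inl]
  · simp [TrivSqZeroExt.algebraMap_eq_inl]

lemma dn_fst_eq_zero_of_mul_eps (a : DualNumber k) (h : a * DualNumber.eps = 0) : TrivSqZeroExt.fst a = 0 := by
  have := congrArg TrivSqZeroExt.snd h
  simpa using this

lemma dn_coeff_unique (a b a' b' : k)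
    (h : algebraMap k (DualNumber k) a + algebraMap k (DualNumber k) b * DualNumber.eps =
      algebraMap k (DualNumber k) a' + algebraMap k (DualNumber k) b' * DualNumber.eps) : a = a' ∧ b = b' := by
  have hfst := congrArg TrivSqZeroExt.fst h
  have hsnd := congrArg TrivSqZeroExt.snd h
  constructor
  · simpa [TrivSqZeroExt.algebraMap_eq_inl] using hfst
  · simpa [TrivSqZeroExt.algebraMap_eq_inl] using hsnd

/-- `ε` as an element of the object `dual k k`. -/
noncomputable def eps : (dual k k : Art k k) := (DualNumber.eps : DualNumber k)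

lemma mem_maximalIdeal_dual (a : (dual k k : Art k k)) :
    a ∈ IsLocalRing.maximalIdeal (dual k k : Art k k) ↔ TrivSqZeroExt.fst (show DualNumber k from a) = 0 := by
  rw [Art.mem_maximalIdeal_iff]
  rfl

lemma eps_mem : (eps : (dual k k : Art k k)) ∈ IsLocalRing.maximalIdeal (dual k k : Art k k) := by
  rw [mem_maximalIdeal_dual]
  exact DualNumber.fst_eps

lemma eq_inl_mul_eps_of_mem (m : (dual k k : Art k k)) (hm : m ∈ IsLocalRing.maximalIdeal (dual k k : Art k k)) :
    ∃ c : k, m = algebraMap k (dual k k : Art k k) c * eps := by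
  rw [mem_maximalIdeal_dual] at hm
  exact ⟨_, dn_eq_of_fst_eq_zero _ hm⟩

lemma eps_mul_eps : (eps : (dual k k : Art k k)) * eps = 0 := DualNumber.eps_mul_eps

lemma mul_eps_of_mem (m : (dual k k : Art k k)) (hm : m ∈ IsLocalRing.maximalIdeal (dual k k : Art k k)) :
    m * eps = 0 := by
  obtain ⟨c, rfl⟩ := eq_inl_mul_eps_of_mem m hm
  rw [mul_assoc, eps_mul_eps, mul_zero]

lemma mem_of_mul_eps (a : (dual k k : Art k k)) (h : a * eps = 0) :
    a ∈ IsLocalRing.maximalIdeal (dual k k : Art k k) := by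
  rw [mem_maximalIdeal_dual]
  exact dn_fst_eq_zero_of_mul_eps _ h

lemma maximalIdeal_dual : IsLocalRing.maximalIdeal (dual k k : Art k k) = Ideal.span {eps} := by
  apply le_antisymm
  · intro m hm
    obtain ⟨c, rfl⟩ := eq_inl_mul_eps_of_mem m hm
    exact Ideal.mul_mem_left _ _ (Ideal.subset_span rfl)
  · rw [Ideal.span_le]
    rintro _ rfl
    exact eps_mem

lemma dual_decomp (d : (dual k k : Art k k)) :
    ∃ a b : k, d = algebraMap k (dual k k : Art k k) a + algebraMap k (dual k k : Art k k) b * eps ∧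
      (dual k k : Art k k).res d = a :=
  ⟨_, _, dn_decomp _, rfl⟩

end DualFacts

variable {B : Type u} [CommRing B] [Algebra k B]

/-- The relation between an algebraic deformation over `k[ε]` and an extension of `B` by `B`. -/
def Rel (𝔅 : AlgDef B (dual k k : Art k k)) (E : Exal.Ext k B B) : Prop :=
  ∃ e : 𝔅.B ≃+* E.E,
    (∀ c : k, e (algebraMap (dual k k : Art k k) 𝔅.B (algebraMap k (dual k k : Art k k) c)) = algebraMap k E.E c) ∧
    (∀ x, E.proj (e x) = 𝔅.π x) ∧
    (∀ x : 𝔅.B, e (algebraMap (dual k k : Art k k) 𝔅.B eps * x) = E.incl (𝔅.π x))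

theorem exists_ext_of_algDef (𝔅 : AlgDef B (dual k k : Art k k)) : ∃ E : Exal.Ext k B B, Rel 𝔅 E := by
  letI : Algebra k 𝔅.B :=
    ((algebraMap (dual k k : Art k k) 𝔅.B).comp (algebraMap k (dual k k : Art k k))).toAlgebra
  have hker : ∀ b : 𝔅.B, 𝔅.π b = 0 ↔
      b ∈ (IsLocalRing.maximalIdeal (dual k k : Art k k)).map (algebraMap (dual k k : Art k k) 𝔅.B) := by
    intro b
    rw [← RingHom.mem_ker, 𝔅.ker_eq]
  obtain ⟨j, hj, hjinj⟩ := exists_incl (IsLocalRing.maximalIdeal (dual k k : Art k k)) eps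
    mul_eps_of_mem mem_of_mul_eps 𝔅.π 𝔅.surj hker
  have hπeps : ∀ y : 𝔅.B, 𝔅.π (algebraMap (dual k k : Art k k) 𝔅.B eps * y) = 0 := by
    intro y
    rw [map_mul, 𝔅.comm, (Art.mem_maximalIdeal_iff _ _).1 eps_mem, map_zero, zero_mul]
  let E : Exal.Ext k B B :=
    { E := 𝔅.B
      proj :=
        { 𝔅.π with
          commutes' := fun c => by
            change 𝔅.π (algebraMap (dual k k : Art k k) 𝔅.B (algebraMap k (dual k k : Art k k) c)) = algebraMap k B c
            rw [𝔅.comm, AlgHom.commutes]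
            rfl }
      incl := j
      isExtension :=
        { proj_surjective := 𝔅.surj
          incl_injective := hjinj
          exact := fun x => by
            change 𝔅.π x = 0 ↔ _
            constructor
            · intro hx
              rw [hker, maximalIdeal_dual, Ideal.map_span, Set.image_singleton, Ideal.mem_span_singleton'] at hx
              obtain ⟨c, rfl⟩ := hx
              exact ⟨𝔅.π c, by rw [hj, mul_comm]⟩
            · rintro ⟨z, rfl⟩
              obtain ⟨y, rfl⟩ := 𝔅.surj z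
              rw [hj, hπeps]
          mul_incl := fun x z => by
            obtain ⟨y, rfl⟩ := 𝔅.surj z
            change x * j (𝔅.π y) = j (𝔅.π x • 𝔅.π y)
            rw [smul_eq_mul, ← map_mul, hj, hj]
            ring } }
  refine ⟨E, RingEquiv.refl _, fun c => rfl, fun x => rfl, fun x => ?_⟩
  exact (hj x).symm

theorem exists_algDef_of_ext (E : Exal.Ext k B B) : ∃ 𝔅 : AlgDef B (dual k k : Art k k), Rel 𝔅 E := by
  have hpi : ∀ z : B, E.proj (E.incl z) = 0 := fun z => (E.isExtension.exact _).2 ⟨z, rfl⟩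
  have h11 : E.incl 1 * E.incl 1 = 0 := by
    rw [E.isExtension.mul_incl, hpi, zero_smul, map_zero]
  let ρ : DualNumber k →ₐ[k] E.E :=
    DualNumber.lift ⟨(Algebra.ofId k E.E, E.incl 1), h11, fun a => Commute.all _ _⟩
  have hρeps : ρ DualNumber.eps = E.incl 1 := DualNumber.lift_apply_eps _
  letI : Algebra (dual k k : Art k k) E.E := RingHom.toAlgebra (show (dual k k : Art k k) →+* E.E from ρ.toRingHom)
  have halg : ∀ d : (dual k k : Art k k), algebraMap (dual k k : Art k k) E.E d = ρ d := fun d => rfl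
  have halgeps : algebraMap (dual k k : Art k k) E.E eps = E.incl 1 := hρeps
  have halgk : ∀ c : k, algebraMap (dual k k : Art k k) E.E (algebraMap k (dual k k : Art k k) c) =
      algebraMap k E.E c := fun c => ρ.commutes c
  have hinclproj : ∀ y : E.E, E.incl (E.proj y) = algebraMap (dual k k : Art k k) E.E eps * y := by
    intro y
    rw [halgeps, mul_comm, E.isExtension.mul_incl, smul_eq_mul, mul_one]
  have hcomm : ∀ d : (dual k k : Art k k),
      E.proj (algebraMap (dual k k : Art k k) E.E d) = algebraMap k B ((dual k k : Art k k).res d) := by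
    intro d
    obtain ⟨a, b, hd, hres⟩ := dual_decomp d
    rw [hres]
    conv_lhs => rw [hd]
    rw [map_add, map_mul, halgk, halgk, halgeps, map_add, map_mul, hpi, mul_zero, add_zero, AlgHom.commutes]
  have hkerle : ∀ x : E.E, E.proj x = 0 → ∃ y : E.E, x = algebraMap (dual k k : Art k k) E.E eps * y := by
    intro x hx
    obtain ⟨w, rfl⟩ := (E.isExtension.exact x).1 hx
    obtain ⟨y, rfl⟩ := E.isExtension.proj_surjective w
    exact ⟨y, hinclproj y⟩
  -- flatness
  have hflat : Module.Flat (dual k k : Art k k) E.E := by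
    letI : Field ((dual k k : Art k k) ⧸ IsLocalRing.maximalIdeal (dual k k : Art k k)) :=
      Ideal.Quotient.field _
    refine Groth.Agent.Lib.Helper9.flat_of_isNilpotent_of_rTensor_injective
      (IsLocalRing.maximalIdeal (dual k k : Art k k)) (isNilpotent_maximalIdeal _) ?_
    let ε' : IsLocalRing.maximalIdeal (dual k k : Art k k) := ⟨eps, eps_mem⟩
    have hA : ∀ z : ↥(IsLocalRing.maximalIdeal (dual k k : Art k k)) ⊗[(dual k k : Art k k)] E.E,
        ∃ x : E.E, z = ε' ⊗ₜ[(dual k k : Art k k)] x := by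
      intro z
      induction z using TensorProduct.induction_on with
      | zero => exact ⟨0, (TensorProduct.tmul_zero _ _).symm⟩
      | tmul m y =>
        obtain ⟨c, hc⟩ := eq_inl_mul_eps_of_mem m.1 m.2
        refine ⟨algebraMap k (dual k k : Art k k) c • y, ?_⟩
        rw [← TensorProduct.smul_tmul]
        congr 1
        apply Subtype.ext
        rw [hc]
        rfl
      | add x y hx hy =>
        obtain ⟨x', rfl⟩ := hx
        obtain ⟨y', rfl⟩ := hy
        exact ⟨x' + y', (TensorProduct.tmul_add _ _ _).symm⟩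
    rw [injective_iff_map_eq_zero]
    intro z hz
    obtain ⟨x, rfl⟩ := hA z
    rw [LinearMap.rTensor_tmul] at hz
    have h1 := congrArg (TensorProduct.lid (dual k k : Art k k) E.E) hz
    rw [TensorProduct.lid_tmul, map_zero] at h1
    change (eps : (dual k k : Art k k)) • x = 0 at h1
    rw [Algebra.smul_def, ← hinclproj] at h1
    have h2 : E.proj x = 0 := E.isExtension.incl_injective (by rw [h1, map_zero])
    obtain ⟨y, rfl⟩ := hkerle x h2
    rw [← Algebra.smul_def, ← TensorProduct.smul_tmul]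
    have h3 : (eps : (dual k k : Art k k)) • ε' = 0 := by
      apply Subtype.ext
      exact eps_mul_eps
    rw [h3, TensorProduct.zero_tmul]
  let 𝔅 : AlgDef B (dual k k : Art k k) :=
    { B := E.E
      flat := hflat
      π := E.proj.toRingHom
      comm := hcomm
      surj := E.isExtension.proj_surjective
      ker_le := fun x hx => by
        obtain ⟨y, rfl⟩ := hkerle x hx
        exact Ideal.mul_mem_right _ _ (Ideal.mem_map_of_mem _ eps_mem) }
  refine ⟨𝔅, RingEquiv.refl _, fun c => halgk c, fun x => rfl, fun x => ?_⟩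
  exact (hinclproj x).symm

lemma rel_algebraMap {𝔅 : AlgDef B (dual k k : Art k k)} {E : Exal.Ext k B B} (e : 𝔅.B ≃+* E.E)
    (h1 : ∀ c : k, e (algebraMap (dual k k : Art k k) 𝔅.B (algebraMap k (dual k k : Art k k) c)) = algebraMap k E.E c)
    (h3 : ∀ x : 𝔅.B, e (algebraMap (dual k k : Art k k) 𝔅.B eps * x) = E.incl (𝔅.π x))
    (d : (dual k k : Art k k)) :
    ∃ a b : k, d = algebraMap k (dual k k : Art k k) a + algebraMap k (dual k k : Art k k) b * eps ∧
      e (algebraMap (dual k k : Art k k) 𝔅.B d) = algebraMap k E.E a + algebraMap k E.E b * E.incl 1 := by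
  obtain ⟨a, b, hd, -⟩ := dual_decomp d
  refine ⟨a, b, hd, ?_⟩
  conv_lhs => rw [hd]
  rw [map_add, map_mul, map_add, map_mul, h1, h1]
  have := h3 1
  rw [mul_one, map_one] at this
  rw [this]

theorem rel_iso_iff {𝔅 𝔅' : AlgDef B (dual k k : Art k k)} {E E' : Exal.Ext k B B} (h : Rel 𝔅 E) (h' : Rel 𝔅' E') :
    Nonempty (𝔅.toDefSch.Iso 𝔅'.toDefSch) ↔ Nonempty (E.Equiv E') := by
  obtain ⟨e, h1, h2, h3⟩ := h
  obtain ⟨e', h1', h2', h3'⟩ := h'
  constructor
  · rintro ⟨i⟩
    obtain ⟨ψ, hA, hπ⟩ := AlgDef.exists_ringEquiv_of_iso 𝔅 𝔅' i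
    let f : E.E ≃+* E'.E := (e.symm.trans ψ).trans e'
    have hf : ∀ x, f x = e' (ψ (e.symm x)) := fun x => rfl
    refine ⟨⟨AlgEquiv.ofRingEquiv (f := f) ?_, ?_, ?_⟩⟩
    · intro c
      rw [hf, ← h1 c, RingEquiv.symm_apply_apply, hA, h1']
    · intro x
      change E'.proj (f x) = E.proj x
      rw [hf, h2', hπ, ← h2, RingEquiv.apply_symm_apply]
    · intro z
      change f (E.incl z) = E'.incl z
      obtain ⟨y, rfl⟩ := 𝔅.surj z
      rw [← h3, hf, RingEquiv.symm_apply_apply, map_mul, hA, h3', hπ]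
  · rintro ⟨f⟩
    let ψ : 𝔅.B ≃+* 𝔅'.B := (e.trans f.toAlgEquiv.toRingEquiv).trans e'.symm
    have hψ : ∀ x, ψ x = e'.symm (f.toAlgEquiv (e x)) := fun x => rfl
    refine ⟨AlgDef.isoOfRingEquiv 𝔅 𝔅' ψ ?_ ?_⟩
    · intro d
      rw [hψ, RingEquiv.symm_apply_eq]
      obtain ⟨a, b, hd, he⟩ := rel_algebraMap e h1 h3 d
      obtain ⟨a', b', hd', he'⟩ := rel_algebraMap e' h1' h3' d
      have hab : a = a' ∧ b = b' := dn_coeff_unique a b a' b' (hd.symm.trans hd')
      rw [he, he', map_add, map_mul, AlgEquiv.commutes, AlgEquiv.commutes, f.apply_incl, hab.1, hab.2]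
    · intro x
      rw [hψ, ← h2', RingEquiv.apply_symm_apply, f.proj_apply, h2]

/-- First-order deformations of `Spec B` correspond to extensions of `B` by `B`. -/
theorem nonempty_equiv_exalcom :
    Nonempty ((defFunctor (Λ := k) (Spec (CommRingCat.of B)) (x₀ (k := k) B)).obj (dual k k) ≃ Exal.Exalcom k B B) := by
  refine ⟨quotientEquivOfRel (DefSch.setoid _ _ _) (Exal.Ext.setoid k B B)
    (fun ξ E => ∃ 𝔅 : AlgDef B (dual k k : Art k k), Nonempty (ξ.Iso 𝔅.toDefSch) ∧ Rel 𝔅 E) ?_ ?_ ?_⟩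
  · intro ξ
    obtain ⟨𝔅, hi⟩ := exists_algDef ξ
    obtain ⟨E, hE⟩ := exists_ext_of_algDef 𝔅
    exact ⟨E, 𝔅, hi, hE⟩
  · intro E
    obtain ⟨𝔅, h𝔅⟩ := exists_algDef_of_ext E
    exact ⟨𝔅.toDefSch, 𝔅, ⟨DefSch.Iso.refl _⟩, h𝔅⟩
  · rintro ξ ξ' E E' ⟨𝔅, ⟨i⟩, h⟩ ⟨𝔅', ⟨i'⟩, h'⟩
    change Nonempty (ξ.Iso ξ') ↔ Nonempty (E.Equiv E')
    rw [← rel_iso_iff h h']
    constructor
    · rintro ⟨j⟩
      exact ⟨i.symm.trans (j.trans i')⟩
    · rintro ⟨j⟩
      exact ⟨i.trans (j.trans i'.symm)⟩

end Groth.Agent.Lib.Helper1.AffDef
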