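import Mathlib
import Groth.Prelude.Def_ArtFun3
import Groth.Agent.Lib.Helper1.ArtFunPS
import Groth.Agent.Lib.Helper1.ArtFunObsPS

/-!
# Maps from power series rings into trivial square-zero extensions
-/
universe u
open CategoryTheory

namespace Groth.Agent.Lib.Helper1.ArtFunLib

open ArtFun ArtFun.Art IsLocalRing MvPowerSeries

section TSZ

variable {k : Type u} [Field k] (A : Art k k) (M : Type u) [AddCommGroup M] [Module A M]
  [Module (A)ᵐᵒᵖ M] [IsCentralScalar A M] [Module k M] [IsScalarTower k A M] [IsScalarTower k (A)ᵐᵒᵖ M]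

/-- the ideal of pairs whose first component lies in the maximal ideal -/
def nilIdeal : Ideal (TrivSqZeroExt A M) :=
  Ideal.comap (TrivSqZeroExt.fstHom k A M : TrivSqZeroExt A M →+* A) (maximalIdeal A)

lemma mem_nilIdeal (z : TrivSqZeroExt A M) : z ∈ nilIdeal A M ↔ z.fst ∈ maximalIdeal A := Iff.rfl

lemma nilIdeal_pow_le (n : ℕ) : ∀ z ∈ nilIdeal A M ^ (n + 1),
    z.fst ∈ maximalIdeal A ^ (n + 1) ∧ z.snd ∈ (maximalIdeal A ^ n • (⊤ : Submodule A M)) := by
  induction n with
  | zero =>
    intro z hz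
    rw [zero_add, pow_one] at hz
    rw [zero_add, pow_one, pow_zero, Ideal.one_eq_top, Submodule.top_smul]
    exact ⟨hz, trivial⟩
  | succ n ih =>
    intro z hz
    rw [pow_succ] at hz
    refine Submodule.mul_induction_on hz ?_ ?_
    · intro x hx y hy
      obtain ⟨h1, h2⟩ := ih x hx
      have hy' : y.fst ∈ maximalIdeal A := hy
      constructor
      · rw [TrivSqZeroExt.fst_mul, pow_succ]
        exact Ideal.mul_mem_mul h1 hy'
      · rw [TrivSqZeroExt.snd_mul]
        apply Submodule.add_mem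
        · exact Submodule.smul_mem_smul h1 trivial
        · rw [op_smul_eq_smul, pow_succ', mul_smul]
          exact Submodule.smul_mem_smul hy' h2
    · intro x y hx hy
      rw [TrivSqZeroExt.fst_add, TrivSqZeroExt.snd_add]
      exact ⟨Ideal.add_mem _ hx.1 hy.1, Submodule.add_mem _ hx.2 hy.2⟩

lemma nilIdeal_pow_eq_bot (N : ℕ) (hN : maximalIdeal A ^ N = ⊥) : nilIdeal A M ^ (N + 1) = ⊥ := by
  rw [eq_bot_iff]
  intro z hz
  obtain ⟨h1, h2⟩ := nilIdeal_pow_le A M N z hz
  rw [pow_succ, hN, Ideal.bot_mul] at h1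
  rw [hN, Submodule.bot_smul] at h2
  rw [Submodule.mem_bot]
  exact TrivSqZeroExt.ext h1 h2

end TSZ

section DerivHom

variable {k : Type u} [Field k] {A : Art k k} {M : Type u} [AddCommGroup M] [Module A M]
  [Module (A)ᵐᵒᵖ M] [IsCentralScalar A M] [Module k M] [IsScalarTower k A M] [IsScalarTower k (A)ᵐᵒᵖ M]
variable {n : ℕ} (w : MvPowerSeries (Fin n) k →ₐ[k] A) (e : Fin n → M)

/-- `g ↦ ∑ i, w (∂ᵢ g) • eᵢ` -/
noncomputable def derivSum (g : MvPowerSeries (Fin n) k) : M := ∑ i, w (pderiv k i g) • e i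

lemma derivSum_add (g h : MvPowerSeries (Fin n) k) :
    derivSum w e (g + h) = derivSum w e g + derivSum w e h := by
  unfold derivSum
  rw [← Finset.sum_add_distrib]
  apply Finset.sum_congr rfl
  intro i _
  rw [map_add, map_add, add_smul]

lemma derivSum_mul (g h : MvPowerSeries (Fin n) k) :
    derivSum w e (g * h) = w g • derivSum w e h + w h • derivSum w e g := by
  unfold derivSum
  rw [Finset.smul_sum, Finset.smul_sum, ← Finset.sum_add_distrib]
  apply Finset.sum_congr rfl
  intro i _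
  rw [Derivation.leibniz, map_add, smul_eq_mul, smul_eq_mul, map_mul, map_mul, add_smul, mul_smul, mul_smul]

lemma derivSum_C (c : k) : derivSum w e (C c : MvPowerSeries (Fin n) k) = 0 := by
  unfold derivSum
  apply Finset.sum_eq_zero
  intro i _
  rw [pderiv_C, map_zero, zero_smul]

lemma derivSum_X (j : Fin n) : derivSum w e (X j : MvPowerSeries (Fin n) k) = e j := by
  classical
  unfold derivSum
  rw [Finset.sum_eq_single j]
  · rw [pderiv_X_self, map_one, one_smul]
  · intro i _ hij
    rw [pderiv_X_of_ne (Ne.symm hij), map_zero, zero_smul]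
  · intro h
    exact absurd (Finset.mem_univ j) h

/-- the algebra map `g ↦ (w g, ∑ i, w (∂ᵢ g) • eᵢ)` -/
noncomputable def derivHom : MvPowerSeries (Fin n) k →ₐ[k] TrivSqZeroExt A M where
  toFun g := TrivSqZeroExt.inl (w g) + TrivSqZeroExt.inr (derivSum w e g)
  map_one' := by
    have h1 : derivSum w e (1 : MvPowerSeries (Fin n) k) = 0 := by
      have := derivSum_C w e (1 : k)
      rwa [map_one] at this
    rw [h1, map_one, TrivSqZeroExt.inr_zero, add_zero]
    rfl
  map_mul' g h := by
    apply TrivSqZeroExt.ext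
    · simp only [TrivSqZeroExt.fst_mul, TrivSqZeroExt.fst_add, TrivSqZeroExt.fst_inl,
        TrivSqZeroExt.fst_inr, add_zero, map_mul]
    · simp only [TrivSqZeroExt.snd_mul, TrivSqZeroExt.snd_add, TrivSqZeroExt.snd_inl,
        TrivSqZeroExt.snd_inr, TrivSqZeroExt.fst_add, TrivSqZeroExt.fst_inl,
        TrivSqZeroExt.fst_inr, add_zero, zero_add, op_smul_eq_smul]
      exact derivSum_mul w e g h
  map_zero' := by
    have h1 : derivSum w e (0 : MvPowerSeries (Fin n) k) = 0 := by
      have := derivSum_C w e (0 : k)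
      rwa [map_zero] at this
    rw [h1, map_zero, TrivSqZeroExt.inr_zero, add_zero, TrivSqZeroExt.inl_zero]
  map_add' g h := by
    rw [derivSum_add, map_add, TrivSqZeroExt.inl_add, TrivSqZeroExt.inr_add]
    abel
  commutes' c := by
    have h0 : algebraMap k (MvPowerSeries (Fin n) k) c = C c := rfl
    rw [h0, derivSum_C, TrivSqZeroExt.inr_zero, add_zero]
    have h1 : w (C c : MvPowerSeries (Fin n) k) = algebraMap k A c := by
      rw [← h0, AlgHom.commutes]
    rw [h1]
    rfl

lemma derivHom_fst (g : MvPowerSeries (Fin n) k) : (derivHom w e g).fst = w g := by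
  change (TrivSqZeroExt.inl (w g) + TrivSqZeroExt.inr (derivSum w e g) : TrivSqZeroExt A M).fst = _
  rw [TrivSqZeroExt.fst_add, TrivSqZeroExt.fst_inl, TrivSqZeroExt.fst_inr, add_zero]

lemma derivHom_snd (g : MvPowerSeries (Fin n) k) : (derivHom w e g).snd = derivSum w e g := by
  change (TrivSqZeroExt.inl (w g) + TrivSqZeroExt.inr (derivSum w e g) : TrivSqZeroExt A M).snd = _
  rw [TrivSqZeroExt.snd_add, TrivSqZeroExt.snd_inl, TrivSqZeroExt.snd_inr, zero_add]

end DerivHom

section Unique

variable {k : Type u} [Field k] {A : Art k k} {M : Type u} [AddCommGroup M] [Module A M]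
  [Module (A)ᵐᵒᵖ M] [IsCentralScalar A M] [Module k M] [IsScalarTower k A M] [IsScalarTower k (A)ᵐᵒᵖ M]
variable {n : ℕ}

/-- a `k`-algebra map from a power series ring to an object of `Art k k` sends the variables into the maximal ideal -/
lemma algHom_X_mem_maximalIdeal (w : MvPowerSeries (Fin n) k →ₐ[k] A) (i : Fin n) :
    w (X i) ∈ maximalIdeal A := by
  rw [Art.mem_maximalIdeal_iff]
  have h1 := aug_eq_psCRing_res n (A.res.comp w)
  have h2 : A.res (w (X i)) = (psCRing (fieldCRing k) n).res (X i : MvPowerSeries (Fin n) k) :=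
    congrArg (fun χ : MvPowerSeries (Fin n) k →ₐ[k] k => χ (X i)) h1
  rw [h2]
  have h3 : (constantCoeff (X i : MvPowerSeries (Fin n) k) : k) = 0 := constantCoeff_X i
  change (fieldCRing k).res (constantCoeff (X i : MvPowerSeries (Fin n) k)) = 0
  exact (congrArg (fieldCRing k).res h3).trans (map_zero _)

lemma algHom_kills (Ψ : MvPowerSeries (Fin n) k →ₐ[k] TrivSqZeroExt A M) (N : ℕ)
    (hN : maximalIdeal A ^ N = ⊥) :
    ∀ g ∈ Ideal.span (Set.range (X : Fin n → MvPowerSeries (Fin n) k)) ^ (N + 1),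
      (Ψ : MvPowerSeries (Fin n) k →+* TrivSqZeroExt A M) g = 0 := by
  apply PS.kills_of_pow_eq_bot
  rw [eq_bot_iff, ← nilIdeal_pow_eq_bot A M N hN]
  apply Ideal.pow_right_mono
  rw [Ideal.span_le]
  rintro _ ⟨i, rfl⟩
  exact algHom_X_mem_maximalIdeal ((TrivSqZeroExt.fstHom k A M).comp Ψ) i

/-- every `k`-algebra map `k[[X]] → A ⊕ M` is given by its first component and the images of the variables -/
theorem algHom_eq_derivHom (Ψ : MvPowerSeries (Fin n) k →ₐ[k] TrivSqZeroExt A M) :
    Ψ = derivHom ((TrivSqZeroExt.fstHom k A M).comp Ψ) (fun i => (Ψ (X i)).snd) := by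
  obtain ⟨N, hN⟩ := exists_maximalIdeal_pow_eq_bot A
  have h := PS.ringHom_ext_of_kills (Ψ : MvPowerSeries (Fin n) k →+* TrivSqZeroExt A M)
    (derivHom ((TrivSqZeroExt.fstHom k A M).comp Ψ) (fun i => (Ψ (X i)).snd) :
      MvPowerSeries (Fin n) k →+* TrivSqZeroExt A M) (N + 1)
    (algHom_kills Ψ N hN) (algHom_kills _ N hN) (by
      intro c
      have h0 : (C c : MvPowerSeries (Fin n) k) = algebraMap k (MvPowerSeries (Fin n) k) c := rfl
      rw [h0]
      change Ψ (algebraMap k _ c) = derivHom _ _ (algebraMap k _ c)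
      rw [AlgHom.commutes, AlgHom.commutes]) (by
      intro i
      change Ψ (X i) = derivHom _ _ (X i)
      apply TrivSqZeroExt.ext
      · rw [derivHom_fst]
        rfl
      · rw [derivHom_snd, derivSum_X])
  apply AlgHom.ext
  intro g
  exact congrArg (fun χ : MvPowerSeries (Fin n) k →+* TrivSqZeroExt A M => χ g) h

end Unique

section Lift

variable {k : Type u} [Field k] {A : Art k k} {M : Type u} [AddCommGroup M] [Module A M]
  [Module (A)ᵐᵒᵖ M] [IsCentralScalar A M] [Module k M] [IsScalarTower k A M] [IsScalarTower k (A)ᵐᵒᵖ M]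
  {M' : Type u} [AddCommGroup M'] [Module A M']
  [Module (A)ᵐᵒᵖ M'] [IsCentralScalar A M'] [Module k M'] [IsScalarTower k A M'] [IsScalarTower k (A)ᵐᵒᵖ M']
variable {n : ℕ}

/-- power series rings have the lifting property for trivial square-zero extensions -/
theorem exists_lift_tsze (f : M' →ₗ[A] M) (hf : Function.Surjective f)
    (φ : MvPowerSeries (Fin n) k →ₐ[k] TrivSqZeroExt A M) :
    ∃ ψ : MvPowerSeries (Fin n) k →ₐ[k] TrivSqZeroExt A M',
      ∀ g, (ψ g).fst = (φ g).fst ∧ f (ψ g).snd = (φ g).snd := by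
  have hm : ∀ i : Fin n, ∃ m' : M', f m' = (φ (X i)).snd := fun i => hf _
  choose m' hm' using hm
  refine ⟨derivHom ((TrivSqZeroExt.fstHom k A M).comp φ) m', fun g => ⟨?_, ?_⟩⟩
  · rw [derivHom_fst]
    rfl
  · rw [derivHom_snd]
    have h1 := congrArg (fun χ : MvPowerSeries (Fin n) k →ₐ[k] TrivSqZeroExt A M => (χ g).snd)
      (algHom_eq_derivHom φ)
    change (φ g).snd = (derivHom _ _ g).snd at h1
    rw [h1, derivHom_snd]
    unfold derivSum
    rw [map_sum]
    apply Finset.sum_congr rfl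
    intro i _
    rw [map_smul, hm' i]

end Lift

end Groth.Agent.Lib.Helper1.ArtFunLib
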