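import Mathlib
import Groth.Prelude.Def_ArtFun3
import Groth.Agent.Lib.Helper1.ArtFunPSDeriv
import Groth.Agent.Lib.Helper1.ArtFunAugQuot
import Groth.Agent.Lib.Helper1.ArtFunObsDimMain

/-!
# A complete local `k`-algebra with the lifting property for trivial square-zero extensions
is a power series ring (characteristic zero)
-/
universe u
open CategoryTheory

namespace Groth.Agent.Lib.Helper1.ArtFunLib

open ArtFun ArtFun.Art IsLocalRing MvPowerSeries

/-- the lifting criterion for trivial square-zero extensions -/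
def LiftCrit (k : Type u) [Field k] (R : Type u) [CommRing R] [Algebra k R] : Prop :=
  ∀ (A : ArtFun.Art k k) (M M' : Type u) [AddCommGroup M] [Module (↥A) M] [Module (↥A)ᵐᵒᵖ M]
    [IsCentralScalar (↥A) M] [Module k M] [IsScalarTower k (↥A) M] [IsScalarTower k (↥A)ᵐᵒᵖ M]
    [AddCommGroup M'] [Module (↥A) M'] [Module (↥A)ᵐᵒᵖ M'] [IsCentralScalar (↥A) M'] [Module k M']
    [IsScalarTower k (↥A) M'] [IsScalarTower k (↥A)ᵐᵒᵖ M'] (f : M' →ₗ[↥A] M),
    Function.Surjective f →
      ∀ φ : R →ₐ[k] TrivSqZeroExt (↥A) M,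
        ∃ ψ : R →ₐ[k] TrivSqZeroExt (↥A) M',
          ∀ r : R, (ψ r).fst = (φ r).fst ∧ f (ψ r).snd = (φ r).snd

/-- the lifting criterion for trivial square-zero extensions by finite modules -/
def LiftCritFin (k : Type u) [Field k] (R : Type u) [CommRing R] [Algebra k R] : Prop :=
  ∀ (A : ArtFun.Art k k) (M M' : Type u) [AddCommGroup M] [Module (↥A) M] [Module (↥A)ᵐᵒᵖ M]
    [IsCentralScalar (↥A) M] [Module k M] [IsScalarTower k (↥A) M] [IsScalarTower k (↥A)ᵐᵒᵖ M]
    [AddCommGroup M'] [Module (↥A) M'] [Module (↥A)ᵐᵒᵖ M'] [IsCentralScalar (↥A) M'] [Module k M']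
    [IsScalarTower k (↥A) M'] [IsScalarTower k (↥A)ᵐᵒᵖ M'] [Module.Finite (↥A) M] [Module.Finite (↥A) M']
    (f : M' →ₗ[↥A] M),
    Function.Surjective f →
      ∀ φ : R →ₐ[k] TrivSqZeroExt (↥A) M,
        ∃ ψ : R →ₐ[k] TrivSqZeroExt (↥A) M',
          ∀ r : R, (ψ r).fst = (φ r).fst ∧ f (ψ r).snd = (φ r).snd

lemma LiftCrit.fin {k : Type u} [Field k] {R : Type u} [CommRing R] [Algebra k R] (H : LiftCrit k R) :
    LiftCritFin k R := by
  intro A M M' _ _ _ _ _ _ _ _ _ _ _ _ _ _ _ _ f hf φ
  exact H A M M' f hf φ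

section Aux

variable {k : Type u} [Field k] {n : ℕ}

lemma pderiv_mem_maximalIdeal_of_mem_sq {f : MvPowerSeries (Fin n) k}
    (hf : f ∈ maximalIdeal (MvPowerSeries (Fin n) k) ^ 2) (j : Fin n) :
    pderiv k j f ∈ maximalIdeal (MvPowerSeries (Fin n) k) := by
  rw [pow_two] at hf
  refine Submodule.mul_induction_on hf ?_ ?_
  · intro a ha b hb
    rw [Derivation.leibniz]
    exact Ideal.add_mem _ (Ideal.mul_mem_right _ _ ha) (Ideal.mul_mem_right _ _ hb)
  · intro x y hx hy
    rw [map_add]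
    exact Ideal.add_mem _ hx hy

lemma coord_mem_of_mem_smul_top {A : Type u} [CommRing A] (I : Ideal A) {x : Fin n → A}
    (hx : x ∈ I • (⊤ : Submodule A (Fin n → A))) (j : Fin n) : x j ∈ I := by
  refine Submodule.smul_induction_on hx ?_ ?_
  · intro a ha y _
    change a * y j ∈ I
    exact Ideal.mul_mem_right _ _ ha
  · intro y z hy hz
    exact Ideal.add_mem _ hy hz

end Aux

section StepA

variable {k : Type u} [Field k] {n : ℕ}
variable {R : Type u} [CommRing R] [Algebra k R] (resR : R →ₐ[k] k)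
variable (v : MvPowerSeries (Fin n) k →ₐ[k] R) (hvs : Function.Surjective v)
  (hker2 : RingHom.ker v ≤ maximalIdeal (MvPowerSeries (Fin n) k) ^ 2)

include resR hvs hker2 in
theorem pderiv_mem_sup (H : LiftCritFin k R) (N : ℕ) {f : MvPowerSeries (Fin n) k}
    (hf : f ∈ RingHom.ker v) (j : Fin n) :
    pderiv k j f ∈ RingHom.ker v ⊔ maximalIdeal (MvPowerSeries (Fin n) k) ^ (N + 1) := by
  classical
  have hJm : RingHom.ker v ≤ maximalIdeal (MvPowerSeries (Fin n) k) :=
    hker2.trans (Ideal.pow_le_self two_ne_zero)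
  have h3 : RingHom.ker v ⊔ maximalIdeal (MvPowerSeries (Fin n) k) ^ (N + 1) ≤
      maximalIdeal (MvPowerSeries (Fin n) k) := sup_le hJm (Ideal.pow_le_self (Nat.succ_ne_zero N))
  have h4 : maximalIdeal (MvPowerSeries (Fin n) k) ^ (N + 1) ≤
      RingHom.ker v ⊔ maximalIdeal (MvPowerSeries (Fin n) k) ^ (N + 1) := le_sup_right
  -- the Artinian quotient
  let A : Art k k := augQuot (MvPowerSeries (Fin n) k) (resR.comp v) _ h3 (N + 1) h4
  let W : HomSet (MvPowerSeries (Fin n) k) (resR.comp v) A :=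
    augQuotHom (MvPowerSeries (Fin n) k) (resR.comp v) _ h3 (N + 1) h4
  let w₀ : MvPowerSeries (Fin n) k →ₐ[k] A := W.1
  have hw₀ : ∀ g, w₀ g = 0 ↔ g ∈ RingHom.ker v ⊔ maximalIdeal (MvPowerSeries (Fin n) k) ^ (N + 1) :=
    fun g => augQuotHom_eq_zero_iff (MvPowerSeries (Fin n) k) (resR.comp v) _ h3 (N + 1) h4 g
  have hw₀m : ∀ g, g ∈ maximalIdeal (MvPowerSeries (Fin n) k) → w₀ g ∈ maximalIdeal A := fun g hg =>
    (augHomSet_mem_maximalIdeal_iff (MvPowerSeries (Fin n) k) (resR.comp v) W g).2 hg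
  -- the modules
  let e : Fin n → (Fin n → A) := fun i => Pi.single i 1
  have hdA : ∀ (g : MvPowerSeries (Fin n) k) (i : Fin n), derivSum w₀ e g i = w₀ (pderiv k i g) := by
    intro g i
    unfold derivSum
    rw [Finset.sum_apply, Finset.sum_eq_single i]
    · change w₀ (pderiv k i g) * (Pi.single i (1 : A) : Fin n → A) i = _
      rw [Pi.single_eq_same, mul_one]
    · intro l _ hl
      change w₀ (pderiv k l g) * (Pi.single l (1 : A) : Fin n → A) i = _
      rw [Pi.single_eq_of_ne (Ne.symm hl), mul_zero]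
    · intro h
      exact absurd (Finset.mem_univ i) h
  let K : Submodule A (Fin n → A) := Submodule.span A ((derivSum w₀ e) '' (RingHom.ker v : Set _))
  have hKm : K ≤ maximalIdeal A • (⊤ : Submodule A (Fin n → A)) := by
    rw [Submodule.span_le]
    rintro _ ⟨f', hf', rfl⟩
    unfold derivSum
    apply Submodule.sum_mem
    intro i _
    exact Submodule.smul_mem_smul (hw₀m _ (pderiv_mem_maximalIdeal_of_mem_sq (hker2 hf') i)) trivial
  let q : (Fin n → A) →ₗ[A] ((Fin n → A) ⧸ K) := K.mkQ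
  have hq : Function.Surjective q := K.mkQ_surjective
  have hqsum : ∀ g, derivSum w₀ (fun i => q (e i)) g = q (derivSum w₀ e g) := by
    intro g
    unfold derivSum
    rw [map_sum]
    apply Finset.sum_congr rfl
    intro i _
    rw [map_smul]
  -- the map out of `R`
  let φ₁ : MvPowerSeries (Fin n) k →ₐ[k] TrivSqZeroExt A ((Fin n → A) ⧸ K) :=
    derivHom w₀ (fun i => q (e i))
  have hφ₁ker : RingHom.ker v.toRingHom ≤ RingHom.ker φ₁.toRingHom := by
    intro f' hf'
    have hf'' : f' ∈ RingHom.ker v := hf'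
    rw [RingHom.mem_ker]
    change φ₁ f' = 0
    apply TrivSqZeroExt.ext
    · rw [derivHom_fst, TrivSqZeroExt.fst_zero]
      exact (hw₀ f').2 (Ideal.mem_sup_left hf'')
    · rw [derivHom_snd, TrivSqZeroExt.snd_zero, hqsum]
      exact (Submodule.Quotient.mk_eq_zero K).2 (Submodule.subset_span ⟨f', hf'', rfl⟩)
  let φ : R →ₐ[k] TrivSqZeroExt A ((Fin n → A) ⧸ K) := AlgHom.liftOfSurjective v hvs φ₁ hφ₁ker
  have hφ : ∀ g, φ (v g) = φ₁ g := fun g => AlgHom.liftOfSurjective_apply v hvs φ₁ hφ₁ker g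
  obtain ⟨ψ, hψ⟩ := H A ((Fin n → A) ⧸ K) (Fin n → A) q hq φ
  let Ψ : MvPowerSeries (Fin n) k →ₐ[k] TrivSqZeroExt A (Fin n → A) := ψ.comp v
  have hΨ := algHom_eq_derivHom Ψ
  have hfst : ∀ g, (TrivSqZeroExt.fstHom k A (Fin n → A)).comp Ψ g = w₀ g := by
    intro g
    change (ψ (v g)).fst = w₀ g
    rw [(hψ (v g)).1, hφ, derivHom_fst]
  -- the images of the variables
  have hE : ∀ i, (Ψ (X i)).snd - e i ∈ K := by
    intro i
    rw [← Submodule.Quotient.mk_eq_zero K, Submodule.Quotient.mk_sub, sub_eq_zero]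
    change q ((ψ (v (X i))).snd) = q (e i)
    rw [(hψ (v (X i))).2, hφ, derivHom_snd, derivSum_X]
  -- the relation
  have hrel : ∑ i, w₀ (pderiv k i f) • (Ψ (X i)).snd = 0 := by
    have h1 : Ψ f = 0 := by
      change ψ (v f) = 0
      rw [(RingHom.mem_ker).1 hf, map_zero]
    have h2 := congrArg (fun χ : MvPowerSeries (Fin n) k →ₐ[k] TrivSqZeroExt A (Fin n → A) =>
      (χ f).snd) hΨ
    change (Ψ f).snd = (derivHom _ _ f).snd at h2
    rw [h1, derivHom_snd, TrivSqZeroExt.snd_zero] at h2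
    unfold derivSum at h2
    rw [h2]
    apply Finset.sum_congr rfl
    intro i _
    rw [hfst]
  -- Nakayama
  let c : Fin n → A := fun i => w₀ (pderiv k i f)
  have hcle : Ideal.span (Set.range c) ≤ maximalIdeal A • Ideal.span (Set.range c) := by
    rw [Ideal.span_le]
    rintro _ ⟨l, rfl⟩
    have h1 := congrFun hrel l
    rw [Finset.sum_apply] at h1
    have h2 : ∀ i, (w₀ (pderiv k i f) • (Ψ (X i)).snd) l =
        c i * ((Ψ (X i)).snd - e i) l + c i * e i l := by
      intro i
      change c i * (Ψ (X i)).snd l = c i * ((Ψ (X i)).snd l - e i l) + c i * e i l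
      ring
    rw [Finset.sum_congr rfl (fun i _ => h2 i), Finset.sum_add_distrib] at h1
    have h3 : ∑ i, c i * e i l = c l := by
      rw [Finset.sum_eq_single l]
      · change c l * (Pi.single l (1 : A) : Fin n → A) l = c l
        rw [Pi.single_eq_same, mul_one]
      · intro i _ hi
        change c i * (Pi.single i (1 : A) : Fin n → A) l = 0
        rw [Pi.single_eq_of_ne (Ne.symm hi), mul_zero]
      · intro h
        exact absurd (Finset.mem_univ l) h
    rw [h3] at h1
    have h4 : c l = -∑ i, c i * ((Ψ (X i)).snd - e i) l := by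
      rw [eq_neg_iff_add_eq_zero, add_comm]
      exact h1
    change c l ∈ maximalIdeal A • Ideal.span (Set.range c)
    rw [h4]
    apply Submodule.neg_mem
    apply Submodule.sum_mem
    intro i _
    rw [mul_comm, ← smul_eq_mul]
    exact Submodule.smul_mem_smul (coord_mem_of_mem_smul_top _ (hKm (hE i)) l)
      (Ideal.subset_span ⟨i, rfl⟩)
  have hcbot : Ideal.span (Set.range c) = ⊥ :=
    Submodule.eq_bot_of_le_smul_of_le_jacobson_bot (maximalIdeal A) _
      (Submodule.fg_span (Set.finite_range c)) hcle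
      (le_of_eq (IsLocalRing.jacobson_eq_maximalIdeal ⊥ bot_ne_top).symm)
  have hcj : c j = 0 := by
    have : c j ∈ Ideal.span (Set.range c) := Ideal.subset_span ⟨j, rfl⟩
    rw [hcbot] at this
    exact this
  exact (hw₀ _).1 hcj

end StepA

section StepB

variable {k : Type u} [Field k] {n : ℕ}
variable {R : Type u} [CommRing R] [IsLocalRing R] [IsNoetherianRing R] [Algebra k R] (resR : R →ₐ[k] k)
variable (v : MvPowerSeries (Fin n) k →ₐ[k] R) (hvs : Function.Surjective v)
  (hker2 : RingHom.ker v ≤ maximalIdeal (MvPowerSeries (Fin n) k) ^ 2)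

include resR hvs hker2 in
theorem pderiv_mem_ker (H : LiftCritFin k R) {f : MvPowerSeries (Fin n) k}
    (hf : f ∈ RingHom.ker v) (j : Fin n) : pderiv k j f ∈ RingHom.ker v := by
  rw [RingHom.mem_ker]
  have hbot : (⨅ i, maximalIdeal R ^ i) = ⊥ :=
    Ideal.iInf_pow_eq_bot_of_isLocalRing _ (IsLocalRing.maximalIdeal.isMaximal R).ne_top
  have hmem : v (pderiv k j f) ∈ (⨅ i, maximalIdeal R ^ i) := by
    rw [Ideal.mem_iInf]
    intro i
    apply Ideal.pow_le_pow_right (Nat.le_succ i)
    obtain ⟨a, ha, b, hb, hab⟩ := Submodule.mem_sup.1 (pderiv_mem_sup resR v hvs hker2 H i hf j)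
    rw [← hab, map_add, (RingHom.mem_ker).1 ha, zero_add]
    have h1 : (v : MvPowerSeries (Fin n) k →+* R) b ∈
        Ideal.map (v : MvPowerSeries (Fin n) k →+* R) (maximalIdeal (MvPowerSeries (Fin n) k) ^ (i + 1)) :=
      Ideal.mem_map_of_mem _ hb
    have h0 : Ideal.map (v : MvPowerSeries (Fin n) k →+* R) (maximalIdeal (MvPowerSeries (Fin n) k)) =
        maximalIdeal R := IsLocalRing.map_maximalIdeal_of_surjective (v : MvPowerSeries (Fin n) k →+* R) hvs
    rw [Ideal.map_pow, h0] at h1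
    exact h1
  rw [hbot] at hmem
  exact hmem

end StepB

section StepC

variable {k : Type u} [Field k] [CharZero k] {n : ℕ}

theorem eq_bot_of_pderiv_stable (J : Ideal (MvPowerSeries (Fin n) k))
    (hJm : J ≤ maximalIdeal (MvPowerSeries (Fin n) k))
    (hJ : ∀ f ∈ J, ∀ j, pderiv k j f ∈ J) : J = ⊥ := by
  classical
  have key : ∀ d : ℕ, ∀ f ∈ J, ∀ e : Fin n →₀ ℕ, e.degree = d → MvPowerSeries.coeff e f = 0 := by
    intro d
    induction d with
    | zero =>
      intro f hf e he
      have he0 : e = 0 := (Finsupp.degree_eq_zero_iff e).1 he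
      rw [he0, coeff_zero_eq_constantCoeff_apply]
      by_contra h
      have hu : IsUnit f := by
        rw [MvPowerSeries.isUnit_iff_constantCoeff]
        exact isUnit_iff_ne_zero.2 h
      exact (IsLocalRing.mem_maximalIdeal f).1 (hJm hf) hu
    | succ d ih =>
      intro f hf e he
      have hne : e ≠ 0 := by
        intro h0
        rw [h0, map_zero] at he
        exact Nat.succ_ne_zero d he.symm
      obtain ⟨i, hi⟩ : ∃ i, e i ≠ 0 := by
        by_contra hcon
        push Not at hcon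
        exact hne (Finsupp.ext hcon)
      have hle : Finsupp.single i 1 ≤ e := by
        rw [Finsupp.single_le_iff]
        exact Nat.one_le_iff_ne_zero.2 hi
      have hsplit : e - Finsupp.single i 1 + Finsupp.single i 1 = e := tsub_add_cancel_of_le hle
      have hdeg : (e - Finsupp.single i 1).degree = d := by
        have h1 := congrArg Finsupp.degree hsplit
        rw [map_add, Finsupp.degree_single, he] at h1
        exact Nat.succ_injective h1
      have h2 := ih (pderiv k i f) (hJ f hf i) (e - Finsupp.single i 1) hdeg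
      rw [coeff_pderiv, hsplit] at h2
      rcases mul_eq_zero.1 h2 with h3 | h3
      · exact h3
      · exfalso
        have : ((((e - Finsupp.single i 1 : Fin n →₀ ℕ) i : ℕ) : k) + 1) ≠ 0 := Nat.cast_add_one_ne_zero _
        exact this h3
  rw [eq_bot_iff]
  intro f hf
  rw [Submodule.mem_bot]
  ext e
  rw [key _ f hf e rfl, map_zero]

end StepC

section Main

variable {k : Type u} [Field k]

theorem finrank_cotangentSpace_mvPowerSeries (n : ℕ) :
    Module.finrank (ResidueField (MvPowerSeries (Fin n) k)) (CotangentSpace (MvPowerSeries (Fin n) k)) = n := by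
  have h1 := IsLocalRing.spanFinrank_maximalIdeal_eq_finrank_cotangentSpace (MvPowerSeries (Fin n) k)
  have h2 := (isRegularLocalRing_mvPowerSeries k n).spanFinrank_maximalIdeal
  rw [ringKrullDim_mvPowerSeries k n] at h2
  rw [← h1]
  exact_mod_cast h2

theorem finrank_cotangentSpace_eq_of_ringEquiv {R S : Type u} [CommRing R] [IsLocalRing R] [IsNoetherianRing R]
    [CommRing S] [IsLocalRing S] [IsNoetherianRing S] (e : R ≃+* S) :
    Module.finrank (ResidueField R) (CotangentSpace R) = Module.finrank (ResidueField S) (CotangentSpace S) := by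
  rw [← IsLocalRing.spanFinrank_maximalIdeal_eq_finrank_cotangentSpace R,
    ← IsLocalRing.spanFinrank_maximalIdeal_eq_finrank_cotangentSpace S,
    ← IsLocalRing.map_ringEquiv_maximalIdeal e, Ideal.spanFinrank_map_eq_of_ringEquiv]

theorem exists_algEquiv_of_liftCritFin [CharZero k] (R : CRing k k) (H : LiftCritFin k R.carrier) :
    ∃ (n : ℕ) (v : MvPowerSeries (Fin n) k →ₐ[k] R.carrier), Function.Bijective v := by
  obtain ⟨n, v, hvs, hker2⟩ := exists_ps_presentation_field R
  have hstable : ∀ f ∈ RingHom.ker v, ∀ j, pderiv k j f ∈ RingHom.ker v :=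
    fun f hf j => pderiv_mem_ker R.res v hvs hker2 H hf j
  have hbot : RingHom.ker v = ⊥ :=
    eq_bot_of_pderiv_stable _ (hker2.trans (Ideal.pow_le_self two_ne_zero)) hstable
  have hinj : Function.Injective v :=
    (RingHom.injective_iff_ker_eq_bot (v : MvPowerSeries (Fin n) k →+* R.carrier)).2 hbot
  exact ⟨n, v, hinj, hvs⟩

theorem nonempty_algEquiv_mvPowerSeries_iff_liftCrit [CharZero k] (R : CRing k k) :
    Nonempty (R.carrier ≃ₐ[k] MvPowerSeries
        (Fin (Module.finrank (ResidueField R.carrier) (CotangentSpace R.carrier))) k) ↔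
      LiftCrit k R.carrier := by
  constructor
  · rintro ⟨e⟩
    intro A M M' _ _ _ _ _ _ _ _ _ _ _ _ _ _ f hf φ
    obtain ⟨ψ', hψ'⟩ := exists_lift_tsze f hf (φ.comp e.symm.toAlgHom)
    refine ⟨ψ'.comp e.toAlgHom, fun r => ?_⟩
    have h1 := hψ' (e r)
    have h2 : (φ.comp e.symm.toAlgHom) (e r) = φ r := by
      change φ (e.symm (e r)) = φ r
      rw [AlgEquiv.symm_apply_apply]
    rw [h2] at h1
    exact h1
  · intro H
    obtain ⟨n, v, hvs, hker2⟩ := exists_ps_presentation_field R
    have hstable : ∀ f ∈ RingHom.ker v, ∀ j, pderiv k j f ∈ RingHom.ker v :=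
      fun f hf j => pderiv_mem_ker R.res v hvs hker2 H.fin hf j
    have hbot : RingHom.ker v = ⊥ :=
      eq_bot_of_pderiv_stable _ (hker2.trans (Ideal.pow_le_self two_ne_zero)) hstable
    have hinj : Function.Injective v :=
      (RingHom.injective_iff_ker_eq_bot (v : MvPowerSeries (Fin n) k →+* R.carrier)).2 hbot
    let e₀ : MvPowerSeries (Fin n) k ≃ₐ[k] R.carrier := AlgEquiv.ofBijective v ⟨hinj, hvs⟩
    have hn : Module.finrank (ResidueField R.carrier) (CotangentSpace R.carrier) = n := by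
      rw [← finrank_cotangentSpace_eq_of_ringEquiv e₀.toRingEquiv, finrank_cotangentSpace_mvPowerSeries]
    rw [hn]
    exact ⟨e₀.symm⟩

end Main

end Groth.Agent.Lib.Helper1.ArtFunLib
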