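import Mathlib
import Groth.Agent.Lib.Helper25.DualPoint

/-!
# Point derivations and the cotangent space (helper1)

For a local `K`-algebra `A` with a `K`-rational point `ε : A → K`:
`finrank K (Der_K(A, K)) = finrank κ(A) (𝔪/𝔪²)`.
-/

universe u
open IsLocalRing

namespace Groth.Agent.Lib.Helper1.CotDer

open Groth.Agent.Lib.Helper25.DualPoint

variable {K A : Type u} [Field K] [CommRing A] [Algebra K A] [IsLocalRing A] (ε : A →ₐ[K] K)

omit [Algebra K A] in
lemma residue_smul (r : A) (m : CotangentSpace A) : residue A r • m = r • m := by
  obtain ⟨y, rfl⟩ := Ideal.toCotangent_surjective _ m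
  have : r • (maximalIdeal A).toCotangent y = (maximalIdeal A).toCotangent (r • y) := (map_smul _ r y).symm
  rw [this]
  rfl

lemma isScalarTower_cot : IsScalarTower K (ResidueField A) (CotangentSpace A) := by
  refine ⟨fun c x m => ?_⟩
  obtain ⟨t, rfl⟩ := IsLocalRing.residue_surjective x
  have e1 : c • (residue A t) = residue A (c • t) := rfl
  rw [e1, residue_smul, residue_smul, smul_assoc]

include ε in
lemma finrank_cot : Module.finrank K (CotangentSpace A) =
    Module.finrank (ResidueField A) (CotangentSpace A) := by
  haveI := isScalarTower_cot (K := K) (A := A)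
  have h1 : Module.finrank K (ResidueField A) = 1 := by
    have e : K ≃ₗ[K] ResidueField A :=
      LinearEquiv.ofBijective (Algebra.linearMap K (ResidueField A)) (algebraMap_residueField_bijective ε)
    rw [← e.finrank_eq, Module.finrank_self]
  have h2 := Module.finrank_mul_finrank K (ResidueField A) (CotangentSpace A)
  rw [h1, one_mul] at h2
  exact h2.symm

lemma d₀_smul (c : K) (a : A) : d₀ ε (c • a) = c • d₀ ε a := by
  rw [← algebraMap_smul A c (d₀ ε a)]
  unfold d₀
  rw [← map_smul]
  congr 1
  ext
  simp only [map_smul, smul_eq_mul, Submodule.coe_smul_of_tower]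
  rw [Algebra.smul_def, map_mul]
  ring

lemma residue_smul_cot (a : A) (y : CotangentSpace A) : residue A a • y = ε a • y := by
  haveI := isScalarTower_cot (K := K) (A := A)
  rw [residue_eq ε a, algebraMap_smul]

section Equiv

variable [Algebra A K] [IsScalarTower K A K]

/-- the rational point -/
noncomputable abbrev pt : A →ₐ[K] K := IsScalarTower.toAlgHom K A K

/-- the derivation of a functional on the cotangent space -/
noncomputable def derOf (ℓ : CotangentSpace A →ₗ[K] K) : Derivation K A K :=
  { toLinearMap :=
      { toFun := fun a => ℓ (d₀ (pt (K := K) (A := A)) a)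
        map_add' := fun a b => by rw [d₀_add, map_add]
        map_smul' := fun c a => by rw [d₀_smul, map_smul]; rfl }
    map_one_eq_zero' := by
      change ℓ (d₀ (pt (K := K) (A := A)) 1) = 0
      have : d₀ (pt (K := K) (A := A)) (1 : A) = 0 := by
        have := d₀_algebraMap (pt (K := K) (A := A)) (1 : K)
        rwa [map_one] at this
      rw [this, map_zero]
    leibniz' := fun a b => by
      change ℓ (d₀ (pt (K := K) (A := A)) (a * b)) =
        a • ℓ (d₀ (pt (K := K) (A := A)) b) + b • ℓ (d₀ (pt (K := K) (A := A)) a)
      rw [d₀_mul, map_add, residue_smul_cot (pt (K := K) (A := A)), residue_smul_cot (pt (K := K) (A := A)),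
        map_smul, map_smul,
        Algebra.smul_def (R := A) (A := K) a, Algebra.smul_def (R := A) (A := K) b]
      rfl }

theorem finrank_derivation :
    Module.finrank K (Derivation K A K) = Module.finrank (ResidueField A) (CotangentSpace A) := by
  have halg : ∀ a : A, algebraMap A K a = pt (K := K) (A := A) a := fun a => rfl
  rw [← finrank_cot (pt (K := K) (A := A)), ← Subspace.dual_finrank_eq (K := K) (V := CotangentSpace A)]
  -- the linear map `ℓ ↦ D_ℓ` is bijective
  let Ψ : Module.Dual K (CotangentSpace A) →ₗ[K] Derivation K A K :=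
    { toFun := fun ℓ => derOf ℓ
      map_add' := fun ℓ ℓ' => by
        apply Derivation.ext
        intro a
        rfl
      map_smul' := fun c ℓ => by
        apply Derivation.ext
        intro a
        rfl }
  have hinj : Function.Injective Ψ := by
    intro ℓ ℓ' h
    apply LinearMap.ext
    intro y
    obtain ⟨x, rfl⟩ := Ideal.toCotangent_surjective _ y
    have h1 := congrArg (fun D : Derivation K A K => D (x : A)) h
    change ℓ (d₀ (pt (K := K) (A := A)) x) = ℓ' (d₀ (pt (K := K) (A := A)) x) at h1
    rw [d₀_of_mem (pt (K := K) (A := A)) x.2] at h1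
    exact h1
  have hsurj : Function.Surjective Ψ := by
    intro D
    -- `D` restricted to `𝔪` is `A`-linear and kills `𝔪²`
    let D𝔪 : maximalIdeal A →ₗ[A] K :=
      { toFun := fun x => D x
        map_add' := fun x y => by
          change D ((x : A) + (y : A)) = _
          rw [map_add]
        map_smul' := fun a x => by
          change D (a * (x : A)) = a • D x
          rw [Derivation.leibniz, Algebra.smul_def (x : A), halg, apply_eq_zero_of_mem _ x.2, zero_mul,
            add_zero] }
    have hD : (maximalIdeal A) • (⊤ : Submodule A (maximalIdeal A)) ≤ LinearMap.ker D𝔪 := by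
      rw [Submodule.smul_le]
      intro a ha x _
      rw [LinearMap.mem_ker, map_smul, Algebra.smul_def, halg, apply_eq_zero_of_mem _ ha, zero_mul]
    let ℓA : CotangentSpace A →ₗ[A] K := Submodule.liftQ _ D𝔪 hD
    have hℓA : ∀ x : maximalIdeal A, ℓA ((maximalIdeal A).toCotangent x) = D x := fun x => rfl
    refine ⟨ℓA.restrictScalars K, ?_⟩
    apply Derivation.ext
    intro a
    change ℓA (d₀ (pt (K := K) (A := A)) a) = D a
    unfold d₀
    rw [hℓA]
    change D (a - algebraMap K A (pt (K := K) (A := A) a)) = D a
    rw [map_sub, Derivation.map_algebraMap, sub_zero]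
  exact (LinearEquiv.ofBijective Ψ ⟨hinj, hsurj⟩).finrank_eq.symm

end Equiv

end Groth.Agent.Lib.Helper1.CotDer
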