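import Groth.Agent.Lib.Helper1.AffDefObsTheory
import Groth.Agent.Lib.Helper1.AffDefTsze
import Groth.Agent.Lib.Helper1.AffDefDual
import Groth.Agent.Lib.Helper1.CotDer
import Groth.Agent.Lib.Helper1.ArtFunObsDimMain
import Groth.Agent.Lib.Helper1.ArtFunAdicSmooth
import Groth.Agent.Lib.Helper1.ArtFunTangentFin
import Groth.Agent.Lib.Helper1.ArtFunPSSmooth
import Groth.Agent.Lib.Helper1.ArtFunPSCrit

/-!
# Dimension of a hull of `Def_{B₀}` in terms of `T¹` and `T²` (helper1)
-/

universe u
open CategoryTheory CategoryTheory.Limits AlgebraicGeometry TensorProduct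
open ArtFun ArtFun.Art CotT

namespace Groth.Agent.Lib.Helper1.AffDef

open Groth.Agent.Lib.Helper1.ArtFunLib

variable {k : Type u} [Field k] {B₀ : Type u} [CommRing B₀] [Algebra k B₀] {ι σ : Type u}
  (P : Algebra.Presentation k B₀ ι σ)

section Theta

omit [Algebra k B₀] in
lemma dn_snd (c : k) :
    TrivSqZeroExt.snd ((algebraMap k (DualNumber k) c * DualNumber.eps : DualNumber k)) = c := by
  rw [dualNumber_snd_mul]
  simp [TrivSqZeroExt.algebraMap_eq_inl]

lemma rel_smul (X : Exal.Ext k B₀ B₀) (𝔅₁ : AlgDef B₀ (dual k k : Art k k)) (e : 𝔅₁.B ≃+* X.E)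
    (h1 : ∀ c : k, e (algebraMap (dual k k : Art k k) 𝔅₁.B (algebraMap k (dual k k : Art k k) c)) =
      algebraMap k X.E c)
    (h3 : ∀ x : 𝔅₁.B, e (algebraMap (dual k k : Art k k) 𝔅₁.B eps * x) = X.incl (𝔅₁.π x))
    (d : (dual k k : Art k k)) (hd : d ∈ IsLocalRing.maximalIdeal (dual k k : Art k k)) (b' : 𝔅₁.B) :
    e (d • b') = X.incl (algebraMap k B₀ (TrivSqZeroExt.snd (d : DualNumber k)) * 𝔅₁.π b') := by
  obtain ⟨c, rfl⟩ := eq_inl_mul_eps_of_mem d hd
  have h5 : (algebraMap k (dual k k : Art k k) c * eps) • b' =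
      algebraMap (dual k k : Art k k) 𝔅₁.B (algebraMap k (dual k k : Art k k) c) *
        (algebraMap (dual k k : Art k k) 𝔅₁.B eps * b') := by
    rw [Algebra.smul_def, map_mul, mul_assoc]
  have h6 : TrivSqZeroExt.snd ((algebraMap k (dual k k : Art k k) c * eps : (dual k k : Art k k)) :
      DualNumber k) = c := by
    exact dn_snd c
  rw [h5, map_mul, h1, h3, h6]
  have h7 : X.proj (algebraMap k X.E c) = algebraMap k B₀ c := X.proj.commutes c
  rw [X.isExtension.mul_incl, h7, smul_eq_mul]

/-- every class in `T¹(B₀/k, B₀)` is the class of a first order deformation -/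
theorem theta_surjective' (t : T1 P B₀) :
    ∃ x : (DefF k k B₀).obj (tszeObj k k k), T1map P (tszeMB (B₀ := B₀)).toLinearMap (theta k P x) = t := by
  obtain ⟨φ, rfl⟩ := (Groth.Agent.S12289.result k B₀ ι σ P B₀).2.2 t
  obtain ⟨X, hX⟩ := ExalT1.exists_cls_eq P φ
  obtain ⟨𝔅₁, e, h1, h2, h3⟩ := exists_algDef_of_ext X
  let 𝔅 : AlgDef B₀ (tszeObj k k k) := 𝔅₁
  refine ⟨𝔅.cl, ?_⟩
  rw [theta_cl, ← hX]
  symm
  letI := (AlgDef.toK k 𝔅).kAlgebra
  let φe : (extOf (tsze_sq_zero k k) (AlgDef.toK k 𝔅)).E →ₐ[k] X.E :=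
    { e.toRingHom with commutes' := h1 }
  refine ExalT1.cls_of_hom (tszeMB (B₀ := B₀)).toLinearMap (extOf (tsze_sq_zero k k) (AlgDef.toK k 𝔅)) X φe
    (fun x => h2 x) ?_
  intro m
  induction m using TensorProduct.induction_on with
  | zero => rw [map_zero, map_zero, map_zero, map_zero]
  | tmul b₀ j =>
    obtain ⟨b', rfl⟩ := 𝔅.surj b₀
    rw [extOf_incl]
    have hnu := AlgDef.nu_tmul (IsLocalRing.maximalIdeal (tszeObj k k k : Art k k)) (tsze_sq_zero k k)
      (AlgDef.toK k 𝔅) b' j
    change φe (AlgDef.nu _ _ (AlgDef.toK k 𝔅) (𝔅.π b' ⊗ₜ j)) = _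
    rw [hnu]
    have h4 : (tszeMB (B₀ := B₀)).toLinearMap (𝔅.π b' ⊗ₜ[k] j) =
        algebraMap k B₀ (TrivSqZeroExt.snd (j.1 : DualNumber k)) * 𝔅.π b' := by
      change (TensorProduct.AlgebraTensorModule.rid k B₀ B₀)
        ((LinearEquiv.baseChange k B₀ _ _ tszeMEquiv) (𝔅.π b' ⊗ₜ[k] j)) = _
      rw [LinearEquiv.baseChange_tmul, TensorProduct.AlgebraTensorModule.rid_tmul, Algebra.smul_def]
      rfl
    rw [h4]
    exact rel_smul X 𝔅₁ e h1 h3 j.1 j.2 b'
  | add x y hx hy => rw [map_add, map_add, map_add, map_add, hx, hy]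

end Theta

section Finrank

/-- the tangent space structure of the deformation functor -/
noncomputable def tsDefF : TangentStr (DefF k k B₀) := TStr.tangentStr h0_defF heps_defF

theorem finrank_tangent :
    @Module.finrank k (TangentSpace (DefF k k B₀)) _ (tsDefF (k := k) (B₀ := B₀)).addCommGroup.toAddCommMonoid
      (tsDefF (k := k) (B₀ := B₀)).module = Module.finrank k (T1 P B₀) := by
  letI TS : TangentStr (DefF k k B₀) := tsDefF
  let Θ : TangentSpace (DefF k k B₀) →ₗ[k] T1 P B₀ :=
    { toFun := fun x => T1map P (tszeMB (B₀ := B₀)).toLinearMap (theta k P x)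
      map_add' := fun x y => by
        obtain ⟨w, hw1, hw2⟩ := exists_dual2_of_heps h0_defF heps_defF x y
        have e1 : x + y = (DefF k k B₀).map plus w := by
          rw [← hw1, ← hw2]
          exact TS.add_eq w
        rw [e1, theta_plus, hw1, hw2, map_add]
      map_smul' := fun c x => by
        have e1 : c • x = (DefF k k B₀).map (scale c) x := TS.smul_eq c x
        rw [e1, theta_scale, map_smul, algebraMap_smul]
        rfl }
  have hinj : Function.Injective Θ := fun x y h =>
    theta_injective k P ((ExalT1.T1map_bijective P (tszeMB (B₀ := B₀))).1 h)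
  have hsurj : Function.Surjective Θ := fun t => theta_surjective' P t
  exact (LinearEquiv.ofBijective Θ ⟨hinj, hsurj⟩).finrank_eq

/-- the embedding dimension of a hull is the dimension of the tangent space -/
theorem finrank_cotangentSpace_hull {F : Art k k ⥤ Type (u + 1)} [TS : TangentStr F] (H : Hull F) :
    Module.finrank (IsLocalRing.ResidueField H.ring.carrier) (IsLocalRing.CotangentSpace H.ring.carrier) =
      Module.finrank k (TangentSpace F) := by
  letI : Algebra H.ring.carrier k := H.ring.res.toRingHom.toAlgebra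
  haveI : IsScalarTower k H.ring.carrier k :=
    IsScalarTower.of_algebraMap_eq (fun l => (H.ring.res.commutes l).symm)
  rw [← CotDer.finrank_derivation (K := k) (A := H.ring.carrier)]
  let ξ' : Family H.ring.carrier (IsScalarTower.toAlgHom k H.ring.carrier k) F := H.family
  have hinj : Function.Injective (tangentOfDer ξ') := by
    intro D D' h
    rw [tangentOfDer_apply, tangentOfDer_apply] at h
    have h1 : homSetOfDer D = homSetOfDer D' := H.miniversal.2.1 h
    apply Derivation.ext
    intro r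
    have h2 := congrArg (fun u : HomSet H.ring.carrier (IsScalarTower.toAlgHom k H.ring.carrier k) (dual k k) =>
      TrivSqZeroExt.snd (u.1 r : DualNumber k)) h1
    change (homOfDer D r).snd = (homOfDer D' r).snd at h2
    rw [homOfDer_snd, homOfDer_snd] at h2
    exact h2
  have hsurj : Function.Surjective (tangentOfDer ξ') := by
    intro x
    obtain ⟨u, hu⟩ := H.miniversal.2.2 x
    let u' : HomSet H.ring.carrier (IsScalarTower.toAlgHom k H.ring.carrier k) (dual k k) := u
    refine ⟨derOfHom u', ?_⟩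
    rw [tangentOfDer_apply, homSetOfDer_derOfHom]
    exact hu
  exact (LinearEquiv.ofBijective (tangentOfDer ξ') ⟨hinj, hsurj⟩).finrank_eq

end Finrank

section Smooth

open IsLocalRing MvPowerSeries

/-- a smooth `h_S` has `S` a power series ring -/
theorem exists_ps_equiv_of_smooth (S : CRing k k) (hsm : IsSmoothFunctor (hR S.carrier S.res)) :
    ∃ (n : ℕ) (v : MvPowerSeries (Fin n) k →ₐ[k] S.carrier), Function.Bijective v := by
  let u : (fieldCRing k).carrier →ₐ[k] S.carrier := Algebra.ofId k S.carrier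
  have hu : S.res.comp u = (fieldCRing k).res := algHom_self_ext _ _
  have hver : IsVersal ((Family.self (fieldCRing k).carrier (fieldCRing k).res).along u hu) := by
    intro B A μ hμ φ y hy
    obtain ⟨ψ, hψ⟩ := hsm μ hμ φ
    refine ⟨ψ, hψ, ?_⟩
    apply Subtype.ext
    exact algHom_self_ext _ _
  obtain ⟨n, v, -, hv⟩ := exists_ps_bijective_of_isVersal_along u hu hver
  exact ⟨n, v, hv⟩

/-- a power series ring has a smooth `h` -/
theorem isSmoothFunctor_hR_of_ps_equiv (S : CRing k k) (n : ℕ) (v : MvPowerSeries (Fin n) k →ₐ[k] S.carrier)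
    (hv : Function.Bijective v) : IsSmoothFunctor (hR S.carrier S.res) := by
  intro B A μ hμ φ
  let e : MvPowerSeries (Fin n) k ≃ₐ[k] S.carrier := AlgEquiv.ofBijective v hv
  let resT : MvPowerSeries (Fin n) k →ₐ[k] k := S.res.comp v
  let φT : HomSet (MvPowerSeries (Fin n) k) resT A :=
    ⟨φ.1.comp v, by rw [← AlgHom.comp_assoc, φ.2]⟩
  obtain ⟨ψT, hψT⟩ := mvPowerSeries_smooth n resT μ hμ φT
  have hres : B.res.comp (ψT.1.comp (e.symm : S.carrier →ₐ[k] MvPowerSeries (Fin n) k)) = S.res := by
    rw [← AlgHom.comp_assoc, ψT.2]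
    apply AlgHom.ext
    intro s
    change S.res (v (e.symm s)) = S.res s
    have : v (e.symm s) = s := e.apply_symm_apply s
    rw [this]
  refine ⟨⟨ψT.1.comp (e.symm : S.carrier →ₐ[k] MvPowerSeries (Fin n) k), hres⟩, ?_⟩
  apply homSet_ext
  intro s
  have h1 := congrArg (fun w : HomSet (MvPowerSeries (Fin n) k) resT A => w.1 (e.symm s)) hψT
  change μ (ψT.1 (e.symm s)) = φ.1 (v (e.symm s)) at h1
  have : v (e.symm s) = s := e.apply_symm_apply s
  rw [this] at h1
  exact h1

/-- if the dimension of `S` is its embedding dimension, a minimal presentation is an isomorphism -/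
theorem ker_eq_bot_of_dim_eq (S : CRing k k) (n : ℕ) (v : MvPowerSeries (Fin n) k →ₐ[k] S.carrier)
    (hvs : Function.Surjective v)
    (hker : RingHom.ker v ≤ maximalIdeal (MvPowerSeries (Fin n) k) ^ 2)
    (hdim : ringKrullDim S.carrier =
      (Module.finrank (ResidueField S.carrier) (CotangentSpace S.carrier) : WithBot ℕ∞)) :
    RingHom.ker v = ⊥ := by
  classical
  set e := Module.finrank (ResidueField S.carrier) (CotangentSpace S.carrier) with he
  have he' : (maximalIdeal S.carrier).spanFinrank = e :=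
    IsLocalRing.spanFinrank_maximalIdeal_eq_finrank_cotangentSpace S.carrier
  -- Step 1: `n ≤ e`
  have hmap : Ideal.map (v : MvPowerSeries (Fin n) k →+* S.carrier) (maximalIdeal (MvPowerSeries (Fin n) k)) =
      maximalIdeal S.carrier :=
    IsLocalRing.map_maximalIdeal_of_surjective (v : MvPowerSeries (Fin n) k →+* S.carrier) hvs
  obtain ⟨s, hs1, hs2⟩ := Submodule.FG.exists_span_finset_card_eq_spanFinrank
    (IsNoetherian.noetherian (maximalIdeal S.carrier))
  let t : Finset (MvPowerSeries (Fin n) k) := s.image (Function.surjInv hvs)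
  have hvt : ∀ y ∈ s, v (Function.surjInv hvs y) = y := fun y _ => Function.surjInv_eq hvs y
  have hmapt : Ideal.map (v : MvPowerSeries (Fin n) k →+* S.carrier) (Ideal.span (t : Set (MvPowerSeries (Fin n) k))) =
      maximalIdeal S.carrier := by
    rw [Ideal.map_span, ← hs2]
    congr 1
    ext y
    simp only [Finset.coe_image, Set.mem_image, Finset.mem_coe, t]
    constructor
    · rintro ⟨x, ⟨y', hy', rfl⟩, rfl⟩
      have : v (Function.surjInv hvs y') = y' := hvt y' hy'
      change v (Function.surjInv hvs y') ∈ s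
      rw [this]
      exact hy'
    · intro hy
      exact ⟨Function.surjInv hvs y, ⟨y, hy, rfl⟩, hvt y hy⟩
  have hle : maximalIdeal (MvPowerSeries (Fin n) k) ≤ Ideal.span (t : Set (MvPowerSeries (Fin n) k)) := by
    have h1 : maximalIdeal (MvPowerSeries (Fin n) k) ≤ Ideal.span (t : Set (MvPowerSeries (Fin n) k)) ⊔
        maximalIdeal (MvPowerSeries (Fin n) k) • maximalIdeal (MvPowerSeries (Fin n) k) := by
      intro x hx
      have h2 : (v : MvPowerSeries (Fin n) k →+* S.carrier) x ∈
          Ideal.map (v : MvPowerSeries (Fin n) k →+* S.carrier)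
            (Ideal.span (t : Set (MvPowerSeries (Fin n) k))) := by
        rw [hmapt, ← hmap]
        exact Ideal.mem_map_of_mem _ hx
      have h3 : x ∈ Ideal.comap (v : MvPowerSeries (Fin n) k →+* S.carrier)
          (Ideal.map (v : MvPowerSeries (Fin n) k →+* S.carrier)
            (Ideal.span (t : Set (MvPowerSeries (Fin n) k)))) := h2
      rw [Ideal.comap_map_of_surjective (v : MvPowerSeries (Fin n) k →+* S.carrier) hvs] at h3
      have h4 : Ideal.span (t : Set (MvPowerSeries (Fin n) k)) ⊔
          Ideal.comap (v : MvPowerSeries (Fin n) k →+* S.carrier) ⊥ ≤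
          Ideal.span (t : Set (MvPowerSeries (Fin n) k)) ⊔
            maximalIdeal (MvPowerSeries (Fin n) k) • maximalIdeal (MvPowerSeries (Fin n) k) := by
        refine sup_le_sup le_rfl ?_
        rw [smul_eq_mul, ← pow_two]
        exact hker
      exact h4 h3
    exact Submodule.le_of_le_smul_of_le_jacobson_bot (IsNoetherian.noetherian _)
      (by rw [IsLocalRing.jacobson_eq_maximalIdeal ⊥ bot_ne_top]) h1
  have hge : Ideal.span (t : Set (MvPowerSeries (Fin n) k)) ≤ maximalIdeal (MvPowerSeries (Fin n) k) := by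
    rw [Ideal.span_le]
    intro x hx
    rw [Finset.mem_coe, Finset.mem_image] at hx
    obtain ⟨y, hy, rfl⟩ := hx
    have hy𝔪 : y ∈ maximalIdeal S.carrier := by
      rw [← hs2]
      exact Ideal.subset_span hy
    rw [SetLike.mem_coe, IsLocalRing.mem_maximalIdeal, mem_nonunits_iff]
    intro hu
    have : IsUnit (v (Function.surjInv hvs y)) := hu.map v
    rw [hvt y hy] at this
    exact (IsLocalRing.mem_maximalIdeal y).1 hy𝔪 this
  have heq : maximalIdeal (MvPowerSeries (Fin n) k) = Ideal.span (t : Set (MvPowerSeries (Fin n) k)) :=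
    le_antisymm hle hge
  have hn1 : (maximalIdeal (MvPowerSeries (Fin n) k)).spanFinrank ≤ e := by
    rw [heq, ← he', ← hs1]
    refine le_trans (Submodule.spanFinrank_span_le_ncard_of_finite (Finset.finite_toSet t)) ?_
    rw [Set.ncard_coe_finset]
    exact Finset.card_image_le
  have hn2 : (n : WithBot ℕ∞) ≤ ((maximalIdeal (MvPowerSeries (Fin n) k)).spanFinrank : WithBot ℕ∞) := by
    rw [← ringKrullDim_mvPowerSeries k n]
    exact ringKrullDim_le_spanFinrank_maximalIdeal _
  have hne : n ≤ e := by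
    have : (n : WithBot ℕ∞) ≤ (e : WithBot ℕ∞) := hn2.trans (by exact_mod_cast hn1)
    exact_mod_cast this
  -- Step 2
  by_contra hbot
  obtain ⟨f, hf, hf0⟩ := Submodule.exists_mem_ne_zero_of_ne_bot hbot
  have hfnz : f ∈ nonZeroDivisors (MvPowerSeries (Fin n) k) := mem_nonZeroDivisors_of_ne_zero hf0
  have h1 := ringKrullDim_quotient_succ_le_of_nonZeroDivisor hfnz
  have hle2 : Ideal.span {f} ≤ RingHom.ker (v : MvPowerSeries (Fin n) k →+* S.carrier) := by
    rw [Ideal.span_singleton_le_iff_mem]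
    exact hf
  have h2 : ringKrullDim S.carrier ≤ ringKrullDim (MvPowerSeries (Fin n) k ⧸ Ideal.span {f}) :=
    ringKrullDim_le_of_surjective
      (Ideal.Quotient.lift (Ideal.span {f}) (v : MvPowerSeries (Fin n) k →+* S.carrier) (fun a ha => hle2 ha))
      (Ideal.Quotient.lift_surjective_of_surjective _ _ hvs)
  rw [ringKrullDim_mvPowerSeries k n] at h1
  have h3 : ((e : ℕ) : WithBot ℕ∞) + 1 ≤ (n : WithBot ℕ∞) := by
    rw [← hdim]
    exact (add_le_add h2 le_rfl).trans h1
  have h4 : e + 1 ≤ n := by exact_mod_cast h3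
  omega

end Smooth

section Main

open IsLocalRing

/-- dimension of a hull of `Def_{B₀}` in terms of `T¹` and `T²` -/
theorem hull_dim_T1_T2 [Module.Finite k (T1 P B₀)] (H : Hull (DefF k k B₀)) :
    ringKrullDim H.ring.carrier ≤ ((Module.finrank k (T1 P B₀) : ℕ∞) : WithBot ℕ∞) ∧
      (Module.Finite k (T2 P B₀) →
        ((Module.finrank k (T1 P B₀) : ℕ∞) : WithBot ℕ∞) ≤
          ringKrullDim H.ring.carrier + ((Module.finrank k (T2 P B₀) : ℕ∞) : WithBot ℕ∞)) ∧
      (ringKrullDim H.ring.carrier = ((Module.finrank k (T1 P B₀) : ℕ∞) : WithBot ℕ∞) ↔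
        IsSmoothFunctor (DefF k k B₀)) := by
  letI TS : TangentStr (DefF k k B₀) := tsDefF
  have he : Module.finrank (ResidueField H.ring.carrier) (CotangentSpace H.ring.carrier) =
      Module.finrank k (T1 P B₀) := (finrank_cotangentSpace_hull H).trans (finrank_tangent P)
  have hcast : ∀ n : ℕ, ((n : ℕ∞) : WithBot ℕ∞) = (n : WithBot ℕ∞) := fun n => rfl
  have hsm := isSmoothFunctor_iff_of_isVersal (h0_defF (Λ := k) (k := k) (B₀ := B₀)) H.ring H.family H.miniversal.1
  refine ⟨?_, ?_, ?_⟩
  · rw [hcast, ← he, ← IsLocalRing.spanFinrank_maximalIdeal_eq_finrank_cotangentSpace H.ring.carrier]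
    exact ringKrullDim_le_spanFinrank_maximalIdeal _
  · intro hT2
    haveI := hT2
    have h := (hull_dim_bounds (CotT.T2 P B₀) (obsTheory P) H).2.1
    rw [he] at h
    rw [hcast, hcast]
    exact h
  · rw [hcast, ← he]
    constructor
    · intro hdim
      obtain ⟨n, v, hvs, hker2⟩ := exists_ps_presentation_field H.ring
      have hbot := ker_eq_bot_of_dim_eq H.ring n v hvs hker2 hdim
      have hinj : Function.Injective v :=
        (RingHom.injective_iff_ker_eq_bot (v : MvPowerSeries (Fin n) k →+* H.ring.carrier)).2 hbot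
      exact hsm.2 (isSmoothFunctor_hR_of_ps_equiv H.ring n v ⟨hinj, hvs⟩)
    · intro hF
      obtain ⟨n, v, hv⟩ := exists_ps_equiv_of_smooth H.ring (hsm.1 hF)
      let e : MvPowerSeries (Fin n) k ≃ₐ[k] H.ring.carrier := AlgEquiv.ofBijective v hv
      rw [← finrank_cotangentSpace_eq_of_ringEquiv e.toRingEquiv, finrank_cotangentSpace_mvPowerSeries,
        ← ringKrullDim_eq_of_ringEquiv e.toRingEquiv, ringKrullDim_mvPowerSeries k n]

end Main

end Groth.Agent.Lib.Helper1.AffDef
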