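import Groth.Agent.Lib.Helper1.AffDefTorsor
import Groth.Agent.Lib.Helper10.Thick

/-!
# Extensions of a deformation of `Spec B₀` along a semismall extension: schemes versus algebras (helper1)
-/

universe u
open CategoryTheory CategoryTheory.Limits AlgebraicGeometry TensorProduct ArtFun ArtFun.Art

namespace Groth.Agent.Lib.Helper1.AffDef

section ExtSet

variable {k : Type u} [Field k] {B₀ : Type u} [CommRing B₀] [Algebra k B₀] {C' C : Art k k} (p : C' ⟶ C)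
  (𝒳 : DefSch (Spec (CommRingCat.of B₀)) (x₀ (k := k) B₀) C)

/-- Extensions of `𝒳` over `C'`. -/
abbrev ExtS : Type (u + 1) :=
  Σ 𝒳' : DefSch (Spec (CommRingCat.of B₀)) (x₀ (k := k) B₀) C', (𝒳'.baseChange p).Iso 𝒳

variable {p 𝒳}

/-- The comparison morphism `𝒳 → 𝒳'`. -/
noncomputable def ExtS.u (a : ExtS p 𝒳) : 𝒳.total ⟶ a.1.total :=
  a.2.iso.inv ≫ pullback.fst a.1.f (specMap p)

lemma ExtS.u_f (a : ExtS p 𝒳) : a.u ≫ a.1.f = 𝒳.f ≫ specMap p := by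
  unfold ExtS.u
  rw [Category.assoc, pullback.condition, ← Category.assoc]
  congr 1
  exact a.2.symm.hom_f

lemma ExtS.i_u (a : ExtS p 𝒳) : 𝒳.i ≫ a.u = a.1.i := by
  unfold ExtS.u
  rw [← Category.assoc]
  have h1 : 𝒳.i ≫ a.2.iso.inv = (a.1.baseChange p).i := a.2.symm.i_hom
  rw [h1, DefSch.baseChange_i_fst]

lemma ExtS.rel_iff (a b : ExtS p 𝒳) :
    (∃ ψ : a.1.Iso b.1, ((ψ.baseChange p).trans b.2).iso = a.2.iso) ↔
      ∃ ψ : a.1.Iso b.1, a.u ≫ ψ.iso.hom = b.u := by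
  constructor
  · rintro ⟨ψ, h⟩
    refine ⟨ψ, ?_⟩
    have h1 : DefSch.pullMap ψ.iso.hom ψ.hom_f p ≫ b.2.iso.hom = a.2.iso.hom := congrArg Iso.hom h
    have h2 : a.2.iso.inv ≫ DefSch.pullMap ψ.iso.hom ψ.hom_f p = b.2.iso.inv := by
      rw [Iso.inv_comp_eq, ← h1, Category.assoc, Iso.hom_inv_id, Category.comp_id]
    unfold ExtS.u
    rw [Category.assoc, ← DefSch.pullMap_fst ψ.iso.hom ψ.hom_f p, ← Category.assoc, h2]
  · rintro ⟨ψ, h⟩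
    refine ⟨ψ, ?_⟩
    apply Iso.ext
    change DefSch.pullMap ψ.iso.hom ψ.hom_f p ≫ b.2.iso.hom = a.2.iso.hom
    rw [← Iso.eq_comp_inv]
    apply pullback.hom_ext
    · rw [DefSch.pullMap_fst, Category.assoc]
      have h3 : b.2.iso.inv ≫ pullback.fst b.1.f (specMap p) = b.u := rfl
      rw [h3, ← h]
      unfold ExtS.u
      rw [Category.assoc, Iso.hom_inv_id_assoc]
    · rw [DefSch.pullMap_snd, Category.assoc]
      have h4 : b.2.iso.inv ≫ pullback.snd b.1.f (specMap p) = 𝒳.f := b.2.symm.hom_f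
      rw [h4]
      exact a.2.hom_f.symm

variable (p 𝒳) in
/-- The setoid of extensions. -/
def ExtS.setoid : Setoid (ExtS p 𝒳) where
  r a b := ∃ ψ : a.1.Iso b.1, a.u ≫ ψ.iso.hom = b.u
  iseqv :=
    ⟨fun a => ⟨DefSch.Iso.refl a.1, Category.comp_id _⟩,
      fun {a b} ⟨ψ, h⟩ => ⟨ψ.symm, by
        change b.u ≫ ψ.iso.inv = a.u
        rw [← h, Category.assoc, Iso.hom_inv_id, Category.comp_id]⟩,
      fun {a b c} ⟨ψ, h⟩ ⟨ψ', h'⟩ => ⟨ψ.trans ψ', by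
        change a.u ≫ (ψ.iso.hom ≫ ψ'.iso.hom) = c.u
        rw [← Category.assoc, h, h']⟩⟩

variable (𝔅 : AlgDef B₀ C) (i₀ : 𝒳.Iso 𝔅.toDefSch)

/-- The relation between scheme extensions and algebraic lifts. -/
def ExtS.R (a : ExtS p 𝒳) (ℓ : Lift 𝔅 p) : Prop :=
  ∃ ψ : a.1.Iso ℓ.𝔅'.toDefSch, a.u ≫ ψ.iso.hom = i₀.iso.hom ≫ Spec.map (CommRingCat.ofHom ℓ.θ)

theorem exists_extS_of_lift (hp : Art.IsSemismallExt p) (ℓ : Lift 𝔅 p) : ∃ a : ExtS p 𝒳, ExtS.R 𝔅 i₀ a ℓ := by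
  have hpo := isPushout_of_surjective p.toAlgHom.toRingHom (algebraMap C' ℓ.𝔅'.B) (algebraMap C 𝔅.B) ℓ.θ
    ℓ.hθA hp.1 ℓ.hθ ℓ.hker
  let bc := AlgDef.baseChangeIso ℓ.𝔅' 𝔅 p ℓ.θ ℓ.hθπ hpo
  refine ⟨⟨ℓ.𝔅'.toDefSch, bc.trans i₀.symm⟩, DefSch.Iso.refl _, ?_⟩
  change ((i₀.iso.hom ≫ bc.iso.inv) ≫ pullback.fst _ _) ≫ 𝟙 _ = _
  rw [Category.comp_id, Category.assoc]
  congr 1
  exact IsPullback.isoIsPullback_inv_fst _ _ _ _

theorem exists_lift_of_extS (hp : Art.IsSemismallExt p) (a : ExtS p 𝒳) : ∃ ℓ : Lift 𝔅 p, ExtS.R 𝔅 i₀ a ℓ := by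
  obtain ⟨𝔅', ⟨i'⟩⟩ := exists_algDef a.1
  let m : Spec (CommRingCat.of 𝔅.B) ⟶ Spec (CommRingCat.of 𝔅'.B) := i₀.iso.inv ≫ a.u ≫ i'.iso.hom
  let θc : CommRingCat.of 𝔅'.B ⟶ CommRingCat.of 𝔅.B := Spec.preimage m
  have hθc : Spec.map θc = m := Spec.map_preimage m
  have hmf : m ≫ 𝔅'.toDefSch.f = 𝔅.toDefSch.f ≫ specMap p := by
    change (i₀.iso.inv ≫ a.u ≫ i'.iso.hom) ≫ _ = _
    rw [Category.assoc, Category.assoc, i'.hom_f, a.u_f, ← Category.assoc]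
    congr 1
    exact i₀.symm.hom_f
  have him : 𝔅.toDefSch.i ≫ m = 𝔅'.toDefSch.i := by
    change _ ≫ (i₀.iso.inv ≫ a.u ≫ i'.iso.hom) = _
    have h1 : 𝔅.toDefSch.i ≫ i₀.iso.inv = 𝒳.i := i₀.symm.i_hom
    rw [← Category.assoc, h1, ← Category.assoc, a.i_u, i'.i_hom]
  have hA : CommRingCat.ofHom (algebraMap C' 𝔅'.B) ≫ θc =
      CommRingCat.ofHom p.toAlgHom.toRingHom ≫ CommRingCat.ofHom (algebraMap C 𝔅.B) := by
    apply Spec.map_injective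
    rw [Spec.map_comp, Spec.map_comp, hθc]
    exact hmf
  have hπ : θc ≫ CommRingCat.ofHom 𝔅.π = CommRingCat.ofHom 𝔅'.π := by
    apply Spec.map_injective
    rw [Spec.map_comp, hθc]
    exact him
  have hpb : IsPullback m 𝔅.toDefSch.f 𝔅'.toDefSch.f (specMap p) := by
    refine IsPullback.of_iso (IsPullback.of_hasPullback a.1.f (specMap p)) (a.2.iso ≪≫ i₀.iso) i'.iso
      (Iso.refl _) (Iso.refl _) ?_ ?_ ?_ ?_
    · change _ = (a.2.iso.hom ≫ i₀.iso.hom) ≫ (i₀.iso.inv ≫ (a.2.iso.inv ≫ pullback.fst a.1.f (specMap p)) ≫ i'.iso.hom)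
      simp only [Category.assoc, Iso.hom_inv_id_assoc]
    · change _ ≫ 𝟙 _ = (a.2.iso.hom ≫ i₀.iso.hom) ≫ _
      rw [Category.comp_id, Category.assoc, i₀.hom_f]
      exact a.2.hom_f.symm
    · rw [Iso.refl_hom, Category.comp_id]
      exact i'.hom_f.symm
    · rw [Iso.refl_hom, Category.comp_id, Iso.refl_hom, Category.id_comp]
  have hpo : IsPushout (CommRingCat.ofHom p.toAlgHom.toRingHom) (CommRingCat.ofHom (algebraMap C' 𝔅'.B))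
      (CommRingCat.ofHom (algebraMap C 𝔅.B)) (CommRingCat.ofHom θc.hom) := by
    apply isPushout_of_isPullback_SpecMap
    rw [CommRingCat.ofHom_hom, hθc]
    exact hpb.flip
  have hsurj : Function.Surjective p.toAlgHom.toRingHom := hp.1
  let ℓ : Lift 𝔅 p :=
    { 𝔅' := 𝔅'
      θ := θc.hom
      hθA := fun c => (congrArg (fun f => f.hom c) hA : _)
      hθπ := fun b => (congrArg (fun f => f.hom b) hπ : _)
      hθ := Groth.Agent.Lib.Helper10.Thick.surjective_of_isPushout _ _ _ _ hpo hsurj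
      hker := Groth.Agent.Lib.Helper10.Thick.ker_le_map_of_isPushout _ _ _ _ hpo hsurj }
  refine ⟨ℓ, i', ?_⟩
  change a.u ≫ i'.iso.hom = i₀.iso.hom ≫ Spec.map (CommRingCat.ofHom θc.hom)
  rw [CommRingCat.ofHom_hom, hθc]
  change _ = i₀.iso.hom ≫ i₀.iso.inv ≫ a.u ≫ i'.iso.hom
  rw [Iso.hom_inv_id_assoc]

theorem extS_rel_iff (a a' : ExtS p 𝒳) (ℓ ℓ' : Lift 𝔅 p) (h : ExtS.R 𝔅 i₀ a ℓ) (h' : ExtS.R 𝔅 i₀ a' ℓ') :
    (ExtS.setoid p 𝒳).r a a' ↔ Lift.Rel ℓ ℓ' := by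
  obtain ⟨ψa, ha⟩ := h
  obtain ⟨ψa', ha'⟩ := h'
  constructor
  · rintro ⟨ψ, hψ⟩
    let χ := ψa.symm.trans (ψ.trans ψa')
    have hχ : Spec.map (CommRingCat.ofHom ℓ.θ) ≫ χ.iso.hom = Spec.map (CommRingCat.ofHom ℓ'.θ) := by
      have : (i₀.iso.hom ≫ Spec.map (CommRingCat.ofHom ℓ.θ)) ≫ χ.iso.hom =
          i₀.iso.hom ≫ Spec.map (CommRingCat.ofHom ℓ'.θ) := by
        rw [← ha, ← ha']
        change (a.u ≫ ψa.iso.hom) ≫ (ψa.iso.inv ≫ ψ.iso.hom ≫ ψa'.iso.hom) = _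
        rw [Category.assoc, Iso.hom_inv_id_assoc, ← Category.assoc, hψ]
      rw [Category.assoc] at this
      exact (cancel_epi i₀.iso.hom).1 this
    let ρc : CommRingCat.of ℓ'.𝔅'.B ⟶ CommRingCat.of ℓ.𝔅'.B := Spec.preimage χ.iso.hom
    have hρc : Spec.map ρc = χ.iso.hom := Spec.map_preimage _
    have h1 : ρc ≫ CommRingCat.ofHom ℓ.θ = CommRingCat.ofHom ℓ'.θ := by
      apply Spec.map_injective
      rw [Spec.map_comp, hρc]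
      exact hχ
    have h2 : CommRingCat.ofHom (algebraMap C' ℓ'.𝔅'.B) ≫ ρc = CommRingCat.ofHom (algebraMap C' ℓ.𝔅'.B) := by
      apply Spec.map_injective
      rw [Spec.map_comp, hρc]
      exact χ.hom_f
    exact (Lift.rel_of_hom ℓ' ℓ ρc.hom (fun c => congrArg (fun f => f.hom c) h2)
      (fun b => congrArg (fun f => f.hom b) h1)).symm
  · rintro ⟨e, he1, he2⟩
    have hπ : ∀ b, ℓ'.𝔅'.π (e b) = ℓ.𝔅'.π b := fun b => by rw [← ℓ'.hθπ, he2, ℓ.hθπ]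
    let ψ' := AlgDef.isoOfRingEquiv ℓ.𝔅' ℓ'.𝔅' e he1 hπ
    refine ⟨ψa.trans (ψ'.trans ψa'.symm), ?_⟩
    change a.u ≫ (ψa.iso.hom ≫ ψ'.iso.hom ≫ ψa'.iso.inv) = a'.u
    rw [← Category.assoc, ha, ← Category.assoc, Iso.comp_inv_eq, ha', Category.assoc]
    congr 1
    change Spec.map (CommRingCat.ofHom ℓ.θ) ≫ Spec.map (CommRingCat.ofHom e.symm.toRingHom) =
      Spec.map (CommRingCat.ofHom ℓ'.θ)
    rw [← Spec.map_comp, ← CommRingCat.ofHom_comp]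
    congr 2
    ext b
    change ℓ.θ (e.symm b) = ℓ'.θ b
    rw [← he2, RingEquiv.apply_symm_apply]

omit 𝔅 i₀ in
/-- The set of classes of extensions of `𝒳` along a semismall extension, if nonempty, is in bijection with
`Exalcom k B₀ (B₀ ⊗ J)`. -/
theorem nonempty_extQuot_equiv (hp : Art.IsSemismallExt p)
    (hne : ∃ 𝒳' : DefSch (Spec (CommRingCat.of B₀)) (x₀ (k := k) B₀) C', Nonempty ((𝒳'.baseChange p).Iso 𝒳)) :
    Nonempty (Quot (fun a b : ExtS p 𝒳 => ∃ ψ : a.1.Iso b.1, ((ψ.baseChange p).trans b.2).iso = a.2.iso) ≃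
      Exal.Exalcom k B₀ (B₀ ⊗[k] kerIdeal p)) := by
  obtain ⟨𝔅, ⟨i₀⟩⟩ := exists_algDef 𝒳
  obtain ⟨𝒳', ⟨α⟩⟩ := hne
  obtain ⟨ℓ₁, -⟩ := exists_lift_of_extS 𝔅 i₀ hp ⟨𝒳', α⟩
  obtain ⟨e2⟩ := nonempty_liftQuot_equiv hp ℓ₁
  let e0 : Quot (fun a b : ExtS p 𝒳 => ∃ ψ : a.1.Iso b.1, ((ψ.baseChange p).trans b.2).iso = a.2.iso) ≃
      Quotient (ExtS.setoid p 𝒳) := Quot.congrRight (fun a b => ExtS.rel_iff a b)
  let e1 : Quotient (ExtS.setoid p 𝒳) ≃ Quotient (Lift.setoid 𝔅 p) :=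
    quotientEquivOfRel _ _ (ExtS.R 𝔅 i₀) (exists_lift_of_extS 𝔅 i₀ hp) (exists_extS_of_lift 𝔅 i₀ hp)
      (fun a a' ℓ ℓ' h h' => extS_rel_iff 𝔅 i₀ a a' ℓ ℓ' h h')
  exact ⟨(e0.trans e1).trans e2⟩

end ExtSet

end Groth.Agent.Lib.Helper1.AffDef
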