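import Groth.Agent.Lib.Helper1.AffDefSchl

/-!
# Deformations induced from a flat family over an arbitrary base ring (helper1)

`AlgDef.ofFamily`: for a flat `T`-algebra `P` with `P ⊗_T k = B₀` and a ring map `α : T → A` over `k`, the deformation
`A ⊗_T P` of `B₀` over `A`.
-/

universe u
open CategoryTheory CategoryTheory.Limits AlgebraicGeometry ArtFun ArtFun.Art TensorProduct

namespace Groth.Agent.Lib.Helper1.AffDef

variable {Λ k : Type u} [CommRing Λ] [Field k] [Algebra Λ k] {B₀ : Type u} [CommRing B₀] [Algebra k B₀]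

namespace AlgDef

section Family

variable {T P : Type u} [CommRing T] [CommRing P] [Algebra T P] [Module.Flat T P]
  (ρ₀ : T →+* k) (π₀ : P →+* B₀)
  (hpo : IsPushout (CommRingCat.ofHom ρ₀) (CommRingCat.ofHom (algebraMap T P))
    (CommRingCat.ofHom (algebraMap k B₀)) (CommRingCat.ofHom π₀))
  {A : Art Λ k} (α : T →+* A) (hα : (A.res : A →+* k).comp α = ρ₀)

theorem family_isPushout_aux :
    letI : Algebra T A := α.toAlgebra
    IsPushout (CommRingCat.ofHom α) (CommRingCat.ofHom (algebraMap T P))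
      (CommRingCat.ofHom (algebraMap A (A ⊗[T] P)))
      (CommRingCat.ofHom (Algebra.TensorProduct.includeRight : P →ₐ[T] A ⊗[T] P).toRingHom) := by
  letI : Algebra T A := α.toAlgebra
  exact CommRingCat.isPushout_tensorProduct T A P

include hpo hα in
theorem family_isPushout' : IsPushout (CommRingCat.ofHom α ≫ CommRingCat.ofHom (A.res : A →+* k))
    (CommRingCat.ofHom (algebraMap T P)) (CommRingCat.ofHom (algebraMap k B₀)) (CommRingCat.ofHom π₀) := by
  have : CommRingCat.ofHom α ≫ CommRingCat.ofHom (A.res : A →+* k) = CommRingCat.ofHom ρ₀ := by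
    rw [← CommRingCat.ofHom_comp, hα]
  rw [this]
  exact hpo

/-- the deformation `A ⊗_T P` induced from a flat family -/
noncomputable def ofFamily : AlgDef B₀ A :=
  letI : Algebra T A := α.toAlgebra
  ofIsPushout (A := A) (A ⊗[T] P) inferInstance
    ((family_isPushout_aux (P := P) α).desc
      (CommRingCat.ofHom (A.res : A →+* k) ≫ CommRingCat.ofHom (algebraMap k B₀))
      (CommRingCat.ofHom π₀) (by rw [← Category.assoc, (family_isPushout' ρ₀ π₀ hpo α hα).w])).hom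
    (IsPushout.of_left' (family_isPushout' ρ₀ π₀ hpo α hα) (family_isPushout_aux α))

/-- the map `P → A ⊗_T P` -/
noncomputable def ofFamilyθ : P →+* (ofFamily ρ₀ π₀ hpo α hα).B :=
  letI : Algebra T A := α.toAlgebra
  (Algebra.TensorProduct.includeRight : P →ₐ[T] A ⊗[T] P).toRingHom

theorem ofFamily_isPushout :
    IsPushout (CommRingCat.ofHom α) (CommRingCat.ofHom (algebraMap T P))
      (CommRingCat.ofHom (algebraMap A (ofFamily ρ₀ π₀ hpo α hα).B))
      (CommRingCat.ofHom (ofFamilyθ ρ₀ π₀ hpo α hα)) :=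
  family_isPushout_aux α

lemma ofFamily_π_θ (p : P) : (ofFamily ρ₀ π₀ hpo α hα).π (ofFamilyθ ρ₀ π₀ hpo α hα p) = π₀ p := by
  have := (family_isPushout_aux (P := P) α).inr_desc
    (CommRingCat.ofHom (A.res : A →+* k) ≫ CommRingCat.ofHom (algebraMap k B₀))
    (CommRingCat.ofHom π₀) (by rw [← Category.assoc, (family_isPushout' ρ₀ π₀ hpo α hα).w])
  exact congrArg (fun m => m.hom p) this

lemma ofFamilyθ_algebraMap (t : T) :
    ofFamilyθ ρ₀ π₀ hpo α hα (algebraMap T P t) = algebraMap A (ofFamily ρ₀ π₀ hpo α hα).B (α t) :=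
  (congrArg (fun m => m.hom t) (ofFamily_isPushout ρ₀ π₀ hpo α hα).w).symm

/-- maps out of `A ⊗_T P` -/
theorem exists_hom_ofFamily {A' : Art Λ k} (g : A ⟶ A') (𝔇 : AlgDef B₀ A') (ψ : P →+* 𝔇.B)
    (hψ : ∀ t, ψ (algebraMap T P t) = algebraMap A' 𝔇.B (g (α t)))
    (hψπ : ∀ p, 𝔇.π (ψ p) = π₀ p) :
    ∃ θ : (ofFamily ρ₀ π₀ hpo α hα).B →+* 𝔇.B,
      (∀ a, θ (algebraMap A _ a) = algebraMap A' 𝔇.B (g a)) ∧
      (∀ b, 𝔇.π (θ b) = (ofFamily ρ₀ π₀ hpo α hα).π b) ∧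
      ∀ p, θ (ofFamilyθ ρ₀ π₀ hpo α hα p) = ψ p := by
  have hcomm : CommRingCat.ofHom α ≫ CommRingCat.ofHom ((algebraMap A' 𝔇.B).comp g.toAlgHom.toRingHom) =
      CommRingCat.ofHom (algebraMap T P) ≫ CommRingCat.ofHom ψ := by
    ext t
    exact (hψ t).symm
  let φ := (ofFamily_isPushout ρ₀ π₀ hpo α hα).desc _ _ hcomm
  have h1 : ∀ a, φ.hom (algebraMap A (ofFamily ρ₀ π₀ hpo α hα).B a) = algebraMap A' 𝔇.B (g a) :=
    fun a => congrArg (fun m => m.hom a) ((ofFamily_isPushout ρ₀ π₀ hpo α hα).inl_desc _ _ hcomm)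
  have h2 : ∀ p, φ.hom (ofFamilyθ ρ₀ π₀ hpo α hα p) = ψ p :=
    fun p => congrArg (fun m => m.hom p) ((ofFamily_isPushout ρ₀ π₀ hpo α hα).inr_desc _ _ hcomm)
  have h3 : φ ≫ CommRingCat.ofHom 𝔇.π = CommRingCat.ofHom (ofFamily ρ₀ π₀ hpo α hα).π := by
    apply (ofFamily_isPushout ρ₀ π₀ hpo α hα).hom_ext
    · ext a
      change 𝔇.π (φ.hom (algebraMap A (ofFamily ρ₀ π₀ hpo α hα).B a)) =
        (ofFamily ρ₀ π₀ hpo α hα).π (algebraMap A (ofFamily ρ₀ π₀ hpo α hα).B a)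
      rw [h1, AlgDef.comm, AlgDef.comm, Art.res_app]
    · ext p
      change 𝔇.π (φ.hom (ofFamilyθ ρ₀ π₀ hpo α hα p)) =
        (ofFamily ρ₀ π₀ hpo α hα).π (ofFamilyθ ρ₀ π₀ hpo α hα p)
      rw [h2, ofFamily_π_θ, hψπ]
  exact ⟨φ.hom, h1, fun b => congrArg (fun m => m.hom b) h3, h2⟩

/-- functoriality of the class of the induced deformation -/
theorem map_cl_ofFamily {A' : Art Λ k} (g : A ⟶ A') (α' : T →+* A') (hα' : (A'.res : A' →+* k).comp α' = ρ₀)
    (hg : ∀ t, g (α t) = α' t) :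
    (DefF Λ k B₀).map g (ofFamily ρ₀ π₀ hpo α hα).cl = (ofFamily ρ₀ π₀ hpo α' hα').cl := by
  obtain ⟨θ, h1, h2, -⟩ := exists_hom_ofFamily ρ₀ π₀ hpo α hα g (ofFamily ρ₀ π₀ hpo α' hα')
    (ofFamilyθ ρ₀ π₀ hpo α' hα') (fun t => by rw [ofFamilyθ_algebraMap, hg]) (ofFamily_π_θ ρ₀ π₀ hpo α' hα')
  exact map_cl_of_hom g _ _ θ h1 h2

end Family

end AlgDef

end Groth.Agent.Lib.Helper1.AffDef
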