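import Groth.Agent.Lib.Helper1.AffDefHom
import Groth.Agent.Lib.Helper22.FlatKer
import Groth.Agent.Lib.Helper1.RegLift

/-!
# Presentations of flat deformations: generators and relations lift (helper1)

Ring-level setting: `A` a ring with a nilpotent ideal `𝔪`; `R`, `B` flat `A`-algebras with `ev : R → B`; reductions
`red : R → R₀` (kernel `𝔪 R`), `π : B → B₀` (kernel `𝔪 B`), `ev₀ : R₀ → B₀` surjective with kernel `(f_s)`, and
`π ∘ ev = ev₀ ∘ red`.  Then `ev` is surjective, the `f_s` lift to `F_s ∈ ker ev` generating `ker ev`, every relation among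
the `f_s` lifts to a relation among the `F_s`, and a relation among the `F_s` reducing to `0` is in `𝔪 Rel`.
-/

universe u

open TensorProduct

namespace Groth.Agent.Lib.Helper1.AffDef

section Pres

variable {A : Type*} [CommRing A] (𝔪 : Ideal A) (hnil : IsNilpotent 𝔪)
  {R B : Type*} [CommRing R] [CommRing B] [Algebra A R] [Algebra A B] [Module.Flat A R] [Module.Flat A B]
  (ev : R →ₐ[A] B)
  {R₀ B₀ : Type*} [CommRing R₀] [CommRing B₀] (red : R →+* R₀) (π : B →+* B₀) (ev₀ : R₀ →+* B₀)
  (hred : Function.Surjective red) (hkred : RingHom.ker red = 𝔪.map (algebraMap A R))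
  (hπ : Function.Surjective π) (hkπ : RingHom.ker π = 𝔪.map (algebraMap A B))
  (hev₀ : Function.Surjective ev₀) (hcomp : ∀ x, π (ev x) = ev₀ (red x))

include hnil hred hπ hkπ hev₀ hcomp in
/-- `ev` is surjective. -/
theorem ev_surjective : Function.Surjective ev := by
  have : LinearMap.range ev.toLinearMap = ⊤ := by
    apply Groth.Agent.Lib.Helper10.Thick.eq_top_of_sup_smul_top 𝔪 hnil
    intro b _
    obtain ⟨r₀, hr₀⟩ := hev₀ (π b)
    obtain ⟨r, rfl⟩ := hred r₀
    have h1 : b - ev r ∈ 𝔪 • (⊤ : Submodule A B) := by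
      rw [Ideal.smul_top_eq_map, Submodule.restrictScalars_mem, ← hkπ, RingHom.mem_ker, map_sub, hcomp, hr₀,
        sub_self]
    have : b = ev r + (b - ev r) := by abel
    rw [this]
    exact Submodule.add_mem_sup ⟨r, rfl⟩ h1
  intro b
  have hb : b ∈ LinearMap.range ev.toLinearMap := by rw [this]; trivial
  obtain ⟨r, hr⟩ := hb
  exact ⟨r, hr⟩

include hnil hred hπ hkπ hev₀ hcomp in
/-- `ker ev ∩ 𝔪 R ⊆ 𝔪 (ker ev)`, in ideal form. -/
theorem ker_inf_le (x : R) (hx : ev x = 0) (hx' : x ∈ 𝔪.map (algebraMap A R)) :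
    x ∈ 𝔪.map (algebraMap A R) * RingHom.ker ev.toRingHom := by
  have hs := ev_surjective 𝔪 hnil ev red π ev₀ hred hπ hkπ hev₀ hcomp
  have h1 := mem_smul_top_ker_of_flat 𝔪 ev.toLinearMap hs ⟨x, hx⟩
    (by rw [Ideal.smul_top_eq_map, Submodule.restrictScalars_mem]; exact hx')
  -- transfer to `R`
  have h2 : ∀ z : LinearMap.ker ev.toLinearMap, z ∈ 𝔪 • (⊤ : Submodule A (LinearMap.ker ev.toLinearMap)) →
      (z : R) ∈ 𝔪.map (algebraMap A R) * RingHom.ker ev.toRingHom := by
    intro z hz
    refine Submodule.smul_induction_on hz ?_ ?_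
    · intro a ha w _
      change a • (w : R) ∈ _
      rw [Algebra.smul_def]
      exact Ideal.mul_mem_mul (Ideal.mem_map_of_mem _ ha) w.2
    · intro z w hz hw
      exact Ideal.add_mem _ hz hw
  exact h2 _ h1

variable {σ : Type*} (f : σ → R₀) (hf : RingHom.ker ev₀ = Ideal.span (Set.range f))

include hnil hred hkred hπ hkπ hev₀ hcomp hf in
/-- Lifts of the relations `f_s` in `ker ev`. -/
theorem exists_lift_gen (s : σ) : ∃ F : R, red F = f s ∧ ev F = 0 := by
  have hs := ev_surjective 𝔪 hnil ev red π ev₀ hred hπ hkπ hev₀ hcomp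
  obtain ⟨G, hG⟩ := hred (f s)
  have h0 : ev₀ (f s) = 0 := by
    rw [← RingHom.mem_ker, hf]
    exact Ideal.subset_span ⟨s, rfl⟩
  have h1 : ev G ∈ 𝔪.map (algebraMap A B) := by
    rw [← hkπ, RingHom.mem_ker, hcomp, hG, h0]
  have h2 : (𝔪.map (algebraMap A R)).map ev.toRingHom = 𝔪.map (algebraMap A B) := by
    rw [Ideal.map_map]
    congr 1
    exact ev.comp_algebraMap
  rw [← h2] at h1
  obtain ⟨H, hH, hHG⟩ := (Ideal.mem_map_iff_of_surjective ev.toRingHom hs).1 h1
  refine ⟨G - H, ?_, ?_⟩
  · have : red H = 0 := by rw [← RingHom.mem_ker, hkred]; exact hH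
    rw [map_sub, hG, this, sub_zero]
  · rw [map_sub]
    have : ev H = ev G := hHG
    rw [this, sub_self]

lemma exists_finsupp_lift {σ : Type*} (hred : Function.Surjective red) (c₀ : σ →₀ R₀) :
    ∃ c : σ →₀ R, Finsupp.mapRange red (map_zero red) c = c₀ := by
  classical
  induction c₀ using Finsupp.induction_linear with
  | zero => exact ⟨0, Finsupp.mapRange_zero⟩
  | add x y hx hy =>
    obtain ⟨x', rfl⟩ := hx
    obtain ⟨y', rfl⟩ := hy
    exact ⟨x' + y', Finsupp.mapRange_add (map_add red) _ _⟩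
  | single s a =>
    obtain ⟨a', rfl⟩ := hred a
    exact ⟨Finsupp.single s a', Finsupp.mapRange_single⟩

lemma red_linearCombination {σ : Type*} (F : σ → R) (f : σ → R₀) (hF : ∀ s, red (F s) = f s) (c : σ →₀ R) :
    red (Finsupp.linearCombination R F c) =
      Finsupp.linearCombination R₀ f (Finsupp.mapRange red (map_zero red) c) := by
  classical
  induction c using Finsupp.induction_linear with
  | zero => simp
  | add x y hx hy => rw [map_add, map_add, hx, hy, Finsupp.mapRange_add (map_add red), map_add]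
  | single s a =>
    rw [Finsupp.linearCombination_single, Finsupp.mapRange_single, Finsupp.linearCombination_single, smul_eq_mul,
      smul_eq_mul, map_mul, hF]

variable (F : σ → R) (hFred : ∀ s, red (F s) = f s) (hFev : ∀ s, ev (F s) = 0)

include hFev in
lemma ev_linearCombination (c : σ →₀ R) : ev (Finsupp.linearCombination R F c) = 0 := by
  classical
  induction c using Finsupp.induction_linear with
  | zero => simp
  | add x y hx hy => rw [map_add, map_add, hx, hy, add_zero]
  | single s a => rw [Finsupp.linearCombination_single, smul_eq_mul, map_mul, hFev, mul_zero]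

include hnil hred hkred hπ hkπ hev₀ hcomp hf hFred hFev in
/-- The lifts generate `ker ev`. -/
theorem ker_ev_eq : RingHom.ker ev.toRingHom = Ideal.span (Set.range F) := by
  apply le_antisymm
  · obtain ⟨n, hn⟩ := hnil
    have hn' : (𝔪.map (algebraMap A R)) ^ n = ⊥ := by
      rw [← Ideal.map_pow, hn]
      exact Ideal.map_bot
    refine Groth.Agent.Lib.Helper1.RegLift.le_of_le_sup_mul _ _ (𝔪.map (algebraMap A R)) ?_ n hn'
    intro x hx
    have hx0 : ev x = 0 := hx
    have h1 : red x ∈ Ideal.span (Set.range f) := by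
      rw [← hf, RingHom.mem_ker, ← hcomp, hx0, map_zero]
    obtain ⟨c₀, hc₀⟩ := (Finsupp.mem_ideal_span_range_iff_exists_finsupp).1 h1
    obtain ⟨c, rfl⟩ := exists_finsupp_lift red hred c₀
    have h2 : red (Finsupp.linearCombination R F c) = red x := by
      rw [red_linearCombination red F f hFred, ← hc₀]
      rfl
    have h3 : x - Finsupp.linearCombination R F c ∈
        𝔪.map (algebraMap A R) * RingHom.ker ev.toRingHom := by
      apply ker_inf_le 𝔪 ⟨n, hn⟩ ev red π ev₀ hred hπ hkπ hev₀ hcomp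
      · rw [map_sub, hx0, ev_linearCombination ev F hFev, sub_zero]
      · rw [← hkred, RingHom.mem_ker, map_sub, h2, sub_self]
    have : x = Finsupp.linearCombination R F c + (x - Finsupp.linearCombination R F c) := by ring
    rw [this]
    refine Ideal.add_mem _ (Ideal.mem_sup_left ?_) (Ideal.mem_sup_right h3)
    rw [Finsupp.mem_ideal_span_range_iff_exists_finsupp]
    exact ⟨c, rfl⟩
  · rw [Ideal.span_le]
    rintro _ ⟨s, rfl⟩
    exact hFev s

include hnil hred hkred hπ hkπ hev₀ hcomp hf hFred hFev in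
/-- Relations lift. -/
theorem exists_rel_lift (r₀ : σ →₀ R₀) (hr₀ : Finsupp.linearCombination R₀ f r₀ = 0) :
    ∃ r : σ →₀ R, Finsupp.mapRange red (map_zero red) r = r₀ ∧ Finsupp.linearCombination R F r = 0 := by
  obtain ⟨r', rfl⟩ := exists_finsupp_lift red hred r₀
  have h1 : Finsupp.linearCombination R F r' ∈ 𝔪.map (algebraMap A R) * RingHom.ker ev.toRingHom := by
    apply ker_inf_le 𝔪 hnil ev red π ev₀ hred hπ hkπ hev₀ hcomp
    · exact ev_linearCombination ev F hFev r'
    · rw [← hkred, RingHom.mem_ker, red_linearCombination red F f hFred, hr₀]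
  rw [ker_ev_eq 𝔪 hnil ev red π ev₀ hred hkred hπ hkπ hev₀ hcomp f hf F hFred hFev, ← smul_eq_mul,
    Submodule.mem_ideal_smul_span_iff_exists_sum] at h1
  obtain ⟨h, hh, hsum⟩ := h1
  refine ⟨r' - h, ?_, ?_⟩
  · have : Finsupp.mapRange red (map_zero red) h = 0 := by
      ext s
      rw [Finsupp.mapRange_apply, Finsupp.zero_apply, ← RingHom.mem_ker, hkred]
      exact hh s
    rw [Finsupp.mapRange_sub (map_sub red), this, sub_zero]
  · rw [map_sub, sub_eq_zero, ← hsum]
    rfl

include hnil hred hkred hπ hkπ hev₀ hcomp hf hFred hFev in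
/-- A relation among the `F_s` which reduces to `0` is killed by every additive map on relations which kills `𝔪 Rel`. -/
theorem rel_ker (r : σ →₀ R) (hr : Finsupp.linearCombination R F r = 0)
    (hr0 : Finsupp.mapRange red (map_zero red) r = 0)
    {X : Type*} [AddCommGroup X] (φ : ↥(LinearMap.ker (Finsupp.linearCombination R F)) →+ X)
    (hφ : ∀ a ∈ 𝔪, ∀ ρ, φ (algebraMap A R a • ρ) = 0) : φ ⟨r, hr⟩ = 0 := by
  classical
  have hs := ev_surjective 𝔪 hnil ev red π ev₀ hred hπ hkπ hev₀ hcomp
  haveI : Module.Flat A ↥(LinearMap.ker ev.toLinearMap) :=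
    Groth.Agent.Lib.Helper22.flat_of_exact_of_flat (LinearMap.ker ev.toLinearMap).subtype ev.toLinearMap
      (LinearMap.ker ev.toLinearMap).injective_subtype hs (LinearMap.exact_subtype_ker_map _)
  haveI : Module.Flat A (σ →₀ R) := Module.Flat.of_linearEquiv (finsuppLEquivDirectSum A R σ)
  let jm : (σ →₀ R) →ₗ[A] ↥(LinearMap.ker ev.toLinearMap) :=
    LinearMap.codRestrict _ ((Finsupp.linearCombination R F).restrictScalars A)
      (fun c => ev_linearCombination ev F hFev c)
  have hjm : ∀ c, ((jm c : ↥(LinearMap.ker ev.toLinearMap)) : R) = Finsupp.linearCombination R F c := fun c => rfl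
  have hjs : Function.Surjective jm := by
    rintro ⟨x, hx⟩
    have hx' : x ∈ RingHom.ker ev.toRingHom := hx
    rw [ker_ev_eq 𝔪 hnil ev red π ev₀ hred hkred hπ hkπ hev₀ hcomp f hf F hFred hFev,
      Finsupp.mem_ideal_span_range_iff_exists_finsupp] at hx'
    obtain ⟨c, hc⟩ := hx'
    exact ⟨c, Subtype.ext hc⟩
  have hrm : r ∈ 𝔪 • (⊤ : Submodule A (σ →₀ R)) := by
    have h1 : ∀ s, r s ∈ 𝔪 • (⊤ : Submodule A R) := by
      intro s
      rw [Ideal.smul_top_eq_map, Submodule.restrictScalars_mem, ← hkred, RingHom.mem_ker]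
      have := congrArg (fun c => c s) hr0
      simpa using this
    have h2 : ∀ (s : σ) (x : R), x ∈ 𝔪 • (⊤ : Submodule A R) →
        Finsupp.single s x ∈ 𝔪 • (⊤ : Submodule A (σ →₀ R)) := by
      intro s x hx
      refine Submodule.smul_induction_on hx ?_ ?_
      · intro a ha y _
        rw [← Finsupp.smul_single]
        exact Submodule.smul_mem_smul ha trivial
      · intro y z hy hz
        rw [Finsupp.single_add]
        exact Submodule.add_mem _ hy hz
    rw [← Finsupp.sum_single r]
    exact Submodule.sum_mem _ fun s _ => h2 s _ (h1 s)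
  have hrk : r ∈ LinearMap.ker jm := by
    rw [LinearMap.mem_ker]
    exact Subtype.ext hr
  have h := mem_smul_top_ker_of_flat 𝔪 jm hjs ⟨r, hrk⟩ hrm
  have hconv : ∀ z : LinearMap.ker jm, Finsupp.linearCombination R F (z : σ →₀ R) = 0 := by
    intro z
    have := congrArg Subtype.val z.2
    exact this
  have key : ∀ z : LinearMap.ker jm, z ∈ 𝔪 • (⊤ : Submodule A (LinearMap.ker jm)) →
      φ ⟨(z : σ →₀ R), hconv z⟩ = 0 := by
    intro z hz
    refine Submodule.smul_induction_on (p := fun z : LinearMap.ker jm => φ ⟨(z : σ →₀ R), hconv z⟩ = 0) hz ?_ ?_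
    · intro a ha w _
      have : (⟨((a • w : LinearMap.ker jm) : σ →₀ R), hconv (a • w)⟩ :
          LinearMap.ker (Finsupp.linearCombination R F)) = algebraMap A R a • ⟨(w : σ →₀ R), hconv w⟩ := by
        apply Subtype.ext
        change a • (w : σ →₀ R) = algebraMap A R a • (w : σ →₀ R)
        rw [algebraMap_smul]
      rw [this]
      exact hφ a ha _
    · intro z w hz hw
      have : (⟨((z + w : LinearMap.ker jm) : σ →₀ R), hconv (z + w)⟩ :
          LinearMap.ker (Finsupp.linearCombination R F)) = ⟨(z : σ →₀ R), hconv z⟩ + ⟨(w : σ →₀ R), hconv w⟩ := rfl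
      rw [this, map_add, hz, hw, add_zero]
  exact key _ h

end Pres

end Groth.Agent.Lib.Helper1.AffDef
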