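import Groth.Agent.Lib.Helper1.AffDefHom
import Groth.Agent.Lib.Helper1.AffDefPres

/-!
# Gluing algebraic deformations over a fibre product of Artin rings (helper1)

* `AlgDef.bijective_linearCombination`: lifts of a `k`-basis of `B₀` form a basis of a flat deformation;
* `AlgDef.exists_glue`: for a fibre product `B = A' ×_A A''` and deformations over `A'`, `A''` with compatible maps to a
  deformation over `A` (the second one surjective), the fibre product of rings is a deformation over `B`;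
* `AlgDef.exists_tensor_hom`, `AlgDef.nonempty_baseChange_iso_of_hom`.
-/

universe u
open CategoryTheory AlgebraicGeometry ArtFun ArtFun.Art

namespace Groth.Agent.Lib.Helper1.AffDef

variable {Λ k : Type u} [CommRing Λ] [Field k] [Algebra Λ k] {B₀ : Type u} [CommRing B₀] [Algebra k B₀]

/-- universal property of a set-theoretic fibre product of rings -/
theorem exists_ringHom_of_fibre {N C X' X'' X₀ : Type*} [CommRing N] [CommRing C] [CommRing X'] [CommRing X'']
    [CommRing X₀] (q' : N →+* X') (q'' : N →+* X'') (θ' : X' →+* X₀) (θ'' : X'' →+* X₀)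
    (hqinj : ∀ n₁ n₂ : N, q' n₁ = q' n₂ → q'' n₁ = q'' n₂ → n₁ = n₂)
    (hqsurj : ∀ y' y'', θ' y' = θ'' y'' → ∃ n : N, q' n = y' ∧ q'' n = y'')
    (g' : C →+* X') (g'' : C →+* X'') (hg : ∀ c, θ' (g' c) = θ'' (g'' c)) :
    ∃ g : C →+* N, (∀ c, q' (g c) = g' c) ∧ ∀ c, q'' (g c) = g'' c := by
  have hex : ∀ c, ∃ n : N, q' n = g' c ∧ q'' n = g'' c := fun c => hqsurj _ _ (hg c)
  choose γ hγ' hγ'' using hex
  refine ⟨{ toFun := γ, map_one' := ?_, map_mul' := ?_, map_zero' := ?_, map_add' := ?_ }, hγ', hγ''⟩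
  · apply hqinj
    · rw [hγ', map_one, map_one]
    · rw [hγ'', map_one, map_one]
  · intro a b
    apply hqinj
    · rw [hγ', map_mul, map_mul, hγ', hγ']
    · rw [hγ'', map_mul, map_mul, hγ'', hγ'']
  · apply hqinj
    · rw [hγ', map_zero, map_zero]
    · rw [hγ'', map_zero, map_zero]
  · intro a b
    apply hqinj
    · rw [hγ', map_add, map_add, hγ', hγ']
    · rw [hγ'', map_add, map_add, hγ'', hγ'']

namespace AlgDef

section Basis

variable {A : Art Λ k} (𝔅 : AlgDef B₀ A)

lemma π_smul' (a : A) (b : 𝔅.B) : 𝔅.π (a • b) = A.res a • 𝔅.π b := by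
  rw [Algebra.smul_def, map_mul, 𝔅.comm, Algebra.smul_def]

variable {I : Type*} (e : Module.Basis I k B₀) (x : I → 𝔅.B) (hx : ∀ i, 𝔅.π (x i) = e i)

include hx in
lemma π_linearCombination (c : I →₀ A) :
    𝔅.π (Finsupp.linearCombination A x c) =
      Finsupp.linearCombination k e (Finsupp.mapRange (A.res : A →+* k) (map_zero _) c) := by
  classical
  induction c using Finsupp.induction_linear with
  | zero => simp
  | add f g hf hg => rw [map_add, map_add, hf, hg, Finsupp.mapRange_add (map_add _), map_add]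
  | single i a =>
    rw [Finsupp.linearCombination_single, Finsupp.mapRange_single, Finsupp.linearCombination_single,
      π_smul', hx]
    rfl

include hx in
/-- lifts of a basis of the closed fibre form a basis of a flat deformation -/
theorem bijective_linearCombination : Function.Bijective (Finsupp.linearCombination A x) := by
  classical
  refine bijective_of_nilpotent_of_flat (IsLocalRing.maximalIdeal A) (isNilpotent_maximalIdeal A) _ ?_ ?_
  · intro n
    obtain ⟨c, hc⟩ := exists_finsupp_lift (A.res : A →+* k) A.res_surjective (e.repr (𝔅.π n))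
    refine ⟨c, ?_⟩
    rw [mem_smul_top_iff, map_sub, π_linearCombination 𝔅 e x hx, hc, Module.Basis.linearCombination_repr,
      sub_self]
  · intro c hc
    rw [mem_smul_top_iff, π_linearCombination 𝔅 e x hx] at hc
    have h1 : Finsupp.mapRange (A.res : A →+* k) (map_zero _) c = 0 :=
      (linearIndependent_iff.1 e.linearIndependent) _ hc
    have h2 : ∀ i, c i ∈ IsLocalRing.maximalIdeal A := fun i => by
      rw [Art.mem_maximalIdeal_iff]
      have h3 := DFunLike.congr_fun h1 i
      rw [Finsupp.mapRange_apply, Finsupp.zero_apply] at h3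
      exact h3
    have h4 : c.sum Finsupp.single ∈ IsLocalRing.maximalIdeal A • (⊤ : Submodule A (I →₀ A)) := by
      refine Submodule.sum_mem _ fun i _ => ?_
      have h5 : Finsupp.single i (c i) = c i • Finsupp.single i (1 : A) := by
        rw [Finsupp.smul_single, smul_eq_mul, mul_one]
      rw [h5]
      exact Submodule.smul_mem_smul (h2 i) trivial
    rwa [Finsupp.sum_single] at h4

end Basis

section Glue

variable {B A A' A'' : Art Λ k} {p' : B ⟶ A'} {p'' : B ⟶ A''} {f' : A' ⟶ A} {f'' : A'' ⟶ A}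
  (h : IsFibreProd p' p'' f' f'')
  (𝔅' : AlgDef B₀ A') (𝔅'' : AlgDef B₀ A'') (𝔅₀ : AlgDef B₀ A)
  (θ' : 𝔅'.B →+* 𝔅₀.B) (θ'' : 𝔅''.B →+* 𝔅₀.B)
  (hθ'A : ∀ a, θ' (algebraMap A' 𝔅'.B a) = algebraMap A 𝔅₀.B (f' a))
  (hθ'π : ∀ b, 𝔅₀.π (θ' b) = 𝔅'.π b)
  (hθ''A : ∀ a, θ'' (algebraMap A'' 𝔅''.B a) = algebraMap A 𝔅₀.B (f'' a))
  (hθ''π : ∀ b, 𝔅₀.π (θ'' b) = 𝔅''.π b)
  (hθ'' : Function.Surjective θ'')

section Abstract

variable (N : Type u) [CommRing N] [Algebra B N] (q' : N →+* 𝔅'.B) (q'' : N →+* 𝔅''.B)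
  (hq'A : ∀ b, q' (algebraMap B N b) = algebraMap A' 𝔅'.B (p' b))
  (hq''A : ∀ b, q'' (algebraMap B N b) = algebraMap A'' 𝔅''.B (p'' b))
  (hqinj : ∀ n₁ n₂ : N, q' n₁ = q' n₂ → q'' n₁ = q'' n₂ → n₁ = n₂)
  (hqsurj : ∀ y' y'', θ' y' = θ'' y'' → ∃ n : N, q' n = y' ∧ q'' n = y'')
  (hqcomm : ∀ n : N, θ' (q' n) = θ'' (q'' n))

include hq'A in
lemma q'_linearCombination {I : Type*} (n : I → N) (b : I →₀ B) :
    q' (Finsupp.linearCombination B n b) =
      Finsupp.linearCombination A' (fun i => q' (n i))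
        (Finsupp.mapRange (p'.toAlgHom : B →+* A') (map_zero _) b) := by
  classical
  induction b using Finsupp.induction_linear with
  | zero => simp
  | add f g hf hg => rw [map_add, map_add, hf, hg, Finsupp.mapRange_add (map_add _), map_add]
  | single i a =>
    rw [Finsupp.linearCombination_single, Finsupp.mapRange_single, Finsupp.linearCombination_single,
      Algebra.smul_def, map_mul, hq'A, Algebra.smul_def]
    rfl

include hq''A in
lemma q''_linearCombination {I : Type*} (n : I → N) (b : I →₀ B) :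
    q'' (Finsupp.linearCombination B n b) =
      Finsupp.linearCombination A'' (fun i => q'' (n i))
        (Finsupp.mapRange (p''.toAlgHom : B →+* A'') (map_zero _) b) := by
  classical
  induction b using Finsupp.induction_linear with
  | zero => simp
  | add f g hf hg => rw [map_add, map_add, hf, hg, Finsupp.mapRange_add (map_add _), map_add]
  | single i a =>
    rw [Finsupp.linearCombination_single, Finsupp.mapRange_single, Finsupp.linearCombination_single,
      Algebra.smul_def, map_mul, hq''A, Algebra.smul_def]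
    rfl

include hθ'A in
lemma θ'_linearCombination {I : Type*} (x' : I → 𝔅'.B) (c : I →₀ A') :
    θ' (Finsupp.linearCombination A' x' c) =
      Finsupp.linearCombination A (fun i => θ' (x' i))
        (Finsupp.mapRange (f'.toAlgHom : A' →+* A) (map_zero _) c) := by
  classical
  induction c using Finsupp.induction_linear with
  | zero => simp
  | add f g hf hg => rw [map_add, map_add, hf, hg, Finsupp.mapRange_add (map_add _), map_add]
  | single i a =>
    rw [Finsupp.linearCombination_single, Finsupp.mapRange_single, Finsupp.linearCombination_single,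
      Algebra.smul_def, map_mul, hθ'A, Algebra.smul_def]
    rfl

include hθ''A in
lemma θ''_linearCombination {I : Type*} (x'' : I → 𝔅''.B) (c : I →₀ A'') :
    θ'' (Finsupp.linearCombination A'' x'' c) =
      Finsupp.linearCombination A (fun i => θ'' (x'' i))
        (Finsupp.mapRange (f''.toAlgHom : A'' →+* A) (map_zero _) c) := by
  classical
  induction c using Finsupp.induction_linear with
  | zero => simp
  | add f g hf hg => rw [map_add, map_add, hf, hg, Finsupp.mapRange_add (map_add _), map_add]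
  | single i a =>
    rw [Finsupp.linearCombination_single, Finsupp.mapRange_single, Finsupp.linearCombination_single,
      Algebra.smul_def, map_mul, hθ''A, Algebra.smul_def]
    rfl

include h hθ'A hθ'π hθ''A hθ''π hθ'' hq'A hq''A hqinj hqsurj hqcomm in
/-- the abstract fibre product is free over `B` on lifts of a basis, and its reduction has the expected kernel -/
theorem glue_aux : Module.Flat B N ∧ Function.Surjective (𝔅'.π.comp q') ∧
    RingHom.ker (𝔅'.π.comp q') ≤ (IsLocalRing.maximalIdeal B).map (algebraMap B N) := by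
  classical
  let e := Module.Free.chooseBasis k B₀
  have hx' : ∀ i, ∃ x : 𝔅'.B, 𝔅'.π x = e i := fun i => 𝔅'.surj (e i)
  choose x' hx' using hx'
  have hx'' : ∀ i, ∃ x : 𝔅''.B, θ'' x = θ' (x' i) := fun i => hθ'' _
  choose x'' hx'' using hx''
  have hx''π : ∀ i, 𝔅''.π (x'' i) = e i := fun i => by rw [← hθ''π, hx'', hθ'π, hx']
  have hx₀π : ∀ i, 𝔅₀.π (θ' (x' i)) = e i := fun i => by rw [hθ'π, hx']
  have hn : ∀ i, ∃ n : N, q' n = x' i ∧ q'' n = x'' i := fun i => hqsurj _ _ (hx'' i).symm
  choose n hn' hn'' using hn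
  have hΦ' := bijective_linearCombination 𝔅' e x' hx'
  have hΦ'' := bijective_linearCombination 𝔅'' e x'' hx''π
  have hΦ₀ := bijective_linearCombination 𝔅₀ e (fun i => θ' (x' i)) hx₀π
  have hqn' : (fun i => q' (n i)) = x' := funext hn'
  have hqn'' : (fun i => q'' (n i)) = x'' := funext hn''
  have hθx : (fun i => θ'' (x'' i)) = (fun i => θ' (x' i)) := funext hx''
  -- injectivity
  have hinj : Function.Injective (Finsupp.linearCombination B n) := by
    rw [← LinearMap.ker_eq_bot, Submodule.eq_bot_iff]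
    intro b hb
    rw [LinearMap.mem_ker] at hb
    have h1 : Finsupp.mapRange (p'.toAlgHom : B →+* A') (map_zero _) b = 0 := by
      apply hΦ'.1
      rw [map_zero, ← hqn', ← q'_linearCombination 𝔅' N q' hq'A n b, hb, map_zero]
    have h2 : Finsupp.mapRange (p''.toAlgHom : B →+* A'') (map_zero _) b = 0 := by
      apply hΦ''.1
      rw [map_zero, ← hqn'', ← q''_linearCombination 𝔅'' N q'' hq''A n b, hb, map_zero]
    ext i
    have h3 := DFunLike.congr_fun h1 i
    have h4 := DFunLike.congr_fun h2 i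
    rw [Finsupp.mapRange_apply, Finsupp.zero_apply] at h3 h4
    rw [Finsupp.zero_apply]
    apply h.inj
    · change p'.toAlgHom (b i) = p'.toAlgHom 0
      rw [map_zero]
      exact h3
    · change p''.toAlgHom (b i) = p''.toAlgHom 0
      rw [map_zero]
      exact h4
  -- preimages
  have hpre : ∀ y : N, ∃ b : Module.Free.ChooseBasisIndex k B₀ →₀ B, Finsupp.linearCombination B n b = y := by
    intro y
    obtain ⟨c', hc'⟩ := hΦ'.2 (q' y)
    obtain ⟨c'', hc''⟩ := hΦ''.2 (q'' y)
    have h1 : Finsupp.mapRange (f'.toAlgHom : A' →+* A) (map_zero _) c' =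
        Finsupp.mapRange (f''.toAlgHom : A'' →+* A) (map_zero _) c'' := by
      apply hΦ₀.1
      rw [← θ'_linearCombination 𝔅' 𝔅₀ θ' hθ'A x' c', hc', ← hθx,
        ← θ''_linearCombination 𝔅'' 𝔅₀ θ'' hθ''A x'' c'', hc'', hqcomm]
    have h2 : ∀ i, ∃ b : B, p' b = c' i ∧ p'' b = c'' i := fun i => by
      apply h.surj
      have h3 := DFunLike.congr_fun h1 i
      rw [Finsupp.mapRange_apply, Finsupp.mapRange_apply] at h3
      exact h3
    choose β hβ' hβ'' using h2
    have hβ0 : ∀ i, β i ≠ 0 → i ∈ c'.support ∪ c''.support := by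
      intro i hi
      by_contra hcon
      rw [Finset.mem_union, not_or, Finsupp.notMem_support_iff, Finsupp.notMem_support_iff] at hcon
      apply hi
      apply h.inj
      · rw [hβ', hcon.1]
        change (0 : A') = p'.toAlgHom 0
        rw [map_zero]
      · rw [hβ'', hcon.2]
        change (0 : A'') = p''.toAlgHom 0
        rw [map_zero]
    refine ⟨Finsupp.onFinset (c'.support ∪ c''.support) β hβ0, ?_⟩
    apply hqinj
    · rw [q'_linearCombination 𝔅' N q' hq'A n, hqn', ← hc']
      congr 1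
      ext i
      rw [Finsupp.mapRange_apply, Finsupp.onFinset_apply]
      exact hβ' i
    · rw [q''_linearCombination 𝔅'' N q'' hq''A n, hqn'', ← hc'']
      congr 1
      ext i
      rw [Finsupp.mapRange_apply, Finsupp.onFinset_apply]
      exact hβ'' i
  refine ⟨?_, ?_, ?_⟩
  · exact Module.Flat.of_linearEquiv
      (LinearEquiv.ofBijective (Finsupp.linearCombination B n) ⟨hinj, hpre⟩).symm
  · intro b₀
    obtain ⟨y', hy'⟩ := 𝔅'.surj b₀
    obtain ⟨y'', hy''⟩ := hθ'' (θ' y')
    obtain ⟨y, hy1, -⟩ := hqsurj y' y'' hy''.symm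
    exact ⟨y, by rw [RingHom.comp_apply, hy1, hy']⟩
  · intro y hy
    rw [RingHom.mem_ker, RingHom.comp_apply] at hy
    obtain ⟨b, rfl⟩ := hpre y
    rw [q'_linearCombination 𝔅' N q' hq'A n, hqn', π_linearCombination 𝔅' e x' hx'] at hy
    have h1 := (linearIndependent_iff.1 e.linearIndependent) _ hy
    have h2 : ∀ i, b i ∈ IsLocalRing.maximalIdeal B := fun i => by
      rw [Art.mem_maximalIdeal_iff]
      have h3 := DFunLike.congr_fun h1 i
      rw [Finsupp.mapRange_apply, Finsupp.mapRange_apply, Finsupp.zero_apply] at h3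
      rw [← h3]
      exact (Art.res_app p' (b i)).symm
    rw [Finsupp.linearCombination_apply]
    refine Ideal.sum_mem _ fun i _ => ?_
    change b i • n i ∈ _
    rw [Algebra.smul_def]
    exact Ideal.mul_mem_right _ _ (Ideal.mem_map_of_mem _ (h2 i))

end Abstract

section Concrete

include h hθ'A hθ'π hθ''A hθ''π hθ'' in
/-- Gluing: the fibre product of two deformations over a deformation is a deformation over the fibre product. -/
theorem exists_glue : ∃ (𝔑 : AlgDef B₀ B) (q' : 𝔑.B →+* 𝔅'.B) (q'' : 𝔑.B →+* 𝔅''.B),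
    (∀ b, q' (algebraMap B 𝔑.B b) = algebraMap A' 𝔅'.B (p' b)) ∧
    (∀ b, q'' (algebraMap B 𝔑.B b) = algebraMap A'' 𝔅''.B (p'' b)) ∧
    (∀ n, 𝔅'.π (q' n) = 𝔑.π n) ∧ (∀ n, 𝔅''.π (q'' n) = 𝔑.π n) ∧
    (∀ n, θ' (q' n) = θ'' (q'' n)) ∧
    (∀ n₁ n₂, q' n₁ = q' n₂ → q'' n₁ = q'' n₂ → n₁ = n₂) ∧
    (∀ y' y'', θ' y' = θ'' y'' → ∃ n, q' n = y' ∧ q'' n = y'') := by
  let N : Subring (𝔅'.B × 𝔅''.B) :=
    RingHom.eqLocus (θ'.comp (RingHom.fst 𝔅'.B 𝔅''.B)) (θ''.comp (RingHom.snd 𝔅'.B 𝔅''.B))
  let φ : B →+* N := RingHom.codRestrict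
    (((algebraMap A' 𝔅'.B).comp (p'.toAlgHom : B →+* A')).prod
      ((algebraMap A'' 𝔅''.B).comp (p''.toAlgHom : B →+* A''))) N (fun b => by
        change θ' (algebraMap A' 𝔅'.B (p' b)) = θ'' (algebraMap A'' 𝔅''.B (p'' b))
        rw [hθ'A, hθ''A]
        congr 1
        exact h.w_apply b)
  letI : Algebra B N := φ.toAlgebra
  let q' : N →+* 𝔅'.B := (RingHom.fst 𝔅'.B 𝔅''.B).comp N.subtype
  let q'' : N →+* 𝔅''.B := (RingHom.snd 𝔅'.B 𝔅''.B).comp N.subtype
  have hq'A : ∀ b, q' (algebraMap B N b) = algebraMap A' 𝔅'.B (p' b) := fun b => rfl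
  have hq''A : ∀ b, q'' (algebraMap B N b) = algebraMap A'' 𝔅''.B (p'' b) := fun b => rfl
  have hqinj : ∀ n₁ n₂ : N, q' n₁ = q' n₂ → q'' n₁ = q'' n₂ → n₁ = n₂ := fun n₁ n₂ h1 h2 =>
    Subtype.ext (Prod.ext h1 h2)
  have hqsurj : ∀ y' y'', θ' y' = θ'' y'' → ∃ n : N, q' n = y' ∧ q'' n = y'' := fun y' y'' hy =>
    ⟨⟨(y', y''), hy⟩, rfl, rfl⟩
  have hqcomm : ∀ n : N, θ' (q' n) = θ'' (q'' n) := fun n => n.2
  obtain ⟨hflat, hsurj, hker⟩ := glue_aux h 𝔅' 𝔅'' 𝔅₀ θ' θ'' hθ'A hθ'π hθ''A hθ''π hθ'' N q' q''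
    hq'A hq''A hqinj hqsurj hqcomm
  refine ⟨{ B := N, flat := hflat, π := 𝔅'.π.comp q', comm := ?_, surj := hsurj, ker_le := hker },
    q', q'', hq'A, hq''A, fun n => rfl, ?_, hqcomm, hqinj, hqsurj⟩
  · intro b
    rw [RingHom.comp_apply, hq'A, 𝔅'.comm]
    congr 1
    exact Art.res_app p' b
  · intro n
    change 𝔅''.π (q'' n) = 𝔅'.π (q' n)
    rw [← hθ''π, ← hqcomm, hθ'π]

end Concrete

end Glue

end AlgDef

end Groth.Agent.Lib.Helper1.AffDef
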