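import Groth.Agent.Lib.Helper1.AffDef
import Groth.Agent.Lib.Helper9.QuotTensor

/-!
# A morphism of algebraic deformations is an isomorphism (helper1)

* `bijective_of_nilpotent_of_flat`: a linear map to a flat module which is bijective modulo a nilpotent ideal is bijective;
* `inter_smul_top_le`: for `φ : M → N` surjective with `N` flat, `ker φ ∩ I M ⊆ I (ker φ)`;
* `AlgDef.bijective_of_hom`, `AlgDef.ringEquivOfHom`.
-/

universe u

open CategoryTheory AlgebraicGeometry ArtFun ArtFun.Art TensorProduct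

namespace Groth.Agent.Lib.Helper1.AffDef

section Module

variable {R : Type*} [CommRing R] {M N : Type*} [AddCommGroup M] [Module R M] [AddCommGroup N] [Module R N]

/-- If `N` is flat and `φ : M → N` is surjective then `ker φ ∩ I M ⊆ I (ker φ)`. -/
theorem mem_smul_top_ker_of_flat [Module.Flat R N] (I : Ideal R) (φ : M →ₗ[R] N) (hφ : Function.Surjective φ)
    (x : LinearMap.ker φ) (hx : (x : M) ∈ I • (⊤ : Submodule R M)) :
    x ∈ I • (⊤ : Submodule R (LinearMap.ker φ)) := by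
  have hflat : Function.Injective ((LinearMap.ker φ).subtype.lTensor (R ⧸ I)) :=
    LinearMap.lTensor_injective_of_exact_of_flat φ hφ (LinearMap.ker φ).subtype
      (LinearMap.ker φ).injective_subtype (LinearMap.exact_subtype_ker_map φ) (R ⧸ I)
  exact (Groth.Agent.Lib.Helper9.QuotTensor.lTensor_quot_injective_iff I (LinearMap.ker φ).subtype).1 hflat x hx

/-- A linear map to a flat module which is bijective modulo a nilpotent ideal is bijective. -/
theorem bijective_of_nilpotent_of_flat [Module.Flat R N] (I : Ideal R) (hI : IsNilpotent I) (φ : M →ₗ[R] N)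
    (hs : ∀ n : N, ∃ m : M, n - φ m ∈ I • (⊤ : Submodule R N))
    (hi : ∀ m : M, φ m ∈ I • (⊤ : Submodule R N) → m ∈ I • (⊤ : Submodule R M)) :
    Function.Bijective φ := by
  have hsurj : Function.Surjective φ := by
    rw [← LinearMap.range_eq_top]
    apply Groth.Agent.Lib.Helper10.Thick.eq_top_of_sup_smul_top I hI
    intro n _
    obtain ⟨m, hm⟩ := hs n
    have : n = φ m + (n - φ m) := by abel
    rw [this]
    exact Submodule.add_mem_sup ⟨m, rfl⟩ hm
  refine ⟨?_, hsurj⟩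
  have hK : ∀ x : LinearMap.ker φ, x ∈ I • (⊤ : Submodule R (LinearMap.ker φ)) := by
    intro x
    apply mem_smul_top_ker_of_flat I φ hsurj x
    apply hi
    rw [x.2]
    exact Submodule.zero_mem _
  have hbot : (⊥ : Submodule R (LinearMap.ker φ)) = ⊤ := by
    apply Groth.Agent.Lib.Helper10.Thick.eq_top_of_sup_smul_top I hI
    intro x _
    exact Submodule.mem_sup_right (hK x)
  rw [← LinearMap.ker_eq_bot]
  rw [Submodule.eq_bot_iff]
  intro x hx
  have : (⟨x, hx⟩ : LinearMap.ker φ) ∈ (⊥ : Submodule R (LinearMap.ker φ)) := by rw [hbot]; trivial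
  rw [Submodule.mem_bot] at this
  exact congrArg Subtype.val this

end Module

variable {Λ k : Type u} [CommRing Λ] [Field k] [Algebra Λ k]
variable {B₀ : Type u} [CommRing B₀] [Algebra k B₀] {A : Art Λ k}

lemma isNilpotent_maximalIdeal (A : Art Λ k) : IsNilpotent (IsLocalRing.maximalIdeal A) := by
  have h := IsArtinianRing.isNilpotent_jacobson_bot (R := A)
  rwa [IsLocalRing.jacobson_eq_maximalIdeal ⊥ bot_ne_top] at h

namespace AlgDef

lemma mem_smul_top_iff (𝔅 : AlgDef B₀ A) (b : 𝔅.B) :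
    b ∈ (IsLocalRing.maximalIdeal A) • (⊤ : Submodule A 𝔅.B) ↔ 𝔅.π b = 0 := by
  rw [Ideal.smul_top_eq_map, Submodule.restrictScalars_mem, ← 𝔅.ker_eq, RingHom.mem_ker]

/-- A morphism of algebraic deformations is bijective. -/
theorem bijective_of_hom (𝔅₁ 𝔅₂ : AlgDef B₀ A) (φ : 𝔅₁.B →+* 𝔅₂.B)
    (hA : ∀ a, φ (algebraMap A 𝔅₁.B a) = algebraMap A 𝔅₂.B a) (hπ : ∀ b, 𝔅₂.π (φ b) = 𝔅₁.π b) :
    Function.Bijective φ := by
  let φₗ : 𝔅₁.B →ₗ[A] 𝔅₂.B :=
    { toFun := φ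
      map_add' := map_add φ
      map_smul' := fun a b => by
        rw [Algebra.smul_def, map_mul, hA, ← Algebra.smul_def]
        rfl }
  have := bijective_of_nilpotent_of_flat (IsLocalRing.maximalIdeal A) (isNilpotent_maximalIdeal A) φₗ ?_ ?_
  · exact this
  · intro n
    obtain ⟨m, hm⟩ := 𝔅₁.surj (𝔅₂.π n)
    refine ⟨m, ?_⟩
    rw [mem_smul_top_iff, map_sub]
    change 𝔅₂.π n - 𝔅₂.π (φ m) = 0
    rw [hπ, hm, sub_self]
  · intro m hm
    rw [mem_smul_top_iff] at hm ⊢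
    rw [← hπ]
    exact hm

/-- A morphism of algebraic deformations, as a ring isomorphism. -/
noncomputable def ringEquivOfHom (𝔅₁ 𝔅₂ : AlgDef B₀ A) (φ : 𝔅₁.B →+* 𝔅₂.B)
    (hA : ∀ a, φ (algebraMap A 𝔅₁.B a) = algebraMap A 𝔅₂.B a) (hπ : ∀ b, 𝔅₂.π (φ b) = 𝔅₁.π b) :
    𝔅₁.B ≃+* 𝔅₂.B :=
  RingEquiv.ofBijective φ (bijective_of_hom 𝔅₁ 𝔅₂ φ hA hπ)

/-- A morphism of algebraic deformations gives an isomorphism of deformations. -/
noncomputable def isoOfHom (𝔅₁ 𝔅₂ : AlgDef B₀ A) (φ : 𝔅₁.B →+* 𝔅₂.B)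
    (hA : ∀ a, φ (algebraMap A 𝔅₁.B a) = algebraMap A 𝔅₂.B a) (hπ : ∀ b, 𝔅₂.π (φ b) = 𝔅₁.π b) :
    𝔅₁.toDefSch.Iso 𝔅₂.toDefSch :=
  isoOfRingEquiv 𝔅₁ 𝔅₂ (ringEquivOfHom 𝔅₁ 𝔅₂ φ hA hπ) hA hπ

end AlgDef

end Groth.Agent.Lib.Helper1.AffDef
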