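import Groth.Agent.Lib.Helper1.AffDefNu

/-!
# The set of lifts of an algebraic deformation along a semismall extension (helper1)

* `Lift 𝔅 p`: algebraic lifts `(𝔅', θ)` of `𝔅` along `p : C' ⟶ C`;
* `Lift.Rel`, `Lift.setoid`: isomorphism of lifts; `Lift.rel_of_hom`: a morphism of lifts is an isomorphism;
* `Lift.nu`: the inclusion `B₀ ⊗ J → B'` with image `ker θ`.
-/

universe u
open TensorProduct ArtFun ArtFun.Art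

namespace Groth.Agent.Lib.Helper1.AffDef

section LiftSet

variable {k : Type u} [Field k] {B₀ : Type u} [CommRing B₀] [Algebra k B₀] {C' C : Art k k}

/-- The kernel of `p` as an ideal. -/
abbrev kerIdeal (p : C' ⟶ C) : Ideal C' := RingHom.ker p.toAlgHom

lemma kerIdeal_mul {p : C' ⟶ C} (hp : Art.IsSemismallExt p) :
    ∀ m ∈ IsLocalRing.maximalIdeal C', ∀ j ∈ kerIdeal p, m * j = 0 := by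
  intro m hm j hj
  have : m * j ∈ IsLocalRing.maximalIdeal C' * RingHom.ker p.toAlgHom := Ideal.mul_mem_mul hm hj
  rw [hp.2] at this
  exact this

lemma kerIdeal_le (p : C' ⟶ C) : kerIdeal p ≤ IsLocalRing.maximalIdeal C' := by
  intro j hj
  rw [Art.mem_maximalIdeal_iff, ← Art.res_app p]
  have : p j = 0 := hj
  rw [this, map_zero]

/-- An algebraic lift of `𝔅` along `p`. -/
structure Lift (𝔅 : AlgDef B₀ C) (p : C' ⟶ C) : Type (u + 1) where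
  /-- the lifted deformation -/
  𝔅' : AlgDef B₀ C'
  /-- the reduction map -/
  θ : 𝔅'.B →+* 𝔅.B
  hθA : ∀ c, θ (algebraMap C' 𝔅'.B c) = algebraMap C 𝔅.B (p c)
  hθπ : ∀ b, 𝔅.π (θ b) = 𝔅'.π b
  hθ : Function.Surjective θ
  hker : RingHom.ker θ ≤ (kerIdeal p).map (algebraMap C' 𝔅'.B)

namespace Lift

variable {𝔅 : AlgDef B₀ C} {p : C' ⟶ C}

/-- Isomorphism of lifts. -/
def Rel (ℓ ℓ' : Lift 𝔅 p) : Prop :=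
  ∃ e : ℓ.𝔅'.B ≃+* ℓ'.𝔅'.B, (∀ c, e (algebraMap C' ℓ.𝔅'.B c) = algebraMap C' ℓ'.𝔅'.B c) ∧
    ∀ b, ℓ'.θ (e b) = ℓ.θ b

lemma Rel.refl (ℓ : Lift 𝔅 p) : Rel ℓ ℓ := ⟨RingEquiv.refl _, fun _ => rfl, fun _ => rfl⟩

lemma Rel.symm {ℓ ℓ' : Lift 𝔅 p} (h : Rel ℓ ℓ') : Rel ℓ' ℓ := by
  obtain ⟨e, h1, h2⟩ := h
  refine ⟨e.symm, fun c => ?_, fun b => ?_⟩
  · rw [RingEquiv.symm_apply_eq, h1]
  · rw [← h2, RingEquiv.apply_symm_apply]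

lemma Rel.trans {ℓ ℓ' ℓ'' : Lift 𝔅 p} (h : Rel ℓ ℓ') (h' : Rel ℓ' ℓ'') : Rel ℓ ℓ'' := by
  obtain ⟨e, h1, h2⟩ := h
  obtain ⟨e', h1', h2'⟩ := h'
  refine ⟨e.trans e', fun c => ?_, fun b => ?_⟩
  · rw [RingEquiv.trans_apply, h1, h1']
  · rw [RingEquiv.trans_apply, h2', h2]

variable (𝔅 p) in
/-- The setoid of lifts. -/
def setoid : Setoid (Lift 𝔅 p) where
  r := Rel
  iseqv := ⟨Rel.refl, Rel.symm, Rel.trans⟩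

/-- A morphism of lifts is an isomorphism. -/
theorem rel_of_hom (ℓ ℓ' : Lift 𝔅 p) (φ : ℓ.𝔅'.B →+* ℓ'.𝔅'.B)
    (hA : ∀ c, φ (algebraMap C' ℓ.𝔅'.B c) = algebraMap C' ℓ'.𝔅'.B c) (hθ : ∀ b, ℓ'.θ (φ b) = ℓ.θ b) :
    Rel ℓ ℓ' := by
  have hπ : ∀ b, ℓ'.𝔅'.π (φ b) = ℓ.𝔅'.π b := by
    intro b
    rw [← ℓ'.hθπ, hθ, ℓ.hθπ]
  exact ⟨AlgDef.ringEquivOfHom ℓ.𝔅' ℓ'.𝔅' φ hA hπ, hA, hθ⟩

variable (hp : Art.IsSemismallExt p)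

/-- The inclusion `B₀ ⊗ J → B'`. -/
noncomputable def nu (ℓ : Lift 𝔅 p) : B₀ ⊗[k] kerIdeal p →+ ℓ.𝔅'.B :=
  AlgDef.nu (kerIdeal p) (kerIdeal_mul hp) ℓ.𝔅'

lemma nu_tmul (ℓ : Lift 𝔅 p) (b : ℓ.𝔅'.B) (j : kerIdeal p) : ℓ.nu hp (ℓ.𝔅'.π b ⊗ₜ j) = (j : C') • b :=
  AlgDef.nu_tmul _ _ _ b j

lemma nu_smul (ℓ : Lift 𝔅 p) (b : ℓ.𝔅'.B) (n : B₀ ⊗[k] kerIdeal p) :
    ℓ.nu hp (ℓ.𝔅'.π b • n) = b * ℓ.nu hp n := AlgDef.nu_smul _ _ _ b n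

lemma nu_injective (ℓ : Lift 𝔅 p) : Function.Injective (ℓ.nu hp) := AlgDef.nu_injective _ _ _

lemma π_nu (ℓ : Lift 𝔅 p) (n : B₀ ⊗[k] kerIdeal p) : ℓ.𝔅'.π (ℓ.nu hp n) = 0 :=
  AlgDef.π_nu _ _ _ (kerIdeal_le p) n

lemma smul_nu (ℓ : Lift 𝔅 p) (c : C') (n : B₀ ⊗[k] kerIdeal p) :
    c • ℓ.nu hp n = ℓ.nu hp (C'.res c • n) := AlgDef.smul_nu _ _ _ c n

lemma smul_nu_eq_zero (ℓ : Lift 𝔅 p) (m : C') (hm : m ∈ IsLocalRing.maximalIdeal C')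
    (n : B₀ ⊗[k] kerIdeal p) : m • ℓ.nu hp n = 0 := AlgDef.smul_nu_eq_zero _ _ _ m hm n

lemma θ_eq_zero_of_mem (ℓ : Lift 𝔅 p) (x : ℓ.𝔅'.B) (hx : x ∈ (kerIdeal p).map (algebraMap C' ℓ.𝔅'.B)) :
    ℓ.θ x = 0 := by
  have h1 : (kerIdeal p).map (algebraMap C' ℓ.𝔅'.B) ≤ RingHom.ker ℓ.θ := by
    rw [Ideal.map_le_iff_le_comap]
    intro j hj
    rw [Ideal.mem_comap, RingHom.mem_ker, ℓ.hθA]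
    have : p j = 0 := hj
    rw [this, map_zero]
  exact h1 hx

lemma θ_nu (ℓ : Lift 𝔅 p) (n : B₀ ⊗[k] kerIdeal p) : ℓ.θ (ℓ.nu hp n) = 0 :=
  ℓ.θ_eq_zero_of_mem _ (AlgDef.nu_mem _ _ _ n)

lemma exists_nu_of_θ_eq_zero (ℓ : Lift 𝔅 p) (x : ℓ.𝔅'.B) (hx : ℓ.θ x = 0) : ∃ n, ℓ.nu hp n = x :=
  AlgDef.exists_nu_eq _ _ _ x (ℓ.hker hx)

lemma θ_eq_zero_iff (ℓ : Lift 𝔅 p) (x : ℓ.𝔅'.B) : ℓ.θ x = 0 ↔ ∃ n, ℓ.nu hp n = x :=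
  ⟨ℓ.exists_nu_of_θ_eq_zero hp x, by rintro ⟨n, rfl⟩; exact ℓ.θ_nu hp n⟩

/-- Naturality of `ν` along a morphism of lifts. -/
lemma nu_natural (ℓ ℓ' : Lift 𝔅 p) (φ : ℓ.𝔅'.B →+* ℓ'.𝔅'.B)
    (hA : ∀ c, φ (algebraMap C' ℓ.𝔅'.B c) = algebraMap C' ℓ'.𝔅'.B c) (hθ : ∀ b, ℓ'.θ (φ b) = ℓ.θ b)
    (n : B₀ ⊗[k] kerIdeal p) : φ (ℓ.nu hp n) = ℓ'.nu hp n := by
  apply AlgDef.nu_natural _ _ ℓ.𝔅' ℓ'.𝔅' φ hA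
  intro b
  rw [← ℓ'.hθπ, hθ, ℓ.hθπ]

lemma π_eq_of_θ_eq (ℓ ℓ' : Lift 𝔅 p) (x : ℓ.𝔅'.B) (y : ℓ'.𝔅'.B) (h : ℓ.θ x = ℓ'.θ y) :
    ℓ.𝔅'.π x = ℓ'.𝔅'.π y := by
  rw [← ℓ.hθπ, ← ℓ'.hθπ, h]

end Lift

end LiftSet

end Groth.Agent.Lib.Helper1.AffDef
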