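import Groth.Agent.Lib.Helper1.AffDefObsC
import Groth.Agent.Lib.Helper1.AffDefFlat

/-!
# The obstruction cocycle of a flat deformation along a semismall extension (helper1)

Ring level.  `g : C' → C` surjective with kernel spanned by a finite family `b : D → C'` killed by an ideal `𝔪'`
(and "linearly independent modulo `𝔪'`").  For lifts `F'` of the relations `F`, `ObsB` records the values of the
obstruction cocycle in coordinates.
-/

universe u v
open TensorProduct

namespace Groth.Agent.Lib.Helper1.AffDef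

section ObsJ

variable {C' C : Type*} [CommRing C'] [CommRing C] (g : C' →+* C) (hg : Function.Surjective g)
  {D : Type*} [Fintype D] (b : D → C')
  (hspan : ∀ j ∈ RingHom.ker g, ∃ c : D → C', j = ∑ i, b i * c i)
  (hbk : ∀ i, g (b i) = 0)
  (𝔪' : Ideal C') (ht : ∀ m ∈ 𝔪', ∀ i, m * b i = 0) (hb𝔪 : ∀ i, b i ∈ 𝔪')
  (hLI : ∀ c : D → C', ∑ i, b i * c i = 0 → ∀ i, c i ∈ 𝔪')
  {ι : Type*}

include hspan in
lemma exists_eq_sum_C_mul_of_mem_map (x : MvPolynomial ι C')
    (h1 : x ∈ (RingHom.ker g).map (MvPolynomial.C : C' →+* MvPolynomial ι C')) :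
    ∃ y : D → MvPolynomial ι C', x = ∑ i, MvPolynomial.C (b i) * y i := by
  unfold Ideal.map at h1
  induction h1 using Submodule.span_induction with
  | mem x hx =>
    obtain ⟨j, hj, rfl⟩ := hx
    obtain ⟨c, hc⟩ := hspan j hj
    refine ⟨fun i => MvPolynomial.C (c i), ?_⟩
    rw [hc, map_sum]
    refine Finset.sum_congr rfl fun i _ => ?_
    rw [map_mul]
  | zero => exact ⟨fun _ => 0, by simp⟩
  | add x y _ _ hx hy =>
    obtain ⟨u, rfl⟩ := hx
    obtain ⟨v, rfl⟩ := hy
    refine ⟨fun i => u i + v i, ?_⟩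
    rw [← Finset.sum_add_distrib]
    refine Finset.sum_congr rfl fun i _ => ?_
    ring
  | smul a x _ hx =>
    obtain ⟨u, rfl⟩ := hx
    refine ⟨fun i => a * u i, ?_⟩
    rw [smul_eq_mul, Finset.mul_sum]
    refine Finset.sum_congr rfl fun i _ => ?_
    ring

include hspan in
lemma exists_eq_sum_C_mul_of_map_eq_zero (x : MvPolynomial ι C') (hx : MvPolynomial.map g x = 0) :
    ∃ y : D → MvPolynomial ι C', x = ∑ i, MvPolynomial.C (b i) * y i := by
  have h1 : x ∈ RingHom.ker (MvPolynomial.map g : MvPolynomial ι C' →+* MvPolynomial ι C) := hx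
  rw [MvPolynomial.ker_map] at h1
  exact exists_eq_sum_C_mul_of_mem_map g b hspan x h1

include hLI in
lemma mem_map_C_of_sum_C_mul_eq_zero (x : D → MvPolynomial ι C')
    (hx : ∑ i, MvPolynomial.C (b i) * x i = 0) (i : D) :
    x i ∈ 𝔪'.map (MvPolynomial.C : C' →+* MvPolynomial ι C') := by
  rw [MvPolynomial.mem_map_C_iff]
  intro m
  have h1 := congrArg (MvPolynomial.coeff m) hx
  rw [MvPolynomial.coeff_sum, MvPolynomial.coeff_zero] at h1
  have h2 : ∑ i, b i * MvPolynomial.coeff m (x i) = 0 := by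
    rw [← h1]
    refine Finset.sum_congr rfl fun i _ => ?_
    rw [MvPolynomial.coeff_C_mul]
  exact hLI (fun i => MvPolynomial.coeff m (x i)) h2 i

include ht in
lemma C_mul_eq_zero_of_mem_map_C' (i : D) (x : MvPolynomial ι C')
    (hx : x ∈ 𝔪'.map (MvPolynomial.C : C' →+* MvPolynomial ι C')) : MvPolynomial.C (b i) * x = 0 := by
  rw [MvPolynomial.mem_map_C_iff] at hx
  ext m
  rw [MvPolynomial.coeff_C_mul, MvPolynomial.coeff_zero, mul_comm]
  exact ht _ (hx m) i

include ht hb𝔪 in
lemma C_mul_C_mul_eq_zero (i j : D) (x : MvPolynomial ι C') :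
    MvPolynomial.C (b i) * (MvPolynomial.C (b j) * x) = 0 := by
  rw [← mul_assoc, ← map_mul, mul_comm (b i), ht _ (hb𝔪 j) i, map_zero, zero_mul]

include hbk in
lemma map_C_b (i : D) : MvPolynomial.map g (MvPolynomial.C (b i) : MvPolynomial ι C') = 0 := by
  rw [MvPolynomial.map_C, hbk, map_zero]

include hspan in
lemma exists_eq_sum_smul_of_mapRange_eq_zero {σ : Type*} (c : σ →₀ MvPolynomial ι C')
    (hc : Finsupp.mapRange (MvPolynomial.map g) (map_zero _) c = 0) :
    ∃ u : D → σ →₀ MvPolynomial ι C', c = ∑ i, (MvPolynomial.C (b i) : MvPolynomial ι C') • u i := by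
  classical
  have h1 : ∀ s, ∃ y : D → MvPolynomial ι C', c s = ∑ i, MvPolynomial.C (b i) * y i := by
    intro s
    apply exists_eq_sum_C_mul_of_map_eq_zero g b hspan
    have := congrArg (fun d => d s) hc
    simpa using this
  choose y hy using h1
  refine ⟨fun i => ∑ s ∈ c.support, Finsupp.single s (y s i), ?_⟩
  conv_lhs => rw [← Finsupp.sum_single c]
  simp only [Finset.smul_sum]
  rw [Finset.sum_comm]
  refine Finset.sum_congr rfl fun s _ => ?_
  simp only [Finsupp.smul_single, smul_eq_mul]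
  rw [← Finsupp.single_finsetSum, ← hy]

variable {σ : Type*} (F : σ → MvPolynomial ι C) {B₀ : Type*} [CommRing B₀] (ε : MvPolynomial ι C →+* B₀)
  (F' : σ → MvPolynomial ι C') (hF' : ∀ s, MvPolynomial.map g (F' s) = F s)

/-- Witnesses for the values (in coordinates) of the obstruction cocycle on a relation. -/
def ObsB (r : σ →₀ MvPolynomial ι C) (v : D → B₀) : Prop :=
  ∃ (r' : σ →₀ MvPolynomial ι C') (x : D → MvPolynomial ι C'),
    Finsupp.mapRange (MvPolynomial.map g) (map_zero _) r' = r ∧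
    Finsupp.linearCombination _ F' r' = ∑ i, MvPolynomial.C (b i) * x i ∧
    ∀ i, ε (MvPolynomial.map g (x i)) = v i

include hg hspan hF' in
lemma ObsB.exists (r : σ →₀ MvPolynomial ι C) (hr : Finsupp.linearCombination _ F r = 0) :
    ∃ v, ObsB g b ε F' r v := by
  obtain ⟨r', rfl⟩ := exists_finsupp_lift (MvPolynomial.map g) (MvPolynomial.map_surjective g hg) r
  have h1 : MvPolynomial.map g (Finsupp.linearCombination _ F' r') = 0 := by
    rw [red_linearCombination (MvPolynomial.map g) F' F hF', hr]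
  obtain ⟨x, hx⟩ := exists_eq_sum_C_mul_of_map_eq_zero g b hspan _ h1
  exact ⟨_, r', x, rfl, hx, fun _ => rfl⟩

variable (hεF : ∀ s, ε (F s) = 0)
  (hε𝔪 : ∀ w ∈ 𝔪'.map (MvPolynomial.C : C' →+* MvPolynomial ι C'), ε (MvPolynomial.map g w) = 0)

include hspan hLI hεF hε𝔪 hF' in
lemma ObsB.unique {r : σ →₀ MvPolynomial ι C} {v v' : D → B₀} (h : ObsB g b ε F' r v)
    (h' : ObsB g b ε F' r v') : v = v' := by
  obtain ⟨r₁, x₁, hr₁, hx₁, hv₁⟩ := h
  obtain ⟨r₂, x₂, hr₂, hx₂, hv₂⟩ := h'
  have h0 : Finsupp.mapRange (MvPolynomial.map g) (map_zero _) (r₁ - r₂) = 0 := by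
    rw [Finsupp.mapRange_sub (map_sub _), hr₁, hr₂, sub_self]
  obtain ⟨u, hu⟩ := exists_eq_sum_smul_of_mapRange_eq_zero g b hspan _ h0
  have h1 : ∑ i, MvPolynomial.C (b i) * (x₁ i - x₂ i - Finsupp.linearCombination _ F' (u i)) = 0 := by
    have e1 : Finsupp.linearCombination _ F' (r₁ - r₂) =
        ∑ i, MvPolynomial.C (b i) * Finsupp.linearCombination _ F' (u i) := by
      rw [hu, map_sum]
      refine Finset.sum_congr rfl fun i _ => ?_
      rw [map_smul, smul_eq_mul]
    rw [map_sub, hx₁, hx₂] at e1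
    simp only [mul_sub, Finset.sum_sub_distrib]
    rw [e1, sub_self]
  funext i
  have h2 := mem_map_C_of_sum_C_mul_eq_zero b 𝔪' hLI _ h1 i
  have h3 := hε𝔪 _ h2
  rw [map_sub, map_sub, map_sub, map_sub, red_linearCombination (MvPolynomial.map g) F' F hF',
    ringHom_linearCombination_eq_zero ε F hεF, sub_zero, sub_eq_zero, hv₁, hv₂] at h3
  exact h3

omit [Fintype D] in
lemma ObsB.zero_of_exact [Fintype D] (r' : σ →₀ MvPolynomial ι C')
    (h : Finsupp.linearCombination _ F' r' = 0) :
    ObsB g b ε F' (Finsupp.mapRange (MvPolynomial.map g) (map_zero _) r') 0 :=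
  ⟨r', fun _ => 0, rfl, by rw [h]; simp, fun i => by simp⟩

lemma ObsB.add {r₁ r₂ : σ →₀ MvPolynomial ι C} {v₁ v₂ : D → B₀} (h₁ : ObsB g b ε F' r₁ v₁)
    (h₂ : ObsB g b ε F' r₂ v₂) : ObsB g b ε F' (r₁ + r₂) (v₁ + v₂) := by
  obtain ⟨r₁', x₁, rfl, hx₁, hv₁⟩ := h₁
  obtain ⟨r₂', x₂, rfl, hx₂, hv₂⟩ := h₂
  refine ⟨r₁' + r₂', fun i => x₁ i + x₂ i, Finsupp.mapRange_add (map_add _) _ _, ?_, ?_⟩
  · rw [map_add, hx₁, hx₂, ← Finset.sum_add_distrib]
    refine Finset.sum_congr rfl fun i _ => ?_
    ring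
  · intro i
    rw [map_add, map_add, hv₁, hv₂]
    rfl

include hg in
lemma ObsB.smul (a : MvPolynomial ι C) {r : σ →₀ MvPolynomial ι C} {v : D → B₀} (h : ObsB g b ε F' r v) :
    ObsB g b ε F' (a • r) (fun i => ε a * v i) := by
  obtain ⟨r', x, rfl, hx, hv⟩ := h
  obtain ⟨a', rfl⟩ := MvPolynomial.map_surjective g hg a
  refine ⟨a' • r', fun i => a' * x i, mapRange_smul' _ _ _, ?_, ?_⟩
  · rw [map_smul, smul_eq_mul, hx, Finset.mul_sum]
    refine Finset.sum_congr rfl fun i _ => ?_
    ring
  · intro i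
    rw [map_mul, map_mul, hv]

include hg hF' in
lemma ObsB.triv (a c : σ →₀ MvPolynomial ι C) :
    ObsB g b ε F' (Finsupp.linearCombination _ F a • c - Finsupp.linearCombination _ F c • a) 0 := by
  obtain ⟨a', rfl⟩ := exists_finsupp_lift (MvPolynomial.map g) (MvPolynomial.map_surjective g hg) a
  obtain ⟨c', rfl⟩ := exists_finsupp_lift (MvPolynomial.map g) (MvPolynomial.map_surjective g hg) c
  refine ⟨Finsupp.linearCombination _ F' a' • c' - Finsupp.linearCombination _ F' c' • a', fun _ => 0, ?_, ?_, ?_⟩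
  · rw [Finsupp.mapRange_sub (map_sub _), mapRange_smul', mapRange_smul',
      red_linearCombination _ F' F hF', red_linearCombination _ F' F hF']
  · rw [map_sub, map_smul, map_smul, smul_eq_mul, smul_eq_mul, mul_comm, sub_self]
    simp
  · intro i
    simp

omit [Fintype D] in
lemma linearCombination_sub_sum_mul [Fintype D] (H : D → σ → MvPolynomial ι C') (r' : σ →₀ MvPolynomial ι C') :
    Finsupp.linearCombination _ (fun s => F' s - ∑ i, MvPolynomial.C (b i) * H i s) r' =
      Finsupp.linearCombination _ F' r' -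
        ∑ i, MvPolynomial.C (b i) * Finsupp.linearCombination _ (H i) r' := by
  classical
  induction r' using Finsupp.induction_linear with
  | zero => simp
  | add p q hp hq =>
    rw [map_add, map_add, hp, hq]
    simp only [map_add, mul_add, Finset.sum_add_distrib]
    ring
  | single s a =>
    simp only [Finsupp.linearCombination_single, smul_eq_mul, mul_sub, Finset.mul_sum]
    congr 1
    refine Finset.sum_congr rfl fun i _ => ?_
    ring

/-- change of the lifts `F'` by elements of the kernel -/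
lemma ObsB.change (H : D → σ → MvPolynomial ι C') {r : σ →₀ MvPolynomial ι C} {v : D → B₀}
    (h : ObsB g b ε F' r v) :
    ObsB g b ε (fun s => F' s - ∑ i, MvPolynomial.C (b i) * H i s) r
      (fun i => v i - r.sum fun s a => ε a * ε (MvPolynomial.map g (H i s))) := by
  classical
  obtain ⟨r', x, rfl, hx, hv⟩ := h
  have e1 := linearCombination_sub_sum_mul b F' H r'
  refine ⟨r', fun i => x i - Finsupp.linearCombination _ (H i) r', rfl, ?_, ?_⟩
  · rw [e1, hx, ← Finset.sum_sub_distrib]
    refine Finset.sum_congr rfl fun i _ => ?_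
    ring
  · intro i
    rw [map_sub, map_sub, hv,
      red_linearCombination (MvPolynomial.map g) (H i) (fun s => MvPolynomial.map g (H i s)) (fun _ => rfl),
      ringHom_linearCombination]

variable (hkε : ∀ z, ε z = 0 → ∃ (c : σ →₀ MvPolynomial ι C) (w : MvPolynomial ι C'),
     w ∈ 𝔪'.map (MvPolynomial.C : C' →+* MvPolynomial ι C') ∧
       z = Finsupp.linearCombination _ F c + MvPolynomial.map g w)

include hg hspan hbk ht hb𝔪 hF' hkε in
/-- if the obstruction cocycle vanishes on a relation, the relation lifts to an exact relation -/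
lemma ObsB.exists_exact_lift {r : σ →₀ MvPolynomial ι C} (h : ObsB g b ε F' r 0) :
    ∃ r'' : σ →₀ MvPolynomial ι C', Finsupp.mapRange (MvPolynomial.map g) (map_zero _) r'' = r ∧
      Finsupp.linearCombination _ F' r'' = 0 := by
  classical
  have hG : Function.Surjective (MvPolynomial.map g : MvPolynomial ι C' →+* MvPolynomial ι C) :=
    MvPolynomial.map_surjective g hg
  obtain ⟨r', x, rfl, hx, hv⟩ := h
  have h1 : ∀ i, ∃ (c' : σ →₀ MvPolynomial ι C') (w : MvPolynomial ι C'),
      w ∈ 𝔪'.map (MvPolynomial.C : C' →+* MvPolynomial ι C') ∧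
      MvPolynomial.map g (x i - Finsupp.linearCombination _ F' c' - w) = 0 := by
    intro i
    obtain ⟨c, w, hw, hz⟩ := hkε _ (hv i)
    obtain ⟨c', rfl⟩ := exists_finsupp_lift (MvPolynomial.map g) hG c
    refine ⟨c', w, hw, ?_⟩
    rw [map_sub, map_sub, hz, red_linearCombination (MvPolynomial.map g) F' F hF']
    ring
  choose c' w hw h5 using h1
  have h2 : ∀ i, MvPolynomial.C (b i) * x i =
      MvPolynomial.C (b i) * Finsupp.linearCombination _ F' (c' i) := by
    intro i
    obtain ⟨z, hz⟩ := exists_eq_sum_C_mul_of_map_eq_zero g b hspan _ (h5 i)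
    have e : x i = Finsupp.linearCombination _ F' (c' i) + w i + ∑ j, MvPolynomial.C (b j) * z j := by
      rw [← hz]; ring
    rw [e, mul_add, mul_add, C_mul_eq_zero_of_mem_map_C' b 𝔪' ht i _ (hw i), Finset.mul_sum,
      Finset.sum_eq_zero (fun j _ => C_mul_C_mul_eq_zero b 𝔪' ht hb𝔪 i j (z j)), add_zero, add_zero]
  refine ⟨r' - ∑ i, (MvPolynomial.C (b i) : MvPolynomial ι C') • c' i, ?_, ?_⟩
  · ext s : 1
    simp only [Finsupp.mapRange_apply, Finsupp.coe_sub, Pi.sub_apply, Finsupp.coe_finset_sum,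
      Finset.sum_apply, Finsupp.coe_smul, Pi.smul_apply, smul_eq_mul, map_sub, map_sum, map_mul,
      map_C_b g b hbk, zero_mul, Finset.sum_const_zero, sub_zero]
  · rw [map_sub, map_sum, hx, sub_eq_zero]
    refine Finset.sum_congr rfl fun i _ => ?_
    rw [map_smul, smul_eq_mul, h2]

include hspan hbk hLI hF' in
/-- the key to flatness of the lifted algebra -/
lemma mem_sup_of_sum_C_mul_mem
    (hrel : ∀ r : σ →₀ MvPolynomial ι C, Finsupp.linearCombination _ F r = 0 →
      ∃ r' : σ →₀ MvPolynomial ι C', Finsupp.mapRange (MvPolynomial.map g) (map_zero _) r' = r ∧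
        Finsupp.linearCombination _ F' r' = 0)
    (y : D → MvPolynomial ι C') (hy : ∑ i, MvPolynomial.C (b i) * y i ∈ Ideal.span (Set.range F')) (i : D) :
    y i ∈ Ideal.span (Set.range F') ⊔ 𝔪'.map (MvPolynomial.C : C' →+* MvPolynomial ι C') := by
  classical
  rw [Finsupp.mem_ideal_span_range_iff_exists_finsupp] at hy
  obtain ⟨c', hc'⟩ := hy
  have hc'' : Finsupp.linearCombination _ F' c' = ∑ i, MvPolynomial.C (b i) * y i := hc'
  have h1 : Finsupp.linearCombination _ F (Finsupp.mapRange (MvPolynomial.map g) (map_zero _) c') = 0 := by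
    rw [← red_linearCombination (MvPolynomial.map g) F' F hF', hc'', map_sum]
    refine Finset.sum_eq_zero fun i _ => ?_
    rw [map_mul, map_C_b g b hbk, zero_mul]
  obtain ⟨r', hr', hr'0⟩ := hrel _ h1
  have h2 : Finsupp.mapRange (MvPolynomial.map g) (map_zero _) (c' - r') = 0 := by
    rw [Finsupp.mapRange_sub (map_sub _), hr', sub_self]
  obtain ⟨u, hu⟩ := exists_eq_sum_smul_of_mapRange_eq_zero g b hspan _ h2
  have h3 : ∑ i, MvPolynomial.C (b i) * (y i - Finsupp.linearCombination _ F' (u i)) = 0 := by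
    have e1 : Finsupp.linearCombination _ F' (c' - r') =
        ∑ i, MvPolynomial.C (b i) * Finsupp.linearCombination _ F' (u i) := by
      rw [hu, map_sum]
      refine Finset.sum_congr rfl fun i _ => ?_
      rw [map_smul, smul_eq_mul]
    rw [map_sub, hr'0, sub_zero, hc''] at e1
    simp only [mul_sub, Finset.sum_sub_distrib]
    rw [e1, sub_self]
  have h4 := mem_map_C_of_sum_C_mul_eq_zero b 𝔪' hLI _ h3 i
  have h5 : y i = Finsupp.linearCombination _ F' (u i) + (y i - Finsupp.linearCombination _ F' (u i)) := by ring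
  rw [h5]
  refine Ideal.add_mem _ (Ideal.mem_sup_left ?_) (Ideal.mem_sup_right h4)
  rw [Finsupp.mem_ideal_span_range_iff_exists_finsupp]
  exact ⟨u i, rfl⟩

end ObsJ

section Map

variable {C' C'' C : Type*} [CommRing C'] [CommRing C''] [CommRing C] (g : C' →+* C) (g'' : C'' →+* C)
  (q : C' →+* C'') (hq : ∀ c, g'' (q c) = g c)
  {D D'' : Type*} [Fintype D] [Fintype D''] (b : D → C') (b'' : D'' → C'') (a : D'' → D → C'')
  (ha : ∀ i, q (b i) = ∑ j, b'' j * a j i)
  {ι σ : Type*} {B₀ : Type*} [CommRing B₀] (ε : MvPolynomial ι C →+* B₀) (F' : σ → MvPolynomial ι C')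

include hq ha in
/-- functoriality of the obstruction cocycle along a map of extensions -/
lemma ObsB.map {r : σ →₀ MvPolynomial ι C} {v : D → B₀} (h : ObsB g b ε F' r v) :
    ObsB g'' b'' ε (fun s => MvPolynomial.map q (F' s)) r
      (fun j => ∑ i, ε (MvPolynomial.C (g'' (a j i))) * v i) := by
  classical
  have hgq : g''.comp q = g := RingHom.ext hq
  have hGQ : ∀ z : MvPolynomial ι C', MvPolynomial.map g'' (MvPolynomial.map q z) = MvPolynomial.map g z := by
    intro z
    rw [MvPolynomial.map_map, hgq]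
  obtain ⟨r', x, rfl, hx, hv⟩ := h
  refine ⟨Finsupp.mapRange (MvPolynomial.map q) (map_zero _) r',
    fun j => ∑ i, MvPolynomial.C (a j i) * MvPolynomial.map q (x i), ?_, ?_, ?_⟩
  · ext s : 1
    simp only [Finsupp.mapRange_apply, hGQ]
  · rw [← red_linearCombination (MvPolynomial.map q) F' (fun s => MvPolynomial.map q (F' s)) (fun _ => rfl),
      hx, map_sum]
    simp only [map_mul, MvPolynomial.map_C, ha, map_sum, Finset.sum_mul, Finset.mul_sum]
    rw [Finset.sum_comm]
    refine Finset.sum_congr rfl fun j _ => Finset.sum_congr rfl fun i _ => ?_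
    ring
  · intro j
    rw [map_sum, map_sum]
    refine Finset.sum_congr rfl fun i _ => ?_
    rw [map_mul, map_mul, MvPolynomial.map_C, hGQ, hv]

end Map

section FlatSemi

variable {C' C : Type u} {B' B : Type v} [CommRing C'] [CommRing C] [CommRing B'] [CommRing B]
  [Algebra C' B'] [Algebra C B]
  (g : C' →+* C) (hg : Function.Surjective g) (θ : B' →+* B) (hθ : Function.Surjective θ)
  (hθg : ∀ c, θ (algebraMap C' B' c) = algebraMap C B (g c))
  (hker : RingHom.ker θ ≤ (RingHom.ker g).map (algebraMap C' B'))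

include hg hθ hθg hker in
/-- Lifting flatness along a semismall extension. -/
theorem flat_of_semismall [Module.Flat C B] {D : Type*} [Fintype D] (b : D → C')
    (hspan : ∀ j ∈ RingHom.ker g, ∃ c : D → C', j = ∑ i, b i * c i) (hbk : ∀ i, g (b i) = 0)
    (𝔪' : Ideal C') (ht : ∀ m ∈ 𝔪', ∀ i, m * b i = 0) (hb𝔪 : ∀ i, b i ∈ 𝔪')
    (hkey : ∀ y : D → B', ∑ i, b i • y i = 0 → ∀ i, y i ∈ 𝔪' • (⊤ : Submodule C' B')) :
    Module.Flat C' B' := by
  classical
  haveI : Module.Flat (C' ⧸ RingHom.ker g) ((C' ⧸ RingHom.ker g) ⊗[C'] B') :=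
    flat_quot_tensor g hg θ hθ hθg hker
  have hbI : ∀ i, b i ∈ RingHom.ker g := hbk
  apply Groth.Agent.Lib.Helper9.flat_of_isNilpotent_of_rTensor_injective (I := RingHom.ker g)
  · refine ⟨2, ?_⟩
    rw [Ideal.zero_eq_bot, eq_bot_iff, pow_two, Ideal.mul_le]
    intro x hx y hy
    obtain ⟨c, rfl⟩ := hspan x hx
    obtain ⟨d, rfl⟩ := hspan y hy
    rw [Ideal.mem_bot, Finset.sum_mul_sum]
    refine Finset.sum_eq_zero fun i _ => Finset.sum_eq_zero fun j _ => ?_
    have : b i * b j = 0 := ht _ (hb𝔪 i) j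
    calc b i * c i * (b j * d j) = (b i * b j) * (c i * d j) := by ring
      _ = 0 := by rw [this, zero_mul]
  · rw [injective_iff_map_eq_zero]
    intro z hz
    have hform : ∀ z : (RingHom.ker g) ⊗[C'] B', ∃ y : D → B',
        z = ∑ i, (⟨b i, hbI i⟩ : RingHom.ker g) ⊗ₜ[C'] y i := by
      intro z
      induction z using TensorProduct.induction_on with
      | zero => exact ⟨fun _ => 0, by simp⟩
      | tmul j y =>
        obtain ⟨j, hj⟩ := j
        obtain ⟨c, hc⟩ := hspan j hj
        refine ⟨fun i => c i • y, ?_⟩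
        have e : (⟨j, hj⟩ : RingHom.ker g) = ∑ i, c i • (⟨b i, hbI i⟩ : RingHom.ker g) := by
          apply Subtype.ext
          change j = _
          rw [hc]
          simp only [Submodule.coe_sum, Submodule.coe_smul, smul_eq_mul]
          refine Finset.sum_congr rfl fun i _ => ?_
          ring
        rw [e, TensorProduct.sum_tmul]
        refine Finset.sum_congr rfl fun i _ => ?_
        rw [TensorProduct.tmul_smul, TensorProduct.smul_tmul']
      | add x y hx hy =>
        obtain ⟨u, rfl⟩ := hx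
        obtain ⟨v, rfl⟩ := hy
        refine ⟨fun i => u i + v i, ?_⟩
        rw [← Finset.sum_add_distrib]
        refine Finset.sum_congr rfl fun i _ => ?_
        rw [TensorProduct.tmul_add]
    obtain ⟨y, rfl⟩ := hform z
    have h1 : ∑ i, b i • y i = 0 := by
      have := congrArg (TensorProduct.lid C' B') hz
      rw [map_zero, map_sum, map_sum] at this
      rw [← this]
      refine Finset.sum_congr rfl fun i _ => ?_
      rw [LinearMap.rTensor_tmul, Submodule.subtype_apply, TensorProduct.lid_tmul]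
    have h2 := hkey y h1
    refine Finset.sum_eq_zero fun i _ => ?_
    refine Submodule.smul_induction_on
      (p := fun y' : B' => (⟨b i, hbI i⟩ : RingHom.ker g) ⊗ₜ[C'] y' = 0) (h2 i) ?_ ?_
    · intro m hm b' _
      rw [TensorProduct.tmul_smul, TensorProduct.smul_tmul']
      have : m • (⟨b i, hbI i⟩ : RingHom.ker g) = 0 := by
        apply Subtype.ext
        change m * b i = 0
        exact ht m hm i
      rw [this, TensorProduct.zero_tmul]
    · intro x y hx hy
      rw [TensorProduct.tmul_add, hx, hy, add_zero]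

end FlatSemi

end Groth.Agent.Lib.Helper1.AffDef
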