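import Groth.Agent.Lib.Helper1.AffDefObs

/-!
# Classes in `T²(P, B₀)` of semilinear maps on the relation module (helper1)
-/

universe u
open TensorProduct

namespace Groth.Agent.Lib.Helper1.AffDef

open CotT

variable {k : Type*} {B₀ : Type*} {ι σ : Type*} [CommRing k] [CommRing B₀] [Algebra k B₀]
  (P : Algebra.Presentation k B₀ ι σ)

/-- A semilinear map on the relation module killing the trivial relations. -/
structure RelCocycle where
  φ : relKer P →+ B₀
  semi : ∀ (a : P.toExtension.Ring) (r : relKer P), φ (a • r) = algebraMap P.toExtension.Ring B₀ a * φ r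
  triv : ∀ (a b : relMod P) (h : jmap P a • b - jmap P b • a ∈ relKer P), φ ⟨_, h⟩ = 0

namespace RelCocycle

variable {P} (c : RelCocycle P)

/-- `φ` as a linear map -/
noncomputable def φₗ : relKer P →ₗ[P.toExtension.Ring] B₀ :=
  { toFun := c.φ
    map_add' := map_add c.φ
    map_smul' := fun a r => by
      rw [RingHom.id_apply, Algebra.smul_def]
      exact c.semi a r }

lemma φ_triv (y : relMod P) (hy : y ∈ trivRel P) (hy' : y ∈ relKer P) : c.φ ⟨y, hy'⟩ = 0 := by
  revert hy'
  refine Submodule.span_induction (p := fun y _ => ∀ hy : y ∈ relKer P, c.φ ⟨y, hy⟩ = 0) ?_ ?_ ?_ ?_ hy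
  · rintro _ ⟨a, b, rfl⟩ h
    exact c.triv a b h
  · intro h
    exact map_zero c.φ
  · intro x z hx hz ihx ihz h
    have hx' : x ∈ relKer P := trivRel_le_relKer P hx
    have hz' : z ∈ relKer P := trivRel_le_relKer P hz
    have : (⟨x + z, h⟩ : relKer P) = ⟨x, hx'⟩ + ⟨z, hz'⟩ := rfl
    rw [this, map_add, ihx hx', ihz hz', add_zero]
  · intro a x hx ihx h
    have hx' : x ∈ relKer P := trivRel_le_relKer P hx
    have : (⟨a • x, h⟩ : relKer P) = a • ⟨x, hx'⟩ := rfl
    rw [this, c.semi, ihx hx', mul_zero]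

/-- the induced map on `B₀ ⊗ Q` -/
noncomputable def Φ : B₀ ⊗[P.toExtension.Ring] relKer P →ₗ[B₀] B₀ := LinearMap.liftBaseChange B₀ c.φₗ

lemma range_le_ker_Φ : LinearMap.range ((trivRelKer P).subtype.baseChange B₀) ≤ LinearMap.ker c.Φ := by
  rw [LinearMap.range_le_ker_iff]
  refine TensorProduct.AlgebraTensorModule.ext fun b q => ?_
  simp only [LinearMap.coe_comp, Function.comp_apply, LinearMap.baseChange_tmul, Submodule.coe_subtype,
    LinearMap.zero_apply]
  change LinearMap.liftBaseChange B₀ c.φₗ (b ⊗ₜ (q : relKer P)) = 0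
  rw [LinearMap.liftBaseChange_tmul]
  have hq : ((q : relKer P) : relMod P) ∈ trivRel P := q.2
  have : c.φₗ (q : relKer P) = 0 := c.φ_triv _ hq _
  rw [this, smul_zero]

/-- the map `L₂ → B₀` of a cocycle -/
noncomputable def hom : L2 P →ₗ[B₀] B₀ := Submodule.liftQ _ c.Φ c.range_le_ker_Φ

lemma hom_mk (b : B₀) (r : relKer P) : c.hom (Submodule.Quotient.mk (b ⊗ₜ r)) = b * c.φ r := by
  change c.Φ (b ⊗ₜ r) = _
  change LinearMap.liftBaseChange B₀ c.φₗ (b ⊗ₜ r) = _
  rw [LinearMap.liftBaseChange_tmul, smul_eq_mul]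
  rfl

/-- the class in `T²` -/
noncomputable def cls : T2 P B₀ := toT2 P B₀ c.hom

end RelCocycle

variable {P}

lemma l2_ext {Ψ Ψ' : L2 P →ₗ[B₀] B₀}
    (h : ∀ r : relKer P, Ψ (Submodule.Quotient.mk ((1 : B₀) ⊗ₜ r)) = Ψ' (Submodule.Quotient.mk ((1 : B₀) ⊗ₜ r))) :
    Ψ = Ψ' := by
  refine Submodule.linearMap_qext _ ?_
  refine TensorProduct.AlgebraTensorModule.ext fun b r => ?_
  simp only [LinearMap.coe_comp, Function.comp_apply, Submodule.mkQ_apply]
  have e : (b ⊗ₜ[P.toExtension.Ring] r : B₀ ⊗[P.toExtension.Ring] relKer P) =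
      b • ((1 : B₀) ⊗ₜ[P.toExtension.Ring] r) := by
    rw [TensorProduct.smul_tmul', smul_eq_mul, mul_one]
  rw [e, Submodule.Quotient.mk_smul, map_smul, map_smul, h]

lemma l1_one_tmul (g : L1 P →ₗ[B₀] B₀) (c : relMod P) :
    g ((1 : B₀) ⊗ₜ c) = c.sum fun s a => algebraMap P.toExtension.Ring B₀ a *
      g ((1 : B₀) ⊗ₜ Finsupp.single s (1 : P.toExtension.Ring)) := by
  classical
  induction c using Finsupp.induction_linear with
  | zero => simp
  | add x y hx hy =>
    rw [TensorProduct.tmul_add, map_add, hx, hy, Finsupp.sum_add_index']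
    · intro s; simp
    · intro s a b; rw [map_add, add_mul]
  | single s a =>
    rw [Finsupp.sum_single_index (by simp)]
    have : Finsupp.single s a = a • Finsupp.single s (1 : P.toExtension.Ring) := by
      rw [Finsupp.smul_single, smul_eq_mul, mul_one]
    rw [this, TensorProduct.tmul_smul, TensorProduct.smul_tmul']
    have e : (a • (1 : B₀)) ⊗ₜ[P.toExtension.Ring] Finsupp.single s (1 : P.toExtension.Ring) =
        (algebraMap P.toExtension.Ring B₀ a) •
          ((1 : B₀) ⊗ₜ[P.toExtension.Ring] Finsupp.single s (1 : P.toExtension.Ring)) := by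
      rw [TensorProduct.smul_tmul', Algebra.smul_def, smul_eq_mul]
    rw [e, map_smul, smul_eq_mul]

namespace RelCocycle

variable (c : RelCocycle P)

theorem hom_mem_range_iff :
    c.hom ∈ LinearMap.range (d2Star P B₀) ↔
      ∃ h : σ → B₀, ∀ r : relKer P,
        c.φ r = (r : relMod P).sum fun s a => algebraMap P.toExtension.Ring B₀ a * h s := by
  constructor
  · rintro ⟨g, hg⟩
    refine ⟨fun s => g ((1 : B₀) ⊗ₜ Finsupp.single s (1 : P.toExtension.Ring)), fun r => ?_⟩
    have h3 : c.hom (Submodule.Quotient.mk ((1 : B₀) ⊗ₜ r)) = c.φ r := by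
      rw [hom_mk, one_mul]
    rw [← h3, ← hg, d2Star_apply, LinearMap.comp_apply, d2_mk_tmul]
    exact l1_one_tmul g _
  · rintro ⟨h, hh⟩
    refine ⟨(L1basis P).constr B₀ h, ?_⟩
    rw [d2Star_apply]
    apply l2_ext
    intro r
    rw [LinearMap.comp_apply, d2_mk_tmul, hom_mk, one_mul, hh, l1_one_tmul]
    refine Finsupp.sum_congr fun s _ => ?_
    congr 1
    rw [← L1basis_apply, Module.Basis.constr_basis]

theorem cls_eq_zero_iff :
    c.cls = 0 ↔ ∃ h : σ → B₀, ∀ r : relKer P,
        c.φ r = (r : relMod P).sum fun s a => algebraMap P.toExtension.Ring B₀ a * h s := by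
  rw [← hom_mem_range_iff]
  unfold cls toT2
  exact Submodule.Quotient.mk_eq_zero _

/-- cohomologous cocycles -/
theorem cls_eq_of_sub (c c' : RelCocycle P) (h : σ → B₀)
    (hh : ∀ r : relKer P, c.φ r - c'.φ r =
      (r : relMod P).sum fun s a => algebraMap P.toExtension.Ring B₀ a * h s) : c.cls = c'.cls := by
  unfold cls toT2
  rw [Submodule.mkQ_apply, Submodule.mkQ_apply, Submodule.Quotient.eq]
  refine ⟨(L1basis P).constr B₀ h, ?_⟩
  rw [d2Star_apply]
  apply l2_ext
  intro r
  rw [LinearMap.comp_apply, d2_mk_tmul, LinearMap.sub_apply, hom_mk, hom_mk, one_mul, one_mul, hh, l1_one_tmul]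
  refine Finsupp.sum_congr fun s _ => ?_
  congr 1
  rw [← L1basis_apply, Module.Basis.constr_basis]

/-- a cocycle which is a linear combination of cocycles -/
theorem cls_eq_sum {D : Type*} [Fintype D] (c'' : RelCocycle P) (c : D → RelCocycle P) (α : D → B₀)
    (h : ∀ r : relKer P, c''.φ r = ∑ i, α i * (c i).φ r) : c''.cls = ∑ i, α i • (c i).cls := by
  have e : c''.hom = ∑ i, α i • (c i).hom := by
    apply l2_ext
    intro r
    rw [hom_mk, one_mul, h, LinearMap.sum_apply]
    refine Finset.sum_congr rfl fun i _ => ?_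
    rw [LinearMap.smul_apply, hom_mk, one_mul, smul_eq_mul]
  unfold cls
  rw [e, map_sum]
  refine Finset.sum_congr rfl fun i _ => ?_
  rw [map_smul]

end RelCocycle

end Groth.Agent.Lib.Helper1.AffDef
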