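import Groth.Agent.Lib.Helper1.AffDefPresData
import Groth.Agent.Lib.Helper1.AffDefObsJ
import Groth.Agent.Lib.Helper1.AffDefT2Hom
import Groth.Agent.Lib.Helper1.ArtFunArt

/-!
# The obstruction cocycle of an algebraic deformation along a semismall extension (helper1)
-/

universe u
open CategoryTheory CategoryTheory.Limits AlgebraicGeometry TensorProduct
open ArtFun ArtFun.Art

namespace Groth.Agent.Lib.Helper1.AffDef

variable {k : Type u} [Field k] {B₀ : Type u} [CommRing B₀] [Algebra k B₀] {ι σ : Type u}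

section Family

variable {C' C : Art k k} (p : C' ⟶ C) (hp : IsSemismallExt p)
  {D : Type} [Fintype D] (bJ : Module.Basis D k ↥(RingHom.ker p.toAlgHom))

/-- the ring map underlying `p` -/
abbrev gOf : C' →+* C := p.toAlgHom.toRingHom

/-- the basis as a family of elements of `C'` -/
noncomputable def bOf (i : D) : C' := (bJ i : C')

lemma bOf_mem (i : D) : bOf p bJ i ∈ RingHom.ker (gOf p) := (bJ i).2

lemma hbk (i : D) : gOf p (bOf p bJ i) = 0 := (bJ i).2

omit [Fintype D] in
lemma coe_smul_ker (c : k) (x : ↥(RingHom.ker p.toAlgHom)) :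
    ((c • x : ↥(RingHom.ker p.toAlgHom)) : C') = algebraMap k C' c * (x : C') := by
  rw [← Algebra.smul_def]
  rfl

lemma hspan : ∀ j ∈ RingHom.ker (gOf p), ∃ c : D → C', j = ∑ i, bOf p bJ i * c i := by
  intro j hj
  have hj' : j ∈ RingHom.ker p.toAlgHom := hj
  refine ⟨fun i => algebraMap k C' (bJ.repr ⟨j, hj'⟩ i), ?_⟩
  have h1 := bJ.sum_repr ⟨j, hj'⟩
  have h2 := congrArg (fun x : ↥(RingHom.ker p.toAlgHom) => (x : C')) h1
  simp only [Submodule.coe_sum] at h2
  conv_lhs => rw [← h2]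
  refine Finset.sum_congr rfl fun i _ => ?_
  rw [coe_smul_ker, mul_comm]
  rfl

include hp in
lemma ht : ∀ m ∈ IsLocalRing.maximalIdeal C', ∀ i, m * bOf p bJ i = 0 := by
  intro m hm i
  have : m * bOf p bJ i ∈ IsLocalRing.maximalIdeal C' * RingHom.ker p.toAlgHom :=
    Ideal.mul_mem_mul hm (bJ i).2
  rw [hp.2] at this
  exact this

lemma hb𝔪 (i : D) : bOf p bJ i ∈ IsLocalRing.maximalIdeal C' :=
  Groth.Agent.Lib.Helper1.ArtFunLib.ker_le_maximalIdeal p (bJ i).2

include hp in
lemma hLI : ∀ c : D → C', ∑ i, bOf p bJ i * c i = 0 → ∀ i, c i ∈ IsLocalRing.maximalIdeal C' := by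
  intro c hc
  have h1 : ∀ i, bOf p bJ i * c i = algebraMap k C' (C'.res (c i)) * bOf p bJ i := by
    intro i
    have hm : c i - algebraMap k C' (C'.res (c i)) ∈ IsLocalRing.maximalIdeal C' := by
      rw [Art.mem_maximalIdeal_iff, map_sub, AlgHom.commutes, sub_eq_zero]
      rfl
    have h2 := ht p hp bJ _ hm i
    have : c i = algebraMap k C' (C'.res (c i)) + (c i - algebraMap k C' (C'.res (c i))) := by ring
    rw [mul_comm, this, add_mul, h2, add_zero]
    congr 2
    rw [map_add, map_sub, AlgHom.commutes]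
    simp
  have h3 : ∑ i, C'.res (c i) • bJ i = 0 := by
    apply Subtype.ext
    simp only [Submodule.coe_sum, Submodule.coe_zero]
    rw [← hc]
    refine Finset.sum_congr rfl fun i _ => ?_
    rw [h1, coe_smul_ker]
    rfl
  have h4 := Fintype.linearIndependent_iff.1 bJ.linearIndependent _ h3
  intro i
  rw [Art.mem_maximalIdeal_iff]
  exact h4 i

end Family

section Cocycle

variable (P : Algebra.Presentation k B₀ ι σ) {C' C : Art k k} (p : C' ⟶ C) (hp : IsSemismallExt p)
  {D : Type} [Fintype D] (bJ : Module.Basis D k ↥(RingHom.ker p.toAlgHom))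
  {𝔅 : AlgDef B₀ C} (pd : PresData P 𝔅)
  (F' : σ → MvPolynomial ι C') (hF' : ∀ s, MvPolynomial.map (gOf p) (F' s) = pd.F s)

omit [Algebra k B₀] in
lemma hgm (a : C') : gOf p a ∈ IsLocalRing.maximalIdeal C ↔ a ∈ IsLocalRing.maximalIdeal C' := by
  rw [Art.mem_maximalIdeal_iff, Art.mem_maximalIdeal_iff]
  have : C.res (gOf p a) = C'.res a := Art.res_app p a
  rw [this]

include hp in
omit [Algebra k B₀] in
lemma hmap𝔪 : (IsLocalRing.maximalIdeal C').map (gOf p) = IsLocalRing.maximalIdeal C := by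
  apply le_antisymm
  · rw [Ideal.map_le_iff_le_comap]
    intro a ha
    exact (hgm p a).2 ha
  · intro x hx
    obtain ⟨a, rfl⟩ := hp.1 x
    exact Ideal.mem_map_of_mem _ ((hgm p a).1 hx)

lemma hredG : ∀ w ∈ (IsLocalRing.maximalIdeal C').map (MvPolynomial.C : C' →+* MvPolynomial ι C'),
    PresData.red P C (MvPolynomial.map (gOf p) w) = 0 := by
  intro w hw
  have h1 : (IsLocalRing.maximalIdeal C').map (MvPolynomial.C : C' →+* MvPolynomial ι C') ≤
      RingHom.ker ((PresData.red P C).comp (MvPolynomial.map (gOf p))) := by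
    rw [Ideal.map_le_iff_le_comap]
    intro m hm
    rw [Ideal.mem_comap, RingHom.mem_ker]
    change PresData.red P C (MvPolynomial.map (gOf p) (MvPolynomial.C m)) = 0
    rw [MvPolynomial.map_C, ← RingHom.mem_ker, PresData.ker_red, MvPolynomial.algebraMap_eq]
    exact Ideal.mem_map_of_mem _ ((hgm p m).2 hm)
  exact h1 hw

lemma hε𝔪 : ∀ w ∈ (IsLocalRing.maximalIdeal C').map (MvPolynomial.C : C' →+* MvPolynomial ι C'),
    PresData.ε P C (MvPolynomial.map (gOf p) w) = 0 := by
  intro w hw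
  change PresData.ev₀ P (PresData.red P C _) = 0
  rw [hredG P p w hw, map_zero]

include hp in
lemma hkε : ∀ z, PresData.ε P C z = 0 → ∃ (c : σ →₀ MvPolynomial ι C) (w : MvPolynomial ι C'),
    w ∈ (IsLocalRing.maximalIdeal C').map (MvPolynomial.C : C' →+* MvPolynomial ι C') ∧
      z = Finsupp.linearCombination _ pd.F c + MvPolynomial.map (gOf p) w := by
  intro z hz
  have hG : Function.Surjective (MvPolynomial.map (gOf p) : MvPolynomial ι C' →+* MvPolynomial ι C) :=
    MvPolynomial.map_surjective _ hp.1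
  have h1 : PresData.red P C z ∈ Ideal.span (Set.range (CotT.rel P)) := by
    rw [← PresData.ker_ev₀, RingHom.mem_ker]
    exact hz
  obtain ⟨c₀, hc₀⟩ := (Finsupp.mem_ideal_span_range_iff_exists_finsupp).1 h1
  obtain ⟨c, rfl⟩ := exists_finsupp_lift (PresData.red P C) PresData.red_surjective c₀
  have h2 : PresData.red P C (Finsupp.linearCombination _ pd.F c) = PresData.red P C z := by
    rw [red_linearCombination (PresData.red P C) pd.F (CotT.rel P) pd.hFred, ← hc₀]
    rfl
  have h3 : z - Finsupp.linearCombination _ pd.F c ∈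
      (IsLocalRing.maximalIdeal C).map (algebraMap C (MvPolynomial ι C)) := by
    rw [← PresData.ker_red (P := P), RingHom.mem_ker, map_sub, h2, sub_self]
  have h4 : (IsLocalRing.maximalIdeal C).map (algebraMap C (MvPolynomial ι C)) =
      ((IsLocalRing.maximalIdeal C').map (MvPolynomial.C : C' →+* MvPolynomial ι C')).map
        (MvPolynomial.map (gOf p)) := by
    rw [Ideal.map_map, MvPolynomial.algebraMap_eq, ← hmap𝔪 p hp, Ideal.map_map]
    congr 1
    ext a
    simp
  rw [h4] at h3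
  obtain ⟨w, hw, hwz⟩ := (Ideal.mem_map_iff_of_surjective _ hG).1 h3
  refine ⟨c, w, hw, ?_⟩
  rw [hwz]
  ring

/-- the relation module of the lifted relations -/
abbrev RelC := ↥(LinearMap.ker (Finsupp.linearCombination (MvPolynomial ι C) pd.F))

/-- abbreviation for the obstruction witnesses -/
abbrev OB (r : σ →₀ MvPolynomial ι C) (v : D → B₀) : Prop :=
  ObsB (gOf p) (bOf p bJ) (PresData.ε P C) F' r v

include hp hF' in
lemma obsB_exists (r : RelC P pd) : ∃ v, OB P p bJ F' r.1 v :=
  ObsB.exists (gOf p) hp.1 (bOf p bJ) (hspan p bJ) pd.F (PresData.ε P C) F' hF' r.1 r.2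

include hp hF' in
lemma obsB_unique {r : σ →₀ MvPolynomial ι C} {v v' : D → B₀} (h : OB P p bJ F' r v) (h' : OB P p bJ F' r v') :
    v = v' :=
  ObsB.unique (gOf p) (bOf p bJ) (hspan p bJ) (IsLocalRing.maximalIdeal C') (hLI p hp bJ) pd.F (PresData.ε P C)
    F' hF' pd.ε_F (hε𝔪 P p) h h'

/-- the obstruction cocycle on the relations over `C`, in coordinates -/
noncomputable def PhiC : RelC P pd →+ (D → B₀) :=
  AddMonoidHom.mk' (fun r => (obsB_exists P p hp bJ pd F' hF' r).choose) (fun r₁ r₂ =>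
    obsB_unique P p hp bJ pd F' hF' (obsB_exists P p hp bJ pd F' hF' (r₁ + r₂)).choose_spec
      (ObsB.add (gOf p) (bOf p bJ) (PresData.ε P C) F' (obsB_exists P p hp bJ pd F' hF' r₁).choose_spec
        (obsB_exists P p hp bJ pd F' hF' r₂).choose_spec))

lemma PhiC_spec (r : RelC P pd) : OB P p bJ F' r.1 (PhiC P p hp bJ pd F' hF' r) :=
  (obsB_exists P p hp bJ pd F' hF' r).choose_spec

lemma PhiC_eq (r : RelC P pd) (v : D → B₀) (h : OB P p bJ F' r.1 v) : PhiC P p hp bJ pd F' hF' r = v :=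
  obsB_unique P p hp bJ pd F' hF' (PhiC_spec P p hp bJ pd F' hF' r) h

lemma PhiC_smul (a : MvPolynomial ι C) (r : RelC P pd) :
    PhiC P p hp bJ pd F' hF' (a • r) = fun i => PresData.ε P C a * PhiC P p hp bJ pd F' hF' r i :=
  PhiC_eq P p hp bJ pd F' hF' (a • r) _
    (ObsB.smul (gOf p) hp.1 (bOf p bJ) (PresData.ε P C) F' a (PhiC_spec P p hp bJ pd F' hF' r))

lemma PhiC_triv (a c : σ →₀ MvPolynomial ι C)
    (h : Finsupp.linearCombination _ pd.F a • c - Finsupp.linearCombination _ pd.F c • a ∈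
      LinearMap.ker (Finsupp.linearCombination (MvPolynomial ι C) pd.F)) :
    PhiC P p hp bJ pd F' hF' ⟨_, h⟩ = 0 :=
  PhiC_eq P p hp bJ pd F' hF' ⟨_, h⟩ 0
    (ObsB.triv (gOf p) hp.1 (bOf p bJ) pd.F (PresData.ε P C) F' hF' a c)

lemma PhiC_eq_of_red_eq (r r' : RelC P pd)
    (h : Finsupp.mapRange (PresData.red P C) (map_zero _) (r : σ →₀ MvPolynomial ι C) =
      Finsupp.mapRange (PresData.red P C) (map_zero _) (r' : σ →₀ MvPolynomial ι C)) :
    PhiC P p hp bJ pd F' hF' r = PhiC P p hp bJ pd F' hF' r' := by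
  have h1 : Finsupp.mapRange (PresData.red P C) (map_zero _) ((r - r' : RelC P pd) : σ →₀ MvPolynomial ι C)
      = 0 := by
    change Finsupp.mapRange (PresData.red P C) (map_zero _)
      ((r : σ →₀ MvPolynomial ι C) - (r' : σ →₀ MvPolynomial ι C)) = 0
    rw [Finsupp.mapRange_sub (map_sub _), h, sub_self]
  have h2 := pd.rel_ker _ (r - r').2 h1 (PhiC P p hp bJ pd F' hF') (by
    intro a ha ρ
    rw [PhiC_smul]
    funext i
    have : PresData.ε P C (algebraMap C (MvPolynomial ι C) a) = 0 := by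
      rw [MvPolynomial.algebraMap_eq, PresData.ε_C, (Art.mem_maximalIdeal_iff _ _).1 ha, map_zero]
    rw [this, zero_mul]
    rfl)
  have h3 : PhiC P p hp bJ pd F' hF' (r - r') = 0 := h2
  have h4 : PhiC P p hp bJ pd F' hF' (r - r') =
      PhiC P p hp bJ pd F' hF' r - PhiC P p hp bJ pd F' hF' r' := map_sub _ r r'
  rw [h4, sub_eq_zero] at h3
  exact h3

omit [Fintype D] in
lemma exists_lft (r₀ : CotT.relKer P) : ∃ r : RelC P pd,
    Finsupp.mapRange (PresData.red P C) (map_zero _) (r : σ →₀ MvPolynomial ι C) = (r₀ : CotT.relMod P) := by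
  have h0 : Finsupp.linearCombination _ (CotT.rel P) (r₀ : CotT.relMod P) = 0 := r₀.2
  obtain ⟨r, hr, hr0⟩ := pd.exists_rel_lift _ h0
  exact ⟨⟨r, hr0⟩, hr⟩

/-- a chosen lift of a relation -/
noncomputable def lft (r₀ : CotT.relKer P) : RelC P pd := (exists_lft P pd r₀).choose

omit [Fintype D] in
lemma red_lft (r₀ : CotT.relKer P) :
    Finsupp.mapRange (PresData.red P C) (map_zero _) (lft P pd r₀ : σ →₀ MvPolynomial ι C) =
      (r₀ : CotT.relMod P) := (exists_lft P pd r₀).choose_spec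

/-- the components of the obstruction cocycle on the relation module of `P` -/
noncomputable def cocycle (i : D) : RelCocycle P where
  φ := AddMonoidHom.mk' (fun r₀ => PhiC P p hp bJ pd F' hF' (lft P pd r₀) i) (fun x y => by
    have h1 := PhiC_eq_of_red_eq P p hp bJ pd F' hF' (lft P pd (x + y)) (lft P pd x + lft P pd y) (by
      rw [red_lft]
      change _ = Finsupp.mapRange (PresData.red P C) (map_zero _)
        ((lft P pd x : σ →₀ MvPolynomial ι C) + (lft P pd y : σ →₀ MvPolynomial ι C))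
      rw [Finsupp.mapRange_add (map_add _), red_lft, red_lft]
      rfl)
    rw [h1, map_add]
    rfl)
  semi := fun a₀ r₀ => by
    obtain ⟨a, rfl⟩ := PresData.red_surjective (P := P) (A := C) a₀
    have h1 := PhiC_eq_of_red_eq P p hp bJ pd F' hF' (lft P pd (PresData.red P C a • r₀)) (a • lft P pd r₀) (by
      rw [red_lft]
      change _ = Finsupp.mapRange (PresData.red P C) (map_zero _) (a • (lft P pd r₀ : σ →₀ MvPolynomial ι C))
      rw [mapRange_smul', red_lft]
      rfl)
    change PhiC P p hp bJ pd F' hF' (lft P pd (PresData.red P C a • r₀)) i = _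
    rw [h1, PhiC_smul]
    rfl
  triv := fun a₀ b₀ h => by
    obtain ⟨a, rfl⟩ := exists_finsupp_lift (PresData.red P C) PresData.red_surjective a₀
    obtain ⟨b, rfl⟩ := exists_finsupp_lift (PresData.red P C) PresData.red_surjective b₀
    have hmem : Finsupp.linearCombination _ pd.F a • b - Finsupp.linearCombination _ pd.F b • a ∈
        LinearMap.ker (Finsupp.linearCombination (MvPolynomial ι C) pd.F) := by
      rw [LinearMap.mem_ker, map_sub, map_smul, map_smul, smul_eq_mul, smul_eq_mul, mul_comm, sub_self]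
    have h1 := PhiC_eq_of_red_eq P p hp bJ pd F' hF' (lft P pd ⟨_, h⟩) ⟨_, hmem⟩ (by
      rw [red_lft]
      change _ = Finsupp.mapRange (PresData.red P C) (map_zero _)
        (Finsupp.linearCombination _ pd.F a • b - Finsupp.linearCombination _ pd.F b • a)
      rw [Finsupp.mapRange_sub (map_sub _), mapRange_smul', mapRange_smul',
        red_linearCombination (PresData.red P C) pd.F (CotT.rel P) pd.hFred,
        red_linearCombination (PresData.red P C) pd.F (CotT.rel P) pd.hFred]
      rfl)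
    change PhiC P p hp bJ pd F' hF' (lft P pd ⟨_, h⟩) i = 0
    rw [h1, PhiC_triv]
    rfl

lemma cocycle_apply (i : D) (r : RelC P pd) (r₀ : CotT.relKer P)
    (h : Finsupp.mapRange (PresData.red P C) (map_zero _) (r : σ →₀ MvPolynomial ι C) = (r₀ : CotT.relMod P)) :
    (cocycle P p hp bJ pd F' hF' i).φ r₀ = PhiC P p hp bJ pd F' hF' r i := by
  change PhiC P p hp bJ pd F' hF' (lft P pd r₀) i = _
  rw [PhiC_eq_of_red_eq P p hp bJ pd F' hF' (lft P pd r₀) r (by rw [red_lft, h])]

/-- the obstruction element -/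
noncomputable def obsElt : CotT.T2 P B₀ ⊗[k] ↥(RingHom.ker p.toAlgHom) :=
  ∑ i, (cocycle P p hp bJ pd F' hF' i).cls ⊗ₜ[k] bJ i

lemma obsElt_eq_zero_iff :
    obsElt P p hp bJ pd F' hF' = 0 ↔ ∀ i, (cocycle P p hp bJ pd F' hF' i).cls = 0 := by
  classical
  constructor
  · intro h i
    have h1 : (Finsupp.equivFunOnFinite.symm fun i => (cocycle P p hp bJ pd F' hF' i).cls) = 0 := by
      apply TensorProduct.sum_tmul_basis_right_eq_zero bJ
      rw [Finsupp.sum_fintype _ _ (fun i => by simp)]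
      exact h
    have := congrArg (fun f => f i) h1
    simpa using this
  · intro h
    unfold obsElt
    refine Finset.sum_eq_zero fun i _ => ?_
    rw [h i, TensorProduct.zero_tmul]

/-- the value of the cocycle on a relation over `C`, as a sum -/
lemma sum_red (r : σ →₀ MvPolynomial ι C) (h : σ → B₀) :
    ((Finsupp.mapRange (PresData.red P C) (map_zero _) r).sum fun s a =>
      algebraMap P.toExtension.Ring B₀ a * h s) = r.sum fun s a => PresData.ε P C a * h s := by
  rw [Finsupp.sum_mapRange_index (by intro s; simp)]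
  rfl

include hp in
/-- changing the lifts by elements of the kernel does not change the classes -/
theorem cocycle_cls_change (H : D → σ → MvPolynomial ι C')
    (hF'' : ∀ s, MvPolynomial.map (gOf p) (F' s - ∑ i, MvPolynomial.C (bOf p bJ i) * H i s) = pd.F s) (i : D) :
    (cocycle P p hp bJ pd F' hF' i).cls =
      (cocycle P p hp bJ pd (fun s => F' s - ∑ i, MvPolynomial.C (bOf p bJ i) * H i s) hF'' i).cls := by
  apply RelCocycle.cls_eq_of_sub _ _ (fun s => PresData.ε P C (MvPolynomial.map (gOf p) (H i s)))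
  intro r₀
  have hr := red_lft P pd r₀
  rw [cocycle_apply P p hp bJ pd F' hF' i (lft P pd r₀) r₀ hr,
    cocycle_apply P p hp bJ pd _ hF'' i (lft P pd r₀) r₀ hr]
  have h1 := ObsB.change (gOf p) (bOf p bJ) (PresData.ε P C) F' H (PhiC_spec P p hp bJ pd F' hF' (lft P pd r₀))
  have h2 := PhiC_eq P p hp bJ pd _ hF'' (lft P pd r₀) _ h1
  rw [h2, ← hr, sum_red]
  ring

include hp in
/-- the classes do not depend on the lifts of the relations -/
theorem cocycle_cls_indep (F'₂ : σ → MvPolynomial ι C') (hF'₂ : ∀ s, MvPolynomial.map (gOf p) (F'₂ s) = pd.F s)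
    (i : D) : (cocycle P p hp bJ pd F' hF' i).cls = (cocycle P p hp bJ pd F'₂ hF'₂ i).cls := by
  have h1 : ∀ s, ∃ y : D → MvPolynomial ι C', F' s - F'₂ s = ∑ i, MvPolynomial.C (bOf p bJ i) * y i := by
    intro s
    apply exists_eq_sum_C_mul_of_map_eq_zero (gOf p) (bOf p bJ) (hspan p bJ)
    rw [map_sub, hF', hF'₂, sub_self]
  choose H hH using h1
  have e : F'₂ = fun s => F' s - ∑ i, MvPolynomial.C (bOf p bJ i) * H s i := by
    funext s
    rw [← hH]
    ring
  subst e
  exact cocycle_cls_change P p hp bJ pd F' hF' (fun i s => H s i) hF'₂ i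

end Cocycle

section MapQ

variable (P : Algebra.Presentation k B₀ ι σ) {C' C'' C : Art k k} (p : C' ⟶ C) (hp : IsSemismallExt p)
  (p'' : C'' ⟶ C) (hp'' : IsSemismallExt p'') (q : C' ⟶ C'') (hq : q ≫ p'' = p)
  {D D'' : Type} [Fintype D] [Fintype D''] (bJ : Module.Basis D k ↥(RingHom.ker p.toAlgHom))
  (bJ'' : Module.Basis D'' k ↥(RingHom.ker p''.toAlgHom))
  {𝔅 : AlgDef B₀ C} (pd : PresData P 𝔅)
  (F' : σ → MvPolynomial ι C') (hF' : ∀ s, MvPolynomial.map (gOf p) (F' s) = pd.F s)

include hq in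
omit [Algebra k B₀] in
lemma comp_apply_q (x : C') : p''.toAlgHom (q.toAlgHom x) = p.toAlgHom x := by
  rw [← hq]
  rfl

/-- the induced map on kernels -/
noncomputable def kerMap : ↥(RingHom.ker p.toAlgHom) →ₗ[k] ↥(RingHom.ker p''.toAlgHom) where
  toFun j := ⟨q.toAlgHom (j : C'), by
    rw [RingHom.mem_ker, comp_apply_q p p'' q hq]
    exact j.2⟩
  map_add' x y := Subtype.ext (map_add q.toAlgHom _ _)
  map_smul' c x := Subtype.ext (map_smul q.toAlgHom c (x : C'))

omit [Algebra k B₀] in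
lemma kerMap_coe (j : ↥(RingHom.ker p.toAlgHom)) :
    ((kerMap p p'' q hq j : ↥(RingHom.ker p''.toAlgHom)) : C'') = q.toAlgHom (j : C') := rfl

include hq hF' in
lemma hF'q (s : σ) : MvPolynomial.map (gOf p'') (MvPolynomial.map (gOf q) (F' s)) = pd.F s := by
  rw [MvPolynomial.map_map, ← hF' s]
  congr 2
  ext x
  exact comp_apply_q p p'' q hq x

theorem cocycle_cls_map (j : D'') :
    (cocycle P p'' hp'' bJ'' pd (fun s => MvPolynomial.map (gOf q) (F' s)) (hF'q P p p'' q hq pd F' hF') j).cls =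
      ∑ i, bJ''.repr (kerMap p p'' q hq (bJ i)) j • (cocycle P p hp bJ pd F' hF' i).cls := by
  have ha : ∀ i, gOf q (bOf p bJ i) =
      ∑ j, bOf p'' bJ'' j * algebraMap k C'' (bJ''.repr (kerMap p p'' q hq (bJ i)) j) := by
    intro i
    have h1 := bJ''.sum_repr (kerMap p p'' q hq (bJ i))
    have h2 := congrArg (fun x : ↥(RingHom.ker p''.toAlgHom) => (x : C'')) h1
    simp only [Submodule.coe_sum] at h2
    change q.toAlgHom (bJ i : C') = _
    rw [← kerMap_coe p p'' q hq, ← h2]
    refine Finset.sum_congr rfl fun j _ => ?_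
    rw [coe_smul_ker, mul_comm]
    rfl
  have hε : ∀ c : k, PresData.ε P C (MvPolynomial.C (gOf p'' (algebraMap k C'' c))) = algebraMap k B₀ c := by
    intro c
    rw [PresData.ε_C]
    congr 1
    change C.res (p''.toAlgHom (algebraMap k C'' c)) = c
    rw [AlgHom.commutes, AlgHom.commutes]
    rfl
  have hsum : (∑ i, bJ''.repr (kerMap p p'' q hq (bJ i)) j • (cocycle P p hp bJ pd F' hF' i).cls) =
      ∑ i, algebraMap k B₀ (bJ''.repr (kerMap p p'' q hq (bJ i)) j) • (cocycle P p hp bJ pd F' hF' i).cls := by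
    refine Finset.sum_congr rfl fun i _ => ?_
    rw [algebraMap_smul]
  rw [hsum]
  apply RelCocycle.cls_eq_sum
  intro r₀
  have hr := red_lft P pd r₀
  rw [cocycle_apply P p'' hp'' bJ'' pd _ _ j (lft P pd r₀) r₀ hr]
  have h1 := ObsB.map (gOf p) (gOf p'') (gOf q) (fun c => comp_apply_q p p'' q hq c) (bOf p bJ) (bOf p'' bJ'')
    (fun j i => algebraMap k C'' (bJ''.repr (kerMap p p'' q hq (bJ i)) j)) ha (PresData.ε P C) F'
    (PhiC_spec P p hp bJ pd F' hF' (lft P pd r₀))
  have h2 := PhiC_eq P p'' hp'' bJ'' pd _ (hF'q P p p'' q hq pd F' hF') (lft P pd r₀) _ h1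
  rw [h2]
  refine Finset.sum_congr rfl fun i _ => ?_
  rw [hε, cocycle_apply P p hp bJ pd F' hF' i (lft P pd r₀) r₀ hr]

/-- functoriality of the obstruction element -/
theorem obsElt_map (F'' : σ → MvPolynomial ι C'') (hF'' : ∀ s, MvPolynomial.map (gOf p'') (F'' s) = pd.F s) :
    obsElt P p'' hp'' bJ'' pd F'' hF'' =
      LinearMap.lTensor (CotT.T2 P B₀) (kerMap p p'' q hq) (obsElt P p hp bJ pd F' hF') := by
  unfold obsElt
  rw [map_sum]
  have h1 : ∀ j, (cocycle P p'' hp'' bJ'' pd F'' hF'' j).cls =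
      ∑ i, bJ''.repr (kerMap p p'' q hq (bJ i)) j • (cocycle P p hp bJ pd F' hF' i).cls := by
    intro j
    rw [cocycle_cls_indep P p'' hp'' bJ'' pd F'' hF'' _ (hF'q P p p'' q hq pd F' hF') j]
    exact cocycle_cls_map P p hp p'' hp'' q hq bJ bJ'' pd F' hF' j
  simp only [h1, LinearMap.lTensor_tmul, TensorProduct.sum_tmul]
  rw [Finset.sum_comm]
  refine Finset.sum_congr rfl fun i _ => ?_
  conv_rhs => rw [← bJ''.sum_repr (kerMap p p'' q hq (bJ i)), TensorProduct.tmul_sum]
  refine Finset.sum_congr rfl fun j _ => ?_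
  rw [TensorProduct.smul_tmul]

end MapQ

end Groth.Agent.Lib.Helper1.AffDef
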