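import Groth.Agent.Lib.Helper1.AffDefObs

/-!
# Lifting relations along a small extension (helper1)

`exists_lift_relations`: under `ET2`, the relations `F_s` of a flat deformation lift along a small extension so that
`t y ∈ (F'') ⇒ y ∈ (F'') + 𝔪' R'`.
-/

universe u
open TensorProduct

namespace Groth.Agent.Lib.Helper1.AffDef

lemma ringHom_linearCombination_eq_zero {R S σ : Type*} [CommRing R] [CommRing S] (ε : R →+* S) (F : σ → R)
    (h : ∀ s, ε (F s) = 0) (c : σ →₀ R) : ε (Finsupp.linearCombination R F c) = 0 := by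
  classical
  induction c using Finsupp.induction_linear with
  | zero => simp
  | add x y hx hy => rw [map_add, map_add, hx, hy, add_zero]
  | single s a => rw [Finsupp.linearCombination_single, smul_eq_mul, map_mul, h, mul_zero]

lemma ringHom_linearCombination {R S σ : Type*} [CommRing R] [CommRing S] (ε : R →+* S) (x : σ → R)
    (c : σ →₀ R) : ε (Finsupp.linearCombination R x c) = c.sum fun s a => ε a * ε (x s) := by
  classical
  induction c using Finsupp.induction_linear with
  | zero => simp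
  | add a b ha hb =>
    rw [map_add, map_add, ha, hb, Finsupp.sum_add_index']
    · intro s; simp
    · intro s a b; rw [map_add, add_mul]
  | single s a =>
    rw [Finsupp.linearCombination_single, smul_eq_mul, map_mul, Finsupp.sum_single_index (by simp)]

lemma linearCombination_sub_mul {R σ : Type*} [CommRing R] (F' x' : σ → R) (T : R) (c : σ →₀ R) :
    Finsupp.linearCombination R (fun s => F' s - T * x' s) c =
      Finsupp.linearCombination R F' c - T * Finsupp.linearCombination R x' c := by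
  classical
  induction c using Finsupp.induction_linear with
  | zero => simp
  | add a b ha hb => rw [map_add, map_add, map_add, ha, hb]; ring
  | single s a => simp only [Finsupp.linearCombination_single, smul_eq_mul]; ring

section Obs

variable {C' C : Type*} [CommRing C'] [CommRing C] (g : C' →+* C) (hg : Function.Surjective g)
  (t : C') (hkg : RingHom.ker g = Ideal.span {t}) (𝔪' : Ideal C') (ht : ∀ m ∈ 𝔪', m * t = 0)
  (hann : ∀ a : C', a * t = 0 → a ∈ 𝔪') (htm : t ∈ 𝔪')
  {ι : Type*}

include hkg in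
lemma exists_eq_C_mul_of_map_eq_zero (x : MvPolynomial ι C') (hx : MvPolynomial.map g x = 0) :
    ∃ y, x = MvPolynomial.C t * y := by
  have h1 : x ∈ RingHom.ker (MvPolynomial.map g : MvPolynomial ι C' →+* MvPolynomial ι C) := hx
  rw [MvPolynomial.ker_map, hkg, Ideal.map_span, Set.image_singleton, Ideal.mem_span_singleton'] at h1
  obtain ⟨y, hy⟩ := h1
  exact ⟨y, by rw [← hy, mul_comm]⟩

include hann in
lemma mem_map_C_of_C_mul_eq_zero (x : MvPolynomial ι C') (hx : MvPolynomial.C t * x = 0) :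
    x ∈ 𝔪'.map (MvPolynomial.C : C' →+* MvPolynomial ι C') := by
  rw [MvPolynomial.mem_map_C_iff]
  intro m
  apply hann
  have := congrArg (MvPolynomial.coeff m) hx
  rw [MvPolynomial.coeff_C_mul, MvPolynomial.coeff_zero] at this
  rw [mul_comm]
  exact this

include ht in
lemma C_mul_eq_zero_of_mem_map_C (x : MvPolynomial ι C')
    (hx : x ∈ 𝔪'.map (MvPolynomial.C : C' →+* MvPolynomial ι C')) : MvPolynomial.C t * x = 0 := by
  rw [MvPolynomial.mem_map_C_iff] at hx
  ext m
  rw [MvPolynomial.coeff_C_mul, MvPolynomial.coeff_zero, mul_comm]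
  exact ht _ (hx m)

include hkg in
lemma exists_eq_smul_of_mapRange_eq_zero {σ : Type*} (c : σ →₀ MvPolynomial ι C')
    (hc : Finsupp.mapRange (MvPolynomial.map g) (map_zero _) c = 0) :
    ∃ u : σ →₀ MvPolynomial ι C', c = (MvPolynomial.C t : MvPolynomial ι C') • u := by
  classical
  have h1 : ∀ s, ∃ y, c s = MvPolynomial.C t * y := by
    intro s
    apply exists_eq_C_mul_of_map_eq_zero g t hkg
    have := congrArg (fun d => d s) hc
    simpa using this
  choose y hy using h1
  refine ⟨∑ s ∈ c.support, Finsupp.single s (y s), ?_⟩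
  rw [Finset.smul_sum]
  conv_lhs => rw [← Finsupp.sum_single c]
  refine Finset.sum_congr rfl fun s _ => ?_
  rw [Finsupp.smul_single, smul_eq_mul, ← hy]

variable {σ : Type*} (F : σ → MvPolynomial ι C) {B₀ : Type*} [CommRing B₀] (ε : MvPolynomial ι C →+* B₀)
  (F' : σ → MvPolynomial ι C') (hF' : ∀ s, MvPolynomial.map g (F' s) = F s)

/-- Witnesses for the value of the obstruction map on a relation. -/
def ObsW (r : σ →₀ MvPolynomial ι C) (v : B₀) : Prop :=
  ∃ (r' : σ →₀ MvPolynomial ι C') (x : MvPolynomial ι C'),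
    Finsupp.mapRange (MvPolynomial.map g) (map_zero _) r' = r ∧
    Finsupp.linearCombination _ F' r' = MvPolynomial.C t * x ∧ ε (MvPolynomial.map g x) = v

include hg hkg hF' in
lemma ObsW.exists (r : σ →₀ MvPolynomial ι C) (hr : Finsupp.linearCombination _ F r = 0) :
    ∃ v, ObsW g t ε F' r v := by
  obtain ⟨r', rfl⟩ := exists_finsupp_lift (MvPolynomial.map g) (MvPolynomial.map_surjective g hg) r
  have h1 : MvPolynomial.map g (Finsupp.linearCombination _ F' r') = 0 := by
    rw [red_linearCombination (MvPolynomial.map g) F' F hF', hr]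
  obtain ⟨x, hx⟩ := exists_eq_C_mul_of_map_eq_zero g t hkg _ h1
  exact ⟨_, r', x, rfl, hx, rfl⟩

variable (hεF : ∀ s, ε (F s) = 0)
  (hε𝔪 : ∀ w ∈ 𝔪'.map (MvPolynomial.C : C' →+* MvPolynomial ι C'), ε (MvPolynomial.map g w) = 0)

include hkg hann hεF hε𝔪 hF' in
lemma ObsW.unique {r : σ →₀ MvPolynomial ι C} {v v' : B₀} (h : ObsW g t ε F' r v) (h' : ObsW g t ε F' r v') :
    v = v' := by
  obtain ⟨r₁, x₁, hr₁, hx₁, rfl⟩ := h
  obtain ⟨r₂, x₂, hr₂, hx₂, rfl⟩ := h'
  have h0 : Finsupp.mapRange (MvPolynomial.map g) (map_zero _) (r₁ - r₂) = 0 := by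
    rw [Finsupp.mapRange_sub (map_sub _), hr₁, hr₂, sub_self]
  obtain ⟨u, hu⟩ := exists_eq_smul_of_mapRange_eq_zero g t hkg _ h0
  have h1 : MvPolynomial.C t * (x₁ - x₂ - Finsupp.linearCombination _ F' u) = 0 := by
    rw [mul_sub, mul_sub, ← hx₁, ← hx₂, ← map_sub, hu, map_smul, smul_eq_mul, sub_self]
  have h2 := mem_map_C_of_C_mul_eq_zero t 𝔪' hann _ h1
  have h3 := hε𝔪 _ h2
  rw [map_sub, map_sub, map_sub, map_sub, red_linearCombination (MvPolynomial.map g) F' F hF',
    ringHom_linearCombination_eq_zero ε F hεF, sub_zero, sub_eq_zero] at h3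
  exact h3

omit hF' in
lemma ObsW.add {r₁ r₂ : σ →₀ MvPolynomial ι C} {v₁ v₂ : B₀} (h₁ : ObsW g t ε F' r₁ v₁)
    (h₂ : ObsW g t ε F' r₂ v₂) : ObsW g t ε F' (r₁ + r₂) (v₁ + v₂) := by
  obtain ⟨r₁', x₁, rfl, hx₁, rfl⟩ := h₁
  obtain ⟨r₂', x₂, rfl, hx₂, rfl⟩ := h₂
  refine ⟨r₁' + r₂', x₁ + x₂, Finsupp.mapRange_add (map_add _) _ _, ?_, ?_⟩
  · rw [map_add, hx₁, hx₂, mul_add]
  · rw [map_add, map_add]

include hg in
lemma ObsW.smul (a : MvPolynomial ι C) {r : σ →₀ MvPolynomial ι C} {v : B₀} (h : ObsW g t ε F' r v) :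
    ObsW g t ε F' (a • r) (ε a * v) := by
  obtain ⟨r', x, rfl, hx, rfl⟩ := h
  obtain ⟨a', rfl⟩ := MvPolynomial.map_surjective g hg a
  refine ⟨a' • r', a' * x, mapRange_smul' _ _ _, ?_, ?_⟩
  · rw [map_smul, smul_eq_mul, hx]; ring
  · rw [map_mul, map_mul]

include hg hF' in
lemma ObsW.triv (a b : σ →₀ MvPolynomial ι C) :
    ObsW g t ε F' (Finsupp.linearCombination _ F a • b - Finsupp.linearCombination _ F b • a) 0 := by
  obtain ⟨a', rfl⟩ := exists_finsupp_lift (MvPolynomial.map g) (MvPolynomial.map_surjective g hg) a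
  obtain ⟨b', rfl⟩ := exists_finsupp_lift (MvPolynomial.map g) (MvPolynomial.map_surjective g hg) b
  refine ⟨Finsupp.linearCombination _ F' a' • b' - Finsupp.linearCombination _ F' b' • a', 0, ?_, ?_, ?_⟩
  · rw [Finsupp.mapRange_sub (map_sub _), mapRange_smul', mapRange_smul',
      red_linearCombination _ F' F hF', red_linearCombination _ F' F hF']
  · rw [map_sub, map_smul, map_smul, smul_eq_mul, smul_eq_mul, mul_comm, sub_self, mul_zero]
  · rw [map_zero, map_zero]

variable (hε : Function.Surjective ε)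
  (hkε : ∀ z, ε z = 0 → ∃ (c : σ →₀ MvPolynomial ι C) (w : MvPolynomial ι C'),
     w ∈ 𝔪'.map (MvPolynomial.C : C' →+* MvPolynomial ι C') ∧
       z = Finsupp.linearCombination _ F c + MvPolynomial.map g w)
  (hET : ET2 F ε)

omit F' hF' in
include hg hkg hann htm hε hεF hε𝔪 hkε hET in
/-- Under `ET2`, relations lift along a small extension with the flatness property. -/
theorem exists_lift_relations :
    ∃ F'' : σ → MvPolynomial ι C', (∀ s, MvPolynomial.map g (F'' s) = F s) ∧
      ∀ y : MvPolynomial ι C', MvPolynomial.C t * y ∈ Ideal.span (Set.range F'') →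
        y ∈ Ideal.span (Set.range F'') ⊔ 𝔪'.map (MvPolynomial.C : C' →+* MvPolynomial ι C') := by
  classical
  have hG : Function.Surjective (MvPolynomial.map g : MvPolynomial ι C' →+* MvPolynomial ι C) :=
    MvPolynomial.map_surjective g hg
  choose F' hF' using fun s => hG (F s)
  -- the obstruction
  have hex := fun r : ↥(LinearMap.ker (Finsupp.linearCombination _ F)) =>
    ObsW.exists g hg t hkg F ε F' hF' r.1 r.2
  choose o ho using hex
  have huniq : ∀ {r : σ →₀ MvPolynomial ι C} {v v' : B₀}, ObsW g t ε F' r v → ObsW g t ε F' r v' → v = v' :=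
    fun h h' => ObsW.unique g t hkg 𝔪' hann F ε F' hF' hεF hε𝔪 h h'
  let φ : ↥(LinearMap.ker (Finsupp.linearCombination _ F)) →+ B₀ :=
    AddMonoidHom.mk' o (fun r₁ r₂ => huniq (ho (r₁ + r₂)) (ObsW.add g t ε F' (ho r₁) (ho r₂)))
  have hsemi : ∀ (a : MvPolynomial ι C) (r : ↥(LinearMap.ker (Finsupp.linearCombination _ F))),
      φ (a • r) = ε a * φ r := fun a r => huniq (ho (a • r)) (ObsW.smul g hg t ε F' a (ho r))
  have htriv : ∀ (a b : σ →₀ MvPolynomial ι C)
      (h : Finsupp.linearCombination _ F a • b - Finsupp.linearCombination _ F b • a ∈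
        LinearMap.ker (Finsupp.linearCombination _ F)), φ ⟨_, h⟩ = 0 :=
    fun a b h => huniq (ho ⟨_, h⟩) (ObsW.triv g hg t F ε F' hF' a b)
  obtain ⟨h, hh⟩ := hET φ hsemi htriv
  choose x hx using fun s => hε (h s)
  choose x' hx' using fun s => hG (x s)
  have hgt : g t = 0 := by
    rw [← RingHom.mem_ker, hkg]
    exact Ideal.mem_span_singleton_self t
  have hGT : MvPolynomial.map g (MvPolynomial.C t : MvPolynomial ι C') = 0 := by
    rw [MvPolynomial.map_C, hgt, map_zero]
  have hF'' : ∀ s, MvPolynomial.map g (F' s - MvPolynomial.C t * x' s) = F s := by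
    intro s
    rw [map_sub, map_mul, hGT, zero_mul, sub_zero, hF']
  refine ⟨fun s => F' s - MvPolynomial.C t * x' s, hF'', fun y hy => ?_⟩
  rw [Finsupp.mem_ideal_span_range_iff_exists_finsupp] at hy
  obtain ⟨c', hc'⟩ := hy
  have hc'' : Finsupp.linearCombination _ (fun s => F' s - MvPolynomial.C t * x' s) c' =
      MvPolynomial.C t * y := hc'
  rw [linearCombination_sub_mul] at hc''
  have e1 : Finsupp.linearCombination _ F' c' =
      MvPolynomial.C t * (y + Finsupp.linearCombination _ x' c') := by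
    rw [mul_add, ← hc'']
    ring
  have hr : Finsupp.linearCombination _ F (Finsupp.mapRange (MvPolynomial.map g) (map_zero _) c') = 0 := by
    rw [← red_linearCombination (MvPolynomial.map g) F' F hF', e1, map_mul, hGT, zero_mul]
  have hw : ObsW g t ε F' (Finsupp.mapRange (MvPolynomial.map g) (map_zero _) c')
      (ε (MvPolynomial.map g (y + Finsupp.linearCombination _ x' c'))) := ⟨c', _, rfl, e1, rfl⟩
  have h1 : φ ⟨_, hr⟩ = ε (MvPolynomial.map g (y + Finsupp.linearCombination _ x' c')) :=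
    huniq (ho ⟨_, hr⟩) hw
  have h2 := hh ⟨_, hr⟩
  have h3 : ε (MvPolynomial.map g (Finsupp.linearCombination _ x' c')) =
      (Finsupp.mapRange (MvPolynomial.map g) (map_zero _) c').sum fun s c => ε c * h s := by
    rw [red_linearCombination (MvPolynomial.map g) x' x hx', ringHom_linearCombination]
    refine Finsupp.sum_congr fun s _ => ?_
    rw [hx]
  have h4 : ε (MvPolynomial.map g y) = 0 := by
    rw [h1, map_add, map_add, h3] at h2
    exact add_eq_right.1 h2
  obtain ⟨c, w, hw, hz⟩ := hkε _ h4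
  obtain ⟨c'', rfl⟩ := exists_finsupp_lift (MvPolynomial.map g) hG c
  have h5 : MvPolynomial.map g
      (y - Finsupp.linearCombination _ (fun s => F' s - MvPolynomial.C t * x' s) c'' - w) = 0 := by
    rw [map_sub, map_sub, hz, red_linearCombination (MvPolynomial.map g) _ F hF'']
    ring
  obtain ⟨u, hu⟩ := exists_eq_C_mul_of_map_eq_zero g t hkg _ h5
  have hy : y = Finsupp.linearCombination _ (fun s => F' s - MvPolynomial.C t * x' s) c'' +
      (w + MvPolynomial.C t * u) := by
    rw [← hu]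
    ring
  rw [hy]
  refine Ideal.add_mem _ (Ideal.mem_sup_left ?_) (Ideal.mem_sup_right (Ideal.add_mem _ hw ?_))
  · rw [Finsupp.mem_ideal_span_range_iff_exists_finsupp]
    exact ⟨c'', rfl⟩
  · exact Ideal.mul_mem_right _ _ (Ideal.mem_map_of_mem _ htm)

end Obs

end Groth.Agent.Lib.Helper1.AffDef
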