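import Groth.Agent.Lib.Helper1.AffDefObsArt

/-!
# The obstruction classes vanish iff the deformation lifts (helper1)
-/

universe u
open CategoryTheory CategoryTheory.Limits AlgebraicGeometry TensorProduct
open ArtFun ArtFun.Art

namespace Groth.Agent.Lib.Helper1.AffDef

variable {k : Type u} [Field k] {B₀ : Type u} [CommRing B₀] [Algebra k B₀] {ι σ : Type u}

section Lift

variable (P : Algebra.Presentation k B₀ ι σ) {C' C : Art k k} (p : C' ⟶ C) (hp : IsSemismallExt p)
  {D : Type} [Fintype D] (bJ : Module.Basis D k ↥(RingHom.ker p.toAlgHom))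
  {𝔅 : AlgDef B₀ C} (pd : PresData P 𝔅)
  (F' : σ → MvPolynomial ι C') (hF' : ∀ s, MvPolynomial.map (gOf p) (F' s) = pd.F s)

/-- if the obstruction classes vanish the deformation lifts -/
theorem exists_lift_of_cls_eq_zero (h0 : ∀ i, (cocycle P p hp bJ pd F' hF' i).cls = 0) :
    ∃ (𝔅' : AlgDef B₀ C') (θ : 𝔅'.B →+* 𝔅.B),
      (∀ a, θ (algebraMap C' 𝔅'.B a) = algebraMap C 𝔅.B (p a)) ∧ (∀ b, 𝔅.π (θ b) = 𝔅'.π b) := by
  classical
  have hg : Function.Surjective (gOf p) := hp.1
  have hG : Function.Surjective (MvPolynomial.map (gOf p) : MvPolynomial ι C' →+* MvPolynomial ι C) :=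
    MvPolynomial.map_surjective _ hg
  have h1 := fun i => (RelCocycle.cls_eq_zero_iff _).1 (h0 i)
  choose h hh using h1
  have h2 : ∀ i s, ∃ x : MvPolynomial ι C', PresData.ε P C (MvPolynomial.map (gOf p) x) = h i s := by
    intro i s
    obtain ⟨z, hz⟩ := PresData.ε_surjective (P := P) (A := C) (h i s)
    obtain ⟨x, rfl⟩ := hG z
    exact ⟨x, hz⟩
  choose H hH using h2
  let F'' : σ → MvPolynomial ι C' := fun s => F' s - ∑ i, MvPolynomial.C (bOf p bJ i) * H i s
  have hF'' : ∀ s, MvPolynomial.map (gOf p) (F'' s) = pd.F s := by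
    intro s
    change MvPolynomial.map (gOf p) (F' s - ∑ i, MvPolynomial.C (bOf p bJ i) * H i s) = _
    rw [map_sub, map_sum, hF']
    rw [Finset.sum_eq_zero (fun i _ => by rw [map_mul, map_C_b (gOf p) (bOf p bJ) (hbk p bJ), zero_mul]), sub_zero]
  -- every relation lifts exactly
  have hrel : ∀ r : σ →₀ MvPolynomial ι C, Finsupp.linearCombination _ pd.F r = 0 →
      ∃ r' : σ →₀ MvPolynomial ι C', Finsupp.mapRange (MvPolynomial.map (gOf p)) (map_zero _) r' = r ∧
        Finsupp.linearCombination _ F'' r' = 0 := by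
    intro r hr
    have hr₀ : Finsupp.mapRange (PresData.red P C) (map_zero _) r ∈ CotT.relKer P := by
      change Finsupp.linearCombination _ (CotT.rel P) _ = 0
      rw [← red_linearCombination (PresData.red P C) pd.F (CotT.rel P) pd.hFred, hr, map_zero]
    have h3 := ObsB.change (gOf p) (bOf p bJ) (PresData.ε P C) F' H (PhiC_spec P p hp bJ pd F' hF' ⟨r, hr⟩)
    have h4 : (fun i => PhiC P p hp bJ pd F' hF' ⟨r, hr⟩ i -
        r.sum fun s a => PresData.ε P C a * PresData.ε P C (MvPolynomial.map (gOf p) (H i s))) = 0 := by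
      funext i
      rw [← cocycle_apply P p hp bJ pd F' hF' i ⟨r, hr⟩ ⟨_, hr₀⟩ rfl, hh, sum_red]
      simp only [hH, Pi.zero_apply]
      exact sub_self _
    rw [h4] at h3
    exact ObsB.exists_exact_lift (gOf p) hg (bOf p bJ) (hspan p bJ) (hbk p bJ) (IsLocalRing.maximalIdeal C')
      (ht p hp bJ) (hb𝔪 p bJ) pd.F (PresData.ε P C) F'' hF'' (hkε P p hp pd) h3
  -- the lifted algebra
  have hθker : ∀ x ∈ Ideal.span (Set.range F''),
      (pd.ev.toRingHom.comp (MvPolynomial.map (gOf p))) x = 0 := by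
    intro x hx
    have h1 : Ideal.span (Set.range F'') ≤
        RingHom.ker (pd.ev.toRingHom.comp (MvPolynomial.map (gOf p))) := by
      rw [Ideal.span_le]
      rintro _ ⟨s, rfl⟩
      change pd.ev (MvPolynomial.map (gOf p) (F'' s)) = 0
      rw [hF'']
      exact pd.hFev s
    exact h1 hx
  let θ : MvPolynomial ι C' ⧸ Ideal.span (Set.range F'') →+* 𝔅.B :=
    Ideal.Quotient.lift (Ideal.span (Set.range F'')) (pd.ev.toRingHom.comp (MvPolynomial.map (gOf p))) hθker
  have hθmk : ∀ x, θ (Ideal.Quotient.mk _ x) = pd.ev (MvPolynomial.map (gOf p) x) := fun x => rfl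
  have hθ : Function.Surjective θ :=
    Ideal.Quotient.lift_surjective_of_surjective _ _ (pd.ev_surjective.comp hG)
  have halg : ∀ a : C', algebraMap C' (MvPolynomial ι C' ⧸ Ideal.span (Set.range F'')) a =
      Ideal.Quotient.mk _ (MvPolynomial.C a) := fun a => rfl
  have hθg : ∀ a : C', θ (algebraMap C' (MvPolynomial ι C' ⧸ Ideal.span (Set.range F'')) a) =
      algebraMap C 𝔅.B (gOf p a) := by
    intro a
    rw [halg, hθmk, MvPolynomial.map_C]
    exact MvPolynomial.aeval_C pd.y _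
  have hker : RingHom.ker θ ≤ (RingHom.ker (gOf p)).map
      (algebraMap C' (MvPolynomial ι C' ⧸ Ideal.span (Set.range F''))) := by
    intro b hb
    obtain ⟨x, rfl⟩ := Ideal.Quotient.mk_surjective b
    rw [RingHom.mem_ker, hθmk] at hb
    have h1 : MvPolynomial.map (gOf p) x ∈ Ideal.span (Set.range pd.F) := by
      rw [← pd.ker_ev]
      exact hb
    obtain ⟨c, hc⟩ := (Finsupp.mem_ideal_span_range_iff_exists_finsupp).1 h1
    obtain ⟨c', rfl⟩ := exists_finsupp_lift _ hG c
    have h2 : MvPolynomial.map (gOf p) (x - Finsupp.linearCombination _ F'' c') = 0 := by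
      rw [map_sub, red_linearCombination _ F'' pd.F hF'', sub_eq_zero, ← hc]
      rfl
    obtain ⟨u, hu⟩ := exists_eq_sum_C_mul_of_map_eq_zero (gOf p) (bOf p bJ) (hspan p bJ) _ h2
    have h3 : Finsupp.linearCombination _ F'' c' ∈ Ideal.span (Set.range F'') := by
      rw [Finsupp.mem_ideal_span_range_iff_exists_finsupp]
      exact ⟨c', rfl⟩
    have h4 : Ideal.Quotient.mk (Ideal.span (Set.range F'')) x =
        ∑ i, algebraMap C' (MvPolynomial ι C' ⧸ Ideal.span (Set.range F'')) (bOf p bJ i) *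
          Ideal.Quotient.mk _ (u i) := by
      simp only [halg, ← map_mul, ← map_sum]
      rw [← hu, map_sub, Ideal.Quotient.eq_zero_iff_mem.2 h3, sub_zero]
    rw [h4]
    refine Ideal.sum_mem _ fun i _ => Ideal.mul_mem_right _ _ (Ideal.mem_map_of_mem _ ?_)
    exact bOf_mem p bJ i
  have hmapmk : ((IsLocalRing.maximalIdeal C').map (MvPolynomial.C : C' →+* MvPolynomial ι C')).map
      (Ideal.Quotient.mk (Ideal.span (Set.range F''))) =
      (IsLocalRing.maximalIdeal C').map (algebraMap C' (MvPolynomial ι C' ⧸ Ideal.span (Set.range F''))) := by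
    rw [Ideal.map_map]
    rfl
  have hflat : Module.Flat C' (MvPolynomial ι C' ⧸ Ideal.span (Set.range F'')) := by
    refine flat_of_semismall (gOf p) hg θ hθ hθg hker (bOf p bJ) (hspan p bJ) (hbk p bJ)
      (IsLocalRing.maximalIdeal C') (ht p hp bJ) (hb𝔪 p bJ) ?_
    intro y hy i
    choose x hx using fun i => Ideal.Quotient.mk_surjective (y i)
    have h5 : ∑ i, MvPolynomial.C (bOf p bJ i) * x i ∈ Ideal.span (Set.range F'') := by
      rw [← Ideal.Quotient.eq_zero_iff_mem, map_sum, ← hy]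
      refine Finset.sum_congr rfl fun i _ => ?_
      rw [map_mul, hx, Algebra.smul_def, halg]
    have h6 := mem_sup_of_sum_C_mul_mem (gOf p) (bOf p bJ) (hspan p bJ) (hbk p bJ) (IsLocalRing.maximalIdeal C')
      (hLI p hp bJ) pd.F F'' hF'' hrel x h5 i
    obtain ⟨a, ha, m, hm, hxe⟩ := Submodule.mem_sup.1 h6
    rw [← hx i, ← hxe, Ideal.smul_top_eq_map, Submodule.restrictScalars_mem, ← hmapmk, map_add,
      Ideal.Quotient.eq_zero_iff_mem.2 ha, zero_add]
    exact Ideal.mem_map_of_mem _ hm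
  have hkg𝔪 : RingHom.ker (gOf p) ≤ IsLocalRing.maximalIdeal C' :=
    Groth.Agent.Lib.Helper1.ArtFunLib.ker_le_maximalIdeal p
  let 𝔅' : AlgDef B₀ C' :=
    { B := MvPolynomial ι C' ⧸ Ideal.span (Set.range F'')
      flat := hflat
      π := 𝔅.π.comp θ
      comm := fun a => by
        change 𝔅.π (θ (algebraMap C' _ a)) = _
        rw [hθg, 𝔅.comm]
        congr 1
        exact Art.res_app p a
      surj := 𝔅.surj.comp hθ
      ker_le := by
        intro b hb
        have hb' : θ b ∈ RingHom.ker 𝔅.π := hb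
        rw [𝔅.ker_eq] at hb'
        have h1 : (IsLocalRing.maximalIdeal C).map (algebraMap C 𝔅.B) =
            ((IsLocalRing.maximalIdeal C').map
              (algebraMap C' (MvPolynomial ι C' ⧸ Ideal.span (Set.range F'')))).map θ := by
          rw [Ideal.map_map, ← hmap𝔪 p hp, Ideal.map_map]
          congr 1
          ext a
          exact (hθg a).symm
        rw [h1] at hb'
        obtain ⟨m, hm, hmb⟩ := (Ideal.mem_map_iff_of_surjective θ hθ).1 hb'
        have h2 : b - m ∈ RingHom.ker θ := by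
          rw [RingHom.mem_ker, map_sub, hmb, sub_self]
        have h3 := Ideal.map_mono (f := algebraMap C' (MvPolynomial ι C' ⧸ Ideal.span (Set.range F''))) hkg𝔪
          (hker h2)
        have : b = m + (b - m) := by ring
        rw [this]
        exact Ideal.add_mem _ hm h3 }
  exact ⟨𝔅', θ, hθg, fun b => rfl⟩

include hp in
/-- if the deformation lifts, the obstruction classes vanish -/
theorem cls_eq_zero_of_lift (𝔅' : AlgDef B₀ C') (θ : 𝔅'.B →+* 𝔅.B)
    (hθA : ∀ a, θ (algebraMap C' 𝔅'.B a) = algebraMap C 𝔅.B (p a)) (hθπ : ∀ b, 𝔅.π (θ b) = 𝔅'.π b)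
    (hθs : Function.Surjective θ)
    (hθk : RingHom.ker θ ≤ (RingHom.ker (gOf p)).map (algebraMap C' 𝔅'.B)) (i : D) :
    (cocycle P p hp bJ pd F' hF' i).cls = 0 := by
  classical
  have hg : Function.Surjective (gOf p) := hp.1
  have hG : Function.Surjective (MvPolynomial.map (gOf p) : MvPolynomial ι C' →+* MvPolynomial ι C) :=
    MvPolynomial.map_surjective _ hg
  choose y' hy' using fun i => hθs (pd.y i)
  have hyπ : ∀ i, 𝔅'.π (y' i) = P.val i := fun i => by rw [← hθπ, hy', pd.hy]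
  obtain ⟨pd', hpd'⟩ := exists_presData_of_y P 𝔅' y' hyπ
  have hev' : ∀ x, θ (pd'.ev x) = pd.ev.toRingHom (MvPolynomial.map (gOf p) x) := by
    have : θ.comp pd'.ev.toRingHom = pd.ev.toRingHom.comp (MvPolynomial.map (gOf p)) := by
      apply MvPolynomial.ringHom_ext
      · intro a
        change θ (MvPolynomial.aeval pd'.y (MvPolynomial.C a)) =
          MvPolynomial.aeval pd.y (MvPolynomial.map (gOf p) (MvPolynomial.C a))
        rw [MvPolynomial.aeval_C, MvPolynomial.map_C, MvPolynomial.aeval_C, hθA]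
        rfl
      · intro i
        change θ (MvPolynomial.aeval pd'.y (MvPolynomial.X i)) =
          MvPolynomial.aeval pd.y (MvPolynomial.map (gOf p) (MvPolynomial.X i))
        rw [MvPolynomial.aeval_X, MvPolynomial.map_X, MvPolynomial.aeval_X, hpd', hy']
    exact fun x => congrArg (fun m => m x) this
  have hkG : RingHom.ker (MvPolynomial.map (gOf p) : MvPolynomial ι C' →+* MvPolynomial ι C) =
      (RingHom.ker (gOf p)).map (algebraMap C' (MvPolynomial ι C')) := by
    rw [MvPolynomial.ker_map, MvPolynomial.algebraMap_eq]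
  have hkθ : RingHom.ker θ = (RingHom.ker (gOf p)).map (algebraMap C' 𝔅'.B) := by
    apply le_antisymm hθk
    rw [Ideal.map_le_iff_le_comap]
    intro a ha
    rw [Ideal.mem_comap, RingHom.mem_ker, hθA]
    have : p a = 0 := ha
    rw [this, map_zero]
  have hF₂ : ∀ s, ∃ F₂ : MvPolynomial ι C', MvPolynomial.map (gOf p) F₂ = pd.F s ∧ pd'.ev F₂ = 0 := by
    intro s
    obtain ⟨Ft, hFt⟩ := hG (pd.F s)
    have h1 : pd'.ev Ft ∈ RingHom.ker θ := by
      rw [RingHom.mem_ker, hev', hFt]
      exact pd.hFev s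
    have h2 := hθk h1
    have h3 : (RingHom.ker (gOf p)).map (algebraMap C' 𝔅'.B) =
        ((RingHom.ker (gOf p)).map (MvPolynomial.C : C' →+* MvPolynomial ι C')).map pd'.ev.toRingHom := by
      rw [Ideal.map_map]
      congr 1
      ext a
      exact (MvPolynomial.aeval_C pd'.y a).symm
    rw [h3] at h2
    obtain ⟨n, hn, hne⟩ := (Ideal.mem_map_iff_of_surjective pd'.ev.toRingHom pd'.ev_surjective).1 h2
    refine ⟨Ft - n, ?_, ?_⟩
    · have : MvPolynomial.map (gOf p) n = 0 := by
        rw [← RingHom.mem_ker, MvPolynomial.ker_map]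
        exact hn
      rw [map_sub, hFt, this, sub_zero]
    · rw [map_sub, sub_eq_zero]
      exact hne.symm
  choose F₂ hF₂G hF₂ev using hF₂
  have hkg𝔪 : RingHom.ker (gOf p) ≤ IsLocalRing.maximalIdeal C' :=
    Groth.Agent.Lib.Helper1.ArtFunLib.ker_le_maximalIdeal p
  have hnil : IsNilpotent (RingHom.ker (gOf p)) := by
    obtain ⟨n, hn⟩ := isNilpotent_maximalIdeal C'
    refine ⟨n, ?_⟩
    rw [Ideal.zero_eq_bot, eq_bot_iff, ← Ideal.zero_eq_bot, ← hn]
    exact Ideal.pow_right_mono hkg𝔪 n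
  have hrel : ∀ r : σ →₀ MvPolynomial ι C, Finsupp.linearCombination _ pd.F r = 0 →
      ∃ r' : σ →₀ MvPolynomial ι C', Finsupp.mapRange (MvPolynomial.map (gOf p)) (map_zero _) r' = r ∧
        Finsupp.linearCombination _ F₂ r' = 0 := by
    intro r hr
    exact AffDef.exists_rel_lift (RingHom.ker (gOf p)) hnil pd'.ev (MvPolynomial.map (gOf p)) θ pd.ev.toRingHom
      hG hkG hθs hkθ pd.ev_surjective hev' pd.F pd.ker_ev F₂ hF₂G hF₂ev r hr
  rw [cocycle_cls_indep P p hp bJ pd F' hF' F₂ hF₂G i, RelCocycle.cls_eq_zero_iff]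
  refine ⟨fun _ => 0, fun r₀ => ?_⟩
  have hr := red_lft P pd r₀
  rw [cocycle_apply P p hp bJ pd F₂ hF₂G i (lft P pd r₀) r₀ hr]
  obtain ⟨r', hr', hr'0⟩ := hrel (lft P pd r₀).1 (lft P pd r₀).2
  have h5 := ObsB.zero_of_exact (gOf p) (bOf p bJ) (PresData.ε P C) F₂ r' hr'0
  rw [hr'] at h5
  rw [PhiC_eq P p hp bJ pd F₂ hF₂G (lft P pd r₀) 0 h5]
  simp

end Lift

end Groth.Agent.Lib.Helper1.AffDef
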