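import Groth.Agent.Lib.Helper1.AffDefHom
import Groth.Agent.Lib.Helper1.AffDefLift
import Groth.Agent.Lib.Helper1.ArtFunArt

universe u
open CategoryTheory CategoryTheory.Limits AlgebraicGeometry ArtFun ArtFun.Art TensorProduct

namespace Groth.Agent.Lib.Helper1.AffDef

variable {k : Type u} [Field k] {B₀ : Type u} [CommRing B₀] [Algebra k B₀]

section Triv

variable (B₀) (A : Art k k)

/-- The reduction `A ⊗[k] B₀ → B₀`. -/
noncomputable def trivπ : A ⊗[k] B₀ →ₐ[k] B₀ :=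
  Algebra.TensorProduct.productMap ((Algebra.ofId k B₀).comp A.res) (AlgHom.id k B₀)

lemma trivπ_tmul (a : A) (b : B₀) : trivπ B₀ A (a ⊗ₜ b) = algebraMap k B₀ (A.res a) * b := by
  simp [trivπ, Algebra.ofId_apply]

lemma sub_mem_maximalIdeal (a : A) : a - algebraMap k A (A.res a) ∈ IsLocalRing.maximalIdeal A := by
  rw [Art.mem_maximalIdeal_iff, map_sub, AlgHom.commutes, sub_eq_zero]
  rfl

lemma trivπ_ker (x : A ⊗[k] B₀) :
    x - (1 : A) ⊗ₜ[k] trivπ B₀ A x ∈ (IsLocalRing.maximalIdeal A).map (algebraMap A (A ⊗[k] B₀)) := by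
  induction x using TensorProduct.induction_on with
  | zero => simp
  | tmul a b =>
    rw [trivπ_tmul]
    have h1 : (1 : A) ⊗ₜ[k] (algebraMap k B₀ (A.res a) * b) = (algebraMap k A (A.res a)) ⊗ₜ[k] b := by
      rw [Algebra.algebraMap_eq_smul_one, Algebra.algebraMap_eq_smul_one, smul_mul_assoc, one_mul,
        TensorProduct.tmul_smul, TensorProduct.smul_tmul']
    rw [h1, ← TensorProduct.sub_tmul]
    have h2 : (a - algebraMap k A (A.res a)) ⊗ₜ[k] b =
        algebraMap A (A ⊗[k] B₀) (a - algebraMap k A (A.res a)) * ((1 : A) ⊗ₜ[k] b) := by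
      rw [Algebra.TensorProduct.algebraMap_apply, Algebra.TensorProduct.tmul_mul_tmul, one_mul]
      simp
    rw [h2]
    exact Ideal.mul_mem_right _ _ (Ideal.mem_map_of_mem _ (sub_mem_maximalIdeal A a))
  | add x y hx hy =>
    have : x + y - (1 : A) ⊗ₜ[k] trivπ B₀ A (x + y) =
        (x - (1 : A) ⊗ₜ[k] trivπ B₀ A x) + (y - (1 : A) ⊗ₜ[k] trivπ B₀ A y) := by
      rw [map_add, TensorProduct.tmul_add]; abel
    rw [this]
    exact Ideal.add_mem _ hx hy

/-- The trivial algebraic deformation `A ⊗[k] B₀`. -/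
noncomputable def trivModel : AlgDef B₀ A where
  B := A ⊗[k] B₀
  flat := inferInstance
  π := (trivπ B₀ A).toRingHom
  comm a := by
    change trivπ B₀ A (algebraMap A (A ⊗[k] B₀) a) = _
    rw [Algebra.TensorProduct.algebraMap_apply]
    simp [trivπ_tmul]
  surj b := ⟨(1 : A) ⊗ₜ b, by
    change trivπ B₀ A ((1 : A) ⊗ₜ b) = b
    rw [trivπ_tmul, map_one, map_one, one_mul]⟩
  ker_le x hx := by
    have h := trivπ_ker B₀ A x
    have hx' : trivπ B₀ A x = 0 := hx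
    rw [hx', TensorProduct.tmul_zero, sub_zero] at h
    exact h

/-- `B₀ → A ⊗[k] B₀`. -/
noncomputable def trivIncl : B₀ →+* (trivModel B₀ A).B :=
  (Algebra.TensorProduct.includeRight : B₀ →ₐ[k] A ⊗[k] B₀).toRingHom

lemma trivπ_incl (b : B₀) : (trivModel B₀ A).π (trivIncl B₀ A b) = b := by
  change trivπ B₀ A ((1 : A) ⊗ₜ b) = b
  rw [trivπ_tmul, map_one, map_one, one_mul]

theorem triv_isPushout : IsPushout (CommRingCat.ofHom (algebraMap k A)) (CommRingCat.ofHom (algebraMap k B₀))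
    (CommRingCat.ofHom (algebraMap A (trivModel B₀ A).B)) (CommRingCat.ofHom (trivIncl B₀ A)) :=
  CommRingCat.isPushout_tensorProduct k A B₀

/-- The trivial deformation is `Spec (A ⊗[k] B₀)`. -/
noncomputable def trivIso (hx : Flat (x₀ (k := k) B₀)) :
    (DefSch.trivial (Spec (CommRingCat.of B₀)) (x₀ (k := k) B₀) hx A).Iso (trivModel B₀ A).toDefSch :=
  let h' : IsPullback (Spec.map (CommRingCat.ofHom (trivIncl B₀ A)))
      (Spec.map (CommRingCat.ofHom (algebraMap A (trivModel B₀ A).B))) (x₀ (k := k) B₀) (specMap (ofBase A)) :=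
    (isPullback_SpecMap_of_isPushout _ _ _ _ (triv_isPushout B₀ A)).flip
  { iso := (IsPullback.of_hasPullback (x₀ (k := k) B₀) (specMap (ofBase A))).isoIsPullback _ _ h'
    hom_f := IsPullback.isoIsPullback_hom_snd _ _ _ _
    i_hom := by
      apply h'.hom_ext
      · refine (Category.assoc _ _ _).trans ?_
        refine (congrArg (fun m => (DefSch.trivial (Spec (CommRingCat.of B₀)) (x₀ (k := k) B₀) hx A).i ≫ m)
          (IsPullback.isoIsPullback_hom_fst _ _ (IsPullback.of_hasPullback (x₀ (k := k) B₀) (specMap (ofBase A))) h')).trans ?_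
        refine (DefSch.baseChange_i_fst (DefSch.self (Spec (CommRingCat.of B₀)) (x₀ (k := k) B₀) hx) (ofBase A)).trans ?_
        have : (trivModel B₀ A).π.comp (trivIncl B₀ A) = RingHom.id B₀ := by
          ext b
          exact trivπ_incl B₀ A b
        have h2 : Spec.map (CommRingCat.ofHom (trivModel B₀ A).π) ≫ Spec.map (CommRingCat.ofHom (trivIncl B₀ A)) =
            𝟙 _ := by
          rw [← Spec.map_comp, ← CommRingCat.ofHom_comp, this, CommRingCat.ofHom_id, Spec.map_id]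
        exact h2.symm
      · refine (Category.assoc _ _ _).trans ?_
        refine (congrArg (fun m => (DefSch.trivial (Spec (CommRingCat.of B₀)) (x₀ (k := k) B₀) hx A).i ≫ m)
          (IsPullback.isoIsPullback_hom_snd _ _ (IsPullback.of_hasPullback (x₀ (k := k) B₀) (specMap (ofBase A))) h')).trans ?_
        refine (DefSch.baseChange_i_f (DefSch.self (Spec (CommRingCat.of B₀)) (x₀ (k := k) B₀) hx) (ofBase A)).trans ?_
        exact ((trivModel B₀ A).toDefSch.i_f).symm }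

end Triv

namespace AlgDef

variable {A : Art k k}

/-- A section of the reduction compatible with the `k`-structures. -/
def HasSection (𝔅 : AlgDef B₀ A) : Prop :=
  ∃ s : B₀ →+* 𝔅.B, (∀ b, 𝔅.π (s b) = b) ∧
    ∀ c : k, s (algebraMap k B₀ c) = algebraMap A 𝔅.B (algebraMap k A c)

theorem hasSection_of_iso (𝔅 : AlgDef B₀ A) (i : 𝔅.toDefSch.Iso (trivModel B₀ A).toDefSch) : 𝔅.HasSection := by
  obtain ⟨e, hA, hπ⟩ := exists_ringEquiv_of_iso 𝔅 (trivModel B₀ A) i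
  refine ⟨e.symm.toRingHom.comp (trivIncl B₀ A), fun b => ?_, fun c => ?_⟩
  · change 𝔅.π (e.symm (trivIncl B₀ A b)) = b
    rw [← hπ, RingEquiv.apply_symm_apply, trivπ_incl]
  · change e.symm (trivIncl B₀ A (algebraMap k B₀ c)) = _
    rw [RingEquiv.symm_apply_eq, hA]
    exact (congrArg (fun m => m.hom c) (triv_isPushout B₀ A).w).symm

theorem iso_of_hasSection (𝔅 : AlgDef B₀ A) (h : 𝔅.HasSection) :
    Nonempty ((trivModel B₀ A).toDefSch.Iso 𝔅.toDefSch) := by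
  obtain ⟨s, hs, hc⟩ := h
  have hcomm : CommRingCat.ofHom (algebraMap k A) ≫ CommRingCat.ofHom (algebraMap A 𝔅.B) =
      CommRingCat.ofHom (algebraMap k B₀) ≫ CommRingCat.ofHom s := by
    ext c
    exact (hc c).symm
  let φ := (triv_isPushout B₀ A).desc _ _ hcomm
  have h1 : ∀ a, φ.hom (algebraMap A (trivModel B₀ A).B a) = algebraMap A 𝔅.B a := fun a =>
    congrArg (fun m => m.hom a) ((triv_isPushout B₀ A).inl_desc _ _ hcomm)
  have h2 : ∀ b, φ.hom (trivIncl B₀ A b) = s b := fun b =>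
    congrArg (fun m => m.hom b) ((triv_isPushout B₀ A).inr_desc _ _ hcomm)
  have h3 : φ ≫ CommRingCat.ofHom 𝔅.π = CommRingCat.ofHom (trivModel B₀ A).π := by
    apply (triv_isPushout B₀ A).hom_ext
    · ext a
      change 𝔅.π (φ.hom (algebraMap A (trivModel B₀ A).B a)) = (trivModel B₀ A).π (algebraMap A (trivModel B₀ A).B a)
      rw [h1, 𝔅.comm, (trivModel B₀ A).comm]
    · ext b
      change 𝔅.π (φ.hom (trivIncl B₀ A b)) = (trivModel B₀ A).π (trivIncl B₀ A b)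
      rw [h2, hs, trivπ_incl]
  exact ⟨isoOfHom (trivModel B₀ A) 𝔅 φ.hom h1 (fun b => congrArg (fun m => m.hom b) h3)⟩

theorem HasSection.of_hom {𝔅₁ 𝔅₂ : AlgDef B₀ A} (h : 𝔅₁.HasSection) (φ : 𝔅₁.B →+* 𝔅₂.B)
    (hA : ∀ a, φ (algebraMap A 𝔅₁.B a) = algebraMap A 𝔅₂.B a) (hπ : ∀ b, 𝔅₂.π (φ b) = 𝔅₁.π b) :
    𝔅₂.HasSection := by
  obtain ⟨s, hs, hc⟩ := h
  refine ⟨φ.comp s, fun b => ?_, fun c => ?_⟩
  · rw [RingHom.comp_apply, hπ, hs]
  · rw [RingHom.comp_apply, hc, hA]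

/-- Morphism `A'' ⊗[A] B → A'' ⊗[A'] (A' ⊗[A] B)`. -/
theorem exists_tensor_comp_hom {Λ : Type u} [CommRing Λ] [Algebra Λ k] {A A' A'' : Art Λ k}
    (𝔅 : AlgDef B₀ A) (p : A ⟶ A') (q : A' ⟶ A'') :
    ∃ φ : (𝔅.tensor (p ≫ q)).B →+* ((𝔅.tensor p).tensor q).B,
      (∀ a, φ (algebraMap A'' _ a) = algebraMap A'' _ a) ∧
      (∀ b, ((𝔅.tensor p).tensor q).π (φ b) = (𝔅.tensor (p ≫ q)).π b) ∧
      ∀ b, φ (𝔅.tensorθ (p ≫ q) b) = (𝔅.tensor p).tensorθ q (𝔅.tensorθ p b) := by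
  have hcomm : CommRingCat.ofHom (p ≫ q).toAlgHom.toRingHom ≫
      CommRingCat.ofHom (algebraMap A'' ((𝔅.tensor p).tensor q).B) =
      CommRingCat.ofHom (algebraMap A 𝔅.B) ≫
        CommRingCat.ofHom (((𝔅.tensor p).tensorθ q).comp (𝔅.tensorθ p)) := by
    ext a
    change algebraMap A'' ((𝔅.tensor p).tensor q).B (q (p a)) =
      (𝔅.tensor p).tensorθ q (𝔅.tensorθ p (algebraMap A 𝔅.B a))
    rw [tensorθ_algebraMap, tensorθ_algebraMap]
  let φ := (𝔅.tensor_isPushout (p ≫ q)).desc _ _ hcomm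
  have h1 : ∀ a, φ.hom (algebraMap A'' (𝔅.tensor (p ≫ q)).B a) = algebraMap A'' ((𝔅.tensor p).tensor q).B a :=
    fun a => congrArg (fun m => m.hom a) ((𝔅.tensor_isPushout (p ≫ q)).inl_desc _ _ hcomm)
  have h2 : ∀ b, φ.hom (𝔅.tensorθ (p ≫ q) b) = (𝔅.tensor p).tensorθ q (𝔅.tensorθ p b) :=
    fun b => congrArg (fun m => m.hom b) ((𝔅.tensor_isPushout (p ≫ q)).inr_desc _ _ hcomm)
  have h3 : φ ≫ CommRingCat.ofHom ((𝔅.tensor p).tensor q).π = CommRingCat.ofHom (𝔅.tensor (p ≫ q)).π := by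
    apply (𝔅.tensor_isPushout (p ≫ q)).hom_ext
    · ext a
      change ((𝔅.tensor p).tensor q).π (φ.hom (algebraMap A'' (𝔅.tensor (p ≫ q)).B a)) =
        (𝔅.tensor (p ≫ q)).π (algebraMap A'' (𝔅.tensor (p ≫ q)).B a)
      rw [h1, AlgDef.comm, AlgDef.comm]
    · ext b
      change ((𝔅.tensor p).tensor q).π (φ.hom (𝔅.tensorθ (p ≫ q) b)) =
        (𝔅.tensor (p ≫ q)).π (𝔅.tensorθ (p ≫ q) b)
      rw [h2, tensor_π_θ, tensor_π_θ, tensor_π_θ]
  exact ⟨φ.hom, h1, fun b => congrArg (fun m => m.hom b) h3, h2⟩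

end AlgDef


namespace AlgDef

/-- The small-extension step of rigidity. -/
theorem hasSection_of_tensor (hT : ∀ E : Exal.Ext k B₀ B₀, E.IsTrivial) {A' A : Art k k} (μ : A' ⟶ A)
    (hμ : IsSmallExt μ) (𝔅' : AlgDef B₀ A') (h : (𝔅'.tensor μ).HasSection) : 𝔅'.HasSection := by
  obtain ⟨s₀, hs₀, hc₀⟩ := h
  obtain ⟨hsurj, hne, ⟨t, ht⟩, hm⟩ := hμ
  have ht' : RingHom.ker μ.toAlgHom = Ideal.span {t} := ht
  have htker : t ∈ RingHom.ker μ.toAlgHom := by rw [ht']; exact Ideal.subset_span rfl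
  letI : Algebra k 𝔅'.B := ((algebraMap A' 𝔅'.B).comp (algebraMap k A')).toAlgebra
  letI : Algebra k (𝔅'.tensor μ).B := ((algebraMap A (𝔅'.tensor μ).B).comp (algebraMap k A)).toAlgebra
  let π' : 𝔅'.B →ₐ[k] B₀ :=
    { 𝔅'.π with
      commutes' := fun c => by
        change 𝔅'.π (algebraMap A' 𝔅'.B (algebraMap k A' c)) = algebraMap k B₀ c
        rw [𝔅'.comm, AlgHom.commutes]
        rfl }
  let θ : 𝔅'.B →ₐ[k] (𝔅'.tensor μ).B :=
    { 𝔅'.tensorθ μ with
      commutes' := fun c => by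
        change 𝔅'.tensorθ μ (algebraMap A' 𝔅'.B (algebraMap k A' c)) =
          algebraMap A (𝔅'.tensor μ).B (algebraMap k A c)
        rw [tensorθ_algebraMap]
        congr 1
        exact μ.toAlgHom.commutes c }
  let s₀ₐ : B₀ →ₐ[k] (𝔅'.tensor μ).B := { s₀ with commutes' := hc₀ }
  have h1 : ∀ m ∈ IsLocalRing.maximalIdeal A', m * t = 0 := by
    intro m hm'
    have : m * t ∈ IsLocalRing.maximalIdeal A' * RingHom.ker μ.toAlgHom := Ideal.mul_mem_mul hm' htker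
    rw [hm] at this
    exact this
  have h2 : ∀ a : A', a * t = 0 → a ∈ IsLocalRing.maximalIdeal A' := by
    intro a ha
    by_contra hna
    have hu : IsUnit a := by
      rw [IsLocalRing.mem_maximalIdeal, mem_nonunits_iff, not_not] at hna
      exact hna
    have ht0 : t = 0 := hu.mul_right_eq_zero.mp ha
    apply hne
    rw [ht', ht0]
    simp
  have h3 : ∀ b : 𝔅'.B, π' b = 0 ↔ b ∈ (IsLocalRing.maximalIdeal A').map (algebraMap A' 𝔅'.B) := by
    intro b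
    change 𝔅'.π b = 0 ↔ _
    rw [← RingHom.mem_ker, 𝔅'.ker_eq]
  have h4 : ∀ b : 𝔅'.B, θ b = 0 ↔ ∃ c : 𝔅'.B, b = algebraMap A' 𝔅'.B t * c := by
    intro b
    change 𝔅'.tensorθ μ b = 0 ↔ _
    rw [← RingHom.mem_ker, ker_tensorθ 𝔅' μ hsurj]
    have : RingHom.ker μ.toAlgHom.toRingHom = Ideal.span {t} := ht'
    rw [this, Ideal.map_span, Set.image_singleton, Ideal.mem_span_singleton']
    constructor
    · rintro ⟨c, rfl⟩
      exact ⟨c, mul_comm _ _⟩
    · rintro ⟨c, rfl⟩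
      exact ⟨c, mul_comm _ _⟩
  have h5 : ∀ (b' : 𝔅'.B) (b₀ : B₀), θ b' = s₀ₐ b₀ → π' b' = b₀ := by
    intro b' b₀ hb
    change 𝔅'.π b' = b₀
    rw [← tensor_π_θ 𝔅' μ]
    change (𝔅'.tensor μ).π (θ b') = b₀
    rw [hb]
    exact hs₀ b₀
  obtain ⟨s', hs'⟩ := exists_lift_section (IsLocalRing.maximalIdeal A') t hT h1 h2 π' 𝔅'.surj h3 θ
    (𝔅'.tensorθ_surjective μ hsurj) h4 s₀ₐ h5
  refine ⟨s'.toRingHom, fun b => ?_, fun c => s'.commutes c⟩
  change 𝔅'.π (s' b) = b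
  rw [← tensor_π_θ 𝔅' μ]
  change (𝔅'.tensor μ).π (θ (s' b)) = b
  rw [hs']
  exact hs₀ b

lemma maximalIdeal_base : IsLocalRing.maximalIdeal (base k k) = ⊥ := by
  rw [eq_bot_iff]
  intro a ha
  rw [Art.mem_maximalIdeal_iff] at ha
  exact ha

theorem hasSection_base (𝔅 : AlgDef B₀ (base k k)) : 𝔅.HasSection := by
  have hinj : Function.Injective 𝔅.π := by
    rw [injective_iff_map_eq_zero]
    intro b hb
    have : b ∈ RingHom.ker 𝔅.π := hb
    rw [𝔅.ker_eq, maximalIdeal_base, Ideal.map_bot] at this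
    exact this
  let e : 𝔅.B ≃+* B₀ := RingEquiv.ofBijective 𝔅.π ⟨hinj, 𝔅.surj⟩
  refine ⟨e.symm.toRingHom, fun b => e.apply_symm_apply b, fun c => ?_⟩
  change e.symm (algebraMap k B₀ c) = _
  rw [RingEquiv.symm_apply_eq]
  change _ = 𝔅.π _
  rw [𝔅.comm, AlgHom.commutes]
  rfl

theorem hasSection_of_tensor_iso {A' A : Art k k} (e : A' ⟶ A) [IsIso e] (𝔅' : AlgDef B₀ A')
    (h : (𝔅'.tensor e).HasSection) : 𝔅'.HasSection := by
  obtain ⟨s₀, hs₀, hc₀⟩ := h
  have hb := Groth.Agent.Lib.Helper1.ArtFunLib.bijective_of_isIso e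
  have hinj : Function.Injective (𝔅'.tensorθ e) := by
    rw [injective_iff_map_eq_zero]
    intro b hb'
    have h1 : b ∈ RingHom.ker (𝔅'.tensorθ e) := hb'
    rw [ker_tensorθ 𝔅' e hb.2] at h1
    have h2 : RingHom.ker e.toAlgHom.toRingHom = ⊥ := by
      rw [eq_bot_iff]
      intro a ha
      exact hb.1 (by rw [map_zero]; exact ha)
    rw [h2, Ideal.map_bot] at h1
    exact h1
  let eθ : 𝔅'.B ≃+* (𝔅'.tensor e).B := RingEquiv.ofBijective (𝔅'.tensorθ e) ⟨hinj, 𝔅'.tensorθ_surjective e hb.2⟩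
  refine ⟨eθ.symm.toRingHom.comp s₀, fun b => ?_, fun c => ?_⟩
  · change 𝔅'.π (eθ.symm (s₀ b)) = b
    rw [← tensor_π_θ 𝔅' e]
    change (𝔅'.tensor e).π (eθ (eθ.symm (s₀ b))) = b
    rw [RingEquiv.apply_symm_apply, hs₀]
  · change eθ.symm (s₀ (algebraMap k B₀ c)) = _
    rw [RingEquiv.symm_apply_eq, hc₀]
    change _ = 𝔅'.tensorθ e _
    rw [tensorθ_algebraMap]
    congr 1
    exact (e.toAlgHom.commutes c).symm

/-- If `T¹(B₀/k, B₀) = 0`, every algebraic deformation of `B₀` has a section. -/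
theorem hasSection_all (hT : ∀ E : Exal.Ext k B₀ B₀, E.IsTrivial) (A : Art k k) (𝔅 : AlgDef B₀ A) :
    𝔅.HasSection := by
  have key : ∀ ⦃A B : Art k k⦄ (f : B ⟶ A), Function.Surjective f →
      ∀ 𝔅' : AlgDef B₀ B, (𝔅'.tensor f).HasSection → 𝔅'.HasSection := by
    intro A B f hf
    refine Groth.Agent.Lib.Helper1.ArtFunLib.surjective_induction
      (fun A B μ => ∀ 𝔅' : AlgDef B₀ B, (𝔅'.tensor μ).HasSection → 𝔅'.HasSection) ?_ ?_ ?_ f hf
    · intro A B e he 𝔅' h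
      exact hasSection_of_tensor_iso e 𝔅' h
    · intro A B p hp 𝔅' h
      exact hasSection_of_tensor hT p hp 𝔅' h
    · intro A B C p q hp hq 𝔅' h
      apply hp
      apply hq
      obtain ⟨φ, h1, h2, -⟩ := exists_tensor_comp_hom 𝔅' p q
      exact h.of_hom φ h1 h2
  exact key (toBase A) A.res_surjective 𝔅 (hasSection_base _)

end AlgDef

/-- Rigidity: if every extension of `B₀` by `B₀` is trivial, every deformation of `Spec B₀` is trivial. -/
theorem rigid (hT : ∀ E : Exal.Ext k B₀ B₀, E.IsTrivial) (hx : Flat (x₀ (k := k) B₀)) (A : Art k k)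
    (ξ : DefSch (Spec (CommRingCat.of B₀)) (x₀ (k := k) B₀) A) :
    Nonempty (ξ.Iso (DefSch.trivial (Spec (CommRingCat.of B₀)) (x₀ (k := k) B₀) hx A)) := by
  obtain ⟨𝔅, ⟨i⟩⟩ := exists_algDef ξ
  obtain ⟨j⟩ := 𝔅.iso_of_hasSection (AlgDef.hasSection_all hT A 𝔅)
  exact ⟨i.trans (j.symm.trans (trivIso B₀ A hx).symm)⟩

end Groth.Agent.Lib.Helper1.AffDef
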