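import Groth.Agent.Lib.Helper1.AffDefGlue
import Groth.Agent.Lib.Helper1.AffDefTriv

/-!
# Schlessinger's conditions `H0`, `S1`, `Heps` for deformations of an affine scheme (helper1)

General base `Λ`.
-/

universe u
open CategoryTheory AlgebraicGeometry ArtFun ArtFun.Art

namespace Groth.Agent.Lib.Helper1.AffDef

variable {Λ k : Type u} [CommRing Λ] [Field k] [Algebra Λ k] {B₀ : Type u} [CommRing B₀] [Algebra k B₀]

/-- the deformation functor of `Spec B₀` -/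
noncomputable abbrev DefF (Λ : Type u) [CommRing Λ] (k : Type u) [Field k] [Algebra Λ k] (B₀ : Type u) [CommRing B₀]
    [Algebra k B₀] : Art Λ k ⥤ Type (u + 1) :=
  defFunctor (Λ := Λ) (Spec (CommRingCat.of B₀)) (x₀ (k := k) B₀)

namespace AlgDef

variable {A A' : Art Λ k}

/-- the class of an algebraic deformation -/
noncomputable def cl (𝔅 : AlgDef B₀ A) : (DefF Λ k B₀).obj A := 𝔅.toDefSch.cl

theorem exists_cl (q : (DefF Λ k B₀).obj A) : ∃ 𝔅 : AlgDef B₀ A, 𝔅.cl = q := by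
  obtain ⟨ξ, rfl⟩ : ∃ ξ : DefSch (Spec (CommRingCat.of B₀)) (x₀ (k := k) B₀) A, ξ.cl = q :=
    Quotient.exists_rep q
  obtain ⟨𝔅, ⟨i⟩⟩ := exists_algDef ξ
  exact ⟨𝔅, Quotient.sound ⟨i.symm⟩⟩

theorem cl_eq_of_hom (𝔅₁ 𝔅₂ : AlgDef B₀ A) (φ : 𝔅₁.B →+* 𝔅₂.B)
    (hA : ∀ a, φ (algebraMap A 𝔅₁.B a) = algebraMap A 𝔅₂.B a) (hπ : ∀ b, 𝔅₂.π (φ b) = 𝔅₁.π b) :
    𝔅₁.cl = 𝔅₂.cl :=
  Quotient.sound ⟨isoOfHom 𝔅₁ 𝔅₂ φ hA hπ⟩

theorem exists_ringEquiv_of_cl_eq (𝔅₁ 𝔅₂ : AlgDef B₀ A) (h : 𝔅₁.cl = 𝔅₂.cl) :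
    ∃ e : 𝔅₁.B ≃+* 𝔅₂.B, (∀ a, e (algebraMap A 𝔅₁.B a) = algebraMap A 𝔅₂.B a) ∧ ∀ b, 𝔅₂.π (e b) = 𝔅₁.π b := by
  obtain ⟨i⟩ := Quotient.exact h
  exact exists_ringEquiv_of_iso 𝔅₁ 𝔅₂ i

theorem map_cl_tensor (𝔅 : AlgDef B₀ A) (g : A ⟶ A') : (DefF Λ k B₀).map g 𝔅.cl = (𝔅.tensor g).cl := by
  change (DefF Λ k B₀).map g 𝔅.toDefSch.cl = _
  rw [defFunctor_map_cl]
  exact Quotient.sound ⟨baseChangeTensorIso 𝔅 g⟩

/-- a ring map over `g` compatible with the reductions identifies the base change -/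
theorem map_cl_of_hom (g : A ⟶ A') (𝔅 : AlgDef B₀ A) (𝔅' : AlgDef B₀ A') (θ : 𝔅.B →+* 𝔅'.B)
    (hA : ∀ a, θ (algebraMap A 𝔅.B a) = algebraMap A' 𝔅'.B (g a)) (hπ : ∀ b, 𝔅'.π (θ b) = 𝔅.π b) :
    (DefF Λ k B₀).map g 𝔅.cl = 𝔅'.cl := by
  rw [map_cl_tensor]
  have hcomm : CommRingCat.ofHom g.toAlgHom.toRingHom ≫ CommRingCat.ofHom (algebraMap A' 𝔅'.B) =
      CommRingCat.ofHom (algebraMap A 𝔅.B) ≫ CommRingCat.ofHom θ := by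
    ext a
    exact (hA a).symm
  let φ := (𝔅.tensor_isPushout g).desc _ _ hcomm
  have h1 : ∀ a, φ.hom (algebraMap A' (𝔅.tensor g).B a) = algebraMap A' 𝔅'.B a :=
    fun a => congrArg (fun m => m.hom a) ((𝔅.tensor_isPushout g).inl_desc _ _ hcomm)
  have h2 : ∀ b, φ.hom (𝔅.tensorθ g b) = θ b :=
    fun b => congrArg (fun m => m.hom b) ((𝔅.tensor_isPushout g).inr_desc _ _ hcomm)
  have h3 : φ ≫ CommRingCat.ofHom 𝔅'.π = CommRingCat.ofHom (𝔅.tensor g).π := by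
    apply (𝔅.tensor_isPushout g).hom_ext
    · ext a
      change 𝔅'.π (φ.hom (algebraMap A' (𝔅.tensor g).B a)) = (𝔅.tensor g).π (algebraMap A' (𝔅.tensor g).B a)
      rw [h1, AlgDef.comm, AlgDef.comm]
    · ext b
      change 𝔅'.π (φ.hom (𝔅.tensorθ g b)) = (𝔅.tensor g).π (𝔅.tensorθ g b)
      rw [h2, tensor_π_θ, hπ]
  exact cl_eq_of_hom _ _ φ.hom h1 (fun b => congrArg (fun m => m.hom b) h3)

variable (Λ k B₀) in
/-- `B₀` itself, as a deformation over the base -/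
noncomputable def baseDef : AlgDef B₀ (base Λ k) where
  B := B₀
  commRing := inferInstance
  algebra := inferInstanceAs (Algebra k B₀)
  flat := inferInstanceAs (Module.Flat k B₀)
  π := RingHom.id B₀
  comm := fun _ => rfl
  surj := Function.surjective_id
  ker_le := by
    intro b hb
    have : b = 0 := hb
    rw [this]
    exact zero_mem _

end AlgDef

open AlgDef

theorem h0_defF : H0 (DefF Λ k B₀) := by
  refine ⟨⟨(baseDef Λ k B₀).cl⟩, ⟨fun q₁ q₂ => ?_⟩⟩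
  have key : ∀ q : (DefF Λ k B₀).obj (base Λ k), q = (baseDef Λ k B₀).cl := by
    intro q
    obtain ⟨𝔅, rfl⟩ := exists_cl q
    exact cl_eq_of_hom 𝔅 (baseDef Λ k B₀) 𝔅.π (fun a => 𝔅.comm a) (fun b => rfl)
  rw [key q₁, key q₂]

theorem s1_defF : S1 (DefF Λ k B₀) := by
  intro B A A' A'' p' p'' f' f'' h hf''
  rintro ⟨⟨ξ', ξ''⟩, hξ⟩
  obtain ⟨𝔅', rfl⟩ := exists_cl ξ'
  obtain ⟨𝔅'', rfl⟩ := exists_cl ξ''
  change (DefF Λ k B₀).map f' 𝔅'.cl = (DefF Λ k B₀).map f'' 𝔅''.cl at hξ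
  rw [map_cl_tensor, map_cl_tensor] at hξ
  obtain ⟨e, heA, heπ⟩ := exists_ringEquiv_of_cl_eq _ _ hξ
  obtain ⟨𝔑, q', q'', hq'A, hq''A, hq'π, hq''π, -, -, -⟩ :=
    exists_glue h 𝔅' 𝔅'' (𝔅''.tensor f'') (e.toRingHom.comp (𝔅'.tensorθ f')) (𝔅''.tensorθ f'')
      (fun a => by
        change e (𝔅'.tensorθ f' (algebraMap A' 𝔅'.B a)) = _
        rw [tensorθ_algebraMap, heA])
      (fun b => by
        change (𝔅''.tensor f'').π (e (𝔅'.tensorθ f' b)) = _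
        rw [heπ, tensor_π_θ])
      (fun a => tensorθ_algebraMap 𝔅'' f'' a)
      (fun b => tensor_π_θ 𝔅'' f'' b)
      (tensorθ_surjective 𝔅'' f'' hf'')
  refine ⟨𝔑.cl, ?_⟩
  apply FibProd.ext
  · exact map_cl_of_hom p' 𝔑 𝔅' q' hq'A hq'π
  · exact map_cl_of_hom p'' 𝔑 𝔅'' q'' hq''A hq''π

theorem heps_defF : Heps (DefF Λ k B₀) := by
  intro B A' p' p'' h
  refine ⟨?_, s1_defF p' p'' _ _ h (dual Λ k).res_surjective⟩
  intro z₁ z₂ hz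
  obtain ⟨𝔑₁, rfl⟩ := exists_cl z₁
  obtain ⟨𝔑₂, rfl⟩ := exists_cl z₂
  have hz' : (DefF Λ k B₀).map p' 𝔑₁.cl = (DefF Λ k B₀).map p' 𝔑₂.cl := congrArg (fun t => t.1.1) hz
  have hz'' : (DefF Λ k B₀).map p'' 𝔑₁.cl = (DefF Λ k B₀).map p'' 𝔑₂.cl := congrArg (fun t => t.1.2) hz
  rw [map_cl_tensor, map_cl_tensor] at hz' hz''
  obtain ⟨e', he'A, he'π⟩ := exists_ringEquiv_of_cl_eq _ _ hz'
  obtain ⟨e'', he''A, he''π⟩ := exists_ringEquiv_of_cl_eq _ _ hz''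
  obtain ⟨G, q', q'', hq'A, hq''A, hq'π, hq''π, -, hqinj, hqsurj⟩ :=
    exists_glue h (𝔑₂.tensor p') (𝔑₂.tensor p'') (baseDef Λ k B₀) (𝔑₂.tensor p').π (𝔑₂.tensor p'').π
      (fun a => (𝔑₂.tensor p').comm a) (fun b => rfl) (fun a => (𝔑₂.tensor p'').comm a) (fun b => rfl)
      (𝔑₂.tensor p'').surj
  have key : ∀ (𝔑 : AlgDef B₀ B) (g' : 𝔑.B →+* (𝔑₂.tensor p').B) (g'' : 𝔑.B →+* (𝔑₂.tensor p'').B),
      (∀ b, g' (algebraMap B 𝔑.B b) = algebraMap A' _ (p' b)) →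
      (∀ b, g'' (algebraMap B 𝔑.B b) = algebraMap (dual Λ k) _ (p'' b)) →
      (∀ n, (𝔑₂.tensor p').π (g' n) = 𝔑.π n) → (∀ n, (𝔑₂.tensor p'').π (g'' n) = 𝔑.π n) → 𝔑.cl = G.cl := by
    intro 𝔑 g' g'' hg'A hg''A hg'π hg''π
    obtain ⟨g, hg1, hg2⟩ := exists_ringHom_of_fibre q' q'' (𝔑₂.tensor p').π (𝔑₂.tensor p'').π hqinj hqsurj g' g''
      (fun c => by rw [hg'π, hg''π])
    refine cl_eq_of_hom 𝔑 G g ?_ ?_
    · intro b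
      apply hqinj
      · rw [hg1, hg'A, hq'A]
      · rw [hg2, hg''A, hq''A]
    · intro n
      rw [← hq'π, hg1, hg'π]
  rw [key 𝔑₁ (e'.toRingHom.comp (𝔑₁.tensorθ p')) (e''.toRingHom.comp (𝔑₁.tensorθ p'')) ?_ ?_ ?_ ?_,
    key 𝔑₂ (𝔑₂.tensorθ p') (𝔑₂.tensorθ p'') (tensorθ_algebraMap 𝔑₂ p') (tensorθ_algebraMap 𝔑₂ p'')
      (tensor_π_θ 𝔑₂ p') (tensor_π_θ 𝔑₂ p'')]
  · intro b
    change e' (𝔑₁.tensorθ p' (algebraMap B 𝔑₁.B b)) = _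
    rw [tensorθ_algebraMap, he'A]
  · intro b
    change e'' (𝔑₁.tensorθ p'' (algebraMap B 𝔑₁.B b)) = _
    rw [tensorθ_algebraMap, he''A]
  · intro n
    change (𝔑₂.tensor p').π (e' (𝔑₁.tensorθ p' n)) = _
    rw [he'π, tensor_π_θ]
  · intro n
    change (𝔑₂.tensor p'').π (e'' (𝔑₁.tensorθ p'' n)) = _
    rw [he''π, tensor_π_θ]

end Groth.Agent.Lib.Helper1.AffDef
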