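import Groth.Agent.Lib.Helper1.AffDefObsLift
import Groth.Agent.Lib.Helper1.AffDefSchl
import Groth.Agent.Lib.Helper1.ArtFunFibre

/-!
# `T²(B₀/k, B₀)` is an obstruction space for the deformations of `Spec B₀` (helper1)

`obsTheory P : ObsTheory (DefF k k B₀) (T2 P B₀)`.
-/

universe u
open CategoryTheory CategoryTheory.Limits AlgebraicGeometry TensorProduct
open ArtFun ArtFun.Art

namespace Groth.Agent.Lib.Helper1.AffDef

variable {k : Type u} [Field k] {B₀ : Type u} [CommRing B₀] [Algebra k B₀] {ι σ : Type u}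
  (P : Algebra.Presentation k B₀ ι σ)

omit [Algebra k B₀] in
lemma finite_ker {C' C : Art k k} (p : C' ⟶ C) : Module.Finite k ↥(RingHom.ker p.toAlgHom) := by
  haveI : IsNoetherian k C' :=
    (isFiniteLength_iff_isNoetherian_isArtinian.1 (Groth.Agent.Lib.Helper1.ArtFunLib.isFiniteLength_obj C')).1
  infer_instance

/-- a chosen representative of a class -/
noncomputable def rep {C : Art k k} (u : (DefF k k B₀).obj C) : AlgDef B₀ C := (AlgDef.exists_cl u).choose

lemma rep_cl {C : Art k k} (u : (DefF k k B₀).obj C) : (rep u).cl = u := (AlgDef.exists_cl u).choose_spec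

/-- chosen presentation data of the representative -/
noncomputable def pdOf {C : Art k k} (u : (DefF k k B₀).obj C) : PresData P (rep u) :=
  (nonempty_presData P (rep u)).some

section

variable {C' C : Art k k} (p : C' ⟶ C) (hp : IsSemismallExt p) (u : (DefF k k B₀).obj C)

include hp in
lemma exists_liftF (s : σ) : ∃ x : MvPolynomial ι C', MvPolynomial.map (gOf p) x = (pdOf P u).F s :=
  MvPolynomial.map_surjective _ hp.1 _

/-- chosen lifts of the relations -/
noncomputable def liftF (s : σ) : MvPolynomial ι C' := (exists_liftF P p hp u s).choose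

lemma liftF_spec (s : σ) : MvPolynomial.map (gOf p) (liftF P p hp u s) = (pdOf P u).F s :=
  (exists_liftF P p hp u s).choose_spec

/-- a chosen basis of the kernel -/
noncomputable def basisOf :
    Module.Basis (Fin (Module.finrank k ↥(RingHom.ker p.toAlgHom))) k ↥(RingHom.ker p.toAlgHom) :=
  haveI := finite_ker p
  Module.finBasis k _

/-- the obstruction -/
noncomputable def obsOf : CotT.T2 P B₀ ⊗[k] ↥(RingHom.ker p.toAlgHom) :=
  obsElt P p hp (basisOf p) (pdOf P u) (liftF P p hp u) (liftF_spec P p hp u)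

theorem obsOf_eq_zero_iff : obsOf P p hp u = 0 ↔ ∃ u' : (DefF k k B₀).obj C', (DefF k k B₀).map p u' = u := by
  unfold obsOf
  rw [obsElt_eq_zero_iff]
  constructor
  · intro h
    obtain ⟨𝔅', θ, hA, hπ⟩ := exists_lift_of_cls_eq_zero P p hp (basisOf p) (pdOf P u) _ _ h
    refine ⟨𝔅'.cl, ?_⟩
    rw [AlgDef.map_cl_of_hom p 𝔅' (rep u) θ hA hπ, rep_cl]
  · rintro ⟨u', hu'⟩ i
    obtain ⟨𝔅', rfl⟩ := AlgDef.exists_cl u'
    rw [AlgDef.map_cl_tensor, ← rep_cl u] at hu'
    obtain ⟨e, heA, heπ⟩ := AlgDef.exists_ringEquiv_of_cl_eq _ _ hu'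
    refine cls_eq_zero_of_lift P p hp (basisOf p) (pdOf P u) _ _ 𝔅' (e.toRingHom.comp (𝔅'.tensorθ p))
      ?_ ?_ ?_ ?_ i
    · intro a
      change e (𝔅'.tensorθ p (algebraMap C' 𝔅'.B a)) = _
      rw [AlgDef.tensorθ_algebraMap, heA]
    · intro b
      change (rep u).π (e (𝔅'.tensorθ p b)) = _
      rw [heπ, AlgDef.tensor_π_θ]
    · exact e.surjective.comp (𝔅'.tensorθ_surjective p hp.1)
    · intro b hb
      rw [← AlgDef.ker_tensorθ 𝔅' p hp.1, RingHom.mem_ker]
      have : e (𝔅'.tensorθ p b) = 0 := hb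
      exact e.injective (by rw [this, map_zero])

end

/-- `T²` is an obstruction space for the deformation functor of `Spec B₀` -/
noncomputable def obsTheory : ObsTheory (DefF k k B₀) (CotT.T2 P B₀) where
  obs p hp u := obsOf P p hp u
  obs_eq_zero_iff p hp u := obsOf_eq_zero_iff P p hp u
  obs_quot p hp K hK hKJ hq u := by
    have h1 := obsElt_map P p hp (quotFactor hK p hKJ) hq (quotMk _ K hK) (quotMk_quotFactor hK p hKJ)
      (basisOf p) (basisOf (quotFactor hK p hKJ)) (pdOf P u) (liftF P p hp u) (liftF_spec P p hp u)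
      (liftF P (quotFactor hK p hKJ) hq u) (liftF_spec P (quotFactor hK p hKJ) hq u)
    change obsElt P (quotFactor hK p hKJ) hq (basisOf (quotFactor hK p hKJ)) (pdOf P u) _ _ = _
    rw [h1]
    congr 1

end Groth.Agent.Lib.Helper1.AffDef
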