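import Groth.Agent.Lib.Helper1.AffDefLiftSet
import Groth.Prelude.Def_Exal

/-!
# The action of extensions of `B₀` by `B₀ ⊗ J` on lifts (helper1)

`Lift.plus hp E₀ ℓ₁`: the lift `(E₀ ×_{B₀} B'₁) ⧸ {(incl n, -ν n)}`.
-/

universe u
open TensorProduct ArtFun ArtFun.Art

namespace Groth.Agent.Lib.Helper1.AffDef

section Plus

variable {k : Type u} [Field k] {B₀ : Type u} [CommRing B₀] [Algebra k B₀] {C' C : Art k k}
  {𝔅 : AlgDef B₀ C} {p : C' ⟶ C}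

lemma proj_incl {L : Type u} [AddCommGroup L] [Module B₀ L] (E₀ : Exal.Ext k B₀ L) (n : L) :
    E₀.proj (E₀.incl n) = 0 := (E₀.isExtension.exact _).2 ⟨n, rfl⟩

variable (hp : Art.IsSemismallExt p) (E₀ : Exal.Ext k B₀ (B₀ ⊗[k] kerIdeal p)) (ℓ₁ : Lift 𝔅 p)

/-- The fibre product `E₀ ×_{B₀} B'₁`. -/
def plusV : Subring (E₀.E × ℓ₁.𝔅'.B) :=
  RingHom.eqLocus ((E₀.proj : E₀.E →+* B₀).comp (RingHom.fst E₀.E ℓ₁.𝔅'.B))
    (ℓ₁.𝔅'.π.comp (RingHom.snd E₀.E ℓ₁.𝔅'.B))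

lemma mem_plusV (x : E₀.E × ℓ₁.𝔅'.B) : x ∈ plusV E₀ ℓ₁ ↔ E₀.proj x.1 = ℓ₁.𝔅'.π x.2 := Iff.rfl

lemma plusV_cond (v : plusV E₀ ℓ₁) : E₀.proj v.1.1 = ℓ₁.𝔅'.π v.1.2 := v.2

/-- The antidiagonal embedding of `B₀ ⊗ J`. -/
noncomputable def plusDelta : B₀ ⊗[k] kerIdeal p →+ plusV E₀ ℓ₁ where
  toFun n := ⟨(E₀.incl n, - ℓ₁.nu hp n), by
    rw [mem_plusV]
    change E₀.proj (E₀.incl n) = ℓ₁.𝔅'.π (- ℓ₁.nu hp n)
    rw [proj_incl, map_neg, Lift.π_nu, neg_zero]⟩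
  map_zero' := by
    apply Subtype.ext
    apply Prod.ext
    · exact map_zero E₀.incl
    · change - ℓ₁.nu hp 0 = 0
      rw [map_zero, neg_zero]
  map_add' x y := by
    apply Subtype.ext
    apply Prod.ext
    · exact map_add E₀.incl x y
    · change - ℓ₁.nu hp (x + y) = - ℓ₁.nu hp x + - ℓ₁.nu hp y
      rw [map_add, neg_add]

/-- The ideal `∇ = {(incl n, -ν n)}`. -/
noncomputable def plusNabla : Ideal (plusV E₀ ℓ₁) where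
  carrier := Set.range (plusDelta hp E₀ ℓ₁)
  add_mem' := by
    rintro _ _ ⟨n, rfl⟩ ⟨m, rfl⟩
    exact ⟨n + m, map_add _ _ _⟩
  zero_mem' := ⟨0, map_zero _⟩
  smul_mem' := by
    rintro v _ ⟨n, rfl⟩
    refine ⟨E₀.proj v.1.1 • n, ?_⟩
    apply Subtype.ext
    apply Prod.ext
    · change E₀.incl (E₀.proj v.1.1 • n) = v.1.1 * E₀.incl n
      rw [E₀.isExtension.mul_incl]
    · change - ℓ₁.nu hp (E₀.proj v.1.1 • n) = v.1.2 * (- ℓ₁.nu hp n)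
      rw [plusV_cond E₀ ℓ₁ v, Lift.nu_smul, mul_neg]

lemma mem_plusNabla (v : plusV E₀ ℓ₁) : v ∈ plusNabla hp E₀ ℓ₁ ↔ ∃ n, plusDelta hp E₀ ℓ₁ n = v := Iff.rfl

/-- The ring of the sum. -/
def plusRing : Type u := plusV E₀ ℓ₁ ⧸ plusNabla hp E₀ ℓ₁

noncomputable instance : CommRing (plusRing hp E₀ ℓ₁) :=
  inferInstanceAs (CommRing (plusV E₀ ℓ₁ ⧸ plusNabla hp E₀ ℓ₁))

/-- The quotient map. -/
noncomputable def plusMk : plusV E₀ ℓ₁ →+* plusRing hp E₀ ℓ₁ := Ideal.Quotient.mk (plusNabla hp E₀ ℓ₁)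

lemma plusMk_surjective : Function.Surjective (plusMk hp E₀ ℓ₁) := Ideal.Quotient.mk_surjective

lemma plusMk_eq_zero_iff (v : plusV E₀ ℓ₁) : plusMk hp E₀ ℓ₁ v = 0 ↔ ∃ n, plusDelta hp E₀ ℓ₁ n = v :=
  Ideal.Quotient.eq_zero_iff_mem

/-- The structure map `C' → E₀ ×_{B₀} B'₁`. -/
noncomputable def plusι : C' →+* plusV E₀ ℓ₁ :=
  RingHom.codRestrict (RingHom.prod ((algebraMap k E₀.E).comp (C'.res : C' →+* k)) (algebraMap C' ℓ₁.𝔅'.B))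
    (plusV E₀ ℓ₁) (fun c => by
      rw [mem_plusV]
      change E₀.proj (algebraMap k E₀.E (C'.res c)) = ℓ₁.𝔅'.π (algebraMap C' ℓ₁.𝔅'.B c)
      rw [AlgHom.commutes, ℓ₁.𝔅'.comm])

lemma plusι_fst (c : C') : (plusι E₀ ℓ₁ c).1.1 = algebraMap k E₀.E (C'.res c) := rfl
lemma plusι_snd (c : C') : (plusι E₀ ℓ₁ c).1.2 = algebraMap C' ℓ₁.𝔅'.B c := rfl

noncomputable instance : Algebra C' (plusRing hp E₀ ℓ₁) :=
  ((plusMk hp E₀ ℓ₁).comp (plusι E₀ ℓ₁)).toAlgebra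

lemma plus_algebraMap (c : C') :
    algebraMap C' (plusRing hp E₀ ℓ₁) c = plusMk hp E₀ ℓ₁ (plusι E₀ ℓ₁ c) := rfl

/-- The reduction `plus → B`. -/
noncomputable def plusθ : plusRing hp E₀ ℓ₁ →+* 𝔅.B :=
  Ideal.Quotient.lift (plusNabla hp E₀ ℓ₁)
    (ℓ₁.θ.comp ((RingHom.snd E₀.E ℓ₁.𝔅'.B).comp (plusV E₀ ℓ₁).subtype)) (by
      rintro _ ⟨n, rfl⟩
      change ℓ₁.θ (- ℓ₁.nu hp n) = 0
      rw [map_neg, Lift.θ_nu, neg_zero])

lemma plusθ_mk (v : plusV E₀ ℓ₁) : plusθ hp E₀ ℓ₁ (plusMk hp E₀ ℓ₁ v) = ℓ₁.θ v.1.2 := rfl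

lemma exists_section : ∃ s : B₀ →ₗ[k] E₀.E, ∀ b, E₀.proj (s b) = b := by
  obtain ⟨s, hs⟩ := LinearMap.exists_rightInverse_of_surjective E₀.proj.toLinearMap
    (LinearMap.range_eq_top.2 E₀.isExtension.proj_surjective)
  exact ⟨s, fun b => LinearMap.congr_fun hs b⟩

/-- `plus ≅ B'₁` as `C'`-modules, compatibly with the reductions. -/
theorem exists_plus_linearMap : ∃ Ξ : ℓ₁.𝔅'.B →ₗ[C'] plusRing hp E₀ ℓ₁, Function.Bijective Ξ ∧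
    ∀ b, plusθ hp E₀ ℓ₁ (Ξ b) = ℓ₁.θ b := by
  obtain ⟨s, hs⟩ := exists_section E₀
  have hmem : ∀ b : ℓ₁.𝔅'.B, ((s (ℓ₁.𝔅'.π b), b) : E₀.E × ℓ₁.𝔅'.B) ∈ plusV E₀ ℓ₁ := by
    intro b
    rw [mem_plusV]
    exact hs _
  let Ξ : ℓ₁.𝔅'.B →ₗ[C'] plusRing hp E₀ ℓ₁ :=
    { toFun := fun b => plusMk hp E₀ ℓ₁ ⟨(s (ℓ₁.𝔅'.π b), b), hmem b⟩
      map_add' := fun x y => by
        rw [← map_add]
        congr 1
        apply Subtype.ext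
        apply Prod.ext
        · change s (ℓ₁.𝔅'.π (x + y)) = s (ℓ₁.𝔅'.π x) + s (ℓ₁.𝔅'.π y)
          rw [map_add, map_add]
        · rfl
      map_smul' := fun c x => by
        have e : ∀ z : plusRing hp E₀ ℓ₁, c • z = algebraMap C' (plusRing hp E₀ ℓ₁) c * z :=
          fun z => Algebra.smul_def c z
        rw [RingHom.id_apply, e, plus_algebraMap, ← map_mul]
        congr 1
        apply Subtype.ext
        apply Prod.ext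
        · change s (ℓ₁.𝔅'.π (c • x)) = algebraMap k E₀.E (C'.res c) * s (ℓ₁.𝔅'.π x)
          rw [AlgDef.π_smul, map_smul, Algebra.smul_def]
        · change c • x = algebraMap C' ℓ₁.𝔅'.B c * x
          rw [Algebra.smul_def] }
  have hΞ : ∀ b, Ξ b = plusMk hp E₀ ℓ₁ ⟨(s (ℓ₁.𝔅'.π b), b), hmem b⟩ := fun b => rfl
  refine ⟨Ξ, ⟨?_, ?_⟩, fun b => rfl⟩
  · rw [injective_iff_map_eq_zero]
    intro b hb
    rw [hΞ, plusMk_eq_zero_iff] at hb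
    obtain ⟨n, hn⟩ := hb
    have h1 : E₀.incl n = s (ℓ₁.𝔅'.π b) := congrArg (fun v : plusV E₀ ℓ₁ => v.1.1) hn
    have h2 : - ℓ₁.nu hp n = b := congrArg (fun v : plusV E₀ ℓ₁ => v.1.2) hn
    have h3 : ℓ₁.𝔅'.π b = 0 := by rw [← h2, map_neg, Lift.π_nu, neg_zero]
    rw [h3, map_zero] at h1
    have h4 : n = 0 := E₀.isExtension.incl_injective (by rw [h1, map_zero])
    rw [← h2, h4, map_zero, neg_zero]
  · intro z
    obtain ⟨v, rfl⟩ := plusMk_surjective hp E₀ ℓ₁ z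
    have h1 : E₀.proj (v.1.1 - s (ℓ₁.𝔅'.π v.1.2)) = 0 := by
      rw [map_sub, hs, plusV_cond, sub_self]
    obtain ⟨n, hn⟩ := (E₀.isExtension.exact _).1 h1
    refine ⟨v.1.2 + ℓ₁.nu hp n, ?_⟩
    rw [hΞ, ← sub_eq_zero, ← map_sub, plusMk_eq_zero_iff]
    refine ⟨-n, ?_⟩
    apply Subtype.ext
    apply Prod.ext
    · change E₀.incl (-n) = s (ℓ₁.𝔅'.π (v.1.2 + ℓ₁.nu hp n)) - v.1.1
      rw [map_neg, hn, map_add, Lift.π_nu, add_zero]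
      ring
    · change - ℓ₁.nu hp (-n) = v.1.2 + ℓ₁.nu hp n - v.1.2
      rw [map_neg]
      ring

lemma map_mem_map_of_linearMap {R M N : Type*} [CommRing R] [CommRing M] [CommRing N] [Algebra R M] [Algebra R N]
    (Ξ : M →ₗ[R] N) (I : Ideal R) (x : M) (hx : x ∈ I.map (algebraMap R M)) :
    Ξ x ∈ I.map (algebraMap R N) := by
  have hx' : x ∈ I • (⊤ : Submodule R M) := by
    rw [Ideal.smul_top_eq_map, Submodule.restrictScalars_mem]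
    exact hx
  have h3 : Ξ x ∈ I • (⊤ : Submodule R N) := by
    refine Submodule.smul_induction_on (p := fun x : M => Ξ x ∈ I • (⊤ : Submodule R N)) hx' ?_ ?_
    · intro m hm y _
      rw [map_smul]
      exact Submodule.smul_mem_smul hm trivial
    · intro y z hy hz
      rw [map_add]
      exact Submodule.add_mem _ hy hz
  rw [Ideal.smul_top_eq_map, Submodule.restrictScalars_mem] at h3
  exact h3

lemma plusθ_surjective : Function.Surjective (plusθ hp E₀ ℓ₁) := by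
  intro b
  obtain ⟨b', rfl⟩ := ℓ₁.hθ b
  obtain ⟨e, he⟩ := E₀.isExtension.proj_surjective (ℓ₁.𝔅'.π b')
  exact ⟨plusMk hp E₀ ℓ₁ ⟨(e, b'), he⟩, rfl⟩

instance plus_flat : Module.Flat C' (plusRing hp E₀ ℓ₁) := by
  obtain ⟨Ξ, hΞ, -⟩ := exists_plus_linearMap hp E₀ ℓ₁
  exact Module.Flat.of_linearEquiv (LinearEquiv.ofBijective Ξ hΞ).symm

/-- The deformation underlying the sum. -/
@[reducible] noncomputable def plusAlgDef : AlgDef B₀ C' where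
  B := plusRing hp E₀ ℓ₁
  flat := plus_flat hp E₀ ℓ₁
  π := 𝔅.π.comp (plusθ hp E₀ ℓ₁)
  comm := fun c => by
    change 𝔅.π (plusθ hp E₀ ℓ₁ (algebraMap C' (plusRing hp E₀ ℓ₁) c)) = _
    rw [plus_algebraMap, plusθ_mk, plusι_snd, ℓ₁.hθπ, ℓ₁.𝔅'.comm]
  surj := 𝔅.surj.comp (plusθ_surjective hp E₀ ℓ₁)
  ker_le := by
    intro z hz
    obtain ⟨Ξ, hΞ, hΞθ⟩ := exists_plus_linearMap hp E₀ ℓ₁
    obtain ⟨b, rfl⟩ := hΞ.2 z
    have h1 : ℓ₁.𝔅'.π b = 0 := by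
      rw [← ℓ₁.hθπ, ← hΞθ]
      exact hz
    have h2 : b ∈ (IsLocalRing.maximalIdeal C').map (algebraMap C' ℓ₁.𝔅'.B) := by
      rw [← ℓ₁.𝔅'.ker_eq]
      exact h1
    exact map_mem_map_of_linearMap Ξ _ b h2

/-- The sum of an extension and a lift. -/
@[reducible] noncomputable def Lift.plus : Lift 𝔅 p where
  𝔅' := plusAlgDef hp E₀ ℓ₁
  θ := plusθ hp E₀ ℓ₁
  hθA := fun c => by
    change plusθ hp E₀ ℓ₁ (algebraMap C' (plusRing hp E₀ ℓ₁) c) = _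
    rw [plus_algebraMap, plusθ_mk, plusι_snd, ℓ₁.hθA]
  hθπ := fun b => rfl
  hθ := plusθ_surjective hp E₀ ℓ₁
  hker := by
    intro z hz
    obtain ⟨Ξ, hΞ, hΞθ⟩ := exists_plus_linearMap hp E₀ ℓ₁
    obtain ⟨b, rfl⟩ := hΞ.2 z
    have h1 : ℓ₁.θ b = 0 := by
      rw [← hΞθ]
      exact hz
    exact map_mem_map_of_linearMap Ξ _ b (ℓ₁.hker h1)

lemma plus_π_mk (v : plusV E₀ ℓ₁) : (Lift.plus hp E₀ ℓ₁).𝔅'.π (plusMk hp E₀ ℓ₁ v) = ℓ₁.𝔅'.π v.1.2 :=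
  ℓ₁.hθπ _

/-- `n ↦ [(0, ν₁ n)]`. -/
noncomputable def plusZeroNu : B₀ ⊗[k] kerIdeal p →+ plusRing hp E₀ ℓ₁ :=
  (plusMk hp E₀ ℓ₁).toAddMonoidHom.comp
    { toFun := fun n => (⟨(0, ℓ₁.nu hp n), by
        rw [mem_plusV]
        change E₀.proj 0 = ℓ₁.𝔅'.π (ℓ₁.nu hp n)
        rw [map_zero, Lift.π_nu]⟩ : plusV E₀ ℓ₁)
      map_zero' := by
        apply Subtype.ext
        apply Prod.ext
        · rfl
        · exact map_zero (ℓ₁.nu hp)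
      map_add' := fun x y => by
        apply Subtype.ext
        apply Prod.ext
        · exact (add_zero (0 : E₀.E)).symm
        · exact map_add (ℓ₁.nu hp) x y }

lemma plusZeroNu_apply (n : B₀ ⊗[k] kerIdeal p) (h) :
    plusZeroNu hp E₀ ℓ₁ n = plusMk hp E₀ ℓ₁ ⟨(0, ℓ₁.nu hp n), h⟩ := rfl

/-- `ν` of the sum. -/
lemma plus_nu (n : B₀ ⊗[k] kerIdeal p) : (Lift.plus hp E₀ ℓ₁).nu hp n = plusZeroNu hp E₀ ℓ₁ n := by
  induction n using TensorProduct.induction_on with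
  | zero => rw [map_zero, map_zero]
  | tmul b₀ j =>
    obtain ⟨z, rfl⟩ := (Lift.plus hp E₀ ℓ₁).𝔅'.surj b₀
    obtain ⟨v, rfl⟩ := plusMk_surjective hp E₀ ℓ₁ z
    rw [Lift.nu_tmul]
    have e : ∀ z : plusRing hp E₀ ℓ₁, (j : C') • z = algebraMap C' (plusRing hp E₀ ℓ₁) j * z :=
      fun z => Algebra.smul_def _ z
    have e' : (j : C') • plusMk hp E₀ ℓ₁ v =
        algebraMap C' (plusRing hp E₀ ℓ₁) j * plusMk hp E₀ ℓ₁ v := e _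
    change (j : C') • plusMk hp E₀ ℓ₁ v = _
    rw [e', plus_algebraMap, ← map_mul, plus_π_mk]
    change _ = plusMk hp E₀ ℓ₁ _
    congr 1
    apply Subtype.ext
    apply Prod.ext
    · change algebraMap k E₀.E (C'.res j) * v.1.1 = 0
      rw [(Art.mem_maximalIdeal_iff C' _).1 (kerIdeal_le p j.2), map_zero, zero_mul]
    · change algebraMap C' ℓ₁.𝔅'.B j * v.1.2 = ℓ₁.nu hp (ℓ₁.𝔅'.π v.1.2 ⊗ₜ j)
      rw [Lift.nu_tmul, Algebra.smul_def]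
  | add x y hx hy => rw [map_add, map_add, hx, hy]

/-- `[(incl n, 0)] = [(0, ν₁ n)]`. -/
lemma plusMk_incl_zero (n : B₀ ⊗[k] kerIdeal p) (h) :
    plusMk hp E₀ ℓ₁ ⟨(E₀.incl n, 0), h⟩ = plusZeroNu hp E₀ ℓ₁ n := by
  rw [← sub_eq_zero]
  change plusMk hp E₀ ℓ₁ _ - plusMk hp E₀ ℓ₁ _ = 0
  rw [← map_sub, plusMk_eq_zero_iff]
  refine ⟨n, ?_⟩
  apply Subtype.ext
  apply Prod.ext
  · change E₀.incl n = E₀.incl n - 0
    rw [sub_zero]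
  · change - ℓ₁.nu hp n = 0 - ℓ₁.nu hp n
    rw [zero_sub]

/-- The sum respects equivalences of extensions. -/
theorem plus_rel_of_equiv (E₁ : Exal.Ext k B₀ (B₀ ⊗[k] kerIdeal p)) (e : E₀.Equiv E₁) :
    Lift.Rel (Lift.plus hp E₀ ℓ₁) (Lift.plus hp E₁ ℓ₁) := by
  let f : plusV E₀ ℓ₁ →+* plusV E₁ ℓ₁ :=
    RingHom.codRestrict ((RingHom.prodMap (e.toAlgEquiv : E₀.E →+* E₁.E) (RingHom.id ℓ₁.𝔅'.B)).comp
      (plusV E₀ ℓ₁).subtype) (plusV E₁ ℓ₁) (fun v => by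
        rw [mem_plusV]
        change E₁.proj (e.toAlgEquiv v.1.1) = ℓ₁.𝔅'.π v.1.2
        rw [e.proj_apply, plusV_cond])
  have hf1 : ∀ v, (f v).1.1 = e.toAlgEquiv v.1.1 := fun v => rfl
  have hf2 : ∀ v, (f v).1.2 = v.1.2 := fun v => rfl
  let φ : plusRing hp E₀ ℓ₁ →+* plusRing hp E₁ ℓ₁ :=
    Ideal.Quotient.lift (plusNabla hp E₀ ℓ₁) ((plusMk hp E₁ ℓ₁).comp f) (by
      rintro _ ⟨n, rfl⟩
      change plusMk hp E₁ ℓ₁ (f (plusDelta hp E₀ ℓ₁ n)) = 0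
      rw [plusMk_eq_zero_iff]
      refine ⟨n, ?_⟩
      apply Subtype.ext
      apply Prod.ext
      · change E₁.incl n = e.toAlgEquiv (E₀.incl n)
        rw [e.apply_incl]
      · rfl)
  have hφ : ∀ v, φ (plusMk hp E₀ ℓ₁ v) = plusMk hp E₁ ℓ₁ (f v) := fun v => rfl
  refine Lift.rel_of_hom _ _ φ ?_ ?_
  · intro c
    change φ (plusMk hp E₀ ℓ₁ (plusι E₀ ℓ₁ c)) = plusMk hp E₁ ℓ₁ (plusι E₁ ℓ₁ c)
    rw [hφ]
    congr 1
    apply Subtype.ext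
    apply Prod.ext
    · change e.toAlgEquiv (algebraMap k E₀.E (C'.res c)) = algebraMap k E₁.E (C'.res c)
      exact AlgEquiv.commutes _ _
    · rfl
  · intro z
    obtain ⟨v, rfl⟩ := plusMk_surjective hp E₀ ℓ₁ z
    rfl

end Plus

end Groth.Agent.Lib.Helper1.AffDef
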