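import Groth.Agent.Lib.Helper1.AffDefUnobs

/-!
# Presentation data of an algebraic deformation (helper1)

For `𝔅 : AlgDef B₀ A` and a presentation `P` of `B₀`: lifts `y_i` of the generators and lifts `F_s` of the relations,
with the consequences of flatness (`ker ev = (F)`, relations lift, relations reducing to zero are negligible).
-/

universe u
open CategoryTheory CategoryTheory.Limits AlgebraicGeometry TensorProduct
open ArtFun ArtFun.Art

namespace Groth.Agent.Lib.Helper1.AffDef

variable {Λ k : Type u} [CommRing Λ] [Field k] [Algebra Λ k]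
  {B₀ : Type u} [CommRing B₀] [Algebra k B₀] {ι σ : Type u}
  (P : Algebra.Presentation k B₀ ι σ) {A : Art Λ k}

/-- lifts of the generators and relations of a presentation to a deformation -/
structure PresData (𝔅 : AlgDef B₀ A) where
  y : ι → 𝔅.B
  hy : ∀ i, 𝔅.π (y i) = P.val i
  F : σ → MvPolynomial ι A
  hFred : ∀ s, MvPolynomial.map (A.res : A →+* k) (F s) = CotT.rel P s
  hFev : ∀ s, MvPolynomial.aeval y (F s) = 0

namespace PresData

variable {P} {𝔅 : AlgDef B₀ A}

/-- reduction of polynomials -/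
noncomputable abbrev red (P : Algebra.Presentation k B₀ ι σ) (A : Art Λ k) :
    MvPolynomial ι A →+* P.toExtension.Ring :=
  MvPolynomial.map (A.res : A →+* k)

lemma red_surjective : Function.Surjective (red P A) := MvPolynomial.map_surjective _ A.res_surjective

lemma ker_red : RingHom.ker (red P A) = (IsLocalRing.maximalIdeal A).map (algebraMap A (MvPolynomial ι A)) := by
  change RingHom.ker (MvPolynomial.map (A.res : A →+* k)) = _
  rw [MvPolynomial.ker_map, AlgDef.ker_res, MvPolynomial.algebraMap_eq]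

variable (pd : PresData P 𝔅)

/-- evaluation at the lifted generators -/
noncomputable def ev : MvPolynomial ι A →ₐ[A] 𝔅.B := MvPolynomial.aeval pd.y

/-- the structure map of the presentation -/
noncomputable abbrev ev₀ (P : Algebra.Presentation k B₀ ι σ) : P.toExtension.Ring →+* B₀ :=
  algebraMap P.toExtension.Ring B₀

lemma ev₀_surjective : Function.Surjective (ev₀ P) := P.toExtension.algebraMap_surjective

lemma ker_ev₀ : RingHom.ker (ev₀ P) = Ideal.span (Set.range (CotT.rel P)) :=
  P.span_range_relation_eq_ker.symm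

lemma hcomp (x : MvPolynomial ι A) : 𝔅.π (pd.ev x) = ev₀ P (red P A x) := by
  have hcomp' : 𝔅.π.comp pd.ev.toRingHom = (ev₀ P).comp (red P A) := by
    apply MvPolynomial.ringHom_ext
    · intro a
      change 𝔅.π (MvPolynomial.aeval pd.y (MvPolynomial.C a)) =
        algebraMap P.Ring B₀ (MvPolynomial.map (A.res : A →+* k) (MvPolynomial.C a))
      rw [MvPolynomial.aeval_C, 𝔅.comm, MvPolynomial.map_C, Algebra.Generators.algebraMap_apply,
        MvPolynomial.aeval_C]
      rfl
    · intro i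
      change 𝔅.π (MvPolynomial.aeval pd.y (MvPolynomial.X i)) =
        algebraMap P.Ring B₀ (MvPolynomial.map (A.res : A →+* k) (MvPolynomial.X i))
      rw [MvPolynomial.aeval_X, pd.hy, MvPolynomial.map_X, Algebra.Generators.algebraMap_apply,
        MvPolynomial.aeval_X]
  exact congrArg (fun m => m x) hcomp'

lemma ev_surjective : Function.Surjective pd.ev :=
  AffDef.ev_surjective (IsLocalRing.maximalIdeal A) (isNilpotent_maximalIdeal A) pd.ev (red P A) 𝔅.π (ev₀ P)
    red_surjective 𝔅.surj 𝔅.ker_eq ev₀_surjective pd.hcomp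

lemma ker_ev : RingHom.ker pd.ev.toRingHom = Ideal.span (Set.range pd.F) :=
  ker_ev_eq (IsLocalRing.maximalIdeal A) (isNilpotent_maximalIdeal A) pd.ev (red P A) 𝔅.π (ev₀ P)
    red_surjective ker_red 𝔅.surj 𝔅.ker_eq ev₀_surjective pd.hcomp (CotT.rel P) ker_ev₀ pd.F pd.hFred pd.hFev

lemma exists_rel_lift (r₀ : σ →₀ P.toExtension.Ring) (hr₀ : Finsupp.linearCombination _ (CotT.rel P) r₀ = 0) :
    ∃ r : σ →₀ MvPolynomial ι A, Finsupp.mapRange (red P A) (map_zero _) r = r₀ ∧
      Finsupp.linearCombination _ pd.F r = 0 :=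
  AffDef.exists_rel_lift (IsLocalRing.maximalIdeal A) (isNilpotent_maximalIdeal A) pd.ev (red P A) 𝔅.π (ev₀ P)
    red_surjective ker_red 𝔅.surj 𝔅.ker_eq ev₀_surjective pd.hcomp (CotT.rel P) ker_ev₀ pd.F pd.hFred pd.hFev
    r₀ hr₀

lemma rel_ker (r : σ →₀ MvPolynomial ι A) (hr : Finsupp.linearCombination _ pd.F r = 0)
    (hr0 : Finsupp.mapRange (red P A) (map_zero _) r = 0)
    {X : Type*} [AddCommGroup X] (φ : ↥(LinearMap.ker (Finsupp.linearCombination (MvPolynomial ι A) pd.F)) →+ X)
    (hφ : ∀ a ∈ IsLocalRing.maximalIdeal A, ∀ ρ, φ (algebraMap A (MvPolynomial ι A) a • ρ) = 0) :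
    φ ⟨r, hr⟩ = 0 :=
  AffDef.rel_ker (IsLocalRing.maximalIdeal A) (isNilpotent_maximalIdeal A) pd.ev (red P A) 𝔅.π (ev₀ P)
    red_surjective ker_red 𝔅.surj 𝔅.ker_eq ev₀_surjective pd.hcomp (CotT.rel P) ker_ev₀ pd.F pd.hFred pd.hFev
    r hr hr0 φ hφ

/-- the coefficient map `A[X] → B₀` -/
noncomputable abbrev ε (P : Algebra.Presentation k B₀ ι σ) (A : Art Λ k) : MvPolynomial ι A →+* B₀ :=
  (ev₀ P).comp (red P A)

lemma ε_F (s : σ) : ε P A (pd.F s) = 0 := by
  change ev₀ P (red P A (pd.F s)) = 0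
  have h : red P A (pd.F s) = CotT.rel P s := pd.hFred s
  rw [h, ← RingHom.mem_ker, ker_ev₀]
  exact Ideal.subset_span ⟨s, rfl⟩

lemma ε_surjective : Function.Surjective (ε P A) := ev₀_surjective.comp red_surjective

lemma ε_C (a : A) : ε P A (MvPolynomial.C a) = algebraMap k B₀ (A.res a) := by
  change algebraMap P.Ring B₀ (MvPolynomial.map (A.res : A →+* k) (MvPolynomial.C a)) = _
  rw [MvPolynomial.map_C, Algebra.Generators.algebraMap_apply, MvPolynomial.aeval_C]
  rfl

end PresData

theorem exists_presData_of_y (𝔅 : AlgDef B₀ A) (y : ι → 𝔅.B) (hy : ∀ i, 𝔅.π (y i) = P.val i) :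
    ∃ pd : PresData P 𝔅, pd.y = y := by
  let ev : MvPolynomial ι A →ₐ[A] 𝔅.B := MvPolynomial.aeval y
  have hcomp' : 𝔅.π.comp ev.toRingHom = (PresData.ev₀ P).comp (PresData.red P A) := by
    apply MvPolynomial.ringHom_ext
    · intro a
      change 𝔅.π (MvPolynomial.aeval y (MvPolynomial.C a)) =
        algebraMap P.Ring B₀ (MvPolynomial.map (A.res : A →+* k) (MvPolynomial.C a))
      rw [MvPolynomial.aeval_C, 𝔅.comm, MvPolynomial.map_C, Algebra.Generators.algebraMap_apply,
        MvPolynomial.aeval_C]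
      rfl
    · intro i
      change 𝔅.π (MvPolynomial.aeval y (MvPolynomial.X i)) =
        algebraMap P.Ring B₀ (MvPolynomial.map (A.res : A →+* k) (MvPolynomial.X i))
      rw [MvPolynomial.aeval_X, hy, MvPolynomial.map_X, Algebra.Generators.algebraMap_apply,
        MvPolynomial.aeval_X]
  have hcomp : ∀ x, 𝔅.π (ev x) = PresData.ev₀ P (PresData.red P A x) := fun x => congrArg (fun m => m x) hcomp'
  choose F hFred hFev using fun s =>
    exists_lift_gen (IsLocalRing.maximalIdeal A) (isNilpotent_maximalIdeal A) ev (PresData.red P A) 𝔅.π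
      (PresData.ev₀ P) PresData.red_surjective PresData.ker_red 𝔅.surj 𝔅.ker_eq PresData.ev₀_surjective hcomp
      (CotT.rel P) PresData.ker_ev₀ s
  exact ⟨⟨y, hy, F, hFred, hFev⟩, rfl⟩

theorem nonempty_presData (𝔅 : AlgDef B₀ A) : Nonempty (PresData P 𝔅) := by
  choose y hy using fun i => 𝔅.surj (P.val i)
  obtain ⟨pd, -⟩ := exists_presData_of_y P 𝔅 y hy
  exact ⟨pd⟩

end Groth.Agent.Lib.Helper1.AffDef
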