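import Groth.Agent.Lib.Helper1.AffDefDiff
import Groth.Agent.Lib.Helper1.AffDefDual

/-!
# Lifts of an algebraic deformation along a semismall extension form a torsor under `Exal_k(B₀, B₀ ⊗ J)` (helper1)

* `diffExt_equiv_of_rel`, `rel_plus_diff`, `equiv_diff_plus`;
* `nonempty_liftQuot_equiv`: given one lift, `{lifts}/≅ ≃ Exalcom k B₀ (B₀ ⊗ J)`.
-/

universe u
open TensorProduct ArtFun ArtFun.Art

namespace Groth.Agent.Lib.Helper1.AffDef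

section Torsor

variable {k : Type u} [Field k] {B₀ : Type u} [CommRing B₀] [Algebra k B₀] {C' C : Art k k}
  {𝔅 : AlgDef B₀ C} {p : C' ⟶ C}
variable (hp : Art.IsSemismallExt p)

/-- The difference respects isomorphisms of lifts. -/
theorem diffExt_equiv_of_rel (ℓ ℓ' ℓ₁ : Lift 𝔅 p) (h : Lift.Rel ℓ ℓ') :
    Nonempty ((diffExt hp ℓ ℓ₁).Equiv (diffExt hp ℓ' ℓ₁)) := by
  obtain ⟨e, he1, he2⟩ := h
  let f : diffW ℓ ℓ₁ →+* diffW ℓ' ℓ₁ :=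
    RingHom.codRestrict ((RingHom.prodMap (e : ℓ.𝔅'.B →+* ℓ'.𝔅'.B) (RingHom.id ℓ₁.𝔅'.B)).comp
      (diffW ℓ ℓ₁).subtype) (diffW ℓ' ℓ₁) (fun w => by
        rw [mem_diffW]
        change ℓ'.θ (e w.1.1) = ℓ₁.θ w.1.2
        rw [he2, diffW_cond])
  have hfι : ∀ c, f (diffι ℓ ℓ₁ c) = diffι ℓ' ℓ₁ c := fun c => Subtype.ext (Prod.ext (he1 c) rfl)
  have hfK : ∀ w ∈ diffK ℓ ℓ₁, ((diffMk ℓ' ℓ₁).comp f) w = 0 := by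
    intro w hw
    have : diffK ℓ ℓ₁ ≤ RingHom.ker ((diffMk ℓ' ℓ₁).comp f) := by
      unfold diffK
      rw [Ideal.map_le_iff_le_comap]
      intro m hm
      rw [Ideal.mem_comap, RingHom.mem_ker]
      change diffMk ℓ' ℓ₁ (f (diffι ℓ ℓ₁ m)) = 0
      rw [hfι, diffMk_eq_zero_iff]
      exact Ideal.mem_map_of_mem _ hm
    exact this hw
  let φ : diffRing ℓ ℓ₁ →+* diffRing ℓ' ℓ₁ := Ideal.Quotient.lift (diffK ℓ ℓ₁) ((diffMk ℓ' ℓ₁).comp f) hfK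
  have hφ : ∀ w, φ (diffMk ℓ ℓ₁ w) = diffMk ℓ' ℓ₁ (f w) := fun w => rfl
  let φₐ : (diffExt hp ℓ ℓ₁).E →ₐ[k] (diffExt hp ℓ' ℓ₁).E :=
    { φ with
      commutes' := fun x => by
        change φ (diffMk ℓ ℓ₁ (diffι ℓ ℓ₁ (algebraMap k C' x))) = diffMk ℓ' ℓ₁ (diffι ℓ' ℓ₁ (algebraMap k C' x))
        rw [hφ, hfι] }
  refine ⟨Groth.Agent.Lib.Helper1.ExalCompl.equivOfHom _ _ φₐ ?_ ?_⟩
  · intro z
    obtain ⟨w, rfl⟩ := diffMk_surjective ℓ ℓ₁ z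
    change ℓ'.𝔅'.π (e w.1.1) = ℓ.𝔅'.π w.1.1
    rw [← ℓ'.hθπ, he2, ℓ.hθπ]
  · intro n
    change φ (diffMk ℓ ℓ₁ (diffInclW hp ℓ ℓ₁ n)) = diffMk ℓ' ℓ₁ (diffInclW hp ℓ' ℓ₁ n)
    rw [hφ]
    congr 1
    apply Subtype.ext
    apply Prod.ext
    · change e (ℓ.nu hp n) = ℓ'.nu hp n
      exact Lift.nu_natural hp ℓ ℓ' e.toRingHom he1 he2 n
    · rfl

/-- A lift is the sum of its difference with `ℓ₁` and `ℓ₁`. -/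
theorem rel_plus_diff (ℓ ℓ₁ : Lift 𝔅 p) : Lift.Rel ℓ (Lift.plus hp (diffExt hp ℓ ℓ₁) ℓ₁) := by
  let g : diffW ℓ ℓ₁ →+* plusV (diffExt hp ℓ ℓ₁) ℓ₁ :=
    RingHom.codRestrict (RingHom.prod (diffMk ℓ ℓ₁ : diffW ℓ ℓ₁ →+* (diffExt hp ℓ ℓ₁).E)
      ((RingHom.snd ℓ.𝔅'.B ℓ₁.𝔅'.B).comp (diffW ℓ ℓ₁).subtype)) (plusV (diffExt hp ℓ ℓ₁) ℓ₁) (fun w => by
        change diffProj ℓ ℓ₁ (diffMk ℓ ℓ₁ w) = ℓ₁.𝔅'.π w.1.2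
        rw [diffProj_mk, diffW_π])
  let G : diffW ℓ ℓ₁ →+* plusRing hp (diffExt hp ℓ ℓ₁) ℓ₁ := (plusMk hp (diffExt hp ℓ ℓ₁) ℓ₁).comp g
  let pr₁ : diffW ℓ ℓ₁ →+* ℓ.𝔅'.B := (RingHom.fst ℓ.𝔅'.B ℓ₁.𝔅'.B).comp (diffW ℓ ℓ₁).subtype
  have hpr₁ : Function.Surjective pr₁ := diffFst_surjective ℓ ℓ₁
  have hker : RingHom.ker pr₁ ≤ RingHom.ker G := by
    intro w hw
    have hw1 : w.1.1 = 0 := hw
    have h1 : ℓ₁.θ w.1.2 = 0 := by rw [← diffW_cond, hw1, map_zero]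
    obtain ⟨m, hm⟩ := ℓ₁.exists_nu_of_θ_eq_zero hp _ h1
    have h2 : w = diffInclW' hp ℓ ℓ₁ m := Subtype.ext (Prod.ext hw1 hm.symm)
    rw [RingHom.mem_ker]
    change plusMk hp (diffExt hp ℓ ℓ₁) ℓ₁ (g w) = 0
    rw [plusMk_eq_zero_iff]
    refine ⟨-m, ?_⟩
    apply Subtype.ext
    apply Prod.ext
    · change diffIncl hp ℓ ℓ₁ (-m) = diffMk ℓ ℓ₁ w
      rw [h2, diffMk_inclW', map_neg]
    · change - ℓ₁.nu hp (-m) = w.1.2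
      rw [map_neg, neg_neg, hm]
  let φ : ℓ.𝔅'.B →+* plusRing hp (diffExt hp ℓ ℓ₁) ℓ₁ := RingHom.liftOfSurjective pr₁ hpr₁ ⟨G, hker⟩
  have hφ : ∀ w, φ (pr₁ w) = G w := fun w => RingHom.liftOfSurjective_comp_apply pr₁ hpr₁ ⟨G, hker⟩ w
  refine Lift.rel_of_hom ℓ (Lift.plus hp (diffExt hp ℓ ℓ₁) ℓ₁) φ ?_ ?_
  · intro c
    have : algebraMap C' ℓ.𝔅'.B c = pr₁ (diffι ℓ ℓ₁ c) := rfl
    rw [this, hφ]
    change plusMk hp (diffExt hp ℓ ℓ₁) ℓ₁ (g (diffι ℓ ℓ₁ c)) =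
      plusMk hp (diffExt hp ℓ ℓ₁) ℓ₁ (plusι (diffExt hp ℓ ℓ₁) ℓ₁ c)
    congr 1
    apply Subtype.ext
    apply Prod.ext
    · change diffMk ℓ ℓ₁ (diffι ℓ ℓ₁ c) = algebraMap k (diffRing ℓ ℓ₁) (C'.res c)
      exact diffMk_ι ℓ ℓ₁ c
    · rfl
  · intro b
    obtain ⟨w, rfl⟩ := hpr₁ b
    rw [hφ]
    change ℓ₁.θ w.1.2 = ℓ.θ w.1.1
    exact (diffW_cond ℓ ℓ₁ w).symm

/-- An extension is the difference of its sum with `ℓ₁` and `ℓ₁`. -/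
theorem equiv_diff_plus (E₀ : Exal.Ext k B₀ (B₀ ⊗[k] kerIdeal p)) (ℓ₁ : Lift 𝔅 p) :
    Nonempty (E₀.Equiv (diffExt hp (Lift.plus hp E₀ ℓ₁) ℓ₁)) := by
  let h : plusV E₀ ℓ₁ →+* diffW (Lift.plus hp E₀ ℓ₁) ℓ₁ :=
    RingHom.codRestrict (RingHom.prod (plusMk hp E₀ ℓ₁ : plusV E₀ ℓ₁ →+* (Lift.plus hp E₀ ℓ₁).𝔅'.B)
      ((RingHom.snd E₀.E ℓ₁.𝔅'.B).comp (plusV E₀ ℓ₁).subtype)) (diffW (Lift.plus hp E₀ ℓ₁) ℓ₁) (fun v => rfl)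
  have hh1 : ∀ v, (h v).1.1 = plusMk hp E₀ ℓ₁ v := fun v => rfl
  have hh2 : ∀ v, (h v).1.2 = v.1.2 := fun v => rfl
  have hhι : ∀ c, h (plusι E₀ ℓ₁ c) = diffι (Lift.plus hp E₀ ℓ₁) ℓ₁ c := fun c => rfl
  let H : plusV E₀ ℓ₁ →+* diffRing (Lift.plus hp E₀ ℓ₁) ℓ₁ := (diffMk (Lift.plus hp E₀ ℓ₁) ℓ₁).comp h
  let pr₁ : plusV E₀ ℓ₁ →+* E₀.E := (RingHom.fst E₀.E ℓ₁.𝔅'.B).comp (plusV E₀ ℓ₁).subtype
  have hpr₁ : Function.Surjective pr₁ := by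
    intro e
    obtain ⟨b, hb⟩ := ℓ₁.𝔅'.surj (E₀.proj e)
    exact ⟨⟨(e, b), hb.symm⟩, rfl⟩
  have key : ∀ b : ℓ₁.𝔅'.B, b ∈ (IsLocalRing.maximalIdeal C') • (⊤ : Submodule C' ℓ₁.𝔅'.B) →
      ∃ hb : ((0 : E₀.E), b) ∈ plusV E₀ ℓ₁, h ⟨(0, b), hb⟩ ∈ diffK (Lift.plus hp E₀ ℓ₁) ℓ₁ := by
    intro b hb
    refine Submodule.smul_induction_on (p := fun b : ℓ₁.𝔅'.B =>
      ∃ hb : ((0 : E₀.E), b) ∈ plusV E₀ ℓ₁, h ⟨(0, b), hb⟩ ∈ diffK (Lift.plus hp E₀ ℓ₁) ℓ₁) hb ?_ ?_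
    · intro m hm y _
      obtain ⟨e, he⟩ := E₀.isExtension.proj_surjective (ℓ₁.𝔅'.π y)
      have hmem : ((0 : E₀.E), m • y) ∈ plusV E₀ ℓ₁ := by
        rw [mem_plusV]
        change E₀.proj 0 = ℓ₁.𝔅'.π (m • y)
        rw [map_zero, AlgDef.π_smul, (Art.mem_maximalIdeal_iff C' m).1 hm, zero_smul]
      have e1 : (⟨(e, y), he⟩ : plusV E₀ ℓ₁) * plusι E₀ ℓ₁ m = ⟨(0, m • y), hmem⟩ := by
        apply Subtype.ext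
        apply Prod.ext
        · change e * algebraMap k E₀.E (C'.res m) = 0
          rw [(Art.mem_maximalIdeal_iff C' m).1 hm, map_zero, mul_zero]
        · change y * algebraMap C' ℓ₁.𝔅'.B m = m • y
          rw [Algebra.smul_def, mul_comm]
      refine ⟨hmem, ?_⟩
      rw [← e1, map_mul, hhι]
      exact Ideal.mul_mem_left _ _ (Ideal.mem_map_of_mem _ hm)
    · rintro x y ⟨hx, hx'⟩ ⟨hy, hy'⟩
      have hx0 : E₀.proj 0 = ℓ₁.𝔅'.π x := hx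
      have hy0 : E₀.proj 0 = ℓ₁.𝔅'.π y := hy
      have hmem : ((0 : E₀.E), x + y) ∈ plusV E₀ ℓ₁ := by
        rw [mem_plusV]
        change E₀.proj 0 = ℓ₁.𝔅'.π (x + y)
        rw [map_add, ← hx0, ← hy0, map_zero, add_zero]
      have e1 : (⟨(0, x), hx⟩ : plusV E₀ ℓ₁) + ⟨(0, y), hy⟩ = ⟨(0, x + y), hmem⟩ := by
        apply Subtype.ext
        exact Prod.ext (add_zero _) rfl
      refine ⟨hmem, ?_⟩
      rw [← e1, map_add]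
      exact Ideal.add_mem _ hx' hy'
  have hker : RingHom.ker pr₁ ≤ RingHom.ker H := by
    intro v hv
    have hv1 : v.1.1 = 0 := hv
    have h1 : ℓ₁.𝔅'.π v.1.2 = 0 := by rw [← plusV_cond, hv1, map_zero]
    obtain ⟨hb, hb'⟩ := key v.1.2 ((AlgDef.mem_smul_top_iff ℓ₁.𝔅' _).2 h1)
    have h2 : v = ⟨(0, v.1.2), hb⟩ := Subtype.ext (Prod.ext hv1 rfl)
    rw [RingHom.mem_ker]
    change diffMk (Lift.plus hp E₀ ℓ₁) ℓ₁ (h v) = 0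
    rw [diffMk_eq_zero_iff, h2]
    exact hb'
  let ψ : E₀.E →+* diffRing (Lift.plus hp E₀ ℓ₁) ℓ₁ := RingHom.liftOfSurjective pr₁ hpr₁ ⟨H, hker⟩
  have hψ : ∀ v, ψ (pr₁ v) = H v := fun v => RingHom.liftOfSurjective_comp_apply pr₁ hpr₁ ⟨H, hker⟩ v
  let ψₐ : E₀.E →ₐ[k] (diffExt hp (Lift.plus hp E₀ ℓ₁) ℓ₁).E :=
    { ψ with
      commutes' := fun x => by
        have e1 : algebraMap k E₀.E x = pr₁ (plusι E₀ ℓ₁ (algebraMap k C' x)) := by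
          change _ = algebraMap k E₀.E (C'.res (algebraMap k C' x))
          rw [AlgHom.commutes]
          rfl
        change ψ (algebraMap k E₀.E x) = _
        rw [e1, hψ]
        rfl }
  refine ⟨Groth.Agent.Lib.Helper1.ExalCompl.equivOfHom _ _ ψₐ ?_ ?_⟩
  · intro e
    obtain ⟨v, rfl⟩ := hpr₁ e
    change diffProj (Lift.plus hp E₀ ℓ₁) ℓ₁ (ψ (pr₁ v)) = E₀.proj v.1.1
    rw [hψ]
    change diffProj (Lift.plus hp E₀ ℓ₁) ℓ₁ (diffMk (Lift.plus hp E₀ ℓ₁) ℓ₁ (h v)) = _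
    rw [diffProj_mk, hh1, plus_π_mk, plusV_cond]
  · intro n
    have hmem : ((E₀.incl n, 0) : E₀.E × ℓ₁.𝔅'.B) ∈ plusV E₀ ℓ₁ := by
      rw [mem_plusV]
      change E₀.proj (E₀.incl n) = ℓ₁.𝔅'.π 0
      rw [proj_incl, map_zero]
    have e1 : E₀.incl n = pr₁ ⟨(E₀.incl n, 0), hmem⟩ := rfl
    change ψ (E₀.incl n) = diffIncl hp (Lift.plus hp E₀ ℓ₁) ℓ₁ n
    rw [e1, hψ, diffIncl_apply]
    change diffMk (Lift.plus hp E₀ ℓ₁) ℓ₁ (h ⟨(E₀.incl n, 0), hmem⟩) = _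
    congr 1
    apply Subtype.ext
    apply Prod.ext
    · change plusMk hp E₀ ℓ₁ ⟨(E₀.incl n, 0), hmem⟩ = (Lift.plus hp E₀ ℓ₁).nu hp n
      rw [plusMk_incl_zero, plus_nu]
    · rfl

include hp in
/-- Given one lift, the set of isomorphism classes of lifts is in bijection with `Exalcom k B₀ (B₀ ⊗ J)`. -/
theorem nonempty_liftQuot_equiv (ℓ₁ : Lift 𝔅 p) :
    Nonempty (Quotient (Lift.setoid 𝔅 p) ≃ Exal.Exalcom k B₀ (B₀ ⊗[k] kerIdeal p)) := by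
  refine ⟨quotientEquivOfRel (Lift.setoid 𝔅 p) (Exal.Ext.setoid k B₀ (B₀ ⊗[k] kerIdeal p))
    (fun ℓ E₀ => Lift.Rel (Lift.plus hp E₀ ℓ₁) ℓ) ?_ ?_ ?_⟩
  · intro ℓ
    exact ⟨diffExt hp ℓ ℓ₁, (rel_plus_diff hp ℓ ℓ₁).symm⟩
  · intro E₀
    exact ⟨Lift.plus hp E₀ ℓ₁, Lift.Rel.refl _⟩
  · intro ℓ ℓ' E₀ E₀' h h'
    constructor
    · intro hℓ
      have h1 : Lift.Rel (Lift.plus hp E₀ ℓ₁) (Lift.plus hp E₀' ℓ₁) := (h.trans hℓ).trans h'.symm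
      obtain ⟨e1⟩ := equiv_diff_plus hp E₀ ℓ₁
      obtain ⟨e2⟩ := diffExt_equiv_of_rel hp _ _ ℓ₁ h1
      obtain ⟨e3⟩ := equiv_diff_plus hp E₀' ℓ₁
      exact ⟨(e1.trans e2).trans e3.symm⟩
    · rintro ⟨e⟩
      exact (h.symm.trans (plus_rel_of_equiv hp E₀ ℓ₁ E₀' e)).trans h'

end Torsor

end Groth.Agent.Lib.Helper1.AffDef
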