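import Groth.Agent.Lib.Helper1.AffDef

/-!
# Transport of the deformation functor along an isomorphism of schemes (helper1)
-/

universe u v
open CategoryTheory CategoryTheory.Limits AlgebraicGeometry ArtFun ArtFun.Art

namespace Groth.Agent.Lib.Helper1.AffDef

variable {Λ k : Type u} [CommRing Λ] [Field k] [Algebra Λ k]

section NatBij

variable {F G : Art Λ k ⥤ Type v} (τ : ∀ A, F.obj A → G.obj A) (hτ : ∀ A, Function.Bijective (τ A))
  (hnat : ∀ {A B : Art Λ k} (g : A ⟶ B) (z : F.obj A), τ B (F.map g z) = G.map g (τ A z))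

include hτ hnat in
/-- having a hull is invariant under natural bijections -/
theorem hasHull_of_natBij (h : HasHull F) : HasHull G := by
  obtain ⟨⟨R, ξ, hv, hb⟩⟩ := h
  let ξ' : Family R.carrier R.res G :=
    { app := fun A φ => τ A (ξ.app A φ)
      natural := fun f φ => by rw [ξ.natural, hnat] }
  refine ⟨⟨R, ξ', ?_, (hτ _).comp hb⟩⟩
  intro B A μ hμ φ y hy
  obtain ⟨y', rfl⟩ := (hτ B).2 y
  have h1 : F.map μ y' = ξ.app A φ := by
    apply (hτ A).1
    rw [hnat]
    exact hy
  obtain ⟨ψ, hψ1, hψ2⟩ := hv μ hμ φ y' h1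
  exact ⟨ψ, hψ1, congrArg (τ B) hψ2⟩

end NatBij

section Transport

variable {X Y : Scheme.{u}} {x : X ⟶ specPt k} {y : Y ⟶ specPt k} (e : Y ≅ X) (he : e.hom ≫ x = y)

/-- transport of a deformation along an isomorphism of the closed fibre -/
@[reducible] noncomputable def DefSch.transport {A : Art Λ k} (ξ : DefSch X x A) : DefSch Y y A where
  total := ξ.total
  f := ξ.f
  flat := ξ.flat
  i := e.hom ≫ ξ.i
  isPullback := by
    refine IsPullback.of_iso ξ.isPullback e.symm (Iso.refl _) (Iso.refl _) (Iso.refl _) ?_ ?_ ?_ ?_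
    · simp
    · simp [← he]
    · simp
    · simp

/-- transport respects isomorphisms -/
noncomputable def DefSch.transportIso {A : Art Λ k} {ξ ξ' : DefSch X x A} (i : ξ.Iso ξ') :
    (DefSch.transport e he ξ).Iso (DefSch.transport e he ξ') where
  iso := i.iso
  hom_f := i.hom_f
  i_hom := by
    change (e.hom ≫ ξ.i) ≫ i.iso.hom = e.hom ≫ ξ'.i
    rw [Category.assoc, i.i_hom]

/-- transport commutes with base change -/
noncomputable def DefSch.transportBaseChange {A B : Art Λ k} (ξ : DefSch X x A) (g : A ⟶ B) :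
    (DefSch.transport e he (ξ.baseChange g)).Iso ((DefSch.transport e he ξ).baseChange g) where
  iso := Iso.refl _
  hom_f := Category.id_comp _
  i_hom := by
    change (e.hom ≫ (ξ.baseChange g).i) ≫ 𝟙 (pullback ξ.f (specMap g)) = _
    rw [Category.comp_id]
    apply pullback.hom_ext
    · change (e.hom ≫ (ξ.baseChange g).i) ≫ pullback.fst ξ.f (specMap g) =
        ((DefSch.transport e he ξ).baseChange g).i ≫ pullback.fst ξ.f (specMap g)
      rw [Category.assoc, DefSch.baseChange_i_fst]
      exact (DefSch.baseChange_i_fst (DefSch.transport e he ξ) g).symm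
    · change (e.hom ≫ (ξ.baseChange g).i) ≫ (ξ.baseChange g).f =
        ((DefSch.transport e he ξ).baseChange g).i ≫ ((DefSch.transport e he ξ).baseChange g).f
      rw [Category.assoc, DefSch.baseChange_i_f, DefSch.baseChange_i_f, ← Category.assoc, he]

/-- the induced map on isomorphism classes -/
noncomputable def transportCl (A : Art Λ k) : (defFunctor (Λ := Λ) X x).obj A → (defFunctor (Λ := Λ) Y y).obj A :=
  Quotient.map' (DefSch.transport e he) (fun _ _ ⟨i⟩ => ⟨DefSch.transportIso e he i⟩)

lemma transportCl_cl {A : Art Λ k} (ξ : DefSch X x A) :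
    transportCl e he A ξ.cl = (DefSch.transport e he ξ).cl := rfl

theorem transportCl_map {A B : Art Λ k} (g : A ⟶ B) (z : (defFunctor (Λ := Λ) X x).obj A) :
    transportCl e he B ((defFunctor (Λ := Λ) X x).map g z) =
      (defFunctor (Λ := Λ) Y y).map g (transportCl e he A z) := by
  obtain ⟨ξ, rfl⟩ : ∃ ξ : DefSch X x A, ξ.cl = z := Quotient.exists_rep z
  rw [defFunctor_map_cl, transportCl_cl, transportCl_cl, defFunctor_map_cl]
  exact Quotient.sound ⟨DefSch.transportBaseChange e he ξ g⟩

theorem transportCl_bijective (A : Art Λ k) : Function.Bijective (transportCl (Λ := Λ) e he A) := by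
  have he' : e.symm.hom ≫ y = x := by rw [← he, Iso.symm_hom, Iso.inv_hom_id_assoc]
  refine Function.bijective_iff_has_inverse.2 ⟨transportCl e.symm he' A, fun z => ?_, fun z => ?_⟩
  · obtain ⟨ξ, rfl⟩ : ∃ ξ : DefSch X x A, ξ.cl = z := Quotient.exists_rep z
    rw [transportCl_cl, transportCl_cl]
    refine Quotient.sound ⟨⟨Iso.refl _, Category.id_comp _, ?_⟩⟩
    change (e.symm.hom ≫ e.hom ≫ ξ.i) ≫ 𝟙 _ = ξ.i
    rw [Category.comp_id, Iso.symm_hom, Iso.inv_hom_id_assoc]
  · obtain ⟨ξ, rfl⟩ : ∃ ξ : DefSch Y y A, ξ.cl = z := Quotient.exists_rep z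
    rw [transportCl_cl, transportCl_cl]
    refine Quotient.sound ⟨⟨Iso.refl _, Category.id_comp _, ?_⟩⟩
    change (e.hom ≫ e.symm.hom ≫ ξ.i) ≫ 𝟙 _ = ξ.i
    rw [Category.comp_id, Iso.symm_hom, Iso.hom_inv_id_assoc]

include he in
/-- the deformation functors of isomorphic schemes have a hull simultaneously -/
theorem hasHull_of_iso (h : HasHull (defFunctor (Λ := Λ) X x)) : HasHull (defFunctor (Λ := Λ) Y y) :=
  hasHull_of_natBij (transportCl e he) (transportCl_bijective e he) (transportCl_map e he) h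

end Transport

end Groth.Agent.Lib.Helper1.AffDef
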