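import Mathlib

/-!
# The Galois action on `A ⊗[k] K` (helper1)

For a Galois extension `K/k` (possibly infinite) and a `k`-algebra `A`, the group `Gal(K/k)` acts on
`A ⊗[k] K` through the second factor.  Stabilisers of elements are open, the ring of invariants is
`A`, and hence (Mathlib's profinite transitivity) the group acts transitively on the primes of
`A ⊗[k] K` over a given prime of `A`.
-/

set_option autoImplicit false
set_option linter.style.haveILetI false
set_option linter.unusedSectionVars false

universe u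

open TensorProduct

namespace Groth.Agent.Lib.Helper1.GalRing

variable (k : Type u) [Field k] (A : Type u) [CommRing A] [Algebra k A]
  (K : Type u) [Field K] [Algebra k K]

/-- `σ ↦ id ⊗ σ` -/
noncomputable def actHom : Gal(K/k) →* (A ⊗[k] K ≃ₐ[A] A ⊗[k] K) where
  toFun σ := Algebra.TensorProduct.congr (AlgEquiv.refl : A ≃ₐ[A] A) σ
  map_one' := by
    apply AlgEquiv.coe_algHom_injective
    apply Algebra.TensorProduct.ext'
    intro a c
    simp
  map_mul' σ τ := by
    apply AlgEquiv.coe_algHom_injective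
    apply Algebra.TensorProduct.ext'
    intro a c
    simp

/-- the action of `Gal(K/k)` on `A ⊗[k] K` -/
noncomputable def galAction : MulSemiringAction Gal(K/k) (A ⊗[k] K) :=
  MulSemiringAction.compHom _ (actHom k A K)

attribute [local instance] galAction

theorem smul_def (σ : Gal(K/k)) (b : A ⊗[k] K) :
    σ • b = Algebra.TensorProduct.congr (AlgEquiv.refl : A ≃ₐ[A] A) σ b := rfl

@[simp]
theorem smul_tmul (σ : Gal(K/k)) (a : A) (c : K) : σ • (a ⊗ₜ[k] c) = a ⊗ₜ[k] σ c := by
  rw [smul_def]; simp

theorem smulCommClass : SMulCommClass Gal(K/k) A (A ⊗[k] K) :=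
  ⟨fun σ a b => by rw [smul_def, smul_def, map_smul]⟩

attribute [local instance] smulCommClass

/-- stabilisers are open (for algebraic `K/k`) -/
theorem stabilizer_isOpen [Algebra.IsIntegral k K] (b : A ⊗[k] K) :
    IsOpen (MulAction.stabilizer Gal(K/k) b : Set Gal(K/k)) := by
  induction b using TensorProduct.induction_on with
  | zero =>
    have : MulAction.stabilizer Gal(K/k) (0 : A ⊗[k] K) = ⊤ := by
      ext σ; simp
    rw [this]; exact isOpen_univ
  | tmul a c =>
    refine Subgroup.isOpen_mono (H₁ := MulAction.stabilizer Gal(K/k) c) ?_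
      (stabilizer_isOpen_of_isIntegral c)
    intro σ hσ
    rw [MulAction.mem_stabilizer_iff] at hσ ⊢
    rw [smul_tmul]
    congr 1
  | add x y hx hy =>
    refine Subgroup.isOpen_mono
      (H₁ := MulAction.stabilizer Gal(K/k) x ⊓ MulAction.stabilizer Gal(K/k) y) ?_ (hx.inter hy)
    intro σ hσ
    rw [Subgroup.mem_inf, MulAction.mem_stabilizer_iff, MulAction.mem_stabilizer_iff] at hσ
    rw [MulAction.mem_stabilizer_iff, smul_add, hσ.1, hσ.2]

/-- the coordinate map `A ⊗[k] K → (ι →₀ K)` for a `k`-basis of `A` -/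
noncomputable def coord {ι : Type*} (𝔟 : Module.Basis ι k A) : A ⊗[k] K →ₗ[k] (ι →₀ K) :=
  ((Algebra.TensorProduct.basis K 𝔟).repr.toLinearMap.restrictScalars k).comp
    (Algebra.TensorProduct.comm k A K).toLinearMap

theorem coord_tmul {ι : Type*} (𝔟 : Module.Basis ι k A) (a : A) (c : K) (i : ι) :
    coord k A K 𝔟 (a ⊗ₜ c) i = c * algebraMap k K (𝔟.repr a i) := by
  simp [coord]

theorem coord_injective {ι : Type*} (𝔟 : Module.Basis ι k A) :
    Function.Injective (coord k A K 𝔟) := by
  unfold coord
  intro x y h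
  have h' : (Algebra.TensorProduct.basis K 𝔟).repr ((Algebra.TensorProduct.comm k A K) x) =
      (Algebra.TensorProduct.basis K 𝔟).repr ((Algebra.TensorProduct.comm k A K) y) := h
  exact (Algebra.TensorProduct.comm k A K).injective
    ((Algebra.TensorProduct.basis K 𝔟).repr.injective h')

theorem coord_smul {ι : Type*} (𝔟 : Module.Basis ι k A) (σ : Gal(K/k)) (x : A ⊗[k] K) (i : ι) :
    coord k A K 𝔟 (σ • x) i = σ (coord k A K 𝔟 x i) := by
  induction x using TensorProduct.induction_on with
  | zero => simp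
  | tmul a c => rw [smul_tmul, coord_tmul, coord_tmul, map_mul, AlgEquiv.commutes]
  | add x y hx hy => rw [smul_add, map_add, map_add, Finsupp.add_apply, Finsupp.add_apply, hx, hy,
      map_add]

/-- the invariants of `A ⊗[k] K` are `A` -/
theorem isInvariant [IsGalois k K] : Algebra.IsInvariant A (A ⊗[k] K) Gal(K/k) := by
  constructor
  intro b hb
  let 𝔟 := Module.Free.chooseBasis k A
  have hfix : ∀ i, coord k A K 𝔟 b i ∈ Set.range (algebraMap k K) := by
    intro i
    rw [InfiniteGalois.mem_range_algebraMap_iff_fixed]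
    intro σ
    rw [← coord_smul, hb σ]
  have h0 : Function.invFun (algebraMap k K) 0 = 0 := by
    simpa using Function.leftInverse_invFun (algebraMap k K).injective 0
  let c' : Module.Free.ChooseBasisIndex k A →₀ k :=
    (coord k A K 𝔟 b).mapRange (Function.invFun (algebraMap k K)) h0
  refine ⟨𝔟.repr.symm c', ?_⟩
  apply coord_injective k A K 𝔟
  ext i
  rw [Algebra.TensorProduct.algebraMap_apply, Algebra.algebraMap_self, RingHom.id_apply,
    coord_tmul, one_mul, LinearEquiv.apply_symm_apply, Finsupp.mapRange_apply]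
  exact Function.invFun_eq (hfix i)

/-- **Transitivity.** Two primes of `A ⊗[k] K` with the same contraction to `A` are conjugate. -/
theorem exists_smul_eq [IsGalois k K] (P Q : Ideal (A ⊗[k] K)) [P.IsPrime] [Q.IsPrime]
    (h : P.comap (algebraMap A (A ⊗[k] K)) = Q.comap (algebraMap A (A ⊗[k] K))) :
    ∃ σ : Gal(K/k), Q = P.comap
      (Algebra.TensorProduct.map (AlgHom.id A A) (σ : K →ₐ[k] K)).toRingHom := by
  letI : TopologicalSpace (A ⊗[k] K) := ⊥
  haveI : DiscreteTopology (A ⊗[k] K) := ⟨rfl⟩
  haveI : ContinuousSMul Gal(K/k) (A ⊗[k] K) :=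
    continuousSMul_iff_stabilizer_isOpen.mpr (stabilizer_isOpen k A K)
  haveI := isInvariant k A K
  obtain ⟨g, hg⟩ := Algebra.IsInvariant.exists_smul_of_under_eq_of_profinite
    (A := A) (B := A ⊗[k] K) (G := Gal(K/k)) P Q h
  refine ⟨g⁻¹, ?_⟩
  rw [hg, Ideal.pointwise_smul_eq_comap]
  ext x
  simp only [Ideal.mem_comap]
  have : (MulSemiringAction.toRingAut Gal(K/k) (A ⊗[k] K) g).symm x =
      (Algebra.TensorProduct.map (AlgHom.id A A) ((g⁻¹ : Gal(K/k)) : K →ₐ[k] K)).toRingHom x := by
    change g⁻¹ • x = _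
    rw [smul_def]
    rfl
  rw [this]

end Groth.Agent.Lib.Helper1.GalRing
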