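import Mathlib

/-!
# Connected components under a quotient by a profinite group action (helper1)

Abstract topological core of Stacks 04Q0.  Let a compact topological group `G` whose open subgroups
form a neighbourhood basis of `1` act continuously on a space `Y` having a basis of compact open
sets, and let `q : Y → X` be continuous, open and closed with fibres the `G`-orbits.  Then the image
of a connected component of `Y` is a connected component of `X`
(`image_connectedComponent`).  No quasi-compactness of `X` or `Y` is needed: the proof is a Zorn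
argument on closed subsets `R ⊆ Y` whose translates partition `G • R`.
-/

set_option autoImplicit false
set_option linter.style.haveILetI false
set_option linter.unusedSectionVars false

open Pointwise Topology Set

namespace Groth.Agent.Lib.Helper1.GalTop

variable (G : Type*) {Y X : Type*} [Group G] [TopologicalSpace G] [IsTopologicalGroup G]
  [CompactSpace G] [TopologicalSpace Y] [MulAction G Y] [ContinuousSMul G Y] [TopologicalSpace X]

/-- the hypotheses on the quotient map -/
structure Setup (q : Y → X) : Prop where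
  cont : Continuous q
  isOpenMap : IsOpenMap q
  isClosedMap : IsClosedMap q
  inv : ∀ (g : G) (y : Y), q (g • y) = q y
  trans : ∀ y y' : Y, q y = q y' → ∃ g : G, g • y = y'
  basis : ∀ (y : Y) (O : Set Y), IsOpen O → y ∈ O → ∃ U, IsOpen U ∧ IsCompact U ∧ y ∈ U ∧ U ⊆ O
  nhds_one : ∀ N ∈ 𝓝 (1 : G), ∃ H : Subgroup G, (H : Set G) ⊆ N ∧ IsOpen (H : Set G)

variable {G} {q : Y → X}

/-- a compact open set is stabilised by an open subgroup -/
theorem exists_subgroup_smul_mem (hq : Setup G q) {U : Set Y} (hU : IsOpen U) (hUc : IsCompact U) :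
    ∃ H : Subgroup G, IsOpen (H : Set G) ∧ ∀ h ∈ H, ∀ u ∈ U, h • u ∈ U := by
  have hn : IsOpen ((fun p : G × Y => p.1 • p.2) ⁻¹' U) := hU.preimage continuous_smul
  obtain ⟨u, v, hu, -, h1u, hUv, huv⟩ :=
    generalized_tube_lemma (isCompact_singleton (x := (1 : G))) hUc hn (by
      rintro ⟨g, y⟩ ⟨hg, hy⟩
      have hg' : g = 1 := hg
      subst hg'
      simpa using hy)
  obtain ⟨H, hHN, hHo⟩ := hq.nhds_one u (hu.mem_nhds (h1u rfl))
  exact ⟨H, hHo, fun h hh y hy => huv (mk_mem_prod (hHN hh) (hUv hy))⟩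

/-- fibres of `q` are compact -/
theorem isCompact_fibre (hq : Setup G q) (x : X) : IsCompact (q ⁻¹' {x}) := by
  by_cases h : (q ⁻¹' {x}).Nonempty
  · obtain ⟨y₀, hy₀⟩ := h
    have : q ⁻¹' {x} = Set.range (fun g : G => g • y₀) := by
      ext y
      constructor
      · intro hy
        obtain ⟨g, hg⟩ := hq.trans y₀ y (hy₀.trans hy.symm)
        exact ⟨g, hg⟩
      · rintro ⟨g, rfl⟩
        change q (g • y₀) = x
        rw [hq.inv]; exact hy₀
    rw [this]
    exact isCompact_range (continuous_id.smul continuous_const)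
  · rw [Set.not_nonempty_iff_eq_empty] at h
    rw [h]; exact isCompact_empty

/-- Key local statement: if `R` is closed with translates pairwise equal or disjoint, and
`R = A ⊔ A'` with `A'` closed, then `q '' A` is open relative to `q '' R`. -/
theorem exists_open_inter_subset (hq : Setup G q) {R A A' : Set Y} (hR : IsClosed R)
    (hRg : ∀ g : G, g • R = R ∨ Disjoint (g • R) R)
    (hA' : IsClosed A') (hAA' : A ∪ A' = R) (hdisj : Disjoint A A') {z : Y} (hz : z ∈ A) :
    ∃ O : Set X, IsOpen O ∧ q z ∈ O ∧ O ∩ q '' R ⊆ q '' A := by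
  have hzA' : z ∈ A'ᶜ := fun h => Set.disjoint_left.mp hdisj hz h
  obtain ⟨U, hUo, hUc, hzU, hUA'⟩ := hq.basis z A'ᶜ hA'.isOpen_compl hzA'
  obtain ⟨H, hHo, hHU⟩ := exists_subgroup_smul_mem hq hUo hUc
  set D : Set G := {g | g • R = R} with hD
  have hHD : IsOpen ((H : Set G) * D) := hHo.mul_right
  set K : Set G := ((H : Set G) * D)ᶜ with hKdef
  have hK : IsCompact K := hHD.isClosed_compl.isCompact
  have hE : IsClosed (K • R) := hR.smul_left_of_isCompact hK
  refine ⟨q '' (U \ K • R), hq.isOpenMap _ (hUo.sdiff hE), ⟨z, ⟨hzU, ?_⟩, rfl⟩, ?_⟩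
  · rintro ⟨g, hgK, r, hr, hgr⟩
    have hzR : z ∈ R := hAA' ▸ Or.inl hz
    have hgD : g ∈ D := by
      rcases hRg g with h | h
      · exact h
      · exact (Set.disjoint_left.mp h ⟨r, hr, hgr⟩ hzR).elim
    exact hgK ⟨1, H.one_mem, g, hgD, one_mul g⟩
  · rintro x' ⟨⟨n, ⟨hnU, hnE⟩, rfl⟩, ⟨r₀, hr₀, hqr⟩⟩
    obtain ⟨g, hg⟩ := hq.trans r₀ n hqr
    have hgK : g ∉ K := fun hgK => hnE ⟨g, hgK, r₀, hr₀, hg⟩
    have hgHD : g ∈ (H : Set G) * D := not_not.mp hgK
    obtain ⟨h, hh, d, hd, rfl⟩ := hgHD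
    have hd' : d • R = R := hd
    have hr : d • r₀ ∈ R := by
      rw [← hd']
      exact Set.smul_mem_smul_set hr₀
    have hn : h • (d • r₀) = n := by rw [← mul_smul]; exact hg
    have hrU : d • r₀ ∈ U := by
      have := hHU h⁻¹ (H.inv_mem hh) n hnU
      rwa [← hn, inv_smul_smul] at this
    have hrA : d • r₀ ∈ A := by
      have h1 : d • r₀ ∈ A ∪ A' := hAA' ▸ hr
      rcases h1 with h | h
      · exact h
      · exact (hUA' hrU h).elim
    exact ⟨d • r₀, hrA, by rw [← hn, hq.inv h]⟩

/-- consequence: a preconnected subset of `q '' R` meeting `q '' A` lies in `q '' A`. -/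
theorem subset_image_of_isPreconnected (hq : Setup G q) {R A A' : Set Y} (hR : IsClosed R)
    (hRg : ∀ g : G, g • R = R ∨ Disjoint (g • R) R) (hA : IsClosed A)
    (hA' : IsClosed A') (hAA' : A ∪ A' = R) (hdisj : Disjoint A A')
    {C : Set X} (hC : IsPreconnected C) (hCR : C ⊆ q '' R) (hCA : (C ∩ q '' A).Nonempty) :
    C ⊆ q '' A := by
  choose! O hO1 hO2 hO3 using fun z (hz : z ∈ A) =>
    exists_open_inter_subset hq hR hRg hA' hAA' hdisj hz
  by_contra hcon
  obtain ⟨x₀, hx₀C, hx₀A⟩ := Set.not_subset.mp hcon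
  have hqA : IsClosed (q '' A) := hq.isClosedMap _ hA
  have := hC (⋃ z ∈ A, O z) (q '' A)ᶜ (isOpen_biUnion fun z hz => hO1 z hz) hqA.isOpen_compl
    ?_ ?_ ⟨x₀, hx₀C, hx₀A⟩
  · obtain ⟨x, hxC, hx1, hx2⟩ := this
    obtain ⟨z, hz, hxz⟩ := Set.mem_iUnion₂.mp hx1
    exact hx2 (hO3 z hz ⟨hxz, hCR hxC⟩)
  · intro x _
    by_cases h : x ∈ q '' A
    · obtain ⟨z, hz, rfl⟩ := h
      exact Or.inl (Set.mem_iUnion₂.mpr ⟨z, hz, hO2 z hz⟩)
    · exact Or.inr h
  · obtain ⟨x, hxC, z, hz, rfl⟩ := hCA
    exact ⟨q z, hxC, Set.mem_iUnion₂.mpr ⟨z, hz, hO2 z hz⟩⟩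

/-- the family of closed sets used in the Zorn argument -/
def Fam (G : Type*) [Group G] [MulAction G Y] (q : Y → X) (T : Set Y) (C : Set X) : Set (Set Y) :=
  {R | IsClosed R ∧ T ⊆ R ∧ C ⊆ q '' R ∧ ∀ g : G, g • R = R ∨ Disjoint (g • R) R}

/-- chains in `Fam` have lower bounds -/
theorem fam_chain (hq : Setup G q) (T : Set Y) (C : Set X) (c : Set (Set Y))
    (hc : c ⊆ Fam G q T C) (hchain : IsChain (· ⊆ ·) c) (hne : c.Nonempty) :
    ∃ lb ∈ Fam G q T C, ∀ s ∈ c, lb ⊆ s := by
  refine ⟨⋂₀ c, ⟨isClosed_sInter fun R hR => (hc hR).1, Set.subset_sInter fun R hR => (hc hR).2.1,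
    ?_, ?_⟩, fun s hs => Set.sInter_subset_of_mem hs⟩
  · intro x hx
    have hF := isCompact_fibre hq x
    have hfin : ∀ u : Finset c, ∃ R₀ ∈ c, R₀ ⊆ ⋂ i ∈ u, (i : Set Y) := by
      classical
      intro u
      induction u using Finset.induction_on with
      | empty =>
        obtain ⟨R₀, hR₀⟩ := hne
        exact ⟨R₀, hR₀, by simp⟩
      | insert a u _ ih =>
        obtain ⟨R₀, hR₀, hsub⟩ := ih
        rcases hchain.total hR₀ a.2 with h | h
        · refine ⟨R₀, hR₀, ?_⟩
          intro w hw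
          simp only [Finset.mem_insert, Set.iInter_iInter_eq_or_left, Set.mem_inter_iff]
          exact ⟨h hw, hsub hw⟩
        · refine ⟨a.1, a.2, ?_⟩
          intro w hw
          simp only [Finset.mem_insert, Set.iInter_iInter_eq_or_left, Set.mem_inter_iff]
          exact ⟨hw, hsub (h hw)⟩
    have := hF.inter_iInter_nonempty (fun R : c => (R : Set Y)) (fun R => (hc R.2).1) (by
      intro u
      obtain ⟨R₀, hR₀, hsub⟩ := hfin u
      obtain ⟨w, hw, hqw⟩ := (hc hR₀).2.2.1 hx
      exact ⟨w, hqw, hsub hw⟩)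
    obtain ⟨w, hwF, hw⟩ := this
    refine ⟨w, ?_, hwF⟩
    rw [Set.mem_sInter]
    intro R hR
    exact Set.mem_iInter.mp hw ⟨R, hR⟩
  · intro g
    by_cases hd : Disjoint (g • ⋂₀ c) (⋂₀ c)
    · exact Or.inr hd
    · left
      rw [Set.not_disjoint_iff] at hd
      obtain ⟨w, hw1, hw2⟩ := hd
      have hgR : ∀ R ∈ c, g • R = R := by
        intro R hR
        rcases (hc hR).2.2.2 g with h | h
        · exact h
        · exact (Set.disjoint_left.mp h
            (Set.smul_set_mono (Set.sInter_subset_of_mem hR) hw1) (Set.mem_sInter.mp hw2 R hR)).elim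
      ext v
      rw [Set.mem_smul_set_iff_inv_smul_mem, Set.mem_sInter, Set.mem_sInter]
      constructor
      · intro h R hR
        have := h R hR
        rw [← Set.mem_smul_set_iff_inv_smul_mem, hgR R hR] at this
        exact this
      · intro h R hR
        rw [← Set.mem_smul_set_iff_inv_smul_mem, hgR R hR]
        exact h R hR

/-- a minimal member of the family is preconnected: the splitting step -/
theorem fam_split (hq : Setup G q) (y : Y) {R : Set Y}
    (hRF : R ∈ Fam G q (connectedComponent y) (connectedComponent (q y)))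
    {A A' : Set Y} (hA : IsClosed A) (hA' : IsClosed A') (hAA' : A ∪ A' = R)
    (hdisj : Disjoint A A') (hyA : y ∈ A) :
    ∃ R₁ ∈ Fam G q (connectedComponent y) (connectedComponent (q y)), R₁ ⊆ A := by
  obtain ⟨hR, hTR, hCR, hRg⟩ := hRF
  -- relatively clopen subsets of `R` containing `y`
  let ι := {B : Set Y // B ⊆ R ∧ IsClosed B ∧ IsClosed (R \ B) ∧ y ∈ B}
  have hAι : A ⊆ R ∧ IsClosed A ∧ IsClosed (R \ A) ∧ y ∈ A := by
    refine ⟨hAA' ▸ Set.subset_union_left, hA, ?_, hyA⟩
    have : R \ A = A' := by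
      rw [← hAA', Set.union_diff_left]
      exact hdisj.symm.sdiff_eq_left
    rw [this]; exact hA'
  -- each member contains `connectedComponent y` and its image contains `connectedComponent (q y)`
  have hcomp : ∀ B : Set Y, B ⊆ R → IsClosed B → IsClosed (R \ B) → y ∈ B →
      connectedComponent y ⊆ B ∧ connectedComponent (q y) ⊆ q '' B := by
    intro B hBR hB hB' hyB
    have hun : B ∪ R \ B = R := Set.union_diff_cancel hBR
    constructor
    · rcases isPreconnected_iff_subset_of_disjoint_closed.mp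
        (isPreconnected_connectedComponent (x := y)) B (R \ B) hB hB' (hun.symm ▸ hTR) (by
          rw [Set.inter_diff_self, Set.inter_empty]) with h | h
      · exact h
      · exact ((h mem_connectedComponent).2 hyB).elim
    · exact subset_image_of_isPreconnected hq hR hRg hB hB' hun Set.disjoint_sdiff_right
        isPreconnected_connectedComponent hCR ⟨q y, mem_connectedComponent, y, hyB, rfl⟩
  refine ⟨⋂ B : ι, B.1, ⟨isClosed_iInter fun B => B.2.2.1, ?_, ?_, ?_⟩, ?_⟩
  · exact Set.subset_iInter fun B => (hcomp B.1 B.2.1 B.2.2.1 B.2.2.2.1 B.2.2.2.2).1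
  · intro x hx
    have hF := isCompact_fibre hq x
    have := hF.inter_iInter_nonempty (fun B : ι => B.1) (fun B => B.2.2.1) (by
      classical
      intro u
      have hu : (R ∩ ⋂ i ∈ u, (i : ι).1) ⊆ R ∧ IsClosed (R ∩ ⋂ i ∈ u, (i : ι).1) ∧
          IsClosed (R \ (R ∩ ⋂ i ∈ u, (i : ι).1)) ∧ y ∈ R ∩ ⋂ i ∈ u, (i : ι).1 := by
        refine ⟨Set.inter_subset_left, hR.inter (isClosed_biInter fun i _ => i.2.2.1), ?_,
          hTR mem_connectedComponent, Set.mem_iInter₂.mpr fun i _ => i.2.2.2.2⟩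
        have : R \ (R ∩ ⋂ i ∈ u, (i : ι).1) = ⋃ i ∈ u, R \ (i : ι).1 := by
          ext w
          simp only [Set.mem_diff, Set.mem_inter_iff, Set.mem_iInter, Set.mem_iUnion, not_and,
            not_forall, exists_prop]
          constructor
          · rintro ⟨hw, h⟩
            obtain ⟨i, hi, hwi⟩ := h hw
            exact ⟨i, hi, hw, hwi⟩
          · rintro ⟨i, hi, hw, hwi⟩
            exact ⟨hw, fun _ => ⟨i, hi, hwi⟩⟩
        rw [this]
        exact u.finite_toSet.isClosed_biUnion fun i _ => i.2.2.2.1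
      obtain ⟨w, hw, hqw⟩ := (hcomp _ hu.1 hu.2.1 hu.2.2.1 hu.2.2.2).2 hx
      exact ⟨w, hqw, hw.2⟩)
    obtain ⟨w, hwF, hw⟩ := this
    exact ⟨w, hw, hwF⟩
  · -- translates are equal or disjoint
    have hkey : ∀ g : G, g • R = R → ∀ y₁ ∈ ⋂ B : ι, B.1, g • y₁ ∈ ⋂ B : ι, B.1 →
        ∀ y₂ ∈ ⋂ B : ι, B.1, g • y₂ ∈ ⋂ B : ι, B.1 := by
      intro g hgR y₁ hy₁ hgy₁ y₂ hy₂
      rw [Set.mem_iInter]
      intro B
      have hgR' : g⁻¹ • R = R := by
        conv_lhs => rw [← hgR]
        rw [inv_smul_smul]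
      -- `g⁻¹ • B` is relatively clopen in `R`
      have h1 : g⁻¹ • B.1 ⊆ R :=
        (Set.smul_set_mono B.2.1).trans hgR'.subset
      have h2 : IsClosed (g⁻¹ • B.1) := B.2.2.1.smul g⁻¹
      have h3 : IsClosed (R \ g⁻¹ • B.1) := by
        have : R \ g⁻¹ • B.1 = g⁻¹ • (R \ B.1) := by
          rw [Set.smul_set_sdiff, hgR']
        rw [this]
        exact B.2.2.2.1.smul g⁻¹
      by_cases hy : y ∈ g⁻¹ • B.1
      · have := Set.mem_iInter.mp hy₂ ⟨g⁻¹ • B.1, h1, h2, h3, hy⟩
        rwa [Set.mem_inv_smul_set_iff] at this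
      · exfalso
        have h4 : R \ (R \ g⁻¹ • B.1) = g⁻¹ • B.1 := by
          rw [Set.diff_diff_right_self]; exact Set.inter_eq_right.mpr h1
        have := Set.mem_iInter.mp hy₁ ⟨R \ g⁻¹ • B.1, Set.diff_subset, h3, by rw [h4]; exact h2,
          hTR mem_connectedComponent, hy⟩
        apply this.2
        rw [Set.mem_inv_smul_set_iff]
        exact Set.mem_iInter.mp hgy₁ B
    intro g
    by_cases hd : Disjoint (g • ⋂ B : ι, B.1) (⋂ B : ι, B.1)
    · exact Or.inr hd
    · left
      rw [Set.not_disjoint_iff] at hd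
      obtain ⟨w, hw1, hw2⟩ := hd
      obtain ⟨y₁, hy₁, rfl⟩ := hw1
      have hy₁R : y₁ ∈ R := (Set.mem_iInter.mp hy₁ ⟨R, subset_rfl, hR, by simp,
        hTR mem_connectedComponent⟩)
      have hwR : g • y₁ ∈ R := (Set.mem_iInter.mp hw2 ⟨R, subset_rfl, hR, by simp,
        hTR mem_connectedComponent⟩)
      have hgR : g • R = R := by
        rcases hRg g with h | h
        · exact h
        · exact (Set.disjoint_left.mp h (Set.smul_mem_smul_set hy₁R) hwR).elim
      have hgR' : g⁻¹ • R = R := by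
        conv_lhs => rw [← hgR]
        rw [inv_smul_smul]
      apply Set.Subset.antisymm
      · rintro _ ⟨y₂, hy₂, rfl⟩
        exact hkey g hgR y₁ hy₁ hw2 y₂ hy₂
      · intro v hv
        rw [Set.mem_smul_set_iff_inv_smul_mem]
        exact hkey g⁻¹ hgR' (g • y₁) hw2 (by rw [inv_smul_smul]; exact hy₁) v hv
  · exact Set.iInter_subset _ (⟨A, hAι⟩ : ι)

/-- **Main theorem.** The image of a connected component is a connected component. -/
theorem image_connectedComponent (hq : Setup G q) (y : Y) :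
    q '' connectedComponent y = connectedComponent (q y) := by
  apply Set.Subset.antisymm
  · exact (isPreconnected_connectedComponent.image q hq.cont.continuousOn).subset_connectedComponent
      ⟨y, mem_connectedComponent, rfl⟩
  have huniv : (Set.univ : Set Y) ∈ Fam G q (connectedComponent y) (connectedComponent (q y)) := by
    refine ⟨isClosed_univ, Set.subset_univ _, ?_, fun g => Or.inl Set.smul_set_univ⟩
    rw [Set.image_univ]
    exact IsClopen.connectedComponent_subset
      ⟨hq.isClosedMap.isClosed_range, hq.isOpenMap.isOpen_range⟩ ⟨y, rfl⟩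
  obtain ⟨R, -, hRmin⟩ := zorn_superset_nonempty _ (fam_chain hq _ _) _ huniv
  have hRF := hRmin.prop
  have hyR : y ∈ R := hRF.2.1 mem_connectedComponent
  -- `R` is preconnected
  have hpre : IsPreconnected R := by
    rw [isPreconnected_closed_iff]
    intro t t' ht ht' hsub hnt hnt'
    by_contra hcon
    rw [Set.not_nonempty_iff_eq_empty] at hcon
    have hA : IsClosed (R ∩ t) := hRF.1.inter ht
    have hA' : IsClosed (R ∩ t') := hRF.1.inter ht'
    have hun : R ∩ t ∪ R ∩ t' = R := by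
      rw [← Set.inter_union_distrib_left]; exact Set.inter_eq_left.mpr hsub
    have hdisj : Disjoint (R ∩ t) (R ∩ t') := by
      rw [Set.disjoint_iff_inter_eq_empty, ← Set.inter_inter_distrib_left]; exact hcon
    have key : ∀ A A' : Set Y, IsClosed A → IsClosed A' → A ∪ A' = R → Disjoint A A' → y ∈ A →
        A'.Nonempty → False := by
      intro A A' hA hA' hun hdisj hyA ⟨w, hw⟩
      obtain ⟨R₁, hR₁F, hR₁A⟩ := fam_split hq y hRF hA hA' hun hdisj hyA
      have hR₁R : R₁ ⊆ R := hR₁A.trans (hun ▸ Set.subset_union_left)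
      have := hRmin.eq_of_subset hR₁F hR₁R
      have hwR : w ∈ R := hun ▸ Or.inr hw
      exact Set.disjoint_left.mp hdisj (hR₁A (this ▸ hwR)) hw
    have hy : y ∈ R ∩ t ∪ R ∩ t' := hun.symm ▸ hyR
    rcases hy with hy | hy
    · exact key _ _ hA hA' hun hdisj hy hnt'
    · exact key _ _ hA' hA ((Set.union_comm _ _).trans hun) hdisj.symm hy hnt
  calc connectedComponent (q y) ⊆ q '' R := hRF.2.2.1
    _ ⊆ q '' connectedComponent y := Set.image_mono (hpre.subset_connectedComponent hyR)

end Groth.Agent.Lib.Helper1.GalTop
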