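import Mathlib
import Groth.Agent.Lib.Helper14.GeomAt
import Groth.Agent.Lib.Helper10.FibreProductStalk

/-!
# Local rings of fibre products over an affine base (helper1)

A *flat preimmersion* (e.g. an open immersion, or `Spec 𝒪_{X,x} ⟶ X`) induces isomorphisms on stalks.
For flat preimmersions `iA : Spec A ⟶ X`, `iB : Spec B ⟶ Y` over `Spec R`, the induced morphism
`chart : Spec (A ⊗[R] B) ⟶ X ×_R Y` is a flat preimmersion, so the local rings of `X ×_R Y` at the
points of its range are the localizations of `A ⊗[R] B` at primes.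
-/

set_option autoImplicit false
set_option linter.style.haveILetI false
set_option linter.unusedSectionVars false
universe u

open CategoryTheory CategoryTheory.Limits AlgebraicGeometry TensorProduct

namespace Groth.Agent.Lib.Helper1.FPS

/-- flat preimmersions induce isomorphisms on stalks -/
theorem stalkMap_bijective {W Z : Scheme.{u}} (j : W ⟶ Z) [Flat j] [IsPreimmersion j] (w : W) :
    Function.Bijective (j.stalkMap w).hom :=
  ⟨(Groth.Agent.Lib.Helper14.AS.stalkMap_faithfullyFlat j w).injective, j.stalkMap_surjective w⟩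

/-- the local ring of `Z` at the image of a prime `Q` under a flat preimmersion `Spec C ⟶ Z` is
`C_Q`. -/
theorem nonempty_stalk_equiv {C : Type u} [CommRing C] {Z : Scheme.{u}}
    (j : Spec (CommRingCat.of C) ⟶ Z) [Flat j] [IsPreimmersion j] (Q : Spec (CommRingCat.of C)) :
    Nonempty (Z.presheaf.stalk (j.base Q) ≃+* Localization.AtPrime Q.asIdeal) :=
  ⟨(RingEquiv.ofBijective _ (stalkMap_bijective j Q)).trans
    (Spec.stalkIso (CommRingCat.of C) Q).commRingCatIsoToRingEquiv⟩

section chart

variable {R A B : Type u} [CommRing R] [CommRing A] [CommRing B] [Algebra R A] [Algebra R B]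
variable {X Y : Scheme.{u}} (f : X ⟶ Spec (CommRingCat.of R)) (g : Y ⟶ Spec (CommRingCat.of R))
  (iA : Spec (CommRingCat.of A) ⟶ X) (iB : Spec (CommRingCat.of B) ⟶ Y)
  (hA : Spec.map (CommRingCat.ofHom (algebraMap R A)) = iA ≫ f)
  (hB : Spec.map (CommRingCat.ofHom (algebraMap R B)) = iB ≫ g)

/-- the morphism `Spec (A ⊗[R] B) ⟶ X ×_R Y` -/
noncomputable def chart : Spec (CommRingCat.of (A ⊗[R] B)) ⟶ pullback f g :=
  (pullbackSpecIso R A B).inv ≫ pullback.map _ _ f g iA iB (𝟙 _)
    ((Category.comp_id _).trans hA) ((Category.comp_id _).trans hB)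

@[reassoc]
theorem chart_fst : chart f g iA iB hA hB ≫ pullback.fst f g =
    Spec.map (CommRingCat.ofHom Algebra.TensorProduct.includeLeftRingHom) ≫ iA := by
  unfold chart
  rw [Category.assoc, pullback.lift_fst, pullbackSpecIso_inv_fst_assoc]

@[reassoc]
theorem chart_snd : chart f g iA iB hA hB ≫ pullback.snd f g =
    Spec.map (CommRingCat.ofHom
      (Algebra.TensorProduct.includeRight : B →ₐ[R] A ⊗[R] B).toRingHom) ≫ iB := by
  unfold chart
  rw [Category.assoc, pullback.lift_snd, pullbackSpecIso_inv_snd_assoc]
  rfl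

instance [Flat iA] [Flat iB] : Flat (chart f g iA iB hA hB) := by
  have : Flat (pullback.map _ _ f g iA iB (𝟙 _)
      ((Category.comp_id _).trans hA) ((Category.comp_id _).trans hB)) :=
    MorphismProperty.pullbackMap (P := @Flat) ‹_› ‹_› hA hB
  unfold chart
  infer_instance

instance [IsPreimmersion iA] [IsPreimmersion iB] : IsPreimmersion (chart f g iA iB hA hB) := by
  have : IsPreimmersion (pullback.map _ _ f g iA iB (𝟙 _)
      ((Category.comp_id _).trans hA) ((Category.comp_id _).trans hB)) :=
    MorphismProperty.pullbackMap (P := @IsPreimmersion) ‹_› ‹_› hA hB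
  unfold chart
  infer_instance

theorem range_chart : Set.range (chart f g iA iB hA hB).base =
    (pullback.fst f g).base ⁻¹' Set.range iA.base ∩ (pullback.snd f g).base ⁻¹' Set.range iB.base := by
  have h1 := Scheme.Pullback.range_map (f := Spec.map (CommRingCat.ofHom (algebraMap R A)))
    (g := Spec.map (CommRingCat.ofHom (algebraMap R B))) f g iA iB (𝟙 _)
    ((Category.comp_id _).trans hA) ((Category.comp_id _).trans hB)
  rw [← h1]
  unfold chart
  rw [Scheme.Hom.comp_base, TopCat.coe_comp, Set.range_comp]
  have : Set.range (pullbackSpecIso R A B).inv.base = Set.univ :=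
    Set.range_eq_univ.mpr (pullbackSpecIso R A B).inv.surjective
  rw [this, Set.image_univ]

/-- every point of `X ×_R Y` over points in the ranges of `iA`, `iB` is in the range of `chart`. -/
theorem exists_chart_eq (z : ↥(pullback f g)) (a : Spec (CommRingCat.of A))
    (b : Spec (CommRingCat.of B)) (ha : iA.base a = (pullback.fst f g).base z)
    (hb : iB.base b = (pullback.snd f g).base z) :
    ∃ Q : Spec (CommRingCat.of (A ⊗[R] B)), (chart f g iA iB hA hB).base Q = z := by
  have : z ∈ Set.range (chart f g iA iB hA hB).base := by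
    rw [range_chart]
    exact ⟨⟨a, ha⟩, ⟨b, hb⟩⟩
  exact this

theorem fst_chart_apply (Q : Spec (CommRingCat.of (A ⊗[R] B))) :
    (pullback.fst f g).base ((chart f g iA iB hA hB).base Q) =
      iA.base ((Spec.map (CommRingCat.ofHom
        (Algebra.TensorProduct.includeLeftRingHom : A →+* A ⊗[R] B))).base Q) := by
  rw [← Scheme.Hom.comp_apply, chart_fst, Scheme.Hom.comp_apply]

theorem snd_chart_apply (Q : Spec (CommRingCat.of (A ⊗[R] B))) :
    (pullback.snd f g).base ((chart f g iA iB hA hB).base Q) =
      iB.base ((Spec.map (CommRingCat.ofHom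
        (Algebra.TensorProduct.includeRight : B →ₐ[R] A ⊗[R] B).toRingHom)).base Q) := by
  rw [← Scheme.Hom.comp_apply, chart_snd, Scheme.Hom.comp_apply]

end chart

end Groth.Agent.Lib.Helper1.FPS
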