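import Mathlib
import Groth.Prelude.Def_Curv2
import Groth.Agent.Lib.Helper1.FPS1

/-!
# Local rings of base changes `X_{k'}` (helper1)
-/

set_option autoImplicit false
set_option linter.style.haveILetI false
set_option linter.unusedSectionVars false
universe u

open CategoryTheory CategoryTheory.Limits AlgebraicGeometry TensorProduct

namespace Groth.Agent.Lib.Helper1.FPS

section general

variable {R A B : Type u} [CommRing R] [CommRing A] [CommRing B] [Algebra R A] [Algebra R B]
variable {X Y : Scheme.{u}} (f : X ⟶ Spec (CommRingCat.of R)) (g : Y ⟶ Spec (CommRingCat.of R))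
  (iA : Spec (CommRingCat.of A) ⟶ X) (iB : Spec (CommRingCat.of B) ⟶ Y)
  (hA : Spec.map (CommRingCat.ofHom (algebraMap R A)) = iA ≫ f)
  (hB : Spec.map (CommRingCat.ofHom (algebraMap R B)) = iB ≫ g)
  [Flat iA] [IsPreimmersion iA] [Flat iB] [IsPreimmersion iB]

include hA hB in
theorem exists_prime_stalk_equiv (z : ↥(pullback f g)) (a : PrimeSpectrum A) (b : PrimeSpectrum B)
    (ha : iA.base a = (pullback.fst f g).base z) (hb : iB.base b = (pullback.snd f g).base z) :
    ∃ Q : PrimeSpectrum (A ⊗[R] B),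
      Q.comap (Algebra.TensorProduct.includeLeftRingHom : A →+* A ⊗[R] B) = a ∧
      Q.comap (Algebra.TensorProduct.includeRight : B →ₐ[R] A ⊗[R] B).toRingHom = b ∧
      Nonempty ((pullback f g).presheaf.stalk z ≃+* Localization.AtPrime Q.asIdeal) := by
  obtain ⟨Q, rfl⟩ := exists_chart_eq f g iA iB hA hB z a b ha hb
  refine ⟨Q, ?_, ?_, nonempty_stalk_equiv (chart f g iA iB hA hB) Q⟩
  · have h1 := fst_chart_apply f g iA iB hA hB Q
    rw [← ha] at h1
    exact (iA.isEmbedding.injective h1).symm
  · have h1 := snd_chart_apply f g iA iB hA hB Q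
    rw [← hb] at h1
    exact (iB.isEmbedding.injective h1).symm

include hA hB in
theorem exists_point_stalk_equiv (Q : PrimeSpectrum (A ⊗[R] B)) :
    ∃ z : ↥(pullback f g),
      (pullback.fst f g).base z = iA.base
        (Q.comap (Algebra.TensorProduct.includeLeftRingHom : A →+* A ⊗[R] B)) ∧
      (pullback.snd f g).base z = iB.base
        (Q.comap (Algebra.TensorProduct.includeRight : B →ₐ[R] A ⊗[R] B).toRingHom) ∧
      Nonempty ((pullback f g).presheaf.stalk z ≃+* Localization.AtPrime Q.asIdeal) :=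
  ⟨(chart f g iA iB hA hB).base Q, fst_chart_apply f g iA iB hA hB Q,
    snd_chart_apply f g iA iB hA hB Q, nonempty_stalk_equiv (chart f g iA iB hA hB) Q⟩

end general

section stalk

variable (k : Type u) [Field k] (X : Scheme.{u}) [X.Over (Spec (CommRingCat.of k))]

theorem over_eq_toSpecΓ_comp :
    (X ↘ Spec (CommRingCat.of k)) =
      X.toSpecΓ ≫ Spec.map (CommRingCat.ofHom (Coh.toGlobal (X ↘ Spec (CommRingCat.of k)))) := by
  have h1 := Scheme.toSpecΓ_naturality (X ↘ Spec (CommRingCat.of k))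
  rw [← SpecMap_ΓSpecIso_hom] at h1
  have h2 : (X ↘ Spec (CommRingCat.of k)) =
      X.toSpecΓ ≫ Spec.map (X ↘ Spec (CommRingCat.of k)).appTop ≫
        Spec.map (Scheme.ΓSpecIso (CommRingCat.of k)).inv := by
    rw [← Category.assoc, ← h1, Category.assoc, ← Spec.map_comp, Iso.inv_hom_id, Spec.map_id,
      Category.comp_id]
  conv_lhs => rw [h2]
  rw [← Spec.map_comp]
  rfl

theorem specMap_stalkMap (x : X) :
    Spec.map (CommRingCat.ofHom (Curv2.stalkMap k X x)) =
      X.fromSpecStalk x ≫ (X ↘ Spec (CommRingCat.of k)) := by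
  conv_rhs => rw [over_eq_toSpecΓ_comp k X, ← Category.assoc, Scheme.fromSpecStalk_toSpecΓ,
    ← Spec.map_comp]
  rfl

end stalk

end Groth.Agent.Lib.Helper1.FPS
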