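import Mathlib
import Groth.Prelude.Def_Curv2
import Groth.Prelude.Def_Pi1
import Groth.Prelude.Def_EGA4b
import Groth.Agent.Lib.Helper1.FPS2
import Groth.Agent.Lib.Helper18.FormFib

/-!
# Normality of fibre products via affine charts (helper1)
-/

set_option autoImplicit false
set_option linter.style.haveILetI false
set_option linter.unusedSectionVars false
universe u

open CategoryTheory CategoryTheory.Limits AlgebraicGeometry TensorProduct

namespace Groth.Agent.Lib.Helper1.FPS

theorem normalPair_of_ringEquiv {R S : Type*} [CommRing R] [CommRing S] (e : R ≃+* S)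
    (h : IsDomain S ∧ IsIntegrallyClosed S) : IsDomain R ∧ IsIntegrallyClosed R := by
  haveI := h.1
  haveI := h.2
  haveI : IsDomain R := e.toMulEquiv.isDomain
  exact ⟨inferInstance, IsIntegrallyClosed.of_equiv e.symm⟩

/-- a ring whose spectrum is a flat preimmersion into a normal scheme is normal. -/
theorem isNormalRing_of_isNormalScheme {C : Type u} [CommRing C] {Z : Scheme.{u}}
    (j : Spec (CommRingCat.of C) ⟶ Z) [Flat j] [IsPreimmersion j] (hZ : Pi1.IsNormalScheme Z) :
    EGA4.IsNormalRing C := by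
  intro P hP
  obtain ⟨e⟩ := nonempty_stalk_equiv j ⟨P, hP⟩
  exact normalPair_of_ringEquiv e.symm (hZ _)

section

variable {R A B : Type u} [CommRing R] [CommRing A] [CommRing B] [Algebra R A] [Algebra R B]
variable {X Y : Scheme.{u}} (f : X ⟶ Spec (CommRingCat.of R)) (g : Y ⟶ Spec (CommRingCat.of R))
  (iA : Spec (CommRingCat.of A) ⟶ X) (iB : Spec (CommRingCat.of B) ⟶ Y)
  (hA : Spec.map (CommRingCat.ofHom (algebraMap R A)) = iA ≫ f)
  (hB : Spec.map (CommRingCat.ofHom (algebraMap R B)) = iB ≫ g)
  [Flat iA] [IsPreimmersion iA] [Flat iB] [IsPreimmersion iB]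

include hA hB in
theorem isNormalRing_tensor_of_isNormalScheme (h : Pi1.IsNormalScheme (pullback f g)) :
    EGA4.IsNormalRing (A ⊗[R] B) :=
  isNormalRing_of_isNormalScheme (chart f g iA iB hA hB) h

end

/-- affine charts around a point of a scheme over `Spec R`. -/
theorem exists_affine_chart {R : Type u} [CommRing R] {X : Scheme.{u}}
    (f : X ⟶ Spec (CommRingCat.of R)) (x : X) :
    ∃ (A : Type u) (_ : CommRing A) (_ : Algebra R A) (iA : Spec (CommRingCat.of A) ⟶ X)
      (_ : IsOpenImmersion iA) (a : PrimeSpectrum A),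
      Spec.map (CommRingCat.ofHom (algebraMap R A)) = iA ≫ f ∧ iA.base a = x := by
  obtain ⟨U, hU, hxU, -⟩ := exists_isAffineOpen_mem_and_subset (x := x) (U := (⊤ : X.Opens)) trivial
  let φ : CommRingCat.of R ⟶ Γ(X, U) := Spec.preimage (hU.fromSpec ≫ f)
  letI : Algebra R Γ(X, U) := φ.hom.toAlgebra
  refine ⟨Γ(X, U), inferInstance, inferInstance, hU.fromSpec, inferInstance,
    hU.primeIdealOf ⟨x, hxU⟩, ?_, ?_⟩
  · exact Spec.map_preimage _
  · exact hU.fromSpec_primeIdealOf ⟨x, hxU⟩

end Groth.Agent.Lib.Helper1.FPS
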