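import Mathlib
import Groth.Prelude.Def_CurvBase
import Groth.Agent.Lib.Helper6.GC1
import Groth.Agent.Lib.Helper21.BaseChg2

/-!
# Geometric irreducibility / connectedness can be tested over a separably closed field
-/

set_option autoImplicit false
set_option linter.style.haveILetI false
set_option linter.unusedSectionVars false

universe u

open TensorProduct CategoryTheory CategoryTheory.Limits AlgebraicGeometry

namespace Groth.Agent.Lib.Helper1.GeomIrrSep

variable {k K L : Type u} [Field k] [Field K] [Field L]

instance : Subsingleton ↥(Spec (CommRingCat.of k)) :=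
  inferInstanceAs (Subsingleton (PrimeSpectrum k))

instance : Nonempty ↥(Spec (CommRingCat.of k)) :=
  inferInstanceAs (Nonempty (PrimeSpectrum k))

theorem surjective_of_field (a : Spec (CommRingCat.of K) ⟶ Spec (CommRingCat.of k)) :
    Surjective a :=
  ⟨fun _ => ⟨Classical.arbitrary _, Subsingleton.elim _ _⟩⟩

/-- two field extensions have a common overfield (in the same universe) -/
theorem exists_common_field (y : Spec (CommRingCat.of K) ⟶ Spec (CommRingCat.of k))
    (g : Spec (CommRingCat.of L) ⟶ Spec (CommRingCat.of k)) :
    ∃ (Ω : Type u) (_ : Field Ω) (a : Spec (CommRingCat.of Ω) ⟶ Spec (CommRingCat.of K))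
      (b : Spec (CommRingCat.of Ω) ⟶ Spec (CommRingCat.of L)), a ≫ y = b ≫ g := by
  obtain ⟨z, -, -⟩ := Scheme.Pullback.exists_preimage_pullback (f := y) (g := g)
    (Classical.arbitrary _) (Classical.arbitrary _) (Subsingleton.elim _ _)
  exact ⟨(pullback y g).residueField z, inferInstance,
    (pullback y g).fromSpecResidueField z ≫ pullback.fst y g,
    (pullback y g).fromSpecResidueField z ≫ pullback.snd y g, by
      rw [Category.assoc, Category.assoc, pullback.condition]⟩

variable {X : Scheme.{u}} (f : X ⟶ Spec (CommRingCat.of k))
  (g : Spec (CommRingCat.of L) ⟶ Spec (CommRingCat.of k)) [IsSepClosed L]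

theorem irreducibleSpace_pullback_of_sepClosed [IrreducibleSpace ↥(pullback f g)]
    (y : Spec (CommRingCat.of K) ⟶ Spec (CommRingCat.of k)) :
    IrreducibleSpace ↥(pullback f y) := by
  obtain ⟨Ω, _, a, b, hab⟩ := exists_common_field y g
  obtain ⟨β, rfl⟩ := Spec.map_surjective b
  haveI : GeometricallyIrreducible (Spec.map β) :=
    Groth.Agent.Lib.Helper6.GC.geometricallyIrreducible_SpecMap β
  haveI : IrreducibleSpace ↥(pullback (pullback.snd f g) (Spec.map β)) := inferInstance
  have e1 : pullback (pullback.snd f g) (Spec.map β) ≅ pullback f (Spec.map β ≫ g) :=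
    pullbackLeftPullbackSndIso f g (Spec.map β)
  have e2 : pullback (pullback.snd f y) a ≅ pullback f (a ≫ y) :=
    pullbackLeftPullbackSndIso f y a
  haveI : IrreducibleSpace ↥(pullback f (a ≫ y)) := by
    rw [hab]
    exact e1.hom.homeomorph.irreducibleSpace_iff.mp inferInstance
  haveI : IrreducibleSpace ↥(pullback (pullback.snd f y) a) :=
    e2.hom.homeomorph.irreducibleSpace_iff.mpr inferInstance
  haveI : Surjective a := surjective_of_field a
  haveI : Surjective (pullback.fst (pullback.snd f y) a) := inferInstance
  exact (pullback.fst (pullback.snd f y) a).surjective.irreducibleSpace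
    (pullback.fst (pullback.snd f y) a).continuous

theorem geometricallyIrreducible_of_sepClosed [IrreducibleSpace ↥(pullback f g)] :
    GeometricallyIrreducible f :=
  ⟨geometrically_iff_of_isClosedUnderIsomorphisms.mpr fun _ _ y =>
    irreducibleSpace_pullback_of_sepClosed f g y⟩

theorem geometricallyConnected_of_geometricallyIrreducible {X Y : Scheme.{u}} (h : X ⟶ Y)
    [GeometricallyIrreducible h] : GeometricallyConnected h :=
  ⟨fun K _ y Z fst snd hpb => by
    haveI : IrreducibleSpace Z :=
      GeometricallyIrreducible.geometrically_irreducibleSpace y fst snd hpb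
    infer_instance⟩

theorem connectedSpace_pullback_of_sepClosed [ConnectedSpace ↥(pullback f g)]
    (y : Spec (CommRingCat.of K) ⟶ Spec (CommRingCat.of k)) :
    ConnectedSpace ↥(pullback f y) := by
  obtain ⟨Ω, _, a, b, hab⟩ := exists_common_field y g
  obtain ⟨β, rfl⟩ := Spec.map_surjective b
  haveI : GeometricallyIrreducible (Spec.map β) :=
    Groth.Agent.Lib.Helper6.GC.geometricallyIrreducible_SpecMap β
  haveI : GeometricallyConnected (Spec.map β) :=
    geometricallyConnected_of_geometricallyIrreducible _
  haveI : ConnectedSpace ↥(pullback (pullback.snd f g) (Spec.map β)) := inferInstance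
  have e1 : pullback (pullback.snd f g) (Spec.map β) ≅ pullback f (Spec.map β ≫ g) :=
    pullbackLeftPullbackSndIso f g (Spec.map β)
  have e2 : pullback (pullback.snd f y) a ≅ pullback f (a ≫ y) :=
    pullbackLeftPullbackSndIso f y a
  haveI : ConnectedSpace ↥(pullback f (a ≫ y)) := by
    rw [hab]
    exact e1.hom.homeomorph.connectedSpace_iff.mp inferInstance
  haveI : ConnectedSpace ↥(pullback (pullback.snd f y) a) :=
    e2.hom.homeomorph.connectedSpace_iff.mpr inferInstance
  haveI : Surjective a := surjective_of_field a
  haveI : Surjective (pullback.fst (pullback.snd f y) a) := inferInstance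
  exact (pullback.fst (pullback.snd f y) a).surjective.connectedSpace
    (pullback.fst (pullback.snd f y) a).continuous

theorem geometricallyConnected_of_sepClosed [ConnectedSpace ↥(pullback f g)] :
    GeometricallyConnected f :=
  ⟨geometrically_iff_of_isClosedUnderIsomorphisms.mpr fun _ _ y =>
    connectedSpace_pullback_of_sepClosed f g y⟩

end Groth.Agent.Lib.Helper1.GeomIrrSep
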