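import Mathlib
import Groth.Agent.Lib.Helper1.GeomIrrSep

/-!
# Geometric irreducibility and open covers
-/

set_option autoImplicit false
set_option linter.style.haveILetI false
set_option linter.unusedSectionVars false

universe u

open TensorProduct CategoryTheory CategoryTheory.Limits AlgebraicGeometry

namespace Groth.Agent.Lib.Helper1.GeomIrrCover

/-- a space covered by pairwise meeting irreducible open subsets is irreducible -/
theorem irreducibleSpace_of_cover {X : Type*} [TopologicalSpace X] {ι : Type*} [Nonempty ι]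
    (U : ι → Set X) (hopen : ∀ i, IsOpen (U i)) (hcov : ⋃ i, U i = Set.univ)
    (hirr : ∀ i, IsIrreducible (U i)) (hmeet : ∀ i j, (U i ∩ U j).Nonempty) :
    IrreducibleSpace X := by
  obtain ⟨i₀⟩ := ‹Nonempty ι›
  obtain ⟨x₀, -⟩ := (hirr i₀).1
  haveI : Nonempty X := ⟨x₀⟩
  suffices h : IsPreirreducible (Set.univ : Set X) from
    { toPreirreducibleSpace := ⟨h⟩, toNonempty := inferInstance }
  rintro V W hV hW ⟨v, -, hv⟩ ⟨w, -, hw⟩
  obtain ⟨i, hi⟩ := Set.mem_iUnion.mp (hcov.ge (Set.mem_univ v))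
  obtain ⟨j, hj⟩ := Set.mem_iUnion.mp (hcov.ge (Set.mem_univ w))
  obtain ⟨q, hq⟩ := hmeet i j
  obtain ⟨p, hpi, hpV, hpj⟩ := (hirr i).2 V (U j) hV (hopen j) ⟨v, hi, hv⟩ ⟨q, hq.1, hq.2⟩
  obtain ⟨r, hrj, hrV, hrW⟩ := (hirr j).2 V W hV hW ⟨p, hpj, hpV⟩ ⟨w, hj, hw⟩
  exact ⟨r, Set.mem_univ _, hrV, hrW⟩

section

variable {X S T : Scheme.{u}} (f : X ⟶ S) (y : T ⟶ S)

/-- the preimage of an open `U ⊆ X` in `X ×_S T` is the image of `U ×_S T`. -/
theorem range_pullback_map_opens (U : X.Opens) :
    Set.range (pullback.map (U.ι ≫ f) y f y U.ι (𝟙 _) (𝟙 _) (by simp) (by simp)).base =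
      (pullback.fst f y).base ⁻¹' (U : Set X) := by
  have h := Scheme.Pullback.range_map (f := U.ι ≫ f) (g := y) f y U.ι (𝟙 _) (𝟙 _)
    (by simp) (by simp)
  rw [h]
  ext z
  simp

theorem isIrreducible_preimage_opens (U : X.Opens)
    [IrreducibleSpace ↥(pullback (U.ι ≫ f) y)] :
    IsIrreducible ((pullback.fst f y).base ⁻¹' (U : Set X)) := by
  rw [← range_pullback_map_opens, ← Set.image_univ]
  exact (IrreducibleSpace.isIrreducible_univ _).image _
    (pullback.map (U.ι ≫ f) y f y U.ι (𝟙 _) (𝟙 _) (by simp) (by simp)).continuous.continuousOn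

end

/-- Stacks-type lemma: a scheme covered by pairwise meeting geometrically irreducible opens is
geometrically irreducible. -/
theorem geometricallyIrreducible_of_cover {k : Type u} [Field k] {X : Scheme.{u}}
    (f : X ⟶ Spec (CommRingCat.of k)) {ι : Type*} [Nonempty ι] (U : ι → X.Opens)
    (hcov : (⨆ i, U i) = ⊤) (hmeet : ∀ i j, ((U i : Set X) ∩ (U j : Set X)).Nonempty)
    (hU : ∀ i, GeometricallyIrreducible ((U i).ι ≫ f)) : GeometricallyIrreducible f := by
  refine ⟨geometrically_iff_of_isClosedUnderIsomorphisms.mpr fun K _ y => ?_⟩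
  haveI : Surjective y := Groth.Agent.Lib.Helper1.GeomIrrSep.surjective_of_field y
  haveI : Surjective (pullback.fst f y) := inferInstance
  apply irreducibleSpace_of_cover (fun i => (pullback.fst f y).base ⁻¹' (U i : Set X))
  · intro i
    exact (U i).2.preimage (pullback.fst f y).continuous
  · rw [← Set.preimage_iUnion]
    have : (⋃ i, (U i : Set X)) = Set.univ := by
      have := congrArg (fun V : X.Opens => (V : Set X)) hcov
      simpa using this
    rw [this, Set.preimage_univ]
  · intro i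
    haveI := hU i
    haveI : IrreducibleSpace ↥(pullback ((U i).ι ≫ f) y) :=
      GeometricallyIrreducible.geometrically_irreducibleSpace y _ _ (IsPullback.of_hasPullback _ _)
    exact isIrreducible_preimage_opens f y (U i)
  · intro i j
    obtain ⟨x, hx⟩ := hmeet i j
    obtain ⟨z, rfl⟩ := (pullback.fst f y).surjective x
    exact ⟨z, hx⟩

end Groth.Agent.Lib.Helper1.GeomIrrCover
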