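import Mathlib
import Groth.Agent.Lib.Helper1.GeomIrrCover
import Groth.Agent.Lib.Helper1.FPS3

/-!
# Geometric irreducibility can be tested on finite separable extensions
-/

set_option autoImplicit false
set_option linter.style.haveILetI false
set_option linter.unusedSectionVars false

universe u

open TensorProduct CategoryTheory CategoryTheory.Limits AlgebraicGeometry

namespace Groth.Agent.Lib.Helper1.GeomIrrFinSep

open Groth.Agent.Lib.Helper1.FPS

section chart

variable {R A B : Type u} [CommRing R] [CommRing A] [CommRing B] [Algebra R A] [Algebra R B]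
variable {X Y : Scheme.{u}} (f : X ⟶ Spec (CommRingCat.of R)) (g : Y ⟶ Spec (CommRingCat.of R))
  (iA : Spec (CommRingCat.of A) ⟶ X) (iB : Spec (CommRingCat.of B) ⟶ Y)
  (hA : Spec.map (CommRingCat.ofHom (algebraMap R A)) = iA ≫ f)
  (hB : Spec.map (CommRingCat.ofHom (algebraMap R B)) = iB ≫ g)

instance [IsOpenImmersion iA] [IsOpenImmersion iB] : IsOpenImmersion (chart f g iA iB hA hB) := by
  have : IsOpenImmersion (pullback.map _ _ f g iA iB (𝟙 _)
      ((Category.comp_id _).trans hA) ((Category.comp_id _).trans hB)) :=
    MorphismProperty.pullbackMap (P := @IsOpenImmersion) ‹_› ‹_› hA hB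
  unfold chart
  infer_instance

end chart

section

variable {k : Type u} [Field k] {X : Scheme.{u}} (f : X ⟶ Spec (CommRingCat.of k))
  {A : Type u} [CommRing A] [Algebra k A]
  (iA : Spec (CommRingCat.of A) ⟶ X) [IsOpenImmersion iA]
  (hA : Spec.map (CommRingCat.ofHom (algebraMap k A)) = iA ≫ f)
  (K : Type u) [Field K] [Algebra k K]

/-- base change morphism -/
noncomputable abbrev gK : Spec (CommRingCat.of K) ⟶ Spec (CommRingCat.of k) :=
  Spec.map (CommRingCat.ofHom (algebraMap k K))

theorem hB : Spec.map (CommRingCat.ofHom (algebraMap k K)) = 𝟙 _ ≫ gK (k := k) K :=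
  (Category.id_comp _).symm

theorem range_chart' :
    Set.range (chart f (gK K) iA (𝟙 _) hA (hB K)).base =
      (pullback.fst f (gK K)).base ⁻¹' Set.range iA.base := by
  rw [range_chart]
  ext z
  simp

include hA in
theorem isIrreducible_preimage_iff :
    IsIrreducible ((pullback.fst f (gK K)).base ⁻¹' Set.range iA.base) ↔
      IrreducibleSpace (PrimeSpectrum (A ⊗[k] K)) := by
  rw [← range_chart' f iA hA K]
  constructor
  · intro h
    have h1 := h.preimage (chart f (gK K) iA (𝟙 _) hA (hB K)).isOpenEmbedding (by
      rw [Set.inter_self]; exact h.1)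
    rw [Set.preimage_range] at h1
    exact (irreducibleSpace_def _).mpr h1
  · intro h
    rw [← Set.image_univ]
    haveI : IrreducibleSpace ↥(Spec (CommRingCat.of (A ⊗[k] K))) := h
    exact (IrreducibleSpace.isIrreducible_univ _).image _
      (chart f (gK K) iA (𝟙 _) hA (hB K)).continuous.continuousOn

end

section main

variable {k : Type u} [Field k] {X : Scheme.{u}} (f : X ⟶ Spec (CommRingCat.of k))
  (L : Type u) [Field L] [Algebra k L] [Algebra.IsAlgebraic k L]

theorem surjective_fst (K : Type u) [Field K] [Algebra k K] :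
    Function.Surjective (pullback.fst f (gK K)).base := by
  haveI : Surjective (gK (k := k) K) := Groth.Agent.Lib.Helper1.GeomIrrSep.surjective_of_field _
  haveI : Surjective (pullback.fst f (gK K)) := inferInstance
  exact (pullback.fst f (gK K)).surjective

/-- If `X_F` is irreducible for all finite subextensions `F` of an algebraic extension `L/k`,
then `X_L` is irreducible. -/
theorem irreducibleSpace_of_forall_finite
    (h : ∀ F : IntermediateField k L, FiniteDimensional k F →
      IrreducibleSpace ↥(pullback f (gK (k := k) F))) :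
    IrreducibleSpace ↥(pullback f (gK (k := k) L)) := by
  classical
  haveI h0 := h ⊥ inferInstance
  haveI hXirr : IrreducibleSpace X :=
    (surjective_fst f (⊥ : IntermediateField k L)).irreducibleSpace
      (pullback.fst f (gK (⊥ : IntermediateField k L))).continuous
  choose A instA algA iA hiA a hA ha using fun x : X => exists_affine_chart f x
  haveI : Nonempty X := inferInstance
  apply Groth.Agent.Lib.Helper1.GeomIrrCover.irreducibleSpace_of_cover
    (fun x : X => (pullback.fst f (gK L)).base ⁻¹' Set.range (iA x).base)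
  · intro x
    exact (iA x).isOpenEmbedding.isOpen_range.preimage (pullback.fst f (gK L)).continuous
  · rw [Set.eq_univ_iff_forall]
    intro z
    exact Set.mem_iUnion.mpr ⟨(pullback.fst f (gK L)).base z, ⟨a _, ha _⟩⟩
  · intro x
    rw [isIrreducible_preimage_iff f (iA x) (hA x) L]
    have h1 : IrreducibleSpace (PrimeSpectrum (L ⊗[k] A x)) := by
      apply Groth.Agent.Lib.Helper6.irreducibleSpace_of_forall_finite
      intro F hF
      haveI := h F hF
      have h2 : IrreducibleSpace (PrimeSpectrum (A x ⊗[k] F)) := by
        rw [← isIrreducible_preimage_iff f (iA x) (hA x) F]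
        refine ⟨?_, ((IrreducibleSpace.isIrreducible_univ _).2).open_subset
          ((iA x).isOpenEmbedding.isOpen_range.preimage (pullback.fst f (gK F)).continuous)
          (Set.subset_univ _)⟩
        obtain ⟨z, hz⟩ := surjective_fst f F x
        exact ⟨z, ⟨a x, (ha x).trans hz.symm⟩⟩
      exact (PrimeSpectrum.homeomorphOfRingEquiv
        (Algebra.TensorProduct.comm k F (A x)).toRingEquiv).irreducibleSpace_iff.mpr h2
    exact (PrimeSpectrum.homeomorphOfRingEquiv
      (Algebra.TensorProduct.comm k (A x) L).toRingEquiv).irreducibleSpace_iff.mpr h1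
  · intro x y
    obtain ⟨w, hw1, hw2⟩ := nonempty_preirreducible_inter (iA x).isOpenEmbedding.isOpen_range
      (iA y).isOpenEmbedding.isOpen_range ⟨x, ⟨a x, ha x⟩⟩ ⟨y, ⟨a y, ha y⟩⟩
    obtain ⟨z, rfl⟩ := surjective_fst f L w
    exact ⟨z, hw1, hw2⟩

end main

end Groth.Agent.Lib.Helper1.GeomIrrFinSep
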