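import Mathlib
import Groth.Prelude.Def_Curv2
import Groth.Agent.Lib.Helper1.FPS3

/-!
# Geometric reducedness can be checked at the generic points of irreducible components
-/

set_option autoImplicit false
set_option linter.style.haveILetI false
set_option linter.unusedSectionVars false

universe u

open TensorProduct CategoryTheory CategoryTheory.Limits AlgebraicGeometry

namespace Groth.Agent.Lib.Helper1.GenRed

open Groth.Agent.Lib.Helper1.FPS

/-- A reduced `k`-algebra `A` has `A ⊗[k] K` reduced as soon as the local rings of `A ⊗[k] K` at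
the primes lying over minimal primes of `A` are reduced. -/
theorem isReduced_tensor_of_forall_minimalPrimes (k A K : Type u) [Field k] [CommRing A]
    [Algebra k A] [_root_.IsReduced A] [CommRing K] [Algebra k K] [Module.Free k K]
    (h : ∀ Q : PrimeSpectrum (A ⊗[k] K),
      (Q.comap (Algebra.TensorProduct.includeLeftRingHom : A →+* A ⊗[k] K)).asIdeal ∈
        minimalPrimes A → _root_.IsReduced (Localization.AtPrime Q.asIdeal)) :
    _root_.IsReduced (A ⊗[k] K) := by
  classical
  constructor
  intro z hz
  let ℬ := Module.Free.chooseBasis k K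
  let b := Algebra.TensorProduct.basis A ℬ
  -- key claim
  have claim : ∀ p ∈ minimalPrimes A, ∃ s : A, s ∉ p ∧ s • z = 0 := by
    intro p hp
    haveI hpp : p.IsPrime := hp.1.1
    by_contra hcon
    push_neg at hcon
    let I : Ideal (A ⊗[k] K) := LinearMap.ker (LinearMap.mulRight (A ⊗[k] K) z)
    have hI : ∀ t, t ∈ I ↔ t * z = 0 := fun t => by
      simp [I, LinearMap.mem_ker]
    let S : Submonoid (A ⊗[k] K) := Algebra.algebraMapSubmonoid (A ⊗[k] K) p.primeCompl
    have hdisj : Disjoint (I : Set (A ⊗[k] K)) (S : Set (A ⊗[k] K)) := by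
      rw [Set.disjoint_left]
      rintro t htI ⟨s, hs, rfl⟩
      apply hcon s hs
      rw [Algebra.smul_def]
      exact (hI _).mp htI
    obtain ⟨P, hP, hIP, hPS⟩ := Ideal.exists_le_prime_disjoint I S hdisj
    haveI := hP
    have hle : (P.comap (Algebra.TensorProduct.includeLeftRingHom : A →+* A ⊗[k] K)) ≤ p := by
      intro a ha
      by_contra hap
      exact Set.disjoint_left.mp hPS ha ⟨a, hap, rfl⟩
    have heq : (P.comap (Algebra.TensorProduct.includeLeftRingHom : A →+* A ⊗[k] K)) = p :=
      le_antisymm hle (hp.2 ⟨Ideal.comap_isPrime _ _, bot_le⟩ hle)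
    haveI := h ⟨P, hP⟩ (by
      change (P.comap _) ∈ minimalPrimes A
      rw [heq]; exact hp)
    have hz0 : algebraMap (A ⊗[k] K) (Localization.AtPrime P) z = 0 :=
      (hz.map _).eq_zero
    obtain ⟨⟨t, ht⟩, htz⟩ := (IsLocalization.map_eq_zero_iff P.primeCompl _ z).mp hz0
    exact ht (hIP ((hI t).mpr htz))
  have hc : b.repr z = 0 := by
    ext i
    simp only [Finsupp.coe_zero, Pi.zero_apply]
    have hmem : b.repr z i ∈ nilradical A := by
      rw [nilradical_eq_sInf, Ideal.mem_sInf]
      intro p hp
      haveI hp' : p.IsPrime := hp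
      obtain ⟨p₀, hp₀, hle⟩ := Ideal.exists_minimalPrimes_le (bot_le : (⊥ : Ideal A) ≤ p)
      apply hle
      haveI : p₀.IsPrime := hp₀.1.1
      obtain ⟨s, hs, hsz⟩ := claim p₀ hp₀
      have h1 : s * b.repr z i = 0 := by
        have := congrArg (fun c => b.repr c i) hsz
        simpa using this
      exact (Ideal.IsPrime.mem_or_mem_of_mul_eq_zero inferInstance h1).resolve_left hs
    exact (mem_nilradical.mp hmem).eq_zero
  simpa using hc

/-- A point without proper generisations in a quasi-sober space is the generic point of an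
irreducible component. -/
theorem closure_mem_irreducibleComponents {X : Type*} [TopologicalSpace X] [QuasiSober X] (η : X)
    (h : ∀ ξ : X, ξ ⤳ η → ξ = η) : closure {η} ∈ irreducibleComponents X := by
  refine ⟨isIrreducible_singleton.closure, fun W hW hle => ?_⟩
  obtain ⟨ξ, hξ⟩ := QuasiSober.sober hW.closure isClosed_closure
  have h1 : ξ ⤳ η := by
    rw [specializes_iff_mem_closure, hξ.def]
    exact subset_closure (hle (subset_closure rfl))
  rw [← h ξ h1, hξ.def]
  exact subset_closure

/-- Minimal primes of an affine open give points without proper generisations. -/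
theorem eq_of_specializes_of_minimalPrimes {A : Type u} [CommRing A] {X : Scheme.{u}}
    (iA : Spec (CommRingCat.of A) ⟶ X) [IsOpenImmersion iA] (p : PrimeSpectrum A)
    (hp : p.asIdeal ∈ minimalPrimes A) (ξ : X) (h : ξ ⤳ iA.base p) : ξ = iA.base p := by
  have hmem : ξ ∈ Set.range iA.base := h.mem_open iA.isOpenEmbedding.isOpen_range ⟨p, rfl⟩
  obtain ⟨q, rfl⟩ := hmem
  have h2 : q ⤳ p := iA.isOpenEmbedding.isInducing.specializes_iff.mp h
  have h3 : (show PrimeSpectrum A from q).asIdeal ≤ p.asIdeal :=
    (PrimeSpectrum.le_iff_specializes (show PrimeSpectrum A from q) p).mpr h2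
  have h4 : p.asIdeal ≤ (show PrimeSpectrum A from q).asIdeal :=
    hp.2 ⟨(show PrimeSpectrum A from q).isPrime, bot_le⟩ h3
  have : (show PrimeSpectrum A from q) = p := PrimeSpectrum.ext (le_antisymm h3 h4)
  exact congrArg iA.base this

section main

variable (k : Type u) [Field k] (X : Scheme.{u}) [X.Over (Spec (CommRingCat.of k))]

/-- A reduced scheme over `k` which is geometrically reduced at every point without proper
generisations is geometrically reduced. -/
theorem isReduced_bc_of_generic [IsReduced X]
    (h : ∀ η : X, (∀ ξ : X, ξ ⤳ η → ξ = η) → Curv2.IsGeomReducedAt k X η)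
    (K : Type u) [Field K] [Algebra k K] : IsReduced (Curv2.bc k X K) := by
  haveI : ∀ z : ↥(Curv2.bc k X K), _root_.IsReduced ((Curv2.bc k X K).presheaf.stalk z) := by
    intro z
    obtain ⟨A, _, _, iA, _, a, hA, ha⟩ :=
      exists_affine_chart (X ↘ Spec (CommRingCat.of k)) ((Curv2.bcFst k X K).base z)
    let g : Spec (CommRingCat.of K) ⟶ Spec (CommRingCat.of k) :=
      Spec.map (CommRingCat.ofHom (algebraMap k K))
    have hB : Spec.map (CommRingCat.ofHom (algebraMap k K)) = 𝟙 _ ≫ g := (Category.id_comp _).symm
    haveI : IsReduced (Spec (CommRingCat.of A)) := isReduced_of_isOpenImmersion iA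
    haveI hAred : _root_.IsReduced A := (affine_isReduced_iff (CommRingCat.of A)).mp inferInstance
    haveI : _root_.IsReduced (A ⊗[k] K) := by
      apply isReduced_tensor_of_forall_minimalPrimes
      intro Q hQ
      obtain ⟨z', hz'1, -, ⟨e⟩⟩ := exists_point_stalk_equiv (X ↘ Spec (CommRingCat.of k)) g iA
        (𝟙 _) hA hB Q
      have hgen := h _ (eq_of_specializes_of_minimalPrimes iA _ hQ)
      haveI := hgen K z' hz'1
      exact isReduced_of_injective e.symm.toRingHom e.symm.injective
    obtain ⟨Q, -, -, ⟨e⟩⟩ := exists_prime_stalk_equiv (X ↘ Spec (CommRingCat.of k)) g iA (𝟙 _) hA hB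
      z a ((pullback.snd (X ↘ Spec (CommRingCat.of k)) g).base z) ha rfl
    exact isReduced_of_injective e.toRingHom e.injective
  exact isReduced_of_isReduced_stalk _

end main

end Groth.Agent.Lib.Helper1.GenRed
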