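import Mathlib
import Groth.Prelude.Def_CurvBase
import Groth.Agent.Lib.Helper1.GeomIrrSep
import Groth.Agent.Lib.Helper1.GenRed
import Groth.Agent.Lib.Helper15.GeomIrrSep

/-!
# Images of irreducible components under field base change
-/

set_option autoImplicit false
set_option linter.style.haveILetI false
set_option linter.unusedSectionVars false

universe u

open TensorProduct CategoryTheory CategoryTheory.Limits AlgebraicGeometry

namespace Groth.Agent.Lib.Helper1.IrrCompImage

/-- a field extension in which the base is separably closed is geometrically irreducible -/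
theorem geometricallyIrreducible_SpecMap_of_sep {k K : Type u} [Field k] [Field K] [Algebra k K]
    (H : ∀ α : K, IsSeparable k α → α ∈ Set.range (algebraMap k K)) :
    GeometricallyIrreducible (Spec.map (CommRingCat.ofHom (algebraMap k K))) := by
  refine ⟨fun L _ y Z fst snd h => ?_⟩
  obtain ⟨ψ, rfl⟩ := Spec.map_surjective y
  letI := ψ.hom.toAlgebra
  have e1 : Z ≅ pullback (Spec.map (CommRingCat.ofHom (algebraMap k K))) (Spec.map ψ) :=
    h.isoPullback
  have e2 : pullback (Spec.map (CommRingCat.ofHom (algebraMap k K))) (Spec.map ψ) ≅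
      Spec (.of (K ⊗[k] L)) := pullbackSpecIso k K L
  have h3 : IrreducibleSpace (PrimeSpectrum (L ⊗[k] K)) :=
    Groth.Agent.Lib.Helper15.GeomIrrSep.backward H L
  haveI : IrreducibleSpace ↥(Spec (.of (K ⊗[k] L))) :=
    (PrimeSpectrum.homeomorphOfRingEquiv
      (Algebra.TensorProduct.comm k K L).toRingEquiv).irreducibleSpace_iff.mpr h3
  exact (Scheme.homeoOfIso (e1 ≪≫ e2)).irreducibleSpace_iff.mpr inferInstance

section top

variable {Y X : Type*} [TopologicalSpace Y] [TopologicalSpace X] [QuasiSober Y] [T0Space Y]
  [QuasiSober X]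

/-- a closed generalizing continuous map sends irreducible components to irreducible
components -/
theorem image_mem_irreducibleComponents_of_closed_generalizing (p : Y → X) (hc : Continuous p)
    (hcl : IsClosedMap p) (hgen : GeneralizingMap p) {T : Set Y}
    (hT : T ∈ irreducibleComponents Y) : p '' T ∈ irreducibleComponents X := by
  obtain ⟨ζ, hζ⟩ := QuasiSober.sober hT.1 (isClosed_of_mem_irreducibleComponents T hT)
  have hζgen : ∀ ζ' : Y, ζ' ⤳ ζ → ζ' = ζ := by
    intro ζ' h
    have h1 : T ≤ closure {ζ'} := by
      rw [← hζ.def]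
      exact h.closure_subset
    have h2 : closure {ζ'} ≤ T := hT.2 isIrreducible_singleton.closure h1
    have h3 : IsGenericPoint ζ' T := le_antisymm h2 h1
    exact h3.eq hζ
  have himg : p '' T = closure {p ζ} := by
    apply le_antisymm
    · rw [← hζ.def]
      exact image_closure_subset_closure_image hc |>.trans (by rw [Set.image_singleton])
    · apply closure_minimal _ (hcl T (isClosed_of_mem_irreducibleComponents T hT))
      rw [Set.singleton_subset_iff]
      exact ⟨ζ, hζ.mem, rfl⟩
  rw [himg]
  apply Groth.Agent.Lib.Helper1.GenRed.closure_mem_irreducibleComponents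
  intro ξ hξ
  obtain ⟨ζ', hζ', rfl⟩ := hgen hξ
  rw [hζgen ζ' hζ']

end top

variable (k : Type u) [Field k] (X : Scheme.{u}) [X.Over (Spec (CommRingCat.of k))]
  (K : Type u) [Field K] [Algebra k K]

theorem image_mem_irreducibleComponents (T : Set ↥(Curv2.bc k X K))
    (hT : T ∈ irreducibleComponents ↥(Curv2.bc k X K)) :
    (Curv2.bcFst k X K).base '' T ∈ irreducibleComponents ↥X := by
  let f := X ↘ Spec (CommRingCat.of k)
  let k₁ : IntermediateField k K := separableClosure k K
  let g₁ : Spec (CommRingCat.of k₁) ⟶ Spec (CommRingCat.of k) :=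
    Spec.map (CommRingCat.ofHom (algebraMap k k₁))
  let g₂ : Spec (CommRingCat.of K) ⟶ Spec (CommRingCat.of k₁) :=
    Spec.map (CommRingCat.ofHom (algebraMap k₁ K))
  let g : Spec (CommRingCat.of K) ⟶ Spec (CommRingCat.of k) :=
    Spec.map (CommRingCat.ofHom (algebraMap k K))
  have hg : g = g₂ ≫ g₁ := by
    change Spec.map (CommRingCat.ofHom (algebraMap k K)) = _
    rw [IsScalarTower.algebraMap_eq k k₁ K, CommRingCat.ofHom_comp, Spec.map_comp]
  haveI : GeometricallyIrreducible g₂ := by
    apply geometricallyIrreducible_SpecMap_of_sep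
    intro α hα
    have h1 : α ∈ separableClosure k₁ K := mem_separableClosure_iff.mpr hα
    rw [separableClosure.separableClosure_eq_bot k K] at h1
    exact IntermediateField.mem_bot.mp h1
  haveI : Surjective g₂ := Groth.Agent.Lib.Helper1.GeomIrrSep.surjective_of_field g₂
  haveI : IsIntegralHom g₁ := by
    rw [IsIntegralHom.SpecMap_iff]
    exact algebraMap_isIntegral_iff.mpr inferInstance
  haveI : Flat g₁ := inferInstance
  let e : pullback f g ≅ pullback (pullback.snd f g₁) g₂ :=
    (pullback.congrHom rfl hg) ≪≫ (pullbackLeftPullbackSndIso f g₁ g₂).symm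
  let q : pullback f g ⟶ pullback f g₁ := e.hom ≫ pullback.fst (pullback.snd f g₁) g₂
  have hq : q ≫ pullback.fst f g₁ = pullback.fst f g := by
    simp only [q, e, Iso.trans_hom, Iso.symm_hom, Category.assoc,
      pullbackLeftPullbackSndIso_inv_fst, pullback.congrHom_hom, pullback.lift_fst]
    simp
  haveI : GeometricallyIrreducible q :=
    (MorphismProperty.cancel_left_of_respectsIso @GeometricallyIrreducible e.hom _).mpr
      inferInstance
  haveI : UniversallyOpen q := inferInstance
  haveI : Surjective q := inferInstance
  have hqopen : IsOpenMap q.base := q.isOpenMap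
  have h1 : q.base '' T ∈ irreducibleComponents ↥(pullback f g₁) :=
    image_mem_irreducibleComponents_of_isPreirreducible_fiber q.base q.continuous hqopen
      (fun x => (q.isIrreducible_preimage hqopen isIrreducible_singleton).isPreirreducible)
      q.surjective hT
  have h2 := image_mem_irreducibleComponents_of_closed_generalizing (pullback.fst f g₁).base
    (pullback.fst f g₁).continuous (pullback.fst f g₁).isClosedMap
    (Flat.generalizingMap (pullback.fst f g₁)) h1
  have h3 : (Curv2.bcFst k X K).base '' T = (pullback.fst f g₁).base '' (q.base '' T) := by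
    rw [Set.image_image]
    change (pullback.fst f g).base '' T = _
    rw [← hq]
    rfl
  rw [h3]
  exact h2

theorem exists_image_eq (Z : Set ↥X) (hZ : Z ∈ irreducibleComponents ↥X) :
    ∃ T ∈ irreducibleComponents ↥(Curv2.bc k X K), (Curv2.bcFst k X K).base '' T = Z := by
  haveI : Surjective (Spec.map (CommRingCat.ofHom (algebraMap k K))) :=
    Groth.Agent.Lib.Helper1.GeomIrrSep.surjective_of_field _
  haveI : Surjective (Curv2.bcFst k X K) :=
    inferInstanceAs (Surjective (pullback.fst (X ↘ Spec (CommRingCat.of k))
      (Spec.map (CommRingCat.ofHom (algebraMap k K)))))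
  obtain ⟨ξ, hξ⟩ := QuasiSober.sober hZ.1 (isClosed_of_mem_irreducibleComponents Z hZ)
  obtain ⟨y, hy⟩ := (Curv2.bcFst k X K).surjective ξ
  refine ⟨irreducibleComponent y, irreducibleComponent_mem_irreducibleComponents y, ?_⟩
  have h1 := image_mem_irreducibleComponents k X K _
    (irreducibleComponent_mem_irreducibleComponents y)
  have h2 : Z ≤ (Curv2.bcFst k X K).base '' irreducibleComponent y := by
    rw [← hξ.def]
    apply closure_minimal _ (isClosed_of_mem_irreducibleComponents _ h1)
    rw [Set.singleton_subset_iff]
    exact ⟨y, mem_irreducibleComponent, hy⟩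
  exact le_antisymm (hZ.2 h1.1 h2) h2

end Groth.Agent.Lib.Helper1.IrrCompImage
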