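import Mathlib
import Groth.Prelude.Def_Curv2
import Groth.Agent.Lib.Helper1.GalTop
import Groth.Agent.Lib.Helper1.GalRing
import Groth.Agent.Lib.Helper1.GeomIrrFinSep
import Groth.Agent.Lib.Helper1.IrrCompImage

/-!
# The Galois action on `X_K` for a Galois extension `K/k` (helper1)
-/

set_option autoImplicit false
set_option linter.style.haveILetI false
set_option linter.unusedSectionVars false

universe u

open TensorProduct CategoryTheory CategoryTheory.Limits AlgebraicGeometry Topology

namespace Groth.Agent.Lib.Helper1.GalScheme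

open Groth.Agent.Lib.Helper1.FPS Groth.Agent.Lib.Helper1.GeomIrrFinSep

variable (k : Type u) [Field k] (X : Scheme.{u}) [X.Over (Spec (CommRingCat.of k))]
  (K : Type u) [Field K] [Algebra k K]

@[reassoc (attr := simp)]
theorem galAct_fst (σ : Gal(K/k)) :
    Curv2.galAct k X K σ ≫ pullback.fst (X ↘ Spec (CommRingCat.of k))
      (Spec.map (CommRingCat.ofHom (algebraMap k K))) = pullback.fst _ _ := by
  unfold Curv2.galAct
  rw [pullback.lift_fst, Category.comp_id]

@[reassoc (attr := simp)]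
theorem galAct_snd (σ : Gal(K/k)) :
    Curv2.galAct k X K σ ≫ pullback.snd (X ↘ Spec (CommRingCat.of k))
      (Spec.map (CommRingCat.ofHom (algebraMap k K))) =
      pullback.snd _ _ ≫ Spec.map (CommRingCat.ofHom (σ : K →ₐ[k] K).toRingHom) := by
  unfold Curv2.galAct
  rw [pullback.lift_snd]

theorem galAct_one : Curv2.galAct k X K 1 = 𝟙 _ := by
  apply pullback.hom_ext
  · rw [galAct_fst, Category.id_comp]
  · rw [galAct_snd, Category.id_comp]
    have : CommRingCat.ofHom (((1 : Gal(K/k)) : K →ₐ[k] K).toRingHom) = 𝟙 _ := rfl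
    rw [this, Spec.map_id, Category.comp_id]

theorem galAct_mul (σ τ : Gal(K/k)) :
    Curv2.galAct k X K (σ * τ) = Curv2.galAct k X K σ ≫ Curv2.galAct k X K τ := by
  apply pullback.hom_ext
  · rw [galAct_fst, Category.assoc, galAct_fst, galAct_fst]
  · rw [galAct_snd, Category.assoc, galAct_snd, galAct_snd_assoc, ← Spec.map_comp]
    rfl

/-- the left action of `Gal(K/k)` on the points of `X_K` -/
noncomputable def mulAction : MulAction Gal(K/k) ↥(Curv2.bc k X K) where
  smul σ y := (Curv2.galAct k X K σ⁻¹).base y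
  one_smul y := by
    change (Curv2.galAct k X K (1 : Gal(K/k))⁻¹).base y = y
    rw [inv_one, galAct_one]
    rfl
  mul_smul σ τ y := by
    change (Curv2.galAct k X K (σ * τ)⁻¹).base y =
      (Curv2.galAct k X K σ⁻¹).base ((Curv2.galAct k X K τ⁻¹).base y)
    rw [mul_inv_rev, galAct_mul]
    rfl

attribute [local instance] mulAction

theorem smul_def (σ : Gal(K/k)) (y : ↥(Curv2.bc k X K)) :
    σ • y = (Curv2.galAct k X K σ⁻¹).base y := rfl

theorem fst_smul (σ : Gal(K/k)) (y : ↥(Curv2.bc k X K)) :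
    (Curv2.bcFst k X K).base (σ • y) = (Curv2.bcFst k X K).base y := by
  rw [smul_def, ← Scheme.Hom.comp_apply]
  have : Curv2.galAct k X K σ⁻¹ ≫ Curv2.bcFst k X K = Curv2.bcFst k X K := galAct_fst k X K σ⁻¹
  rw [this]

section chart

variable {A : Type u} [CommRing A] [Algebra k A] (iA : Spec (CommRingCat.of A) ⟶ X)
  (hA : Spec.map (CommRingCat.ofHom (algebraMap k A)) = iA ≫ (X ↘ Spec (CommRingCat.of k)))

/-- the chart `Spec (A ⊗[k] K) ⟶ X_K` -/
noncomputable abbrev ch : Spec (CommRingCat.of (A ⊗[k] K)) ⟶ Curv2.bc k X K :=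
  chart (X ↘ Spec (CommRingCat.of k)) (gK K) iA (𝟙 _) hA (hB K)

/-- the ring map `id ⊗ σ` -/
noncomputable abbrev tmap (σ : Gal(K/k)) : A ⊗[k] K →+* A ⊗[k] K :=
  (Algebra.TensorProduct.map (AlgHom.id A A) (σ : K →ₐ[k] K)).toRingHom

theorem ch_galAct (σ : Gal(K/k)) :
    ch k X K iA hA ≫ Curv2.galAct k X K σ =
      Spec.map (CommRingCat.ofHom (tmap k K (A := A) σ)) ≫ ch k X K iA hA := by
  apply pullback.hom_ext
  · rw [Category.assoc, galAct_fst, chart_fst, Category.assoc, chart_fst, ← Spec.map_comp_assoc]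
    congr 2
    ext a
    simp [tmap]
  · rw [Category.assoc, galAct_snd, chart_snd_assoc, Category.assoc, chart_snd,
      Category.id_comp, Category.comp_id, ← Spec.map_comp, ← Spec.map_comp]
    congr 1

theorem smul_ch (σ : Gal(K/k)) (P : Spec (CommRingCat.of (A ⊗[k] K))) :
    σ • (ch k X K iA hA).base P =
      (ch k X K iA hA).base ((Spec.map (CommRingCat.ofHom (tmap k K (A := A) σ⁻¹))).base P) := by
  rw [smul_def, ← Scheme.Hom.comp_apply, ch_galAct, Scheme.Hom.comp_apply]

end chart

/-- **Transitivity on fibres.** -/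
theorem exists_smul_eq [IsGalois k K] (y y' : ↥(Curv2.bc k X K))
    (h : (Curv2.bcFst k X K).base y = (Curv2.bcFst k X K).base y') :
    ∃ σ : Gal(K/k), σ • y = y' := by
  obtain ⟨A, _, _, iA, _, a, hA, ha⟩ :=
    exists_affine_chart (X ↘ Spec (CommRingCat.of k)) ((Curv2.bcFst k X K).base y)
  have hr := range_chart' (X ↘ Spec (CommRingCat.of k)) iA hA K
  have hy : y ∈ Set.range (ch k X K iA hA).base := by
    rw [hr]; exact ⟨a, ha⟩
  have hy' : y' ∈ Set.range (ch k X K iA hA).base := by
    rw [hr]; exact ⟨a, ha.trans h⟩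
  obtain ⟨P, rfl⟩ := hy
  obtain ⟨P', rfl⟩ := hy'
  have h1 := fst_chart_apply (X ↘ Spec (CommRingCat.of k)) (gK K) iA (𝟙 _) hA (hB K) P
  have h2 := fst_chart_apply (X ↘ Spec (CommRingCat.of k)) (gK K) iA (𝟙 _) hA (hB K) P'
  have h3 : (Spec.map (CommRingCat.ofHom
      (Algebra.TensorProduct.includeLeftRingHom : A →+* A ⊗[k] K))).base P =
      (Spec.map (CommRingCat.ofHom
      (Algebra.TensorProduct.includeLeftRingHom : A →+* A ⊗[k] K))).base P' := by
    apply iA.isOpenEmbedding.injective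
    rw [← h1, ← h2]
    exact h
  have h4 : P.asIdeal.comap (algebraMap A (A ⊗[k] K)) =
      P'.asIdeal.comap (algebraMap A (A ⊗[k] K)) := congrArg PrimeSpectrum.asIdeal h3
  obtain ⟨σ, hσ⟩ := GalRing.exists_smul_eq k A K P.asIdeal P'.asIdeal h4
  refine ⟨σ⁻¹, ?_⟩
  rw [smul_ch, inv_inv]
  congr 1
  apply PrimeSpectrum.ext
  exact hσ.symm

/-- a basis of compact open sets stabilised by open subgroups -/
theorem exists_basis [Algebra.IsIntegral k K] (z : ↥(Curv2.bc k X K))
    (O : Set ↥(Curv2.bc k X K)) (hO : IsOpen O) (hz : z ∈ O) :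
    ∃ B : Set ↥(Curv2.bc k X K), IsOpen B ∧ IsCompact B ∧ z ∈ B ∧ B ⊆ O ∧
      ∃ H : Subgroup Gal(K/k), IsOpen (H : Set Gal(K/k)) ∧ ∀ h ∈ H, ∀ b ∈ B, h • b ∈ B := by
  obtain ⟨A, _, _, iA, _, a, hA, ha⟩ :=
    exists_affine_chart (X ↘ Spec (CommRingCat.of k)) ((Curv2.bcFst k X K).base z)
  have hr := range_chart' (X ↘ Spec (CommRingCat.of k)) iA hA K
  have hzr : z ∈ Set.range (ch k X K iA hA).base := by
    rw [hr]; exact ⟨a, ha⟩
  obtain ⟨P, rfl⟩ := hzr
  have hO' : IsOpen ((ch k X K iA hA).base ⁻¹' O) := hO.preimage (ch k X K iA hA).continuous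
  obtain ⟨_, ⟨b, rfl⟩, hPb, hbO⟩ :=
    PrimeSpectrum.isTopologicalBasis_basic_opens.exists_subset_of_mem_open
      (show P ∈ (ch k X K iA hA).base ⁻¹' O from hz) hO'
  refine ⟨(ch k X K iA hA).base '' (PrimeSpectrum.basicOpen b : Set (PrimeSpectrum (A ⊗[k] K))),
    (ch k X K iA hA).isOpenEmbedding.isOpenMap _ (PrimeSpectrum.basicOpen b).isOpen,
    (PrimeSpectrum.isCompact_basicOpen b).image (ch k X K iA hA).continuous,
    ⟨P, hPb, rfl⟩, Set.image_subset_iff.mpr hbO, ?_⟩
  letI := GalRing.galAction k A K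
  refine ⟨MulAction.stabilizer Gal(K/k) b, GalRing.stabilizer_isOpen k A K b, ?_⟩
  rintro h hh _ ⟨Q, hQ, rfl⟩
  rw [smul_ch]
  refine ⟨_, ?_, rfl⟩
  change b ∉ (Ideal.comap (tmap k K (A := A) h⁻¹) Q.asIdeal)
  rw [Ideal.mem_comap]
  have hb : tmap k K (A := A) h⁻¹ b = b := by
    have : h⁻¹ • b = b := by
      have := (MulAction.stabilizer Gal(K/k) b).inv_mem hh
      exact this
    rw [GalRing.smul_def] at this
    exact this
  rw [hb]
  exact hQ

theorem continuous_smul_const (σ : Gal(K/k)) :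
    Continuous (fun y : ↥(Curv2.bc k X K) => σ • y) :=
  (Curv2.galAct k X K σ⁻¹).continuous

/-- the action is jointly continuous -/
theorem continuousSMul [Algebra.IsIntegral k K] : ContinuousSMul Gal(K/k) ↥(Curv2.bc k X K) := by
  constructor
  rw [continuous_iff_continuousAt]
  rintro ⟨g₀, y₀⟩
  rw [ContinuousAt, nhds_prod_eq]
  intro O hO
  obtain ⟨O', hO'O, hO'o, hzO'⟩ := mem_nhds_iff.mp hO
  obtain ⟨B, hBo, -, hzB, hBO, H, hHo, hHB⟩ := exists_basis k X K (g₀ • y₀) O' hO'o hzO'
  have h1 : (fun g : Gal(K/k) => g * g₀⁻¹) ⁻¹' (H : Set Gal(K/k)) ∈ 𝓝 g₀ := by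
    apply (hHo.preimage (continuous_mul_right g₀⁻¹)).mem_nhds
    change g₀ * g₀⁻¹ ∈ H
    rw [mul_inv_cancel]; exact H.one_mem
  have h2 : (fun y : ↥(Curv2.bc k X K) => g₀ • y) ⁻¹' B ∈ 𝓝 y₀ :=
    (hBo.preimage (continuous_smul_const k X K g₀)).mem_nhds hzB
  rw [Filter.mem_map]
  refine Filter.mem_of_superset (Filter.prod_mem_prod h1 h2) ?_
  rintro ⟨g, y⟩ ⟨hg, hy⟩
  apply hO'O
  apply hBO
  have : g • y = (g * g₀⁻¹) • (g₀ • y) := by rw [← mul_smul, inv_mul_cancel_right]
  change g • y ∈ B
  rw [this]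
  exact hHB _ hg _ hy

/-- the hypotheses of the abstract theorem hold for `X_K → X` (`K/k` Galois) -/
theorem setup [IsGalois k K] :
    letI := continuousSMul k X K
    GalTop.Setup Gal(K/k) (Curv2.bcFst k X K).base := by
  letI := continuousSMul k X K
  have hint : IsIntegralHom (Spec.map (CommRingCat.ofHom (algebraMap k K))) := by
    rw [IsIntegralHom.SpecMap_iff]
    exact algebraMap_isIntegral_iff.mpr inferInstance
  haveI : IsIntegralHom (Curv2.bcFst k X K) :=
    inferInstanceAs (IsIntegralHom (pullback.fst (X ↘ Spec (CommRingCat.of k))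
      (Spec.map (CommRingCat.ofHom (algebraMap k K)))))
  haveI : UniversallyOpen (Curv2.bcFst k X K) :=
    inferInstanceAs (UniversallyOpen (pullback.fst (X ↘ Spec (CommRingCat.of k))
      (Spec.map (CommRingCat.ofHom (algebraMap k K)))))
  refine ⟨(Curv2.bcFst k X K).continuous, (Curv2.bcFst k X K).isOpenMap,
    (Curv2.bcFst k X K).isClosedMap, fst_smul k X K, exists_smul_eq k X K, ?_, ?_⟩
  · intro y O hO hy
    obtain ⟨B, hBo, hBc, hzB, hBO, -⟩ := exists_basis k X K y O hO hy
    exact ⟨B, hBo, hBc, hzB, hBO⟩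
  · intro N hN
    obtain ⟨E, hE, hEN⟩ := (krullTopology_mem_nhds_one_iff k K N).mp hN
    exact ⟨E.fixingSubgroup, hEN, E.fixingSubgroup_isOpen⟩

/-- **Stacks 04Q0 for Galois extensions.** -/
theorem image_connectedComponent_of_isGalois [IsGalois k K] (y : ↥(Curv2.bc k X K)) :
    (Curv2.bcFst k X K).base '' connectedComponent y =
      connectedComponent ((Curv2.bcFst k X K).base y) := by
  letI := continuousSMul k X K
  exact GalTop.image_connectedComponent (setup k X K) y

/-- `galAct σ` as an isomorphism -/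
noncomputable def galActIso (σ : Gal(K/k)) : Curv2.bc k X K ≅ Curv2.bc k X K where
  hom := Curv2.galAct k X K σ
  inv := Curv2.galAct k X K σ⁻¹
  hom_inv_id := by rw [← galAct_mul, mul_inv_cancel, galAct_one]
  inv_hom_id := by rw [← galAct_mul, inv_mul_cancel, galAct_one]

/-- Galois-conjugacy of irreducible components with the same image (Stacks 04KY-type). -/
theorem exists_galAct_image_eq [IsGalois k K] (Z' Z'' : Set ↥(Curv2.bc k X K))
    (hZ' : Z' ∈ irreducibleComponents ↥(Curv2.bc k X K))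
    (hZ'' : Z'' ∈ irreducibleComponents ↥(Curv2.bc k X K))
    (h : (Curv2.bcFst k X K).base '' Z' = (Curv2.bcFst k X K).base '' Z'') :
    ∃ σ : Gal(K/k), (Curv2.galAct k X K σ).base '' Z' = Z'' := by
  have hint : IsIntegralHom (Spec.map (CommRingCat.ofHom (algebraMap k K))) := by
    rw [IsIntegralHom.SpecMap_iff]
    exact algebraMap_isIntegral_iff.mpr inferInstance
  haveI : IsIntegralHom (Curv2.bcFst k X K) :=
    inferInstanceAs (IsIntegralHom (pullback.fst (X ↘ Spec (CommRingCat.of k))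
      (Spec.map (CommRingCat.ofHom (algebraMap k K)))))
  have hcl : IsClosedMap (Curv2.bcFst k X K).base := (Curv2.bcFst k X K).isClosedMap
  have hZ'c := isClosed_of_mem_irreducibleComponents Z' hZ'
  have hZ''c := isClosed_of_mem_irreducibleComponents Z'' hZ''
  obtain ⟨η', hη'⟩ := QuasiSober.sober hZ'.1 hZ'c
  obtain ⟨η'', hη''⟩ := QuasiSober.sober hZ''.1 hZ''c
  have hgen : ∀ (Z : Set ↥(Curv2.bc k X K)) (η : ↥(Curv2.bc k X K)), IsClosed Z →
      IsGenericPoint η Z →
      IsGenericPoint ((Curv2.bcFst k X K).base η) ((Curv2.bcFst k X K).base '' Z) := by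
    intro Z η hZc hη
    apply le_antisymm
    · apply closure_minimal _ (hcl Z hZc)
      rw [Set.singleton_subset_iff]
      exact ⟨η, hη.mem, rfl⟩
    · rw [← hη.def]
      exact (image_closure_subset_closure_image (Curv2.bcFst k X K).continuous).trans
        (by rw [Set.image_singleton])
  have h1 := hgen Z' η' hZ'c hη'
  have h2 := hgen Z'' η'' hZ''c hη''
  rw [h] at h1
  obtain ⟨σ, hσ⟩ := exists_smul_eq k X K η' η'' (h1.eq h2)
  refine ⟨σ⁻¹, ?_⟩
  let hhomeo := (Scheme.homeoOfIso (galActIso k X K σ⁻¹))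
  have : (Curv2.galAct k X K σ⁻¹).base '' Z' = hhomeo '' Z' := rfl
  rw [this, ← hη'.def, hhomeo.image_closure, Set.image_singleton, ← hη''.def]
  congr 2

/-- Stacks 04KV: a connected `T_K` mapping to `X_K` with `X` connected forces `X_K` connected. -/
theorem connectedSpace_of_map [IsGalois k K] (T : Scheme.{u}) [T.Over (Spec (CommRingCat.of k))]
    (f : T ⟶ X) [f.IsOver (Spec (CommRingCat.of k))] [ConnectedSpace ↥(Curv2.bc k T K)]
    [ConnectedSpace ↥X] : ConnectedSpace ↥(Curv2.bc k X K) := by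
  let g := Spec.map (CommRingCat.ofHom (algebraMap k K))
  let fK : Curv2.bc k T K ⟶ Curv2.bc k X K :=
    pullback.map (T ↘ Spec (CommRingCat.of k)) g (X ↘ Spec (CommRingCat.of k)) g f (𝟙 _) (𝟙 _)
      (by rw [Category.comp_id, comp_over f]) (by rw [Category.comp_id, Category.id_comp])
  have hfst : fK ≫ pullback.fst (X ↘ Spec (CommRingCat.of k)) g =
      pullback.fst (T ↘ Spec (CommRingCat.of k)) g ≫ f := pullback.lift_fst _ _ _
  have hsnd : fK ≫ pullback.snd (X ↘ Spec (CommRingCat.of k)) g =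
      pullback.snd (T ↘ Spec (CommRingCat.of k)) g ≫ 𝟙 _ := pullback.lift_snd _ _ _
  have hequiv : ∀ σ : Gal(K/k), fK ≫ Curv2.galAct k X K σ = Curv2.galAct k T K σ ≫ fK := by
    intro σ
    apply pullback.hom_ext
    · rw [Category.assoc, galAct_fst, Category.assoc, hfst, galAct_fst_assoc]
    · rw [Category.assoc, galAct_snd, Category.assoc, hsnd, reassoc_of% hsnd,
        Category.comp_id, galAct_snd]
  obtain ⟨t₀⟩ := (inferInstance : Nonempty ↥(Curv2.bc k T K))
  rw [connectedSpace_iff_connectedComponent]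
  refine ⟨fK.base t₀, Set.eq_univ_of_forall fun y => ?_⟩
  have himg : Set.range fK.base ⊆ connectedComponent (fK.base t₀) :=
    (isPreconnected_range fK.continuous).subset_connectedComponent ⟨t₀, rfl⟩
  have h1 := image_connectedComponent_of_isGalois k X K (fK.base t₀)
  have h1' : connectedComponent ((Curv2.bcFst k X K).base (fK.base t₀)) = Set.univ :=
    PreconnectedSpace.connectedComponent_eq_univ _
  obtain ⟨y₁, hy₁, hqy⟩ : (Curv2.bcFst k X K).base y ∈
      (Curv2.bcFst k X K).base '' connectedComponent (fK.base t₀) := by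
    rw [h1, h1']; trivial
  obtain ⟨σ, hσ⟩ := exists_smul_eq k X K y₁ y hqy
  have h2 : (Curv2.galAct k X K σ⁻¹).base (fK.base t₀) ∈ connectedComponent (fK.base t₀) := by
    apply himg
    rw [← Scheme.Hom.comp_apply, hequiv, Scheme.Hom.comp_apply]
    exact ⟨_, rfl⟩
  have h3 : (Curv2.galAct k X K σ⁻¹).base '' connectedComponent (fK.base t₀) ⊆
      connectedComponent (fK.base t₀) :=
    ((isPreconnected_connectedComponent.image _
      (Curv2.galAct k X K σ⁻¹).continuous.continuousOn).subset_connectedComponent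
      ⟨_, mem_connectedComponent, rfl⟩).trans (connectedComponent_eq h2).symm.subset
  rw [← hσ]
  exact h3 ⟨y₁, hy₁, rfl⟩

/-- Stacks 038B-type descent: a closed Galois-stable subset is the inverse image of a closed
subset of `X`. -/
theorem exists_isClosed_preimage_eq [IsGalois k K] (T' : Set ↥(Curv2.bc k X K)) (hT' : IsClosed T')
    (hinv : ∀ σ : Gal(K/k), (Curv2.galAct k X K σ).base '' T' = T') :
    ∃ T : Set ↥X, IsClosed T ∧ (Curv2.bcFst k X K).base ⁻¹' T = T' := by
  letI := continuousSMul k X K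
  have hs := setup k X K
  refine ⟨(Curv2.bcFst k X K).base '' T', hs.isClosedMap _ hT', ?_⟩
  apply Set.Subset.antisymm
  · rintro y ⟨y₁, hy₁, hq⟩
    obtain ⟨σ, hσ⟩ := exists_smul_eq k X K y₁ y hq
    rw [← hσ, ← hinv σ⁻¹]
    exact ⟨y₁, hy₁, rfl⟩
  · exact Set.subset_preimage_image _ _

/-- Stacks 038A-type: a quasi-compact open of `X_K` is stabilised by an open subgroup. -/
theorem exists_fixingSubgroup_stabilizes [IsGalois k K] (V : Set ↥(Curv2.bc k X K))
    (hV : IsOpen V) (hVc : IsCompact V) :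
    ∃ E : IntermediateField k K, FiniteDimensional k ↥E ∧
      ∀ σ : Gal(K/k), (∀ a : K, a ∈ E → σ a = a) → (Curv2.galAct k X K σ).base '' V = V := by
  letI := continuousSMul k X K
  obtain ⟨H, hHo, hH⟩ := GalTop.exists_subgroup_smul_mem (setup k X K) hV hVc
  obtain ⟨E, hE, hEH⟩ := (krullTopology_mem_nhds_one_iff k K H).mp (hHo.mem_nhds H.one_mem)
  refine ⟨E, hE, fun σ hσ => ?_⟩
  have hσE : σ ∈ E.fixingSubgroup := by
    rw [IntermediateField.mem_fixingSubgroup_iff]
    exact fun a ha => hσ a ha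
  have hσH : σ ∈ H := hEH hσE
  apply Set.Subset.antisymm
  · rintro _ ⟨v, hv, rfl⟩
    have := hH σ⁻¹ (H.inv_mem hσH) v hv
    rwa [smul_def, inv_inv] at this
  · intro v hv
    refine ⟨σ • v, hH σ hσH v hv, ?_⟩
    rw [smul_def, ← Scheme.Hom.comp_apply, ← galAct_mul, inv_mul_cancel, galAct_one]
    rfl

section tower

variable {k} {X}

/-- the transition morphism `X_K ⟶ X_{k₁}` for a tower `k ⊆ k₁ ⊆ K` -/
theorem exists_trans (k₁ K : Type u) [Field k₁] [Field K] [Algebra k k₁] [Algebra k₁ K]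
    [Algebra k K] [IsScalarTower k k₁ K] :
    ∃ q : Curv2.bc k X K ⟶ Curv2.bc k X k₁, q ≫ Curv2.bcFst k X k₁ = Curv2.bcFst k X K ∧
      Surjective q ∧ UniversallyOpen q ∧
      (GeometricallyIrreducible (Spec.map (CommRingCat.ofHom (algebraMap k₁ K))) →
        GeometricallyIrreducible q) := by
  let f := X ↘ Spec (CommRingCat.of k)
  let g₁ : Spec (CommRingCat.of k₁) ⟶ Spec (CommRingCat.of k) :=
    Spec.map (CommRingCat.ofHom (algebraMap k k₁))
  let g₂ : Spec (CommRingCat.of K) ⟶ Spec (CommRingCat.of k₁) :=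
    Spec.map (CommRingCat.ofHom (algebraMap k₁ K))
  let g : Spec (CommRingCat.of K) ⟶ Spec (CommRingCat.of k) :=
    Spec.map (CommRingCat.ofHom (algebraMap k K))
  have hg : g = g₂ ≫ g₁ := by
    change Spec.map (CommRingCat.ofHom (algebraMap k K)) = _
    rw [IsScalarTower.algebraMap_eq k k₁ K, CommRingCat.ofHom_comp, Spec.map_comp]
  haveI : Surjective g₂ := Groth.Agent.Lib.Helper1.GeomIrrSep.surjective_of_field g₂
  let e : pullback f g ≅ pullback (pullback.snd f g₁) g₂ :=
    (pullback.congrHom rfl hg) ≪≫ (pullbackLeftPullbackSndIso f g₁ g₂).symm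
  let q : pullback f g ⟶ pullback f g₁ := e.hom ≫ pullback.fst (pullback.snd f g₁) g₂
  have hq : q ≫ pullback.fst f g₁ = pullback.fst f g := by
    simp only [q, e, Iso.trans_hom, Iso.symm_hom, Category.assoc,
      pullbackLeftPullbackSndIso_inv_fst, pullback.congrHom_hom, pullback.lift_fst]
    simp
  refine ⟨q, hq, inferInstance, inferInstance, fun h => ?_⟩
  haveI : GeometricallyIrreducible g₂ := h
  exact (MorphismProperty.cancel_left_of_respectsIso @GeometricallyIrreducible e.hom _).mpr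
    inferInstance

end tower

/-- Step A: if `K/k₁` is geometrically irreducible, connected components of `X_K` map onto
connected components of `X_{k₁}`. -/
theorem image_connectedComponent_of_geomIrr {Y Z : Scheme.{u}} (q : Y ⟶ Z) [Surjective q]
    [UniversallyOpen q] [GeometricallyIrreducible q] (y : Y) :
    q.base '' connectedComponent y = connectedComponent (q.base y) := by
  have hqopen : IsOpenMap q.base := q.isOpenMap
  exact (hqopen.isQuotientMap q.continuous q.surjective).isCoinducing.image_connectedComponent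
    (fun x => (q.isIrreducible_preimage hqopen isIrreducible_singleton).isConnected) y

/-- Step B: separable algebraic extensions. -/
theorem image_connectedComponent_of_isSeparable (k₁ : Type u) [Field k₁] [Algebra k k₁]
    [Algebra.IsSeparable k k₁] (y : ↥(Curv2.bc k X k₁)) :
    (Curv2.bcFst k X k₁).base '' connectedComponent y =
      connectedComponent ((Curv2.bcFst k X k₁).base y) := by
  apply Set.Subset.antisymm
  · exact (isPreconnected_connectedComponent.image _
      (Curv2.bcFst k X k₁).continuous.continuousOn).subset_connectedComponent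
      ⟨y, mem_connectedComponent, rfl⟩
  let Ω := SeparableClosure k
  let φ : k₁ →ₐ[k] Ω := IsSepClosed.lift
  letI : Algebra k₁ Ω := φ.toRingHom.toAlgebra
  haveI : IsScalarTower k k₁ Ω := IsScalarTower.of_algebraMap_eq fun x => (φ.commutes x).symm
  obtain ⟨r, hr, hrs, -, -⟩ := exists_trans (k := k) (X := X) k₁ Ω
  obtain ⟨yb, hyb⟩ := r.surjective y
  have h1 := image_connectedComponent_of_isGalois k X Ω yb
  have h2 : (Curv2.bcFst k X Ω).base yb = (Curv2.bcFst k X k₁).base y := by
    rw [← hr, Scheme.Hom.comp_apply, hyb]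
  have h3 : r.base '' connectedComponent yb ⊆ connectedComponent y := by
    apply (isPreconnected_connectedComponent.image _ r.continuous.continuousOn).subset_connectedComponent
    exact ⟨yb, mem_connectedComponent, hyb⟩
  rw [← h2, ← h1]
  rintro _ ⟨w, hw, rfl⟩
  refine ⟨r.base w, h3 ⟨w, hw, rfl⟩, ?_⟩
  rw [← Scheme.Hom.comp_apply, hr]

/-- **Stacks 04Q0.** For any field extension `K/k` the image in `X` of a connected component of
`X_K` is a connected component of `X`. -/
theorem image_connectedComponent (y : ↥(Curv2.bc k X K)) :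
    (Curv2.bcFst k X K).base '' connectedComponent y =
      connectedComponent ((Curv2.bcFst k X K).base y) := by
  let k₁ : IntermediateField k K := separableClosure k K
  obtain ⟨q, hq, hqs, hqo, hqi⟩ := exists_trans (k := k) (X := X) k₁ K
  haveI : GeometricallyIrreducible q := by
    apply hqi
    apply IrrCompImage.geometricallyIrreducible_SpecMap_of_sep
    intro α hα
    have h1 : α ∈ separableClosure k₁ K := mem_separableClosure_iff.mpr hα
    rw [separableClosure.separableClosure_eq_bot k K] at h1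
    exact IntermediateField.mem_bot.mp h1
  have h1 := image_connectedComponent_of_geomIrr q y
  have h2 := image_connectedComponent_of_isSeparable k X k₁ (q.base y)
  have h3 : (Curv2.bcFst k X K).base = (Curv2.bcFst k X k₁).base ∘ q.base := by
    rw [← hq]; rfl
  rw [h3, Set.image_comp, h1, h2]
  rfl

end Groth.Agent.Lib.Helper1.GalScheme
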