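import Mathlib
import Groth.Agent.Lib.Helper1.GalTop

/-!
# Transfer of the Galois quotient setup along open surjections (helper1)

If `q : Y → X` satisfies `GalTop.Setup G q` and `π : Y → Y'`, `π₀ : X → X'` are continuous open
surjections, equivariant and compatible with `q' : Y' → X'`, such that `Y → Y' ×_{X'} X` is
surjective, then `q'` satisfies `GalTop.Setup G q'`.
-/

set_option autoImplicit false
set_option linter.style.haveILetI false
set_option linter.unusedSectionVars false

open Pointwise Topology Set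

namespace Groth.Agent.Lib.Helper1.GalTop

variable {G : Type*} {Y X Y' X' : Type*} [Group G] [TopologicalSpace G] [IsTopologicalGroup G]
  [CompactSpace G] [TopologicalSpace Y] [MulAction G Y] [ContinuousSMul G Y] [TopologicalSpace X]
  [TopologicalSpace Y'] [MulAction G Y'] [TopologicalSpace X']

omit [IsTopologicalGroup G] [CompactSpace G] in
theorem continuousSMul_of_cover (π : Y → Y') (hπc : Continuous π) (hπo : IsOpenMap π)
    (hπs : Function.Surjective π) (hequiv : ∀ (g : G) (y : Y), π (g • y) = g • π y) :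
    ContinuousSMul G Y' := by
  refine ⟨?_⟩
  have hq : IsQuotientMap (Prod.map (id : G → G) π) :=
    (IsOpenMap.id.prodMap hπo).isQuotientMap (continuous_id.prodMap hπc)
      (Function.surjective_id.prodMap hπs)
  have : (fun p : G × Y' => p.1 • p.2) ∘ Prod.map (id : G → G) π =
      π ∘ (fun p : G × Y => p.1 • p.2) := by
    ext ⟨g, y⟩
    exact (hequiv g y).symm
  apply hq.continuous_iff.mpr
  rw [this]
  exact hπc.comp continuous_smul

variable [ContinuousSMul G Y']

theorem Setup.of_cover {q : Y → X} (hq : Setup G q) {q' : Y' → X'} (π : Y → Y') (π₀ : X → X')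
    (hπc : Continuous π) (hπo : IsOpenMap π) (hπs : Function.Surjective π)
    (hπ₀c : Continuous π₀) (hπ₀o : IsOpenMap π₀) (hπ₀s : Function.Surjective π₀)
    (hq'c : Continuous q') (hcomm : ∀ y, q' (π y) = π₀ (q y))
    (hequiv : ∀ (g : G) (y : Y), π (g • y) = g • π y)
    (hfp : ∀ (y' : Y') (x : X), q' y' = π₀ x → ∃ y, π y = y' ∧ q y = x) :
    Setup G q' where
  cont := hq'c
  isOpenMap := by
    intro W hW
    have : q' '' W = π₀ '' (q '' (π ⁻¹' W)) := by
      ext x'
      constructor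
      · rintro ⟨y', hy', rfl⟩
        obtain ⟨y, rfl⟩ := hπs y'
        exact ⟨q y, ⟨y, hy', rfl⟩, (hcomm y).symm⟩
      · rintro ⟨_, ⟨y, hy, rfl⟩, rfl⟩
        exact ⟨π y, hy, hcomm y⟩
    rw [this]
    exact hπ₀o _ (hq.isOpenMap _ (hW.preimage hπc))
  isClosedMap := by
    intro T hT
    have hquot : IsQuotientMap π₀ := hπ₀o.isQuotientMap hπ₀c hπ₀s
    rw [← hquot.isClosed_preimage]
    have : π₀ ⁻¹' (q' '' T) = q '' (π ⁻¹' T) := by
      ext x
      constructor
      · rintro ⟨y', hy', hx⟩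
        obtain ⟨y, rfl, rfl⟩ := hfp y' x hx
        exact ⟨y, hy', rfl⟩
      · rintro ⟨y, hy, rfl⟩
        exact ⟨π y, hy, hcomm y⟩
    rw [this]
    exact hq.isClosedMap _ (hT.preimage hπc)
  inv := by
    intro g y'
    obtain ⟨y, rfl⟩ := hπs y'
    rw [← hequiv, hcomm, hcomm, hq.inv]
  trans := by
    intro y' y'' h
    obtain ⟨y, rfl⟩ := hπs y'
    obtain ⟨z, rfl, hz⟩ := hfp y'' (q y) (h.symm.trans (hcomm y))
    obtain ⟨g, rfl⟩ := hq.trans y z hz.symm
    exact ⟨g, (hequiv g y).symm⟩
  basis := by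
    intro y' O hO hy'
    obtain ⟨y, rfl⟩ := hπs y'
    obtain ⟨U, hUo, hUc, hyU, hUO⟩ := hq.basis y (π ⁻¹' O) (hO.preimage hπc) hy'
    exact ⟨π '' U, hπo U hUo, hUc.image hπc, ⟨y, hyU, rfl⟩, Set.image_subset_iff.mpr hUO⟩
  nhds_one := hq.nhds_one

end Groth.Agent.Lib.Helper1.GalTop
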