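import Groth.Agent.Lib.Helper14.GeomRed2
import Groth.Agent.Lib.Helper1.GalScheme
import Groth.Agent.Lib.Helper1.GalTopCover

/-!
# Galois action on the points of `X_K` for an algebraic space `X` over a field (helper1)
-/

set_option autoImplicit false
set_option linter.style.haveILetI false
set_option linter.unusedSectionVars false

universe u
open CategoryTheory CategoryTheory.Limits AlgebraicGeometry Opposite

namespace Groth.Agent.Lib.Helper1.AlgSpGal
open AlgSp Groth.Agent.Lib.Helper14.AS

variable (k : Type u) [Field k] (K : Type u) [Field K] [Algebra k K]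

/-- `Spec σ` as an endomorphism of `Spec K` over `k` -/
noncomputable def galHom (σ : Gal(K/k)) : fieldOver k K ⟶ fieldOver k K :=
  Over.homMk (Spec.map (CommRingCat.ofHom (σ : K →ₐ[k] K).toRingHom)) (by
    change Spec.map _ ≫ Spec.map _ = Spec.map _
    rw [← Spec.map_comp, ← CommRingCat.ofHom_comp, AlgHom.toRingHom_eq_coe,
      AlgHom.comp_algebraMap])

theorem galHom_left (σ : Gal(K/k)) :
    (galHom k K σ).left = Spec.map (CommRingCat.ofHom (σ : K →ₐ[k] K).toRingHom) := rfl

theorem galHom_one : galHom k K 1 = 𝟙 _ := by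
  apply Over.OverMorphism.ext
  rw [galHom_left]
  change Spec.map (CommRingCat.ofHom (RingHom.id K)) = 𝟙 _
  exact Spec.map_id _

theorem galHom_mul (σ τ : Gal(K/k)) : galHom k K (σ * τ) = galHom k K σ ≫ galHom k K τ := by
  apply Over.OverMorphism.ext
  rw [Over.comp_left, galHom_left, galHom_left, galHom_left, ← Spec.map_comp,
    ← CommRingCat.ofHom_comp]
  rfl

theorem eq_galHom (σ : Gal(K/k)) (g : fieldOver k K ⟶ fieldOver k K)
    (hg : g.left = Spec.map (CommRingCat.ofHom (σ : K ≃ₐ[k] K).toRingHom)) : g = galHom k K σ := by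
  apply Over.OverMorphism.ext
  rw [hg, galHom_left]
  rfl

variable (X : Sp (Spec (CommRingCat.of k)))

/-- the base change `X_K` -/
noncomputable abbrev XK : Sp (Spec (CommRingCat.of k)) :=
  X ⨯ (yon (Spec (CommRingCat.of k))).obj (fieldOver k K)

/-- `id × Spec σ` on `X_K` -/
noncomputable def act (σ : Gal(K/k)) : XK k K X ⟶ XK k K X :=
  prod.map (𝟙 X) ((yon (Spec (CommRingCat.of k))).map (galHom k K σ))

theorem act_one : act k K X 1 = 𝟙 _ := by
  unfold act
  rw [galHom_one]
  erw [(yon (Spec (CommRingCat.of k))).map_id]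
  exact Limits.prod.map_id_id

theorem act_mul (σ τ : Gal(K/k)) : act k K X (σ * τ) = act k K X σ ≫ act k K X τ := by
  unfold act
  rw [galHom_mul, Functor.map_comp, Limits.prod.map_map, Category.id_comp]

theorem act_fst (σ : Gal(K/k)) : act k K X σ ≫ prod.fst = prod.fst := by
  unfold act
  rw [Limits.prod.map_fst, Category.comp_id]

/-- the action of `Gal(K/k)` on `|X_K|` -/
noncomputable def mulAction : MulAction Gal(K/k) (Points (XK k K X)) where
  smul σ x := Points.map (act k K X σ⁻¹) x
  one_smul x := by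
    change Points.map (act k K X (1 : Gal(K/k))⁻¹) x = x
    rw [inv_one, act_one, Points.map_id]
  mul_smul σ τ x := by
    change Points.map (act k K X (σ * τ)⁻¹) x =
      Points.map (act k K X σ⁻¹) (Points.map (act k K X τ⁻¹) x)
    rw [mul_inv_rev, act_mul, Points.map_comp]

attribute [local instance] mulAction

theorem smul_def (σ : Gal(K/k)) (x : Points (XK k K X)) :
    σ • x = Points.map (act k K X σ⁻¹) x := rfl

section chart

variable {X} {U : Over (Spec (CommRingCat.of k))}
  (a : (yon (Spec (CommRingCat.of k))).obj U ⟶ X)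

/-- the chart scheme as a `k`-scheme -/
noncomputable abbrev overU (U : Over (Spec (CommRingCat.of k))) :
    U.left.Over (Spec (CommRingCat.of k)) := ⟨U.hom⟩

attribute [local instance] overU

/-- `(U × Spec K).left ≅ U ×_k Spec K` -/
noncomputable def eU (U : Over (Spec (CommRingCat.of k))) :
    (U ⨯ fieldOver k K).left ≅ Curv2.bc k U.left K :=
  Over.prodLeftIsoPullback U (fieldOver k K)

theorem eU_hom_fst : (eU k K U).hom ≫ Curv2.bcFst k U.left K =
    (prod.fst : U ⨯ fieldOver k K ⟶ U).left :=
  Over.prodLeftIsoPullback_hom_fst U (fieldOver k K)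

theorem eU_hom_snd : (eU k K U).hom ≫ Curv2.bcSnd k U.left K =
    (prod.snd : U ⨯ fieldOver k K ⟶ fieldOver k K).left :=
  Over.prodLeftIsoPullback_hom_snd U (fieldOver k K)

theorem eU_inv_fst : (eU k K U).inv ≫ (prod.fst : U ⨯ fieldOver k K ⟶ U).left =
    Curv2.bcFst k U.left K :=
  Over.prodLeftIsoPullback_inv_fst U (fieldOver k K)

/-- chart-level compatibility of the two Galois actions -/
theorem prodMap_left_eU (σ : Gal(K/k)) :
    (prod.map (𝟙 U) (galHom k K σ)).left ≫ (eU k K U).hom =
      (eU k K U).hom ≫ Curv2.galAct k U.left K σ := by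
  apply pullback.hom_ext
  · rw [Category.assoc, Category.assoc]
    erw [eU_hom_fst k K, GalScheme.galAct_fst k U.left K σ, eU_hom_fst k K]
    rw [← Over.comp_left, Limits.prod.map_fst, Category.comp_id]
  · rw [Category.assoc, Category.assoc]
    erw [eU_hom_snd k K, GalScheme.galAct_snd k U.left K σ]
    rw [← Category.assoc]
    erw [eU_hom_snd k K]
    rw [← Over.comp_left, Limits.prod.map_snd, Over.comp_left]
    rfl

/-- the chart map `|U_K| → |X_K|` -/
noncomputable def piK : ↥(Curv2.bc k U.left K) → Points (XK k K X) :=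
  fun y => Points.ofPt (bcChart K a) ((eU k K U).inv.base y)

theorem piK_continuous : Continuous (piK k K a) :=
  (Points.continuous_ofPt (bcChart K a)).comp (eU k K U).inv.continuous

theorem piK_isOpenMap (ha : RepWith @Etale a) : IsOpenMap (piK k K a) :=
  (isOpenMap_ofPt (bcChart K a) (repWith_bcChart K a ha)).comp
    (Scheme.homeoOfIso (eU k K U).symm).isOpenMap

theorem piK_comm (y : ↥(Curv2.bc k U.left K)) :
    Points.map (prod.fst : XK k K X ⟶ X) (piK k K a y) =
      Points.ofPt a ((Curv2.bcFst k U.left K).base y) := by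
  unfold piK
  rw [map_fst_ofPt_bcChart, ← Scheme.Hom.comp_apply, eU_inv_fst]

theorem piK_fp (x' : Points (XK k K X)) (u : ↥U.left)
    (h : Points.map (prod.fst : XK k K X ⟶ X) x' = Points.ofPt a u) :
    ∃ y, piK k K a y = x' ∧ (Curv2.bcFst k U.left K).base y = u := by
  obtain ⟨u', hu'1, hu'2⟩ := exists_ofPt_bcChart_eq K a x' u h
  refine ⟨(eU k K U).hom.base u', ?_, ?_⟩
  · unfold piK
    rw [← Scheme.Hom.comp_apply, Iso.hom_inv_id]
    exact hu'1
  · rw [← Scheme.Hom.comp_apply, eU_hom_fst]
    exact hu'2

theorem piK_surjective (has : RepWith @Surjective a) : Function.Surjective (piK k K a) := by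
  intro x'
  obtain ⟨u, hu⟩ := ofPt_surjective_of_repWith has (Points.map (prod.fst : XK k K X ⟶ X) x')
  obtain ⟨y, hy, -⟩ := piK_fp k K a x' u hu.symm
  exact ⟨y, hy⟩

theorem bcChart_act (σ : Gal(K/k)) :
    bcChart K a ≫ act k K X σ =
      (yon (Spec (CommRingCat.of k))).map (prod.map (𝟙 U) (galHom k K σ)) ≫ bcChart K a := by
  apply Limits.prod.hom_ext
  · rw [Category.assoc, act_fst, Category.assoc, bcChart_fst, ← Category.assoc,
      ← Functor.map_comp, Limits.prod.map_fst, Category.comp_id]
  · unfold act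
    rw [Category.assoc, Limits.prod.map_snd, ← Category.assoc, bcChart_snd, Category.assoc,
      bcChart_snd, ← Functor.map_comp, ← Functor.map_comp, Limits.prod.map_snd]

attribute [local instance] GalScheme.mulAction

theorem piK_equiv (σ : Gal(K/k)) (y : ↥(Curv2.bc k U.left K)) :
    piK k K a (σ • y) = σ • piK k K a y := by
  rw [smul_def, GalScheme.smul_def]
  unfold piK
  rw [Points.map_ofPt, bcChart_act, ofPt_yon_map_comp]
  congr 1
  rw [← Scheme.Hom.comp_apply, ← Scheme.Hom.comp_apply]
  have key : Curv2.galAct k U.left K σ⁻¹ ≫ (eU k K U).inv =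
      (eU k K U).inv ≫ (prod.map (𝟙 U) (galHom k K σ⁻¹)).left := by
    rw [Iso.eq_inv_comp, ← Category.assoc, Iso.comp_inv_eq]
    exact (prodMap_left_eU k K σ⁻¹).symm
  rw [key]

end chart

section setup

variable {X}

theorem continuousSMul (hX : IsAlgSpace X) [Algebra.IsIntegral k K] :
    ContinuousSMul Gal(K/k) (Points (XK k K X)) := by
  obtain ⟨U, a, hae, has⟩ := hX.atlas
  letI := overU k U
  letI := GalScheme.mulAction k U.left K
  letI := GalScheme.continuousSMul k U.left K
  exact GalTop.continuousSMul_of_cover (piK k K a) (piK_continuous k K a)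
    (piK_isOpenMap k K a hae) (piK_surjective k K a has) (piK_equiv k K a)

/-- the quotient setup for `|X_K| → |X|`, `K/k` Galois -/
theorem setup (hX : IsAlgSpace X) [IsGalois k K] :
    letI := continuousSMul k K hX
    GalTop.Setup Gal(K/k) (Points.map (prod.fst : XK k K X ⟶ X)) := by
  letI := continuousSMul k K hX
  obtain ⟨U, a, hae, has⟩ := hX.atlas
  letI := overU k U
  letI := GalScheme.mulAction k U.left K
  letI := GalScheme.continuousSMul k U.left K
  exact (GalScheme.setup k U.left K).of_cover (piK k K a) (Points.ofPt a)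
    (piK_continuous k K a) (piK_isOpenMap k K a hae) (piK_surjective k K a has)
    (Points.continuous_ofPt a) (isOpenMap_ofPt a hae) (ofPt_surjective_of_repWith has)
    (Points.continuous_map _) (piK_comm k K a) (piK_equiv k K a) (piK_fp k K a)

end setup

end Groth.Agent.Lib.Helper1.AlgSpGal
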