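import Groth.Agent.Lib.Helper1.AlgSpSep
import Groth.Agent.Lib.Helper14.AlgSpPoints3

/-!
# `π₀(X × Y) ≃ π₀(Y)` for `X` geometrically connected (algebraic spaces over a field; helper1)
-/

set_option autoImplicit false
set_option linter.style.haveILetI false
set_option linter.unusedSectionVars false

universe u
open CategoryTheory CategoryTheory.Limits AlgebraicGeometry Opposite

namespace Groth.Agent.Lib.Helper1.AlgSpGal
open AlgSp Groth.Agent.Lib.Helper14.AS

variable (k : Type u) [Field k] {X Y : Sp (Spec (CommRingCat.of k))}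

theorem isOpenMap_snd (hX : IsAlgSpace X) (hY : IsAlgSpace Y) :
    IsOpenMap (Points.map (prod.snd : X ⨯ Y ⟶ Y)) := by
  have hT : IsTerminal ((yon (Spec (CommRingCat.of k))).obj (Over.mk (𝟙 (Spec (CommRingCat.of k))))) :=
    (Over.mkIdTerminal).isTerminalObj (yon (Spec (CommRingCat.of k))) _
  have hp := isUnivOpenMor_to_field hX (𝟙 (Spec (CommRingCat.of k))) (hT.from X)
  exact hp hY (hT.from Y) prod.fst prod.snd (IsPullback.of_is_product (limit.isLimit _) hT)

/-- the fibre of `|X × Y| → |Y|` over a point is the image of `|X_L|` for a field `L/k` -/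
theorem exists_fibre_snd_eq (hY : IsAlgSpace Y) (y : Points Y) :
    ∃ (L : Type u) (_ : Field L) (_ : Algebra k L)
      (g : (yon (Spec (CommRingCat.of k))).obj (fieldOver k L) ⟶ Y),
      Points.map (prod.snd : X ⨯ Y ⟶ Y) ⁻¹' {y} = Set.range (Points.map (prod.map (𝟙 X) g)) := by
  obtain ⟨V, b, v, -, hv⟩ := exists_chart_at hY y
  let φ := Spec.preimage (V.left.fromSpecResidueField v ≫ V.hom)
  letI : Algebra k (V.left.residueField v) := φ.hom.toAlgebra
  have hφ : Spec.map (CommRingCat.ofHom (algebraMap k (V.left.residueField v))) =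
      V.left.fromSpecResidueField v ≫ V.hom := Spec.map_preimage _
  let iota : fieldOver k (V.left.residueField v) ⟶ V :=
    Over.homMk (V.left.fromSpecResidueField v) hφ.symm
  let g : (yon (Spec (CommRingCat.of k))).obj (fieldOver k (V.left.residueField v)) ⟶ Y :=
    (yon (Spec (CommRingCat.of k))).map iota ≫ b
  refine ⟨V.left.residueField v, inferInstance, inferInstance, g, ?_⟩
  haveI hsub : Subsingleton ↥(fieldOver k (V.left.residueField v)).left :=
    inferInstanceAs (Subsingleton (PrimeSpectrum (V.left.residueField v)))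
  let pt : ↥(fieldOver k (V.left.residueField v)).left :=
    IsLocalRing.closedPoint (V.left.residueField v)
  have hpt : Points.ofPt g pt = y := by
    change Points.ofPt ((yon (Spec (CommRingCat.of k))).map iota ≫ b) pt = y
    rw [ofPt_yon_map_comp, ← hv]
    congr 1
    exact Scheme.fromSpecResidueField_apply _ _
  apply Set.Subset.antisymm
  · intro x hx
    have h1 : Points.map (prod.snd : X ⨯ Y ⟶ Y) x =
        Points.map g (Points.ofScheme _ pt) := by
      rw [← Points.ofPt_eq_map_ofScheme, hpt]; exact hx
    obtain ⟨z, hz, -⟩ := points_exists_of_isPullback (isPullback_prod_map_snd X g) x _ h1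
    exact ⟨z, hz⟩
  · rintro _ ⟨z, rfl⟩
    change Points.map prod.snd (Points.map (prod.map (𝟙 X) g) z) = y
    rw [← Points.map_comp, Limits.prod.map_snd, Points.map_comp]
    obtain ⟨t, ht⟩ := (Points.schemeHomeo (fieldOver k (V.left.residueField v))).surjective
      (Points.map prod.snd z)
    rw [← ht, Subsingleton.elim t pt]
    change Points.map g (Points.ofScheme _ pt) = y
    rw [← Points.ofPt_eq_map_ofScheme, hpt]

theorem connectedComponentsMap_snd_bijective (hXa : IsAlgSpace X) (hY : IsAlgSpace Y)
    (hX : ∀ (K : Type u) [Field K] [Algebra k K], ConnectedSpace (Points (XK k K X))) :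
    Function.Bijective (Continuous.connectedComponentsMap
      (Points.continuous_map (prod.snd : X ⨯ Y ⟶ Y))) := by
  have hfib : ∀ y : Points Y,
      _root_.IsConnected (Points.map (prod.snd : X ⨯ Y ⟶ Y) ⁻¹' {y}) := by
    intro y
    obtain ⟨L, _, _, g, hg⟩ := exists_fibre_snd_eq k (X := X) hY y
    rw [hg]
    haveI := hX L
    exact isConnected_range (Points.continuous_map _)
  have hsurj : Function.Surjective (Points.map (prod.snd : X ⨯ Y ⟶ Y)) := by
    intro y
    obtain ⟨x, hx⟩ := (hfib y).nonempty
    exact ⟨x, hx⟩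
  exact ((isOpenMap_snd k hXa hY).isQuotientMap (Points.continuous_map _)
    hsurj).isCoinducing.connectedComponentsMap_bijective hfib

end Groth.Agent.Lib.Helper1.AlgSpGal
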