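import Groth.Agent.Lib.Helper1.AlgSpGal
import Groth.Agent.Lib.Helper1.GeomIrrSep

/-!
# Algebraic spaces over separably closed fields: connected components of base changes (helper1)
-/

set_option autoImplicit false
set_option linter.style.haveILetI false
set_option linter.unusedSectionVars false

universe u
open CategoryTheory CategoryTheory.Limits AlgebraicGeometry Opposite

namespace Groth.Agent.Lib.Helper1.AlgSpGal
open AlgSp Groth.Agent.Lib.Helper14.AS

section top

variable {Y X Y' X' : Type*} [TopologicalSpace Y] [TopologicalSpace X] [TopologicalSpace Y']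
  [TopologicalSpace X']

theorem isOpenMap_of_cover {q : Y → X} (hq : IsOpenMap q) {q' : Y' → X'} (π : Y → Y') (π₀ : X → X')
    (hπc : Continuous π) (hπs : Function.Surjective π) (hπ₀o : IsOpenMap π₀)
    (hcomm : ∀ y, q' (π y) = π₀ (q y)) : IsOpenMap q' := by
  intro W hW
  have : q' '' W = π₀ '' (q '' (π ⁻¹' W)) := by
    ext x'
    constructor
    · rintro ⟨y', hy', rfl⟩
      obtain ⟨y, rfl⟩ := hπs y'
      exact ⟨q y, ⟨y, hy', rfl⟩, (hcomm y).symm⟩
    · rintro ⟨_, ⟨y, hy, rfl⟩, rfl⟩
      exact ⟨π y, hy, hcomm y⟩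
  rw [this]
  exact hπ₀o _ (hq _ (hW.preimage hπc))

theorem isConnected_fibre_of_cover {q : Y → X} (hq : ∀ x, _root_.IsConnected (q ⁻¹' {x})) {q' : Y' → X'}
    (π : Y → Y') (π₀ : X → X') (hπc : Continuous π) (hπ₀s : Function.Surjective π₀)
    (hcomm : ∀ y, q' (π y) = π₀ (q y))
    (hfp : ∀ (y' : Y') (x : X), q' y' = π₀ x → ∃ y, π y = y' ∧ q y = x) (x' : X') :
    _root_.IsConnected (q' ⁻¹' {x'}) := by
  obtain ⟨x, rfl⟩ := hπ₀s x'
  have : q' ⁻¹' {π₀ x} = π '' (q ⁻¹' {x}) := by
    ext y'
    constructor
    · intro hy'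
      obtain ⟨y, rfl, hy⟩ := hfp y' x hy'
      exact ⟨y, hy, rfl⟩
    · rintro ⟨y, hy, rfl⟩
      change q' (π y) = π₀ x
      rw [hcomm, hy]
  rw [this]
  exact (hq x).image π hπc.continuousOn

end top

variable (k : Type u) [Field k] (K : Type u) [Field K] [Algebra k K]
  {X : Sp (Spec (CommRingCat.of k))}

attribute [local instance] overU

theorem isOpenMap_fst (hX : IsAlgSpace X) :
    IsOpenMap (Points.map (prod.fst : XK k K X ⟶ X)) := by
  obtain ⟨U, a, hae, has⟩ := hX.atlas
  have hq : IsOpenMap (Curv2.bcFst k U.left K).base :=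
    (pullback.fst U.hom (Spec.map (CommRingCat.ofHom (algebraMap k K)))).isOpenMap
  exact isOpenMap_of_cover hq (piK k K a) (Points.ofPt a) (piK_continuous k K a)
    (piK_surjective k K a has) (isOpenMap_ofPt a hae) (piK_comm k K a)

theorem isQuotientMap_fst (hX : IsAlgSpace X) :
    Topology.IsQuotientMap (Points.map (prod.fst : XK k K X ⟶ X)) :=
  (isOpenMap_fst k K hX).isQuotientMap (Points.continuous_map _)
    (points_map_prod_fst_surjective K hX)

theorem geometricallyConnected_specMap [IsSepClosed k] :
    GeometricallyConnected (Spec.map (CommRingCat.ofHom (algebraMap k K))) := by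
  let f := Spec.map (CommRingCat.ofHom (algebraMap k K))
  haveI : ConnectedSpace ↥(Spec (CommRingCat.of K)) :=
    inferInstanceAs (ConnectedSpace (PrimeSpectrum K))
  haveI : ConnectedSpace ↥(pullback f (𝟙 (Spec (CommRingCat.of k)))) :=
    (Scheme.homeoOfIso (asIso (pullback.fst f (𝟙 (Spec (CommRingCat.of k)))))).symm.surjective.connectedSpace
      (Scheme.homeoOfIso (asIso (pullback.fst f (𝟙 (Spec (CommRingCat.of k)))))).symm.continuous
  exact GeomIrrSep.geometricallyConnected_of_sepClosed f (𝟙 (Spec (CommRingCat.of k)))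

theorem isConnected_fibre_fst [IsSepClosed k] (hX : IsAlgSpace X) (x : Points X) :
    _root_.IsConnected (Points.map (prod.fst : XK k K X ⟶ X) ⁻¹' {x}) := by
  obtain ⟨U, a, hae, has⟩ := hX.atlas
  haveI := geometricallyConnected_specMap k K
  have hq : ∀ u : ↥U.left, _root_.IsConnected ((Curv2.bcFst k U.left K).base ⁻¹' {u}) := fun u =>
    (pullback.fst U.hom
      (Spec.map (CommRingCat.ofHom (algebraMap k K)))).isConnected_preimage_singleton u
  exact isConnected_fibre_of_cover hq (piK k K a) (Points.ofPt a) (piK_continuous k K a)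
    (ofPt_surjective_of_repWith has) (piK_comm k K a) (piK_fp k K a) x

/-- Stacks 0A0U-type: over a separably closed field, `π₀(X_K) ≃ π₀(X)`. -/
theorem connectedComponentsMap_bijective [IsSepClosed k] (hX : IsAlgSpace X) :
    Function.Bijective (Continuous.connectedComponentsMap
      (Points.continuous_map (prod.fst : XK k K X ⟶ X))) :=
  (isQuotientMap_fst k K hX).isCoinducing.connectedComponentsMap_bijective
    (fun x => isConnected_fibre_fst k K hX x)

end Groth.Agent.Lib.Helper1.AlgSpGal

namespace Groth.Agent.Lib.Helper1.AlgSpGal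
open AlgSp Groth.Agent.Lib.Helper14.AS

theorem connectedSpace_of_bijective {A B : Type*} [TopologicalSpace A] [TopologicalSpace B]
    [ConnectedSpace B] {f : A → B} (hf : Continuous f) (hs : Function.Surjective f)
    (hb : Function.Bijective hf.connectedComponentsMap) : ConnectedSpace A := by
  obtain ⟨b⟩ := (inferInstance : Nonempty B)
  obtain ⟨a, -⟩ := hs b
  rw [connectedSpace_iff_connectedComponent]
  refine ⟨a, Set.eq_univ_of_forall fun a' => ?_⟩
  have h1 : (ConnectedComponents.mk a' : _root_.ConnectedComponents A) = ConnectedComponents.mk a :=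
    hb.1 (Subsingleton.elim _ _)
  exact ConnectedComponents.coe_eq_coe'.mp h1

variable (k : Type u) [Field k] (K : Type u) [Field K] [Algebra k K]
  {X : Sp (Spec (CommRingCat.of k))}

theorem connectedSpace_XK_of_sepClosed [IsSepClosed k] (hX : IsAlgSpace X)
    [ConnectedSpace (Points X)] : ConnectedSpace (Points (XK k K X)) :=
  connectedSpace_of_bijective (Points.continuous_map _) (points_map_prod_fst_surjective K hX)
    (connectedComponentsMap_bijective k K hX)

theorem connectedSpace_of_XK (hX : IsAlgSpace X) [ConnectedSpace (Points (XK k K X))] :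
    ConnectedSpace (Points X) :=
  (points_map_prod_fst_surjective K hX).connectedSpace (Points.continuous_map _)

end Groth.Agent.Lib.Helper1.AlgSpGal
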