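import Mathlib
import Groth.Agent.Lib.Helper1.GalScheme

/-!
# Towers `k ⊆ k₁ ⊆ K`: the transition map `X_K ⟶ X_{k₁}` (helper1)
-/

set_option autoImplicit false
set_option linter.style.haveILetI false
set_option linter.unusedSectionVars false

universe u

open TensorProduct CategoryTheory CategoryTheory.Limits AlgebraicGeometry Topology

namespace Groth.Agent.Lib.Helper1.GalLevel

open Groth.Agent.Lib.Helper1.GalScheme

variable (k : Type u) [Field k] (X : Scheme.{u}) [X.Over (Spec (CommRingCat.of k))]
  (k₁ K : Type u) [Field k₁] [Field K] [Algebra k k₁] [Algebra k₁ K] [Algebra k K]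
  [IsScalarTower k k₁ K]

/-- the transition morphism `X_K ⟶ X_{k₁}` -/
noncomputable def trans : Curv2.bc k X K ⟶ Curv2.bc k X k₁ :=
  pullback.map _ _ _ _ (𝟙 X) (Spec.map (CommRingCat.ofHom (algebraMap k₁ K))) (𝟙 _)
    (by rw [Category.comp_id, Category.id_comp])
    (by rw [Category.comp_id, ← Spec.map_comp, ← CommRingCat.ofHom_comp,
      ← IsScalarTower.algebraMap_eq])

@[reassoc (attr := simp)]
theorem trans_fst : trans k X k₁ K ≫ Curv2.bcFst k X k₁ = Curv2.bcFst k X K := by
  unfold trans
  rw [pullback.lift_fst, Category.comp_id]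

@[reassoc (attr := simp)]
theorem trans_snd : trans k X k₁ K ≫ Curv2.bcSnd k X k₁ =
    Curv2.bcSnd k X K ≫ Spec.map (CommRingCat.ofHom (algebraMap k₁ K)) := by
  unfold trans
  rw [pullback.lift_snd]

/-- `X_{k₁}` as a scheme over `k₁` -/
noncomputable abbrev overInst : (Curv2.bc k X k₁).Over (Spec (CommRingCat.of k₁)) :=
  ⟨Curv2.bcSnd k X k₁⟩

attribute [local instance] overInst

/-- `X_K ≅ (X_{k₁})_K` -/
noncomputable def transIso : Curv2.bc k X K ≅ Curv2.bc k₁ (Curv2.bc k X k₁) K where
  hom := pullback.lift (trans k X k₁ K) (Curv2.bcSnd k X K) (trans_snd k X k₁ K)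
  inv := pullback.lift (pullback.fst _ _ ≫ Curv2.bcFst k X k₁) (pullback.snd _ _) (by
    have hc : pullback.fst (Curv2.bc k X k₁ ↘ Spec (CommRingCat.of k₁))
        (Spec.map (CommRingCat.ofHom (algebraMap k₁ K))) ≫ Curv2.bcSnd k X k₁ =
        pullback.snd _ _ ≫ Spec.map (CommRingCat.ofHom (algebraMap k₁ K)) := pullback.condition
    rw [Category.assoc, pullback.condition, reassoc_of% hc, ← Spec.map_comp,
      ← CommRingCat.ofHom_comp, ← IsScalarTower.algebraMap_eq])
  hom_inv_id := by
    apply pullback.hom_ext
    · rw [Category.assoc, pullback.lift_fst, pullback.lift_fst_assoc, Category.id_comp]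
      exact trans_fst k X k₁ K
    · rw [Category.assoc, pullback.lift_snd, pullback.lift_snd, Category.id_comp]
  inv_hom_id := by
    apply pullback.hom_ext
    · rw [Category.assoc, pullback.lift_fst, Category.id_comp]
      apply pullback.hom_ext
      · rw [Category.assoc]
        erw [trans_fst k X k₁ K]
        rw [pullback.lift_fst]
      · rw [Category.assoc]
        erw [trans_snd k X k₁ K]
        rw [pullback.lift_snd_assoc]
        exact pullback.condition.symm
    · rw [Category.assoc, pullback.lift_snd, pullback.lift_snd, Category.id_comp]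

@[reassoc (attr := simp)]
theorem transIso_hom_fst :
    (transIso k X k₁ K).hom ≫ Curv2.bcFst k₁ (Curv2.bc k X k₁) K = trans k X k₁ K :=
  pullback.lift_fst _ _ _

@[reassoc (attr := simp)]
theorem transIso_hom_snd :
    (transIso k X k₁ K).hom ≫ Curv2.bcSnd k₁ (Curv2.bc k X k₁) K = Curv2.bcSnd k X K :=
  pullback.lift_snd _ _ _

/-- **Lemma T**: transition maps send connected components onto connected components. -/
theorem trans_image_connectedComponent (y : ↥(Curv2.bc k X K)) :
    (trans k X k₁ K).base '' connectedComponent y =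
      connectedComponent ((trans k X k₁ K).base y) := by
  let e := Scheme.homeoOfIso (transIso k X k₁ K)
  have h1 := image_connectedComponent k₁ (Curv2.bc k X k₁) K (e y)
  have h2 : (trans k X k₁ K).base = (Curv2.bcFst k₁ (Curv2.bc k X k₁) K).base ∘ e := by
    rw [← transIso_hom_fst]
    rfl
  rw [h2, Set.image_comp, Function.comp_apply, ← h1]
  congr 1
  have := e.image_connectedComponentIn (s := Set.univ) (x := y) (Set.mem_univ y)
  simpa [connectedComponentIn_univ] using this

theorem galAct_trans (σ : Gal(K/k₁)) :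
    Curv2.galAct k X K (σ.restrictScalars k) ≫ trans k X k₁ K = trans k X k₁ K := by
  apply pullback.hom_ext
  · rw [Category.assoc]
    erw [trans_fst k X k₁ K]
    exact galAct_fst k X K _
  · rw [Category.assoc]
    erw [trans_snd k X k₁ K]
    rw [galAct_snd_assoc, ← Spec.map_comp]
    congr 2
    ext a
    exact σ.commutes a

theorem galAct_transIso (σ : Gal(K/k₁)) :
    Curv2.galAct k X K (σ.restrictScalars k) ≫ (transIso k X k₁ K).hom =
      (transIso k X k₁ K).hom ≫ Curv2.galAct k₁ (Curv2.bc k X k₁) K σ := by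
  apply pullback.hom_ext
  · rw [Category.assoc, Category.assoc]
    erw [transIso_hom_fst k X k₁ K, galAct_fst k₁ (Curv2.bc k X k₁) K σ,
      transIso_hom_fst k X k₁ K]
    exact galAct_trans k X k₁ K σ
  · rw [Category.assoc, Category.assoc]
    erw [transIso_hom_snd k X k₁ K, galAct_snd k₁ (Curv2.bc k X k₁) K σ,
      transIso_hom_snd_assoc k X k₁ K]
    exact galAct_snd k X K _

/-- **Lemma H**: points of `X_K` with the same image in `X_{k₁}` are conjugate under
`Gal(K/k₁)`. -/
theorem exists_galAct_eq_of_trans_eq [IsGalois k₁ K] (y y' : ↥(Curv2.bc k X K))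
    (h : (trans k X k₁ K).base y = (trans k X k₁ K).base y') :
    ∃ σ : Gal(K/k₁), (Curv2.galAct k X K (σ.restrictScalars k)).base y = y' := by
  let e := (transIso k X k₁ K)
  have h1 : (Curv2.bcFst k₁ (Curv2.bc k X k₁) K).base (e.hom.base y) =
      (Curv2.bcFst k₁ (Curv2.bc k X k₁) K).base (e.hom.base y') := by
    rw [← Scheme.Hom.comp_apply, ← Scheme.Hom.comp_apply]
    erw [transIso_hom_fst k X k₁ K]
    exact h
  obtain ⟨σ, hσ⟩ := exists_smul_eq k₁ (Curv2.bc k X k₁) K _ _ h1
  refine ⟨σ⁻¹, ?_⟩
  have h2 : (Scheme.homeoOfIso e) ((Curv2.galAct k X K (σ⁻¹.restrictScalars k)).base y) =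
      (Scheme.homeoOfIso e) y' := by
    change e.hom.base ((Curv2.galAct k X K (σ⁻¹.restrictScalars k)).base y) = e.hom.base y'
    rw [← Scheme.Hom.comp_apply, galAct_transIso, Scheme.Hom.comp_apply]
    exact hσ
  exact (Scheme.homeoOfIso e).injective h2

section finite

variable (Ω : Type u) [Field Ω] [Algebra k Ω] [IsGalois k Ω]

attribute [local instance] mulAction

/-- If `X_E` is connected for every finite subextension `E` of the Galois extension `Ω/k`, then
`X_Ω` is connected.  No quasi-compactness is needed. -/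
theorem connectedSpace_of_forall_finite
    (h : ∀ E : IntermediateField k Ω, FiniteDimensional k E → ConnectedSpace ↥(Curv2.bc k X E)) :
    ConnectedSpace ↥(Curv2.bc k X Ω) := by
  haveI h0 := h ⊥ inferInstance
  obtain ⟨y0⟩ := (inferInstance : Nonempty ↥(Curv2.bc k X (⊥ : IntermediateField k Ω)))
  obtain ⟨y, -⟩ := GeomIrrFinSep.surjective_fst (X ↘ Spec (CommRingCat.of k)) Ω
    ((Curv2.bcFst k X (⊥ : IntermediateField k Ω)).base y0)
  rw [connectedSpace_iff_connectedComponent]
  refine ⟨y, Set.eq_univ_of_forall fun z => ?_⟩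
  by_contra hz
  obtain ⟨B, -, -, hzB, hBO, H, hHo, hHB⟩ := exists_basis k X Ω z (connectedComponent y)ᶜ
    isClosed_connectedComponent.isOpen_compl hz
  obtain ⟨E, hE, hEH⟩ := (krullTopology_mem_nhds_one_iff k Ω H).mp (hHo.mem_nhds H.one_mem)
  haveI := h E hE
  have h1 := trans_image_connectedComponent k X E Ω y
  have h1' : connectedComponent ((trans k X E Ω).base y) = Set.univ :=
    PreconnectedSpace.connectedComponent_eq_univ _
  obtain ⟨t, ht, htz⟩ : (trans k X E Ω).base z ∈ (trans k X E Ω).base '' connectedComponent y := by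
    rw [h1, h1']; trivial
  obtain ⟨σ, hσ⟩ := exists_galAct_eq_of_trans_eq k X E Ω z t htz.symm
  have hσE : (σ.restrictScalars k) ∈ E.fixingSubgroup := by
    rw [IntermediateField.mem_fixingSubgroup_iff]
    intro a ha
    exact σ.commutes ⟨a, ha⟩
  have hσH : (σ.restrictScalars k)⁻¹ ∈ H := H.inv_mem (hEH hσE)
  have h2 : (σ.restrictScalars k)⁻¹ • z ∈ B := hHB _ hσH z hzB
  rw [smul_def, inv_inv, hσ] at h2
  exact hBO h2 ht

end finite

/-- **Stacks 0389 without quasi-compactness.** A scheme over `k` all of whose base changes to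
finite separable extensions are connected is geometrically connected. -/
theorem geometricallyConnected_of_forall_finite_separable
    (h : ∀ (k' : Type u) [Field k'] [Algebra k k'] [FiniteDimensional k k']
      [Algebra.IsSeparable k k'], ConnectedSpace ↥(Curv2.bc k X k')) :
    GeometricallyConnected (X ↘ Spec (CommRingCat.of k)) := by
  haveI : ConnectedSpace ↥(pullback (X ↘ Spec (CommRingCat.of k))
      (Spec.map (CommRingCat.ofHom (algebraMap k (SeparableClosure k))))) := by
    apply connectedSpace_of_forall_finite k X (SeparableClosure k)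
    intro E hE
    haveI : Algebra.IsSeparable k E := Algebra.isSeparable_tower_bot_of_isSeparable k E
      (SeparableClosure k)
    exact h E
  exact GeomIrrSep.geometricallyConnected_of_sepClosed (X ↘ Spec (CommRingCat.of k))
    (Spec.map (CommRingCat.ofHom (algebraMap k (SeparableClosure k))))

end Groth.Agent.Lib.Helper1.GalLevel
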