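import Groth.Agent.Lib.Helper1.AlgSpSep
import Groth.Agent.Lib.Helper1.GalLevel

/-!
# Towers `k ⊆ K ⊆ Ω` for algebraic spaces over `k` (helper1)
-/

set_option autoImplicit false
set_option linter.style.haveILetI false
set_option linter.unusedSectionVars false

universe u
open CategoryTheory CategoryTheory.Limits AlgebraicGeometry Opposite

namespace Groth.Agent.Lib.Helper1.AlgSpGal
open AlgSp Groth.Agent.Lib.Helper14.AS

variable (k : Type u) [Field k] (K Ω : Type u) [Field K] [Field Ω] [Algebra k K] [Algebra k Ω]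
  [Algebra K Ω] [IsScalarTower k K Ω]

variable (X : Sp (Spec (CommRingCat.of k)))

/-- the transition morphism `X_Ω ⟶ X_K` -/
noncomputable def tw : XK k Ω X ⟶ XK k K X :=
  prod.map (𝟙 X) ((yon (Spec (CommRingCat.of k))).map (fieldOverHom k K Ω))

theorem tw_fst : tw k K Ω X ≫ prod.fst = prod.fst := by
  unfold tw
  rw [Limits.prod.map_fst, Category.comp_id]

variable {X} {U : Over (Spec (CommRingCat.of k))}
  (a : (yon (Spec (CommRingCat.of k))).obj U ⟶ X)

attribute [local instance] overU

theorem bcChart_tw :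
    bcChart Ω a ≫ tw k K Ω X =
      (yon (Spec (CommRingCat.of k))).map (prod.map (𝟙 U) (fieldOverHom k K Ω)) ≫ bcChart K a := by
  apply Limits.prod.hom_ext
  · rw [Category.assoc, tw_fst, bcChart_fst, Category.assoc, bcChart_fst, ← Category.assoc,
      ← Functor.map_comp, Limits.prod.map_fst, Category.comp_id]
  · unfold tw
    rw [Category.assoc, Limits.prod.map_snd, ← Category.assoc, bcChart_snd, Category.assoc,
      bcChart_snd, ← Functor.map_comp, ← Functor.map_comp, Limits.prod.map_snd]

/-- chart-level compatibility of the transition maps -/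
theorem prodMap_left_eU_tower :
    (prod.map (𝟙 U) (fieldOverHom k K Ω)).left ≫ (eU k K U).hom =
      (eU k Ω U).hom ≫ GalLevel.trans k U.left K Ω := by
  apply pullback.hom_ext
  · rw [Category.assoc, Category.assoc]
    erw [eU_hom_fst k K, GalLevel.trans_fst k U.left K Ω, eU_hom_fst k Ω]
    rw [← Over.comp_left, Limits.prod.map_fst, Category.comp_id]
  · rw [Category.assoc, Category.assoc]
    erw [eU_hom_snd k K, GalLevel.trans_snd k U.left K Ω]
    rw [← Category.assoc]
    erw [eU_hom_snd k Ω]
    rw [← Over.comp_left, Limits.prod.map_snd, Over.comp_left]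
    rfl

theorem piK_tw (y : ↥(Curv2.bc k U.left Ω)) :
    Points.map (tw k K Ω X) (piK k Ω a y) = piK k K a ((GalLevel.trans k U.left K Ω).base y) := by
  unfold piK
  rw [Points.map_ofPt, bcChart_tw, ofPt_yon_map_comp]
  congr 1
  rw [← Scheme.Hom.comp_apply, ← Scheme.Hom.comp_apply]
  have key : GalLevel.trans k U.left K Ω ≫ (eU k K U).inv =
      (eU k Ω U).inv ≫ (prod.map (𝟙 U) (fieldOverHom k K Ω)).left := by
    rw [Iso.eq_inv_comp, ← Category.assoc, Iso.comp_inv_eq]
    exact (prodMap_left_eU_tower k K Ω).symm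
  rw [key]

theorem isPullback_bcChart_tower :
    IsPullback ((yon (Spec (CommRingCat.of k))).map (prod.map (𝟙 U) (fieldOverHom k K Ω)))
      (bcChart Ω a) (bcChart K a) (tw k K Ω X) := by
  have s := isPullback_bcChart Ω a
  have t := isPullback_bcChart K a
  have e1 : (yon (Spec (CommRingCat.of k))).map (prod.fst : U ⨯ fieldOver k Ω ⟶ U) =
      (yon (Spec (CommRingCat.of k))).map (prod.map (𝟙 U) (fieldOverHom k K Ω)) ≫
        (yon (Spec (CommRingCat.of k))).map (prod.fst : U ⨯ fieldOver k K ⟶ U) := by
    rw [← Functor.map_comp, Limits.prod.map_fst, Category.comp_id]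
  have e2 : (prod.fst : XK k Ω X ⟶ X) = tw k K Ω X ≫ prod.fst := (tw_fst k K Ω X).symm
  rw [e1, e2] at s
  exact IsPullback.of_right s (bcChart_tw k K Ω a).symm t

theorem piK_fp_tower (x' : Points (XK k Ω X)) (u : ↥(Curv2.bc k U.left K))
    (h : Points.map (tw k K Ω X) x' = piK k K a u) :
    ∃ y, piK k Ω a y = x' ∧ (GalLevel.trans k U.left K Ω).base y = u := by
  unfold piK at h
  rw [Points.ofPt_eq_map_ofScheme] at h
  obtain ⟨z, hz1, hz2⟩ := points_exists_of_isPullback (isPullback_bcChart_tower k K Ω a) _ _ h.symm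
  obtain ⟨v, rfl⟩ := (Points.schemeHomeo _).surjective z
  refine ⟨(eU k Ω U).hom.base v, ?_, ?_⟩
  · unfold piK
    rw [← Scheme.Hom.comp_apply, Iso.hom_inv_id, Points.ofPt_eq_map_ofScheme]
    exact hz2
  · have h1 := (Points.map_yon_map_apply (prod.map (𝟙 U) (fieldOverHom k K Ω)) v).symm.trans hz1
    have h2 := (Points.schemeHomeo _).injective h1
    rw [← Scheme.Hom.comp_apply, ← prodMap_left_eU_tower, Scheme.Hom.comp_apply, h2,
      ← Scheme.Hom.comp_apply, Iso.inv_hom_id]
    rfl

section towerTop

attribute [local instance] GalLevel.overInst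

theorem trans_eq' (W : Scheme.{u}) [W.Over (Spec (CommRingCat.of k))] :
    (GalLevel.trans k W K Ω).base =
      (Curv2.bcFst K (Curv2.bc k W K) Ω).base ∘ (Scheme.homeoOfIso (GalLevel.transIso k W K Ω)) := by
  rw [← GalLevel.transIso_hom_fst]
  rfl

theorem isOpenMap_trans (W : Scheme.{u}) [W.Over (Spec (CommRingCat.of k))] :
    IsOpenMap (GalLevel.trans k W K Ω).base := by
  rw [trans_eq']
  exact (pullback.fst (Curv2.bcSnd k W K)
    (Spec.map (CommRingCat.ofHom (algebraMap K Ω)))).isOpenMap.comp
    (Scheme.homeoOfIso (GalLevel.transIso k W K Ω)).isOpenMap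

theorem isConnected_fibre_trans [IsSepClosed K] (W : Scheme.{u}) [W.Over (Spec (CommRingCat.of k))]
    (w : ↥(Curv2.bc k W K)) :
    _root_.IsConnected ((GalLevel.trans k W K Ω).base ⁻¹' {w}) := by
  rw [trans_eq', Set.preimage_comp]
  haveI := geometricallyConnected_specMap K Ω
  have h1 : _root_.IsConnected ((Curv2.bcFst K (Curv2.bc k W K) Ω).base ⁻¹' {w}) :=
    (pullback.fst (Curv2.bcSnd k W K)
      (Spec.map (CommRingCat.ofHom (algebraMap K Ω)))).isConnected_preimage_singleton w
  rw [← Homeomorph.image_symm]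
  exact h1.image _ (Homeomorph.continuous _).continuousOn

theorem isOpenMap_tw (hX : IsAlgSpace X) : IsOpenMap (Points.map (tw k K Ω X)) := by
  obtain ⟨U, a, hae, has⟩ := hX.atlas
  exact isOpenMap_of_cover (isOpenMap_trans k K Ω U.left) (piK k Ω a) (piK k K a)
    (piK_continuous k Ω a) (piK_surjective k Ω a has) (piK_isOpenMap k K a hae) (piK_tw k K Ω a)

theorem isQuotientMap_tw (hX : IsAlgSpace X) :
    Topology.IsQuotientMap (Points.map (tw k K Ω X)) :=
  (isOpenMap_tw k K Ω hX).isQuotientMap (Points.continuous_map _)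
    (points_map_prod_map_surjective X K Ω)

theorem isConnected_fibre_tw [IsSepClosed K] (hX : IsAlgSpace X) (x : Points (XK k K X)) :
    _root_.IsConnected (Points.map (tw k K Ω X) ⁻¹' {x}) := by
  obtain ⟨U, a, hae, has⟩ := hX.atlas
  exact isConnected_fibre_of_cover (isConnected_fibre_trans k K Ω U.left) (piK k Ω a) (piK k K a)
    (piK_continuous k Ω a) (piK_surjective k K a has) (piK_tw k K Ω a) (piK_fp_tower k K Ω a) x

theorem connectedComponentsMap_tw_bijective [IsSepClosed K] (hX : IsAlgSpace X) :
    Function.Bijective (Continuous.connectedComponentsMap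
      (Points.continuous_map (tw k K Ω X))) :=
  (isQuotientMap_tw k K Ω hX).isCoinducing.connectedComponentsMap_bijective
    (fun x => isConnected_fibre_tw k K Ω hX x)

/-- going up along an extension of a separably closed field -/
theorem connectedSpace_up [IsSepClosed K] (hX : IsAlgSpace X)
    [ConnectedSpace (Points (XK k K X))] : ConnectedSpace (Points (XK k Ω X)) :=
  connectedSpace_of_bijective (Points.continuous_map _) (points_map_prod_map_surjective X K Ω)
    (connectedComponentsMap_tw_bijective k K Ω hX)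

end towerTop

end Groth.Agent.Lib.Helper1.AlgSpGal
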