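import Groth.Agent.Lib.Helper1.AlgSpTower

/-!
# Galois towers `k ⊆ K ⊆ Ω`, `Ω/K` Galois, for algebraic spaces over `k` (helper1)
-/

set_option autoImplicit false
set_option linter.style.haveILetI false
set_option linter.unusedSectionVars false

universe u
open CategoryTheory CategoryTheory.Limits AlgebraicGeometry Opposite

namespace Groth.Agent.Lib.Helper1.AlgSpGal
open AlgSp Groth.Agent.Lib.Helper14.AS

variable (k : Type u) [Field k] (K Ω : Type u) [Field K] [Field Ω] [Algebra k K] [Algebra k Ω]
  [Algebra K Ω] [IsScalarTower k K Ω]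

variable (X : Sp (Spec (CommRingCat.of k)))

/-- `Gal(Ω/K)` acts on `|X_Ω|` through `Gal(Ω/k)` -/
noncomputable def mulActionTower : MulAction Gal(Ω/K) (Points (XK k Ω X)) :=
  letI := mulAction k Ω X
  MulAction.compHom _ (AlgEquiv.restrictScalarsHom k : Gal(Ω/K) →* Gal(Ω/k))

theorem smul_tower_def (σ : Gal(Ω/K)) (x : Points (XK k Ω X)) :
    (mulActionTower k K Ω X).smul σ x = (mulAction k Ω X).smul (σ.restrictScalars k) x := rfl

variable {X} {U : Over (Spec (CommRingCat.of k))}
  (a : (yon (Spec (CommRingCat.of k))).obj U ⟶ X)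

attribute [local instance] overU GalLevel.overInst

/-- the chart map from `(U_K)_Ω` -/
noncomputable def piT : ↥(Curv2.bc K (Curv2.bc k U.left K) Ω) → Points (XK k Ω X) :=
  fun y => piK k Ω a ((GalLevel.transIso k U.left K Ω).inv.base y)

theorem piT_continuous : Continuous (piT k K Ω a) :=
  (piK_continuous k Ω a).comp (GalLevel.transIso k U.left K Ω).inv.continuous

theorem piT_isOpenMap (ha : RepWith @Etale a) : IsOpenMap (piT k K Ω a) :=
  (piK_isOpenMap k Ω a ha).comp
    (Scheme.homeoOfIso (GalLevel.transIso k U.left K Ω).symm).isOpenMap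

theorem piT_surjective (has : RepWith @Surjective a) : Function.Surjective (piT k K Ω a) :=
  (piK_surjective k Ω a has).comp
    (Scheme.homeoOfIso (GalLevel.transIso k U.left K Ω).symm).surjective

theorem piT_comm (y : ↥(Curv2.bc K (Curv2.bc k U.left K) Ω)) :
    Points.map (tw k K Ω X) (piT k K Ω a y) =
      piK k K a ((Curv2.bcFst K (Curv2.bc k U.left K) Ω).base y) := by
  unfold piT
  rw [piK_tw, ← Scheme.Hom.comp_apply]
  have key : (GalLevel.transIso k U.left K Ω).inv ≫ GalLevel.trans k U.left K Ω =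
      Curv2.bcFst K (Curv2.bc k U.left K) Ω := by
    rw [Iso.inv_comp_eq]
    exact (GalLevel.transIso_hom_fst k U.left K Ω).symm
  rw [key]

theorem piT_fp (x' : Points (XK k Ω X)) (u : ↥(Curv2.bc k U.left K))
    (h : Points.map (tw k K Ω X) x' = piK k K a u) :
    ∃ y, piT k K Ω a y = x' ∧ (Curv2.bcFst K (Curv2.bc k U.left K) Ω).base y = u := by
  obtain ⟨y', hy'1, hy'2⟩ := piK_fp_tower k K Ω a x' u h
  refine ⟨(GalLevel.transIso k U.left K Ω).hom.base y', ?_, ?_⟩
  · unfold piT
    rw [← Scheme.Hom.comp_apply, Iso.hom_inv_id]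
    exact hy'1
  · rw [← Scheme.Hom.comp_apply]
    erw [GalLevel.transIso_hom_fst k U.left K Ω]
    exact hy'2

attribute [local instance] GalScheme.mulAction mulActionTower

theorem piT_equiv (σ : Gal(Ω/K)) (y : ↥(Curv2.bc K (Curv2.bc k U.left K) Ω)) :
    piT k K Ω a (σ • y) = σ • piT k K Ω a y := by
  have h1 : (GalLevel.transIso k U.left K Ω).inv.base (σ • y) =
      (σ.restrictScalars k) • ((GalLevel.transIso k U.left K Ω).inv.base y) := by
    rw [GalScheme.smul_def, GalScheme.smul_def, ← Scheme.Hom.comp_apply, ← Scheme.Hom.comp_apply]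
    have key : Curv2.galAct K (Curv2.bc k U.left K) Ω σ⁻¹ ≫ (GalLevel.transIso k U.left K Ω).inv =
        (GalLevel.transIso k U.left K Ω).inv ≫
          Curv2.galAct k U.left Ω ((σ.restrictScalars k)⁻¹) := by
      rw [Iso.eq_inv_comp, ← Category.assoc, Iso.comp_inv_eq]
      exact (GalLevel.galAct_transIso k U.left K Ω σ⁻¹).symm
    rw [key]
  unfold piT
  rw [h1, piK_equiv]
  rfl

theorem continuousSMulTower (hX : IsAlgSpace X) [Algebra.IsIntegral K Ω] :
    ContinuousSMul Gal(Ω/K) (Points (XK k Ω X)) := by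
  obtain ⟨U, a, hae, has⟩ := hX.atlas
  letI := GalScheme.continuousSMul K (Curv2.bc k U.left K) Ω
  exact GalTop.continuousSMul_of_cover (piT k K Ω a) (piT_continuous k K Ω a)
    (piT_isOpenMap k K Ω a hae) (piT_surjective k K Ω a has) (piT_equiv k K Ω a)

/-- the quotient setup for `|X_Ω| → |X_K|`, `Ω/K` Galois -/
theorem setupTower (hX : IsAlgSpace X) [IsGalois K Ω] :
    letI := continuousSMulTower k K Ω hX
    GalTop.Setup Gal(Ω/K) (Points.map (tw k K Ω X)) := by
  letI := continuousSMulTower k K Ω hX
  obtain ⟨U, a, hae, has⟩ := hX.atlas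
  letI := GalScheme.continuousSMul K (Curv2.bc k U.left K) Ω
  exact (GalScheme.setup K (Curv2.bc k U.left K) Ω).of_cover (piT k K Ω a) (piK k K a)
    (piT_continuous k K Ω a) (piT_isOpenMap k K Ω a hae) (piT_surjective k K Ω a has)
    (piK_continuous k K a) (piK_isOpenMap k K a hae) (piK_surjective k K a has)
    (Points.continuous_map _) (piT_comm k K Ω a) (piT_equiv k K Ω a) (piT_fp k K Ω a)

end Groth.Agent.Lib.Helper1.AlgSpGal

namespace Groth.Agent.Lib.Helper1.AlgSpGal
open AlgSp Groth.Agent.Lib.Helper14.AS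

variable (k : Type u) [Field k] {X : Sp (Spec (CommRingCat.of k))}

/-- If `X_E` is connected for every finite subextension `E` of a Galois extension `Ω/k`, then
`X_Ω` is connected. -/
theorem connectedSpace_of_forall_finite (hX : IsAlgSpace X) (Ω : Type u) [Field Ω] [Algebra k Ω]
    [IsGalois k Ω]
    (h : ∀ E : IntermediateField k Ω, FiniteDimensional k E →
      ConnectedSpace (Points (XK k E X))) :
    ConnectedSpace (Points (XK k Ω X)) := by
  letI := mulAction k Ω X
  letI := continuousSMul k Ω hX
  have hs := setup k Ω hX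
  haveI h0 := h ⊥ inferInstance
  obtain ⟨y0⟩ := (inferInstance : Nonempty (Points (XK k (⊥ : IntermediateField k Ω) X)))
  obtain ⟨y, -⟩ := points_map_prod_map_surjective X (⊥ : IntermediateField k Ω) Ω y0
  rw [connectedSpace_iff_connectedComponent]
  refine ⟨y, Set.eq_univ_of_forall fun z => ?_⟩
  by_contra hz
  obtain ⟨B, hBo, hBc, hzB, hBO⟩ := hs.basis z (connectedComponent y)ᶜ
    isClosed_connectedComponent.isOpen_compl hz
  obtain ⟨H, hHo, hHB⟩ := GalTop.exists_subgroup_smul_mem hs hBo hBc
  obtain ⟨E, hE, hEH⟩ := (krullTopology_mem_nhds_one_iff k Ω H).mp (hHo.mem_nhds H.one_mem)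
  haveI := h E hE
  letI := mulActionTower k E Ω X
  letI := continuousSMulTower k E Ω hX
  have hsE := setupTower k E Ω hX
  have h1 := GalTop.image_connectedComponent hsE y
  have h1' : connectedComponent (Points.map (tw k E Ω X) y) = Set.univ :=
    PreconnectedSpace.connectedComponent_eq_univ _
  obtain ⟨t, ht, htz⟩ : Points.map (tw k E Ω X) z ∈
      Points.map (tw k E Ω X) '' connectedComponent y := by
    rw [h1, h1']; trivial
  obtain ⟨σ, hσ⟩ := hsE.trans z t htz.symm
  have hσE : (σ.restrictScalars k) ∈ E.fixingSubgroup := by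
    rw [IntermediateField.mem_fixingSubgroup_iff]
    intro a ha
    exact σ.commutes ⟨a, ha⟩
  have h2 := hHB _ (hEH hσE) z hzB
  have h3 : (σ.restrictScalars k) • z = t := hσ
  rw [h3] at h2
  exact hBO h2 ht

/-- Stacks 0A0V-type: an algebraic space over `k` all of whose base changes to finite separable
extensions are connected is geometrically connected. -/
theorem geometricallyConnected_of_forall_finite_separable (hX : IsAlgSpace X)
    (h : ∀ (k' : Type u) [Field k'] [Algebra k k'], Module.Finite k k' → Algebra.IsSeparable k k' →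
      ConnectedSpace (Points (XK k k' X)))
    (K : Type u) [Field K] [Algebra k K] : ConnectedSpace (Points (XK k K X)) := by
  haveI : ConnectedSpace (Points (XK k (SeparableClosure k) X)) := by
    apply connectedSpace_of_forall_finite k hX (SeparableClosure k)
    intro E hE
    exact h E hE (Algebra.isSeparable_tower_bot_of_isSeparable k E (SeparableClosure k))
  obtain ⟨Ω, _, _, _, _, _, _⟩ := exists_compositum k K (SeparableClosure k)
  have hΩ := connectedSpace_up k (SeparableClosure k) Ω hX
  exact connectedSpace_of_tower X K Ω hΩ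

end Groth.Agent.Lib.Helper1.AlgSpGal
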