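import Mathlib
import Groth.Prelude.Def_ArtFun3
import Groth.Agent.Lib.Helper1.ArtFunCotangent
import Groth.Agent.Lib.Helper1.ArtFunFibre

/-!
# Essential surjections
-/
universe u v
open CategoryTheory

namespace Groth.Agent.Lib.Helper1.ArtFunLib

open ArtFun ArtFun.Art

variable {Λ : Type u} {k : Type u} [CommRing Λ] [Field k] [Algebra Λ k]

/-- surjectivity can be tested modulo `m_Λ A + m_A²` -/
theorem surjective_of_comp_quot_surjective {C A A' : Art Λ k} (h : C ⟶ A) (q : A ⟶ A')
    (hker : RingHom.ker q.toAlgHom ≤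
      Ideal.map (algebraMap Λ A) (RingHom.ker (algebraMap Λ k)) ⊔ IsLocalRing.maximalIdeal A ^ 2)
    (hs : Function.Surjective (h ≫ q)) : Function.Surjective h := by
  have tfae := surjective_tfae_cotangent C.res A.res C.res_surjective A.res_surjective h.toAlgHom h.res_comp
  apply (tfae.out 2 0).1
  have hX := map_ker_algebraMap_le C.res A.res C.res_surjective A.res_surjective h.toAlgHom h.res_comp
  have hle := map_maximalIdeal_le C.res A.res C.res_surjective A.res_surjective h.toAlgHom h.res_comp
  apply le_antisymm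
  · exact sup_le (sup_le (hX.trans hle) hle) (Ideal.pow_le_self two_ne_zero)
  · intro a ha
    obtain ⟨c, hc⟩ := hs (q a)
    have hc' : q (h c) = q a := hc
    have hcm : c ∈ IsLocalRing.maximalIdeal C := by
      rw [mem_maximalIdeal_iff, ← res_app h, ← res_app q, hc', res_app]
      exact (mem_maximalIdeal_iff A a).1 ha
    have hk : a - h c ∈ RingHom.ker q.toAlgHom := by
      rw [RingHom.mem_ker, map_sub, sub_eq_zero]
      exact hc'.symm
    have h1 := hker hk
    have : a = h c + (a - h c) := by ring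
    rw [this]
    apply Ideal.add_mem
    · exact Ideal.mem_sup_left (Ideal.mem_sup_right (Ideal.mem_map_of_mem _ hcm))
    · have hle' : Ideal.map (algebraMap Λ A) (RingHom.ker (algebraMap Λ k)) ⊔ IsLocalRing.maximalIdeal A ^ 2 ≤
          Ideal.map (algebraMap Λ A) (RingHom.ker (algebraMap Λ k)) ⊔
            Ideal.map h.toAlgHom (IsLocalRing.maximalIdeal C) ⊔ IsLocalRing.maximalIdeal A ^ 2 :=
        sup_le (le_sup_left.trans le_sup_left) le_sup_right
      exact hle' h1

/-- essential surjection -/
def IsEssential {A B : Art Λ k} (f : B ⟶ A) : Prop :=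
  Function.Surjective f ∧ ∀ (C : Art Λ k) (g : C ⟶ B), Function.Surjective (g ≫ f) → Function.Surjective g

section

variable [IsNoetherianRing Λ] [Module.Finite Λ k]

theorem isEssential_iff_quot {A B A' B' : Art Λ k} (f : B ⟶ A)
    (qB : B ⟶ B') (hqB : Function.Surjective qB)
    (hkB : RingHom.ker qB.toAlgHom = Ideal.map (algebraMap Λ B) (RingHom.ker (algebraMap Λ k)) ⊔ IsLocalRing.maximalIdeal B ^ 2)
    (qA : A ⟶ A') (hqA : Function.Surjective qA)
    (hkA : RingHom.ker qA.toAlgHom = Ideal.map (algebraMap Λ A) (RingHom.ker (algebraMap Λ k)) ⊔ IsLocalRing.maximalIdeal A ^ 2)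
    (f' : B' ⟶ A') (hf' : qB ≫ f' = f ≫ qA) :
    IsEssential f ↔ IsEssential f' := by
  have comp_surj : ∀ {X Y Z : Art Λ k} (u : X ⟶ Y) (v : Y ⟶ Z), Function.Surjective u → Function.Surjective v →
      Function.Surjective (u ≫ v) := fun u v hu hv => hv.comp hu
  have surj_of_comp : ∀ {X Y Z : Art Λ k} (u : X ⟶ Y) (v : Y ⟶ Z), Function.Surjective (u ≫ v) →
      Function.Surjective v := fun u v huv z => by
    obtain ⟨x, hx⟩ := huv z
    exact ⟨u x, hx⟩
  constructor
  · rintro ⟨hfs, hfe⟩
    refine ⟨?_, ?_⟩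
    · apply surj_of_comp qB f'
      rw [hf']
      exact comp_surj f qA hfs hqA
    · intro C g hg
      obtain ⟨C', π₁, π₂, hC'⟩ := exists_isFibreProd_of_surjective g qB hqB
      have hπ₁ : Function.Surjective π₁ := surjective_fst_of_isFibreProd hC' hqB
      have h1 : Function.Surjective ((π₂ ≫ f) ≫ qA) := by
        rw [Category.assoc, ← hf', ← Category.assoc, ← hC'.w, Category.assoc]
        exact comp_surj π₁ (g ≫ f') hπ₁ hg
      have h2 : Function.Surjective (π₂ ≫ f) :=
        surjective_of_comp_quot_surjective (π₂ ≫ f) qA hkA.le h1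
      have h3 : Function.Surjective π₂ := hfe C' π₂ h2
      apply surj_of_comp π₁ g
      rw [hC'.w]
      exact comp_surj π₂ qB h3 hqB
  · rintro ⟨hfs, hfe⟩
    refine ⟨?_, ?_⟩
    · apply surjective_of_comp_quot_surjective f qA hkA.le
      rw [← hf']
      exact comp_surj qB f' hqB hfs
    · intro C g hg
      apply surjective_of_comp_quot_surjective g qB hkB.le
      apply hfe C (g ≫ qB)
      rw [Category.assoc, hf', ← Category.assoc]
      exact comp_surj (g ≫ f) qA hg hqA

end

end Groth.Agent.Lib.Helper1.ArtFunLib
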