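import Mathlib
import Groth.Prelude.Def_ArtFun3
import Groth.Agent.Lib.Helper1.ArtFunDerSurj

/-!
# Kähler differentials and surjectivity
-/
universe u v
open CategoryTheory TensorProduct

namespace Groth.Agent.Lib.Helper1.ArtFunLib

open ArtFun ArtFun.Art

section Unbundled

variable {Λ : Type u} [CommRing Λ] {B A : Type u} [CommRing B] [CommRing A] [Algebra Λ B] [Algebra Λ A] [Algebra B A]
  [IsScalarTower Λ B A]
  {k : Type u} [Field k] [Algebra Λ k] [Algebra A k] [Algebra B k] [IsScalarTower B A k] [IsScalarTower Λ A k]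

lemma not_subsingleton_tensor_kaehler_of_derivation (D : Derivation B A k) (hD : D ≠ 0) :
    ¬ Subsingleton (k ⊗[A] Ω[A⁄B]) := by
  intro hsub
  apply hD
  ext a
  let ℓ : Ω[A⁄B] →ₗ[A] k := D.liftKaehlerDifferential
  let φ : k ⊗[A] Ω[A⁄B] →ₗ[A] k := (LinearMap.mul' A k) ∘ₗ (LinearMap.lTensor k ℓ)
  have h1 : φ ((1 : k) ⊗ₜ[A] KaehlerDifferential.D B A a) = D a := by
    change (1 : k) * ℓ (KaehlerDifferential.D B A a) = D a
    rw [one_mul]
    exact D.liftKaehlerDifferential_comp_D a
  have h2 : (1 : k) ⊗ₜ[A] KaehlerDifferential.D B A a = 0 := Subsingleton.elim _ _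
  rw [h2, map_zero] at h1
  exact h1.symm

/-- a `Λ`-derivation vanishing on the image of `B` is a `B`-derivation -/
def derivationOfVanish (D : Derivation Λ A k) (h : ∀ b : B, D (algebraMap B A b) = 0) : Derivation B A k where
  toFun := D
  map_add' := D.map_add
  map_smul' := fun b a => by
    rw [Algebra.smul_def, D.leibniz, h, smul_zero, add_zero, algebraMap_smul]
    rfl
  map_one_eq_zero' := D.map_one_eq_zero
  leibniz' := D.leibniz

lemma derivationOfVanish_apply (D : Derivation Λ A k) (h : ∀ b : B, D (algebraMap B A b) = 0) (a : A) :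
    derivationOfVanish D h a = D a := rfl

end Unbundled

end Groth.Agent.Lib.Helper1.ArtFunLib
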