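import Mathlib
import Groth.Prelude.Def_ArtFun3
import Groth.Agent.Lib.Helper1.ArtFunKaehler
import Groth.Agent.Lib.Helper1.ArtFunDer
import Groth.Agent.Lib.Helper1.ArtFunEssential
import Groth.Agent.Lib.Helper1.ArtFunFibre

/-!
# Essential surjections and Kähler differentials
-/
universe u v
open CategoryTheory TensorProduct

namespace Groth.Agent.Lib.Helper1.ArtFunLib

open ArtFun ArtFun.Art

section Unbundled

variable {Λ : Type u} [CommRing Λ] {B : Type u} [CommRing B] [Algebra Λ B]
  {k : Type u} [Field k] [Algebra Λ k] [Algebra B k] [IsScalarTower Λ B k]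

/-- derivations into `k` as the dual of `k ⊗ Ω` -/
noncomputable def derEquivDual : Module.Dual k (k ⊗[B] Ω[B⁄Λ]) ≃ₗ[k] Derivation Λ B k :=
  (LinearMap.liftBaseChangeEquiv (R := B) (M := Ω[B⁄Λ]) (N := k) k).symm.trans
    { (KaehlerDifferential.linearMapEquivDerivation Λ B (M := k)).toAddEquiv with
      map_smul' := fun c ℓ => by
        ext b
        rfl }

theorem finrank_tensor_kaehler_eq :
    Module.finrank k (k ⊗[B] Ω[B⁄Λ]) = Module.finrank k (Derivation Λ B k) := by
  rw [← LinearEquiv.finrank_eq (derEquivDual (Λ := Λ) (B := B) (k := k)), Subspace.dual_finrank_eq]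

end Unbundled

section SubArt

variable {Λ : Type u} {k : Type u} [CommRing Λ] [Field k] [Algebra Λ k] [IsNoetherianRing Λ] [Module.Finite Λ k]

/-- a `Λ`-subalgebra of an object, closed under inverses and surjecting onto `k`, as an object -/
noncomputable def subArt (B : Art Λ k) (S : Subalgebra Λ B)
    (hinv : ∀ s ∈ S, IsUnit s → ∃ t ∈ S, s * t = 1)
    (hres : ∀ c : k, ∃ s ∈ S, B.res s = c) : Art Λ k where
  carrier := S
  isLocalRing := by
    have : Nontrivial S := inferInstance
    apply IsLocalRing.of_isUnit_or_isUnit_one_sub_self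
    intro s
    have key : ∀ s : S, IsUnit (s : B) → IsUnit s := by
      intro s hs
      obtain ⟨t, ht, hst⟩ := hinv s.1 s.2 hs
      exact IsUnit.of_mul_eq_one (⟨t, ht⟩ : S) (Subtype.ext hst)
    by_cases h : IsUnit (s : B)
    · exact Or.inl (key s h)
    · right
      apply key
      have hm : (s : B) ∈ IsLocalRing.maximalIdeal B := (IsLocalRing.mem_maximalIdeal _).2 h
      have : IsUnit (1 - (s : B)) := by
        by_contra h1
        have h1' : 1 - (s : B) ∈ IsLocalRing.maximalIdeal B := (IsLocalRing.mem_maximalIdeal _).2 h1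
        have := Ideal.add_mem _ h1' hm
        rw [sub_add_cancel] at this
        exact (IsLocalRing.maximalIdeal.isMaximal B).ne_top ((Ideal.eq_top_iff_one _).2 this)
      exact this
  isArtinianRing := by
    have : IsArtinian Λ B := (isFiniteLength_iff_isNoetherian_isArtinian.1 (isFiniteLength_obj B)).2
    have h1 : IsArtinian Λ (Subalgebra.toSubmodule S) := inferInstance
    have h2 : IsArtinian Λ S := h1
    exact isArtinian_of_tower Λ h2
  res := B.res.comp S.val
  res_surjective := fun c => by
    obtain ⟨s, hs, hc⟩ := hres c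
    exact ⟨⟨s, hs⟩, hc⟩

/-- the inclusion -/
noncomputable def subArtIncl (B : Art Λ k) (S : Subalgebra Λ B)
    (hinv : ∀ s ∈ S, IsUnit s → ∃ t ∈ S, s * t = 1)
    (hres : ∀ c : k, ∃ s ∈ S, B.res s = c) : subArt B S hinv hres ⟶ B :=
  ⟨S.val, rfl⟩

lemma subArtIncl_apply (B : Art Λ k) (S : Subalgebra Λ B)
    (hinv : ∀ s ∈ S, IsUnit s → ∃ t ∈ S, s * t = 1)
    (hres : ∀ c : k, ∃ s ∈ S, B.res s = c) (s : S) : subArtIncl B S hinv hres s = (s : B) := rfl

lemma range_subArtIncl (B : Art Λ k) (S : Subalgebra Λ B)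
    (hinv : ∀ s ∈ S, IsUnit s → ∃ t ∈ S, s * t = 1)
    (hres : ∀ c : k, ∃ s ∈ S, B.res s = c) (b : B) :
    (∃ s, subArtIncl B S hinv hres s = b) ↔ b ∈ S :=
  ⟨fun ⟨s, hs⟩ => hs ▸ s.2, fun hb => ⟨⟨b, hb⟩, rfl⟩⟩

end SubArt

section KerDer

variable {Λ : Type u} {k : Type u} [CommRing Λ] [Field k] [Algebra Λ k]
variable (B : Art Λ k) [Algebra B k] [IsScalarTower Λ B k]

/-- the kernel of a derivation as a subalgebra -/
def kerDer (D : Derivation Λ B k) : Subalgebra Λ B where
  carrier := {b | D b = 0}
  mul_mem' := fun {a b} ha hb => by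
    change D (a * b) = 0
    rw [D.leibniz, show D b = 0 from hb, show D a = 0 from ha, smul_zero, smul_zero, add_zero]
  add_mem' := fun {a b} ha hb => by
    change D (a + b) = 0
    rw [map_add, show D a = 0 from ha, show D b = 0 from hb, add_zero]
  algebraMap_mem' := fun l => D.map_algebraMap l

variable {B}

lemma mem_kerDer (D : Derivation Λ B k) (b : B) : b ∈ kerDer B D ↔ D b = 0 := Iff.rfl

include B in
lemma kerDer_inv (D : Derivation Λ B k) (s : B) (hs : s ∈ kerDer B D) (hu : IsUnit s) :
    ∃ t ∈ kerDer B D, s * t = 1 := by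
  obtain ⟨t, ht⟩ := hu.exists_right_inv
  refine ⟨t, ?_, ht⟩
  have h1 : D (s * t) = 0 := by rw [ht]; exact D.map_one_eq_zero
  rw [D.leibniz, show D s = 0 from hs, smul_zero, add_zero, Algebra.smul_def] at h1
  have h2 : algebraMap B k s ≠ 0 := by
    intro h0
    have : algebraMap B k (s * t) = 0 := by rw [map_mul, h0, zero_mul]
    rw [ht, map_one] at this
    exact one_ne_zero this
  exact (mul_eq_zero.1 h1).resolve_left h2

lemma kerDer_res (halg : ∀ b : B, algebraMap B k b = B.res b) (D : Derivation Λ B k) (y : B)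
    (hy : B.res y = 0) (hDy : D y ≠ 0) (b : B) :
    ∃ t : B, b - t * y ∈ kerDer B D := by
  obtain ⟨t, ht⟩ := B.res_surjective (D b / D y)
  refine ⟨t, ?_⟩
  change D (b - t * y) = 0
  rw [map_sub, D.leibniz, Algebra.smul_def, Algebra.smul_def, halg, halg, hy, zero_mul, add_zero, ht,
    div_mul_cancel₀ _ hDy, sub_self]

end KerDer

section Ess

variable {Λ : Type u} {k : Type u} [CommRing Λ] [Field k] [Algebra Λ k] [IsNoetherianRing Λ] [Module.Finite Λ k]
variable {A B : Art Λ k} (f : B ⟶ A)
  [Algebra B A] [Algebra A k] [Algebra B k] [IsScalarTower B A k] [IsScalarTower Λ B A]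
  [IsScalarTower Λ A k] [IsScalarTower Λ B k]
  (hBA : ∀ b : B, algebraMap B A b = f b) (hAk : ∀ a : A, algebraMap A k a = A.res a)
  (hBk : ∀ b : B, algebraMap B k b = B.res b)

include hBk in
/-- an essential surjection: every derivation `B → k` kills `ker f` -/
theorem derivation_ker_eq_zero_of_isEssential (hess : IsEssential f) (D : Derivation Λ B k) (x : B)
    (hx : f x = 0) : D x = 0 := by
  by_contra hDx
  have hxres : B.res x = 0 := by rw [← res_app f, hx, map_zero]
  let C := subArt B (kerDer B D) (kerDer_inv D) (fun c => by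
    obtain ⟨b, hb⟩ := B.res_surjective c
    obtain ⟨t, ht⟩ := kerDer_res hBk D x hxres hDx b
    exact ⟨b - t * x, ht, by rw [map_sub, map_mul, hxres, mul_zero, sub_zero, hb]⟩)
  let g : C ⟶ B := subArtIncl B (kerDer B D) _ _
  have hgf : Function.Surjective (g ≫ f) := by
    intro a
    obtain ⟨b, rfl⟩ := hess.1 a
    obtain ⟨t, ht⟩ := kerDer_res hBk D x hxres hDx b
    refine ⟨⟨b - t * x, ht⟩, ?_⟩
    change f (b - t * x) = f b
    rw [map_sub, map_mul, hx, mul_zero, sub_zero]
  obtain ⟨s, hs⟩ := hess.2 C g hgf x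
  have : x ∈ kerDer B D := by
    rw [← hs]
    exact s.2
  exact hDx this

include hBA hAk hBk in
/-- a derivation killing `ker f` descends along the surjection `f` -/
theorem exists_derivation_descend (hf : Function.Surjective f) (D : Derivation Λ B k)
    (hD : ∀ x : B, f x = 0 → D x = 0) : ∃ D' : Derivation Λ A k, ∀ b, D' (f b) = D b := by
  let fl : B →ₗ[Λ] A := f.toAlgHom.toLinearMap
  have hfl : Function.Surjective fl := hf
  have hker : LinearMap.ker fl ≤ LinearMap.ker D.toLinearMap := fun x hx => hD x hx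
  let e := fl.quotKerEquivOfSurjective hfl
  let D'l : A →ₗ[Λ] k := ((LinearMap.ker fl).liftQ D.toLinearMap hker).comp e.symm.toLinearMap
  have hD'l : ∀ b, D'l (f b) = D b := by
    intro b
    change ((LinearMap.ker fl).liftQ D.toLinearMap hker) (e.symm (fl b)) = D b
    have : e.symm (fl b) = Submodule.Quotient.mk b := by
      rw [LinearEquiv.symm_apply_eq]
      rfl
    rw [this]
    rfl
  refine ⟨Derivation.mk' D'l ?_, hD'l⟩
  intro a a'
  obtain ⟨b, rfl⟩ := hf a
  obtain ⟨b', rfl⟩ := hf a'
  rw [← map_mul, hD'l, hD'l, hD'l, D.leibniz, Algebra.smul_def, Algebra.smul_def, Algebra.smul_def,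
    Algebra.smul_def, hBk, hBk, hAk, hAk, res_app, res_app]

include hBA hAk hBk in
/-- **essential surjections via derivations** -/
theorem isEssential_iff_finrank_derivation :
    IsEssential f ↔ Function.Surjective f ∧
      Module.finrank k (Derivation Λ B k) = Module.finrank k (Derivation Λ A k) := by
  classical
  -- pullback of derivations
  let fstar : Derivation Λ A k →ₗ[k] Derivation Λ B k :=
    { toFun := fun D' => D'.compAlgebraMap B
      map_add' := fun _ _ => rfl
      map_smul' := fun _ _ => rfl }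
  have hfstar : ∀ (D' : Derivation Λ A k) (b : B), fstar D' b = D' (f b) := by
    intro D' b
    change D' (algebraMap B A b) = D' (f b)
    rw [hBA]
  have hinj : Function.Surjective f → Function.Injective fstar := by
    intro hf D₁ D₂ h
    ext a
    obtain ⟨b, rfl⟩ := hf a
    rw [← hfstar, ← hfstar, h]
  haveI : IsNoetherianRing A := inferInstance
  haveI : IsNoetherianRing B := inferInstance
  haveI finA : Module.Finite k (Derivation Λ A k) :=
    finite_derivation_residueField A (fun c => by
      obtain ⟨a, ha⟩ := A.res_surjective c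
      exact ⟨a, by rw [hAk, ha]⟩)
  haveI finB : Module.Finite k (Derivation Λ B k) :=
    finite_derivation_residueField B (fun c => by
      obtain ⟨b, hb⟩ := B.res_surjective c
      exact ⟨b, by rw [hBk, hb]⟩)
  constructor
  · intro hess
    refine ⟨hess.1, ?_⟩
    have hsurj : Function.Surjective fstar := by
      intro D
      obtain ⟨D', hD'⟩ := exists_derivation_descend f hBA hAk hBk hess.1 D
        (fun x hx => derivation_ker_eq_zero_of_isEssential f hBk hess D x hx)
      refine ⟨D', ?_⟩
      ext b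
      rw [hfstar, hD']
    exact (LinearEquiv.finrank_eq (LinearEquiv.ofBijective fstar ⟨hinj hess.1, hsurj⟩)).symm
  · rintro ⟨hf, hrank⟩
    have hsurj : Function.Surjective fstar :=
      (LinearMap.injective_iff_surjective_of_finrank_eq_finrank hrank.symm).1 (hinj hf)
    refine ⟨hf, ?_⟩
    intro C g hgf
    have tfae := surjective_tfae_cotangent C.res B.res C.res_surjective B.res_surjective g.toAlgHom g.res_comp
    apply (tfae.out 1 0).1
    by_contra hne
    have htoAlg : IsScalarTower.toAlgHom Λ B k = B.res := AlgHom.ext (fun b => hBk b)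
    have hresB : Function.Surjective (algebraMap B k) := fun c => by
      obtain ⟨b, hb⟩ := B.res_surjective c
      exact ⟨b, by rw [hBk, hb]⟩
    obtain ⟨D, hD0, hDg⟩ := exists_derivation_of_ne (f := g.toAlgHom) C.res C.res_surjective
      hresB (by rw [htoAlg]; exact g.res_comp) hne
    obtain ⟨D', rfl⟩ := hsurj D
    apply hD0
    have hD'0 : D' = 0 := by
      ext a
      obtain ⟨c, rfl⟩ := hgf a
      have := hDg c
      rw [hfstar] at this
      exact this
    rw [hD'0, map_zero]

end Ess

end Groth.Agent.Lib.Helper1.ArtFunLib
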