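import Mathlib
import Groth.Prelude.Def_ArtFun5
import Groth.Prelude.Def_W4sfdMinVersal
import Groth.Agent.Lib.Helper1.ArtFunHullCut
import Groth.Agent.Lib.Helper1.ArtFunFormalLift
import Groth.Agent.Lib.Helper1.ArtFunSchless
import Groth.Agent.Lib.Helper1.ArtFunDerSurj
import Groth.Agent.Lib.Helper1.ArtFunProrep
import Groth.Agent.Lib.Helper1.ArtFunDualSmall

/-!
# Minimal versal families versus hulls
-/
universe u v
open CategoryTheory

namespace Groth.Agent.Lib.Helper1.ArtFunLib

open ArtFun ArtFun.Art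

variable {Λ : Type u} {k : Type u} [CommRing Λ] [Field k] [Algebra Λ k]
variable {F : Art Λ k ⥤ Type v}

section Formal

variable {R' R : CRing Λ k}

lemma push_toFormalElt (ξ : Family R'.carrier R'.res F) (g : R'.carrier →ₐ[Λ] R.carrier)
    (hg : R.res.comp g = R'.res) : (ξ.toFormalElt).push g hg = (ξ.along g hg).toFormalElt := by
  apply FormalElt.ext'
  intro n
  change F.map (CRing.truncMapOfHom g hg n) (ξ.app _ (R'.truncHom n)) = ξ.app _ _
  rw [← ξ.natural, truncMapOfHom_truncHom]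

/-- two families over a coefficient ring with the same formal element agree -/
lemma family_app_eq_of_toFormalElt_eq {ξ ξ' : Family R.carrier R.res F}
    (h : ξ.toFormalElt = ξ'.toFormalElt) {A : Art Λ k} (u : HomSet R.carrier R.res A) :
    ξ.app A u = ξ'.app A u := by
  obtain ⟨n, ū, hū⟩ := exists_factor_trunc R u
  have hn : ξ.app _ (R.truncHom n) = ξ'.app _ (R.truncHom n) :=
    congrArg (fun e : FormalElt F R => e.elt n) h
  rw [← hū, ξ.natural, ξ'.natural, hn]

end Formal

section Min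

variable [IsNoetherianRing Λ] [Module.Finite Λ k]

/-- minimal versal ⇒ miniversal when `k` has no nonzero `Λ`-derivation -/
theorem isMiniversal_of_isMinimalVersal (hk : Subsingleton (Derivation Λ k k))
    (h0 : H0 F) (h2 : Heps F) {R : CRing Λ k} (ξ : Family R.carrier R.res F)
    (hξ : ξ.IsMinimalVersal) : IsMiniversal ξ := by
  obtain ⟨J, hJ, hmini⟩ := exists_miniversal_quot_of_isVersal hk h0 h2 R ξ hξ.1
  set R' := quotC R J hJ with hR'
  set ξ' := ξ.along (quotCHom R J hJ) (quotCHom_res R J hJ) with hξ'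
  obtain ⟨g, hg, hgη⟩ := exists_along_toFormalElt_eq_of_h0 h0 ξ' hmini.1 R ξ.toFormalElt
  have hgs : Function.Surjective g := by
    apply hξ.2 R' ξ'.toFormalElt g hg
    rw [push_toFormalElt]
    exact hgη
  refine ⟨hξ.1, ?_, tangent_surjective_of_isVersal h0 ξ hξ.1⟩
  intro u₁ u₂ e
  have e1 : ∀ u : HomSet R.carrier R.res (dual Λ k),
      ξ'.app _ ⟨u.1.comp g, by rw [← AlgHom.comp_assoc, u.2, hg]⟩ = ξ.app _ u :=
    fun u => family_app_eq_of_toFormalElt_eq hgη u
  have e2 := hmini.2.1 ((e1 u₁).trans (e.trans (e1 u₂).symm))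
  apply homSet_ext
  intro r
  obtain ⟨r', rfl⟩ := hgs r
  exact congrArg (fun m : HomSet R'.carrier R'.res (dual Λ k) => m.1 r') e2

/-- a hull is minimal versal -/
theorem isMinimalVersal_of_isMiniversal {R : CRing Λ k} (ξ : Family R.carrier R.res F)
    (hmini : IsMiniversal ξ) : ξ.IsMinimalVersal := by
  refine ⟨hmini.1, ?_⟩
  intro R' u f hf hpush
  letI : Algebra R.carrier k := R.res.toRingHom.toAlgebra
  haveI : IsScalarTower Λ R.carrier k := IsScalarTower.of_algebraMap_eq (fun l => (R.res.commutes l).symm)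
  have hres : Function.Surjective (algebraMap R.carrier k) := R.res_surjective
  have htoAlg : IsScalarTower.toAlgHom Λ R.carrier k = R.res := AlgHom.ext (fun _ => rfl)
  apply surjective_of_derivation_comp_injective R' R.carrier hres f (by rw [htoAlg]; exact hf)
  intro D₁ D₂ hD
  -- the two elements of `h_R(k[ε])`
  let v₁ : HomSet R.carrier R.res (dual Λ k) := homSetOfDer D₁
  let v₂ : HomSet R.carrier R.res (dual Λ k) := homSetOfDer D₂
  have hkill : ∀ v : HomSet R.carrier R.res (dual Λ k), RingHom.ker (R.truncHom 1).1 ≤ RingHom.ker v.1 := by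
    intro v a ha
    have ha' : a ∈ R.mpow 1 := Ideal.Quotient.eq_zero_iff_mem.1 (RingHom.mem_ker.1 ha)
    rw [RingHom.mem_ker]
    have h1 : v.1 a ∈ IsLocalRing.maximalIdeal (dual Λ k) ^ 2 := by
      have := homSet_map_pow_le R v 2 (Ideal.mem_map_of_mem _ ha')
      exact this
    have hsq : IsLocalRing.maximalIdeal (dual Λ k) ^ 2 = ⊥ := by
      rw [eq_bot_iff, pow_two]
      apply Ideal.mul_le.2
      intro a ha b hb
      rw [Art.mem_maximalIdeal_iff] at ha hb
      have : a * b = 0 := dualNumber_mul_eq_zero k a b ha hb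
      rw [this]
      exact Ideal.zero_mem _
    rw [hsq] at h1
    exact h1
  have hsurj1 : Function.Surjective (R.truncHom 1).1 := Ideal.Quotient.mk_surjective
  obtain ⟨w₁, hw₁⟩ := exists_factor_homSet (R.truncHom 1) hsurj1 v₁ (hkill v₁)
  obtain ⟨w₂, hw₂⟩ := exists_factor_homSet (R.truncHom 1) hsurj1 v₂ (hkill v₂)
  have hpush1 : F.map (CRing.truncMapOfHom f hf 1) (u.elt 1) = ξ.app _ (R.truncHom 1) :=
    congrArg (fun e : FormalElt F R => e.elt 1) hpush
  have hcomp : CRing.truncMapOfHom f hf 1 ≫ w₁ = CRing.truncMapOfHom f hf 1 ≫ w₂ := by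
    apply hom_ext_of_homSet_surjective (R'.truncHom 1) Ideal.Quotient.mk_surjective
    apply homSet_ext
    intro r
    change w₁ ((R.truncHom 1).1 (f r)) = w₂ ((R.truncHom 1).1 (f r))
    have a1 : w₁ ((R.truncHom 1).1 (f r)) = v₁.1 (f r) :=
      congrArg (fun m : HomSet R.carrier R.res (dual Λ k) => m.1 (f r)) hw₁
    have a2 : w₂ ((R.truncHom 1).1 (f r)) = v₂.1 (f r) :=
      congrArg (fun m : HomSet R.carrier R.res (dual Λ k) => m.1 (f r)) hw₂
    rw [a1, a2]
    apply TrivSqZeroExt.ext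
    · change (homOfDer D₁ (f r)).fst = (homOfDer D₂ (f r)).fst
      rw [homOfDer_fst, homOfDer_fst]
    · change (homOfDer D₁ (f r)).snd = (homOfDer D₂ (f r)).snd
      rw [homOfDer_snd, homOfDer_snd, hD]
  have hξv : ξ.app _ v₁ = ξ.app _ v₂ := by
    rw [← hw₁, ← hw₂, ξ.natural, ξ.natural, ← hpush1, ← F.map_comp_apply, ← F.map_comp_apply, hcomp]
  have hv : v₁ = v₂ := hmini.2.1 hξv
  ext r
  have := congrArg (fun m : HomSet R.carrier R.res (dual Λ k) => (m.1 r).snd) hv
  change (homOfDer D₁ r).snd = (homOfDer D₂ r).snd at this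
  rwa [homOfDer_snd, homOfDer_snd] at this

theorem isMinimalVersal_of_hull (P : Hull F) : P.family.IsMinimalVersal :=
  isMinimalVersal_of_isMiniversal P.family P.miniversal

/-- minimal versal families are unique up to isomorphism -/
theorem isMinimalVersal_unique (h0 : H0 F) {R₁ R₂ : CRing Λ k}
    (ξ₁ : Family R₁.carrier R₁.res F) (ξ₂ : Family R₂.carrier R₂.res F)
    (h₁ : ξ₁.IsMinimalVersal) (h₂ : ξ₂.IsMinimalVersal) :
    ∃ (e : R₁.carrier ≃ₐ[Λ] R₂.carrier) (he : R₂.res.comp (e : R₁.carrier →ₐ[Λ] R₂.carrier) = R₁.res),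
      (ξ₁.along (e : R₁.carrier →ₐ[Λ] R₂.carrier) he).toFormalElt = ξ₂.toFormalElt := by
  obtain ⟨g, hg, hgη⟩ := exists_along_toFormalElt_eq_of_h0 h0 ξ₁ h₁.1 R₂ ξ₂.toFormalElt
  obtain ⟨g', hg', hgη'⟩ := exists_along_toFormalElt_eq_of_h0 h0 ξ₂ h₂.1 R₁ ξ₁.toFormalElt
  have hgs : Function.Surjective g := by
    apply h₂.2 R₁ ξ₁.toFormalElt g hg
    rw [push_toFormalElt]
    exact hgη
  have hgs' : Function.Surjective g' := by
    apply h₁.2 R₂ ξ₂.toFormalElt g' hg'
    rw [push_toFormalElt]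
    exact hgη'
  have hinj : Function.Injective (g'.comp g) :=
    injective_of_surjective_ringEnd ((g'.comp g : R₁.carrier →ₐ[Λ] R₁.carrier) : R₁.carrier →+* R₁.carrier)
      (hgs'.comp hgs)
  have hginj : Function.Injective g := fun a b hab => hinj (by
    change g' (g a) = g' (g b)
    rw [hab])
  let e : R₁.carrier ≃ₐ[Λ] R₂.carrier := AlgEquiv.ofBijective g ⟨hginj, hgs⟩
  have he : (e : R₁.carrier →ₐ[Λ] R₂.carrier) = g := AlgHom.ext (fun _ => rfl)
  refine ⟨e, by rw [he]; exact hg, ?_⟩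
  have : ξ₁.along (e : R₁.carrier →ₐ[Λ] R₂.carrier) (by rw [he]; exact hg) = ξ₁.along g hg := by
    congr 1
  rw [this]
  exact hgη

end Min

end Groth.Agent.Lib.Helper1.ArtFunLib
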