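import Mathlib
import Groth.Prelude.Def_ArtFun5
import Groth.Agent.Lib.Helper1.ArtFunFormal
import Groth.Agent.Lib.Helper1.ArtFunMinVersal

/-!
# Families over a complete local ring are the same as formal elements
-/
universe u v
open CategoryTheory

namespace Groth.Agent.Lib.Helper1.ArtFunLib

open ArtFun ArtFun.Art

variable {Λ : Type u} {k : Type u} [CommRing Λ] [Field k] [Algebra Λ k]
variable (R : CRing Λ k) {F : Art Λ k ⥤ Type v}

/-- transition morphism `R/m^(n+1) → R/m^(m+1)` -/
noncomputable def truncTrans {m n : ℕ} (h : m ≤ n) : R.trunc n ⟶ R.trunc m :=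
  ⟨truncFactor R h, by
    apply AlgHom.ext
    intro x
    obtain ⟨a, rfl⟩ := Ideal.Quotient.mk_surjective x
    rfl⟩

lemma truncTrans_mk {m n : ℕ} (h : m ≤ n) (a : R.carrier) :
    truncTrans R h ((R.truncHom n).1 a) = (R.truncHom m).1 a := rfl

lemma truncTrans_succ (n : ℕ) : truncTrans R (Nat.le_succ n) = R.truncMap n :=
  Art.hom_ext (AlgHom.ext (truncFactor_succ R n))

lemma truncTrans_refl (n : ℕ) : truncTrans R (le_refl n) = 𝟙 _ :=
  Art.hom_ext (AlgHom.ext (truncFactor_refl R n))

lemma truncTrans_trans {l m n : ℕ} (h1 : l ≤ m) (h2 : m ≤ n) :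
    truncTrans R h2 ≫ truncTrans R h1 = truncTrans R (h1.trans h2) :=
  Art.hom_ext (AlgHom.ext (truncFactor_trans R h1 h2))

variable {R}

lemma formalElt_map_truncTrans (η : FormalElt F R) {m n : ℕ} (h : m ≤ n) :
    F.map (truncTrans R h) (η.elt n) = η.elt m := by
  induction n, h using Nat.le_induction with
  | base => rw [truncTrans_refl, F.map_id_apply]
  | succ n hmn ih =>
    rw [← truncTrans_trans R hmn (Nat.le_succ n), F.map_comp_apply, truncTrans_succ,
      η.compat, ih]

lemma truncHom_surjective (n : ℕ) : Function.Surjective (R.truncHom n).1 :=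
  Ideal.Quotient.mkₐ_surjective Λ _

lemma map_elt_eq_of_le (η : FormalElt F R) {A : Art Λ k} {n₁ n₂ : ℕ} (hn : n₁ ≤ n₂)
    (ū₁ : R.trunc n₁ ⟶ A) (ū₂ : R.trunc n₂ ⟶ A)
    (h : HomSet.map ū₁ (R.truncHom n₁) = HomSet.map ū₂ (R.truncHom n₂)) :
    F.map ū₁ (η.elt n₁) = F.map ū₂ (η.elt n₂) := by
  have h2 : ū₂ = truncTrans R hn ≫ ū₁ := by
    apply Art.hom_ext
    apply AlgHom.ext
    intro x
    obtain ⟨a, rfl⟩ := truncHom_surjective n₂ x
    have h3 : ū₁ ((R.truncHom n₁).1 a) = ū₂ ((R.truncHom n₂).1 a) :=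
      congrArg (fun χ : HomSet R.carrier R.res A => χ.1 a) h
    exact h3.symm
  rw [h2, F.map_comp_apply, formalElt_map_truncTrans η]

lemma map_elt_eq (η : FormalElt F R) {A : Art Λ k} {n₁ n₂ : ℕ}
    (ū₁ : R.trunc n₁ ⟶ A) (ū₂ : R.trunc n₂ ⟶ A)
    (h : HomSet.map ū₁ (R.truncHom n₁) = HomSet.map ū₂ (R.truncHom n₂)) :
    F.map ū₁ (η.elt n₁) = F.map ū₂ (η.elt n₂) := by
  rcases le_total n₁ n₂ with hn | hn
  · exact map_elt_eq_of_le η hn ū₁ ū₂ h
  · exact (map_elt_eq_of_le η hn ū₂ ū₁ h.symm).symm

/-- the family of a formal element -/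
noncomputable def familyOfFormalElt (η : FormalElt F R) : Family R.carrier R.res F where
  app A u := F.map (exists_factor_trunc R u).choose_spec.choose (η.elt (exists_factor_trunc R u).choose)
  natural {A B} f φ := by
    rw [← F.map_comp_apply]
    apply map_elt_eq
    rw [(exists_factor_trunc R (HomSet.map f φ)).choose_spec.choose_spec]
    have h1 := (exists_factor_trunc R φ).choose_spec.choose_spec
    calc HomSet.map f φ = HomSet.map f (HomSet.map (exists_factor_trunc R φ).choose_spec.choose
          (R.truncHom (exists_factor_trunc R φ).choose)) := by rw [h1]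
      _ = _ := rfl

lemma familyOfFormalElt_toFormalElt (η : FormalElt F R) : (familyOfFormalElt η).toFormalElt = η := by
  apply FormalElt.ext'
  intro n
  change F.map (exists_factor_trunc R (R.truncHom n)).choose_spec.choose
    (η.elt (exists_factor_trunc R (R.truncHom n)).choose) = η.elt n
  have h1 := map_elt_eq η (exists_factor_trunc R (R.truncHom n)).choose_spec.choose (𝟙 (R.trunc n)) (by
    rw [(exists_factor_trunc R (R.truncHom n)).choose_spec.choose_spec]
    exact Subtype.ext (AlgHom.ext fun _ => rfl))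
  rw [h1, F.map_id_apply]

theorem bijective_toFormalElt :
    Function.Bijective (fun ξ : Family R.carrier R.res F => ξ.toFormalElt) := by
  constructor
  · intro ξ ξ' h
    have h2 : ∀ (A : Art Λ k) (u : HomSet R.carrier R.res A), ξ.app A u = ξ'.app A u :=
      fun A u => family_app_eq_of_toFormalElt_eq h u
    cases ξ with
    | mk app nat =>
      cases ξ' with
      | mk app' nat' =>
        have : app = app' := funext fun A => funext fun u => h2 A u
        subst this
        rfl
  · intro η
    exact ⟨familyOfFormalElt η, familyOfFormalElt_toFormalElt η⟩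

end Groth.Agent.Lib.Helper1.ArtFunLib
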