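import Mathlib
import Groth.Prelude.Def_ArtFun3
import Groth.Agent.Lib.Helper1.ArtFunDef

/-!
# (H0) + (H̄) + (Hε) + (H4) ⇒ (RS)
-/
universe u v
open CategoryTheory

namespace Groth.Agent.Lib.Helper1.ArtFunLib

open ArtFun ArtFun.Art

variable {Λ : Type u} {k : Type u} [CommRing Λ] [Field k] [Algebra Λ k]

/-- kernel of the base change of a small extension -/
theorem ker_fst_eq_span {B A A₁ A₂ : Art Λ k} {p₁ : B ⟶ A₁} {p₂ : B ⟶ A₂} {f₁ : A₁ ⟶ A}
    {f₂ : A₂ ⟶ A} (h : IsFibreProd p₁ p₂ f₁ f₂) (hf₂ : IsSmallExt f₂) {t : A₂}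
    (ht : RingHom.ker f₂.toAlgHom = Ideal.span {t}) {b₀ : B} (hb1 : p₁ b₀ = 0) (hb2 : p₂ b₀ = t) :
    RingHom.ker p₁.toAlgHom = Ideal.span {b₀} := by
  have hmul₁ : ∀ x y : B, p₁ (x * y) = p₁ x * p₁ y := fun x y => map_mul p₁.toAlgHom x y
  have hmul₂ : ∀ x y : B, p₂ (x * y) = p₂ x * p₂ y := fun x y => map_mul p₂.toAlgHom x y
  apply le_antisymm
  · intro b hb
    rw [RingHom.mem_ker] at hb
    have hb' : p₁ b = 0 := hb
    have h2 : p₂ b ∈ RingHom.ker f₂.toAlgHom := by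
      rw [RingHom.mem_ker]
      change f₂ (p₂ b) = 0
      rw [← h.w_apply, hb']
      exact map_zero f₁.toAlgHom
    obtain ⟨a, ha⟩ := exists_of_mem_ker ht h2
    obtain ⟨β, hβ⟩ := B.res_surjective (A₂.res a)
    have hβ' : A₂.res (p₂ β) = A₂.res a := by rw [res_app, hβ]
    have e : p₂ β * t = a * t := mul_t_eq_of_res_eq hf₂ ht hβ'
    have : b = β * b₀ := by
      apply h.inj
      · rw [hmul₁, hb1, mul_zero, hb']
      · rw [hmul₂, hb2, e, ha]
    rw [this]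
    exact Ideal.mul_mem_left _ _ (Ideal.subset_span rfl)
  · rw [Ideal.span_singleton_le_iff_mem, RingHom.mem_ker]
    exact hb1

section

variable [IsNoetherianRing Λ] [Module.Finite Λ k]

variable {F : Art Λ k ⥤ Type v}

theorem injective_cmp_of_smallExt (h0 : H0 F) (h1 : Hbar F) (h2 : Heps F) (h4 : HSq F)
    {B A A' A'' : Art Λ k} {p' : B ⟶ A'} {p'' : B ⟶ A''} {f' : A' ⟶ A} {f'' : A'' ⟶ A}
    (h : IsFibreProd p' p'' f' f'') (hf : IsSmallExt f'') : Function.Injective (cmp F h) := by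
  rw [cmp_injective_iff]
  intro z z' e1 e2
  obtain ⟨t, ht⟩ := exists_generator hf
  have htk : f'' t = 0 := t_mem_ker ht
  have hcompat : f' 0 = f'' t := by rw [htk]; exact map_zero f'.toAlgHom
  set b₀ := fpElt h 0 t hcompat with hb₀
  have hb1 : p' b₀ = 0 := fpElt_fst h _ _ _
  have hb2 : p'' b₀ = t := fpElt_snd h _ _ _
  have hp' : IsSmallExt p' := isSmallExt_fst_of_isFibreProd h hf
  have htP : RingHom.ker p'.toAlgHom = Ideal.span {b₀} := ker_fst_eq_span h hf ht hb1 hb2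
  obtain ⟨P, π₁, π₂, hP⟩ := exists_isFibreProd_of_surjective p' p' hp'.1
  obtain ⟨Q, q₁, q₂, hQ⟩ := exists_isFibreProd_of_surjective f'' f'' hf.1
  have er : (π₁ ≫ p'') ≫ f'' = (π₂ ≫ p'') ≫ f'' := by
    rw [Category.assoc, Category.assoc, ← h.w, ← Category.assoc, ← Category.assoc, hP.w]
  set r : P ⟶ Q := fpLiftHom hQ (π₁ ≫ p'') (π₂ ≫ p'') er with hr
  have hr1 : r ≫ q₁ = π₁ ≫ p'' := fpLiftHom_fst hQ _ _ _
  have hr2 : r ≫ q₂ = π₂ ≫ p'' := fpLiftHom_snd hQ _ _ _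
  have hδ : r ≫ deltaHom hf ht hQ = deltaHom hp' htP hP := by
    apply hom_ext
    apply AlgHom.ext
    intro x
    obtain ⟨a, ha⟩ := exists_of_mem_ker htP (sub_mem_ker hP x)
    have h1' : q₁ (r x) = p'' (π₁ x) := congrArg (fun m : P ⟶ A'' => m x) hr1
    have h2' : q₂ (r x) = p'' (π₂ x) := congrArg (fun m : P ⟶ A'' => m x) hr2
    apply TrivSqZeroExt.ext
    · change (deltaHom hf ht hQ (r x)).fst = (deltaHom hp' htP hP x).fst
      rw [deltaHom_fst, deltaHom_fst, res_app]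
    · change (deltaHom hf ht hQ (r x)).snd = (deltaHom hp' htP hP x).snd
      rw [deltaHom_snd hp' htP hP x a ha, deltaHom_snd hf ht hQ (r x) (p'' a), res_app]
      rw [h1', h2', ← hb2]
      have : p'' (π₂ x) - p'' (π₁ x) = p'' (π₂ x - π₁ x) := (map_sub p''.toAlgHom _ _).symm
      rw [this, ← ha]
      exact (map_mul p''.toAlgHom a b₀).symm
  obtain ⟨w, hw1, hw2⟩ := (cmp_surjective_iff F hP).1 (h1 π₁ π₂ p' p' hP hp') z z' e1
  have hrw : F.map r w = F.map (diagHom hQ) (F.map p'' z) := by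
    apply (h4 q₁ q₂ f'' hQ hf).1
    apply FibProd.ext
    · change F.map q₁ (F.map r w) = F.map q₁ (F.map (diagHom hQ) (F.map p'' z))
      rw [← F.map_comp_apply (diagHom hQ), diagHom_fst, F.map_id_apply, ← F.map_comp_apply r, hr1,
        F.map_comp_apply, hw1]
    · change F.map q₂ (F.map r w) = F.map q₂ (F.map (diagHom hQ) (F.map p'' z))
      rw [← F.map_comp_apply (diagHom hQ), diagHom_snd, F.map_id_apply, ← F.map_comp_apply r, hr2,
        F.map_comp_apply, hw2, e2]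
  have hθ : F.map (deltaHom hp' htP hP) w = zeroT h0 := by
    rw [← hδ, F.map_comp_apply, hrw, ← F.map_comp_apply (diagHom hQ), diagHom_deltaHom,
      map_toBase_baseToDual' h0]
  have := map_snd_eq_map_fst_of_zero h0 hp' htP hP (h2 _ _ (isFibreProd_deltaHom hp' htP hP)).1 w hθ
  rw [hw1, hw2] at this
  exact this.symm

/-- (H0), (H̄), (Hε), (H4) imply (RS) -/
theorem rs_of_hbar_heps_hsq (h0 : H0 F) (h1 : Hbar F) (h2 : Heps F) (h4 : HSq F) : RS F :=
  rs_of_rs_smallExt F fun _ _ _ _ p' p'' f' f'' h hf =>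
    ⟨injective_cmp_of_smallExt h0 h1 h2 h4 h hf, h1 p' p'' f' f'' h hf⟩

end

end Groth.Agent.Lib.Helper1.ArtFunLib
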