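import Mathlib
import Groth.Prelude.Def_ArtFun5
import Groth.Agent.Lib.Helper28.Chevalley
import Groth.Agent.Lib.Helper1.ArtFunSchless

/-!
# Limits of surjective systems of Artinian local algebras with bounded embedding dimension
-/
universe u v
open CategoryTheory

namespace Groth.Agent.Lib.Helper1.ArtFunLib

open ArtFun ArtFun.Art

variable {Λ : Type u} {k : Type u} [CommRing Λ] [Field k] [Algebra Λ k]

section Stab

lemma exists_stable_of_monotone_bounded (g : ℕ → ℕ) (hmono : Monotone g) (d : ℕ) (hb : ∀ n, g n ≤ d) :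
    ∃ n₀, ∀ n, n₀ ≤ n → g n = g n₀ := by
  classical
  have hex : ∃ n, g n = g 0 := ⟨0, rfl⟩
  set v := Nat.findGreatest (fun v => ∃ n, g n = v) d with hv
  have hspec : ∃ n, g n = v := Nat.findGreatest_spec (P := fun v => ∃ n, g n = v) (hb 0) hex
  obtain ⟨n₀, hn₀⟩ := hspec
  refine ⟨n₀, fun n hn => le_antisymm ?_ (hmono hn)⟩
  rw [hn₀]
  exact Nat.le_findGreatest (hb n) ⟨n, rfl⟩

end Stab

section Inessential

lemma maximalIdeal_map_eq_of_surjective {A' A : Art Λ k} (f : A' ⟶ A) (hf : Function.Surjective f) :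
    (IsLocalRing.maximalIdeal A').map f.toAlgHom = IsLocalRing.maximalIdeal A := by
  apply le_antisymm
  · rw [Ideal.map_le_iff_le_comap]
    intro x hx
    exact map_mem_maximalIdeal f hx
  · intro y hy
    obtain ⟨x, rfl⟩ := hf y
    exact Ideal.mem_map_of_mem _ (mem_maximalIdeal_of_map f hy)

lemma spanFinrank_maximalIdeal_le {A' A : Art Λ k} (f : A' ⟶ A) (hf : Function.Surjective f) :
    (IsLocalRing.maximalIdeal A).spanFinrank ≤ (IsLocalRing.maximalIdeal A').spanFinrank := by
  rw [← maximalIdeal_map_eq_of_surjective f hf]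
  exact Ideal.spanFinrank_map_le_of_fg (f.toAlgHom : A' →+* A)
    ((isNoetherianRing_iff_ideal_fg A').1 inferInstance _)

/-- a surjection that does not change the number of generators of the maximal ideal has kernel in `m²` -/
theorem ker_le_sq_of_spanFinrank_eq {A' A : Art Λ k} (f : A' ⟶ A) (hf : Function.Surjective f)
    (he : (IsLocalRing.maximalIdeal A).spanFinrank = (IsLocalRing.maximalIdeal A').spanFinrank) :
    RingHom.ker f.toAlgHom ≤ IsLocalRing.maximalIdeal A' ^ 2 := by
  classical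
  have hfg : (IsLocalRing.maximalIdeal A').FG := (isNoetherianRing_iff_ideal_fg A').1 inferInstance _
  obtain ⟨s, hscard, hsspan⟩ := Submodule.FG.exists_span_finset_card_eq_spanFinrank hfg
  intro z hz
  have hzm : z ∈ IsLocalRing.maximalIdeal A' := ker_le_maximalIdeal f hz
  rw [← hsspan] at hzm
  obtain ⟨c, hc⟩ := Submodule.mem_span_finset'.1 hzm
  by_cases hall : ∀ x : s, c x ∈ IsLocalRing.maximalIdeal A'
  · rw [← hc, pow_two]
    apply Ideal.sum_mem
    intro x _
    rw [smul_eq_mul]
    apply Ideal.mul_mem_mul (hall x)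
    rw [← hsspan]
    exact Submodule.subset_span x.2
  · exfalso
    push Not at hall
    obtain ⟨x₀, hx₀⟩ := hall
    have hu : IsUnit (c x₀) := by
      by_contra hnu
      exact hx₀ ((IsLocalRing.mem_maximalIdeal _).2 hnu)
    obtain ⟨b, hb⟩ := hu.exists_left_inv
    -- `f x₀` lies in the span of the images of the other generators
    set s' : Finset A' := s.erase x₀.1 with hs'
    have hfz : f z = 0 := RingHom.mem_ker.1 hz
    have hsum : (c x₀) * x₀.1 = z - ∑ x ∈ (Finset.univ : Finset s).erase x₀, c x * x.1 := by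
      rw [← hc]
      rw [← Finset.add_sum_erase _ _ (Finset.mem_univ x₀)]
      simp only [smul_eq_mul]
      ring
    have hx₀mem : f x₀.1 ∈ Ideal.span ((fun x => f x) '' (s' : Set A')) := by
      have h1 : x₀.1 = b * (z - ∑ x ∈ (Finset.univ : Finset s).erase x₀, c x * x.1) := by
        rw [← hsum, ← mul_assoc, hb, one_mul]
      have h2 : f x₀.1 = f b * (f z - ∑ x ∈ (Finset.univ : Finset s).erase x₀, f (c x) * f x.1) := by
        conv_lhs => rw [h1]
        change f.toAlgHom _ = _
        rw [map_mul, map_sub, map_sum]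
        simp only [map_mul]
      rw [h2, hfz, zero_sub]
      apply Ideal.mul_mem_left
      apply neg_mem
      apply Ideal.sum_mem
      intro x hx
      apply Ideal.mul_mem_left
      apply Ideal.subset_span
      refine ⟨x.1, ?_, rfl⟩
      rw [hs', Finset.coe_erase]
      refine ⟨x.2, fun hxx => ?_⟩
      exact (Finset.mem_erase.1 hx).1 (Subtype.ext hxx)
    have hspan : Ideal.span ((fun x => f x) '' (s' : Set A')) = IsLocalRing.maximalIdeal A := by
      apply le_antisymm
      · rw [Ideal.span_le]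
        rintro _ ⟨x, hx, rfl⟩
        apply map_mem_maximalIdeal f
        rw [← hsspan]
        apply Submodule.subset_span
        exact Finset.mem_of_mem_erase hx
      · rw [← maximalIdeal_map_eq_of_surjective f hf, ← hsspan]
        change Ideal.map _ (Ideal.span (s : Set A')) ≤ _
        rw [Ideal.map_span, Ideal.span_le]
        rintro _ ⟨x, hx, rfl⟩
        by_cases hxx : x = x₀.1
        · rw [hxx]
          exact hx₀mem
        · apply Ideal.subset_span
          exact ⟨x, Finset.mem_erase.2 ⟨hxx, hx⟩, rfl⟩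
    have hcard : (IsLocalRing.maximalIdeal A).spanFinrank ≤ s'.card := by
      rw [← hspan]
      have hfin : ((fun x => f x) '' (s' : Set A')).Finite := (Finset.finite_toSet s').image _
      refine (Submodule.spanFinrank_span_le_ncard_of_finite hfin).trans ?_
      refine (Set.ncard_image_le (Finset.finite_toSet s')).trans ?_
      rw [Set.ncard_coe_finset]
    rw [he, ← hscard, hs', Finset.card_erase_of_mem x₀.2] at hcard
    have hpos : 0 < s.card := Finset.card_pos.2 ⟨x₀.1, x₀.2⟩
    omega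

/-- a lift of a surjection along a surjection with kernel in `m²` is surjective -/
theorem surjective_lift_of_ker_le_sq (S₀ : CRing Λ k) {A' A : Art Λ k} (p : A' ⟶ A)
    (hp : RingHom.ker p.toAlgHom ≤ IsLocalRing.maximalIdeal A' ^ 2)
    (τ' : HomSet S₀.carrier S₀.res A') (hτ : Function.Surjective (HomSet.map p τ').1) :
    Function.Surjective τ'.1 := by
  haveI : IsPrecomplete (IsLocalRing.maximalIdeal S₀.carrier) S₀.carrier :=
    S₀.isAdicComplete.toIsPrecomplete
  have tfae := surjective_tfae_cotangent S₀.res A'.res S₀.res_surjective A'.res_surjective τ'.1 τ'.2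
  apply (tfae.out 1 0).1
  apply le_antisymm
  · exact sup_le (map_maximalIdeal_le S₀.res A'.res S₀.res_surjective A'.res_surjective τ'.1 τ'.2)
      (Ideal.pow_le_self two_ne_zero)
  · intro y hy
    obtain ⟨s, hs⟩ := hτ (p y)
    have hs' : p (τ'.1 s) = p y := hs
    have hsm : s ∈ IsLocalRing.maximalIdeal S₀.carrier := by
      rw [← homSet_mem_maximalIdeal_iff S₀ (HomSet.map p τ')]
      change p (τ'.1 s) ∈ _
      rw [hs']
      exact map_mem_maximalIdeal p hy
    have hker : y - τ'.1 s ∈ RingHom.ker p.toAlgHom := by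
      rw [RingHom.mem_ker, map_sub, sub_eq_zero]
      exact hs'.symm
    have : y = τ'.1 s + (y - τ'.1 s) := by ring
    rw [this]
    exact Submodule.add_mem_sup (Ideal.mem_map_of_mem _ hsm) (hp hker)

end Inessential

section Chevalley

variable (S₀ : CRing Λ k) (K : ℕ → Ideal S₀.carrier) (hK : Antitone K)
  (hJ : (⨅ n, K n) ≤ IsLocalRing.maximalIdeal S₀.carrier)

include hK in
/-- Chevalley's lemma in the quotient by the intersection of a decreasing sequence of ideals -/
theorem chevalley_quot (N : ℕ) :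
    ∃ n, (K n).map (quotCHom S₀ (⨅ n, K n) hJ) ≤
      IsLocalRing.maximalIdeal (quotC S₀ (⨅ n, K n) hJ).carrier ^ N := by
  let I : ℕ → Ideal (quotC S₀ (⨅ n, K n) hJ).carrier := fun s => (K s).map (quotCHom S₀ (⨅ n, K n) hJ)
  have hI : Antitone I := fun a b hab => Ideal.map_mono (hK hab)
  have hinf : ⨅ s, I s = ⊥ := by
    rw [eq_bot_iff]
    intro x hx
    obtain ⟨a, rfl⟩ := quotCHom_surjective S₀ (⨅ n, K n) hJ x
    have ha : a ∈ ⨅ n, K n := by
      rw [Submodule.mem_iInf]
      intro s
      have h1 : quotCHom S₀ (⨅ n, K n) hJ a ∈ I s := (Submodule.mem_iInf _).1 hx s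
      obtain ⟨b, hb, hab⟩ := (Ideal.mem_map_iff_of_surjective _
        (quotCHom_surjective S₀ (⨅ n, K n) hJ)).1 h1
      have h2 : b - a ∈ ⨅ n, K n := by
        rw [← quotCHom_eq_zero_iff S₀ (⨅ n, K n) hJ, map_sub, hab, sub_self]
      have h3 : a = b - (b - a) := by ring
      rw [h3]
      exact Ideal.sub_mem _ hb (iInf_le K s h2)
    rw [(quotCHom_eq_zero_iff S₀ (⨅ n, K n) hJ a).2 ha]
    exact Ideal.zero_mem _
  have : IsAdicComplete (IsLocalRing.maximalIdeal (quotC S₀ (⨅ n, K n) hJ).carrier)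
      (quotC S₀ (⨅ n, K n) hJ).carrier := (quotC S₀ (⨅ n, K n) hJ).isAdicComplete
  exact Groth.Agent.Lib.Helper28.Chevalley.chevalley I hI hinf N

end Chevalley

section System

variable (A : ℕ → Art Λ k) (f : ∀ n, A (n + 1) ⟶ A n)

/-- transition maps of a system -/
noncomputable def sysTrans {n m : ℕ} (h : n ≤ m) : A m ⟶ A n :=
  Nat.leRecOn (C := fun j => A j ⟶ A n) h (fun {j} g => f j ≫ g) (𝟙 (A n))

lemma sysTrans_self (n : ℕ) : sysTrans A f (le_refl n) = 𝟙 _ :=
  Nat.leRecOn_self (C := fun j => A j ⟶ A n) _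

lemma sysTrans_succ {n m : ℕ} (h : n ≤ m) :
    sysTrans A f (Nat.le_succ_of_le h) = f m ≫ sysTrans A f h :=
  Nat.leRecOn_succ (C := fun j => A j ⟶ A n) h _

lemma sysTrans_comp_f {n m : ℕ} (h : n + 1 ≤ m) :
    sysTrans A f h ≫ f n = sysTrans A f (Nat.le_of_succ_le h) := by
  induction m, h using Nat.le_induction with
  | base =>
    rw [sysTrans_self, Category.id_comp, sysTrans_succ A f (le_refl n), sysTrans_self, Category.comp_id]
  | succ m hm ih =>
    rw [sysTrans_succ A f hm, Category.assoc, ih, ← sysTrans_succ A f (Nat.le_of_succ_le hm)]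

lemma sysTrans_surjective (hf : ∀ n, Function.Surjective (f n)) {n m : ℕ} (h : n ≤ m) :
    Function.Surjective (sysTrans A f h) := by
  induction m, h using Nat.le_induction with
  | base =>
    rw [sysTrans_self]
    exact fun a => ⟨a, rfl⟩
  | succ m hm ih =>
    rw [sysTrans_succ A f hm]
    exact ih.comp (hf m)

lemma sysTrans_apply_compat {a : ∀ n, A n} (ha : ∀ n, f n (a (n + 1)) = a n) {n m : ℕ} (h : n ≤ m) :
    sysTrans A f h (a m) = a n := by
  induction m, h using Nat.le_induction with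
  | base =>
    rw [sysTrans_self]
    rfl
  | succ m hm ih =>
    rw [sysTrans_succ A f hm]
    change sysTrans A f hm (f m (a (m + 1))) = a n
    rw [ha, ih]

end System

section Main

variable [IsNoetherianRing Λ] [Module.Finite Λ k]

theorem exists_cring_limit_of_surjective_system
    (A : ℕ → Art Λ k) (f : ∀ n, A (n + 1) ⟶ A n) (hf : ∀ n, Function.Surjective (f n))
    (d : ℕ) (hd : ∀ n, (IsLocalRing.maximalIdeal (A n)).spanFinrank ≤ d) :
    ∃ (S : CRing Λ k) (π : ∀ n, HomSet S.carrier S.res (A n)),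
      (∀ n, HomSet.map (f n) (π (n + 1)) = π n) ∧
      (∀ n, Function.Surjective (π n).1) ∧
      (∀ a : ∀ n, A n, (∀ n, f n (a (n + 1)) = a n) → ∃! s : S.carrier, ∀ n, (π n).1 s = a n) ∧
      (∀ n, ∃ N, RingHom.ker (π N).1 ≤ IsLocalRing.maximalIdeal S.carrier ^ n) ∧
      (∀ n, ∃ N, IsLocalRing.maximalIdeal S.carrier ^ N ≤ RingHom.ker (π n).1) := by
  classical
  -- stabilization
  obtain ⟨n₀, hn₀⟩ := exists_stable_of_monotone_bounded
    (fun n => (IsLocalRing.maximalIdeal (A n)).spanFinrank)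
    (monotone_nat_of_le_succ fun n => spanFinrank_maximalIdeal_le (f n) (hf n)) d hd
  have hiness : ∀ j, RingHom.ker (f (n₀ + j)).toAlgHom ≤ IsLocalRing.maximalIdeal (A (n₀ + j + 1)) ^ 2 :=
    fun j => ker_le_sq_of_spanFinrank_eq (f _) (hf _) (by
      have h1 := hn₀ (n₀ + j) (by omega)
      have h2 := hn₀ (n₀ + j + 1) (by omega)
      rw [h1, h2])
  obtain ⟨S₀, σ₀, hsm, hσ₀⟩ := exists_smooth_cover (A n₀)
  obtain ⟨τ, -, hτ⟩ := exists_dep_seq
    (X := fun j => {τ : HomSet S₀.carrier S₀.res (A (n₀ + j)) // Function.Surjective τ.1})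
    (fun j x y => HomSet.map (f (n₀ + j)) y.1 = x.1) ⟨σ₀, hσ₀⟩ (by
      intro j x
      obtain ⟨(τ' : HomSet S₀.carrier S₀.res (A (n₀ + j + 1))), hτ'⟩ := hsm (f (n₀ + j)) (hf _) x.1
      have hτ'' : HomSet.map (f (n₀ + j)) τ' = x.1 := hτ'
      refine ⟨⟨τ', ?_⟩, hτ''⟩
      apply surjective_lift_of_ker_le_sq S₀ (f (n₀ + j)) (hiness j) τ'
      rw [hτ'']
      exact x.2)
  -- the maps to all stages
  let π₀ : ∀ n, HomSet S₀.carrier S₀.res (A n) :=
    fun n => HomSet.map (sysTrans A f (Nat.le_add_left n n₀)) (τ n).1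
  have hπ₀s : ∀ n, Function.Surjective (π₀ n).1 :=
    fun n => (sysTrans_surjective A f hf _).comp (τ n).2
  have hπ₀c : ∀ n, HomSet.map (f n) (π₀ (n + 1)) = π₀ n := by
    intro n
    change HomSet.map (f n) (HomSet.map (sysTrans A f (Nat.le_add_left (n + 1) n₀)) (τ (n + 1)).1) =
      HomSet.map (sysTrans A f (Nat.le_add_left n n₀)) (τ n).1
    rw [← homSet_map_comp, sysTrans_comp_f, ← hτ n, ← homSet_map_comp]
    congr 1
    exact sysTrans_succ A f (Nat.le_add_left n n₀)
  have hπ₀c' : ∀ {n m : ℕ} (h : n ≤ m), HomSet.map (sysTrans A f h) (π₀ m) = π₀ n := by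
    intro n m h
    induction m, h using Nat.le_induction with
    | base => rw [sysTrans_self, homSet_map_id]
    | succ m hm ih => rw [sysTrans_succ A f hm, homSet_map_comp, hπ₀c, ih]
  let K : ℕ → Ideal S₀.carrier := fun n => RingHom.ker (π₀ n).1
  have hKanti : Antitone K := by
    apply antitone_nat_of_succ_le
    intro n s hs
    have h1 : (π₀ (n + 1)).1 s = 0 := RingHom.mem_ker.1 hs
    have h2 : f n ((π₀ (n + 1)).1 s) = (π₀ n).1 s :=
      congrArg (fun m : HomSet S₀.carrier S₀.res (A n) => m.1 s) (hπ₀c n)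
    change (π₀ n).1 s = 0
    rw [← h2, h1]
    exact map_zero (f n).toAlgHom
  have hJ : (⨅ n, K n) ≤ IsLocalRing.maximalIdeal S₀.carrier :=
    (iInf_le K 0).trans (ker_le_maximalIdeal_homSet S₀ (π₀ 0))
  set J : Ideal S₀.carrier := ⨅ n, K n with hJdef
  let S := quotC S₀ J hJ
  let q := quotCHom S₀ J hJ
  have hqs : Function.Surjective q := quotCHom_surjective S₀ J hJ
  let π : ∀ n, HomSet S.carrier S.res (A n) := fun n => quotCDesc S₀ J hJ (π₀ n) (iInf_le K n)
  have hπq : ∀ n t, (π n).1 (q t) = (π₀ n).1 t := fun n t => rfl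
  have hker : ∀ n, RingHom.ker (π n).1 = (K n).map q := by
    intro n
    apply le_antisymm
    · intro x hx
      obtain ⟨t, rfl⟩ := hqs x
      apply Ideal.mem_map_of_mem
      change (π₀ n).1 t = 0
      rw [← hπq]
      exact RingHom.mem_ker.1 hx
    · rw [Ideal.map_le_iff_le_comap]
      intro t ht
      rw [Ideal.mem_comap, RingHom.mem_ker, hπq]
      exact RingHom.mem_ker.1 ht
  have hchev : ∀ N, ∃ n, RingHom.ker (π n).1 ≤ IsLocalRing.maximalIdeal S.carrier ^ N := by
    intro N
    obtain ⟨n, hn⟩ := chevalley_quot S₀ K hKanti hJ N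
    exact ⟨n, by rw [hker]; exact hn⟩
  have hkeranti : ∀ {n m : ℕ}, n ≤ m → RingHom.ker (π m).1 ≤ RingHom.ker (π n).1 := by
    intro n m h
    rw [hker, hker]
    exact Ideal.map_mono (hKanti h)
  refine ⟨S, π, ?_, ?_, ?_, hchev, fun n => exists_pow_le_ker S (π n)⟩
  · intro n
    apply quotCRestr_injective S₀ J hJ
    rw [quotCRestr_map, quotCRestr_quotCDesc, quotCRestr_quotCDesc]
    exact hπ₀c n
  · intro n a
    obtain ⟨t, ht⟩ := hπ₀s n a
    exact ⟨q t, ht⟩
  · intro a ha
    -- uniqueness first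
    have huniq : ∀ s s' : S.carrier, (∀ n, (π n).1 s = a n) → (∀ n, (π n).1 s' = a n) → s = s' := by
      intro s s' hs hs'
      obtain ⟨t, rfl⟩ := hqs s
      obtain ⟨t', rfl⟩ := hqs s'
      have : t - t' ∈ J := by
        rw [hJdef, Submodule.mem_iInf]
        intro n
        change (π₀ n).1 (t - t') = 0
        rw [map_sub, sub_eq_zero, ← hπq, ← hπq, hs, hs']
      have h0 := (quotCHom_eq_zero_iff S₀ J hJ _).2 this
      rw [map_sub, sub_eq_zero] at h0
      exact h0
    -- existence
    have hex : ∀ n, ∃ s : S.carrier, (π n).1 s = a n := fun n => by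
      obtain ⟨t, ht⟩ := hπ₀s n (a n)
      exact ⟨q t, ht⟩
    choose s hs using hex
    have hsdiff : ∀ {n m : ℕ}, n ≤ m → s m - s n ∈ RingHom.ker (π n).1 := by
      intro n m h
      rw [RingHom.mem_ker, map_sub, sub_eq_zero, hs n]
      obtain ⟨t, ht⟩ := hqs (s m)
      rw [← ht, hπq, ← hπ₀c' h]
      change sysTrans A f h ((π₀ m).1 t) = a n
      rw [← hπq, ht, hs m, sysTrans_apply_compat A f ha h]
    choose c₀ hc₀ using hchev
    let c : ℕ → ℕ := fun N => max ((Finset.range (N + 1)).sup c₀) N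
    have hcmono : Monotone c := by
      intro N M h
      apply max_le_max
      · exact Finset.sup_mono (Finset.range_mono (by omega))
      · exact h
    have hcN : ∀ N, N ≤ c N := fun N => le_max_right _ _
    have hcc : ∀ N, c₀ N ≤ c N := fun N =>
      le_trans (Finset.le_sup (f := c₀) (Finset.mem_range.2 (Nat.lt_succ_self N))) (le_max_left _ _)
    let u : ℕ → S.carrier := fun N => s (c N)
    have hu : ∀ {N M : ℕ}, N ≤ M →
        u N ≡ u M [SMOD (IsLocalRing.maximalIdeal S.carrier ^ N • ⊤ : Submodule S.carrier S.carrier)] := by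
      intro N M h
      rw [SModEq.sub_mem, smul_eq_mul, Ideal.mul_top]
      have h1 : s (c M) - s (c N) ∈ RingHom.ker (π (c N)).1 := hsdiff (hcmono h)
      have h2 := hc₀ N (hkeranti (hcc N) h1)
      have h3 : u N - u M = -(s (c M) - s (c N)) := by simp only [u]; ring
      rw [h3]
      exact neg_mem h2
    haveI := S.isAdicComplete
    obtain ⟨L, hL⟩ := IsPrecomplete.prec' (I := IsLocalRing.maximalIdeal S.carrier) u hu
    have hL' : ∀ N, u N - L ∈ IsLocalRing.maximalIdeal S.carrier ^ N := by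
      intro N
      have := hL N
      rwa [SModEq.sub_mem, smul_eq_mul, Ideal.mul_top] at this
    have hLa : ∀ n, (π n).1 L = a n := by
      intro n
      obtain ⟨N, hN⟩ := exists_pow_le_ker S (π n)
      set M := max N n with hM
      have h1 : u M - L ∈ RingHom.ker (π n).1 :=
        hN (Ideal.pow_le_pow_right (le_max_left N n) (hL' M))
      rw [RingHom.mem_ker, map_sub, sub_eq_zero] at h1
      rw [← h1]
      have h2 : s (c M) - s n ∈ RingHom.ker (π n).1 := hsdiff ((le_max_right N n).trans (hcN M))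
      rw [RingHom.mem_ker, map_sub, sub_eq_zero, hs n] at h2
      exact h2
    exact ⟨L, hLa, fun L' hL'a => huniq L' L hL'a hLa⟩

end Main

end Groth.Agent.Lib.Helper1.ArtFunLib
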