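import Mathlib
import Groth.Prelude.Def_ArtFun5
import Groth.Agent.Lib.Helper1.ArtFunDef
import Groth.Agent.Lib.Helper1.ArtFunHull
import Groth.Agent.Lib.Helper1.ArtFunTangentFin

/-!
# The pro-representability criterion
-/
universe u v
open CategoryTheory

namespace Groth.Agent.Lib.Helper1.ArtFunLib

open ArtFun ArtFun.Art

variable {Λ : Type u} {k : Type u} [CommRing Λ] [Field k] [Algebra Λ k]
variable [IsNoetherianRing Λ] [Module.Finite Λ k]

section Inj

variable {R : Type u} [CommRing R] [Algebra Λ R] {resR : R →ₐ[Λ] k} {G : Art Λ k ⥤ Type v}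

lemma injective_family_app_of_smallExt (hG4 : HSq G) (ξ : Family R resR G)
    (hd : Function.Injective (ξ.app (dual Λ k)))
    {B A : Art Λ k} (p : B ⟶ A) (hp : IsSmallExt p) (hA : Function.Injective (ξ.app A)) :
    Function.Injective (ξ.app B) := by
  intro y y' hyy'
  obtain ⟨P, π₁, π₂, hP⟩ := exists_isFibreProd_of_surjective p p hp.1
  obtain ⟨t, ht⟩ := exists_generator hp
  have h' := isFibreProd_deltaHom hp ht hP
  have hyA : HomSet.map p y = HomSet.map p y' := by
    apply hA
    rw [ξ.natural, ξ.natural, hyy']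
  set w := fpLift hP y y' hyA with hw
  have hw1 : HomSet.map π₁ w = y := fpLift_fst hP y y' hyA
  have hw2 : HomSet.map π₂ w = y' := fpLift_snd hP y y' hyA
  have hξw : ξ.app P w = G.map (diagHom hP) (ξ.app B y) := by
    apply (hG4 π₁ π₂ p hP hp).1
    apply FibProd.ext
    · change G.map π₁ (ξ.app P w) = G.map π₁ (G.map (diagHom hP) (ξ.app B y))
      rw [← G.map_comp_apply (diagHom hP), diagHom_fst, G.map_id_apply, ← ξ.natural, hw1]
    · change G.map π₂ (ξ.app P w) = G.map π₂ (G.map (diagHom hP) (ξ.app B y))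
      rw [← G.map_comp_apply (diagHom hP), diagHom_snd, G.map_id_apply, ← ξ.natural, hw2, hyy']
  have hθ : HomSet.map (deltaHom hp ht hP) w = HomSet.map (toBase B ≫ baseToDual) y := by
    apply hd
    rw [ξ.natural, hξw, ← G.map_comp_apply (diagHom hP), diagHom_deltaHom, ξ.natural]
  have hwd : w = HomSet.map (diagHom hP) y := by
    apply homSet_ext_of_isFibreProd h'
    · rw [hw1, ← homSet_map_comp, diagHom_fst, homSet_map_id]
    · rw [hθ, ← homSet_map_comp, diagHom_deltaHom]
  rw [← hw2, hwd, ← homSet_map_comp, diagHom_snd, homSet_map_id]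

theorem injective_family_app_of_tangent_injective (hG4 : HSq G) (ξ : Family R resR G)
    (hd : Function.Injective (ξ.app (dual Λ k))) (A : Art Λ k) :
    Function.Injective (ξ.app A) := by
  have key : Function.Injective (ξ.app (base Λ k)) → Function.Injective (ξ.app A) := by
    refine surjective_induction
      (fun A B f => Function.Injective (ξ.app A) → Function.Injective (ξ.app B)) ?_ ?_ ?_
      (toBase A) A.res_surjective
    · intro A B e he hA y y' hyy'
      have h1 : HomSet.map e y = HomSet.map e y' := by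
        apply hA
        rw [ξ.natural, ξ.natural, hyy']
      have h2 := congrArg (HomSet.map (inv e)) h1
      rwa [← homSet_map_comp, ← homSet_map_comp, IsIso.hom_inv_id, homSet_map_id, homSet_map_id] at h2
    · intro A B p hp hA
      exact injective_family_app_of_smallExt hG4 ξ hd p hp hA
    · intro A B C p q hp hq hA
      exact hp (hq hA)
  apply key
  intro x x' _
  exact Subsingleton.elim x x'

theorem isUniversal_of_isMiniversal_of_hsq (h0 : H0 G) (hG4 : HSq G) (ξ : Family R resR G)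
    (hξ : IsMiniversal ξ) : IsUniversal ξ :=
  fun A => ⟨injective_family_app_of_tangent_injective hG4 ξ hξ.2.1 A,
    surjective_app_of_isVersal ξ hξ.1 h0 A⟩

end Inj

section Crit

variable (F : Art Λ k ⥤ Type v)

theorem isProrepresentable_of_rs (h0 : H0 F) (hrs : RS F) [TangentStr F] (h3 : Hfin F)
    (hc : ∀ x₀ : F.obj (base Λ k),
      Function.Injective (fun σ : base Λ k ⟶ dual Λ k => F.map σ x₀)) : IsProrepresentable F := by
  obtain ⟨⟨R, ξ, hξ⟩⟩ := hasVersal_of_s1_heps_hfin F h0 hrs.s1 hrs.heps h3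
  obtain ⟨J, hJ, hmini⟩ := exists_miniversal_quot_of_isVersal_of_vanish h0 hrs.heps R ξ hξ (by
    intro u hu hkill
    have hle : RingHom.ker (homSetBase R.carrier R.res).1 ≤ RingHom.ker u.1 := by
      intro f hf
      have hfm : f ∈ IsLocalRing.maximalIdeal R.carrier := (R.mem_maximalIdeal_iff f).2 (RingHom.mem_ker.1 hf)
      exact RingHom.mem_ker.2 (hkill f hfm)
    obtain ⟨σ, hσ⟩ := exists_factor_homSet (homSetBase R.carrier R.res) R.res_surjective u hle
    rw [← hσ, ξ.natural, ξ.natural] at hu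
    have := hc _ hu
    rw [← hσ, this])
  exact ⟨⟨quotC R J hJ, _, isUniversal_of_isMiniversal_of_hsq h0 hrs.hsq _ hmini⟩⟩

theorem rs_of_isProrepresentable (hF : IsProrepresentable F) : H0 F ∧ RS F := by
  obtain ⟨⟨R, ξ, hξ⟩⟩ := hF
  have h0 : H0 F := h0_of_surjective ξ (hξ _).2
  refine ⟨h0, ?_⟩
  intro B A A' A'' p' p'' f' f'' h hf''
  have hL := isLeftExact_hR R.carrier R.res p' p'' f' f'' h
  constructor
  · intro z₁ z₂ e
    obtain ⟨χ₁, rfl⟩ := (hξ B).2 z₁
    obtain ⟨χ₂, rfl⟩ := (hξ B).2 z₂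
    have e1 : F.map p' (ξ.app B χ₁) = F.map p' (ξ.app B χ₂) := congrArg (fun t => t.1.1) e
    have e2 : F.map p'' (ξ.app B χ₁) = F.map p'' (ξ.app B χ₂) := congrArg (fun t => t.1.2) e
    rw [← ξ.natural, ← ξ.natural] at e1 e2
    have := homSet_ext_of_isFibreProd h ((hξ _).1 e1) ((hξ _).1 e2)
    rw [this]
  · rintro ⟨⟨x', x''⟩, e⟩
    obtain ⟨φ', rfl⟩ := (hξ A').2 x'
    obtain ⟨φ'', rfl⟩ := (hξ A'').2 x''
    have e' : HomSet.map f' φ' = HomSet.map f'' φ'' := by
      apply (hξ A).1
      rw [ξ.natural, ξ.natural]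
      exact e
    refine ⟨ξ.app B (fpLift h φ' φ'' e'), ?_⟩
    apply FibProd.ext
    · change F.map p' (ξ.app B (fpLift h φ' φ'' e')) = ξ.app A' φ'
      rw [← ξ.natural, fpLift_fst]
    · change F.map p'' (ξ.app B (fpLift h φ' φ'' e')) = ξ.app A'' φ''
      rw [← ξ.natural, fpLift_snd]

theorem isProrepresentable_iff [TangentStr F] :
    IsProrepresentable F ↔
      ((H0 F ∧ (∀ ⦃B A A' A'' : Art Λ k⦄ (p' : B ⟶ A') (p'' : B ⟶ A'') (f' : A' ⟶ A) (f'' : A'' ⟶ A)
        (h : IsFibreProd p' p'' f' f''), Function.Surjective f'' → Function.Bijective (cmp F h))) ∧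
        Hfin F ∧
        ∀ x₀ : F.obj (base Λ k),
          Function.Injective (fun σ : base Λ k ⟶ dual Λ k => F.map σ x₀)) := by
  constructor
  · intro hF
    have h01 := rs_of_isProrepresentable F hF
    obtain ⟨⟨R, ξ, hξ⟩⟩ := hF
    refine ⟨h01, hfin_of_surjective_dual F R ξ (hξ _).2, ?_⟩
    intro x₀ σ₁ σ₂ e
    have hx₀ : x₀ = ξ.app _ (homSetBase R.carrier R.res) := @Subsingleton.elim _ h01.1.2 _ _
    change F.map σ₁ x₀ = F.map σ₂ x₀ at e
    rw [hx₀, ← ξ.natural, ← ξ.natural] at e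
    exact hom_ext_of_homSet_surjective (homSetBase R.carrier R.res) R.res_surjective ((hξ _).1 e)
  · rintro ⟨⟨h0, hrs⟩, h3, hc⟩
    exact isProrepresentable_of_rs F h0 hrs h3 hc

end Crit

end Groth.Agent.Lib.Helper1.ArtFunLib
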