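import Mathlib
import Groth.Prelude.Def_ArtFun2
import Groth.Agent.Lib.Helper1.ArtFunDef

/-!
# Fibre products of functors of Artin rings, elementwise
-/
universe u v
open CategoryTheory Limits

namespace Groth.Agent.Lib.Helper1.ArtFunLib

open ArtFun ArtFun.Art

variable {Λ : Type u} {k : Type u} [CommRing Λ] [Field k] [Algebra Λ k]

variable {F G G' : Art Λ k ⥤ Type v} (φ : F ⟶ G) (ψ : G' ⟶ G)

lemma isPullback_app (A : Art Λ k) :
    IsPullback ((pullback.fst φ ψ).app A) ((pullback.snd φ ψ).app A) (φ.app A) (ψ.app A) :=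
  (IsPullback.of_hasPullback φ ψ).map ((evaluation (Art Λ k) (Type v)).obj A)

lemma pullback_ext {A : Art Λ k} {z z' : (pullback φ ψ).obj A}
    (h1 : (pullback.fst φ ψ).app A z = (pullback.fst φ ψ).app A z')
    (h2 : (pullback.snd φ ψ).app A z = (pullback.snd φ ψ).app A z') : z = z' :=
  Types.ext_of_isPullback (isPullback_app φ ψ A) h1 h2

lemma pullback_exists {A : Art Λ k} (x : F.obj A) (y : G'.obj A) (h : φ.app A x = ψ.app A y) :
    ∃ z : (pullback φ ψ).obj A, (pullback.fst φ ψ).app A z = x ∧ (pullback.snd φ ψ).app A z = y :=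
  Types.exists_of_isPullback (isPullback_app φ ψ A) x y h

lemma pullback_condition_apply {A : Art Λ k} (z : (pullback φ ψ).obj A) :
    φ.app A ((pullback.fst φ ψ).app A z) = ψ.app A ((pullback.snd φ ψ).app A z) := by
  rw [← comp_app_apply, ← comp_app_apply, pullback.condition]

theorem isSmooth_pullback_snd (hφ : IsSmooth φ) : IsSmooth (pullback.snd φ ψ) := by
  rw [isSmooth_iff] at hφ ⊢
  intro B A μ hμ z y e
  -- z ∈ (F ×_G G')(A), y ∈ G'(B), snd z = G'(μ) y
  set x := (pullback.fst φ ψ).app A z with hx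
  have hxy : φ.app A x = G.map μ (ψ.app B y) := by
    rw [hx, pullback_condition_apply, e, nat_apply]
  obtain ⟨x', hx'1, hx'2⟩ := hφ μ hμ x (ψ.app B y) hxy
  obtain ⟨z', hz'1, hz'2⟩ := pullback_exists φ ψ x' y hx'2
  refine ⟨z', ?_, hz'2⟩
  apply pullback_ext
  · rw [nat_apply, hz'1, hx'1]
  · rw [nat_apply, hz'2, e]

lemma pullback_fst_map {A B : Art Λ k} (μ : A ⟶ B) (z : (pullback φ ψ).obj A) :
    (pullback.fst φ ψ).app B ((pullback φ ψ).map μ z) = F.map μ ((pullback.fst φ ψ).app A z) :=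
  nat_apply _ μ z

lemma pullback_snd_map {A B : Art Λ k} (μ : A ⟶ B) (z : (pullback φ ψ).obj A) :
    (pullback.snd φ ψ).app B ((pullback φ ψ).map μ z) = G'.map μ ((pullback.snd φ ψ).app A z) :=
  nat_apply _ μ z

/-- (RS) for a fibre product of functors -/
theorem rs_pullback (hG : RS G) (hF : RS F) (hG' : RS G') : RS (pullback φ ψ) := by
  intro B A A' A'' p' p'' f' f'' h hf
  constructor
  · rw [cmp_injective_iff]
    intro z z' e1 e2
    apply pullback_ext
    · apply (cmp_injective_iff F h).1 (hF p' p'' f' f'' h hf).1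
      · rw [← pullback_fst_map, ← pullback_fst_map, e1]
      · rw [← pullback_fst_map, ← pullback_fst_map, e2]
    · apply (cmp_injective_iff G' h).1 (hG' p' p'' f' f'' h hf).1
      · rw [← pullback_snd_map, ← pullback_snd_map, e1]
      · rw [← pullback_snd_map, ← pullback_snd_map, e2]
  · rw [cmp_surjective_iff]
    intro z' z'' e
    obtain ⟨x, hx1, hx2⟩ := (cmp_surjective_iff F h).1 (hF p' p'' f' f'' h hf).2
      ((pullback.fst φ ψ).app A' z') ((pullback.fst φ ψ).app A'' z'')
      (by rw [← pullback_fst_map, ← pullback_fst_map, e])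
    obtain ⟨y, hy1, hy2⟩ := (cmp_surjective_iff G' h).1 (hG' p' p'' f' f'' h hf).2
      ((pullback.snd φ ψ).app A' z') ((pullback.snd φ ψ).app A'' z'')
      (by rw [← pullback_snd_map, ← pullback_snd_map, e])
    have hxy : φ.app B x = ψ.app B y := by
      apply (cmp_injective_iff G h).1 (hG p' p'' f' f'' h hf).1
      · rw [← nat_apply, ← nat_apply, hx1, hy1, pullback_condition_apply]
      · rw [← nat_apply, ← nat_apply, hx2, hy2, pullback_condition_apply]
    obtain ⟨z, hz1, hz2⟩ := pullback_exists φ ψ x y hxy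
    refine ⟨z, ?_, ?_⟩
    · apply pullback_ext
      · rw [pullback_fst_map, hz1, hx1]
      · rw [pullback_snd_map, hz2, hy1]
    · apply pullback_ext
      · rw [pullback_fst_map, hz1, hx2]
      · rw [pullback_snd_map, hz2, hy2]

/-- a morphism which is bijective on all objects is smooth -/
theorem isSmooth_of_bijective {P Q : Art Λ k ⥤ Type v} (η : P ⟶ Q)
    (h : ∀ A, Function.Bijective (η.app A)) : IsSmooth η := by
  rw [isSmooth_iff]
  intro B A μ _ x y e
  obtain ⟨z, hz⟩ := (h B).2 y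
  refine ⟨z, ?_, hz⟩
  apply (h A).1
  rw [nat_apply, hz, e]

section

variable {H₁ H₂ : Art Λ k ⥤ Type v} (p₁ : H₁ ⟶ G) (p₂ : H₂ ⟶ G) (q : G ⟶ F)

/-- the canonical map `H₁ ×_G H₂ → H₁ ×_F H₂` -/
noncomputable abbrev pullbackMapOfComp : pullback p₁ p₂ ⟶ pullback (p₁ ≫ q) (p₂ ≫ q) :=
  pullback.map p₁ p₂ (p₁ ≫ q) (p₂ ≫ q) (𝟙 H₁) (𝟙 H₂) q
      (Category.id_comp _).symm (Category.id_comp _).symm

lemma pullbackMapOfComp_fst {A : Art Λ k} (z : (pullback p₁ p₂).obj A) :
    (pullback.fst (p₁ ≫ q) (p₂ ≫ q)).app A ((pullbackMapOfComp p₁ p₂ q).app A z) =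
      (pullback.fst p₁ p₂).app A z := by
  rw [← comp_app_apply, pullback.lift_fst, Category.comp_id]

lemma pullbackMapOfComp_snd {A : Art Λ k} (z : (pullback p₁ p₂).obj A) :
    (pullback.snd (p₁ ≫ q) (p₂ ≫ q)).app A ((pullbackMapOfComp p₁ p₂ q).app A z) =
      (pullback.snd p₁ p₂).app A z := by
  rw [← comp_app_apply, pullback.lift_snd, Category.comp_id]

theorem bijective_pullbackMapOfComp (hq : ∀ A, Function.Injective (q.app A)) (A : Art Λ k) :
    Function.Bijective ((pullbackMapOfComp p₁ p₂ q).app A) := by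
  constructor
  · intro z z' e
    apply pullback_ext
    · rw [← pullbackMapOfComp_fst p₁ p₂ q, e, pullbackMapOfComp_fst]
    · rw [← pullbackMapOfComp_snd p₁ p₂ q, e, pullbackMapOfComp_snd]
  · intro w
    have := pullback_condition_apply (p₁ ≫ q) (p₂ ≫ q) w
    rw [comp_app_apply, comp_app_apply] at this
    obtain ⟨z, hz1, hz2⟩ := pullback_exists p₁ p₂ _ _ (hq A this)
    refine ⟨z, ?_⟩
    apply pullback_ext
    · rw [pullbackMapOfComp_fst, hz1]
    · rw [pullbackMapOfComp_snd, hz2]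

end

end Groth.Agent.Lib.Helper1.ArtFunLib
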