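import Mathlib
import Groth.Prelude.Def_ArtFun5
import Groth.Agent.Lib.Helper1.ArtFunProrepCrit
import Groth.Agent.Lib.Helper1.ArtFunTangentStr
import Groth.Agent.Lib.Helper1.ArtFunTangent

/-!
# Pushouts and coproducts of coefficient rings, via the pro-representability criterion
-/
universe u v
open CategoryTheory

namespace Groth.Agent.Lib.Helper1.ArtFunLib

open ArtFun ArtFun.Art

variable {Λ : Type u} {k : Type u} [CommRing Λ] [Field k] [Algebra Λ k]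

section Functor

variable (R : Type u) [CommRing R] [Algebra Λ R] (S₁ S₂ : CRing Λ k)
  (f₁ : R →ₐ[Λ] S₁.carrier) (f₂ : R →ₐ[Λ] S₂.carrier)

/-- the functor `h_{S₁} ×_{h_R} h_{S₂}` -/
def pushFun : Art Λ k ⥤ Type u where
  obj A := {x : HomSet S₁.carrier S₁.res A × HomSet S₂.carrier S₂.res A //
    x.1.1.comp f₁ = x.2.1.comp f₂}
  map {A B} g := ↾fun x => ⟨(HomSet.map g x.1.1, HomSet.map g x.1.2), by
    change (g.toAlgHom.comp x.1.1.1).comp f₁ = (g.toAlgHom.comp x.1.2.1).comp f₂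
    rw [AlgHom.comp_assoc, AlgHom.comp_assoc, x.2]⟩
  map_id A := ConcreteCategory.hom_ext _ _ fun x =>
    Subtype.ext (Prod.ext (homSet_map_id _) (homSet_map_id _))
  map_comp g h := ConcreteCategory.hom_ext _ _ fun x =>
    Subtype.ext (Prod.ext (homSet_map_comp _ _ _) (homSet_map_comp _ _ _))

variable {R S₁ S₂ f₁ f₂}

lemma pushFun_map_fst {A B : Art Λ k} (g : A ⟶ B) (x : (pushFun R S₁ S₂ f₁ f₂).obj A) :
    ((pushFun R S₁ S₂ f₁ f₂).map g x).1.1 = HomSet.map g x.1.1 := rfl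

lemma pushFun_map_snd {A B : Art Λ k} (g : A ⟶ B) (x : (pushFun R S₁ S₂ f₁ f₂).obj A) :
    ((pushFun R S₁ S₂ f₁ f₂).map g x).1.2 = HomSet.map g x.1.2 := rfl

lemma pushFun_ext {A : Art Λ k} {x y : (pushFun R S₁ S₂ f₁ f₂).obj A} (h1 : x.1.1 = y.1.1)
    (h2 : x.1.2 = y.1.2) : x = y := Subtype.ext (Prod.ext h1 h2)

variable (R S₁ S₂ f₁ f₂)

/-- first projection -/
def pushFst : pushFun R S₁ S₂ f₁ f₂ ⟶ hR S₁.carrier S₁.res where
  app A := ↾fun x => x.1.1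
  naturality A B g := ConcreteCategory.hom_ext _ _ fun x => rfl

/-- second projection -/
def pushSnd : pushFun R S₁ S₂ f₁ f₂ ⟶ hR S₂.carrier S₂.res where
  app A := ↾fun x => x.1.2
  naturality A B g := ConcreteCategory.hom_ext _ _ fun x => rfl

variable (hres : S₁.res.comp f₁ = S₂.res.comp f₂)

include hres in
lemma pushFun_h0 : H0 (pushFun R S₁ S₂ f₁ f₂) := by
  refine ⟨⟨⟨(homSetBase _ _, homSetBase _ _), hres⟩⟩, ⟨fun x y => ?_⟩⟩
  exact pushFun_ext (Subsingleton.elim _ _) (Subsingleton.elim _ _)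

lemma pushFun_rs : RS (pushFun R S₁ S₂ f₁ f₂) := by
  intro B A A' A'' p' p'' f' f'' h _
  constructor
  · intro z₁ z₂ e
    have e1 : (pushFun R S₁ S₂ f₁ f₂).map p' z₁ = (pushFun R S₁ S₂ f₁ f₂).map p' z₂ :=
      congrArg (fun t => t.1.1) e
    have e2 : (pushFun R S₁ S₂ f₁ f₂).map p'' z₁ = (pushFun R S₁ S₂ f₁ f₂).map p'' z₂ :=
      congrArg (fun t => t.1.2) e
    apply pushFun_ext
    · exact homSet_ext_of_isFibreProd h (congrArg (fun t => t.1.1) e1) (congrArg (fun t => t.1.1) e2)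
    · exact homSet_ext_of_isFibreProd h (congrArg (fun t => t.1.2) e1) (congrArg (fun t => t.1.2) e2)
  · rintro ⟨⟨x', x''⟩, e⟩
    have e1 : HomSet.map f' x'.1.1 = HomSet.map f'' x''.1.1 := congrArg (fun t => t.1.1) e
    have e2 : HomSet.map f' x'.1.2 = HomSet.map f'' x''.1.2 := congrArg (fun t => t.1.2) e
    set w₁ := fpLift h x'.1.1 x''.1.1 e1 with hw₁
    set w₂ := fpLift h x'.1.2 x''.1.2 e2 with hw₂
    have c1 : HomSet.map p' w₁ = x'.1.1 := fpLift_fst h _ _ e1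
    have c2 : HomSet.map p'' w₁ = x''.1.1 := fpLift_snd h _ _ e1
    have c3 : HomSet.map p' w₂ = x'.1.2 := fpLift_fst h _ _ e2
    have c4 : HomSet.map p'' w₂ = x''.1.2 := fpLift_snd h _ _ e2
    have hw : w₁.1.comp f₁ = w₂.1.comp f₂ := by
      apply AlgHom.ext
      intro r
      apply h.inj
      · have a1 : p' (w₁.1 (f₁ r)) = x'.1.1.1 (f₁ r) :=
          congrArg (fun m : HomSet S₁.carrier S₁.res A' => m.1 (f₁ r)) c1
        have a2 : p' (w₂.1 (f₂ r)) = x'.1.2.1 (f₂ r) :=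
          congrArg (fun m : HomSet S₂.carrier S₂.res A' => m.1 (f₂ r)) c3
        change p' (w₁.1 (f₁ r)) = p' (w₂.1 (f₂ r))
        rw [a1, a2]
        exact congrArg (fun m : R →ₐ[Λ] A' => m r) x'.2
      · have a1 : p'' (w₁.1 (f₁ r)) = x''.1.1.1 (f₁ r) :=
          congrArg (fun m : HomSet S₁.carrier S₁.res A'' => m.1 (f₁ r)) c2
        have a2 : p'' (w₂.1 (f₂ r)) = x''.1.2.1 (f₂ r) :=
          congrArg (fun m : HomSet S₂.carrier S₂.res A'' => m.1 (f₂ r)) c4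
        change p'' (w₁.1 (f₁ r)) = p'' (w₂.1 (f₂ r))
        rw [a1, a2]
        exact congrArg (fun m : R →ₐ[Λ] A'' => m r) x''.2
    refine ⟨⟨(w₁, w₂), hw⟩, ?_⟩
    apply FibProd.ext
    · exact pushFun_ext c1 c3
    · exact pushFun_ext c2 c4

lemma pushFun_c (x₀ : (pushFun R S₁ S₂ f₁ f₂).obj (base Λ k)) :
    Function.Injective (fun σ : base Λ k ⟶ dual Λ k => (pushFun R S₁ S₂ f₁ f₂).map σ x₀) := by
  intro σ₁ σ₂ e
  have e1 : HomSet.map σ₁ x₀.1.1 = HomSet.map σ₂ x₀.1.1 := congrArg (fun t => t.1.1) e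
  have hb : x₀.1.1 = homSetBase S₁.carrier S₁.res := Subsingleton.elim _ _
  rw [hb] at e1
  exact hom_ext_of_homSet_surjective (homSetBase S₁.carrier S₁.res) S₁.res_surjective e1

end Functor

section Hfin

variable [IsNoetherianRing Λ] [Module.Finite Λ k]

lemma hR_h0 (S : CRing Λ k) : H0 (hR S.carrier S.res) :=
  ⟨⟨homSetBase _ _⟩, ⟨fun a b => Subsingleton.elim (α := HomSet S.carrier S.res (base Λ k)) a b⟩⟩

lemma hR_heps (S : CRing Λ k) : Heps (hR S.carrier S.res) :=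
  fun _ _ p' p'' h => isLeftExact_hR S.carrier S.res p' p'' _ _ h

variable (R : Type u) [CommRing R] [Algebra Λ R] (S₁ S₂ : CRing Λ k)
  (f₁ : R →ₐ[Λ] S₁.carrier) (f₂ : R →ₐ[Λ] S₂.carrier) (hres : S₁.res.comp f₁ = S₂.res.comp f₂)

include hres in
lemma pushFun_hfin :
    letI := TStr.tangentStr (pushFun_h0 R S₁ S₂ f₁ f₂ hres) (pushFun_rs R S₁ S₂ f₁ f₂).heps
    Hfin (pushFun R S₁ S₂ f₁ f₂) := by
  letI TG := TStr.tangentStr (pushFun_h0 R S₁ S₂ f₁ f₂ hres) (pushFun_rs R S₁ S₂ f₁ f₂).heps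
  letI T1 : TangentStr (hR S₁.carrier S₁.res) := TStr.tangentStr (hR_h0 S₁) (hR_heps S₁)
  letI T2 : TangentStr (hR S₂.carrier S₂.res) := TStr.tangentStr (hR_h0 S₂) (hR_heps S₂)
  have hf1 : Hfin (hR S₁.carrier S₁.res) :=
    hfin_of_surjective_dual _ S₁ (Family.self S₁.carrier S₁.res) (fun x => ⟨x, rfl⟩)
  have hf2 : Hfin (hR S₂.carrier S₂.res) :=
    hfin_of_surjective_dual _ S₂ (Family.self S₂.carrier S₂.res) (fun x => ⟨x, rfl⟩)
  haveI : Module.Finite k (TangentSpace (hR S₁.carrier S₁.res)) := hf1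
  haveI : Module.Finite k (TangentSpace (hR S₂.carrier S₂.res)) := hf2
  let L1 := tangentLinearMap (pushFun_h0 R S₁ S₂ f₁ f₂ hres) (pushFun_rs R S₁ S₂ f₁ f₂).heps
    (pushFst R S₁ S₂ f₁ f₂)
  let L2 := tangentLinearMap (pushFun_h0 R S₁ S₂ f₁ f₂ hres) (pushFun_rs R S₁ S₂ f₁ f₂).heps
    (pushSnd R S₁ S₂ f₁ f₂)
  have hinj : Function.Injective (L1.prod L2) := by
    intro x y e
    have e1 : L1 x = L1 y := congrArg Prod.fst e
    have e2 : L2 x = L2 y := congrArg Prod.snd e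
    exact pushFun_ext e1 e2
  exact Module.Finite.of_injective (L1.prod L2) hinj

end Hfin

section Main

variable [IsNoetherianRing Λ] [Module.Finite Λ k]
variable (R : Type u) [CommRing R] [Algebra Λ R] (S₁ S₂ : CRing Λ k)
  (f₁ : R →ₐ[Λ] S₁.carrier) (f₂ : R →ₐ[Λ] S₂.carrier) (hres : S₁.res.comp f₁ = S₂.res.comp f₂)

include hres in
theorem isProrepresentable_pushFun : IsProrepresentable (pushFun R S₁ S₂ f₁ f₂) := by
  letI TG := TStr.tangentStr (pushFun_h0 R S₁ S₂ f₁ f₂ hres) (pushFun_rs R S₁ S₂ f₁ f₂).heps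
  exact isProrepresentable_of_rs _ (pushFun_h0 R S₁ S₂ f₁ f₂ hres) (pushFun_rs R S₁ S₂ f₁ f₂)
    (pushFun_hfin R S₁ S₂ f₁ f₂ hres) (pushFun_c R S₁ S₂ f₁ f₂)

include hres in
theorem exists_pushout :
    ∃ (P : CRing Λ k) (i₁ : S₁.carrier →ₐ[Λ] P.carrier) (i₂ : S₂.carrier →ₐ[Λ] P.carrier),
      P.res.comp i₁ = S₁.res ∧ P.res.comp i₂ = S₂.res ∧ i₁.comp f₁ = i₂.comp f₂ ∧
      ∀ (T : CRing Λ k) (g₁ : S₁.carrier →ₐ[Λ] T.carrier) (g₂ : S₂.carrier →ₐ[Λ] T.carrier),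
        T.res.comp g₁ = S₁.res → T.res.comp g₂ = S₂.res → g₁.comp f₁ = g₂.comp f₂ →
          ∃! h : P.carrier →ₐ[Λ] T.carrier, T.res.comp h = P.res ∧ h.comp i₁ = g₁ ∧ h.comp i₂ = g₂ := by
  obtain ⟨⟨P, ξ, hξ⟩⟩ := isProrepresentable_pushFun R S₁ S₂ f₁ f₂ hres
  have h0 : H0 (pushFun R S₁ S₂ f₁ f₂) := pushFun_h0 R S₁ S₂ f₁ f₂ hres
  have hv : IsVersal ξ := isVersal_of_isUniversal ξ hξ
  -- the two maps
  let ψ₁ : ∀ n, HomSet S₁.carrier S₁.res (P.trunc n) := fun n => (ξ.app _ (P.truncHom n)).1.1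
  let ψ₂ : ∀ n, HomSet S₂.carrier S₂.res (P.trunc n) := fun n => (ξ.app _ (P.truncHom n)).1.2
  have hcompat : ∀ n, (pushFun R S₁ S₂ f₁ f₂).map (P.truncMap n) (ξ.app _ (P.truncHom (n + 1))) = ξ.app _ (P.truncHom n) := by
    intro n
    rw [← ξ.natural, CRing.truncMap_truncHom]
  have hψ₁ : ∀ n, HomSet.map (P.truncMap n) (ψ₁ (n + 1)) = ψ₁ n :=
    fun n => congrArg (fun t => t.1.1) (hcompat n)
  have hψ₂ : ∀ n, HomSet.map (P.truncMap n) (ψ₂ (n + 1)) = ψ₂ n :=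
    fun n => congrArg (fun t => t.1.2) (hcompat n)
  obtain ⟨i₁, hi₁, hi₁n⟩ := exists_lift_of_compatible ψ₁ hψ₁
  obtain ⟨i₂, hi₂, hi₂n⟩ := exists_lift_of_compatible ψ₂ hψ₂
  have hi12 : i₁.comp f₁ = i₂.comp f₂ := by
    apply algHom_ext_of_trunc (S := P)
    intro n
    rw [← AlgHom.comp_assoc, ← AlgHom.comp_assoc, hi₁n, hi₂n]
    exact (ξ.app _ (P.truncHom n)).2
  -- key computation
  have key : ∀ (T : CRing Λ k) (h : P.carrier →ₐ[Λ] T.carrier) (hh : T.res.comp h = P.res) (n : ℕ),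
      ((ξ.along h hh).app _ (T.truncHom n)).1.1.1 = (T.truncHom n).1.comp (h.comp i₁) ∧
      ((ξ.along h hh).app _ (T.truncHom n)).1.2.1 = (T.truncHom n).1.comp (h.comp i₂) := by
    intro T h hh n
    set u : HomSet P.carrier P.res (T.trunc n) :=
      ⟨(T.truncHom n).1.comp h, by rw [← AlgHom.comp_assoc, (T.truncHom n).2, hh]⟩ with hu
    obtain ⟨m, ū, hū⟩ := exists_factor_trunc P u
    have e1 : (ξ.along h hh).app _ (T.truncHom n) = (pushFun R S₁ S₂ f₁ f₂).map ū (ξ.app _ (P.truncHom m)) := by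
      change ξ.app _ u = _
      rw [← hū, ξ.natural]
    have hū' : ∀ a, ū ((P.truncHom m).1 a) = (T.truncHom n).1 (h a) :=
      fun a => congrArg (fun w : HomSet P.carrier P.res (T.trunc n) => w.1 a) hū
    rw [e1]
    constructor
    · apply AlgHom.ext
      intro s
      change ū ((ψ₁ m).1 s) = (T.truncHom n).1 (h (i₁ s))
      rw [← hū', ← hi₁n m]
      rfl
    · apply AlgHom.ext
      intro s
      change ū ((ψ₂ m).1 s) = (T.truncHom n).1 (h (i₂ s))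
      rw [← hū', ← hi₂n m]
      rfl
  refine ⟨P, i₁, i₂, hi₁, hi₂, hi12, ?_⟩
  intro T g₁ g₂ hg₁ hg₂ hg12
  -- the formal element
  let η : FormalElt (pushFun R S₁ S₂ f₁ f₂) T :=
    { elt := fun n => ⟨(⟨(T.truncHom n).1.comp g₁, by rw [← AlgHom.comp_assoc, (T.truncHom n).2, hg₁]⟩,
        ⟨(T.truncHom n).1.comp g₂, by rw [← AlgHom.comp_assoc, (T.truncHom n).2, hg₂]⟩), by
          change ((T.truncHom n).1.comp g₁).comp f₁ = ((T.truncHom n).1.comp g₂).comp f₂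
          rw [AlgHom.comp_assoc, AlgHom.comp_assoc, hg12]⟩
      compat := fun n => pushFun_ext (homSet_ext fun _ => rfl) (homSet_ext fun _ => rfl) }
  have huniq : ∀ (h : P.carrier →ₐ[Λ] T.carrier) (hh : T.res.comp h = P.res),
      h.comp i₁ = g₁ → h.comp i₂ = g₂ → (ξ.along h hh).toFormalElt = η := by
    intro h hh h1 h2
    apply FormalElt.ext'
    intro n
    obtain ⟨k1, k2⟩ := key T h hh n
    apply pushFun_ext
    · apply Subtype.ext
      change ((ξ.along h hh).app _ (T.truncHom n)).1.1.1 = (T.truncHom n).1.comp g₁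
      rw [k1, h1]
    · apply Subtype.ext
      change ((ξ.along h hh).app _ (T.truncHom n)).1.2.1 = (T.truncHom n).1.comp g₂
      rw [k2, h2]
  obtain ⟨h, hh, hη⟩ := exists_along_toFormalElt_eq_of_h0 h0 ξ hv T η
  have hh1 : h.comp i₁ = g₁ := by
    apply algHom_ext_of_trunc (S := T)
    intro n
    rw [← (key T h hh n).1]
    exact congrArg (fun e : FormalElt (pushFun R S₁ S₂ f₁ f₂) T => (e.elt n).1.1.1) hη
  have hh2 : h.comp i₂ = g₂ := by
    apply algHom_ext_of_trunc (S := T)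
    intro n
    rw [← (key T h hh n).2]
    exact congrArg (fun e : FormalElt (pushFun R S₁ S₂ f₁ f₂) T => (e.elt n).1.2.1) hη
  refine ⟨h, ⟨hh, hh1, hh2⟩, ?_⟩
  rintro h' ⟨hh', h1', h2'⟩
  have e := (huniq h' hh' h1' h2').trans hη.symm
  apply algHom_ext_of_trunc (S := T)
  intro n
  have hn := congrArg (fun w : FormalElt (pushFun R S₁ S₂ f₁ f₂) T => w.elt n) e
  change ξ.app _ _ = ξ.app _ _ at hn
  exact congrArg Subtype.val ((hξ _).1 hn)

end Main

end Groth.Agent.Lib.Helper1.ArtFunLib
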