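import Mathlib
import Groth.Prelude.Def_ArtFun4
import Groth.Prelude.Def_ArtFun5
import Groth.Agent.Lib.Helper1.ArtFunComplEquiv

/-!
# The local functor of a locally Noetherian `k`-scheme at a `k`-point is prorepresentable
-/
universe u v
open CategoryTheory AlgebraicGeometry

namespace Groth.Agent.Lib.Helper1.ArtFunLib

open ArtFun ArtFun.Art

section Data

variable {k : Type u} [Field k] (M : Scheme.{u}) (m : M ⟶ Spec (CommRingCat.of k))
  [IsLocallyNoetherian M] (x₀ : Spec (CommRingCat.of k) ⟶ M) (hx₀ : x₀ ≫ m = 𝟙 _)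

include hx₀ in
theorem exists_affine_nbhd_data :
    ∃ (B : Type u) (_ : CommRing B) (_ : IsNoetherianRing B) (_ : Algebra k B) (π : B →ₐ[k] k)
      (j : Spec (CommRingCat.of B) ⟶ M), IsOpenImmersion j ∧
      j ≫ m = Spec.map (CommRingCat.ofHom (algebraMap k B)) ∧
      Spec.map (CommRingCat.ofHom π.toRingHom) ≫ j = x₀ ∧
      ∀ (A : Type u) [CommRing A] [IsLocalRing A] (g : Spec (CommRingCat.of A) ⟶ M)
        (r : A →+* k), Function.Surjective r → Spec.map (CommRingCat.ofHom r) ≫ g = x₀ →
        Set.range g ⊆ Set.range j := by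
  classical
  obtain ⟨_, ⟨U, hU, rfl⟩, hxU, -⟩ := M.isBasis_affineOpens.exists_subset_of_mem_open
    (Set.mem_univ (x₀ (IsLocalRing.closedPoint k))) isOpen_univ
  haveI : IsNoetherianRing Γ(M, U) := IsLocallyNoetherian.component_noetherian ⟨U, hU⟩
  let j : Spec Γ(M, U) ⟶ M := hU.fromSpec
  have hjr : Set.range j = U := hU.range_fromSpec
  -- the structure map
  let β : CommRingCat.of k ⟶ Γ(M, U) := Spec.preimage (j ≫ m)
  have hβ : Spec.map β = j ≫ m := Spec.map_preimage _
  letI : Algebra k Γ(M, U) := β.hom.toAlgebra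
  -- the point
  have hx₀r : Set.range x₀ ⊆ Set.range j := by
    rw [hjr]
    rintro _ ⟨y, rfl⟩
    have : y = IsLocalRing.closedPoint k := Subsingleton.elim _ _
    rw [this]
    exact hxU
  let p : Spec (CommRingCat.of k) ⟶ Spec Γ(M, U) := IsOpenImmersion.lift j x₀ hx₀r
  have hp : p ≫ j = x₀ := IsOpenImmersion.lift_fac _ _ _
  let π₀ : Γ(M, U) ⟶ CommRingCat.of k := Spec.preimage p
  have hπ₀ : Spec.map π₀ = p := Spec.map_preimage _
  have hβπ : β ≫ π₀ = 𝟙 _ := by
    apply Spec.map_injective
    rw [Spec.map_comp, hβ, hπ₀, ← Category.assoc, hp, hx₀, Spec.map_id]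
  let π : Γ(M, U) →ₐ[k] k :=
    { π₀.hom with
      commutes' := fun c => by
        have := congrArg (fun f : CommRingCat.of k ⟶ CommRingCat.of k => f.hom c) hβπ
        exact this }
  refine ⟨Γ(M, U), inferInstance, inferInstance, inferInstance, π, j, inferInstance, ?_, ?_, ?_⟩
  · rw [← hβ]
    rfl
  · have : CommRingCat.ofHom π.toRingHom = π₀ := rfl
    rw [this, hπ₀, hp]
  · intro A _ _ g r hr hg
    haveI : IsLocalHom r := hr.isLocalHom
    haveI : IsLocalHom (CommRingCat.ofHom r).hom := ‹IsLocalHom r›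
    rw [hjr]
    have h1 : g (IsLocalRing.closedPoint A) ∈ U := by
      have h2 : (Spec.map (CommRingCat.ofHom r) ≫ g) (IsLocalRing.closedPoint k) =
          x₀ (IsLocalRing.closedPoint k) := by rw [hg]
      rw [Scheme.Hom.comp_apply, Spec_closedPoint] at h2
      rw [h2]
      exact hxU
    have h3 := Scheme.preimage_eq_top_of_closedPoint_mem g h1
    rintro _ ⟨y, rfl⟩
    have : y ∈ g ⁻¹ᵁ U := by rw [h3]; trivial
    exact this

end Data

section Main

variable {k : Type u} [Field k] (M : Scheme.{u}) (m : M ⟶ Spec (CommRingCat.of k))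

/-- pointed `k`-morphisms `Spec A ⟶ M` through an affine open chart `j : Spec B ⟶ M` -/
noncomputable def chartEquiv (B : Type u) [CommRing B] [Algebra k B] (π : B →ₐ[k] k)
    (j : Spec (CommRingCat.of B) ⟶ M) [IsOpenImmersion j]
    (hjm : j ≫ m = Spec.map (CommRingCat.ofHom (algebraMap k B)))
    (x₀ : Spec (CommRingCat.of k) ⟶ M)
    (hπj : Spec.map (CommRingCat.ofHom π.toRingHom) ≫ j = x₀)
    (A : Art k k)
    (hrange : ∀ (g : Art.spec A ⟶ M), Art.specRes A ≫ g = x₀ → Set.range g ⊆ Set.range j) :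
    {φ : B →ₐ[k] A // A.res.comp φ = π} ≃
      {g : Art.spec A ⟶ M // g ≫ m = Art.specMap (Art.ofBase A) ∧ Art.specRes A ≫ g = x₀} where
  toFun φ := ⟨Spec.map (CommRingCat.ofHom φ.1.toRingHom) ≫ j, by
    constructor
    · rw [Category.assoc, hjm, ← Spec.map_comp, ← CommRingCat.ofHom_comp]
      congr 2
      apply RingHom.ext
      intro c
      exact φ.1.commutes c
    · rw [← Category.assoc, ← hπj]
      congr 1
      change Spec.map _ ≫ Spec.map _ = Spec.map _
      rw [← Spec.map_comp, ← CommRingCat.ofHom_comp]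
      congr 2
      exact congrArg AlgHom.toRingHom φ.2⟩
  invFun g :=
    let ψ : CommRingCat.of B ⟶ CommRingCat.of A :=
      Spec.preimage (IsOpenImmersion.lift j g.1 (hrange g.1 g.2.2))
    have hψ : Spec.map ψ ≫ j = g.1 := by
      rw [Spec.map_preimage]
      exact IsOpenImmersion.lift_fac _ _ _
    have hc : CommRingCat.ofHom (algebraMap k B) ≫ ψ = CommRingCat.ofHom (algebraMap k A) := by
      apply Spec.map_injective
      rw [Spec.map_comp, ← hjm, ← Category.assoc, hψ, g.2.1]
      rfl
    ⟨{ ψ.hom with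
        commutes' := fun c => congrArg (fun f : CommRingCat.of k ⟶ CommRingCat.of A => f.hom c) hc }, by
      have h1 : ψ ≫ CommRingCat.ofHom A.res.toRingHom = CommRingCat.ofHom π.toRingHom := by
        apply Spec.map_injective
        rw [← cancel_mono j, Spec.map_comp, Category.assoc, hψ, hπj]
        exact g.2.2
      apply AlgHom.ext
      intro b
      exact congrArg (fun f : CommRingCat.of B ⟶ CommRingCat.of k => f.hom b) h1⟩
  left_inv φ := by
    apply Subtype.ext
    apply AlgHom.ext
    intro b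
    have h1 : Spec.preimage (IsOpenImmersion.lift j (Spec.map (CommRingCat.ofHom φ.1.toRingHom) ≫ j)
        (hrange _ (by
          rw [← Category.assoc, ← hπj]
          congr 1
          change Spec.map _ ≫ Spec.map _ = Spec.map _
          rw [← Spec.map_comp, ← CommRingCat.ofHom_comp]
          congr 2
          exact congrArg AlgHom.toRingHom φ.2))) = CommRingCat.ofHom φ.1.toRingHom := by
      apply Spec.map_injective
      rw [Spec.map_preimage]
      exact (IsOpenImmersion.lift_uniq _ _ _ _ rfl).symm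
    exact congrArg (fun f : CommRingCat.of B ⟶ CommRingCat.of A => f.hom b) h1
  right_inv g := by
    apply Subtype.ext
    change Spec.map (CommRingCat.ofHom _) ≫ j = g.1
    have : Spec.map (Spec.preimage (IsOpenImmersion.lift j g.1 (hrange g.1 g.2.2))) ≫ j = g.1 := by
      rw [Spec.map_preimage]
      exact IsOpenImmersion.lift_fac _ _ _
    exact this

variable [IsLocallyNoetherian M] (x₀ : Spec (CommRingCat.of k) ⟶ M) (hx₀ : x₀ ≫ m = 𝟙 _)

include hx₀ in
theorem exists_cring_homSet_equiv_pointed_maps :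
    ∃ (R : CRing k k)
      (e : ∀ A : Art k k, HomSet R.carrier R.res A ≃
        {g : Art.spec A ⟶ M // g ≫ m = Art.specMap (Art.ofBase A) ∧ Art.specRes A ≫ g = x₀}),
      ∀ (A B : Art k k) (h : A ⟶ B) (φ : HomSet R.carrier R.res A),
        ((e B) (HomSet.map h φ)).1 = Art.specMap h ≫ ((e A) φ).1 := by
  obtain ⟨B, _, _, _, π, j, hj, hjm, hπj, hrange⟩ := exists_affine_nbhd_data M m x₀ hx₀
  have hπ : Function.Surjective π := fun c => ⟨algebraMap k B c, π.commutes c⟩
  have hr : ∀ (A : Art k k) (g : Art.spec A ⟶ M), Art.specRes A ≫ g = x₀ →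
      Set.range g ⊆ Set.range j := fun A g hg =>
    hrange A g A.res.toRingHom A.res_surjective hg
  refine ⟨complCRing B π hπ, fun A => (complHomSetEquiv B π hπ A).trans
    (chartEquiv M m B π j hjm x₀ hπj A (hr A)), ?_⟩
  intro A A' h φ
  change Spec.map (CommRingCat.ofHom
      ((complHomSetEquiv B π hπ A') (HomSet.map h φ)).1.toRingHom) ≫ j =
    Spec.map (CommRingCat.ofHom h.toAlgHom.toRingHom) ≫
      Spec.map (CommRingCat.ofHom ((complHomSetEquiv B π hπ A) φ).1.toRingHom) ≫ j
  rw [← Category.assoc, ← Spec.map_comp, ← CommRingCat.ofHom_comp]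
  rfl

end Main

end Groth.Agent.Lib.Helper1.ArtFunLib
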