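import Mathlib
import Groth.Prelude.Def_ArtFun3
import Groth.Agent.Lib.Helper1.ArtFunDef
import Groth.Agent.Lib.Helper1.ArtFunFibre
import Groth.Agent.Lib.Helper1.ArtFunAction
import Groth.Agent.Lib.Helper1.ArtFunObsDim

/-!
# Fibres of `F(B) → F(A)` over a semismall extension (helper1)

For a functor `F` on local Artinian `k`-algebras with `F(k)` a point and bijective comparison maps
for fibre products along surjections (`RS`), every non-empty fibre of `F(B) → F(A)` over an
extension `0 → J → B → A → 0` with `𝔪_B J = 0` is in bijection with `F(k ⊕ J) ≅ t_F^{dim J}`.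

* `deltaV`: the map `B ×_A B → k ⊕ V`, `z ↦ (res z, e (p₂ z - p₁ z))`, for `e : J ≃ₗ[k] V`;
* `isFibreProd_deltaV`: `B ×_A B = B ×_k (k ⊕ V)`;
* `nonempty_fibre_equiv_tsze`, `nonempty_tsze_fin`, `nonempty_fibre_equiv_fin`,
  `nonempty_fibre_equiv_tensor`.
-/
universe u v w
open CategoryTheory TensorProduct

namespace Groth.Agent.Lib.Helper1.ArtFunLib

open ArtFun ArtFun.Art

variable {k : Type u} [Field k]

section DeltaV

variable {P B A : Art k k} {p : B ⟶ A} {p₁ p₂ : P ⟶ B}

/-- the difference `p₂ z - p₁ z` as an element of the kernel -/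
def dif (hP : IsFibreProd p₁ p₂ p p) (z : P) : ↥(RingHom.ker p.toAlgHom) :=
  ⟨p₂ z - p₁ z, sub_mem_ker hP z⟩

lemma dif_val (hP : IsFibreProd p₁ p₂ p p) (z : P) : (dif hP z : B) = p₂ z - p₁ z := rfl

lemma dif_of_eq (hP : IsFibreProd p₁ p₂ p p) (z : P) (h : p₂ z = p₁ z) : dif hP z = 0 :=
  Subtype.ext (sub_eq_zero.2 h)

lemma dif_one (hP : IsFibreProd p₁ p₂ p p) : dif hP 1 = 0 :=
  dif_of_eq hP 1 ((map_one p₂.toAlgHom).trans (map_one p₁.toAlgHom).symm)

lemma dif_zero (hP : IsFibreProd p₁ p₂ p p) : dif hP 0 = 0 :=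
  dif_of_eq hP 0 ((map_zero p₂.toAlgHom).trans (map_zero p₁.toAlgHom).symm)

lemma dif_algebraMap (hP : IsFibreProd p₁ p₂ p p) (r : k) : dif hP (algebraMap k P r) = 0 :=
  dif_of_eq hP _ ((p₂.toAlgHom.commutes r).trans (p₁.toAlgHom.commutes r).symm)

lemma dif_add (hP : IsFibreProd p₁ p₂ p p) (z w : P) : dif hP (z + w) = dif hP z + dif hP w := by
  apply Subtype.ext
  change p₂ (z + w) - p₁ (z + w) = (p₂ z - p₁ z) + (p₂ w - p₁ w)
  rw [show p₂ (z + w) = p₂ z + p₂ w from map_add p₂.toAlgHom z w,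
    show p₁ (z + w) = p₁ z + p₁ w from map_add p₁.toAlgHom z w]
  ring

lemma dif_mul (hp : IsSemismallExt p) (hP : IsFibreProd p₁ p₂ p p) (z w : P) :
    dif hP (z * w) = P.res z • dif hP w + P.res w • dif hP z := by
  apply Subtype.ext
  have h1 : p₂ z * (p₂ w - p₁ w) = P.res z • (p₂ w - p₁ w) := by
    rw [mul_eq_res_smul_of_mem_ker p hp (p₂ z) _ (sub_mem_ker hP w), res_app]
  have h2 : p₁ w * (p₂ z - p₁ z) = P.res w • (p₂ z - p₁ z) := by
    rw [mul_eq_res_smul_of_mem_ker p hp (p₁ w) _ (sub_mem_ker hP z), res_app]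
  change p₂ (z * w) - p₁ (z * w) = P.res z • (p₂ w - p₁ w) + P.res w • (p₂ z - p₁ z)
  rw [← h1, ← h2, show p₂ (z * w) = p₂ z * p₂ w from map_mul p₂.toAlgHom z w,
    show p₁ (z * w) = p₁ z * p₁ w from map_mul p₁.toAlgHom z w]
  ring

variable {V : Type u} [AddCommGroup V] [Module k V] [Module kᵐᵒᵖ V] [SMulCommClass k kᵐᵒᵖ V]
  [IsCentralScalar k V] [Module.Finite k V] [IsScalarTower k kᵐᵒᵖ V]

/-- the map `B ×_A B → k ⊕ V`, `z ↦ (res z, e (p₂ z - p₁ z))` -/
noncomputable def deltaV (hp : IsSemismallExt p) (hP : IsFibreProd p₁ p₂ p p)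
    (e : ↥(RingHom.ker p.toAlgHom) ≃ₗ[k] V) : P ⟶ tszeObj k k V := by
  refine ⟨{ toFun := fun z => (P.res z, e (dif hP z))
            map_one' := ?_
            map_mul' := ?_
            map_zero' := ?_
            map_add' := ?_
            commutes' := ?_ }, ?_⟩
  · apply TrivSqZeroExt.ext
    · exact map_one P.res
    · change e (dif hP 1) = 0
      rw [dif_one, map_zero]
  · intro z w
    apply TrivSqZeroExt.ext
    · exact map_mul P.res z w
    · change e (dif hP (z * w)) = P.res z • e (dif hP w) + MulOpposite.op (P.res w) • e (dif hP z)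
      rw [dif_mul hp hP, map_add, map_smul, map_smul, op_smul_eq_smul]
  · apply TrivSqZeroExt.ext
    · exact map_zero P.res
    · change e (dif hP 0) = 0
      rw [dif_zero, map_zero]
  · intro z w
    apply TrivSqZeroExt.ext
    · exact map_add P.res z w
    · change e (dif hP (z + w)) = e (dif hP z) + e (dif hP w)
      rw [dif_add, map_add]
  · intro r
    apply TrivSqZeroExt.ext
    · change P.res (algebraMap k P r) = (algebraMap k (TrivSqZeroExt k V) r).fst
      rw [AlgHom.commutes, TrivSqZeroExt.algebraMap_eq_inl']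
      rfl
    · change e (dif hP (algebraMap k P r)) = (algebraMap k (TrivSqZeroExt k V) r).snd
      rw [dif_algebraMap, map_zero, TrivSqZeroExt.algebraMap_eq_inl']
      rfl
  · apply AlgHom.ext
    intro z
    rfl

lemma deltaV_fst (hp : IsSemismallExt p) (hP : IsFibreProd p₁ p₂ p p)
    (e : ↥(RingHom.ker p.toAlgHom) ≃ₗ[k] V) (z : P) : (deltaV hp hP e z).fst = P.res z := rfl

lemma deltaV_snd (hp : IsSemismallExt p) (hP : IsFibreProd p₁ p₂ p p)
    (e : ↥(RingHom.ker p.toAlgHom) ≃ₗ[k] V) (z : P) : (deltaV hp hP e z).snd = e (dif hP z) := rfl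

/-- `B ×_A B` is also `B ×_k (k ⊕ V)` -/
theorem isFibreProd_deltaV (hp : IsSemismallExt p) (hP : IsFibreProd p₁ p₂ p p)
    (e : ↥(RingHom.ker p.toAlgHom) ≃ₗ[k] V) :
    IsFibreProd p₁ (deltaV hp hP e) (toBase B) (toBase (tszeObj k k V)) where
  w := by rw [eq_toBase (p₁ ≫ toBase _), eq_toBase (deltaV hp hP e ≫ toBase _)]
  inj z w h1 h2 := by
    apply hP.inj z w h1
    have h3 : e (dif hP z) = e (dif hP w) := by
      rw [← deltaV_snd hp hP e z, ← deltaV_snd hp hP e w, h2]
    have h4 : (dif hP z : B) = dif hP w := congrArg Subtype.val (e.injective h3)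
    rw [dif_val, dif_val, h1] at h4
    exact sub_left_injective h4
  surj b v he := by
    have hj : p b = p (b + (e.symm v.snd : B)) := by
      rw [show p (b + (e.symm v.snd : B)) = p b + p (e.symm v.snd : B) from
        map_add p.toAlgHom _ _]
      have h0 : p (e.symm v.snd : B) = 0 := (e.symm v.snd).2
      rw [h0, add_zero]
    obtain ⟨z, hz1, hz2⟩ := hP.surj b (b + (e.symm v.snd : B)) hj
    refine ⟨z, hz1, ?_⟩
    apply TrivSqZeroExt.ext
    · rw [deltaV_fst, ← res_app p₁, hz1]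
      exact he
    · rw [deltaV_snd]
      have h5 : dif hP z = e.symm v.snd := Subtype.ext (by rw [dif_val, hz1, hz2]; ring)
      rw [h5, e.apply_symm_apply]

end DeltaV

section Fibre

variable {F : Art k k ⥤ Type v}
variable {V W : Type u}
  [AddCommGroup V] [Module k V] [Module kᵐᵒᵖ V] [SMulCommClass k kᵐᵒᵖ V]
  [IsCentralScalar k V] [Module.Finite k V] [IsScalarTower k kᵐᵒᵖ V]
  [AddCommGroup W] [Module k W] [Module kᵐᵒᵖ W] [SMulCommClass k kᵐᵒᵖ W]
  [IsCentralScalar k W] [Module.Finite k W] [IsScalarTower k kᵐᵒᵖ W]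

/-- a non-empty fibre over a semismall extension with kernel `J ≅ V` is in bijection with
`F(k ⊕ V)` -/
theorem nonempty_fibre_equiv_tsze (h0 : H0 F) (hrs : RS F) {B A : Art k k} (p : B ⟶ A)
    (hp : IsSemismallExt p) (y : F.obj B) (e : ↥(RingHom.ker p.toAlgHom) ≃ₗ[k] V) :
    Nonempty ({y' : F.obj B // F.map p y' = F.map p y} ≃ F.obj (tszeObj k k V)) := by
  obtain ⟨P, p₁, p₂, hP⟩ := exists_isFibreProd_of_surjective p p hp.1
  have hD := isFibreProd_deltaV hp hP e
  have bP := hrs p₁ p₂ p p hP hp.1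
  have bD := hrs p₁ (deltaV hp hP e) (toBase B) (toBase (tszeObj k k V)) hD
    (tszeObj k k V).res_surjective
  have hex : ∀ y' : {y' : F.obj B // F.map p y' = F.map p y},
      ∃ w : F.obj P, F.map p₁ w = y ∧ F.map p₂ w = y'.1 :=
    fun y' => (cmp_surjective_iff F hP).1 bP.2 y y'.1 y'.2.symm
  choose W' hW1 hW2 using hex
  refine ⟨Equiv.ofBijective (fun y' => F.map (deltaV hp hP e) (W' y')) ⟨?_, ?_⟩⟩
  · intro a b hab
    have hw : W' a = W' b :=
      (cmp_injective_iff F hD).1 bD.1 _ _ ((hW1 a).trans (hW1 b).symm) hab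
    apply Subtype.ext
    rw [← hW2 a, ← hW2 b, hw]
  · intro θ
    obtain ⟨w, hw1, hw2⟩ := (cmp_surjective_iff F hD).1 bD.2 y θ (@Subsingleton.elim _ h0.2 _ _)
    have hy' : F.map p (F.map p₂ w) = F.map p y := by
      rw [← F.map_comp_apply, ← hP.w, F.map_comp_apply, hw1]
    refine ⟨⟨F.map p₂ w, hy'⟩, ?_⟩
    have h3 : W' ⟨F.map p₂ w, hy'⟩ = w :=
      (cmp_injective_iff F hP).1 bP.1 _ _ ((hW1 _).trans hw1.symm) (hW2 _)
    change F.map (deltaV hp hP e) (W' ⟨F.map p₂ w, hy'⟩) = θ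
    rw [h3, hw2]

/-- transport along a linear equivalence -/
def tszeCongr (F : Art k k ⥤ Type v) (f : V ≃ₗ[k] W) :
    F.obj (tszeObj k k V) ≃ F.obj (tszeObj k k W) where
  toFun := F.map (tszeHom (f : V →ₗ[k] W))
  invFun := F.map (tszeHom (f.symm : W →ₗ[k] V))
  left_inv x := by
    have h1 : (f.symm : W →ₗ[k] V) ∘ₗ (f : V →ₗ[k] W) = LinearMap.id :=
      LinearMap.ext fun v => f.symm_apply_apply v
    rw [← F.map_comp_apply, tszeHom_comp, h1, tszeHom_id, F.map_id_apply]
  right_inv x := by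
    have h1 : (f : V →ₗ[k] W) ∘ₗ (f.symm : W →ₗ[k] V) = LinearMap.id :=
      LinearMap.ext fun v => f.apply_symm_apply v
    rw [← F.map_comp_apply, tszeHom_comp, h1, tszeHom_id, F.map_id_apply]

/-- `F(k ⊕ (V × W)) = F(k ⊕ V) × F(k ⊕ W)` -/
theorem nonempty_tsze_prod (h0 : H0 F) (hrs : RS F) :
    Nonempty (F.obj (tszeObj k k (V × W)) ≃ F.obj (tszeObj k k V) × F.obj (tszeObj k k W)) := by
  have hT := isFibreProd_tsze (Λ := k) (k := k) (V := V) (W := W)
  have b := hrs _ _ _ _ hT (tszeObj k k W).res_surjective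
  exact ⟨(Equiv.ofBijective _ b).trans
    (Equiv.subtypeUnivEquiv (fun x => @Subsingleton.elim _ h0.2 _ _))⟩

/-- `F(k ⊕ kⁿ) = t_Fⁿ` -/
theorem nonempty_tsze_fin (h0 : H0 F) (hrs : RS F) (n : ℕ) :
    Nonempty (F.obj (tszeObj k k (Fin n → k)) ≃ (Fin n → F.obj (dual k k))) := by
  induction n with
  | zero =>
    have hid : tszeHom (Λ := k) (0 : (Fin 0 → k) →ₗ[k] (Fin 0 → k)) = 𝟙 _ := by
      rw [← tszeHom_id]
      congr 1
      exact LinearMap.ext fun v => Subsingleton.elim _ _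
    have h1 : ∀ c : F.obj (tszeObj k k (Fin 0 → k)),
        c = F.map (baseToTsze k k (Fin 0 → k)) (F.map (toBase _) c) := by
      intro c
      rw [← F.map_comp_apply, ← tszeHom_zero, hid, F.map_id_apply]
    have hsub : ∀ a b : F.obj (tszeObj k k (Fin 0 → k)), a = b := by
      intro a b
      exact (h1 a).trans ((congrArg (F.map (baseToTsze k k (Fin 0 → k)))
        (@Subsingleton.elim _ h0.2 _ _)).trans (h1 b).symm)
    exact ⟨{ toFun := fun _ i => i.elim0
             invFun := fun _ => F.map (baseToTsze k k (Fin 0 → k)) h0.1.some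
             left_inv := fun a => hsub _ _
             right_inv := fun f => funext fun i => i.elim0 }⟩
  | succ n ih =>
    obtain ⟨e1⟩ := ih
    obtain ⟨e2⟩ := nonempty_tsze_prod (F := F) (V := k) (W := Fin n → k) h0 hrs
    let ce : (k × (Fin n → k)) ≃ₗ[k] (Fin (n + 1) → k) :=
      Fin.consLinearEquiv k (fun _ : Fin (n + 1) => k)
    let e0 : F.obj (tszeObj k k (Fin (n + 1) → k)) ≃ F.obj (tszeObj k k (k × (Fin n → k))) :=
      tszeCongr F ce.symm
    let e3 : F.obj (dual k k) × (Fin n → F.obj (dual k k)) ≃ (Fin (n + 1) → F.obj (dual k k)) :=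
      Fin.consEquiv (fun _ : Fin (n + 1) => F.obj (dual k k))
    exact ⟨e0.trans (e2.trans ((Equiv.prodCongr (Equiv.refl _) e1).trans e3))⟩

/-- the kernel of a map of local Artinian `k`-algebras is finite-dimensional -/
theorem finite_ker {B A : Art k k} (p : B ⟶ A) : Module.Finite k ↥(RingHom.ker p.toAlgHom) := by
  have hfl : IsFiniteLength k B := isFiniteLength_obj B
  haveI : IsNoetherian k B := (isFiniteLength_iff_isNoetherian_isArtinian.1 hfl).1
  exact Module.Finite.of_injective ((RingHom.ker p.toAlgHom).subtype.restrictScalars k)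
    Subtype.val_injective

/-- a non-empty fibre over a semismall extension with kernel `J` is in bijection with
`t_F^{dim J}` -/
theorem nonempty_fibre_equiv_fin (h0 : H0 F) (hrs : RS F) {B A : Art k k} (p : B ⟶ A)
    (hp : IsSemismallExt p) (y : F.obj B) :
    haveI := finite_ker p
    Nonempty ({y' : F.obj B // F.map p y' = F.map p y} ≃
      (Fin (Module.finrank k ↥(RingHom.ker p.toAlgHom)) → F.obj (dual k k))) := by
  haveI := finite_ker p
  obtain ⟨e1⟩ := nonempty_fibre_equiv_tsze h0 hrs p hp y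
    (Module.finBasis k ↥(RingHom.ker p.toAlgHom)).equivFun
  obtain ⟨e2⟩ := nonempty_tsze_fin (F := F) h0 hrs (Module.finrank k ↥(RingHom.ker p.toAlgHom))
  exact ⟨e1.trans e2⟩

/-- a non-empty fibre over a semismall extension with kernel `J` is in bijection with
`H ⊗ J` for any vector space `H` in bijection with `t_F` -/
theorem nonempty_fibre_equiv_tensor (h0 : H0 F) (hrs : RS F) {B A : Art k k} (p : B ⟶ A)
    (hp : IsSemismallExt p) (y : F.obj B) {H : Type w} [AddCommGroup H] [Module k H]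
    (eT : F.obj (dual k k) ≃ H) :
    Nonempty ({y' : F.obj B // F.map p y' = F.map p y} ≃
      H ⊗[k] ↥(RingHom.ker p.toAlgHom)) := by
  haveI := finite_ker p
  obtain ⟨e1⟩ := nonempty_fibre_equiv_fin h0 hrs p hp y
  let b := Module.finBasis k ↥(RingHom.ker p.toAlgHom)
  let e2 : (Fin (Module.finrank k ↥(RingHom.ker p.toAlgHom)) → F.obj (dual k k)) ≃
      (Fin (Module.finrank k ↥(RingHom.ker p.toAlgHom)) → H) := Equiv.piCongrRight fun _ => eT
  let e3 : H ⊗[k] (Fin (Module.finrank k ↥(RingHom.ker p.toAlgHom)) → k) ≃ₗ[k]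
      (Fin (Module.finrank k ↥(RingHom.ker p.toAlgHom)) → H) :=
    TensorProduct.piScalarRight k k H _
  let e4 : H ⊗[k] ↥(RingHom.ker p.toAlgHom) ≃ₗ[k]
      H ⊗[k] (Fin (Module.finrank k ↥(RingHom.ker p.toAlgHom)) → k) :=
    TensorProduct.congr (LinearEquiv.refl k H) b.equivFun
  exact ⟨e1.trans (e2.trans (e3.symm.toEquiv.trans e4.symm.toEquiv))⟩

end Fibre

end Groth.Agent.Lib.Helper1.ArtFunLib
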