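import Mathlib
import Groth.Prelude.Def_ArtFun5
import Groth.Agent.Lib.Helper11.Henselian
import Groth.Agent.Lib.Helper1.ArtFunSchless
import Groth.Agent.Lib.Helper1.ArtFunObsPS
import Groth.Agent.Lib.Helper1.ArtFunObsProrep
import Groth.Agent.Lib.Helper1.ArtFunDualSmall

/-!
# Versal semismall prolongations (SGA 7 VI)
-/
universe u v
open CategoryTheory

namespace Groth.Agent.Lib.Helper1.ArtFunLib

open ArtFun ArtFun.Art

variable {Λ : Type u} {k : Type u} [CommRing Λ] [Field k] [Algebra Λ k]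

/-- an object of `Art` as a coefficient ring -/
noncomputable def artCRing (A : Art Λ k) : CRing Λ k where
  carrier := A
  isNoetherianRing := inferInstance
  res := A.res
  res_surjective := A.res_surjective
  isAdicComplete := by
    obtain ⟨n, hn⟩ := exists_maximalIdeal_pow_eq_bot A
    exact Groth.Agent.Lib.Helper11.isAdicComplete_of_pow_eq_bot _ n hn

section Adjust

variable [IsNoetherianRing Λ] [Module.Finite Λ k]
variable {R : Type u} [CommRing R] [Algebra Λ R] {resR : R →ₐ[Λ] k} {F : Art Λ k ⥤ Type v}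

/-- adjusting a lift along a small extension by a tangent vector -/
theorem exists_adjust_lift (h0 : H0 F) (h1 : Hbar F) (h2 : Heps F) (ξ : Family R resR F)
    (hd : Function.Surjective (TangentSpace.ofFamily ξ))
    {B A : Art Λ k} (μ : B ⟶ A) (hμ : IsSmallExt μ)
    (φ : HomSet R resR A) (y : F.obj B) (e : F.map μ y = ξ.app A φ)
    (ψ : HomSet R resR B) (hψ : HomSet.map μ ψ = φ) :
    ∃ ψ' : HomSet R resR B, HomSet.map μ ψ' = φ ∧ ξ.app B ψ' = y := by
  obtain ⟨P, π₁, π₂, hP⟩ := exists_isFibreProd_of_surjective μ μ hμ.1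
  obtain ⟨t, ht⟩ := exists_generator hμ
  have h' := isFibreProd_deltaHom hμ ht hP
  have e' : F.map μ (ξ.app B ψ) = F.map μ y := by rw [← ξ.natural, hψ, e]
  obtain ⟨θ, hθ⟩ := act_transitive h0 h2 h1 hμ hP h' (ξ.app B ψ) y e'
  obtain ⟨τ, hτ⟩ := hd θ
  have hτ' : ξ.app (dual Λ k) τ = θ := hτ
  have hcompat : HomSet.map (toBase B) ψ = HomSet.map (toBase (dual Λ k)) τ := Subsingleton.elim _ _
  set χ := fpLift h' ψ τ hcompat with hχdef
  have hχ : ξ.app P χ = actElt h0 h2 h' (ξ.app B ψ) θ := by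
    apply (h2 π₁ _ h').1
    apply FibProd.ext
    · change F.map π₁ (ξ.app P χ) = F.map π₁ (actElt h0 h2 h' (ξ.app B ψ) θ)
      rw [← ξ.natural, fpLift_fst, actElt_fst]
    · change F.map (deltaHom hμ ht hP) (ξ.app P χ) = F.map (deltaHom hμ ht hP) (actElt h0 h2 h' (ξ.app B ψ) θ)
      rw [← ξ.natural, fpLift_snd, actElt_snd, hτ']
  refine ⟨HomSet.map π₂ χ, ?_, ?_⟩
  · rw [← homSet_map_comp, ← hP.w, homSet_map_comp, fpLift_fst, hψ]
  · rw [ξ.natural, hχ, hθ]

end Adjust

section Yoneda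

variable {F : Art Λ k ⥤ Type v}

/-- the family over an object of `Art` attached to an element -/
def familyOfArtElt (R : Art Λ k) (a : F.obj R) : Family R.carrier R.res F where
  app A φ := F.map (⟨φ.1, φ.2⟩ : R ⟶ A) a
  natural {A B} f φ := by
    change F.map (⟨(HomSet.map f φ).1, (HomSet.map f φ).2⟩ : R ⟶ B) a = F.map f (F.map (⟨φ.1, φ.2⟩ : R ⟶ A) a)
    rw [← F.map_comp_apply]
    rfl

lemma familyOfArtElt_app (R : Art Λ k) (a : F.obj R) {A : Art Λ k} (f : R ⟶ A) :
    (familyOfArtElt R a).app A ⟨f.toAlgHom, f.res_comp⟩ = F.map f a := rfl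

end Yoneda

section StrongStep

variable {S : CRing Λ k} {F : Art Λ k ⥤ Type v}

theorem exists_isStep_strong (h1 : S1 F) (T : Stage S F) :
    ∃ T' : Stage S F, IsStep T T' ∧ IsLocalRing.maximalIdeal S.carrier * T.ker ≤ T'.ker := by
  set I := T.ker with hI
  have hIm : I ≤ IsLocalRing.maximalIdeal S.carrier := ker_le_maximalIdeal_homSet S T.σ
  obtain ⟨N, hN⟩ := exists_pow_le_ker S T.σ
  set K := IsLocalRing.maximalIdeal S.carrier * I with hK
  have hKm : K ≤ IsLocalRing.maximalIdeal S.carrier := Ideal.mul_le_left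
  have hKI : K ≤ I := Ideal.mul_le_right
  have hKN : IsLocalRing.maximalIdeal S.carrier ^ (N + 1) ≤ K := by
    rw [pow_succ']
    exact Ideal.mul_mono_right hN
  set B := quotArt S K hKm (N + 1) hKN with hB
  set β := quotArtHom S K hKm (N + 1) hKN with hβ
  have hβs : Function.Surjective β.1 := quotArtHom_surjective S K hKm (N + 1) hKN
  have hβ0 : ∀ s, β.1 s = 0 ↔ s ∈ K := quotArtHom_eq_zero_iff S K hKm (N + 1) hKN
  set p : B ⟶ T.A := quotArtFactor S K hKm (N + 1) hKN T.σ hKI with hp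
  have hpβ : HomSet.map p β = T.σ := quotArtFactor_comp S K hKm (N + 1) hKN T.σ hKI
  have hpβ' : ∀ s, p (β.1 s) = T.σ.1 s := fun s => congrArg (fun m : HomSet S.carrier S.res T.A => m.1 s) hpβ
  have hps : Function.Surjective p := by
    intro a
    obtain ⟨s, rfl⟩ := T.surj a
    exact ⟨β.1 s, hpβ' s⟩
  have hsemi : IsSemismallExt p := by
    refine ⟨hps, ?_⟩
    rw [← le_bot_iff]
    apply Ideal.mul_le.2
    intro b hb c hc
    obtain ⟨s, rfl⟩ := hβs b
    obtain ⟨s', rfl⟩ := hβs c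
    have hs : s ∈ IsLocalRing.maximalIdeal S.carrier := (homSet_mem_maximalIdeal_iff S β s).1 hb
    have hs' : s' ∈ I := by
      rw [hI, Stage.mem_ker, ← hpβ']
      exact RingHom.mem_ker.1 hc
    have : β.1 (s * s') = 0 := (hβ0 _).2 (Ideal.mul_mem_mul hs hs')
    rw [map_mul] at this
    rw [this]
    exact Ideal.zero_mem _
  obtain ⟨J₀, ⟨hJ₀1, hJ₀2, y, hy⟩, hleast⟩ := exists_least_liftsTo h1 hsemi T.x
  refine ⟨{ A := quot B J₀ hJ₀2
            σ := HomSet.map (quotMk B J₀ hJ₀2) β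
            surj := (quotMk_surjective B J₀ hJ₀2).comp hβs
            x := y }, ⟨?_, ?_⟩, ?_⟩
  · refine ⟨quotFactor hJ₀2 p hJ₀1, ?_, hy⟩
    change HomSet.map (quotFactor hJ₀2 p hJ₀1) (HomSet.map (quotMk B J₀ hJ₀2) β) = T.σ
    rw [← homSet_map_comp, quotMk_quotFactor, hpβ]
  · intro C τ p' hτs hp'τ hsemi' ⟨z, hz⟩
    have hp'τ' : ∀ s, p' (τ.1 s) = T.σ.1 s :=
      fun s => congrArg (fun m : HomSet S.carrier S.res T.A => m.1 s) hp'τ
    have hKτ : K ≤ RingHom.ker τ.1 := by
      rw [hK]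
      apply Ideal.mul_le.2
      intro s hs s' hs'
      rw [RingHom.mem_ker, map_mul]
      have h1' : τ.1 s ∈ IsLocalRing.maximalIdeal C := (homSet_mem_maximalIdeal_iff S τ s).2 hs
      have h2' : τ.1 s' ∈ RingHom.ker p'.toAlgHom := by
        rw [RingHom.mem_ker]
        change p' (τ.1 s') = 0
        rw [hp'τ']
        exact (T.mem_ker s').1 hs'
      have h3' := Ideal.mul_mem_mul h1' h2'
      rw [hsemi'] at h3'
      exact h3'
    set τb : B ⟶ C := quotArtFactor S K hKm (N + 1) hKN τ hKτ with hτb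
    have hτbβ : HomSet.map τb β = τ := quotArtFactor_comp S K hKm (N + 1) hKN τ hKτ
    have hτbβ' : ∀ s, τb (β.1 s) = τ.1 s :=
      fun s => congrArg (fun m : HomSet S.carrier S.res C => m.1 s) hτbβ
    have hτbs : Function.Surjective τb := by
      intro c
      obtain ⟨s, rfl⟩ := hτs c
      exact ⟨β.1 s, hτbβ' s⟩
    have hcomp : τb ≫ p' = p := by
      apply hom_ext_of_homSet_surjective β hβs
      rw [homSet_map_comp, hτbβ, hp'τ, hpβ]
    set J := RingHom.ker τb.toAlgHom with hJ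
    have hJm : J ≤ IsLocalRing.maximalIdeal B := ker_le_maximalIdeal τb
    have hJp : J ≤ RingHom.ker p.toAlgHom := by
      intro b hb
      rw [RingHom.mem_ker] at hb ⊢
      change p b = 0
      rw [← hcomp]
      change p' (τb b) = 0
      have : τb b = 0 := hb
      rw [this]
      exact map_zero p'.toAlgHom
    have hbij := bijective_quotFactor_ker τb hτbs
    haveI := isIso_of_bijective _ hbij
    have hlift : LiftsTo p T.x J := by
      refine ⟨hJp, hJm, F.map (inv (quotFactor hJm τb le_rfl)) z, ?_⟩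
      have e : quotFactor hJm p hJp = quotFactor hJm τb le_rfl ≫ p' := by
        apply hom_ext_of_surjective (quotMk B J hJm) (quotMk_surjective B J hJm)
        rw [quotMk_quotFactor, ← Category.assoc, quotMk_quotFactor, hcomp]
      rw [e, ← F.map_comp_apply, IsIso.inv_hom_id_assoc, hz]
    have hJ₀J : J₀ ≤ J := hleast J hlift
    intro s hs
    have h1' : quotMk B J₀ hJ₀2 (β.1 s) = 0 := hs
    have h2' : β.1 s ∈ J₀ := (quotMk_eq_zero_iff B J₀ hJ₀2 _).1 h1'
    have h3' : β.1 s ∈ J := hJ₀J h2'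
    rw [RingHom.mem_ker, ← hτbβ']
    exact h3'
  · intro s hs
    change s ∈ RingHom.ker (HomSet.map (quotMk B J₀ hJ₀2) β).1
    rw [RingHom.mem_ker]
    change quotMk B J₀ hJ₀2 (β.1 s) = 0
    rw [(hβ0 s).2 hs]
    exact map_zero (quotMk B J₀ hJ₀2).toAlgHom

end StrongStep

end Groth.Agent.Lib.Helper1.ArtFunLib
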