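import Mathlib
import Groth.Prelude.Def_ArtFun5
import Groth.Agent.Lib.Helper1.ArtFunSemismall

/-!
# Versal semismall prolongations: main theorem (SGA 7 VI)
-/

universe u v
open CategoryTheory

namespace Groth.Agent.Lib.Helper1.ArtFunLib

open ArtFun ArtFun.Art MvPowerSeries

variable {Λ : Type u} {k : Type u} [CommRing Λ] [Field k] [Algebra Λ k]

section Aux

variable (S : CRing Λ k)

lemma homSet_map_map_algebraMap {A : Art Λ k} (ψ : HomSet S.carrier S.res A) (𝔠 : Ideal Λ) :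
    Ideal.map ψ.1 (Ideal.map (algebraMap Λ S.carrier) 𝔠) = Ideal.map (algebraMap Λ A) 𝔠 := by
  apply le_antisymm
  · rw [Ideal.map_le_iff_le_comap, Ideal.map_le_iff_le_comap]
    intro c hc
    rw [Ideal.mem_comap, Ideal.mem_comap, AlgHom.commutes]
    exact Ideal.mem_map_of_mem _ hc
  · rw [Ideal.map_le_iff_le_comap]
    intro c hc
    rw [Ideal.mem_comap, ← ψ.1.commutes c]
    exact Ideal.mem_map_of_mem _ (Ideal.mem_map_of_mem _ hc)

lemma homSet_map_cot_le {A : Art Λ k} (ψ : HomSet S.carrier S.res A) (𝔠 : Ideal Λ) :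
    Ideal.map ψ.1 (IsLocalRing.maximalIdeal S.carrier ^ 2 ⊔ Ideal.map (algebraMap Λ S.carrier) 𝔠) ≤
      IsLocalRing.maximalIdeal (A : Type u) ^ 2 ⊔ Ideal.map (algebraMap Λ A) 𝔠 := by
  rw [Ideal.map_sup, homSet_map_map_algebraMap]
  exact sup_le_sup_right (homSet_map_pow_le S ψ 2) _

lemma le_homSet_map_cot {A : Art Λ k} (ψ : HomSet S.carrier S.res A) (hψ : Function.Surjective ψ.1)
    (𝔠 : Ideal Λ) :
    IsLocalRing.maximalIdeal (A : Type u) ^ 2 ⊔ Ideal.map (algebraMap Λ A) 𝔠 ≤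
      Ideal.map ψ.1 (IsLocalRing.maximalIdeal S.carrier ^ 2 ⊔ Ideal.map (algebraMap Λ S.carrier) 𝔠) := by
  rw [Ideal.map_sup, homSet_map_map_algebraMap, Ideal.map_pow]
  apply sup_le_sup_right
  apply Ideal.pow_right_mono
  intro r hr
  obtain ⟨s₁, rfl⟩ := hψ r
  exact Ideal.mem_map_of_mem _ ((homSet_mem_maximalIdeal_iff S ψ s₁).1 hr)

end Aux

section Main

variable [IsLocalRing Λ] [IsNoetherianRing Λ] [Module.Finite Λ k]

theorem exists_versal_semismall_aux
    (F : Art Λ k ⥤ Type v) (hF : H0 F ∧ S1 F ∧ Heps F)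
    (R : Art Λ k) (a : F.obj R)
    (hvers : ∀ (R₀ : Art Λ k), IsSmallExt (toBase R₀) → ∀ b : F.obj R₀, ∃ φ : R ⟶ R₀, F.map φ a = b)
    (S : CRing Λ k)
    (hsmS : ∀ ⦃B A : Art Λ k⦄ (μ : B ⟶ A), Function.Surjective μ →
      Function.Surjective (HomSet.map (R := S.carrier) (resR := S.res) μ))
    (σ : HomSet S.carrier S.res R) (hσ : Function.Surjective σ.1)
    (hmin : RingHom.ker σ.1 ≤ IsLocalRing.maximalIdeal S.carrier ^ 2 ⊔
      Ideal.map (algebraMap Λ S.carrier) (IsLocalRing.maximalIdeal Λ)) :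
    ∃ (R' : Art Λ k) (q : R' ⟶ R) (a' : F.obj R'), F.map q a' = a ∧
      IsSemismallExt q ∧
      (∀ x' : R', x' ∈ IsLocalRing.maximalIdeal (R' : Type u) →
        q x' ∈ (IsLocalRing.maximalIdeal (R : Type u)) ^ 2 ⊔ (IsLocalRing.maximalIdeal Λ).map (algebraMap Λ R) →
        x' ∈ (IsLocalRing.maximalIdeal (R' : Type u)) ^ 2 ⊔ (IsLocalRing.maximalIdeal Λ).map (algebraMap Λ R')) ∧
      ∀ (R₁ : Art Λ k) (π₁ : R₁ ⟶ R), IsSmallExt π₁ →
        ∀ a₁ : F.obj R₁, F.map π₁ a₁ = a → ∃ f : R' ⟶ R₁, f ≫ π₁ = q ∧ F.map f a' = a₁ := by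
  obtain ⟨h0, h1, h2⟩ := hF
  let T : Stage S F := { A := R, σ := σ, surj := hσ, x := a }
  obtain ⟨T', ⟨⟨q, hqσ, hqx⟩, hleast⟩, hmul⟩ := exists_isStep_strong h1 T
  have hqσ' : ∀ s, q (T'.σ.1 s) = σ.1 s :=
    fun s => congrArg (fun m : HomSet S.carrier S.res R => m.1 s) hqσ
  have hqs : Function.Surjective q := by
    intro r
    obtain ⟨s, rfl⟩ := hσ r
    exact ⟨T'.σ.1 s, hqσ' s⟩
  have hsemiq : IsLocalRing.maximalIdeal (T'.A : Type u) * RingHom.ker q.toAlgHom = ⊥ := by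
    rw [← le_bot_iff]
    apply Ideal.mul_le.2
    intro b hb c hc
    obtain ⟨s, rfl⟩ := T'.surj b
    obtain ⟨s', rfl⟩ := T'.surj c
    have hs : s ∈ IsLocalRing.maximalIdeal S.carrier := (homSet_mem_maximalIdeal_iff S T'.σ s).1 hb
    have hs' : s' ∈ T.ker := by
      rw [Stage.mem_ker]
      change σ.1 s' = 0
      rw [← hqσ']
      exact RingHom.mem_ker.1 hc
    have h3 : s * s' ∈ T'.ker := hmul (Ideal.mul_mem_mul hs hs')
    rw [Stage.mem_ker, map_mul] at h3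
    rw [h3]
    exact Ideal.zero_mem _
  refine ⟨T'.A, q, T'.x, hqx, ⟨hqs, hsemiq⟩, ?_, ?_⟩
  · -- cotangent injectivity
    intro x' hx' hqx'
    obtain ⟨s, rfl⟩ := T'.surj x'
    rw [hqσ'] at hqx'
    obtain ⟨s₂, hs₂, hvs₂⟩ := (Ideal.mem_map_iff_of_surjective σ.1 hσ).1
      (le_homSet_map_cot S σ hσ _ hqx')
    have hs𝔞 : s ∈ IsLocalRing.maximalIdeal S.carrier ^ 2 ⊔
        Ideal.map (algebraMap Λ S.carrier) (IsLocalRing.maximalIdeal Λ) := by
      have h1 : s - s₂ ∈ RingHom.ker σ.1 := by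
        rw [RingHom.mem_ker, map_sub, sub_eq_zero]
        exact hvs₂.symm
      have := Ideal.add_mem _ (hmin h1) hs₂
      rwa [sub_add_cancel] at this
    exact homSet_map_cot_le S T'.σ _ (Ideal.mem_map_of_mem _ hs𝔞)
  · intro R₁ π₁ hπ₁ a₁ ha₁
    set ξ' := familyOfArtElt T'.A T'.x with hξ'
    have hd : Function.Surjective (TangentSpace.ofFamily ξ') := by
      intro θ
      obtain ⟨φ, hφ⟩ := hvers (dual Λ k) isSmallExt_toBase_dual θ
      refine ⟨⟨(q ≫ φ).toAlgHom, (q ≫ φ).res_comp⟩, ?_⟩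
      change F.map (q ≫ φ) T'.x = θ
      rw [F.map_comp_apply, hqx]
      exact hφ
    obtain ⟨C, p₁, p₂, hC⟩ := exists_isFibreProd_of_surjective q π₁ hπ₁.1
    have hp₁ : IsSmallExt p₁ := isSmallExt_fst_of_isFibreProd hC hπ₁
    obtain ⟨z, hz1, hz2⟩ := (cmp_surjective_iff F hC).1 (h1 _ _ _ _ hC hπ₁.1) T'.x a₁
      (hqx.trans ha₁.symm)
    obtain ⟨τ, hτ⟩ := hsmS p₁ hp₁.1 T'.σ
    have hker : T'.ker ≤ RingHom.ker τ.1 := by
      by_cases hτs : Function.Surjective τ.1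
      · apply hleast C τ (p₁ ≫ q) hτs
        · rw [homSet_map_comp, hτ, hqσ]
        · rw [← le_bot_iff]
          apply Ideal.mul_le.2
          intro c hc d hd'
          have hd0 : q (p₁ d) = 0 := RingHom.mem_ker.1 hd'
          rw [Submodule.mem_bot]
          apply hC.inj
          · have h1' : p₁ c ∈ IsLocalRing.maximalIdeal (T'.A : Type u) := by
              rw [Art.mem_maximalIdeal_iff, Art.res_app]
              exact (Art.mem_maximalIdeal_iff C c).1 hc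
            have h2' : p₁ d ∈ RingHom.ker q.toAlgHom := RingHom.mem_ker.2 hd0
            have h3' := Ideal.mul_mem_mul h1' h2'
            rw [hsemiq, Submodule.mem_bot] at h3'
            rw [map_mul, map_zero]
            exact h3'
          · have h1' : p₂ c ∈ IsLocalRing.maximalIdeal (R₁ : Type u) := by
              rw [Art.mem_maximalIdeal_iff, Art.res_app]
              exact (Art.mem_maximalIdeal_iff C c).1 hc
            have h2' : p₂ d ∈ RingHom.ker π₁.toAlgHom := by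
              rw [RingHom.mem_ker]
              rw [← hC.w_apply]
              exact hd0
            have h3' := Ideal.mul_mem_mul h1' h2'
            rw [hπ₁.2.2.2, Submodule.mem_bot] at h3'
            rw [map_mul, map_zero]
            exact h3'
        · refine ⟨z, ?_⟩
          rw [F.map_comp_apply, hz1]
          exact hqx
      · exact ker_le_ker_of_not_surjective p₁ hp₁ τ T'.σ T'.surj hτ hτs
    obtain ⟨g, hg⟩ := exists_factor_homSet T'.σ T'.surj τ hker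
    have hgp : g ≫ p₁ = 𝟙 _ := by
      apply hom_ext_of_homSet_surjective T'.σ T'.surj
      rw [homSet_map_comp, hg, hτ, homSet_map_id]
    have hψ₀ : (g ≫ p₂) ≫ π₁ = q := by
      rw [Category.assoc, ← hC.w, ← Category.assoc, hgp, Category.id_comp]
    obtain ⟨ψ', hψ'1, hψ'2⟩ := exists_adjust_lift h0 ((s1_iff_hbar F).1 h1) h2 ξ' hd π₁ hπ₁
      ⟨q.toAlgHom, q.res_comp⟩ a₁ (ha₁.trans hqx.symm)
      ⟨(g ≫ p₂).toAlgHom, (g ≫ p₂).res_comp⟩ (by
        apply homSet_ext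
        intro r
        exact congrArg (fun m : T'.A ⟶ R => m r) hψ₀)
    refine ⟨⟨ψ'.1, ψ'.2⟩, ?_, hψ'2⟩
    apply hom_ext
    exact congrArg Subtype.val hψ'1

end Main

section Final

variable [IsLocalRing Λ] [IsNoetherianRing Λ] [IsAdicComplete (IsLocalRing.maximalIdeal Λ) Λ]

theorem exists_versal_semismall (hk : Function.Surjective (algebraMap Λ k))
    (F : Art Λ k ⥤ Type v) (hF : H0 F ∧ S1 F ∧ Heps F)
    (R : Art Λ k) (a : F.obj R)
    (hvers : ∀ (R₀ : Art Λ k), IsSmallExt (toBase R₀) → ∀ b : F.obj R₀, ∃ φ : R ⟶ R₀, F.map φ a = b) :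
    ∃ (R' : Art Λ k) (q : R' ⟶ R) (a' : F.obj R'), F.map q a' = a ∧
      IsSemismallExt q ∧
      (∀ x' : R', x' ∈ IsLocalRing.maximalIdeal (R' : Type u) →
        q x' ∈ (IsLocalRing.maximalIdeal (R : Type u)) ^ 2 ⊔ (IsLocalRing.maximalIdeal Λ).map (algebraMap Λ R) →
        x' ∈ (IsLocalRing.maximalIdeal (R' : Type u)) ^ 2 ⊔ (IsLocalRing.maximalIdeal Λ).map (algebraMap Λ R')) ∧
      ∀ (R₁ : Art Λ k) (π₁ : R₁ ⟶ R), IsSmallExt π₁ →
        ∀ a₁ : F.obj R₁, F.map π₁ a₁ = a → ∃ f : R' ⟶ R₁, f ≫ π₁ = q ∧ F.map f a' = a₁ := by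
  have : Module.Finite Λ k := Module.Finite.of_surjective (Algebra.linearMap Λ k) hk
  let ΛC : CRing Λ k := baseCRing (Λ := Λ) (k := k) hk
  let RC : CRing Λ k := artCRing R
  let u : ΛC.carrier →ₐ[Λ] RC.carrier := Algebra.ofId Λ R
  have hu : RC.res.comp u = ΛC.res := algHom_self_ext _ _
  obtain ⟨n, v, hvres, hvC, hvs, hvker⟩ := exists_ps_presentation u hu
  have hsmS : ∀ ⦃B A : Art Λ k⦄ (μ : B ⟶ A), Function.Surjective μ →
      Function.Surjective (HomSet.map (R := (psCRing ΛC n).carrier) (resR := (psCRing ΛC n).res) μ) := by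
    apply hR_psCRing_smooth ΛC n
    intro B A μ _ φ
    refine ⟨⟨Algebra.ofId Λ B, algHom_self_ext _ _⟩, ?_⟩
    apply Subtype.ext
    exact algHom_self_ext _ _
  refine exists_versal_semismall_aux F hF R a hvers (psCRing ΛC n) hsmS ⟨v, hvres⟩ hvs ?_
  exact hvker

end Final

end Groth.Agent.Lib.Helper1.ArtFunLib
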