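import Mathlib
import Groth.Prelude.Def_ArtFun3
import Groth.Agent.Lib.Helper1.ArtFunEssKaehler

/-!
# Separable residue field extensions: sections and derivations
-/

universe u v
open CategoryTheory TensorProduct

namespace Groth.Agent.Lib.Helper1.ArtFunLib

open ArtFun ArtFun.Art

section Sep

variable {Λ : Type u} {k : Type u} [CommRing Λ] [Field k] [Algebra Λ k] [IsNoetherianRing Λ] [Module.Finite Λ k]

/-- `k` is separable over the field `Λ / ker(Λ → k)` -/
theorem isSeparable_quot [Algebra.IsSeparable (↥(algebraMap Λ k).range) k]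
    (K₀ : Type u) [Field K₀] [Algebra K₀ k] (q : Λ →+* K₀) (_hq : Function.Surjective q)
    (hqk : ∀ l, algebraMap K₀ k (q l) = algebraMap Λ k l) : Algebra.IsSeparable K₀ k := by
  refine ⟨fun x => ?_⟩
  have hsep : (minpoly (↥(algebraMap Λ k).range) x).Separable :=
    Algebra.IsSeparable.isSeparable (↥(algebraMap Λ k).range) x
  set p := minpoly (↥(algebraMap Λ k).range) x with hp
  have hlift : p.map (algebraMap Λ k).range.subtype ∈ Polynomial.lifts (algebraMap K₀ k) := by
    rw [Polynomial.lifts_iff_coeff_lifts]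
    intro n
    rw [Polynomial.coeff_map]
    obtain ⟨l, hl⟩ := (p.coeff n).2
    exact ⟨q l, by rw [hqk, hl]; rfl⟩
  obtain ⟨r, hr⟩ := (Polynomial.mem_lifts _).1 hlift
  have hrsep : r.Separable := by
    rw [← Polynomial.separable_map (algebraMap K₀ k), hr]
    exact hsep.map
  have hrx : Polynomial.aeval x r = 0 := by
    rw [Polynomial.aeval_def, ← Polynomial.eval_map, hr, Polynomial.eval_map]
    have := minpoly.aeval (↥(algebraMap Λ k).range) x
    rw [Polynomial.aeval_def] at this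
    exact this
  exact hrsep.of_dvd (minpoly.dvd K₀ x hrx)

/-- for `k` separable over the image of `Λ`, the residue field lifts to `B / 𝔞` whenever `𝔞 ⊇ m_Λ B` -/
theorem exists_section_quot [Algebra.IsSeparable (↥(algebraMap Λ k).range) k] (B : Art Λ k) (𝔞 : Ideal B)
    (h𝔞 : Ideal.map (algebraMap Λ B) (RingHom.ker (algebraMap Λ k)) ≤ 𝔞)
    (h𝔞m : 𝔞 ≤ IsLocalRing.maximalIdeal B) :
    ∃ s : k →+* B ⧸ 𝔞,
      (∀ c, Ideal.Quotient.lift 𝔞 (B.res : B →+* k)
        (fun a ha => (mem_maximalIdeal_iff B a).1 (h𝔞m ha)) (s c) = c) ∧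
      ∀ l : Λ, s (algebraMap Λ k l) = Ideal.Quotient.mk 𝔞 (algebraMap Λ B l) := by
  classical
  let K₀ := Λ ⧸ RingHom.ker (algebraMap Λ k)
  letI : Algebra K₀ k := (RingHom.kerLift (algebraMap Λ k)).toAlgebra
  haveI : IsScalarTower Λ K₀ k := IsScalarTower.of_algebraMap_eq (fun x => rfl)
  haveI : Module.Finite K₀ k := Module.Finite.of_restrictScalars_finite Λ K₀ k
  have hinj : Function.Injective (algebraMap K₀ k) := RingHom.kerLift_injective (algebraMap Λ k)
  have hfield : IsField K₀ := isField_of_isIntegral_of_isField hinj (Field.toIsField k)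
  letI := hfield.toField
  letI : Algebra K₀ (B ⧸ 𝔞) :=
    (Ideal.Quotient.lift (RingHom.ker (algebraMap Λ k)) ((Ideal.Quotient.mk 𝔞).comp (algebraMap Λ B))
      (fun l hl => by
        rw [RingHom.comp_apply, Ideal.Quotient.eq_zero_iff_mem]
        exact h𝔞 (Ideal.mem_map_of_mem _ hl))).toAlgebra
  let resbar : B ⧸ 𝔞 →+* k := Ideal.Quotient.lift 𝔞 (B.res : B →+* k)
    (fun a ha => (mem_maximalIdeal_iff B a).1 (h𝔞m ha))
  let g : (B ⧸ 𝔞) →ₐ[K₀] k :=
    { resbar with
      commutes' := fun y => by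
        obtain ⟨l, rfl⟩ := Ideal.Quotient.mk_surjective y
        change resbar (Ideal.Quotient.mk 𝔞 (algebraMap Λ B l)) = algebraMap Λ k l
        change B.res (algebraMap Λ B l) = algebraMap Λ k l
        exact B.res.commutes l }
  have hg : Function.Surjective g := fun c => by
    obtain ⟨b, hb⟩ := B.res_surjective c
    exact ⟨Ideal.Quotient.mk 𝔞 b, hb⟩
  have hg' : IsNilpotent (RingHom.ker (g : (B ⧸ 𝔞) →+* k)) := by
    obtain ⟨N, hN⟩ := exists_maximalIdeal_pow_eq_bot B
    refine ⟨N, ?_⟩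
    have hle : RingHom.ker (g : (B ⧸ 𝔞) →+* k) ≤ Ideal.map (Ideal.Quotient.mk 𝔞) (IsLocalRing.maximalIdeal B) := by
      intro y hy
      obtain ⟨b, rfl⟩ := Ideal.Quotient.mk_surjective y
      apply Ideal.mem_map_of_mem
      rw [mem_maximalIdeal_iff]
      exact hy
    rw [Ideal.zero_eq_bot, eq_bot_iff]
    refine (Ideal.pow_right_mono hle N).trans ?_
    rw [← Ideal.map_pow, hN, Ideal.map_bot]
  haveI : Algebra.IsSeparable K₀ k :=
    isSeparable_quot K₀ (Ideal.Quotient.mk _) Ideal.Quotient.mk_surjective (fun l => rfl)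
  haveI : Algebra.FormallyEtale K₀ k := Algebra.FormallyEtale.of_isSeparable K₀ k
  let s : k →ₐ[K₀] (B ⧸ 𝔞) := Algebra.FormallySmooth.liftOfSurjective (AlgHom.id K₀ k) g hg hg'
  refine ⟨s, ?_, ?_⟩
  · intro c
    exact Algebra.FormallySmooth.liftOfSurjective_apply (AlgHom.id K₀ k) g hg hg' c
  · intro l
    have := s.commutes (Ideal.Quotient.mk _ l)
    exact this

/-- for `k` separable over the image of `Λ`: elements of `m_B` outside `m_Λ B + m_B²` are detected by derivations -/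
theorem exists_derivation_ne_zero_of_isSeparable [Algebra.IsSeparable (↥(algebraMap Λ k).range) k]
    (B : Art Λ k) [Algebra B k] [IsScalarTower Λ B k] (hBk : ∀ b : B, algebraMap B k b = B.res b)
    (x : B) (hx : x ∉ Ideal.map (algebraMap Λ B) (RingHom.ker (algebraMap Λ k)) ⊔
      IsLocalRing.maximalIdeal B ^ 2) (hxm : x ∈ IsLocalRing.maximalIdeal B) :
    ∃ D : Derivation Λ B k, D x ≠ 0 := by
  classical
  set 𝔞 : Ideal B := Ideal.map (algebraMap Λ B) (RingHom.ker (algebraMap Λ k)) ⊔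
      IsLocalRing.maximalIdeal B ^ 2 with h𝔞def
  have h𝔞 : Ideal.map (algebraMap Λ B) (RingHom.ker (algebraMap Λ k)) ≤ 𝔞 := le_sup_left
  have h𝔞m : 𝔞 ≤ IsLocalRing.maximalIdeal B := by
    apply sup_le
    · rw [Ideal.map_le_iff_le_comap]
      intro l hl
      rw [Ideal.mem_comap, mem_maximalIdeal_iff, AlgHom.commutes]
      exact hl
    · exact Ideal.pow_le_self two_ne_zero
  obtain ⟨s, hs1, hs2⟩ := exists_section_quot B 𝔞 h𝔞 h𝔞m
  let resbar : B ⧸ 𝔞 →+* k := Ideal.Quotient.lift 𝔞 (B.res : B →+* k)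
    (fun a ha => (mem_maximalIdeal_iff B a).1 (h𝔞m ha))
  have hresbar : ∀ b : B, resbar (Ideal.Quotient.mk 𝔞 b) = B.res b := fun b => rfl
  -- products of elements of the kernel of `resbar` vanish
  have hsq : ∀ u v : B ⧸ 𝔞, resbar u = 0 → resbar v = 0 → u * v = 0 := by
    intro u v hu hv
    obtain ⟨a, rfl⟩ := Ideal.Quotient.mk_surjective u
    obtain ⟨b, rfl⟩ := Ideal.Quotient.mk_surjective v
    rw [← map_mul, Ideal.Quotient.eq_zero_iff_mem]
    apply Ideal.mem_sup_right
    rw [pow_two]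
    exact Ideal.mul_mem_mul ((mem_maximalIdeal_iff B a).2 hu) ((mem_maximalIdeal_iff B b).2 hv)
  -- the vector space structure
  letI : Module k (B ⧸ 𝔞) := Module.compHom (B ⧸ 𝔞) s
  have hsmul : ∀ (c : k) (v : B ⧸ 𝔞), c • v = s c * v := fun c v => rfl
  let δ : B → B ⧸ 𝔞 := fun b => Ideal.Quotient.mk 𝔞 b - s (B.res b)
  have hδres : ∀ b, resbar (δ b) = 0 := by
    intro b
    change resbar (Ideal.Quotient.mk 𝔞 b - s (B.res b)) = 0
    rw [map_sub, hresbar, hs1, sub_self]
  have hδx : δ x = Ideal.Quotient.mk 𝔞 x := by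
    change Ideal.Quotient.mk 𝔞 x - s (B.res x) = _
    rw [(mem_maximalIdeal_iff B x).1 hxm, map_zero, sub_zero]
  have hδx0 : δ x ≠ 0 := by
    rw [hδx]
    intro h0
    exact hx (Ideal.Quotient.eq_zero_iff_mem.1 h0)
  obtain ⟨ℓ, hℓ⟩ : ∃ ℓ : Module.Dual k (B ⧸ 𝔞), ℓ (δ x) ≠ 0 := by
    by_contra hno
    push Not at hno
    exact hδx0 ((Module.forall_dual_apply_eq_zero_iff k (δ x)).1 hno)
  have hδadd : ∀ a b, δ (a + b) = δ a + δ b := by
    intro a b
    change Ideal.Quotient.mk 𝔞 (a + b) - s (B.res (a + b)) =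
      (Ideal.Quotient.mk 𝔞 a - s (B.res a)) + (Ideal.Quotient.mk 𝔞 b - s (B.res b))
    rw [map_add, map_add, map_add]
    ring
  have hδmul : ∀ a b, δ (a * b) = B.res a • δ b + B.res b • δ a := by
    intro a b
    rw [hsmul, hsmul]
    have h0 := hsq (δ a) (δ b) (hδres a) (hδres b)
    change (Ideal.Quotient.mk 𝔞 a - s (B.res a)) * (Ideal.Quotient.mk 𝔞 b - s (B.res b)) = 0 at h0
    change Ideal.Quotient.mk 𝔞 (a * b) - s (B.res (a * b)) =
      s (B.res a) * (Ideal.Quotient.mk 𝔞 b - s (B.res b)) + s (B.res b) * (Ideal.Quotient.mk 𝔞 a - s (B.res a))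
    rw [map_mul, map_mul, map_mul]
    linear_combination h0
  have hδsmul : ∀ (l : Λ) (b : B), δ (l • b) = algebraMap Λ k l • δ b := by
    intro l b
    rw [Algebra.smul_def, hδmul, AlgHom.commutes]
    have : δ (algebraMap Λ B l) = 0 := by
      change Ideal.Quotient.mk 𝔞 (algebraMap Λ B l) - s (B.res (algebraMap Λ B l)) = 0
      rw [AlgHom.commutes, hs2, sub_self]
    rw [this, smul_zero, add_zero]
  let Dl : B →ₗ[Λ] k :=
    { toFun := fun b => ℓ (δ b)
      map_add' := fun a b => by rw [hδadd, map_add]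
      map_smul' := fun l b => by
        rw [hδsmul, map_smul, RingHom.id_apply, smul_eq_mul, Algebra.smul_def] }
  refine ⟨Derivation.mk' Dl ?_, hℓ⟩
  intro a b
  change ℓ (δ (a * b)) = a • ℓ (δ b) + b • ℓ (δ a)
  rw [hδmul, map_add, map_smul, map_smul, smul_eq_mul, smul_eq_mul, Algebra.smul_def, Algebra.smul_def,
    hBk, hBk]

end Sep

end Groth.Agent.Lib.Helper1.ArtFunLib
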