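import Mathlib
import Groth.Prelude.Def_ArtFun3
import Groth.Agent.Lib.Helper1.ArtFunSepDer
import Groth.Agent.Lib.Helper1.ArtFunFibre

/-!
# Fibre products in `Art Λ k` for separable residue field extensions
-/

universe u v
open CategoryTheory Polynomial

namespace Groth.Agent.Lib.Helper1.ArtFunLib

open ArtFun ArtFun.Art

section SepFibre

variable {Λ : Type u} {k : Type u} [CommRing Λ] [Field k] [Algebra Λ k] [IsNoetherianRing Λ] [Module.Finite Λ k]

/-- a monic polynomial over `Λ` having `c` as a simple root in `k` -/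
theorem exists_monic_simple_root [Algebra.IsSeparable (↥(algebraMap Λ k).range) k] (c : k) :
    ∃ P : Λ[X], P.Monic ∧ (P.map (algebraMap Λ k)).eval c = 0 ∧
      (P.map (algebraMap Λ k)).derivative.eval c ≠ 0 := by
  classical
  let K₀ := Λ ⧸ RingHom.ker (algebraMap Λ k)
  letI : Algebra K₀ k := (RingHom.kerLift (algebraMap Λ k)).toAlgebra
  haveI : IsScalarTower Λ K₀ k := IsScalarTower.of_algebraMap_eq (fun x => rfl)
  haveI : Module.Finite K₀ k := Module.Finite.of_restrictScalars_finite Λ K₀ k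
  have hinj : Function.Injective (algebraMap K₀ k) := RingHom.kerLift_injective (algebraMap Λ k)
  have hfield : IsField K₀ := isField_of_isIntegral_of_isField hinj (Field.toIsField k)
  letI := hfield.toField
  haveI : Algebra.IsSeparable K₀ k :=
    isSeparable_quot K₀ (Ideal.Quotient.mk _) Ideal.Quotient.mk_surjective (fun l => rfl)
  have hint : IsIntegral K₀ c := Algebra.IsIntegral.isIntegral c
  set p := minpoly K₀ c with hp
  have hpm : p.Monic := minpoly.monic hint
  have hpsep : p.Separable := Algebra.IsSeparable.isSeparable K₀ c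
  obtain ⟨P, hP, -, hPm⟩ := Polynomial.lifts_and_degree_eq_and_monic
    (Polynomial.map_surjective (Ideal.Quotient.mk (RingHom.ker (algebraMap Λ k))) Ideal.Quotient.mk_surjective p
      |> fun ⟨P', hP'⟩ => (Polynomial.mem_lifts _).2 ⟨P', hP'⟩) hpm
  have hmap : P.map (algebraMap Λ k) = p.map (algebraMap K₀ k) := by
    rw [← hP, Polynomial.map_map]
    rfl
  refine ⟨P, hPm, ?_, ?_⟩
  · rw [hmap, Polynomial.eval_map, ← Polynomial.aeval_def]
    exact minpoly.aeval K₀ c
  · rw [hmap, Polynomial.derivative_map, Polynomial.eval_map, ← Polynomial.aeval_def]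
    exact hpsep.aeval_derivative_ne_zero (minpoly.aeval K₀ c)

/-- residue of the evaluation of a polynomial with coefficients in `Λ` -/
lemma res_eval_map (B : Art Λ k) (P : Λ[X]) (a : B) :
    B.res ((P.map (algebraMap Λ B)).eval a) = (P.map (algebraMap Λ k)).eval (B.res a) := by
  rw [Polynomial.eval_map, Polynomial.eval_map]
  have := Polynomial.hom_eval₂ P (algebraMap Λ B) (B.res : B →+* k) a
  rw [AlgHom.comp_algebraMap] at this
  exact this

lemma hom_eval_map {B A : Art Λ k} (f : B ⟶ A) (P : Λ[X]) (a : B) :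
    f ((P.map (algebraMap Λ B)).eval a) = (P.map (algebraMap Λ A)).eval (f a) := by
  rw [Polynomial.eval_map, Polynomial.eval_map]
  have := Polynomial.hom_eval₂ P (algebraMap Λ B) (f.toAlgHom : B →+* A) a
  rw [AlgHom.comp_algebraMap] at this
  exact this

/-- Hensel: a simple root in the residue field lifts to an object -/
theorem exists_root_lift (B : Art Λ k) (P : Λ[X]) (hPm : P.Monic) (c : k)
    (hc : (P.map (algebraMap Λ k)).eval c = 0) (hc' : (P.map (algebraMap Λ k)).derivative.eval c ≠ 0) :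
    ∃ a : B, (P.map (algebraMap Λ B)).eval a = 0 ∧ B.res a = c := by
  obtain ⟨a₀, ha₀⟩ := B.res_surjective c
  obtain ⟨a, ha, haa₀⟩ := HenselianRing.is_henselian (I := IsLocalRing.maximalIdeal B)
    (P.map (algebraMap Λ B)) (hPm.map _) a₀
    (by rw [mem_maximalIdeal_iff, res_eval_map, ha₀, hc])
    (by
      apply IsUnit.map
      by_contra hnu
      have hm : (P.map (algebraMap Λ B)).derivative.eval a₀ ∈ IsLocalRing.maximalIdeal B :=
        (IsLocalRing.mem_maximalIdeal _).2 hnu
      rw [mem_maximalIdeal_iff, Polynomial.derivative_map, res_eval_map, ha₀,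
        ← Polynomial.derivative_map] at hm
      exact hc' hm)
  refine ⟨a, ha, ?_⟩
  have := (mem_maximalIdeal_iff B _).1 haa₀
  rw [map_sub, sub_eq_zero] at this
  rw [this, ha₀]

/-- uniqueness of the lift of a simple root -/
theorem root_lift_unique (B : Art Λ k) (P : Λ[X]) (c : k)
    (hc' : (P.map (algebraMap Λ k)).derivative.eval c ≠ 0) (a a' : B)
    (ha : (P.map (algebraMap Λ B)).eval a = 0) (ha' : (P.map (algebraMap Λ B)).eval a' = 0)
    (hra : B.res a = c) (hra' : B.res a' = c) : a = a' := by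
  obtain ⟨κ, hκ⟩ := Polynomial.binomExpansion (P.map (algebraMap Λ B)) a (a' - a)
  rw [add_sub_cancel, ha, ha', zero_add] at hκ
  have hy : a' - a ∈ IsLocalRing.maximalIdeal B := by
    rw [mem_maximalIdeal_iff, map_sub, hra, hra', sub_self]
  have hunit : IsUnit ((P.map (algebraMap Λ B)).derivative.eval a + κ * (a' - a)) := by
    by_contra hnu
    have hm := (IsLocalRing.mem_maximalIdeal _).2 hnu
    have h2 : (P.map (algebraMap Λ B)).derivative.eval a ∈ IsLocalRing.maximalIdeal B := by
      have := Ideal.sub_mem _ hm (Ideal.mul_mem_left _ κ hy)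
      rwa [add_sub_cancel_right] at this
    rw [mem_maximalIdeal_iff, Polynomial.derivative_map, res_eval_map, hra,
      ← Polynomial.derivative_map] at h2
    exact hc' h2
  have h0 : ((P.map (algebraMap Λ B)).derivative.eval a + κ * (a' - a)) * (a' - a) = 0 := by
    rw [hκ]; ring
  have := (hunit.mul_right_eq_zero).1 h0
  exact (sub_eq_zero.1 this).symm

/-- the pullback of two morphisms surjects onto the residue field when `k` is separable over the image of `Λ` -/
theorem exists_pair_lift [Algebra.IsSeparable (↥(algebraMap Λ k).range) k] {A A₁ A₂ : Art Λ k}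
    (f₁ : A₁ ⟶ A) (f₂ : A₂ ⟶ A) (c : k) : ∃ (a₁ : A₁) (a₂ : A₂), f₁ a₁ = f₂ a₂ ∧ A₁.res a₁ = c := by
  obtain ⟨P, hPm, hc, hc'⟩ := exists_monic_simple_root (Λ := Λ) c
  obtain ⟨a₁, ha₁, hr₁⟩ := exists_root_lift A₁ P hPm c hc hc'
  obtain ⟨a₂, ha₂, hr₂⟩ := exists_root_lift A₂ P hPm c hc hc'
  refine ⟨a₁, a₂, ?_, hr₁⟩
  apply root_lift_unique A P c hc'
  · rw [← hom_eval_map, ha₁, map_zero]
  · rw [← hom_eval_map, ha₂, map_zero]
  · rw [res_app, hr₁]
  · rw [res_app, hr₂]

/-- fibre products exist when `k` is separable over the image of `Λ` -/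
theorem exists_isFibreProd_of_isSeparable [Algebra.IsSeparable (↥(algebraMap Λ k).range) k] {A A₁ A₂ : Art Λ k}
    (f₁ : A₁ ⟶ A) (f₂ : A₂ ⟶ A) :
    ∃ (B : Art Λ k) (p₁ : B ⟶ A₁) (p₂ : B ⟶ A₂), IsFibreProd p₁ p₂ f₁ f₂ := by
  apply exists_isFibreProd_of_res_surjective
  intro c
  obtain ⟨a₁, a₂, h, hc⟩ := exists_pair_lift f₁ f₂ c
  exact ⟨⟨(a₁, a₂), h⟩, hc⟩

end SepFibre

end Groth.Agent.Lib.Helper1.ArtFunLib
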