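import Mathlib
import Groth.Prelude.Def_ArtFun5
import Groth.Agent.Lib.Helper1.ArtFunPSCrit
import Groth.Agent.Lib.Helper1.ArtFunProrepCrit
import Groth.Agent.Lib.Helper1.ArtFunObsPS

/-!
# The `T¹`-lifting theorem for functors of Artin rings (set-valued case)
-/
universe u v
open CategoryTheory

namespace Groth.Agent.Lib.Helper1.ArtFunLib

open ArtFun ArtFun.Art IsLocalRing

section TSZE

variable {k : Type u} [Field k] (A : Art k k) (M : Type u) [AddCommGroup M] [Module (↥A) M]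
  [Module (↥A)ᵐᵒᵖ M] [IsCentralScalar (↥A) M] [Module k M] [IsScalarTower k (↥A) M]
  [IsScalarTower k (↥A)ᵐᵒᵖ M]

instance isLocalRing_tsze : IsLocalRing (TrivSqZeroExt (↥A) M) := by
  haveI : Nontrivial (TrivSqZeroExt (↥A) M) :=
    ⟨⟨0, 1, fun h => zero_ne_one (congrArg TrivSqZeroExt.fst h : (0 : A) = 1)⟩⟩
  refine IsLocalRing.of_nonunits_add ?_
  intro a b ha hb
  rw [mem_nonunits_iff, TrivSqZeroExt.isUnit_iff_isUnit_fst] at ha hb ⊢
  rw [TrivSqZeroExt.fst_add]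
  exact (IsLocalRing.nonunits_add ha hb)

instance isArtinianRing_tsze [Module.Finite (↥A) M] : IsArtinianRing (TrivSqZeroExt (↥A) M) := by
  haveI : Module.Finite (↥A) (TrivSqZeroExt (↥A) M) := inferInstanceAs (Module.Finite (↥A) (↥A × M))
  exact IsArtinianRing.of_finite (↥A) _

/-- the trivial square-zero extension of an object by a finite module -/
noncomputable def tszeArt [Module.Finite (↥A) M] : Art k k where
  carrier := TrivSqZeroExt (↥A) M
  res := A.res.comp (TrivSqZeroExt.fstHom k (↥A) M)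
  res_surjective := fun c => by
    obtain ⟨a, ha⟩ := A.res_surjective c
    exact ⟨TrivSqZeroExt.inl a, ha⟩

variable {A M}

/-- the projection `A ⊕ M → A` -/
noncomputable def tszeFst [Module.Finite (↥A) M] : tszeArt A M ⟶ A :=
  ⟨TrivSqZeroExt.fstHom k (↥A) M, rfl⟩

/-- the inclusion `A → A ⊕ M` -/
noncomputable def tszeInl [Module.Finite (↥A) M] : A ⟶ tszeArt A M :=
  ⟨TrivSqZeroExt.inlAlgHom k (↥A) M, by
    apply AlgHom.ext
    intro a
    rfl⟩

lemma tszeInl_fst [Module.Finite (↥A) M] : tszeInl (A := A) (M := M) ≫ tszeFst = 𝟙 A := by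
  apply hom_ext
  apply AlgHom.ext
  intro a
  rfl

lemma ker_tszeFst_sq [Module.Finite (↥A) M] :
    RingHom.ker (tszeFst (A := A) (M := M)).toAlgHom * RingHom.ker (tszeFst (A := A) (M := M)).toAlgHom = ⊥ := by
  rw [← le_bot_iff]
  apply Ideal.mul_le.2
  intro x hx y hy
  have key : ∀ x y : TrivSqZeroExt (↥A) M, x.fst = 0 → y.fst = 0 → x * y = 0 := by
    intro x y hx0 hy0
    apply TrivSqZeroExt.ext
    · rw [TrivSqZeroExt.fst_mul, hx0, zero_mul, TrivSqZeroExt.fst_zero]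
    · rw [TrivSqZeroExt.snd_mul, hx0, hy0]
      simp
  rw [Submodule.mem_bot]
  exact key x y (RingHom.mem_ker.1 hx) (RingHom.mem_ker.1 hy)

variable {M' : Type u} [AddCommGroup M'] [Module (↥A) M'] [Module (↥A)ᵐᵒᵖ M'] [IsCentralScalar (↥A) M']
  [Module k M'] [IsScalarTower k (↥A) M'] [IsScalarTower k (↥A)ᵐᵒᵖ M']

/-- the map `A ⊕ M' → A ⊕ M` induced by a linear map -/
noncomputable def tszeMap [Module.Finite (↥A) M] [Module.Finite (↥A) M'] (f : M' →ₗ[↥A] M) :
    tszeArt A M' ⟶ tszeArt A M :=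
  ⟨{ (TrivSqZeroExt.map f).toRingHom with
      commutes' := fun c => by
        change TrivSqZeroExt.map f (algebraMap k (TrivSqZeroExt (↥A) M') c) = _
        rw [TrivSqZeroExt.algebraMap_eq_inl', TrivSqZeroExt.map_inl]
        rfl }, by
    apply AlgHom.ext
    intro z
    change A.res (TrivSqZeroExt.fst (TrivSqZeroExt.map f z)) = A.res (TrivSqZeroExt.fst z)
    rw [TrivSqZeroExt.fst_map]⟩

lemma tszeMap_apply [Module.Finite (↥A) M] [Module.Finite (↥A) M'] (f : M' →ₗ[↥A] M)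
    (z : TrivSqZeroExt (↥A) M') : tszeMap f z = TrivSqZeroExt.map f z := rfl

lemma tszeMap_fst [Module.Finite (↥A) M] [Module.Finite (↥A) M'] (f : M' →ₗ[↥A] M) :
    tszeMap f ≫ tszeFst = tszeFst := by
  apply hom_ext
  apply AlgHom.ext
  intro z
  change TrivSqZeroExt.fst (TrivSqZeroExt.map f z) = TrivSqZeroExt.fst z
  rw [TrivSqZeroExt.fst_map]

lemma tszeInl_map [Module.Finite (↥A) M] [Module.Finite (↥A) M'] (f : M' →ₗ[↥A] M) :
    tszeInl ≫ tszeMap f = tszeInl := by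
  apply hom_ext
  apply AlgHom.ext
  intro a
  change TrivSqZeroExt.map f (TrivSqZeroExt.inl a) = TrivSqZeroExt.inl a
  rw [TrivSqZeroExt.map_inl]

lemma tszeMap_surjective [Module.Finite (↥A) M] [Module.Finite (↥A) M'] (f : M' →ₗ[↥A] M)
    (hf : Function.Surjective f) : Function.Surjective (tszeMap f) := by
  intro (z : TrivSqZeroExt (↥A) M)
  obtain ⟨m', hm'⟩ := hf z.snd
  refine ⟨(TrivSqZeroExt.inl z.fst + TrivSqZeroExt.inr m' : TrivSqZeroExt (↥A) M'), ?_⟩
  change TrivSqZeroExt.map f (TrivSqZeroExt.inl z.fst + TrivSqZeroExt.inr m') = z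
  rw [map_add, TrivSqZeroExt.map_inl, TrivSqZeroExt.map_inr, hm']
  exact TrivSqZeroExt.inl_fst_add_inr_snd_eq z

end TSZE

section Main

variable {k : Type u} [Field k]

/-- any `k`-algebra augmentation of a coefficient ring is the given one -/
lemma cring_aug_unique (R : CRing k k) (χ : R.carrier →ₐ[k] k) : χ = R.res := by
  apply AlgHom.ext
  intro r
  have h1 : r - algebraMap k R.carrier (R.res r) ∈ RingHom.ker R.res := by
    rw [RingHom.mem_ker, map_sub, AlgHom.commutes, sub_eq_zero]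
    rfl
  rw [← maximalIdeal_eq_ker_aug R.res, maximalIdeal_eq_ker_aug χ] at h1
  rw [RingHom.mem_ker, map_sub, sub_eq_zero, AlgHom.commutes] at h1
  exact h1

theorem liftCritFin_of_isUniversal {F : Art k k ⥤ Type v}
    (hT1 : ∀ ⦃A A' A'' : Art k k⦄ (π' : A' ⟶ A) (i' : A ⟶ A') (π'' : A'' ⟶ A) (i'' : A ⟶ A'')
        (q : A'' ⟶ A'), i' ≫ π' = 𝟙 A → i'' ≫ π'' = 𝟙 A →
        RingHom.ker π'.toAlgHom * RingHom.ker π'.toAlgHom = ⊥ →
        RingHom.ker π''.toAlgHom * RingHom.ker π''.toAlgHom = ⊥ →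
        q ≫ π' = π'' → i'' ≫ q = i' → Function.Surjective q → Function.Surjective (F.map q))
    (R : CRing k k) (ξ : Family R.carrier R.res F) (hξ : IsUniversal ξ) :
    LiftCritFin k R.carrier := by
  intro A M M' _ _ _ _ _ _ _ _ _ _ _ _ _ _ _ _ f hf φ
  have hφ : (tszeArt A M).res.comp φ = R.res := cring_aug_unique R _
  let φ' : HomSet R.carrier R.res (tszeArt A M) := ⟨φ, hφ⟩
  obtain ⟨x'', hx''⟩ := hT1 (tszeFst (A := A) (M := M)) tszeInl (tszeFst (A := A) (M := M')) tszeInl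
    (tszeMap f) tszeInl_fst tszeInl_fst ker_tszeFst_sq ker_tszeFst_sq (tszeMap_fst f) (tszeInl_map f)
    (tszeMap_surjective f hf) (ξ.app _ φ')
  obtain ⟨ψ, hψ⟩ := (hξ (tszeArt A M')).2 x''
  have hcomp : HomSet.map (tszeMap f) ψ = φ' := by
    apply (hξ _).1
    rw [ξ.natural, hψ, hx'']
  refine ⟨ψ.1, fun r => ?_⟩
  have h1 : TrivSqZeroExt.map f (ψ.1 r) = φ r :=
    congrArg (fun m : HomSet R.carrier R.res (tszeArt A M) => m.1 r) hcomp
  constructor
  · rw [← h1, TrivSqZeroExt.fst_map]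
    rfl
  · rw [← h1, TrivSqZeroExt.snd_map]
    rfl

theorem isSmoothFunctor_of_t1Lifting [CharZero k] (F : Art k k ⥤ Type v) [TangentStr F]
    (h0 : H0 F) (hRS : RS F) (hfin : Hfin F)
    (hT1 : ∀ ⦃A A' A'' : Art k k⦄ (π' : A' ⟶ A) (i' : A ⟶ A') (π'' : A'' ⟶ A) (i'' : A ⟶ A'')
        (q : A'' ⟶ A'), i' ≫ π' = 𝟙 A → i'' ≫ π'' = 𝟙 A →
        RingHom.ker π'.toAlgHom * RingHom.ker π'.toAlgHom = ⊥ →
        RingHom.ker π''.toAlgHom * RingHom.ker π''.toAlgHom = ⊥ →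
        q ≫ π' = π'' → i'' ≫ q = i' → Function.Surjective q → Function.Surjective (F.map q)) :
    IsSmoothFunctor F := by
  have hc : ∀ x₀ : F.obj (base k k),
      Function.Injective (fun σ : base k k ⟶ dual k k => F.map σ x₀) := by
    intro x₀ σ σ' _
    apply hom_ext
    exact algHom_self_ext _ _
  obtain ⟨⟨R, ξ, hξ⟩⟩ := isProrepresentable_of_rs F h0 hRS hfin hc
  have H := liftCritFin_of_isUniversal hT1 R ξ hξ
  obtain ⟨n, v, hv⟩ := exists_algEquiv_of_liftCritFin R H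
  let e : MvPowerSeries (Fin n) k ≃ₐ[k] R.carrier := AlgEquiv.ofBijective v hv
  intro B A μ hμ x
  obtain ⟨φ, rfl⟩ := (hξ A).2 x
  let φv : HomSet (MvPowerSeries (Fin n) k) (R.res.comp v) A :=
    ⟨φ.1.comp v, by rw [← AlgHom.comp_assoc, φ.2]⟩
  obtain ⟨ψv, hψv⟩ := mvPowerSeries_smooth n (R.res.comp v) μ hμ φv
  let ψ : HomSet R.carrier R.res B := ⟨ψv.1.comp e.symm.toAlgHom, cring_aug_unique R _⟩
  refine ⟨ξ.app B ψ, ?_⟩
  rw [← ξ.natural]
  congr 1
  apply homSet_ext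
  intro r
  have h1 : μ (ψv.1 (e.symm r)) = φ.1 (v (e.symm r)) :=
    congrArg (fun m : HomSet (MvPowerSeries (Fin n) k) (R.res.comp v) A => m.1 (e.symm r)) hψv
  have h2 : v (e.symm r) = r := e.apply_symm_apply r
  rw [h2] at h1
  exact h1

end Main

end Groth.Agent.Lib.Helper1.ArtFunLib
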