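import Groth.Agent.Lib.Helper25.BlowUpAffine

/-!
# Blowing up along an ideal that is also an ideal of an overring (helper1)

Ring level: if `p : R →+* A` maps the ideal `I` of `R` bijectively onto an ideal of `A`, then
`Spec A → Spec R` has the universal property of the blowing up of `I` (as soon as `I · A` is
effective Cartier).
-/

set_option autoImplicit false
universe u

noncomputable section

namespace Groth.Agent.Lib.Helper1.BU

open CategoryTheory CategoryTheory.Limits AlgebraicGeometry TopologicalSpace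
open Groth.Agent.Lib.Helper25.BlowUpUP

/-- the ring-level universal property -/
theorem existsUnique_lift {R A C : Type u} [CommRing R] [CommRing A] [CommRing C]
    (p : R →+* A) (I : Ideal R)
    (hsurj : ∀ a : A, ∀ x ∈ I, ∃ x' ∈ I, p x' = a * p x)
    (hinj : ∀ x ∈ I, p x = 0 → x = 0)
    (φ : R →+* C) (c : R) (hc : c ∈ I) (hnzd : φ c ∈ nonZeroDivisors C)
    (hI : I.map φ = Ideal.span {φ c}) :
    ∃! θ : A →+* C, θ.comp p = φ := by
  have cancel : ∀ u v : C, u * φ c = v * φ c → u = v := by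
    intro u v h
    have h0 : (u - v) * φ c = 0 := by rw [sub_mul, h, sub_self]
    exact sub_eq_zero.1 ((mem_nonZeroDivisors_iff_right.1 hnzd) _ h0)
  have hinj' : ∀ x ∈ I, ∀ y ∈ I, p x = p y → x = y := by
    intro x hx y hy h
    have := hinj (x - y) (I.sub_mem hx hy) (by rw [map_sub, h, sub_self])
    exact sub_eq_zero.1 this
  have hex : ∀ a : A, ∃ d : C, ∀ x ∈ I, p x = a * p c → φ x = d * φ c := by
    intro a
    obtain ⟨x', hx', hpx'⟩ := hsurj a c hc
    have hmem : φ x' ∈ Ideal.span {φ c} := hI ▸ Ideal.mem_map_of_mem φ hx'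
    obtain ⟨d, hd⟩ := Ideal.mem_span_singleton'.1 hmem
    refine ⟨d, fun x hx hpx => ?_⟩
    rw [hinj' x hx x' hx' (hpx.trans hpx'.symm), hd]
  choose θ hθ using hex
  have hθ' : ∀ a : A, ∀ d : C, (∃ x ∈ I, p x = a * p c ∧ φ x = d * φ c) → θ a = d := by
    rintro a d ⟨x, hx, hpx, hφx⟩
    exact cancel _ _ ((hθ a x hx hpx).symm.trans hφx)
  have h1 : θ 1 = 1 := hθ' 1 1 ⟨c, hc, by rw [one_mul], by rw [one_mul]⟩
  have h0 : θ 0 = 0 :=
    hθ' 0 0 ⟨0, I.zero_mem, by rw [map_zero, zero_mul], by rw [map_zero, zero_mul]⟩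
  have hadd : ∀ a b, θ (a + b) = θ a + θ b := by
    intro a b
    obtain ⟨xa, hxa, hpa⟩ := hsurj a c hc
    obtain ⟨xb, hxb, hpb⟩ := hsurj b c hc
    refine hθ' _ _ ⟨xa + xb, I.add_mem hxa hxb, by rw [map_add, hpa, hpb, add_mul], ?_⟩
    rw [map_add, hθ a xa hxa hpa, hθ b xb hxb hpb, add_mul]
  have hmul : ∀ a b, θ (a * b) = θ a * θ b := by
    intro a b
    obtain ⟨xa, hxa, hpa⟩ := hsurj a c hc
    obtain ⟨xb, hxb, hpb⟩ := hsurj b c hc
    obtain ⟨xab, hxab, hpab⟩ := hsurj (a * b) c hc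
    refine hθ' _ _ ⟨xab, hxab, hpab, ?_⟩
    apply cancel
    have e : xab * c = xa * xb := by
      refine hinj' _ (I.mul_mem_right _ hxab) _ (I.mul_mem_right _ hxa) ?_
      rw [map_mul, map_mul, hpab, hpa, hpb]; ring
    calc φ xab * φ c = φ (xab * c) := (map_mul φ _ _).symm
      _ = φ xa * φ xb := by rw [e, map_mul]
      _ = θ a * θ b * φ c * φ c := by rw [hθ a xa hxa hpa, hθ b xb hxb hpb]; ring
  let Θ : A →+* C :=
    { toFun := θ, map_one' := h1, map_mul' := hmul, map_zero' := h0, map_add' := hadd }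
  have hΘp : Θ.comp p = φ := by
    ext r
    change θ (p r) = φ r
    exact hθ' _ _ ⟨r * c, I.mul_mem_left _ hc, by rw [map_mul], by rw [map_mul]⟩
  refine ⟨Θ, hΘp, fun Θ' hΘ' => ?_⟩
  ext a
  change Θ' a = θ a
  obtain ⟨xa, hxa, hpa⟩ := hsurj a c hc
  symm
  refine hθ' _ _ ⟨xa, hxa, hpa, ?_⟩
  have e1 : ∀ r, Θ' (p r) = φ r := fun r => RingHom.congr_fun hΘ' r
  rw [← e1 xa, hpa, map_mul, e1]

variable {R A : Type u} [CommRing R] [CommRing A]

/-- `phi` of a composite with `Spec.map` -/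
theorem phi_comp {Y : Scheme.{u}} (h : Y ⟶ Spec (CommRingCat.of A)) (p : R →+* A) {V : Y.Opens}
    (hV : IsAffineOpen V) :
    phi (h ≫ Spec.map (CommRingCat.ofHom p)) V = (phi h V).comp p := by
  have e : Spec.map (CommRingCat.ofHom (phi (h ≫ Spec.map (CommRingCat.ofHom p)) V)) =
      Spec.map (CommRingCat.ofHom ((phi h V).comp p)) := by
    rw [SpecMap_phi _ hV, CommRingCat.ofHom_comp, Spec.map_comp, SpecMap_phi _ hV, Category.assoc]
  exact congrArg CommRingCat.Hom.hom (Spec.map_injective e)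

/-- **Affine blow-up criterion.** If `p : R →+* A` maps the ideal `I` bijectively onto an ideal
of `A` and `I · A` is effective Cartier, then `Spec A → Spec R` is the blowing up of `I`. -/
theorem isBlowUp_SpecMap (p : R →+* A) (I : Ideal R)
    (hsurj : ∀ a : A, ∀ x ∈ I, ∃ x' ∈ I, p x' = a * p x)
    (hinj : ∀ x ∈ I, p x = 0 → x = 0)
    (h1 : BlowUp.IsEffCartierIdeal ((specIdeal I).comap (Spec.map (CommRingCat.ofHom p)))) :
    BlowUp.IsBlowUp (Spec.map (CommRingCat.ofHom p)) (specIdeal I) := by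
  refine isBlowUp_of_local _ _ h1 ?_ ?_
  · intro Y h h' heq hE
    refine hom_ext_of_forall_fromSpec h h' fun y => ?_
    obtain ⟨V, hyV, -, c, hc, hnzd, hIc⟩ :=
      exists_affine_generator I (h ≫ Spec.map (CommRingCat.ofHom p)) hE y ⊤ trivial
    refine ⟨V.1, V.2, hyV, ?_⟩
    obtain ⟨θ, -, huniq⟩ := existsUnique_lift p I hsurj hinj _ c hc hnzd hIc
    have e1 : (phi h V.1).comp p = phi (h ≫ Spec.map (CommRingCat.ofHom p)) V.1 :=
      (phi_comp h p V.2).symm
    have e2 : (phi h' V.1).comp p = phi (h ≫ Spec.map (CommRingCat.ofHom p)) V.1 := by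
      rw [heq]; exact (phi_comp h' p V.2).symm
    rw [← SpecMap_phi h V.2, ← SpecMap_phi h' V.2, huniq _ e1, huniq _ e2]
  · intro Y g hg y
    obtain ⟨V, hyV, -, c, hc, hnzd, hIc⟩ := exists_affine_generator I g hg y ⊤ trivial
    obtain ⟨θ, hθ, -⟩ := existsUnique_lift p I hsurj hinj _ c hc hnzd hIc
    refine ⟨V.1, hyV, V.2.isoSpec.hom ≫ Spec.map (CommRingCat.ofHom θ), ?_⟩
    rw [Category.assoc, ← Spec.map_comp, ← CommRingCat.ofHom_comp, hθ, SpecMap_phi g V.2,
      ← Category.assoc, V.2.isoSpec_hom_fromSpec]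

end Groth.Agent.Lib.Helper1.BU
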