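import Groth.Agent.Lib.Helper1.FPB12

/-!
# Flatness of infinitesimal neighbourhoods in a fibre product of rings (helper1)

* `flat_quot_pow`: if `t` is a nonzerodivisor of `A` and `A/t` is flat over `Λ`, so is `A/t^n`.
* `flat_quot_fibProd`: for a fibre product `R = A ×_C B` with `A → C` surjective, `I = ker (R → B)`
  and `K = ker (A → C)`, the ring `R/I^n` is flat over `Λ` as soon as `A/K^n`, `B`, `C` are.
-/

set_option autoImplicit false
set_option linter.unusedSectionVars false
set_option linter.unusedVariables false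
set_option linter.style.haveILetI false
universe u

noncomputable section

namespace Groth.Agent.Lib.Helper1.BU

open TensorProduct

open LinearMap in
/-- an extension of a flat module by a flat module is flat (as in helper28's `DCohRes31`) -/
theorem flat_middle_of_exact {R : Type*} {A B C : Type*} [CommRing R]
    [AddCommGroup A] [AddCommGroup B] [AddCommGroup C] [Module R A] [Module R B] [Module R C]
    [Module.Flat R A] [Module.Flat R C]
    (f : A →ₗ[R] B) (g : B →ₗ[R] C) (hf : Function.Injective f) (hg : Function.Surjective g)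
    (H : Function.Exact f g) : Module.Flat R B := by
  rw [Module.Flat.iff_rTensor_injective']
  intro I
  rw [injective_iff_map_eq_zero]
  intro z hz
  have hC : Function.Injective (I.subtype.rTensor C) :=
    Module.Flat.rTensor_preserves_injective_linearMap _ Subtype.val_injective
  have hA : Function.Injective (I.subtype.rTensor A) :=
    Module.Flat.rTensor_preserves_injective_linearMap _ Subtype.val_injective
  have c1 : (g.lTensor R) ∘ₗ (I.subtype.rTensor B) = (I.subtype.rTensor C) ∘ₗ (g.lTensor I) := by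
    ext; simp
  have c2 : (f.lTensor R) ∘ₗ (I.subtype.rTensor A) = (I.subtype.rTensor B) ∘ₗ (f.lTensor I) := by
    ext; simp
  have h1 : g.lTensor I z = 0 := by
    apply hC
    rw [map_zero]
    have := congrArg (fun l => l z) c1
    simp only [LinearMap.coe_comp, Function.comp_apply] at this
    rw [← this, hz, map_zero]
  obtain ⟨y, rfl⟩ := (lTensor_exact I H hg z).1 h1
  have hfR : Function.Injective (f.lTensor R) :=
    Module.Flat.lTensor_preserves_injective_linearMap _ hf
  have h2 : I.subtype.rTensor A y = 0 := by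
    apply hfR
    rw [map_zero]
    have := congrArg (fun l => l y) c2
    simp only [LinearMap.coe_comp, Function.comp_apply] at this
    rw [this, hz]
  rw [hA (h2.trans (map_zero _).symm), map_zero]

section Desc

variable {Λ M M' N : Type u} [CommRing Λ] [AddCommGroup M] [AddCommGroup M'] [AddCommGroup N]
  [Module Λ M] [Module Λ M'] [Module Λ N]

/-- descend a linear map along a surjective linear map -/
def descLin (p : M →ₗ[Λ] M') (hp : Function.Surjective p) (F : M →ₗ[Λ] N)
    (h : ∀ a, p a = 0 → F a = 0) : M' →ₗ[Λ] N where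
  toFun x := F (Function.surjInv hp x)
  map_add' x y := by
    have h0 : p (Function.surjInv hp (x + y) -
        (Function.surjInv hp x + Function.surjInv hp y)) = 0 := by
      rw [map_sub, map_add, Function.surjInv_eq hp, Function.surjInv_eq hp, Function.surjInv_eq hp,
        sub_self]
    have h1 := h _ h0
    rw [map_sub, sub_eq_zero, map_add] at h1
    exact h1
  map_smul' c x := by
    have h0 : p (Function.surjInv hp (c • x) - c • Function.surjInv hp x) = 0 := by
      rw [map_sub, map_smul, Function.surjInv_eq hp, Function.surjInv_eq hp, sub_self]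
    have h1 := h _ h0
    rw [map_sub, sub_eq_zero, map_smul] at h1
    exact h1

lemma descLin_apply (p : M →ₗ[Λ] M') (hp : Function.Surjective p) (F : M →ₗ[Λ] N)
    (h : ∀ a, p a = 0 → F a = 0) (a : M) : descLin p hp F h (p a) = F a := by
  have h0 : p (Function.surjInv hp (p a) - a) = 0 := by
    rw [map_sub, Function.surjInv_eq hp, sub_self]
  have h1 := h _ h0
  rw [map_sub, sub_eq_zero] at h1
  exact h1

end Desc

/-- one step: `0 → A/t^n → A/t^(n+1) → A/t → 0` -/
theorem flat_quot_step {Λ A Q' Q C : Type u} [CommRing Λ] [CommRing A] [CommRing Q']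
    [CommRing Q] [CommRing C] (l : Λ →+* A) (t : A) (ht : t ∈ nonZeroDivisors A) (n : ℕ)
    (q' : A →+* Q') (hq' : Function.Surjective q') (hkq' : RingHom.ker q' = Ideal.span {t ^ n})
    (q : A →+* Q) (hq : Function.Surjective q) (hkq : RingHom.ker q = Ideal.span {t ^ (n + 1)})
    (c : A →+* C) (hc : Function.Surjective c) (hkc : RingHom.ker c = Ideal.span {t})
    (hQ' : (q'.comp l).Flat) (hC : (c.comp l).Flat) : (q.comp l).Flat := by
  letI : Algebra Λ A := l.toAlgebra
  letI : Algebra Λ Q' := (q'.comp l).toAlgebra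
  letI : Algebra Λ Q := (q.comp l).toAlgebra
  letI : Algebra Λ C := (c.comp l).toAlgebra
  haveI : Module.Flat Λ Q' := hQ'
  haveI : Module.Flat Λ C := hC
  let q'a : A →ₐ[Λ] Q' := { q' with commutes' := fun r => rfl }
  let qa : A →ₐ[Λ] Q := { q with commutes' := fun r => rfl }
  let ca : A →ₐ[Λ] C := { c with commutes' := fun r => rfl }
  let F : A →ₗ[Λ] Q := qa.toLinearMap.comp (LinearMap.mulLeft Λ t)
  have hF : ∀ a, F a = q (t * a) := fun a => rfl
  have hFk : ∀ a, q'a.toLinearMap a = 0 → F a = 0 := by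
    intro a ha
    have ha' : a ∈ RingHom.ker q' := (RingHom.mem_ker (f := q')).mpr ha
    rw [hkq'] at ha'
    obtain ⟨d, hd⟩ := Ideal.mem_span_singleton'.1 ha'
    rw [hF]
    have : t * a ∈ RingHom.ker q := by
      rw [hkq]; exact Ideal.mem_span_singleton'.2 ⟨d, by rw [← hd]; ring⟩
    exact (RingHom.mem_ker (f := q)).mp this
  let μ : Q' →ₗ[Λ] Q := descLin q'a.toLinearMap hq' F hFk
  have hμ : ∀ a, μ (q' a) = q (t * a) := fun a => descLin_apply q'a.toLinearMap hq' F hFk a
  have hGk : ∀ a, qa.toLinearMap a = 0 → ca.toLinearMap a = 0 := by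
    intro a ha
    have ha' : a ∈ RingHom.ker q := (RingHom.mem_ker (f := q)).mpr ha
    rw [hkq] at ha'
    obtain ⟨d, hd⟩ := Ideal.mem_span_singleton'.1 ha'
    have : a ∈ RingHom.ker c := by
      rw [hkc]; exact Ideal.mem_span_singleton'.2 ⟨d * t ^ n, by rw [← hd]; ring⟩
    exact (RingHom.mem_ker (f := c)).mp this
  let π : Q →ₗ[Λ] C := descLin qa.toLinearMap hq ca.toLinearMap hGk
  have hπ : ∀ a, π (q a) = c a := fun a => descLin_apply qa.toLinearMap hq ca.toLinearMap hGk a
  have ht0 : c t = 0 := by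
    have : t ∈ RingHom.ker c := by rw [hkc]; exact Ideal.mem_span_singleton_self t
    exact RingHom.mem_ker.mp this
  change Module.Flat Λ Q
  refine flat_middle_of_exact μ π ?_ ?_ ?_
  · rw [injective_iff_map_eq_zero]
    intro x hx
    obtain ⟨a, rfl⟩ := hq' x
    rw [hμ] at hx
    have h1 : t * a ∈ RingHom.ker q := RingHom.mem_ker.mpr hx
    rw [hkq] at h1
    obtain ⟨d, hd⟩ := Ideal.mem_span_singleton'.1 h1
    have h2 : (a - d * t ^ n) * t = 0 := by
      rw [sub_mul, mul_comm a t, ← hd]; ring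
    have h3 : a = d * t ^ n := sub_eq_zero.1 ((mem_nonZeroDivisors_iff_right.1 ht) _ h2)
    have : a ∈ RingHom.ker q' := by
      rw [hkq']; exact Ideal.mem_span_singleton'.2 ⟨d, h3.symm⟩
    exact RingHom.mem_ker.mp this
  · intro z
    obtain ⟨a, rfl⟩ := hc z
    exact ⟨q a, hπ a⟩
  · intro x
    obtain ⟨a, rfl⟩ := hq x
    rw [hπ]
    constructor
    · intro h
      have h1 : a ∈ RingHom.ker c := RingHom.mem_ker.mpr h
      rw [hkc] at h1
      obtain ⟨d, hd⟩ := Ideal.mem_span_singleton'.1 h1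
      exact ⟨q' d, by rw [hμ, ← hd, mul_comm]⟩
    · rintro ⟨y, hy⟩
      obtain ⟨d, rfl⟩ := hq' y
      rw [hμ] at hy
      have := congrArg π hy
      rw [hπ, hπ] at this
      rw [← this, map_mul, ht0, zero_mul]

/-- `A/t^n` is flat over `Λ` if `A/t` is and `t` is a nonzerodivisor -/
theorem flat_quot_pow {Λ A C : Type u} [CommRing Λ] [CommRing A] [CommRing C]
    (l : Λ →+* A) (t : A) (ht : t ∈ nonZeroDivisors A)
    (c : A →+* C) (hc : Function.Surjective c) (hkc : RingHom.ker c = Ideal.span {t})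
    (hC : (c.comp l).Flat) :
    ∀ (n : ℕ) (Q : Type u) [CommRing Q] (q : A →+* Q), Function.Surjective q →
      RingHom.ker q = Ideal.span {t ^ n} → (q.comp l).Flat := by
  intro n
  induction n with
  | zero =>
    intro Q _ q hq hkq
    have hsub : Subsingleton Q := by
      rw [pow_zero, Ideal.span_singleton_one] at hkq
      have h1 : (1 : A) ∈ RingHom.ker q := by rw [hkq]; trivial
      have h2 : (1 : Q) = 0 := by rw [← map_one q]; exact RingHom.mem_ker.mp h1
      exact subsingleton_of_zero_eq_one h2.symm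
    letI : Algebra Λ Q := (q.comp l).toAlgebra
    change Module.Flat Λ Q
    infer_instance
  | succ n ih =>
    intro Q _ q hq hkq
    exact flat_quot_step l t ht n (Ideal.Quotient.mk (Ideal.span {t ^ n}))
      Ideal.Quotient.mk_surjective Ideal.mk_ker q hq hkq c hc hkc
      (ih _ _ Ideal.Quotient.mk_surjective Ideal.mk_ker) hC

/-- flatness of `R/I^n` for a fibre product ring `R` -/
theorem flat_quot_fibProd {Λ R A B C E Q : Type u} [CommRing Λ] [CommRing R] [CommRing A]
    [CommRing B] [CommRing C] [CommRing E] [CommRing Q]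
    (lR : Λ →+* R) (f₁ : R →+* A) (f₂ : R →+* B) (φ : A →+* C) (ψ : B →+* C)
    (hf : φ.comp f₁ = ψ.comp f₂) (hφ : Function.Surjective φ)
    (hex : ∀ a b, φ a = ψ b → ∃ r : R, f₁ r = a ∧ f₂ r = b)
    (hinj : ∀ r : R, f₁ r = 0 → f₂ r = 0 → r = 0)
    (n : ℕ) (hn : 1 ≤ n)
    (g : R →+* E) (hg : Function.Surjective g) (hkg : RingHom.ker g = RingHom.ker f₂ ^ n)
    (q : A →+* Q) (hq : Function.Surjective q) (hkq : RingHom.ker q = RingHom.ker φ ^ n)
    (hQ : ((q.comp f₁).comp lR).Flat) (hB : (f₂.comp lR).Flat)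
    (hC : ((φ.comp f₁).comp lR).Flat) : (g.comp lR).Flat := by
  have hfr : ∀ r, φ (f₁ r) = ψ (f₂ r) := fun r => RingHom.congr_fun hf r
  have hmap : ∀ m : ℕ, ∀ r ∈ RingHom.ker f₂ ^ m, f₁ r ∈ RingHom.ker φ ^ m := by
    intro m r hr
    have h1 : (RingHom.ker f₂).map f₁ ≤ RingHom.ker φ := by
      rw [Ideal.map_le_iff_le_comap]
      intro x hx
      rw [Ideal.mem_comap, RingHom.mem_ker, hfr, RingHom.mem_ker.mp hx, map_zero]
    have h2 : f₁ r ∈ ((RingHom.ker f₂) ^ m).map f₁ := Ideal.mem_map_of_mem f₁ hr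
    rw [Ideal.map_pow] at h2
    exact Ideal.pow_right_mono h1 m h2
  have hlift1 : ∀ k ∈ RingHom.ker φ, ∃ r ∈ RingHom.ker f₂, f₁ r = k := by
    intro k hk
    obtain ⟨r, hr1, hr2⟩ := hex k 0 (by rw [RingHom.mem_ker.mp hk, map_zero])
    exact ⟨r, RingHom.mem_ker.mpr hr2, hr1⟩
  have hlift : ∀ m : ℕ, ∀ k ∈ RingHom.ker φ ^ (m + 1),
      ∃ r ∈ RingHom.ker f₂ ^ (m + 1), f₁ r = k := by
    intro m
    induction m with
    | zero =>
      intro k hk
      rw [zero_add, pow_one] at hk ⊢
      exact hlift1 k hk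
    | succ m ih =>
      intro k hk
      rw [pow_succ'] at hk
      refine Submodule.mul_induction_on hk ?_ ?_
      · intro k₁ hk₁ k₂ hk₂
        obtain ⟨r₁, hr₁, e₁⟩ := hlift1 k₁ hk₁
        obtain ⟨r₂, hr₂, e₂⟩ := ih k₂ hk₂
        refine ⟨r₁ * r₂, ?_, by rw [map_mul, e₁, e₂]⟩
        rw [pow_succ' _ (m + 1)]
        exact Ideal.mul_mem_mul hr₁ hr₂
      · rintro x y ⟨rx, hrx, ex⟩ ⟨ry, hry, ey⟩
        exact ⟨rx + ry, Ideal.add_mem _ hrx hry, by rw [map_add, ex, ey]⟩
  obtain ⟨m, rfl⟩ : ∃ m, n = m + 1 := ⟨n - 1, by omega⟩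
  have hkey : ∀ r : R, f₂ r = 0 → f₁ r ∈ RingHom.ker φ ^ (m + 1) →
      r ∈ RingHom.ker f₂ ^ (m + 1) := by
    intro r h2 h1
    obtain ⟨r', hr', e⟩ := hlift m _ h1
    have h2' : f₂ r' = 0 := RingHom.mem_ker.mp (Ideal.pow_le_self (Nat.succ_ne_zero m) hr')
    have : r - r' = 0 :=
      hinj _ (by rw [map_sub, e, sub_self]) (by rw [map_sub, h2, h2', sub_self])
    rw [sub_eq_zero.1 this]; exact hr'
  have hk1 : RingHom.ker g ≤ RingHom.ker (q.comp f₁) := by
    intro r hr
    rw [hkg] at hr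
    rw [RingHom.mem_ker, RingHom.comp_apply, ← RingHom.mem_ker, hkq]
    exact hmap _ r hr
  have hk2 : RingHom.ker g ≤ RingHom.ker f₂ := by
    rw [hkg]; exact Ideal.pow_le_self (Nat.succ_ne_zero m)
  have hk3 : RingHom.ker q ≤ RingHom.ker φ := by
    rw [hkq]; exact Ideal.pow_le_self (Nat.succ_ne_zero m)
  let F₁ : E →+* Q := g.liftOfSurjective hg ⟨q.comp f₁, hk1⟩
  let F₂ : E →+* B := g.liftOfSurjective hg ⟨f₂, hk2⟩
  let Φ : Q →+* C := q.liftOfSurjective hq ⟨φ, hk3⟩
  have hF₁ : ∀ r, F₁ (g r) = q (f₁ r) :=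
    fun r => g.liftOfSurjective_comp_apply hg ⟨q.comp f₁, hk1⟩ r
  have hF₂ : ∀ r, F₂ (g r) = f₂ r := fun r => g.liftOfSurjective_comp_apply hg ⟨f₂, hk2⟩ r
  have hΦ : ∀ a, Φ (q a) = φ a := fun a => q.liftOfSurjective_comp_apply hq ⟨φ, hk3⟩ a
  refine FP.TensorSq.flat_fibProd (g.comp lR) F₁ F₂ Φ ψ ?_ ?_ ?_ ?_ ?_ ?_ ?_
  · ext e
    obtain ⟨r, rfl⟩ := hg e
    rw [RingHom.comp_apply, RingHom.comp_apply, hF₁, hF₂, hΦ, hfr]
  · intro z
    obtain ⟨a, rfl⟩ := hφ z
    exact ⟨q a, hΦ a⟩
  · intro x b hxb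
    obtain ⟨a, rfl⟩ := hq x
    rw [hΦ] at hxb
    obtain ⟨r, hr1, hr2⟩ := hex a b hxb
    exact ⟨g r, by rw [hF₁, hr1], by rw [hF₂, hr2]⟩
  · intro e h1 h2
    obtain ⟨r, rfl⟩ := hg e
    rw [hF₁] at h1
    rw [hF₂] at h2
    have h1' : f₁ r ∈ RingHom.ker φ ^ (m + 1) := by
      rw [← hkq]; exact RingHom.mem_ker.mpr h1
    have := hkey r h2 h1'
    rw [← hkg] at this
    exact RingHom.mem_ker.mp this
  · have e : F₁.comp (g.comp lR) = (q.comp f₁).comp lR := by
      ext x
      simp only [RingHom.comp_apply, hF₁]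
    rw [e]; exact hQ
  · have e : F₂.comp (g.comp lR) = f₂.comp lR := by
      ext x
      simp only [RingHom.comp_apply, hF₂]
    rw [e]; exact hB
  · have e : (Φ.comp F₁).comp (g.comp lR) = (φ.comp f₁).comp lR := by
      ext x
      simp only [RingHom.comp_apply, hF₁, hΦ]
    rw [e]; exact hC

end Groth.Agent.Lib.Helper1.BU
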