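import Groth.Prelude.Def_FSch3
import Groth.Agent.Lib.Helper1.IdealSheafComap

/-!
# Basic lemmas on ideal sheaves of affine schemes and on the systems `FSch.spf`, `FSch.completionAlong`
-/

universe u

open CategoryTheory CategoryTheory.Limits AlgebraicGeometry

namespace Groth.Agent.Lib.Helper1

section SpecKer

variable {R S : Type u} [CommRing R] [CommRing S]

/-- The kernel ideal sheaf of `Spec.map φ`. -/
theorem ker_SpecMap (φ : R →+* S) :
    (Spec.map (CommRingCat.ofHom φ)).ker =
      Scheme.IdealSheafData.ofIdealTop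
        ((RingHom.ker φ).comap (Scheme.ΓSpecIso (CommRingCat.of R)).hom.hom) := by
  rw [Scheme.ker_of_isAffine]
  congr 1
  have h := Scheme.ΓSpecIso_naturality (CommRingCat.ofHom φ)
  ext x
  rw [Ideal.mem_comap, RingHom.mem_ker, RingHom.mem_ker]
  have h2 := congrArg (fun t => t.hom x) h
  simp only [CommRingCat.hom_comp, RingHom.comp_apply, CommRingCat.hom_ofHom] at h2
  rw [← h2]
  exact (map_eq_zero_iff _ (ConcreteCategory.bijective_of_isIso
    (Scheme.ΓSpecIso (CommRingCat.of S)).hom).1).symm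

theorem idealSpec_eq (J : Ideal R) :
    FSch.idealSpec R J = Scheme.IdealSheafData.ofIdealTop
        (J.comap (Scheme.ΓSpecIso (CommRingCat.of R)).hom.hom) := by
  rw [FSch.idealSpec, ker_SpecMap, Ideal.mk_ker]

theorem ker_SpecMap_eq_idealSpec (φ : R →+* S) :
    (Spec.map (CommRingCat.ofHom φ)).ker = FSch.idealSpec R (RingHom.ker φ) := by
  rw [ker_SpecMap, idealSpec_eq]

theorem comap_ΓSpecIso_pow (J : Ideal R) (n : ℕ) :
    (J ^ n).comap (Scheme.ΓSpecIso (CommRingCat.of R)).hom.hom =
      (J.comap (Scheme.ΓSpecIso (CommRingCat.of R)).hom.hom) ^ n := by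
  let e : Γ(Spec (CommRingCat.of R), ⊤) ≃+* R :=
    (Scheme.ΓSpecIso (CommRingCat.of R)).commRingCatIsoToRingEquiv
  change (J ^ n).comap e = (J.comap e) ^ n
  rw [← Ideal.map_symm, ← Ideal.map_symm, Ideal.map_pow]

theorem idealSpec_pow (J : Ideal R) (n : ℕ) :
    FSch.idealSpec R (J ^ n) = (FSch.idealSpec R J) ^ n := by
  rw [idealSpec_eq, idealSpec_eq, comap_ΓSpecIso_pow]
  exact map_pow (Scheme.IdealSheafData.equivOfIsAffine (X := Spec (CommRingCat.of R))).symm _ n

theorem idealSpec_mono {I J : Ideal R} (h : I ≤ J) : FSch.idealSpec R I ≤ FSch.idealSpec R J := by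
  rw [idealSpec_eq, idealSpec_eq]
  exact (OrderIso.monotone (Scheme.IdealSheafData.equivOfIsAffine
    (X := Spec (CommRingCat.of R))).symm.toOrderIso) (Ideal.comap_mono h)

theorem idealSpec_injective : Function.Injective (FSch.idealSpec R) := by
  intro I J h
  rw [idealSpec_eq, idealSpec_eq] at h
  have h2 := (Scheme.IdealSheafData.equivOfIsAffine (X := Spec (CommRingCat.of R))).symm.injective h
  exact Ideal.comap_injective_of_surjective _
    (ConcreteCategory.bijective_of_isIso (Scheme.ΓSpecIso (CommRingCat.of R)).hom).2 h2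

theorem spf_ι_ker (A : Type u) [CommRing A] (J : Ideal A) (n : ℕ) :
    ((FSch.spf A J).ι n).ker =
      FSch.idealSpec (A ⧸ J ^ (n + 2)) ((J ^ (n + 1)).map (Ideal.Quotient.mk (J ^ (n + 2)))) := by
  change (Spec.map (CommRingCat.ofHom (Ideal.Quotient.factor
    (Ideal.pow_le_pow_right (Nat.le_succ (n + 1)) : J ^ (n + 2) ≤ J ^ (n + 1))))).ker = _
  rw [ker_SpecMap_eq_idealSpec, Ideal.Quotient.factor_ker]

end SpecKer

section Spf

variable (A : Type u) [CommRing A] (J : Ideal A)

theorem spf_ι (n : ℕ) : (FSch.spf A J).ι n = Spec.map (CommRingCat.ofHom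
    (Ideal.Quotient.factor (Ideal.pow_le_pow_right (Nat.le_succ (n + 1)) : J ^ (n + 2) ≤ J ^ (n + 1)))) :=
  rfl

theorem spf_toX (n : ℕ) : (FSch.spf A J).toX n = Spec.map (CommRingCat.ofHom
    (Ideal.Quotient.factor (Ideal.pow_le_pow_right (Nat.succ_le_succ (Nat.zero_le n)) :
      J ^ (n + 1) ≤ J ^ (0 + 1)))) := by
  induction n with
  | zero =>
    change 𝟙 _ = _
    rw [Ideal.Quotient.factor_eq]
    exact (Spec.map_id _).symm
  | succ k ih =>
    have h1 : (FSch.spf A J).toX (k + 1) = (FSch.spf A J).toX k ≫ (FSch.spf A J).ι k := rfl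
    have h2 : Spec.map (CommRingCat.ofHom (Ideal.Quotient.factor
          (Ideal.pow_le_pow_right (Nat.succ_le_succ (Nat.zero_le k)) : J ^ (k + 1) ≤ J ^ (0 + 1)))) ≫
        Spec.map (CommRingCat.ofHom (Ideal.Quotient.factor
          (Ideal.pow_le_pow_right (Nat.le_succ (k + 1)) : J ^ (k + 2) ≤ J ^ (k + 1)))) =
        Spec.map (CommRingCat.ofHom (Ideal.Quotient.factor
          (Ideal.pow_le_pow_right (Nat.succ_le_succ (Nat.zero_le (k + 1))) :
            J ^ (k + 1 + 1) ≤ J ^ (0 + 1)))) := by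
      rw [← Spec.map_comp, ← CommRingCat.ofHom_comp, Ideal.Quotient.factor_comp]
    rw [h1, ih]
    exact h2

theorem spf_ι_isClosedImmersion (n : ℕ) : IsClosedImmersion ((FSch.spf A J).ι n) := by
  rw [spf_ι]
  exact IsClosedImmersion.spec_of_surjective _ (Ideal.Quotient.factor_surjective
    (Ideal.pow_le_pow_right (Nat.le_succ (n + 1)) : J ^ (n + 2) ≤ J ^ (n + 1)))

theorem spf_ι_surjective (n : ℕ) : Function.Surjective ((FSch.spf A J).ι n).base := by
  rw [spf_ι]
  set φ : A ⧸ J ^ (n + 2) →+* A ⧸ J ^ (n + 1) :=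
    Ideal.Quotient.factor (Ideal.pow_le_pow_right (Nat.le_succ (n + 1))) with hφ
  have hsurj : Function.Surjective φ := Ideal.Quotient.factor_surjective _
  have hker : (RingHom.ker φ : Set (A ⧸ J ^ (n + 2))) ⊆ nilradical (A ⧸ J ^ (n + 2)) := by
    intro x hx
    have hx' : x ∈ (J ^ (n + 1)).map (Ideal.Quotient.mk (J ^ (n + 2))) := by
      rw [← Ideal.Quotient.factor_ker]; exact hx
    refine ⟨2, ?_⟩
    have h2 : x ^ 2 ∈ ((J ^ (n + 1)).map (Ideal.Quotient.mk (J ^ (n + 2)))) ^ 2 :=
      Ideal.pow_mem_pow hx' 2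
    rw [← Ideal.map_pow, ← pow_mul] at h2
    have h3 : (J ^ ((n + 1) * 2)).map (Ideal.Quotient.mk (J ^ (n + 2))) = ⊥ := by
      rw [Ideal.map_eq_bot_iff_le_ker, Ideal.mk_ker]
      exact Ideal.pow_le_pow_right (by omega)
    rw [h3] at h2
    exact h2
  have hrange : Set.range (PrimeSpectrum.comap φ) = Set.univ := by
    rw [range_comap_of_surjective _ _ hsurj, PrimeSpectrum.zeroLocus_eq_univ_iff]
    exact hker
  intro y
  have : y ∈ Set.range (PrimeSpectrum.comap φ) := by rw [hrange]; trivial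
  obtain ⟨x, hx⟩ := this
  exact ⟨x, hx⟩

theorem spf_isFormal : (FSch.spf A J).IsFormal :=
  fun n => ⟨spf_ι_isClosedImmersion A J n, spf_ι_surjective A J n⟩

theorem spf_isAdic : (FSch.spf A J).IsAdic := by
  intro n
  rw [spf_toX, spf_ι]
  change (Spec.map (CommRingCat.ofHom _)).ker = (Spec.map (CommRingCat.ofHom _)).ker ^ (n + 1)
  rw [ker_SpecMap_eq_idealSpec, ker_SpecMap_eq_idealSpec, ← idealSpec_pow,
    Ideal.Quotient.factor_ker, Ideal.Quotient.factor_ker, ← Ideal.map_pow, ← pow_mul, zero_add,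
    one_mul]

theorem spf_isLocNoethFormal [IsNoetherianRing A] : (FSch.spf A J).IsLocNoethFormal := by
  refine ⟨spf_isFormal A J, spf_isAdic A J, fun n => ?_⟩
  change IsLocallyNoetherian (Spec (CommRingCat.of (A ⧸ J ^ (n + 1))))
  infer_instance

end Spf

section Completion

variable {X : Scheme.{u}}

theorem isPullback_inclusion {I J : X.IdealSheafData} (h : I ≤ J) :
    IsPullback (Scheme.IdealSheafData.inclusion h) (𝟙 _) I.subschemeι J.subschemeι := by
  refine ⟨⟨by rw [Scheme.IdealSheafData.inclusion_subschemeι, Category.id_comp]⟩, ⟨?_⟩⟩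
  refine PullbackCone.IsLimit.mk _ (fun s => s.snd) ?_ ?_ ?_
  · intro s
    rw [← cancel_mono I.subschemeι, Category.assoc, Scheme.IdealSheafData.inclusion_subschemeι]
    exact s.condition.symm
  · intro s
    exact Category.comp_id _
  · intro s m _ h2
    rw [← h2, Category.comp_id]

theorem ker_inclusion {I J : X.IdealSheafData} (h : I ≤ J) :
    (Scheme.IdealSheafData.inclusion h).ker = J.comap I.subschemeι := by
  have hpb := isPullback_inclusion h
  rw [← hpb.isoPullback_hom_fst, Scheme.Hom.ker_comp_of_isIso,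
    Scheme.IdealSheafData.ker_fst_of_isClosedImmersion, Scheme.IdealSheafData.ker_subschemeι]

theorem inclusion_isClosedImmersion {I J : X.IdealSheafData} (h : I ≤ J) :
    IsClosedImmersion (Scheme.IdealSheafData.inclusion h) := by
  have : IsClosedImmersion (Scheme.IdealSheafData.inclusion h ≫ I.subschemeι) := by
    rw [Scheme.IdealSheafData.inclusion_subschemeι]; infer_instance
  exact IsClosedImmersion.of_comp_isClosedImmersion (Scheme.IdealSheafData.inclusion h) I.subschemeι

theorem inclusion_surjective {I J : X.IdealSheafData} (h : I ≤ J) (hs : I.support = J.support) :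
    Function.Surjective (Scheme.IdealSheafData.inclusion h).base := by
  intro y
  have hy : I.subschemeι y ∈ Set.range J.subschemeι := by
    rw [Scheme.IdealSheafData.range_subschemeι, ← hs, ← Scheme.IdealSheafData.range_subschemeι]
    exact ⟨y, rfl⟩
  obtain ⟨x, hx⟩ := hy
  refine ⟨x, ?_⟩
  apply I.subschemeι.isEmbedding.injective
  rw [← hx, ← Scheme.IdealSheafData.inclusion_subschemeι h]
  rfl

variable (X) (𝓘 : X.IdealSheafData)

theorem completionAlong_ι (n : ℕ) : (FSch.completionAlong X 𝓘).ι n =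
    Scheme.IdealSheafData.inclusion (FSch.pow_succ_le X 𝓘 n) := rfl

theorem pow_succ_le_pow_one (n : ℕ) : 𝓘 ^ (n + 1) ≤ 𝓘 ^ (0 + 1) :=
  pow_le_pow_of_le_one bot_le le_top (Nat.succ_le_succ (Nat.zero_le n))

theorem completionAlong_toX (n : ℕ) : (FSch.completionAlong X 𝓘).toX n =
    Scheme.IdealSheafData.inclusion (pow_succ_le_pow_one X 𝓘 n) := by
  induction n with
  | zero => exact (Scheme.IdealSheafData.inclusion_id _).symm
  | succ k ih =>
    have h1 : (FSch.completionAlong X 𝓘).toX (k + 1) =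
      (FSch.completionAlong X 𝓘).toX k ≫ (FSch.completionAlong X 𝓘).ι k := rfl
    rw [h1, ih, completionAlong_ι]
    exact Scheme.IdealSheafData.inclusion_comp _ _

theorem completionAlong_isFormal : (FSch.completionAlong X 𝓘).IsFormal := by
  intro n
  rw [completionAlong_ι]
  refine ⟨inclusion_isClosedImmersion _, inclusion_surjective _ ?_⟩
  rw [Scheme.IdealSheafData.support_pow_succ, Scheme.IdealSheafData.support_pow_succ]

theorem completionAlong_isAdic : (FSch.completionAlong X 𝓘).IsAdic := by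
  intro n
  rw [completionAlong_toX, completionAlong_ι]
  change (Scheme.IdealSheafData.inclusion (FSch.pow_succ_le X 𝓘 n)).ker =
    (Scheme.IdealSheafData.inclusion (pow_succ_le_pow_one X 𝓘 (n + 1))).ker ^ (n + 1)
  rw [ker_inclusion, ker_inclusion, ← comap_pow, ← pow_mul, zero_add, one_mul]

theorem completionAlong_isLocNoethFormal [IsLocallyNoetherian X] :
    (FSch.completionAlong X 𝓘).IsLocNoethFormal := by
  refine ⟨completionAlong_isFormal X 𝓘, completionAlong_isAdic X 𝓘, fun n => ?_⟩
  have h : IsLocallyNoetherian (𝓘 ^ (n + 1)).subscheme :=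
    LocallyOfFiniteType.isLocallyNoetherian (𝓘 ^ (n + 1)).subschemeι
  exact h

end Completion

section CompletionPullback

variable {X Y : Scheme.{u}} (f : X ⟶ Y) (𝓚 : Y.IdealSheafData)

/-- For inverse image ideals the compatibility needed to complete a morphism always holds. -/
theorem powCompat_comap : FSch.PowCompat f (𝓚.comap f) 𝓚 :=
  fun n => (comap_pow 𝓚 f (n + 1)).le

/-- `X̂_n = X ×_Y Ŷ_n` for the completion of `X` along the inverse image ideal. -/
theorem completion_isPullback (h : FSch.PowCompat f (𝓚.comap f) 𝓚) (n : ℕ) :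
    IsPullback (FSch.completionToX X (𝓚.comap f) n)
      ((FSch.completionMap f (𝓚.comap f) 𝓚 h : FSch.Hom _ _).app n) f (FSch.completionToX Y 𝓚 n) := by
  have : IsClosedImmersion (FSch.completionToX Y 𝓚 n) :=
    inferInstanceAs (IsClosedImmersion (𝓚 ^ (n + 1)).subschemeι)
  have : IsClosedImmersion (FSch.completionToX X (𝓚.comap f) n) :=
    inferInstanceAs (IsClosedImmersion ((𝓚.comap f) ^ (n + 1)).subschemeι)
  apply isPullback_of_isClosedImmersion
  · rw [FSch.completionMap_app]
    exact (Scheme.IdealSheafData.subschemeMap_subschemeι _ _ _ _).symm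
  · change (Scheme.Hom.ker (𝓚 ^ (n + 1)).subschemeι).comap f =
      Scheme.Hom.ker ((𝓚.comap f) ^ (n + 1)).subschemeι
    rw [Scheme.IdealSheafData.ker_subschemeι, Scheme.IdealSheafData.ker_subschemeι]
    exact comap_pow 𝓚 f (n + 1)

/-- The completed morphism commutes with the maps to the ambient schemes. -/
theorem completionMap_app_toX {𝓘 : X.IdealSheafData} (h : FSch.PowCompat f 𝓘 𝓚) (n : ℕ) :
    (FSch.completionMap f 𝓘 𝓚 h : FSch.Hom _ _).app n ≫ FSch.completionToX Y 𝓚 n =
      FSch.completionToX X 𝓘 n ≫ f := by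
  rw [FSch.completionMap_app]
  exact Scheme.IdealSheafData.subschemeMap_subschemeι _ _ _ _

end CompletionPullback

section Levelwise

/-- A square of systems which is levelwise cartesian is cartesian in the category of systems. -/
theorem isPullback_of_levelwise {𝔚 𝔛 𝔜 𝔖 : FSch.Sys.{u}} (a : 𝔚 ⟶ 𝔛) (b : 𝔚 ⟶ 𝔜) (f : 𝔛 ⟶ 𝔖)
    (g : 𝔜 ⟶ 𝔖)
    (h : ∀ n, IsPullback ((a : FSch.Hom _ _).app n) ((b : FSch.Hom _ _).app n)
      ((f : FSch.Hom _ _).app n) ((g : FSch.Hom _ _).app n)) :
    IsPullback a b f g := by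
  refine ⟨⟨?_⟩, ⟨?_⟩⟩
  · apply FSch.Hom.ext
    funext n
    exact (h n).w
  · refine PullbackCone.IsLimit.mk _ (fun s => ⟨fun n => (h n).lift ((s.fst : FSch.Hom _ _).app n)
        ((s.snd : FSch.Hom _ _).app n) (congrArg (fun (t : FSch.Hom _ _) => t.app n) s.condition),
        fun n => ?_⟩) ?_ ?_ ?_
    · apply (h (n + 1)).hom_ext
      · rw [Category.assoc, Category.assoc, (h (n + 1)).lift_fst, ← (a : FSch.Hom _ _).comm n,
          ← Category.assoc, (h n).lift_fst]
        exact (s.fst : FSch.Hom _ _).comm n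
      · rw [Category.assoc, Category.assoc, (h (n + 1)).lift_snd, ← (b : FSch.Hom _ _).comm n,
          ← Category.assoc, (h n).lift_snd]
        exact (s.snd : FSch.Hom _ _).comm n
    · intro s
      apply FSch.Hom.ext
      funext n
      exact (h n).lift_fst _ _ _
    · intro s
      apply FSch.Hom.ext
      funext n
      exact (h n).lift_snd _ _ _
    · intro s m h1 h2
      apply FSch.Hom.ext
      funext n
      apply (h n).hom_ext
      · rw [(h n).lift_fst]
        exact congrArg (fun (t : FSch.Hom _ _) => t.app n) h1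
      · rw [(h n).lift_snd]
        exact congrArg (fun (t : FSch.Hom _ _) => t.app n) h2

end Levelwise

end Groth.Agent.Lib.Helper1
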