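import Groth.Agent.Lib.Helper1.FPB14
import Groth.Agent.Lib.Helper1.BU1
import Groth.Agent.Lib.Helper1.BU2
import Groth.Agent.Lib.Helper1.FSchBasic
import Groth.Agent.Lib.Helper25.BlowUpLocal

/-!
# A Ferrand pushout along an effective Cartier divisor is a blowing up (helper1)

Let `i : Z ⟶ X` be a closed immersion with effective Cartier ideal, `j : Z ⟶ Y` integral and
`(i, j, a', b')` a pushout of schemes glued from charts (`Covering i j`), with `b'` a closed
immersion. Then `a'` is the blowing up of the ideal of `b'`, the inverse image of that ideal is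
the ideal of `i`, and the infinitesimal neighbourhoods of `Y` in the pushout are flat over any
base over which `X`, `Y`, `Z` are flat.
-/

set_option autoImplicit false
set_option linter.unusedSectionVars false
set_option linter.unusedVariables false
set_option linter.style.haveILetI false
universe u

noncomputable section

namespace Groth.Agent.Lib.Helper1.FP

open AlgebraicGeometry CategoryTheory CategoryTheory.Limits TopologicalSpace Opposite
open Groth.Agent.Lib.Helper25.BlowUpUP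

/-- the kernel of `Spec.map f` as a `specIdeal` -/
theorem ker_SpecMap_specIdeal {R B : Type u} [CommRing R] [CommRing B] (f : R →+* B) :
    (Spec.map (CommRingCat.ofHom f)).ker = specIdeal (RingHom.ker f) := by
  rw [Groth.Agent.Lib.Helper1.ker_SpecMap]
  congr 1
  let e : Γ(Spec (CommRingCat.of R), ⊤) ≃+* R :=
    (Scheme.ΓSpecIso (CommRingCat.of R)).commRingCatIsoToRingEquiv
  change (RingHom.ker f).comap e = (RingHom.ker f).map e.symm
  rw [Ideal.map_symm]

/-- in a cartesian square over a closed immersion, the kernel is the inverse image ideal -/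
theorem ker_eq_comap_of_isPullback {Z X Y P : Scheme.{u}} {i : Z ⟶ X} {j : Z ⟶ Y} {a : X ⟶ P}
    {b : Y ⟶ P} [IsClosedImmersion b] (h : IsPullback i j a b) : i.ker = b.ker.comap a := by
  rw [← Scheme.IdealSheafData.ker_fst_of_isClosedImmersion b a, ← h.isoPullback_hom_fst,
    Scheme.Hom.ker_comp_of_isIso]

/-- the infinitesimal neighbourhoods of an effective Cartier divisor which is flat over a base
are flat over the base -/
theorem flat_of_ker_eq_pow {X Z S Zn : Scheme.{u}} (i : Z ⟶ X) [IsClosedImmersion i]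
    (hι : BlowUp.IsEffCartierIdeal i.ker) (f : X ⟶ S) [Flat (i ≫ f)] (n : ℕ)
    (σ : Zn ⟶ X) [IsClosedImmersion σ] (hσ : σ.ker = i.ker ^ n) : Flat (σ ≫ f) := by
  rw [HasRingHomProperty.iff_exists_appLE (P := @Flat)
    (RingHom.Flat.stableUnderComposition.stableUnderCompositionWithLocalizationAway
      RingHom.Flat.holdsForLocalizationAway).left]
  intro z
  obtain ⟨U₀, hxU₀, t₀, ht₀, hI₀⟩ := hι (σ z)
  obtain ⟨W, hW, hxW, -⟩ := exists_isAffineOpen_mem_and_subset (x := f (σ z)) (U := ⊤) trivial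
  obtain ⟨U, hxU, hUW, hUU₀⟩ := exists_affineOpens_le_preimage f (σ z) W hxW U₀.1 hxU₀
  obtain ⟨ht, hI⟩ := principal_of_le i.ker (show U ≤ U₀ from hUU₀) t₀ ht₀ hI₀
  have hV : IsAffineOpen (σ ⁻¹ᵁ U.1) := U.2.preimage σ
  have hle : σ ⁻¹ᵁ U.1 ≤ (σ ≫ f) ⁻¹ᵁ W := fun y hy => hUW hy
  refine ⟨⟨W, hW⟩, ⟨σ ⁻¹ᵁ U.1, hV⟩, hxU, hle, ?_⟩
  have h4 : (σ ≫ f).appLE W (σ ⁻¹ᵁ U.1) hle = f.appLE W U.1 hUW ≫ σ.app U.1 := by
    rw [Scheme.Hom.app_eq_appLE]
    exact (appLE_comp_eq' rfl _ _ _ _ _ _).symm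
  rw [h4]
  have hiW : i ⁻¹ᵁ U.1 ≤ (i ≫ f) ⁻¹ᵁ W := fun y hy => hUW hy
  have hC := Scheme.Hom.flat_appLE (i ≫ f) hW (U.2.preimage i) hiW
  have h5 : (i ≫ f).appLE W (i ⁻¹ᵁ U.1) hiW = f.appLE W U.1 hUW ≫ i.app U.1 := by
    rw [Scheme.Hom.app_eq_appLE]
    exact (appLE_comp_eq' rfl _ _ _ _ _ _).symm
  rw [h5] at hC
  have hki := (Scheme.Hom.ker_apply i U).symm.trans hI
  have hkσ := (Scheme.Hom.ker_apply σ U).symm
  rw [hσ, Scheme.IdealSheafData.ideal_pow, Pi.pow_apply, hI, Ideal.span_singleton_pow] at hkσ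
  exact BU.flat_quot_pow (f.appLE W U.1 hUW).hom _ ht (i.app U.1).hom
    (i.app_surjective U.1 U.2) hki hC n _ (σ.app U.1).hom (σ.app_surjective U.1 U.2) hkσ

namespace PO

variable {X Y Z : Scheme.{u}} {i : Z ⟶ X} {j : Z ⟶ Y} [IsClosedImmersion i]
  (hc : Covering i j) {P' : Scheme.{u}} {a' : X ⟶ P'} {b' : Y ⟶ P'} (hP : IsPushout i j a' b')

/-- the comparison isomorphism from the glued pushout -/
def eP : P i j ≅ P' := (isPushout_toP hc).isoIsPushout _ _ hP

lemma toP₁_eP : toP₁ hc ≫ (eP hc hP).hom = a' :=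
  (isPushout_toP hc).inl_isoIsPushout_hom _ _ hP

lemma toP₂_eP : toP₂ hc ≫ (eP hc hP).hom = b' :=
  (isPushout_toP hc).inr_isoIsPushout_hom _ _ hP

/-- the charts of the pushout -/
def κ (α : Chart i j) : α.spec ⟶ P' := ι i j α ≫ (eP hc hP).hom

instance (α : Chart i j) : IsOpenImmersion (κ hc hP α) := by
  unfold κ; infer_instance

lemma isPullback_κa (α : Chart i j) : IsPullback α.a α.U.ι (κ hc hP α) a' := by
  refine (isPullback_a hc α).of_iso (Iso.refl _) (Iso.refl _) (Iso.refl _) (eP hc hP) ?_ ?_ ?_ ?_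
  · simp
  · simp
  · simp [κ]
  · simp [toP₁_eP hc hP]

lemma isPullback_κb (α : Chart i j) : IsPullback α.b α.V.ι (κ hc hP α) b' := by
  refine (isPullback_b hc α).of_iso (Iso.refl _) (Iso.refl _) (Iso.refl _) (eP hc hP) ?_ ?_ ?_ ?_
  · simp
  · simp
  · simp [κ]
  · simp [toP₂_eP hc hP]

include hc hP in
lemma isPullback_sq : IsPullback i j a' b' := by
  refine (isPullback_toP hc).of_iso (Iso.refl _) (Iso.refl _) (Iso.refl _) (eP hc hP) ?_ ?_ ?_ ?_
  · simp
  · simp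
  · simp [toP₁_eP hc hP]
  · simp [toP₂_eP hc hP]

lemma a_κ (α : Chart i j) : α.a ≫ κ hc hP α = α.U.ι ≫ a' := (isPullback_κa hc hP α).w

lemma b_κ (α : Chart i j) : α.b ≫ κ hc hP α = α.V.ι ≫ b' := (isPullback_κb hc hP α).w

lemma κ_a_apply (α : Chart i j) (x : α.U) : κ hc hP α (α.a x) = a' x.1 := by
  have := congr($(a_κ hc hP α) x)
  rw [Scheme.Hom.comp_apply, Scheme.Hom.comp_apply] at this
  exact this

lemma κ_b_apply (α : Chart i j) (y : α.V) : κ hc hP α (α.b y) = b' y.1 := by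
  have := congr($(b_κ hc hP α) y)
  rw [Scheme.Hom.comp_apply, Scheme.Hom.comp_apply] at this
  exact this

/-- the affine open of the pushout attached to a chart -/
abbrev O (α : Chart i j) : P'.Opens := (κ hc hP α).opensRange

lemma hO (α : Chart i j) : IsAffineOpen (O hc hP α) := isAffineOpen_opensRange _

lemma U_le (α : Chart i j) : α.U ≤ a' ⁻¹ᵁ O hc hP α :=
  fun x hx => ⟨α.a ⟨x, hx⟩, κ_a_apply hc hP α ⟨x, hx⟩⟩

lemma V_le (α : Chart i j) : α.V ≤ b' ⁻¹ᵁ O hc hP α :=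
  fun y hy => ⟨α.b ⟨y, hy⟩, κ_b_apply hc hP α ⟨y, hy⟩⟩

lemma preimage_b (α : Chart i j) : b' ⁻¹ᵁ O hc hP α = α.V := by
  ext y
  constructor
  · rintro ⟨q, hq⟩
    obtain ⟨v, -, hv⟩ := Scheme.exists_preimage_of_isPullback (isPullback_κb hc hP α) q y hq
    rw [← hv]; exact v.2
  · intro hy
    exact V_le hc hP α hy

lemma ker_appLE_b (α : Chart i j) :
    RingHom.ker (b'.appLE (O hc hP α) α.V (V_le hc hP α)).hom =
      RingHom.ker (b'.app (O hc hP α)).hom := by
  have hbij := bijective_res_of_eq (preimage_b hc hP α).symm (V_le hc hP α)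
  have : (b'.appLE (O hc hP α) α.V (V_le hc hP α)).hom =
      (Y.presheaf.map (homOfLE (V_le hc hP α)).op).hom.comp (b'.app (O hc hP α)).hom := rfl
  rw [this]
  exact RingHom.ker_comp_of_injective _ hbij.1

/-- the sections of the pushout over a chart are the fibre product ring -/
theorem ρ_bijective (α : Chart i j) :
    Function.Bijective (ρ hP.w α (O hc hP α) (U_le hc hP α) (V_le hc hP α)) := by
  have h1 : descα hP.w α (O hc hP α) (hO hc hP α) (U_le hc hP α) (V_le hc hP α) = κ hc hP α := by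
    refine α.hom_ext_of_le (O hc hP α) (hO hc hP α) _ _ ?_ ?_ ?_ ?_
    · rw [a_descα, a_κ]
    · rw [b_descα, b_κ]
    · intro x
      rw [a_descα, Scheme.Hom.comp_apply]
      exact U_le hc hP α x.2
    · intro y
      rw [b_descα, Scheme.Hom.comp_apply]
      exact V_le hc hP α y.2
  have hr : Set.range ⇑(κ hc hP α) = Set.range ⇑(hO hc hP α).fromSpec := by
    rw [IsAffineOpen.range_fromSpec]; rfl
  let e := IsOpenImmersion.isoOfRangeEq (κ hc hP α) (hO hc hP α).fromSpec hr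
  have he : e.hom ≫ (hO hc hP α).fromSpec = κ hc hP α :=
    IsOpenImmersion.isoOfRangeEq_hom_fac _ _ _
  have h2 : Spec.map (CommRingCat.ofHom
      (ρ hP.w α (O hc hP α) (U_le hc hP α) (V_le hc hP α))) = e.hom := by
    rw [← cancel_mono (hO hc hP α).fromSpec, he, ← h1]; rfl
  haveI : IsIso (Spec.map (CommRingCat.ofHom
      (ρ hP.w α (O hc hP α) (U_le hc hP α) (V_le hc hP α)))) := by rw [h2]; infer_instance
  haveI : IsIso (CommRingCat.ofHom (ρ hP.w α (O hc hP α) (U_le hc hP α) (V_le hc hP α))) := by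
    have h3 : IsIso (Scheme.Spec.map (CommRingCat.ofHom
        (ρ hP.w α (O hc hP α) (U_le hc hP α) (V_le hc hP α))).op) := ‹_›
    have : IsIso (CommRingCat.ofHom
        (ρ hP.w α (O hc hP α) (U_le hc hP α) (V_le hc hP α))).op :=
      isIso_of_reflects_iso _ Scheme.Spec
    exact isIso_of_op _
  exact ConcreteCategory.bijective_of_isIso
    (CommRingCat.ofHom (ρ hP.w α (O hc hP α) (U_le hc hP α) (V_le hc hP α)))

lemma κ_jointly_surjective (p : P') : ∃ (α : Chart i j) (q : α.spec), κ hc hP α q = p := by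
  obtain ⟨α, q, hq⟩ := ι_jointly_surjective ((eP hc hP).inv p)
  refine ⟨α, q, ?_⟩
  rw [κ, Scheme.Hom.comp_apply, hq, ← Scheme.Hom.comp_apply, Iso.inv_hom_id]; rfl

/-- the cover of the pushout by its charts -/
def coverκ : P'.OpenCover where
  I₀ := Chart i j
  X α := α.spec
  f α := κ hc hP α
  mem₀ := by
    rw [Scheme.presieve₀_mem_precoverage_iff]
    refine ⟨fun p => ?_, fun α => inferInstanceAs (IsOpenImmersion (κ hc hP α))⟩
    obtain ⟨α, q, hq⟩ := κ_jointly_surjective hc hP p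
    exact ⟨α, q, hq⟩

include hc hP in
/-- the inverse image of the ideal of `Y` is the ideal of `Z` -/
theorem comap_ker [IsClosedImmersion b'] : b'.ker.comap a' = i.ker :=
  (ker_eq_comap_of_isPullback (isPullback_sq hc hP)).symm

/-- the ideal of `Y` on a chart -/
theorem comap_κ [IsClosedImmersion b'] (α : Chart i j) :
    b'.ker.comap (κ hc hP α) = specIdeal (RingHom.ker α.p₂) := by
  rw [← ker_eq_comap_of_isPullback (isPullback_κb hc hP α)]
  unfold Chart.b
  rw [Scheme.Hom.ker_comp_of_isIso, ker_SpecMap_specIdeal]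

include hc hP in
/-- **The pushout is a blowing up.** -/
theorem isBlowUp [IsClosedImmersion b'] (hι : BlowUp.IsEffCartierIdeal i.ker) :
    BlowUp.IsBlowUp a' b'.ker := by
  have h3 : b'.ker.comap a' = i.ker := comap_ker hc hP
  refine isBlowUp_of_isPullback_cover a' b'.ker (coverκ hc hP)
    (fun α : Chart i j => (α.U : Scheme.{u})) (fun α : Chart i j => α.a)
    (fun α : Chart i j => α.U.ι) (fun α => isPullback_κa hc hP α) (fun α => ?_)
  change BlowUp.IsBlowUp (Chart.a α) (b'.ker.comap (κ hc hP α))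
  have hk := comap_κ hc hP α
  have hE : BlowUp.IsEffCartierIdeal ((specIdeal (RingHom.ker (Chart.p₂ α))).comap (Chart.a α)) := by
    rw [← hk, ← Scheme.IdealSheafData.comap_comp, a_κ, Scheme.IdealSheafData.comap_comp, h3]
    exact isEffCartierIdeal_comap_of_flat _ _ hι
  rw [hk]
  refine isBlowUp_iso_comp (Spec.map (CommRingCat.ofHom (Chart.p₁ α))) _ (Chart.hU α).isoSpec ?_
  refine BU.isBlowUp_SpecMap (Chart.p₁ α) (RingHom.ker (Chart.p₂ α)) ?_ ?_ ?_
  · intro a x hx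
    have hx2 : Chart.p₂ α x = 0 := RingHom.mem_ker.mp hx
    have hφx : Chart.φ α (Chart.p₁ α x) = 0 := by
      rw [FibProd.condition_apply, hx2, map_zero]
    refine ⟨FibProd.mk (a * Chart.p₁ α x) 0 (by rw [map_mul, hφx, mul_zero, map_zero]), ?_, ?_⟩
    · exact RingHom.mem_ker.mpr (FibProd.snd_mk _ _ _)
    · exact FibProd.fst_mk _ _ _
  · intro x hx h0
    exact FibProd.ext' (by rw [h0, map_zero]) (by rw [RingHom.mem_ker.mp hx, map_zero])
  · have e5 : Spec.map (CommRingCat.ofHom (Chart.p₁ α)) = (Chart.hU α).isoSpec.inv ≫ Chart.a α := by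
      rw [Chart.a, Iso.inv_hom_id_assoc]
    rw [e5, Scheme.IdealSheafData.comap_comp]
    exact isEffCartierIdeal_comap_of_flat _ _ hE

include hc hP in
/-- **The infinitesimal neighbourhoods of `Y` in the pushout are flat over the base.** -/
theorem flat_pow {S Zn : Scheme.{u}} [IsClosedImmersion b'] (hι : BlowUp.IsEffCartierIdeal i.ker)
    (sX : P' ⟶ S) [Flat (a' ≫ sX)] [Flat (b' ≫ sX)] [Flat (i ≫ a' ≫ sX)] (n : ℕ) (hn : 1 ≤ n)
    (σ : Zn ⟶ P') [IsClosedImmersion σ] (hσ : σ.ker = b'.ker ^ n) : Flat (σ ≫ sX) := by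
  have w : i ≫ (a' ≫ sX) = j ≫ (b' ≫ sX) := by rw [← Category.assoc, hP.w, Category.assoc]
  rw [HasRingHomProperty.iff_exists_appLE (P := @Flat)
    (RingHom.Flat.stableUnderComposition.stableUnderCompositionWithLocalizationAway
      RingHom.Flat.holdsForLocalizationAway).left]
  intro z
  obtain ⟨α, ⟨W, hW, h1, h2⟩, s, hs⟩ := exists_good_ι_eq w ((eP hc hP).inv (σ z))
  have hs' : κ hc hP α s = σ z := by
    rw [κ, Scheme.Hom.comp_apply, hs, ← Scheme.Hom.comp_apply, Iso.inv_hom_id]; rfl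
  have hOW : O hc hP α ≤ sX ⁻¹ᵁ W := by
    rintro _ ⟨s', rfl⟩
    obtain ⟨x, rfl⟩ | ⟨y, rfl⟩ := α.exists_a_or_b s'
    · change sX (κ hc hP α (α.a x)) ∈ W
      rw [κ_a_apply]; exact h1 x.2
    · change sX (κ hc hP α (α.b y)) ∈ W
      rw [κ_b_apply]; exact h2 y.2
  have hV : IsAffineOpen (σ ⁻¹ᵁ O hc hP α) := (hO hc hP α).preimage σ
  have hle : σ ⁻¹ᵁ O hc hP α ≤ (σ ≫ sX) ⁻¹ᵁ W := fun y hy => hOW hy
  refine ⟨⟨W, hW⟩, ⟨σ ⁻¹ᵁ O hc hP α, hV⟩, ⟨s, hs'⟩, hle, ?_⟩
  have h4 : (σ ≫ sX).appLE W (σ ⁻¹ᵁ O hc hP α) hle =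
      sX.appLE W (O hc hP α) hOW ≫ σ.app (O hc hP α) := by
    rw [Scheme.Hom.app_eq_appLE]
    exact (appLE_comp_eq' rfl _ _ _ _ _ _).symm
  rw [h4]
  have hbij := ρ_bijective hc hP α
  have hWle : α.W ≤ (i ≫ a' ≫ sX) ⁻¹ᵁ W := fun z hz => h1 hz
  haveI : Flat ((i.ker ^ n).subschemeι ≫ a' ≫ sX) :=
    flat_of_ker_eq_pow i hι (a' ≫ sX) n (i.ker ^ n).subschemeι
      (Scheme.IdealSheafData.ker_subschemeι _)
  have hXn : (i.ker ^ n).subschemeι ⁻¹ᵁ α.U ≤ ((i.ker ^ n).subschemeι ≫ a' ≫ sX) ⁻¹ᵁ W :=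
    fun y hy => h1 hy
  refine BU.flat_quot_fibProd (sX.appLE W (O hc hP α) hOW).hom
    (a'.appLE (O hc hP α) α.U (U_le hc hP α)).hom (b'.appLE (O hc hP α) α.V (V_le hc hP α)).hom
    α.φ α.ψ
    (congrArg CommRingCat.Hom.hom
      (appLE_comp_eq hP.w (O hc hP α) α.U α.V α.W (U_le hc hP α) α.W_le' (V_le hc hP α) α.W_le))
    α.φ_surjective
    (fun a b hab => by
      obtain ⟨r, hr⟩ := hbij.2 (FibProd.mk a b hab)
      exact ⟨r, congrArg (FibProd.fst α.φ α.ψ) hr, congrArg (FibProd.snd α.φ α.ψ) hr⟩)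
    (fun r h1 h2 => by
      apply hbij.1
      rw [map_zero]
      exact FibProd.ext' h1 h2)
    n hn (σ.app (O hc hP α)).hom (σ.app_surjective _ (hO hc hP α)) ?_
    ((i.ker ^ n).subschemeι.app α.U).hom ((i.ker ^ n).subschemeι.app_surjective _ α.hU)
    ?_ ?_ ?_ ?_
  · have e1 := Scheme.Hom.ker_apply σ ⟨O hc hP α, hO hc hP α⟩
    rw [hσ, Scheme.IdealSheafData.ideal_pow, Pi.pow_apply,
      Scheme.Hom.ker_apply b' ⟨O hc hP α, hO hc hP α⟩] at e1
    rw [ker_appLE_b]; exact e1.symm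
  · have e3 : RingHom.ker (i.app α.U).hom = RingHom.ker α.φ := by
      rw [Scheme.Hom.app_eq_appLE]; rfl
    have e4 := Scheme.Hom.ker_apply (i.ker ^ n).subschemeι ⟨α.U, α.hU⟩
    rw [Scheme.IdealSheafData.ker_subschemeι, Scheme.IdealSheafData.ideal_pow, Pi.pow_apply,
      Scheme.Hom.ker_apply i ⟨α.U, α.hU⟩] at e4
    rw [← e3]; exact e4.symm
  · have h3 := Scheme.Hom.flat_appLE ((i.ker ^ n).subschemeι ≫ a' ≫ sX) hW
      (α.hU.preimage (i.ker ^ n).subschemeι) hXn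
    have h5 : ((i.ker ^ n).subschemeι ≫ a' ≫ sX).appLE W ((i.ker ^ n).subschemeι ⁻¹ᵁ α.U) hXn =
        sX.appLE W (O hc hP α) hOW ≫ a'.appLE (O hc hP α) α.U (U_le hc hP α) ≫
          (i.ker ^ n).subschemeι.app α.U := by
      rw [Scheme.Hom.app_eq_appLE, Scheme.Hom.appLE_comp_appLE, Scheme.Hom.appLE_comp_appLE]
      exact appLE_congr_hom (Category.assoc _ _ _).symm _ _ _ _
    rw [h5] at h3
    exact h3
  · have h3 := Scheme.Hom.flat_appLE (b' ≫ sX) hW α.hV h2
    have h5 : (b' ≫ sX).appLE W α.V h2 =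
        sX.appLE W (O hc hP α) hOW ≫ b'.appLE (O hc hP α) α.V (V_le hc hP α) :=
      (appLE_comp_eq' rfl _ _ _ _ _ _).symm
    rw [h5] at h3
    exact h3
  · have h3 := Scheme.Hom.flat_appLE (i ≫ a' ≫ sX) hW α.hW hWle
    have h5 : (i ≫ a' ≫ sX).appLE W α.W hWle =
        sX.appLE W (O hc hP α) hOW ≫ a'.appLE (O hc hP α) α.U (U_le hc hP α) ≫
          i.appLE α.U α.W α.W_le' := by
      rw [Scheme.Hom.appLE_comp_appLE, Scheme.Hom.appLE_comp_appLE]
      exact appLE_congr_hom (Category.assoc _ _ _).symm _ _ _ _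
    rw [h5] at h3
    exact h3

include hc hP in
/-- **Main theorem.** -/
theorem main {S : Scheme.{u}} [IsClosedImmersion b'] (hι : BlowUp.IsEffCartierIdeal i.ker)
    (sX : P' ⟶ S) [Flat (a' ≫ sX)] [Flat (b' ≫ sX)] [Flat (i ≫ a' ≫ sX)] :
    (∀ n : ℕ, 1 ≤ n → Flat ((b'.ker ^ n).subschemeι ≫ sX)) ∧
      BlowUp.IsBlowUp a' b'.ker ∧ b'.ker.comap a' = i.ker :=
  ⟨fun n hn => flat_pow hc hP hι sX n hn (b'.ker ^ n).subschemeι
      (Scheme.IdealSheafData.ker_subschemeι _),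
    isBlowUp hc hP hι, comap_ker hc hP⟩

end PO

end Groth.Agent.Lib.Helper1.FP
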