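import Mathlib
import Groth.Agent.Lib.Helper1.BU1
import Groth.Agent.Lib.Helper25.BlowUpLocal

/-!
# A finite birational morphism which is an isomorphism outside an effective Cartier divisor is a
blowing up (helper1)

Locally `Y = Spec B`, `X = Spec A`, `B ⊆ A ⊆ B_t`, `A` finite over `B`; then `t^N A ⊆ B` for large
`N` and `t^N A` is an ideal of both rings, so `Spec A → Spec B` is the blowing up of `t^N A`
(`BU.isBlowUp_SpecMap`). Globally the centre is `O_Y ∩ L^N · f_* O_X`.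
-/

set_option autoImplicit false
set_option linter.unusedSectionVars false
set_option linter.unusedVariables false
set_option linter.style.haveILetI false
universe u

noncomputable section

namespace Groth.Agent.Lib.Helper1.BU

open CategoryTheory CategoryTheory.Limits AlgebraicGeometry TopologicalSpace Opposite
open Groth.Agent.Lib.Helper25.BlowUpUP

variable {X Y : Scheme.{u}}

lemma bijective_res_of_eq' {Z : Scheme.{u}} {W₁ W₂ : Z.Opens} (h : W₂ = W₁) (hle : W₂ ≤ W₁) :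
    Function.Bijective (Z.presheaf.map (homOfLE hle).op).hom := by
  subst h
  have : Z.presheaf.map (homOfLE hle).op = 𝟙 _ := by
    rw [show homOfLE hle = 𝟙 _ from rfl, op_id, Z.presheaf.map_id]
  rw [this]
  exact Function.bijective_id

/-- sections over opens inside an open over which `f` is an isomorphism -/
theorem isIso_app_of_le (f : X ⟶ Y) (V₀ : Y.Opens) [IsIso (f ∣_ V₀)] (D : Y.Opens)
    (hD : D ≤ V₀) : IsIso (f.app D) := by
  have h1 : V₀.ι ''ᵁ V₀.ι ⁻¹ᵁ D = D := by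
    rw [Scheme.Hom.image_preimage_eq_opensRange_inf, Scheme.Opens.opensRange_ι]
    exact inf_eq_right.mpr hD
  have h2 : IsIso ((f ∣_ V₀).app (V₀.ι ⁻¹ᵁ D)) := inferInstance
  rw [morphismRestrict_app] at h2
  have h4 : IsIso (X.presheaf.map
      (eqToHom (image_morphismRestrict_preimage f V₀ (V₀.ι ⁻¹ᵁ D))).op) := by
    rw [eqToHom_op, eqToHom_map]; infer_instance
  have h3 : IsIso (f.app (V₀.ι ''ᵁ V₀.ι ⁻¹ᵁ D)) :=
    @IsIso.of_isIso_comp_right _ _ _ _ _ _ _ h4 h2
  rw [h1] at h3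
  exact h3

/-- the inverse image of an ideal sheaf on an affine open, as a `specIdeal` -/
theorem comap_fromSpec (𝓘 : Y.IdealSheafData) {U : Y.Opens} (hU : IsAffineOpen U) :
    𝓘.comap hU.fromSpec = specIdeal (𝓘.ideal ⟨U, hU⟩) := by
  refine Scheme.IdealSheafData.ext_of_isAffine ?_
  have e : (⊤ : (Spec Γ(Y, U)).Opens) ≤ hU.fromSpec ⁻¹ᵁ U := by
    rw [hU.fromSpec_preimage_self]
  rw [Groth.Agent.Lib.Helper1.ideal_comap 𝓘 hU.fromSpec ⟨⊤, isAffineOpen_top _⟩ ⟨U, hU⟩ e,
    Scheme.IdealSheafData.ofIdealTop_ideal]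
  have h0 : hU.fromSpec.appLE U ⊤ e = (Scheme.ΓSpecIso Γ(Y, U)).inv := by
    rw [Scheme.Hom.appLE, hU.fromSpec_app_self, Category.assoc, ← Functor.map_comp]
    have h1 : ((eqToHom hU.fromSpec_preimage_self).op ≫ (homOfLE e).op :
        op (⊤ : (Spec Γ(Y, U)).Opens) ⟶ op ⊤) = 𝟙 _ := Subsingleton.elim _ _
    rw [h1, CategoryTheory.Functor.map_id, Category.comp_id]
  have e2 : ∀ (h : (⊤ : (Spec Γ(Y, U)).Opens) ≤ ⊤),
      (Spec Γ(Y, U)).presheaf.map (homOfLE h).op = 𝟙 _ := by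
    intro h
    rw [show homOfLE h = 𝟙 _ from Subsingleton.elim _ _, op_id, CategoryTheory.Functor.map_id]
  rw [Ideal.map_map]
  congr 1
  rw [h0]
  ext x
  exact (congrArg (fun φ => φ.hom ((Scheme.ΓSpecIso Γ(Y, U)).inv.hom x)) (e2 _)).symm

/-- the ideal `O_Y ∩ 𝓚 · f_* O_X` on an affine open -/
theorem ideal_map_comap (𝓚 : Y.IdealSheafData) (f : X ⟶ Y) [IsAffineHom f] (U : Y.affineOpens) :
    ((𝓚.comap f).map f).ideal U =
      ((𝓚.ideal U).map (f.app U.1).hom).comap (f.app U.1).hom := by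
  rw [Scheme.IdealSheafData.ideal_map_of_isAffineHom,
    Groth.Agent.Lib.Helper1.ideal_comap 𝓚 f ⟨_, U.2.preimage f⟩ U le_rfl,
    Scheme.Hom.appLE_eq_app]

/-- local algebra of a finite birational morphism over an affine open where `L` is principal -/
theorem local_data [IsReduced X] (f : X ⟶ Y) [IsFinite f] (L : Y.IdealSheafData)
    (hiso : IsIso (f ∣_ L.support.compl))
    (hdense : Dense (f.base ⁻¹' ((L.support : Set Y)ᶜ)))
    (U : Y.affineOpens) (t : Γ(Y, U.1)) (ht : t ∈ nonZeroDivisors Γ(Y, U.1))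
    (hI : L.ideal U = Ideal.span {t}) :
    Function.Injective (f.app U.1).hom ∧
      (f.app U.1).hom t ∈ nonZeroDivisors Γ(X, f ⁻¹ᵁ U.1) ∧
      ∃ N : ℕ, ∀ a : Γ(X, f ⁻¹ᵁ U.1), ∃ b : Γ(Y, U.1),
        (f.app U.1).hom b = (f.app U.1).hom t ^ N * a := by
  haveI := hiso
  have hDV : Y.basicOpen t ≤ L.support.compl :=
    fun y hy => notMem_support_of_mem_basicOpen L U t hI y hy
  haveI : IsIso (f.app (Y.basicOpen t)) := isIso_app_of_le f _ _ hDV
  have h_eq : f ⁻¹ᵁ Y.basicOpen t = X.basicOpen ((f.app U.1).hom t) :=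
    Scheme.preimage_basicOpen f t
  have hDD' : X.basicOpen ((f.app U.1).hom t) ≤ f ⁻¹ᵁ Y.basicOpen t := h_eq.ge
  have hDU : Y.basicOpen t ≤ U.1 := Y.basicOpen_le t
  have hD'U : X.basicOpen ((f.app U.1).hom t) ≤ f ⁻¹ᵁ U.1 := X.basicOpen_le _
  let γ := f.appLE (Y.basicOpen t) (X.basicOpen ((f.app U.1).hom t)) hDD'
  have hγ : Function.Bijective γ.hom := by
    have h1 : Function.Bijective (f.app (Y.basicOpen t)).hom :=
      ConcreteCategory.bijective_of_isIso (f.app (Y.basicOpen t))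
    have h2 := bijective_res_of_eq' h_eq.symm hDD'
    exact h2.comp h1
  let resY := Y.presheaf.map (homOfLE hDU).op
  let resX := X.presheaf.map (homOfLE hD'U).op
  let c := f.appLE U.1 (X.basicOpen ((f.app U.1).hom t)) hD'U
  have e1 : resY ≫ γ = c := Scheme.Hom.map_appLE f hDD' (homOfLE hDU).op
  have e2 : f.app U.1 ≫ resX = c := by
    have h := Scheme.Hom.appLE_map f (le_refl (f ⁻¹ᵁ U.1)) (homOfLE hD'U).op
    rw [Scheme.Hom.appLE_eq_app] at h
    exact h
  have hY : ∀ b, γ.hom (resY.hom b) = c.hom b := fun b => congrArg (fun φ => φ.hom b) e1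
  have hX : ∀ a, resX.hom ((f.app U.1).hom a) = c.hom a := fun a => congrArg (fun φ => φ.hom a) e2
  -- injectivity
  have hinj : Function.Injective (f.app U.1).hom := by
    rw [injective_iff_map_eq_zero]
    intro b hb
    have h1 : γ.hom (resY.hom b) = 0 := by rw [hY, ← hX, hb, map_zero]
    have h2 : resY.hom b = 0 := hγ.1 (h1.trans (map_zero _).symm)
    obtain ⟨n, hn⟩ :=
      exists_pow_mul_eq_zero_of_res_basicOpen_eq_zero_of_isAffineOpen Y U.2 b t h2
    exact (mem_nonZeroDivisors_iff_right.1 (pow_mem ht n)) b (by rw [mul_comm]; exact hn)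
  -- the image of `t` is a nonzerodivisor
  have hnzd : (f.app U.1).hom t ∈ nonZeroDivisors Γ(X, f ⁻¹ᵁ U.1) := by
    rw [mem_nonZeroDivisors_iff_right]
    intro a ha
    rw [← basicOpen_eq_bot_iff]
    by_contra hne
    obtain ⟨x, hx⟩ := (TopologicalSpace.Opens.ne_bot_iff_nonempty _).mp hne
    obtain ⟨x', hx'1, hx'2⟩ := hdense.exists_mem_open (X.basicOpen a).2 ⟨x, hx⟩
    have hx'U : f x' ∈ U.1 := X.basicOpen_le a hx'2
    have hx't : f x' ∈ Y.basicOpen t := by
      by_contra hnt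
      apply hx'1
      change f x' ∈ L.support
      rw [Scheme.IdealSheafData.mem_support_iff_of_mem hx'U, Scheme.mem_zeroLocus_iff]
      intro g hg hfg
      rw [SetLike.mem_coe, hI] at hg
      obtain ⟨c', rfl⟩ := Ideal.mem_span_singleton'.1 hg
      rw [Scheme.basicOpen_mul] at hfg
      exact hnt hfg.2
    have h1 : x' ∈ X.basicOpen ((f.app U.1).hom t) := by
      rw [← h_eq]; exact hx't
    have h2 : x' ∈ X.basicOpen (a * (f.app U.1).hom t) := by
      rw [Scheme.basicOpen_mul]; exact ⟨hx'2, h1⟩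
    rw [ha, Scheme.basicOpen_zero] at h2
    exact h2
  -- every section becomes a section of `Y` after multiplication by a power of `t`
  have hloc : ∀ a : Γ(X, f ⁻¹ᵁ U.1), ∃ (m : ℕ) (b : Γ(Y, U.1)),
      (f.app U.1).hom b = (f.app U.1).hom t ^ m * a := by
    intro a
    obtain ⟨β, hβ⟩ := hγ.2 (resX.hom a)
    obtain ⟨n, b₀, hb₀⟩ := exists_eq_pow_mul_of_isAffineOpen Y U.1 U.2 t β
    have hb₀' : resY.hom b₀ = resY.hom t ^ n * β := hb₀
    have h1 : resX.hom ((f.app U.1).hom b₀ - (f.app U.1).hom t ^ n * a) = 0 := by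
      rw [map_sub, map_mul, map_pow, hX, hX, ← hY, ← hY, hb₀', map_mul, map_pow, hβ, sub_self]
    obtain ⟨k, hk⟩ := exists_pow_mul_eq_zero_of_res_basicOpen_eq_zero_of_isAffineOpen X
      (U.2.preimage f) _ ((f.app U.1).hom t) h1
    refine ⟨k + n, t ^ k * b₀, ?_⟩
    rw [mul_sub, sub_eq_zero] at hk
    rw [map_mul, map_pow, hk, pow_add, mul_assoc]
  refine ⟨hinj, hnzd, ?_⟩
  -- a uniform exponent, by finiteness
  have hfin : (f.app U.1).hom.Finite := f.finite_app U.1 U.2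
  letI := (f.app U.1).hom.toAlgebra
  obtain ⟨S, hS⟩ := (hfin : Module.Finite Γ(Y, U.1) Γ(X, f ⁻¹ᵁ U.1)).fg_top
  choose m b hmb using hloc
  refine ⟨S.sup m, fun a => ?_⟩
  have ha : a ∈ Submodule.span Γ(Y, U.1) (S : Set Γ(X, f ⁻¹ᵁ U.1)) := by rw [hS]; trivial
  refine Submodule.span_induction ?_ ?_ ?_ ?_ ha
  · intro s hs
    have hle : m s ≤ S.sup m := Finset.le_sup hs
    refine ⟨t ^ (S.sup m - m s) * b s, ?_⟩
    rw [map_mul, map_pow, hmb, ← mul_assoc, ← pow_add, Nat.sub_add_cancel hle]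
  · exact ⟨0, by rw [map_zero, mul_zero]⟩
  · rintro x y _ _ ⟨bx, hbx⟩ ⟨by', hby⟩
    exact ⟨bx + by', by rw [map_add, hbx, hby, mul_add]⟩
  · rintro r x _ ⟨bx, hbx⟩
    refine ⟨r * bx, ?_⟩
    rw [map_mul, hbx, Algebra.smul_def]
    change (f.app U.1).hom r * _ = _ * ((f.app U.1).hom r * x)
    ring

/-- the data making `f` a blowing up of `O_Y ∩ L^N f_* O_X` over the affine open `U` -/
def Good (f : X ⟶ Y) (L : Y.IdealSheafData) (N : ℕ) (U : Y.affineOpens) : Prop :=
  ∃ t : Γ(Y, U.1), t ∈ nonZeroDivisors Γ(Y, U.1) ∧ L.ideal U = Ideal.span {t} ∧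
    Function.Injective (f.app U.1).hom ∧
    (f.app U.1).hom t ∈ nonZeroDivisors Γ(X, f ⁻¹ᵁ U.1) ∧
    ∀ a : Γ(X, f ⁻¹ᵁ U.1), ∃ b : Γ(Y, U.1), (f.app U.1).hom b = (f.app U.1).hom t ^ N * a

lemma Good.mono {f : X ⟶ Y} {L : Y.IdealSheafData} {N N' : ℕ} {U : Y.affineOpens}
    (h : Good f L N U) (hN : N ≤ N') : Good f L N' U := by
  obtain ⟨t, ht, hI, hinj, hnzd, hN'⟩ := h
  refine ⟨t, ht, hI, hinj, hnzd, fun a => ?_⟩
  obtain ⟨b, hb⟩ := hN' a
  refine ⟨t ^ (N' - N) * b, ?_⟩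
  rw [map_mul, map_pow, hb, ← mul_assoc, ← pow_add, Nat.sub_add_cancel hN]

/-- over a good affine open, `f` is the blowing up of `O_Y ∩ L^N f_* O_X` -/
theorem Good.isBlowUp {f : X ⟶ Y} [IsAffineHom f] {L : Y.IdealSheafData} {N : ℕ}
    {U : Y.affineOpens} (h : Good f L N U) :
    BlowUp.IsBlowUp (Spec.map (CommRingCat.ofHom (f.app U.1).hom))
      (specIdeal ((((L ^ N).comap f).map f).ideal U)) := by
  obtain ⟨t, ht, hI, hinj, hnzd, hN⟩ := h
  have hJ : (((L ^ N).comap f).map f).ideal U =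
      Ideal.comap (f.app U.1).hom (Ideal.span {(f.app U.1).hom t ^ N}) := by
    rw [ideal_map_comap, Scheme.IdealSheafData.ideal_pow, Pi.pow_apply, hI,
      Ideal.span_singleton_pow, Ideal.map_span, Set.image_singleton, map_pow]
  rw [hJ]
  have htJ : t ^ N ∈ Ideal.comap (f.app U.1).hom (Ideal.span {(f.app U.1).hom t ^ N}) := by
    rw [Ideal.mem_comap, map_pow]
    exact Ideal.mem_span_singleton_self _
  refine isBlowUp_SpecMap (f.app U.1).hom _ ?_ ?_ ?_
  · intro a x hx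
    rw [Ideal.mem_comap] at hx
    obtain ⟨c, hc⟩ := Ideal.mem_span_singleton'.1 hx
    obtain ⟨b, hb⟩ := hN (a * c)
    refine ⟨b, ?_, ?_⟩
    · rw [Ideal.mem_comap, hb]
      exact Ideal.mem_span_singleton'.2 ⟨a * c, mul_comm _ _⟩
    · rw [hb, ← hc]; ring
  · intro x _ hx0
    exact hinj (hx0.trans (map_zero _).symm)
  · refine isEffCartierIdeal_specIdeal_comap _ (f.app U.1).hom (t ^ N) ?_ ?_
    · apply le_antisymm
      · rw [map_pow]
        exact Ideal.map_comap_le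
      · rw [Ideal.span_singleton_le_iff_mem]
        exact Ideal.mem_map_of_mem _ htJ
    · rw [map_pow]
      exact pow_mem hnzd N

/-- the complement of the support of an effective Cartier ideal is dense -/
theorem dense_compl_support [IsReduced Y] (L : Y.IdealSheafData)
    (hL : BlowUp.IsEffCartierIdeal L) : Dense ((L.support : Set Y)ᶜ) := by
  rw [dense_iff_inter_open]
  rintro O hO ⟨y, hyO⟩
  obtain ⟨U, hyU, t, ht, hI⟩ := hL y
  obtain ⟨g, hgO, hyg⟩ := U.2.exists_basicOpen_le (V := ⟨O, hO⟩) ⟨y, hyO⟩ hyU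
  have hne : Y.basicOpen (g * t) ≠ ⊥ := by
    intro h0
    have h1 : g * t = 0 := (basicOpen_eq_bot_iff _).mp h0
    have h2 : g = 0 := (mem_nonZeroDivisors_iff_right.1 ht) g h1
    rw [h2, Scheme.basicOpen_zero] at hyg
    exact hyg
  obtain ⟨y', hy'⟩ := (TopologicalSpace.Opens.ne_bot_iff_nonempty _).mp hne
  have hy'2 : y' ∈ Y.basicOpen g ⊓ Y.basicOpen t := by
    rw [← Scheme.basicOpen_mul]; exact hy'
  exact ⟨y', hgO hy'2.1, notMem_support_of_mem_basicOpen L U t hI y' hy'2.2⟩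

/-- **A finite birational morphism which is an isomorphism outside an effective Cartier divisor is
a blowing up with centre supported on the divisor.** -/
theorem exists_isBlowUp_of_finite_birational [IsReduced X] [IsReduced Y] [CompactSpace Y]
    (f : X ⟶ Y) [IsFinite f] (L : Y.IdealSheafData) (hL : BlowUp.IsEffCartierIdeal L)
    (hiso : IsIso (f ∣_ L.support.compl))
    (hdense : Dense (f.base ⁻¹' ((L.support : Set Y)ᶜ))) :
    ∃ I : Y.IdealSheafData, I.support = L.support ∧ BlowUp.IsBlowUp f I := by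
  -- local data
  have hA : ∀ y : Y, ∃ U : Y.affineOpens, y ∈ U.1 ∧ ∃ N, Good f L N U := by
    intro y
    obtain ⟨U, hyU, t, ht, hI⟩ := hL y
    obtain ⟨hinj, hnzd, N, hN⟩ := local_data f L hiso hdense U t ht hI
    exact ⟨U, hyU, N, t, ht, hI, hinj, hnzd, hN⟩
  choose U hyU N hN using hA
  obtain ⟨T, hT⟩ := CompactSpace.elim_nhds_subcover (fun y => ((U y).1 : Set Y))
    (fun y => (U y).1.2.mem_nhds (hyU y))
  have hcov : ∀ y : Y, ∃ V : Y.affineOpens, y ∈ V.1 ∧ Good f L (T.sup N + 1) V := by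
    intro y
    have hy : y ∈ ⋃ x ∈ T, ((U x).1 : Set Y) := by rw [hT]; trivial
    obtain ⟨y₀, hy₀T, hy⟩ := Set.mem_iUnion₂.mp hy
    exact ⟨U y₀, hy, (hN y₀).mono ((Finset.le_sup hy₀T).trans (Nat.le_succ _))⟩
  -- surjectivity of `f`
  haveI := hiso
  have hrange : ((L.support : Set Y)ᶜ) ⊆ Set.range f := by
    intro y hy
    let y' : (L.support.compl : Y.Opens) := ⟨y, hy⟩
    refine ⟨(f ⁻¹ᵁ L.support.compl).ι ((inv (f ∣_ L.support.compl)) y'), ?_⟩
    have h1 := congr($(morphismRestrict_ι f L.support.compl) ((inv (f ∣_ L.support.compl)) y'))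
    rw [Scheme.Hom.comp_apply, Scheme.Hom.comp_apply] at h1
    rw [← h1]
    have h2 : (f ∣_ L.support.compl) ((inv (f ∣_ L.support.compl)) y') = y' := by
      rw [← Scheme.Hom.comp_apply, IsIso.inv_hom_id]; rfl
    rw [h2]; rfl
  haveI : IsDominant f := ⟨(dense_compl_support L hL).mono hrange⟩
  haveI : Surjective f := inferInstance
  refine ⟨((L ^ (T.sup N + 1)).comap f).map f, ?_, ?_⟩
  · apply TopologicalSpace.Closeds.ext
    rw [Scheme.IdealSheafData.support_map, TopologicalSpace.Closeds.coe_closure,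
      Scheme.IdealSheafData.support_comap, TopologicalSpace.Closeds.coe_preimage,
      Scheme.IdealSheafData.support_pow _ _ (Nat.succ_ne_zero _),
      Set.image_preimage_eq _ f.surjective]
    exact L.support.isClosed.closure_eq
  · let 𝒰 : Y.OpenCover :=
      { I₀ := {V : Y.affineOpens // Good f L (T.sup N + 1) V}
        X := fun V => Spec Γ(Y, V.1.1)
        f := fun V => V.1.2.fromSpec
        mem₀ := by
          rw [Scheme.presieve₀_mem_precoverage_iff]
          refine ⟨fun y => ?_, fun V => inferInstance⟩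
          obtain ⟨V, hyV, hV⟩ := hcov y
          exact ⟨⟨V, hV⟩, V.2.primeIdealOf ⟨y, hyV⟩, V.2.fromSpec_primeIdealOf ⟨y, hyV⟩⟩ }
    refine isBlowUp_of_isPullback_cover f _ 𝒰
      (fun V => Spec Γ(X, f ⁻¹ᵁ V.1.1))
      (fun V => Spec.map (CommRingCat.ofHom (f.app V.1.1).hom))
      (fun V => (V.1.2.preimage f).fromSpec) (fun V => ?_) (fun V => ?_)
    · refine IsOpenImmersion.isPullback _ _ _ _ ?_ ?_
      · have := IsAffineOpen.SpecMap_appLE_fromSpec f V.1.2 (V.1.2.preimage f) le_rfl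
        rw [Scheme.Hom.appLE_eq_app] at this
        exact this.symm
      · rw [IsAffineOpen.opensRange_fromSpec, IsAffineOpen.opensRange_fromSpec]
    · change BlowUp.IsBlowUp (Spec.map (CommRingCat.ofHom (f.app V.1.1).hom))
        ((((L ^ (T.sup N + 1)).comap f).map f).comap V.1.2.fromSpec)
      rw [comap_fromSpec]
      exact V.2.isBlowUp

end Groth.Agent.Lib.Helper1.BU
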