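import Groth.Agent.Lib.Helper1.CDSec2

/-!
# Finite subcovers by constructible sets and completely decomposed morphisms (helper1)
-/

set_option autoImplicit false
set_option linter.unusedSectionVars false
set_option linter.style.haveILetI false
universe u

namespace Groth.Agent.Lib.Helper1.CDSec

open AlgebraicGeometry CategoryTheory CategoryTheory.Limits TopologicalSpace Opposite Topology

/-- Constructible subsets of a quasi-compact quasi-separated space are open (and closed) in the
constructible topology. -/
theorem isOpen_constructibleTopology_of_isConstructible {X : Type*} [TopologicalSpace X]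
    [CompactSpace X] [QuasiSeparatedSpace X] {s : Set X} (hs : IsConstructible s) :
    IsOpen[constructibleTopology X] s ∧ IsOpen[constructibleTopology X] sᶜ := by
  induction hs using IsConstructible.empty_union_induction with
  | open_retrocompact U hUo hUc =>
    refine ⟨hUc.isCompact.isOpen_constructibleTopology_of_isOpen hUo, ?_⟩
    exact IsCompact.isOpen_constructibleTopology_of_isClosed (by rw [compl_compl]; exact hUc.isCompact)
      hUo.isClosed_compl
  | union s hs t ht hs' ht' =>
    refine ⟨?_, ?_⟩
    · letI : TopologicalSpace X := constructibleTopology X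
      exact IsOpen.union hs'.1 ht'.1
    · rw [Set.compl_union]
      letI : TopologicalSpace X := constructibleTopology X
      exact IsOpen.inter hs'.2 ht'.2
  | compl s hs hs' =>
    refine ⟨hs'.2, ?_⟩
    rw [compl_compl]
    exact hs'.1

/-- A pointwise cover of a quasi-compact quasi-separated prespectral quasi-sober space by
constructible sets has a finite subcover. -/
theorem exists_finset_cover_of_isConstructible {X : Type*} [TopologicalSpace X]
    [CompactSpace X] [QuasiSeparatedSpace X] [QuasiSober X] [PrespectralSpace X]
    (C : X → Set X) (hC : ∀ x, IsConstructible (C x)) (hx : ∀ x, x ∈ C x) :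
    ∃ t : Finset X, ∀ y : X, ∃ x ∈ t, y ∈ C x := by
  let C' : X → Set (WithConstructibleTopology X) := fun x => WithTopology.ofTopology ⁻¹' C x
  have hopen : ∀ x, IsOpen (C' x) := by
    intro x
    rw [WithConstructibleTopology.isOpen_iff]
    exact (isOpen_constructibleTopology_of_isConstructible (hC x)).1
  have hcov : (Set.univ : Set (WithConstructibleTopology X)) ⊆ ⋃ x, C' x := by
    intro w _
    exact Set.mem_iUnion.mpr ⟨WithTopology.ofTopology w, hx _⟩
  obtain ⟨t, ht⟩ := isCompact_univ.elim_finite_subcover C' hopen hcov
  refine ⟨t, fun y => ?_⟩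
  have := ht (Set.mem_univ (WithTopology.toTopology _ y))
  obtain ⟨x, hxt, hyx⟩ := Set.mem_iUnion₂.mp this
  exact ⟨x, hxt, hyx⟩

/-- A completely decomposed morphism locally of finite presentation over a qcqs scheme has
sections over a finite stratification by locally closed subschemes of finite presentation. -/
theorem exists_finite_stratification_sections {X Y : Scheme.{u}} (f : X ⟶ Y)
    [LocallyOfFinitePresentation f] [CompactSpace ↑Y] [QuasiSeparatedSpace ↑Y]
    (hcd : ∀ y : Y, ∃ x : X, f x = y ∧ Function.Bijective (f.residueFieldMap x)) :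
    ∃ (n : ℕ) (Z : Fin n → Scheme.{u}) (z : ∀ i, Z i ⟶ Y), (∀ y : Y, ∃ i, y ∈ Set.range ⇑(z i)) ∧
      ∀ i, IsImmersion (z i) ∧ LocallyOfFinitePresentation (z i) ∧ QuasiCompact (z i) ∧
        QuasiSeparated (z i) ∧
        ∃ s : Z i ⟶ pullback f (z i), s ≫ pullback.snd f (z i) = 𝟙 (Z i) := by
  classical
  choose x hx hbij using hcd
  choose Z z ℓ hℓ himm hlfp hqc hmem using fun y : Y => exists_fp_immersion_lift f (x y) (hbij y)
  have hC : ∀ y : Y, IsConstructible (Set.range (z y)) := by
    intro y
    haveI := hlfp y
    haveI := hqc y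
    rw [← Set.image_univ]
    exact (z y).isConstructible_image IsConstructible.univ
  have hyC : ∀ y : Y, y ∈ Set.range (z y) := by
    intro y
    have := hmem y
    rwa [hx y] at this
  obtain ⟨t, ht⟩ := exists_finset_cover_of_isConstructible (fun y : Y => Set.range (z y)) hC hyC
  let e : Fin t.card ≃ t := t.equivFin.symm
  refine ⟨t.card, fun i => Z (e i).1, fun i => z (e i).1, fun y => ?_, fun i => ?_⟩
  · obtain ⟨y', hy't, hy⟩ := ht y
    refine ⟨e.symm ⟨y', hy't⟩, ?_⟩
    change y ∈ Set.range (z (e (e.symm ⟨y', hy't⟩)).1)
    rw [Equiv.apply_symm_apply]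
    exact hy
  · haveI := himm (e i).1
    refine ⟨himm _, hlfp _, hqc _, inferInstance, ?_⟩
    refine ⟨pullback.lift (ℓ (e i).1) (𝟙 _) ?_, pullback.lift_snd _ _ _⟩
    rw [hℓ, Category.id_comp]

end Groth.Agent.Lib.Helper1.CDSec
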