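import Mathlib
import Groth.Agent.Lib.Helper1.CDSec3

/-!
# Residue fields of points of a cofiltered limit of schemes (affine transition maps)

Every element of the residue field of a point of the limit comes from a finite stage.
-/

set_option autoImplicit false

universe u

namespace Groth.Agent.Lib.Helper1.CDLim

open AlgebraicGeometry CategoryTheory CategoryTheory.Limits

variable {I : Type u} [SmallCategory I] [IsCofiltered I] (D : I ⥤ Scheme.{u}) (c : Cone D)
  (hc : IsLimit c) [∀ {i j} (f : i ⟶ j), IsAffineHom (D.map f)]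

set_option backward.defeqAttrib.useBackward true in
set_option backward.isDefEq.respectTransparency false in
open Scheme.Opens in
include hc in
/-- Sections over the preimage of an affine open come from a finite stage. -/
theorem exists_appLE_eq (i : I) (V : (D.obj i).Opens) (hV : IsAffineOpen V)
    (r : Γ(c.pt, c.π.app i ⁻¹ᵁ V)) :
    ∃ (j : Over i) (s : Γ(D.obj j.left, D.map j.hom ⁻¹ᵁ V)),
      r = (c.π.app j.left).appLE (D.map j.hom ⁻¹ᵁ V) (c.π.app i ⁻¹ᵁ V)
        (by rw [← Scheme.Hom.comp_preimage, c.w]) s := by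
  have (j : _) : IsAffine ((opensDiagram D i V).op.obj j).unop := hV.preimage _
  have (j : _) : IsAffine ((opensDiagram D i V).obj j) := hV.preimage _
  obtain ⟨⟨j⟩, s, hs⟩ := (Types.jointly_surjective_of_isColimit (isColimitOfPreserves
    (Scheme.Γ ⋙ forget _) (isLimitOpensCone D c hc i V).op) ((c.π.app i ⁻¹ᵁ V).topIso.inv r))
  obtain ⟨s, rfl⟩ := (D.map j.hom ⁻¹ᵁ V).topIso.symm.commRingCatIsoToRingEquiv.surjective s
  have h : c.π.app j.left ⁻¹ᵁ D.map j.hom ⁻¹ᵁ V = c.π.app i ⁻¹ᵁ V := congr($(c.w j.hom) ⁻¹ᵁ V)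
  refine ⟨j, s, ?_⟩
  convert!
      show r = ((topIso _).inv ≫ ((opensCone D c i V).π.app j).appTop ≫ (topIso _).hom) s from
        (c.π.app i ⁻¹ᵁ V).topIso.commRingCatIsoToRingEquiv.symm_apply_eq.mp hs.symm using 3
  simp [Scheme.Hom.app_eq_appLE, Scheme.Hom.resLE_appLE]

omit [IsCofiltered I] [∀ {i j} (f : i ⟶ j), IsAffineHom (D.map f)] in
/-- Evaluation of `appLE`. -/
theorem evaluation_appLE {X Y : Scheme.{u}} (f : X ⟶ Y) (V : Y.Opens) (U : X.Opens)
    (e : U ≤ f ⁻¹ᵁ V) (x : X) (hx : x ∈ U) (s : Γ(Y, V)) :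
    (X.evaluation U x hx).hom ((f.appLE V U e).hom s) =
      (f.residueFieldMap x).hom ((Y.evaluation V (f x) (e hx)).hom s) := by
  have h1 := Scheme.evaluation_naturality_apply f x (e hx) s
  refine Eq.trans ?_ h1.symm
  rw [Scheme.Hom.appLE]
  change ((X.presheaf.germ U x hx ≫ X.residue x).hom)
    ((f.app V ≫ X.presheaf.map (homOfLE e).op).hom s) = _
  change (X.residue x).hom ((X.presheaf.germ U x hx).hom
    ((X.presheaf.map (homOfLE e).op).hom ((f.app V).hom s))) = _
  rw [TopCat.Presheaf.germ_res_apply]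
  rfl

omit [IsCofiltered I] [∀ {i j} (f : i ⟶ j), IsAffineHom (D.map f)] in
/-- The images of the residue fields of the stages in the residue field of a point of the limit
increase along the system. -/
theorem fieldRange_residueFieldMap_mono {j j' : I} (a : j ⟶ j') (y : c.pt) :
    ((c.π.app j').residueFieldMap y).hom.fieldRange ≤
      ((c.π.app j).residueFieldMap y).hom.fieldRange := by
  rintro _ ⟨k, rfl⟩
  have h1 := Scheme.Hom.residueFieldMap_congr (c.w a).symm y
  rw [Scheme.residueFieldMap_comp] at h1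
  rw [h1]
  exact ⟨_, rfl⟩

include hc in
/-- Every element of the residue field of a point of the limit comes from a finite stage. -/
theorem exists_mem_fieldRange_residueFieldMap (y : c.pt) (k : c.pt.residueField y) :
    ∃ j : I, k ∈ ((c.π.app j).residueFieldMap y).hom.fieldRange := by
  obtain ⟨i⟩ := IsCofiltered.nonempty (C := I)
  obtain ⟨_, ⟨V, hV, rfl⟩, hyV, -⟩ := (D.obj i).isBasis_affineOpens.exists_subset_of_mem_open
    (Set.mem_univ (c.π.app i y)) isOpen_univ
  have : IsAffineHom (c.π.app i) := isAffineHom_π_app D c hc i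
  have hU : IsAffineOpen (c.π.app i ⁻¹ᵁ V) := hV.preimage (c.π.app i)
  have hy : y ∈ c.π.app i ⁻¹ᵁ V := hyV
  obtain ⟨a, s, hs, hk⟩ := CDSec.evaluation_fraction hU y hy k
  obtain ⟨j₁, a₁, ha₁⟩ := exists_appLE_eq D c hc i V hV a
  obtain ⟨j₂, s₂, hs₂⟩ := exists_appLE_eq D c hc i V hV s
  let j := IsCofiltered.min j₁.left j₂.left
  refine ⟨j, ?_⟩
  have h1 : (c.pt.evaluation _ y hy).hom a ∈ ((c.π.app j).residueFieldMap y).hom.fieldRange := by
    apply fieldRange_residueFieldMap_mono D c (IsCofiltered.minToLeft j₁.left j₂.left) y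
    rw [ha₁, evaluation_appLE]
    exact ⟨_, rfl⟩
  have h2 : (c.pt.evaluation _ y hy).hom s ∈ ((c.π.app j).residueFieldMap y).hom.fieldRange := by
    apply fieldRange_residueFieldMap_mono D c (IsCofiltered.minToRight j₁.left j₂.left) y
    rw [hs₂, evaluation_appLE]
    exact ⟨_, rfl⟩
  rw [eq_div_of_mul_eq hs hk]
  exact div_mem h1 h2

end Groth.Agent.Lib.Helper1.CDLim
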