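import Mathlib
import Groth.Agent.Lib.Helper1.CDLim1

/-!
# Liftability of residue-field points

`LiftableTo f₀ p w` says that the residue field point of `w : Y'` lifts to `X₀` over `Y₀`
(where `f₀ : X₀ ⟶ Y₀`, `p : Y' ⟶ Y₀`).  For a pullback square this is the same as the existence
of a point of the base change over `w` with trivial residue field extension.
-/

set_option autoImplicit false

universe u

namespace Groth.Agent.Lib.Helper1.CDLim

open AlgebraicGeometry CategoryTheory CategoryTheory.Limits TopologicalSpace Topology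

/-- The residue field point of `w` lifts to `X₀` over `Y₀`. -/
def LiftableTo {X₀ Y₀ Y' : Scheme.{u}} (f₀ : X₀ ⟶ Y₀) (p : Y' ⟶ Y₀) (w : Y') : Prop :=
  ∃ ℓ : Spec (Y'.residueField w) ⟶ X₀, ℓ ≫ f₀ = Y'.fromSpecResidueField w ≫ p

theorem exists_eq_specMap_comp {K : Type u} [Field K] (X : Scheme.{u}) (f : Spec (.of K) ⟶ X) :
    ∃ (x : X) (θ : X.residueField x ⟶ .of K), f = Spec.map θ ≫ X.fromSpecResidueField x :=
  ⟨_, _, (Scheme.descResidueField_stalkClosedPointTo_fromSpecResidueField K X f).symm⟩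

/-- Monotonicity of liftability along a morphism of bases. -/
theorem LiftableTo.comp {X₀ Y₀ Y' Y'' : Scheme.{u}} {f₀ : X₀ ⟶ Y₀} {p : Y' ⟶ Y₀} (r : Y'' ⟶ Y')
    {w : Y''} (h : LiftableTo f₀ p (r w)) : LiftableTo f₀ (r ≫ p) w := by
  obtain ⟨ℓ, hℓ⟩ := h
  refine ⟨Spec.map (r.residueFieldMap w) ≫ ℓ, ?_⟩
  rw [Category.assoc, hℓ, ← Category.assoc, Scheme.Hom.SpecMap_residueFieldMap_fromSpecResidueField,
    Category.assoc]

/-- A point of the base change with trivial residue field extension gives a lift. -/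
theorem liftableTo_of_bijective {X₀ Y₀ X' Y' : Scheme.{u}} {f₀ : X₀ ⟶ Y₀} {p : Y' ⟶ Y₀}
    {pX : X' ⟶ X₀} {g : X' ⟶ Y'} (hw : pX ≫ f₀ = g ≫ p) (x : X')
    (hx : Function.Bijective (g.residueFieldMap x).hom) : LiftableTo f₀ p (g x) := by
  let e : Y'.residueField (g x) ≃+* X'.residueField x := RingEquiv.ofBijective _ hx
  let ψ : X'.residueField x ⟶ Y'.residueField (g x) := CommRingCat.ofHom e.symm.toRingHom
  have hψ : g.residueFieldMap x ≫ ψ = 𝟙 _ := by
    ext k
    exact e.symm_apply_apply k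
  refine ⟨Spec.map ψ ≫ X'.fromSpecResidueField x ≫ pX, ?_⟩
  rw [Category.assoc, Category.assoc, hw, ← Category.assoc (X'.fromSpecResidueField x),
    ← Scheme.Hom.SpecMap_residueFieldMap_fromSpecResidueField, Category.assoc,
    ← Category.assoc (Spec.map ψ), ← Spec.map_comp, hψ, Spec.map_id, Category.id_comp]

/-- A section over the residue field point gives a point with trivial residue field
extension. -/
theorem exists_bijective_of_lift {X' Y' : Scheme.{u}} (g : X' ⟶ Y') (w : Y')
    (ℓ : Spec (Y'.residueField w) ⟶ X') (hℓ : ℓ ≫ g = Y'.fromSpecResidueField w) :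
    ∃ x : X', g x = w ∧ Function.Bijective (g.residueFieldMap x).hom := by
  obtain ⟨x, θ, hθ⟩ := exists_eq_specMap_comp (K := Y'.residueField w) X' ℓ
  have hpt : Nonempty (Spec (Y'.residueField w)) := inferInstance
  obtain ⟨pt⟩ := hpt
  have hxw : g x = w := by
    have h1 := congrArg (fun φ : Spec (Y'.residueField w) ⟶ Y' => φ pt) hℓ
    simp only [Scheme.Hom.comp_apply, Scheme.fromSpecResidueField_apply] at h1
    rw [hθ] at h1
    simpa only [Scheme.Hom.comp_apply, Scheme.fromSpecResidueField_apply] using h1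
  refine ⟨x, hxw, ?_⟩
  have key : (Y'.residueFieldCongr hxw.symm).hom ≫ g.residueFieldMap x ≫ θ = 𝟙 _ := by
    apply Spec.map_injective
    rw [← cancel_mono (Y'.fromSpecResidueField w)]
    have h2 : Spec.map ((Y'.residueFieldCongr hxw.symm).hom ≫ g.residueFieldMap x ≫ θ) ≫
        Y'.fromSpecResidueField w = Y'.fromSpecResidueField w := by
      rw [Spec.map_comp, Spec.map_comp, Category.assoc, Category.assoc,
        Scheme.residueFieldCongr_fromSpecResidueField,
        Scheme.Hom.SpecMap_residueFieldMap_fromSpecResidueField, ← Category.assoc, ← hθ, hℓ]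
    rw [h2, Spec.map_id]
    exact (Category.id_comp _).symm
  refine ⟨(g.residueFieldMap x).hom.injective, fun k => ?_⟩
  refine ⟨(Y'.residueFieldCongr hxw.symm).hom.hom (θ.hom k), ?_⟩
  apply θ.hom.injective
  have := congrArg (fun φ => φ.hom (θ.hom k)) key
  exact this

/-- For a pullback square, liftability is the same as the existence of a point of the base change
with trivial residue field extension. -/
theorem liftableTo_iff {X₀ Y₀ X' Y' : Scheme.{u}} {f₀ : X₀ ⟶ Y₀} {p : Y' ⟶ Y₀}
    {pX : X' ⟶ X₀} {g : X' ⟶ Y'} (h : IsPullback pX g f₀ p) (w : Y') :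
    LiftableTo f₀ p w ↔ ∃ x : X', g x = w ∧ Function.Bijective (g.residueFieldMap x).hom := by
  constructor
  · rintro ⟨ℓ, hℓ⟩
    exact exists_bijective_of_lift g w (h.lift ℓ (Y'.fromSpecResidueField w) hℓ) (h.lift_snd _ _ _)
  · rintro ⟨x, rfl, hx⟩
    exact liftableTo_of_bijective h.w x hx

/-- Preimmersions induce isomorphisms on residue fields. -/
theorem residueFieldMap_bijective_of_isPreimmersion {Z Y : Scheme.{u}} (z : Z ⟶ Y)
    [IsPreimmersion z] (ζ : Z) : Function.Bijective (z.residueFieldMap ζ).hom := by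
  refine ⟨RingHom.injective _, ?_⟩
  intro k
  obtain ⟨w, rfl⟩ := Z.residue_surjective ζ k
  obtain ⟨w', rfl⟩ := z.stalkMap_surjective ζ w
  refine ⟨(Y.residue (z ζ)).hom w', ?_⟩
  have := congrArg (fun k => k.hom w') (Scheme.residue_residueFieldMap z ζ)
  exact this

/-- Liftable points have constructible neighbourhoods consisting of liftable points. -/
theorem exists_isConstructible_liftableTo {X₀ Y₀ Y' : Scheme.{u}} (f₀ : X₀ ⟶ Y₀)
    [LocallyOfFinitePresentation f₀] (p : Y' ⟶ Y₀) [CompactSpace Y'] [QuasiSeparatedSpace Y']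
    (w : Y') (hw : LiftableTo f₀ p w) :
    ∃ C : Set Y', IsConstructible C ∧ w ∈ C ∧ ∀ w' ∈ C, LiftableTo f₀ p w' := by
  have hpb : IsPullback (pullback.fst f₀ p) (pullback.snd f₀ p) f₀ p := IsPullback.of_hasPullback f₀ p
  obtain ⟨x, hxw, hx⟩ := (liftableTo_iff hpb w).mp hw
  obtain ⟨Z, z, ℓ, hℓ, himm, hlfp, hqc, hmem⟩ :=
    CDSec.exists_fp_immersion_lift (pullback.snd f₀ p) x hx
  refine ⟨Set.range z, ?_, hxw ▸ hmem, ?_⟩
  · rw [← Set.image_univ]
    exact z.isConstructible_image IsConstructible.univ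
  · rintro _ ⟨ζ, rfl⟩
    have h1 : (ℓ ≫ pullback.fst f₀ p) ≫ f₀ = z ≫ p := by
      rw [Category.assoc, pullback.condition, ← Category.assoc, hℓ]
    exact liftableTo_of_bijective h1 ζ (residueFieldMap_bijective_of_isPreimmersion z ζ)

end Groth.Agent.Lib.Helper1.CDLim
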