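import Mathlib
import Groth.Agent.Lib.Helper1.CDLim2

/-!
# Liftability of residue-field points descends from the limit to a finite stage
-/

set_option autoImplicit false

universe u

namespace Groth.Agent.Lib.Helper1.CDLim

open AlgebraicGeometry CategoryTheory CategoryTheory.Limits TopologicalSpace Topology

variable {I : Type u} [SmallCategory I] [IsCofiltered I] (D : I ⥤ Scheme.{u}) (c : Cone D)
  (hc : IsLimit c) [∀ {i j} (f : i ⟶ j), IsAffineHom (D.map f)]
  {X₀ Y₀ : Scheme.{u}} (f₀ : X₀ ⟶ Y₀) [LocallyOfFinitePresentation f₀]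
  (t : ∀ j, D.obj j ⟶ Y₀)

omit [IsCofiltered I] [∀ {i j} (f : i ⟶ j), IsAffineHom (D.map f)] in
theorem residueFieldMap_mem_fieldRange (j : I) (q : c.pt ⟶ Y₀) (hqj : c.π.app j ≫ t j = q)
    (y : c.pt) (k : Y₀.residueField (q y)) :
    (q.residueFieldMap y).hom k ∈ ((c.π.app j).residueFieldMap y).hom.fieldRange := by
  subst hqj
  rw [Scheme.residueFieldMap_comp]
  exact ⟨_, rfl⟩

omit [IsCofiltered I] [∀ {i j} (f : i ⟶ j), IsAffineHom (D.map f)] in
theorem evaluation_appLE_hom {X Y : Scheme.{u}} (f : X ⟶ Y) (V : Y.Opens) (U : X.Opens)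
    (e : U ≤ f ⁻¹ᵁ V) (x : X) (hx : x ∈ U) :
    f.appLE V U e ≫ X.evaluation U x hx = Y.evaluation V (f x) (e hx) ≫ f.residueFieldMap x := by
  ext s
  exact evaluation_appLE f V U e x hx s

include hc in
/-- If the residue field point of a point `y` of the limit lifts to `X₀` (locally of finite
presentation over `Y₀`), then so does the residue field point of its image at some stage. -/
theorem exists_liftableTo_stage (q : c.pt ⟶ Y₀) (hq : ∀ j, c.π.app j ≫ t j = q) (y : c.pt)
    (hy : LiftableTo f₀ q y) : ∃ j, LiftableTo f₀ (t j) (c.π.app j y) := by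
  classical
  obtain ⟨ℓ, hℓ⟩ := hy
  obtain ⟨x, θ, hθ⟩ := exists_eq_specMap_comp (K := c.pt.residueField y) X₀ ℓ
  obtain ⟨_, ⟨W, hW, rfl⟩, hxW, -⟩ := Y₀.isBasis_affineOpens.exists_subset_of_mem_open
    (Set.mem_univ (f₀ x)) isOpen_univ
  obtain ⟨_, ⟨V, hV, rfl⟩, hxV, hVW : V ≤ f₀ ⁻¹ᵁ W⟩ :=
    X₀.isBasis_affineOpens.exists_subset_of_mem_open (show x ∈ (f₀ ⁻¹ᵁ W : Set X₀) from hxW)
      (f₀ ⁻¹ᵁ W).2
  have hpt : Nonempty (Spec (c.pt.residueField y)) := inferInstance
  obtain ⟨pt⟩ := hpt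
  have hxy : f₀ x = q y := by
    have h1 := congrArg (fun φ : Spec (c.pt.residueField y) ⟶ Y₀ => φ pt) hℓ
    rw [hθ] at h1
    simpa only [Scheme.Hom.comp_apply, Scheme.fromSpecResidueField_apply] using h1
  have hqy : q y ∈ W := hxy ▸ hxW
  let ρ : Γ(Y₀, W) ⟶ Γ(X₀, V) := f₀.appLE W V hVW
  let β : Γ(X₀, V) ⟶ c.pt.residueField y := X₀.evaluation V x hxV ≫ θ
  have hβ' : Spec.map β ≫ hV.fromSpec = ℓ := by
    rw [hθ]
    change Spec.map (X₀.evaluation V x hxV ≫ θ) ≫ hV.fromSpec = _
    rw [Spec.map_comp, Category.assoc, CDSec.SpecMap_evaluation_fromSpec]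
  have hρ' : Spec.map ρ ≫ hW.fromSpec = hV.fromSpec ≫ f₀ :=
    IsAffineOpen.SpecMap_appLE_fromSpec f₀ hW hV hVW
  have hρβ : ρ ≫ β = Y₀.evaluation W (q y) hqy ≫ q.residueFieldMap y := by
    apply Spec.map_injective
    rw [← cancel_mono hW.fromSpec]
    have e1 : Spec.map (ρ ≫ β) ≫ hW.fromSpec = ℓ ≫ f₀ := by
      rw [Spec.map_comp, Category.assoc, hρ', ← Category.assoc, hβ']
    have e2 : Spec.map (Y₀.evaluation W (q y) hqy ≫ q.residueFieldMap y) ≫ hW.fromSpec =
        c.pt.fromSpecResidueField y ≫ q := by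
      rw [Spec.map_comp, Category.assoc, CDSec.SpecMap_evaluation_fromSpec,
        Scheme.Hom.SpecMap_residueFieldMap_fromSpecResidueField]
    rw [e1, e2, hℓ]
  -- finite generation
  have hρfp : ρ.hom.FinitePresentation := f₀.finitePresentation_appLE hW hV hVW
  have hρft : ρ.hom.FiniteType := RingHom.FiniteType.of_finitePresentation hρfp
  let _ : Algebra Γ(Y₀, W) Γ(X₀, V) := ρ.hom.toAlgebra
  obtain ⟨gens, hgens⟩ := (hρft : Algebra.FiniteType Γ(Y₀, W) Γ(X₀, V)).out
  -- each element of the residue field comes from a stage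
  choose jb hjb using fun b : Γ(X₀, V) =>
    exists_mem_fieldRange_residueFieldMap D c hc y (β.hom b)
  obtain ⟨j, hj⟩ := IsCofiltered.inf_objs_exists (gens.image jb)
  have hgen : ∀ b ∈ gens, β.hom b ∈ ((c.π.app j).residueFieldMap y).hom.fieldRange := by
    intro b hb
    obtain ⟨a⟩ := hj (Finset.mem_image_of_mem jb hb)
    exact fieldRange_residueFieldMap_mono D c a y (hjb b)
  have hall : ∀ b : Γ(X₀, V), β.hom b ∈ ((c.π.app j).residueFieldMap y).hom.fieldRange := by
    intro b
    have hb : b ∈ Algebra.adjoin Γ(Y₀, W) (gens : Set Γ(X₀, V)) := by rw [hgens]; trivial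
    induction hb using Algebra.adjoin_induction with
    | mem b hb => exact hgen b hb
    | algebraMap r =>
      have h1 : β.hom (algebraMap Γ(Y₀, W) Γ(X₀, V) r) =
          (q.residueFieldMap y).hom ((Y₀.evaluation W (q y) hqy).hom r) :=
        congrArg (fun φ => φ.hom r) hρβ
      rw [h1]
      exact residueFieldMap_mem_fieldRange D c t j q (hq j) y _
    | add a b _ _ ha hb => rw [map_add]; exact add_mem ha hb
    | mul a b _ _ ha hb => rw [map_mul]; exact mul_mem ha hb
  choose βj hβj using hall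
  have hinj : Function.Injective ((c.π.app j).residueFieldMap y).hom := RingHom.injective _
  let βj' : Γ(X₀, V) ⟶ (D.obj j).residueField (c.π.app j y) := CommRingCat.ofHom
    { toFun := βj
      map_one' := hinj ((hβj 1).trans ((map_one β.hom).trans
        (map_one ((c.π.app j).residueFieldMap y).hom).symm))
      map_mul' := fun a b => hinj ((hβj (a * b)).trans ((map_mul β.hom a b).trans
        ((congrArg₂ (· * ·) (hβj a).symm (hβj b).symm).trans
          (map_mul ((c.π.app j).residueFieldMap y).hom (βj a) (βj b)).symm)))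
      map_zero' := hinj ((hβj 0).trans ((map_zero β.hom).trans
        (map_zero ((c.π.app j).residueFieldMap y).hom).symm))
      map_add' := fun a b => hinj ((hβj (a + b)).trans ((map_add β.hom a b).trans
        ((congrArg₂ (· + ·) (hβj a).symm (hβj b).symm).trans
          (map_add ((c.π.app j).residueFieldMap y).hom (βj a) (βj b)).symm))) }
  refine ⟨j, Spec.map βj' ≫ hV.fromSpec, ?_⟩
  obtain rfl := hq j
  have hkey : ρ ≫ βj' =
      Y₀.evaluation W (t j (c.π.app j y)) hqy ≫ (t j).residueFieldMap (c.π.app j y) := by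
    ext r
    apply hinj
    have h1 : β.hom (ρ.hom r) = ((c.π.app j ≫ t j).residueFieldMap y).hom
        ((Y₀.evaluation W ((c.π.app j ≫ t j) y) hqy).hom r) :=
      congrArg (fun φ => φ.hom r) hρβ
    rw [Scheme.residueFieldMap_comp] at h1
    exact (hβj (ρ.hom r)).trans h1
  rw [Category.assoc, ← hρ', ← Category.assoc, ← Spec.map_comp, hkey, Spec.map_comp, Category.assoc,
    CDSec.SpecMap_evaluation_fromSpec, Scheme.Hom.SpecMap_residueFieldMap_fromSpecResidueField]

end Groth.Agent.Lib.Helper1.CDLim
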