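import Mathlib
import Groth.Agent.Lib.Helper1.CDLim3
import Groth.Agent.Lib.Helper5.LimitConstructible

/-!
# Complete decomposition descends from a limit to a finite stage (point-lifting form)
-/

set_option autoImplicit false

universe u

namespace Groth.Agent.Lib.Helper1.CDLim

open AlgebraicGeometry CategoryTheory CategoryTheory.Limits TopologicalSpace Topology

variable {I : Type u} [SmallCategory I] [IsCofiltered I] (D : I ⥤ Scheme.{u}) (c : Cone D)
  (hc : IsLimit c) [∀ {i j} (f : i ⟶ j), IsAffineHom (D.map f)]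
  [∀ i, CompactSpace (D.obj i)] [∀ i, QuasiSeparatedSpace (D.obj i)]
  {X₀ Y₀ : Scheme.{u}} (f₀ : X₀ ⟶ Y₀) [LocallyOfFinitePresentation f₀]
  (t : D ⟶ (Functor.const I).obj Y₀)

omit [IsCofiltered I] [∀ {i j} (f : i ⟶ j), IsAffineHom (D.map f)]
  [∀ i, CompactSpace (D.obj i)] [∀ i, QuasiSeparatedSpace (D.obj i)]
  [LocallyOfFinitePresentation f₀] in
theorem LiftableTo.map {k j : I} (a : k ⟶ j) {w : D.obj k}
    (h : LiftableTo f₀ (t.app j) (D.map a w)) : LiftableTo f₀ (t.app k) w := by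
  have h1 := h.comp (D.map a)
  have h2 : D.map a ≫ t.app j = t.app k := by
    have := t.naturality a
    simpa using this
  rwa [h2] at h1

include hc in
/-- If all residue field points of the limit lift to `X₀`, then at some stage all residue field
points lift. -/
theorem exists_stage_liftableTo (q : c.pt ⟶ Y₀) (hq : ∀ j, c.π.app j ≫ t.app j = q)
    (h : ∀ y : c.pt, LiftableTo f₀ q y) : ∃ j, ∀ w : D.obj j, LiftableTo f₀ (t.app j) w := by
  classical
  obtain ⟨i⟩ := IsCofiltered.nonempty (C := I)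
  have : CompactSpace c.pt := Scheme.compactSpace_of_isLimit D c hc
  have : IsAffineHom (c.π.app i) := isAffineHom_π_app D c hc i
  have : QuasiSeparatedSpace c.pt := quasiSeparatedSpace_of_quasiSeparated (c.π.app i)
  have key : ∀ y : c.pt, ∃ (j : I) (C : Set (D.obj j)), IsConstructible C ∧ c.π.app j y ∈ C ∧
      ∀ w ∈ C, LiftableTo f₀ (t.app j) w := by
    intro y
    obtain ⟨j, hj⟩ := exists_liftableTo_stage D c hc f₀ (fun j => t.app j) q hq y (h y)
    obtain ⟨C, hC, hyC, hlift⟩ := exists_isConstructible_liftableTo f₀ (t.app j) _ hj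
    exact ⟨j, C, hC, hyC, hlift⟩
  choose jy C hC hyC hlift using key
  obtain ⟨T, hT⟩ := CDSec.exists_finset_cover_of_isConstructible
    (fun y : c.pt => c.π.app (jy y) ⁻¹' C y)
    (fun y => (c.π.app (jy y)).isConstructible_preimage (hC y)) (fun y => hyC y)
  obtain ⟨k, hk⟩ := IsCofiltered.inf_objs_exists (T.image jy)
  let a : ∀ x : T, k ⟶ jy x.1 := fun x => (hk (Finset.mem_image_of_mem jy x.2)).some
  let E : Set (D.obj k) := ⋃ x : T, D.map (a x) ⁻¹' C x.1
  have hE : IsConstructible E :=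
    IsConstructible.iUnion fun x => (D.map (a x)).isConstructible_preimage (hC x.1)
  have hElift : ∀ w ∈ E, LiftableTo f₀ (t.app k) w := by
    intro w hw
    obtain ⟨x, hx⟩ := Set.mem_iUnion.mp hw
    exact LiftableTo.map D f₀ t (a x) (hlift x.1 _ hx)
  have hEtop : ∀ y : c.pt, c.π.app k y ∈ E := by
    intro y
    obtain ⟨x, hxT, hyx⟩ := hT y
    refine Set.mem_iUnion.mpr ⟨⟨x, hxT⟩, ?_⟩
    change D.map (a ⟨x, hxT⟩) (c.π.app k y) ∈ C x
    rw [← Scheme.Hom.comp_apply, c.w]
    exact hyx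
  obtain ⟨l, ψ, hl⟩ := Groth.Agent.Lib.Helper5.exists_map_preimage_inter_subset D c hc
    (j := k) (U := Set.univ) (E := Eᶜ) (V := ∅) isOpen_univ isCompact_univ hE.compl isOpen_empty
    (by
      rintro y ⟨-, hy⟩
      exact (hy (hEtop y)).elim)
  refine ⟨l, fun w => ?_⟩
  have hw : D.map ψ w ∈ E := by
    by_contra hne
    exact hl (show w ∈ D.map ψ ⁻¹' (Set.univ ∩ Eᶜ) from ⟨trivial, hne⟩)
  exact LiftableTo.map D f₀ t ψ (hElift _ hw)

end Groth.Agent.Lib.Helper1.CDLim
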