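import Mathlib

/-!
# Sections of finitely presented algebras over locally closed pieces (helper1)
-/

set_option autoImplicit false
set_option linter.unusedSectionVars false
set_option linter.style.haveILetI false
universe u

namespace Groth.Agent.Lib.Helper1.CDSec

/-- If a finitely presented `R`-algebra `S` has an `R`-point in a field `K` all of whose elements
are fractions of elements of `R`, then `S` has a section over `R_s / I` for some `s` not vanishing
in `K` and some finitely generated ideal `I` vanishing in `K`. -/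
theorem exists_section_algebra {R S K : Type u} [CommRing R] [CommRing S] [Field K] [Algebra R S]
    [Algebra.FinitePresentation R S] (ev : R →+* K)
    (hev : ∀ k : K, ∃ a s : R, ev s ≠ 0 ∧ k * ev s = ev a)
    (φ : S →+* K) (hφ : φ.comp (algebraMap R S) = ev) :
    ∃ (s : R) (_ : ev s ≠ 0) (I : Ideal (Localization.Away s)), I.FG ∧
      (∃ evs : Localization.Away s ⧸ I →+* K,
        evs.comp ((Ideal.Quotient.mk I).comp (algebraMap R (Localization.Away s))) = ev) ∧
      ∃ σ : S →+* Localization.Away s ⧸ I,
        σ.comp (algebraMap R S) = (Ideal.Quotient.mk I).comp (algebraMap R (Localization.Away s)) := by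
  classical
  obtain ⟨n, π, hπ, hker⟩ := Algebra.FinitePresentation.out (R := R) (A := S)
  choose a t ht hat using fun i : Fin n => hev (φ (π (MvPolynomial.X i)))
  let s : R := ∏ i, t i
  have hs : ev s ≠ 0 := by
    rw [map_prod]
    exact Finset.prod_ne_zero_iff.mpr fun i _ => ht i
  let b : Fin n → R := fun i => a i * ∏ j ∈ Finset.univ.erase i, t j
  have hb : ∀ i, φ (π (MvPolynomial.X i)) * ev s = ev (b i) := by
    intro i
    have h1 : s = t i * ∏ j ∈ Finset.univ.erase i, t j :=
      (Finset.mul_prod_erase Finset.univ t (Finset.mem_univ i)).symm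
    rw [h1, map_mul, ← mul_assoc, hat i, ← map_mul]
  refine ⟨s, hs, ?_⟩
  let Rs := Localization.Away s
  have hunit : IsUnit (ev s) := isUnit_iff_ne_zero.mpr hs
  let evs₀ : Rs →+* K := IsLocalization.Away.lift s hunit
  have hevs₀ : ∀ r : R, evs₀ (algebraMap R Rs r) = ev r := fun r =>
    IsLocalization.Away.lift_eq s hunit r
  let c : Fin n → Rs := fun i => IsLocalization.mk' Rs (b i) (⟨s, Submonoid.mem_powers s⟩ :
    Submonoid.powers s)
  have hc : ∀ i, evs₀ (c i) = φ (π (MvPolynomial.X i)) := by
    intro i
    have h1 : c i * algebraMap R Rs s = algebraMap R Rs (b i) :=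
      IsLocalization.mk'_spec Rs (b i) (⟨s, Submonoid.mem_powers s⟩ : Submonoid.powers s)
    have h2 := congrArg evs₀ h1
    rw [map_mul, hevs₀, hevs₀, ← hb i] at h2
    exact mul_right_cancel₀ hs h2
  let ψ : MvPolynomial (Fin n) R →ₐ[R] Rs := MvPolynomial.aeval c
  have hψφ : evs₀.comp ψ.toRingHom = φ.comp π.toRingHom := by
    apply MvPolynomial.ringHom_ext
    · intro r
      have h1 : ψ (MvPolynomial.C r) = algebraMap R Rs r := by
        rw [← MvPolynomial.algebraMap_eq]; exact ψ.commutes r
      have h2 : π (MvPolynomial.C r) = algebraMap R S r := by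
        rw [← MvPolynomial.algebraMap_eq]; exact π.commutes r
      change evs₀ (ψ (MvPolynomial.C r)) = φ (π (MvPolynomial.C r))
      rw [h1, h2, hevs₀]
      exact (RingHom.congr_fun hφ r).symm
    · intro i
      change evs₀ (ψ (MvPolynomial.X i)) = φ (π (MvPolynomial.X i))
      rw [show ψ (MvPolynomial.X i) = c i from MvPolynomial.aeval_X c i, hc]
  let I : Ideal Rs := Ideal.map ψ.toRingHom (RingHom.ker π.toRingHom)
  have hIfg : I.FG := hker.map _
  have hIker : ∀ g ∈ I, evs₀ g = 0 := by
    intro g hg
    have : I ≤ RingHom.ker evs₀ := by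
      rw [Ideal.map_le_iff_le_comap]
      intro p hp
      change evs₀ (ψ p) = 0
      have := RingHom.congr_fun hψφ p
      change evs₀ (ψ p) = φ (π p) at this
      rw [this]
      have hp' : π p = 0 := hp
      rw [hp', map_zero]
    exact this hg
  refine ⟨I, hIfg, ⟨Ideal.Quotient.lift I evs₀ hIker, ?_⟩, ?_⟩
  · ext r
    change Ideal.Quotient.lift I evs₀ hIker (Ideal.Quotient.mk I (algebraMap R Rs r)) = ev r
    rw [Ideal.Quotient.lift_mk, hevs₀]
  · let e : (MvPolynomial (Fin n) R ⧸ RingHom.ker π.toRingHom) ≃+* S :=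
      RingHom.quotientKerEquivOfSurjective (f := π.toRingHom) hπ
    let σ₀ : (MvPolynomial (Fin n) R ⧸ RingHom.ker π.toRingHom) →+* Rs ⧸ I :=
      Ideal.Quotient.lift _ ((Ideal.Quotient.mk I).comp ψ.toRingHom) (by
        intro p hp
        change Ideal.Quotient.mk I (ψ p) = 0
        rw [Ideal.Quotient.eq_zero_iff_mem]
        exact Ideal.mem_map_of_mem _ hp)
    refine ⟨σ₀.comp e.symm.toRingHom, ?_⟩
    ext r
    change σ₀ (e.symm (algebraMap R S r)) = Ideal.Quotient.mk I (algebraMap R Rs r)
    have h2 : e (Ideal.Quotient.mk _ (MvPolynomial.C r)) = algebraMap R S r := by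
      change π (MvPolynomial.C r) = _
      rw [← MvPolynomial.algebraMap_eq]; exact π.commutes r
    rw [← h2, RingEquiv.symm_apply_apply]
    change Ideal.Quotient.mk I (ψ (MvPolynomial.C r)) = _
    rw [← MvPolynomial.algebraMap_eq, ψ.commutes r]

end Groth.Agent.Lib.Helper1.CDSec
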