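import Groth.Agent.Lib.Helper1.CDSec1

/-!
# Sections over locally closed pieces through a rational point (helper1)
-/

set_option autoImplicit false
set_option linter.unusedSectionVars false
set_option linter.style.haveILetI false
universe u

namespace Groth.Agent.Lib.Helper1.CDSec

open AlgebraicGeometry CategoryTheory CategoryTheory.Limits TopologicalSpace Opposite

/-- Every element of the residue field at a point of an affine open is a fraction of sections. -/
theorem evaluation_fraction {Y : Scheme.{u}} {V : Y.Opens} (hV : IsAffineOpen V) (y : Y)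
    (hy : y ∈ V) (k : Y.residueField y) :
    ∃ a s : Γ(Y, V), (Y.evaluation V y hy).hom s ≠ 0 ∧
      k * (Y.evaluation V y hy).hom s = (Y.evaluation V y hy).hom a := by
  obtain ⟨g, rfl⟩ := Y.residue_surjective y k
  letI := Y.presheaf.algebra_section_stalk ⟨y, hy⟩
  haveI := hV.isLocalization_stalk ⟨y, hy⟩
  obtain ⟨⟨a, s⟩, has⟩ := IsLocalization.surj (hV.primeIdealOf ⟨y, hy⟩).asIdeal.primeCompl g
  have hu : IsUnit (algebraMap Γ(Y, V) (Y.presheaf.stalk y) s) :=
    IsLocalization.map_units (M := (hV.primeIdealOf ⟨y, hy⟩).asIdeal.primeCompl) _ s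
  refine ⟨a, s, ?_, ?_⟩
  · change (Y.residue y).hom (algebraMap Γ(Y, V) (Y.presheaf.stalk y) s) ≠ 0
    exact (hu.map (Y.residue y).hom).ne_zero
  · change (Y.residue y).hom g * (Y.residue y).hom (algebraMap Γ(Y, V) (Y.presheaf.stalk y) s) =
      (Y.residue y).hom (algebraMap Γ(Y, V) (Y.presheaf.stalk y) a)
    rw [← map_mul, has]

theorem SpecMap_evaluation_fromSpec {Y : Scheme.{u}} {V : Y.Opens} (hV : IsAffineOpen V) (y : Y)
    (hy : y ∈ V) :
    Spec.map (Y.evaluation V y hy) ≫ hV.fromSpec = Y.fromSpecResidueField y := by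
  rw [Scheme.fromSpecResidueField, ← hV.fromSpecStalk_eq_fromSpecStalk hy,
    IsAffineOpen.fromSpecStalk, ← Category.assoc, ← Spec.map_comp]
  rfl

/-- A morphism locally of finite presentation has a section over a locally closed subscheme of
finite presentation through the image of any point with trivial residue field extension. -/
theorem exists_fp_immersion_lift {X Y : Scheme.{u}} (f : X ⟶ Y) [LocallyOfFinitePresentation f]
    [QuasiSeparatedSpace Y] (x : X) (hx : Function.Bijective (f.residueFieldMap x).hom) :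
    ∃ (Z : Scheme.{u}) (z : Z ⟶ Y) (ℓ : Z ⟶ X), ℓ ≫ f = z ∧ IsImmersion z ∧
      LocallyOfFinitePresentation z ∧ QuasiCompact z ∧ f x ∈ Set.range z := by
  obtain ⟨_, ⟨V, hV, rfl⟩, hyV, -⟩ := Y.isBasis_affineOpens.exists_subset_of_mem_open
    (Set.mem_univ (f x)) isOpen_univ
  obtain ⟨_, ⟨W, hW, rfl⟩, hxW, hWV : W ≤ f ⁻¹ᵁ V⟩ :=
    X.isBasis_affineOpens.exists_subset_of_mem_open (show x ∈ (f ⁻¹ᵁ V : Set X) from hyV)
      (f ⁻¹ᵁ V).2
  let y : Y := f x
  let ρ : Γ(Y, V) ⟶ Γ(X, W) := f.appLE V W hWV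
  have hρ : ρ.hom.FinitePresentation := f.finitePresentation_appLE hV hW hWV
  letI : Algebra Γ(Y, V) Γ(X, W) := ρ.hom.toAlgebra
  haveI : Algebra.FinitePresentation Γ(Y, V) Γ(X, W) := hρ
  haveI : IsIso (f.residueFieldMap x) := (ConcreteCategory.isIso_iff_bijective _).mpr hx
  let ev : Γ(Y, V) ⟶ Y.residueField y := Y.evaluation V y hyV
  let φ : Γ(X, W) ⟶ Y.residueField y := X.evaluation W x hxW ≫ inv (f.residueFieldMap x)
  have hφ : ρ ≫ φ = ev := by
    have h1 : ρ ≫ X.evaluation W x hxW = ev ≫ f.residueFieldMap x := by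
      rw [Scheme.evaluation_naturality]
      change (f.app V ≫ X.presheaf.map (homOfLE hWV).op) ≫ X.presheaf.germ W x hxW ≫ X.residue x =
        f.app V ≫ X.presheaf.germ (f ⁻¹ᵁ V) x hyV ≫ X.residue x
      rw [Category.assoc, ← Category.assoc (X.presheaf.map _), X.presheaf.germ_res]
    change ρ ≫ X.evaluation W x hxW ≫ inv (f.residueFieldMap x) = ev
    rw [← Category.assoc, h1, Category.assoc, IsIso.hom_inv_id, Category.comp_id]
  obtain ⟨s, hs, I, hIfg, ⟨evs, hevs⟩, σ, hσ⟩ := exists_section_algebra (R := Γ(Y, V))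
    (S := Γ(X, W)) (K := Y.residueField y) ev.hom (evaluation_fraction hV y hyV) φ.hom (by
      have := congrArg CommRingCat.Hom.hom hφ
      exact this)
  let Rs := Localization.Away s
  let a₁ : Γ(Y, V) ⟶ CommRingCat.of Rs := CommRingCat.ofHom (algebraMap Γ(Y, V) Rs)
  let a₂ : CommRingCat.of Rs ⟶ CommRingCat.of (Rs ⧸ I) := CommRingCat.ofHom (Ideal.Quotient.mk I)
  let σ' : Γ(X, W) ⟶ CommRingCat.of (Rs ⧸ I) := CommRingCat.ofHom σ
  have hσ' : ρ ≫ σ' = a₁ ≫ a₂ := by
    ext r
    exact RingHom.congr_fun hσ r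
  haveI : IsOpenImmersion (Spec.map a₁) :=
    (inferInstance : IsOpenImmersion (Spec.map (CommRingCat.ofHom (algebraMap Γ(Y, V)
      (Localization.Away s)))))
  haveI : IsClosedImmersion (Spec.map a₂) :=
    IsClosedImmersion.spec_of_surjective _ Ideal.Quotient.mk_surjective
  haveI : LocallyOfFinitePresentation (Spec.map a₂) := by
    rw [HasRingHomProperty.Spec_iff (P := @LocallyOfFinitePresentation)]
    refine RingHom.FinitePresentation.of_surjective _ Ideal.Quotient.mk_surjective ?_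
    change (RingHom.ker (Ideal.Quotient.mk I)).FG
    rw [Ideal.mk_ker]
    exact hIfg
  let Z : Scheme.{u} := Spec (CommRingCat.of (Rs ⧸ I))
  let z : Z ⟶ Y := Spec.map a₂ ≫ Spec.map a₁ ≫ hV.fromSpec
  let ℓ : Z ⟶ X := Spec.map σ' ≫ hW.fromSpec
  refine ⟨Z, z, ℓ, ?_, inferInstance, inferInstance, inferInstance, ?_⟩
  · change (Spec.map σ' ≫ hW.fromSpec) ≫ f = Spec.map a₂ ≫ Spec.map a₁ ≫ hV.fromSpec
    rw [Category.assoc, ← hV.SpecMap_appLE_fromSpec f hW hWV, ← Category.assoc, ← Spec.map_comp,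
      ← Category.assoc (Spec.map a₂), ← Spec.map_comp]
    change Spec.map (ρ ≫ σ') ≫ _ = _
    rw [hσ']
  · let evs' : CommRingCat.of (Rs ⧸ I) ⟶ Y.residueField y := CommRingCat.ofHom evs
    have h1 : a₁ ≫ a₂ ≫ evs' = ev := by
      ext r
      exact RingHom.congr_fun hevs r
    have h2 : Spec.map evs' ≫ z = Y.fromSpecResidueField y := by
      change Spec.map evs' ≫ Spec.map a₂ ≫ Spec.map a₁ ≫ hV.fromSpec = _
      rw [← Category.assoc, ← Spec.map_comp, ← Category.assoc, ← Spec.map_comp, h1]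
      exact SpecMap_evaluation_fromSpec hV y hyV
    let pt : Spec (Y.residueField y) := Classical.arbitrary _
    refine ⟨Spec.map evs' pt, ?_⟩
    rw [← Scheme.Hom.comp_apply, h2, Scheme.fromSpecResidueField_apply]

end Groth.Agent.Lib.Helper1.CDSec
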