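import Groth.Agent.Lib.Helper1.ChowMainP
import Groth.Agent.Lib.Helper1.ChowMain2
import Groth.Agent.Lib.Helper29.Segre5
import Groth.Agent.Lib.Helper29.VA6

/-!
# Chow's lemma: final forms (helper1)
-/

set_option autoImplicit false
set_option linter.unusedSectionVars false
set_option linter.style.haveILetI false
universe u

namespace Groth.Agent.Lib.Helper1.Chow

open AlgebraicGeometry CategoryTheory CategoryTheory.Limits TopologicalSpace Opposite
open Groth.Agent.Lib.Helper1.NA Groth.Agent.Lib.Helper29.QCoh

/-- A proper morphism `π : X' ⟶ X` with an immersion of `X'` into `P^n_S` over `S` is H-projective. -/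
theorem isHProjective_of_isProper_of_immersion {X' X S : Scheme.{u}} (π : X' ⟶ X) (f : X ⟶ S)
    [IsProper π] (n : ℕ) (j : X' ⟶ CohB1.ProjSpaceOver n S) [IsImmersion j]
    (hj : j ≫ CohB1.ProjSpaceOver.toBase n S = π ≫ f) : RelProj.IsHProjective π := by
  let i : X' ⟶ CohB1.ProjSpaceOver n X := (isPullback_projSpaceOverMap n f).lift j π hj
  have hi1 : i ≫ projSpaceOverMap n f = j := IsPullback.lift_fst _ _ _ _
  have hi2 : i ≫ CohB1.ProjSpaceOver.toBase n X = π := IsPullback.lift_snd _ _ _ _
  have himm : IsImmersion i := by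
    have : IsImmersion (i ≫ projSpaceOverMap n f) := by rw [hi1]; infer_instance
    exact IsImmersion.of_comp i (projSpaceOverMap n f)
  have hsep : IsSeparated (CohB1.ProjSpaceOver.toBase n X) := by
    have : IsProper (CohB1.ProjSpaceOver.toBase n X) :=
      isProper_of_isHProjective _ ⟨n, 𝟙 _, inferInstance, Category.id_comp _⟩
    infer_instance
  have hprop : IsProper i := by
    have : IsProper (i ≫ CohB1.ProjSpaceOver.toBase n X) := by rw [hi2]; infer_instance
    exact IsProper.of_comp i (CohB1.ProjSpaceOver.toBase n X)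
  have hci : IsClosedImmersion i :=
    IsClosedImmersion.of_isPreimmersion i i.isClosedMap.isClosed_range
  exact ⟨n, i, hci, hi2⟩

/-- A finite type morphism with an immersion into `P^n_S` over `S` is quasi-projective. -/
theorem isQuasiProjective_of_immersion {X' S : Scheme.{u}} (g : X' ⟶ S) [LocallyOfFiniteType g]
    [QuasiCompact g] (n : ℕ) (j : X' ⟶ CohB1.ProjSpaceOver n S) [IsImmersion j]
    (hj : j ≫ CohB1.ProjSpaceOver.toBase n S = g) : RelProj.IsQuasiProjective g :=
  ⟨inferInstance, inferInstance, (Scheme.Modules.pullback j).obj (Twist.twistOver n S 1),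
    isRelAmple_of_isRelVeryAmplePn g ⟨n, j, inferInstance, hj, ⟨Iso.refl _⟩⟩⟩

/-- A quasi-compact morphism with trivial kernel is dominant. -/
theorem denseRange_of_ker_eq_bot {U X' : Scheme.{u}} (τ : U ⟶ X') [QuasiCompact τ]
    (h : τ.ker = ⊥) : DenseRange τ := by
  have h1 := τ.support_ker
  rw [h] at h1
  rw [DenseRange, dense_iff_closure_eq, ← h1]
  rfl

/-- The target of a quasi-compact morphism with trivial kernel from a reduced scheme is reduced. -/
theorem isReduced_of_ker_eq_bot {U X' : Scheme.{u}} (τ : U ⟶ X') [QuasiCompact τ]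
    (h : τ.ker = ⊥) [IsReduced U] : IsReduced X' := by
  have key : ∀ W : X'.affineOpens, _root_.IsReduced Γ(X', W.1) := by
    intro W
    have hinj : Function.Injective (τ.app W.1).hom := by
      rw [RingHom.injective_iff_ker_eq_bot, ← τ.ker_apply W, h]
      rfl
    exact isReduced_of_injective _ hinj
  let 𝒰 := X'.openCoverOfIsOpenCover (fun W : X'.affineOpens => W.1) (iSup_affineOpens_eq_top X')
  have : ∀ i, IsReduced (𝒰.X i) := by
    intro W
    change IsReduced (W.1 : Scheme.{u})
    have : IsAffine (W.1 : Scheme.{u}) := W.2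
    have : _root_.IsReduced Γ((W.1 : Scheme.{u}), ⊤) := by
      have hW := key W
      exact isReduced_of_injective (W.1.topIso.hom.hom)
        W.1.topIso.commRingCatIsoToRingEquiv.injective
    exact isReduced_of_isAffine_isReduced _
  exact IsReduced.of_openCover _ 𝒰

/-- The target of a dominant morphism from an irreducible scheme is irreducible. -/
theorem irreducibleSpace_of_denseRange {U X' : Scheme.{u}} (τ : U ⟶ X') (hd : DenseRange τ)
    [IrreducibleSpace U] : IrreducibleSpace X' := by
  have h1 : IsIrreducible (Set.range τ) := by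
    rw [← Set.image_univ]
    exact (IrreducibleSpace.isIrreducible_univ U).image τ τ.continuous.continuousOn
  have h2 := h1.closure
  rw [hd.closure_eq] at h2
  have : PreirreducibleSpace X' := ⟨h2.2⟩
  exact { toNonempty := ⟨h2.1.some⟩ }

end Groth.Agent.Lib.Helper1.Chow
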