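import Groth.Agent.Lib.Helper1.ChowFinal

/-!
# Chow's lemma: final forms, part 2 (helper1)
-/

set_option autoImplicit false
set_option linter.unusedSectionVars false
set_option linter.style.haveILetI false
universe u

namespace Groth.Agent.Lib.Helper1.Chow

open AlgebraicGeometry CategoryTheory CategoryTheory.Limits TopologicalSpace Opposite
open Groth.Agent.Lib.Helper1.NA Groth.Agent.Lib.Helper29.QCoh

set_option maxHeartbeats 800000 in
/-- Chow's lemma from a finite affine cover with a compact open contained in all members. -/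
theorem chow_of_cover {X S : Scheme.{u}} (f : X ⟶ S) [CompactSpace S]
    [QuasiSeparatedSpace S] [IsSeparated f] [LocallyOfFiniteType f] [QuasiCompact f]
    (m : ℕ) (U : Fin (m + 1) → X.Opens) (U₀ : X.Opens) (hUaff : ∀ j, IsAffineOpen (U j))
    (hcov : ⨆ j, U j = ⊤) (hle : ∀ j, U₀ ≤ U j) (hcomp : IsCompact (U₀ : Set X)) :
    ∃ (n : ℕ) (X' : Scheme.{u}) (π : X' ⟶ X) (j : X' ⟶ CohB1.ProjSpaceOver n S),
      IsImmersion j ∧ j ≫ CohB1.ProjSpaceOver.toBase n S = π ≫ f ∧ IsProper π ∧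
      (∀ x ∈ U₀, x ∈ Set.range π) ∧ IsIso (π ∣_ U₀) ∧
      ∃ τ : (U₀ : Scheme.{u}) ⟶ X', QuasiCompact τ ∧ τ.ker = ⊥ ∧ τ ≫ π = U₀.ι := by
  have hXc : CompactSpace X := QuasiCompact.compactSpace_of_compactSpace f
  have hXqs : QuasiSeparatedSpace X := quasiSeparatedSpace_of_quasiSeparated f
  have hUaff' : ∀ j, IsAffine (U j : Scheme.{u}) := fun j => hUaff j
  have hex : ∀ j, ∃ (n : ℕ) (i : (U j : Scheme.{u}) ⟶ CohB1.ProjSpaceOver n S), IsImmersion i ∧
      i ≫ CohB1.ProjSpaceOver.toBase n S = (U j).ι ≫ f :=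
    fun j => exists_immersion_of_isAffine ((U j).ι ≫ f)
  choose n i hi hif using hex
  have hqsP : ∀ j, QuasiSeparatedSpace (CohB1.ProjSpaceOver (n j) S) := fun j =>
    quasiSeparatedSpace_of_quasiSeparated (CohB1.ProjSpaceOver.toBase (n j) S)
  have hiqc : ∀ j, QuasiCompact (i j) := fun j => inferInstance
  have hoi : ∀ j, IsOpenImmersion (i j).toImage := fun j => inferInstance
  have hU₀c : CompactSpace (U₀ : Scheme.{u}) := isCompact_iff_compactSpace.mp hcomp
  have hU₀qc : QuasiCompact U₀.ι := inferInstance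
  obtain ⟨X', Q, π, qQ, g, hQ, himm, hgq, hπ, hsurj, hiso, τ, hτqc, hτker, hτπ⟩ :=
    chow_core' f m U U₀ hcov hle (fun j => (i j).image)
      (fun j => (i j).imageι ≫ CohB1.ProjSpaceOver.toBase (n j) S)
      (fun j => ⟨n j, (i j).imageι, inferInstance, rfl⟩) (fun j => (i j).toImage)
      (fun j => by rw [← Category.assoc, (i j).toImage_imageι, hif])
  obtain ⟨N, ι, hι, hιq⟩ := hQ
  exact ⟨N, X', π, g ≫ ι, inferInstance, by rw [Category.assoc, hιq, hgq], hπ, hsurj, hiso,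
    τ, hτqc, hτker, hτπ⟩

/-- Chow's lemma from a cover, with the density and permanence properties. -/
theorem chow_package {X S : Scheme.{u}} (f : X ⟶ S) [CompactSpace S]
    [QuasiSeparatedSpace S] [IsSeparated f] [LocallyOfFiniteType f] [QuasiCompact f]
    (m : ℕ) (U : Fin (m + 1) → X.Opens) (U₀ : X.Opens) (hUaff : ∀ j, IsAffineOpen (U j))
    (hcov : ⨆ j, U j = ⊤) (hle : ∀ j, U₀ ≤ U j) (hcomp : IsCompact (U₀ : Set X)) :
    ∃ (n : ℕ) (X' : Scheme.{u}) (π : X' ⟶ X) (j : X' ⟶ CohB1.ProjSpaceOver n S),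
      IsImmersion j ∧ j ≫ CohB1.ProjSpaceOver.toBase n S = π ≫ f ∧ IsProper π ∧
      (∀ x ∈ U₀, x ∈ Set.range π) ∧ IsIso (π ∣_ U₀) ∧
      Dense ((π ⁻¹ᵁ U₀ : X'.Opens) : Set X') ∧ (IsReduced X → IsReduced X') ∧
      (IrreducibleSpace X → (U₀ : Set X).Nonempty → IrreducibleSpace X') := by
  obtain ⟨n, X', π, j, hj, hjf, hπ, hsurj, hiso, τ, hτqc, hτker, hτπ⟩ :=
    chow_of_cover f m U U₀ hUaff hcov hle hcomp
  have hd : DenseRange τ := denseRange_of_ker_eq_bot τ hτker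
  refine ⟨n, X', π, j, hj, hjf, hπ, hsurj, hiso, ?_, ?_, ?_⟩
  · refine Dense.mono ?_ hd
    rintro _ ⟨x, rfl⟩
    change π (τ x) ∈ U₀
    rw [← Scheme.Hom.comp_apply, hτπ]
    exact x.2
  · intro hred
    exact isReduced_of_ker_eq_bot τ hτker
  · intro hirr hne
    have h1 : IsPreirreducible (U₀ : Set X) :=
      (IrreducibleSpace.isIrreducible_univ X).isPreirreducible.open_subset U₀.isOpen
        (Set.subset_univ _)
    have h2 : IrreducibleSpace (U₀ : Set X) := Subtype.irreducibleSpace ⟨hne, h1⟩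
    have h3 : IrreducibleSpace (U₀ : Scheme.{u}) := h2
    exact irreducibleSpace_of_denseRange τ hd

/-- **Chow's lemma** (final form, finitely many irreducible components). -/
theorem chow_final_irr {X S : Scheme.{u}} (f : X ⟶ S) [CompactSpace S]
    [QuasiSeparatedSpace S] [IsSeparated f] [LocallyOfFiniteType f] [QuasiCompact f]
    (hirr : (irreducibleComponents (X : Type u)).Finite) :
    ∃ (n : ℕ) (X' : Scheme.{u}) (π : X' ⟶ X) (j : X' ⟶ CohB1.ProjSpaceOver n S),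
      IsImmersion j ∧ j ≫ CohB1.ProjSpaceOver.toBase n S = π ≫ f ∧ IsProper π ∧ Surjective π ∧
      (∃ U : X.Opens, Dense (U : Set X) ∧ Dense ((π ⁻¹ᵁ U : X'.Opens) : Set X') ∧
        IsIso (π ∣_ U)) ∧
      (IsReduced X → IsReduced X') ∧ (IrreducibleSpace X → IrreducibleSpace X') := by
  have hXc : CompactSpace X := QuasiCompact.compactSpace_of_compactSpace f
  have hXqs : QuasiSeparatedSpace X := quasiSeparatedSpace_of_quasiSeparated f
  obtain ⟨m, U, U₀, hUaff, hcov, hle, hdense, hcomp⟩ := exists_affine_cover_dense hirr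
  obtain ⟨n, X', π, j, hj, hjf, hπ, hsurj, hiso, hd, hred, hir⟩ :=
    chow_package f m U U₀ hUaff hcov hle hcomp
  refine ⟨n, X', π, j, hj, hjf, hπ, ⟨?_⟩, ⟨U₀, hdense, hd, hiso⟩, hred, ?_⟩
  · have hcl : IsClosed (Set.range π) := π.isClosedMap.isClosed_range
    have hsub : (U₀ : Set X) ⊆ Set.range π := fun x hx => hsurj x hx
    have h1 : closure (U₀ : Set X) ⊆ Set.range π := hcl.closure_subset_iff.mpr hsub
    rw [hdense.closure_eq] at h1
    intro x
    exact h1 (Set.mem_univ x)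
  · intro hX
    exact hir hX hdense.nonempty

/-- A nonempty qcqs scheme has a finite affine open cover, indexed by `Fin (m + 1)`, together with
a nonempty affine open contained in all of them. -/
theorem exists_affine_cover_nonempty {X : Scheme.{u}} [CompactSpace X] [Nonempty X] :
    ∃ (m : ℕ) (U : Fin (m + 1) → X.Opens) (U₀ : X.Opens), (∀ j, IsAffineOpen (U j)) ∧
      (⨆ j, U j = ⊤) ∧ (∀ j, U₀ ≤ U j) ∧ (U₀ : Set X).Nonempty ∧ IsCompact (U₀ : Set X) := by
  classical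
  obtain ⟨x₀⟩ := ‹Nonempty X›
  have hex : ∀ x : X, ∃ V : X.Opens, IsAffineOpen V ∧ x ∈ V := by
    intro x
    obtain ⟨_, ⟨V, hV, rfl⟩, hxV, -⟩ :=
      X.isBasis_affineOpens.exists_subset_of_mem_open (Set.mem_univ x) isOpen_univ
    exact ⟨V, hV, hxV⟩
  choose V hV1 hV2 using hex
  obtain ⟨t, ht⟩ := isCompact_univ.elim_finite_subcover (fun x => (V x : Set X))
    (fun x => (V x).isOpen) (fun x _ => Set.mem_iUnion.mpr ⟨x, hV2 x⟩)
  let t' : Finset X := insert x₀ t
  have hcard : 0 < t'.card := Finset.card_pos.mpr ⟨x₀, Finset.mem_insert_self _ _⟩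
  obtain ⟨m, hm⟩ : ∃ m, t'.card = m + 1 := ⟨t'.card - 1, by omega⟩
  let e : t' ≃ Fin (m + 1) := t'.equivFinOfCardEq hm
  let W : Fin (m + 1) → X.Opens := fun j => V (e.symm j).1
  have hWaff : ∀ j, IsAffineOpen (W j) := fun j => hV1 _
  have hWcov : ∀ y : X, ∃ j, y ∈ W j := by
    intro y
    obtain ⟨x, hx⟩ := Set.mem_iUnion.mp (ht (Set.mem_univ y))
    obtain ⟨hxt, hyx⟩ := Set.mem_iUnion.mp hx
    have hxt' : x ∈ t' := Finset.mem_insert_of_mem hxt
    refine ⟨e ⟨x, hxt'⟩, ?_⟩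
    change y ∈ V (e.symm (e ⟨x, hxt'⟩)).1
    rw [Equiv.symm_apply_apply]
    exact hyx
  -- a maximal subset with nonempty intersection
  let 𝒥 : Finset (Finset (Fin (m + 1))) :=
    Finset.univ.filter (fun J => ((J.inf W : X.Opens) : Set X).Nonempty)
  have h𝒥 : 𝒥.Nonempty := by
    refine ⟨∅, ?_⟩
    rw [Finset.mem_filter]
    refine ⟨Finset.mem_univ _, ?_⟩
    rw [Finset.inf_empty]
    exact ⟨x₀, trivial⟩
  obtain ⟨J, hJ, hJmax⟩ := Finset.exists_max_image 𝒥 Finset.card h𝒥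
  have hJne : ((J.inf W : X.Opens) : Set X).Nonempty := (Finset.mem_filter.mp hJ).2
  obtain ⟨x, hx⟩ := hJne
  obtain ⟨_, ⟨U₀, hU₀, rfl⟩, hxU₀, hU₀le⟩ :=
    X.isBasis_affineOpens.exists_subset_of_mem_open hx (J.inf W).isOpen
  have hU₀le' : U₀ ≤ J.inf W := hU₀le
  have hdisj : ∀ j, j ∉ J → Disjoint (W j) U₀ := by
    intro j hj
    rw [disjoint_iff]
    by_contra hne
    have hne' : ((W j ⊓ U₀ : X.Opens) : Set X).Nonempty := by
      rw [Set.nonempty_iff_ne_empty]
      intro h0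
      apply hne
      ext y
      rw [Set.ext_iff] at h0
      exact h0 y
    obtain ⟨y, hy1, hy2⟩ := hne'
    have hy3 : y ∈ ((insert j J).inf W : X.Opens) := by
      rw [Finset.inf_insert]
      exact ⟨hy1, hU₀le' hy2⟩
    have hmem : insert j J ∈ 𝒥 := by
      rw [Finset.mem_filter]
      exact ⟨Finset.mem_univ _, ⟨y, hy3⟩⟩
    have hle := hJmax _ hmem
    rw [Finset.card_insert_of_notMem hj] at hle
    omega
  let U : Fin (m + 1) → X.Opens := fun j => if j ∈ J then W j else W j ⊔ U₀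
  refine ⟨m, U, U₀, ?_, ?_, ?_, ⟨x, hxU₀⟩, hU₀.isCompact⟩
  · intro j
    change IsAffineOpen (if j ∈ J then W j else W j ⊔ U₀)
    split_ifs with hj
    · exact hWaff j
    · exact (hWaff j).sup_of_disjoint hU₀ (hdisj j hj)
  · rw [eq_top_iff]
    intro y _
    obtain ⟨j, hj⟩ := hWcov y
    refine Opens.mem_iSup.mpr ⟨j, ?_⟩
    change y ∈ (if j ∈ J then W j else W j ⊔ U₀)
    split_ifs with hj'
    · exact hj
    · exact Or.inl hj
  · intro j
    change U₀ ≤ (if j ∈ J then W j else W j ⊔ U₀)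
    split_ifs with hj
    · exact hU₀le'.trans (Finset.inf_le hj)
    · exact le_sup_right

/-- **Chow's lemma** over a qcqs base, with an isomorphism over a nonempty open. -/
theorem chow_final_nonempty {X S : Scheme.{u}} (f : X ⟶ S) [CompactSpace S]
    [QuasiSeparatedSpace S] [IsSeparated f] [LocallyOfFiniteType f] [QuasiCompact f]
    [Nonempty X] :
    ∃ (n : ℕ) (X' : Scheme.{u}) (π : X' ⟶ X) (j : X' ⟶ CohB1.ProjSpaceOver n S),
      IsImmersion j ∧ j ≫ CohB1.ProjSpaceOver.toBase n S = π ≫ f ∧ IsProper π ∧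
      ∃ U : X.Opens, (U : Set X).Nonempty ∧ IsIso (π ∣_ U) := by
  have hXc : CompactSpace X := QuasiCompact.compactSpace_of_compactSpace f
  obtain ⟨m, U, U₀, hUaff, hcov, hle, hne, hcomp⟩ := exists_affine_cover_nonempty (X := X)
  obtain ⟨n, X', π, j, hj, hjf, hπ, -, hiso, -⟩ :=
    chow_of_cover f m U U₀ hUaff hcov hle hcomp
  exact ⟨n, X', π, j, hj, hjf, hπ, U₀, hne, hiso⟩

end Groth.Agent.Lib.Helper1.Chow
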