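import Groth.Agent.Lib.Helper1.ChowFinal2
import Groth.Agent.S4418

/-!
# Chow's lemma: the statements, modulo "H-projective implies projective" (helper1)
-/

set_option autoImplicit false
set_option linter.unusedSectionVars false
set_option linter.style.haveILetI false
universe u

namespace Groth.Agent.Lib.Helper1.Chow

open AlgebraicGeometry CategoryTheory CategoryTheory.Limits TopologicalSpace Opposite
open Groth.Agent.Lib.Helper1.NA Groth.Agent.Lib.Helper29.QCoh

/-- The hypothesis of S9717, as a proposition. -/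
def HProjImp : Prop :=
  ∀ {X S : Scheme.{u}} (f : X ⟶ S), RelProj.IsHProjective f → RelProj.IsProjective f

/-- The common reduction for the hypotheses of the Chow statements. -/
theorem chow_hyp_reduction {X S : Scheme.{u}} (r : X ⟶ S) [LocallyOfFiniteType r] [QuasiCompact r]
    (h : IsNoetherian S ∨ (CompactSpace S ∧ S.IsSeparated ∧ (irreducibleComponents X).Finite)) :
    CompactSpace S ∧ QuasiSeparatedSpace S ∧ (irreducibleComponents (X : Type u)).Finite := by
  rcases h with h | ⟨h1, h2, h3⟩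
  · have hXc : CompactSpace X := QuasiCompact.compactSpace_of_compactSpace r
    have hXln : IsLocallyNoetherian X := LocallyOfFiniteType.isLocallyNoetherian r
    have hXn : IsNoetherian X := { }
    exact ⟨inferInstance, inferInstance, finite_irreducibleComponents_of_isNoetherian⟩
  · exact ⟨h1, inferInstance, h3⟩

theorem s4415_of (H : HProjImp.{u}) {X S : Scheme.{u}} (r : X ⟶ S) [IsSeparated r]
    [LocallyOfFiniteType r] [QuasiCompact r]
    (h : IsNoetherian S ∨ (CompactSpace S ∧ S.IsSeparated ∧ (irreducibleComponents X).Finite)) :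
    ∃ (X' : Scheme.{u}) (f : X' ⟶ X),
      RelProj.IsQuasiProjective (f ≫ r) ∧ RelProj.IsProjective f ∧ Surjective f ∧
      (∃ U : X.Opens, Dense ((f ⁻¹ᵁ U : X'.Opens) : Set X') ∧ IsIso (f ∣_ U)) ∧
      (IsReduced X → IsReduced X') ∧ (IrreducibleSpace X → IrreducibleSpace X') ∧
      (IsIntegral X → IsIntegral X') := by
  obtain ⟨hSc, hSqs, hirr⟩ := chow_hyp_reduction r h
  obtain ⟨n, X', π, j, hj, hjf, hπ, hsurj, ⟨U, -, hd, hiso⟩, hred, hir⟩ := chow_final_irr r hirr
  refine ⟨X', π, isQuasiProjective_of_immersion (π ≫ r) n j hjf,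
    H π (isHProjective_of_isProper_of_immersion π r n j hjf), hsurj, ⟨U, hd, hiso⟩, hred, hir, ?_⟩
  intro hint
  have h1 : IsReduced X' := hred inferInstance
  have h2 : IrreducibleSpace X' := hir inferInstance
  exact isIntegral_of_irreducibleSpace_of_isReduced X'

theorem s4416_of (H : HProjImp.{u}) {X S : Scheme.{u}} (r : X ⟶ S) [IsSeparated r]
    [LocallyOfFiniteType r] [QuasiCompact r]
    (h : IsNoetherian S ∨ (CompactSpace S ∧ S.IsSeparated ∧ (irreducibleComponents X).Finite)) :
    (IsProper r ↔ ∃ (X' : Scheme.{u}) (f : X' ⟶ X), Surjective f ∧ RelProj.IsProjective (f ≫ r)) ∧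
    (IsProper r → ∃ (X' : Scheme.{u}) (f : X' ⟶ X), Surjective f ∧ RelProj.IsProjective (f ≫ r) ∧
        (∃ U : X.Opens, Dense (U : Set X) ∧ Dense ((f ⁻¹ᵁ U : X'.Opens) : Set X') ∧ IsIso (f ∣_ U)) ∧
        (IrreducibleSpace X → IrreducibleSpace X') ∧ (IsReduced X → IsReduced X')) := by
  obtain ⟨hSc, hSqs, hirr⟩ := chow_hyp_reduction r h
  have main : IsProper r → ∃ (X' : Scheme.{u}) (f : X' ⟶ X), Surjective f ∧
      RelProj.IsProjective (f ≫ r) ∧
        (∃ U : X.Opens, Dense (U : Set X) ∧ Dense ((f ⁻¹ᵁ U : X'.Opens) : Set X') ∧ IsIso (f ∣_ U)) ∧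
        (IrreducibleSpace X → IrreducibleSpace X') ∧ (IsReduced X → IsReduced X') := by
    intro hr
    obtain ⟨n, X', π, j, hj, hjf, hπ, hsurj, hU, hred, hir⟩ := chow_final_irr r hirr
    have hprop : IsProper (π ≫ r) := inferInstance
    refine ⟨X', π, hsurj, H (π ≫ r) ?_, hU, hir, hred⟩
    exact isHProjective_of_isProper_of_immersion (π ≫ r) (𝟙 S) n j
      (by rw [hjf, Category.comp_id])
  refine ⟨⟨fun hr => ?_, ?_⟩, main⟩
  · obtain ⟨X', f, h1, h2, -⟩ := main hr
    exact ⟨X', f, h1, h2⟩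
  · rintro ⟨X', f, hf, hproj⟩
    have hprop : IsProper (f ≫ r) := (Groth.Agent.S4418.result (f ≫ r) hproj).2
    have huc : UniversallyClosed r := UniversallyClosed.of_comp_surjective f r
    exact { }

theorem s8563_of (H : HProjImp.{u}) {X S : Scheme.{u}} (f : X ⟶ S)
    [CompactSpace S] [QuasiSeparatedSpace S] [IsSeparated f] [LocallyOfFiniteType f] [QuasiCompact f]
    [Nonempty X] :
    ∃ (Xbar : Scheme.{u}) (π : Xbar ⟶ X), RelProj.IsProjective π ∧ RelProj.IsQuasiProjective (π ≫ f) ∧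
      ∃ U : X.Opens, (U : Set X).Nonempty ∧ IsIso (π ∣_ U) := by
  obtain ⟨n, X', π, j, hj, hjf, hπ, U, hU, hiso⟩ := chow_final_nonempty f
  exact ⟨X', π, H π (isHProjective_of_isProper_of_immersion π f n j hjf),
    isQuasiProjective_of_immersion (π ≫ f) n j hjf, U, hU, hiso⟩

end Groth.Agent.Lib.Helper1.Chow
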