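import Groth.Agent.Lib.Helper1.ChowFinal3
import Groth.Agent.Lib.Helper29.PA4

/-!
# Projective = H-projective over a base with an ample sheaf, modulo S9717 (helper1)
-/

set_option autoImplicit false
set_option linter.unusedSectionVars false
set_option linter.style.haveILetI false
universe u

namespace Groth.Agent.Lib.Helper1.Chow

open AlgebraicGeometry CategoryTheory CategoryTheory.Limits TopologicalSpace Opposite
open Groth.Agent.Lib.Helper1.NA Groth.Agent.Lib.Helper29.QCoh

theorem isHProjective_of_isProjective_of_isAmple {X Y : Scheme.{u}}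
    (hY : ∃ M : Y.Modules, CohB1.IsAmple M) (f : X ⟶ Y) (hf : RelProj.IsProjective f) :
    RelProj.IsHProjective f := by
  obtain ⟨⟨hlft, hqc, L, hL⟩, hprop⟩ := Groth.Agent.S4418.result f hf
  obtain ⟨N, hN⟩ := hY
  obtain ⟨n₀, -, hn₀⟩ := exists_isAmple_tensor_pullback_pow f hL hN
  obtain ⟨n, i, hi, hif⟩ := exists_immersion_projSpaceOver_of_isAmple f (hn₀ n₀ le_rfl)
  exact isHProjective_of_isProper_of_immersion f (𝟙 Y) n i (by rw [Category.comp_id]; exact hif)

theorem s4420_of (H : HProjImp.{u}) {X Y : Scheme.{u}}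
    (hY : ∃ M : Y.Modules, CohB1.IsAmple M) (f : X ⟶ Y) :
    RelProj.IsProjective f ↔ RelProj.IsHProjective f :=
  ⟨isHProjective_of_isProjective_of_isAmple hY f, H f⟩

end Groth.Agent.Lib.Helper1.Chow
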