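import Groth.Agent.Lib.Helper1.ChowMain2
import Groth.Agent.Lib.Helper1.NATri2
import Groth.Agent.Lib.Helper13.LimSeparated
import Groth.Agent.Lib.Helper29.Segre5
import Groth.Agent.S9190

/-!
# Chow's lemma over a qcqs base, via Noetherian approximation (helper1)
-/

set_option autoImplicit false
set_option linter.unusedSectionVars false
set_option linter.style.haveILetI false
universe u

namespace Groth.Agent.Lib.Helper1.Chow

open AlgebraicGeometry CategoryTheory CategoryTheory.Limits TopologicalSpace Opposite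
open Groth.Agent.Lib.Helper1.NA Groth.Agent.Lib.Helper29.QCoh

/-- Base change of Chow data along `σ : S ⟶ C`, followed by restriction to a closed subscheme
`X` of the base change `BS` of `B`. -/
theorem chow_baseChange {X S A B C BS : Scheme.{u}} (f : X ⟶ S) (a : A ⟶ B) (b : B ⟶ C)
    (σ : S ⟶ C) (ρ : BS ⟶ B) (s : BS ⟶ S) (hBS : IsPullback ρ s b σ) (ι : X ⟶ BS)
    [IsClosedImmersion ι] (hιs : ι ≫ s = f) (n : ℕ) (jA : A ⟶ CohB1.ProjSpaceOver n C)
    [IsImmersion jA] (hjA : jA ≫ CohB1.ProjSpaceOver.toBase n C = a ≫ b)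
    [IsProper a] [Surjective a] :
    ∃ (X' : Scheme.{u}) (π : X' ⟶ X) (j : X' ⟶ CohB1.ProjSpaceOver n S),
      IsImmersion j ∧ j ≫ CohB1.ProjSpaceOver.toBase n S = π ≫ f ∧ IsProper π ∧ Surjective π := by
  let κ : X ⟶ B := ι ≫ ρ
  have hκ : κ ≫ b = f ≫ σ := by
    change (ι ≫ ρ) ≫ b = _
    rw [Category.assoc, hBS.w, ← Category.assoc, hιs]
  let π : pullback a κ ⟶ X := pullback.snd a κ
  -- `A_S`
  let fstA : pullback (a ≫ b) σ ⟶ A := pullback.fst (a ≫ b) σ
  let sndA : pullback (a ≫ b) σ ⟶ S := pullback.snd (a ≫ b) σ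
  have hAS : IsPullback fstA sndA (a ≫ b) σ := IsPullback.of_hasPullback _ _
  have hj₁c : pullback.fst a κ ≫ a ≫ b = (π ≫ f) ≫ σ := by
    rw [← Category.assoc, pullback.condition, Category.assoc, hκ, Category.assoc]
  let j₁ : pullback a κ ⟶ pullback (a ≫ b) σ := pullback.lift (pullback.fst a κ) (π ≫ f) hj₁c
  have hj₁1 : j₁ ≫ fstA = pullback.fst a κ := pullback.lift_fst _ _ _
  have hj₁2 : j₁ ≫ sndA = π ≫ f := pullback.lift_snd _ _ _
  have hP := isPullback_projSpaceOverMap n σ
  have hj₂c : (fstA ≫ jA) ≫ CohB1.ProjSpaceOver.toBase n C = sndA ≫ σ := by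
    rw [Category.assoc, hjA]
    exact hAS.w
  let j₂ : pullback (a ≫ b) σ ⟶ CohB1.ProjSpaceOver n S := hP.lift (fstA ≫ jA) sndA hj₂c
  have hj₂1 : j₂ ≫ projSpaceOverMap n σ = fstA ≫ jA := hP.lift_fst _ _ _
  have hj₂2 : j₂ ≫ CohB1.ProjSpaceOver.toBase n S = sndA := hP.lift_snd _ _ _
  -- `j₂` is an immersion
  have hj₂ : IsImmersion j₂ := by
    have hbig : IsPullback (j₂ ≫ CohB1.ProjSpaceOver.toBase n S) fstA σ
        (jA ≫ CohB1.ProjSpaceOver.toBase n C) := by
      rw [hj₂2, hjA]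
      exact hAS.flip
    have hsq : IsPullback j₂ fstA (projSpaceOverMap n σ) jA :=
      IsPullback.of_right hbig hj₂1 hP.flip
    exact MorphismProperty.of_isPullback (P := @IsImmersion) hsq.flip inferInstance
  -- `j₁` is a closed immersion
  have haSc : (fstA ≫ a) ≫ b = sndA ≫ σ := by
    rw [Category.assoc]
    exact hAS.w
  let aS : pullback (a ≫ b) σ ⟶ BS := hBS.lift (fstA ≫ a) sndA haSc
  have haS1 : aS ≫ ρ = fstA ≫ a := hBS.lift_fst _ _ _
  have haS2 : aS ≫ s = sndA := hBS.lift_snd _ _ _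
  have hsq1 : IsPullback aS fstA ρ a := by
    have hbig : IsPullback (aS ≫ s) fstA σ (a ≫ b) := by
      rw [haS2]
      exact hAS.flip
    exact IsPullback.of_right hbig haS1 hBS.flip
  have hj₁ : IsClosedImmersion j₁ := by
    have hbig : IsPullback (j₁ ≫ fstA) π a (ι ≫ ρ) := by
      rw [hj₁1]
      exact IsPullback.of_hasPullback a κ
    have hp : j₁ ≫ aS = π ≫ ι := by
      apply hBS.hom_ext
      · rw [Category.assoc, haS1, ← Category.assoc, hj₁1, Category.assoc]
        exact pullback.condition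
      · rw [Category.assoc, haS2, hj₁2, Category.assoc, hιs]
    have hsq : IsPullback j₁ π aS ι := IsPullback.of_right hbig hp hsq1.flip
    exact MorphismProperty.of_isPullback (P := @IsClosedImmersion) hsq.flip inferInstance
  refine ⟨pullback a κ, π, j₁ ≫ j₂, inferInstance, ?_, inferInstance, inferInstance⟩
  rw [Category.assoc, hj₂2, hj₁2]

end Groth.Agent.Lib.Helper1.Chow
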