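import Groth.Agent.Lib.Helper1.ChowLim

/-!
# Chow's lemma over a qcqs base (helper1)
-/

set_option autoImplicit false
set_option linter.unusedSectionVars false
set_option linter.style.haveILetI false
universe u

namespace Groth.Agent.Lib.Helper1.Chow

open AlgebraicGeometry CategoryTheory CategoryTheory.Limits TopologicalSpace Opposite
open Groth.Agent.Lib.Helper1.NA Groth.Agent.Lib.Helper29.QCoh

set_option maxHeartbeats 1600000 in
/-- **Chow's lemma** over a quasi-compact quasi-separated base. -/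
theorem chow_qcqs {X S : Scheme.{u}} (f : X ⟶ S) [CompactSpace S] [QuasiSeparatedSpace S]
    [IsSeparated f] [LocallyOfFiniteType f] [QuasiCompact f] :
    ∃ (n : ℕ) (X' : Scheme.{u}) (π : X' ⟶ X) (j : X' ⟶ CohB1.ProjSpaceOver n S),
      IsImmersion j ∧ j ≫ CohB1.ProjSpaceOver.toBase n S = π ≫ f ∧ IsProper π ∧ Surjective π := by
  have hXc : CompactSpace X := QuasiCompact.compactSpace_of_compactSpace f
  have hXqs : QuasiSeparatedSpace X := quasiSeparatedSpace_of_quasiSeparated f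
  obtain ⟨PX⟩ := nonempty_pres X
  obtain ⟨PS⟩ := nonempty_pres S
  obtain ⟨hlim⟩ := Tri.nonempty_isLimit_cXp f PX PS
  obtain ⟨i₀⟩ := (inferInstance : Nonempty (Tri f PX PS))
  have haff : ∀ (i j : (Tri f PX PS)ᵒᵖ) (a : i ⟶ j), IsAffineHom ((Tri.DXp f PX PS).map a) :=
    fun i j a => Tri.isAffineHom_XpMap (leOfHom a.unop)
  have haff' : ∀ {i j : (Tri f PX PS)ᵒᵖ} (a : i ⟶ j), IsAffineHom ((Tri.DXp f PX PS).map a) :=
    fun {i j} a => haff i j a
  have hC : ∀ i : (Tri f PX PS)ᵒᵖ, CompactSpace ((Tri.DXp f PX PS).obj i) := by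
    intro i
    have h2 := Tri.quasiCompact_snd i.unop
    exact @QuasiCompact.compactSpace_of_compactSpace _ S _ h2 ‹CompactSpace S›
  have hQS : ∀ i : (Tri f PX PS)ᵒᵖ, QuasiSeparatedSpace ((Tri.DXp f PX PS).obj i) := by
    intro i
    have h2 := Tri.quasiSeparated_snd i.unop
    exact @quasiSeparatedSpace_of_quasiSeparated _ S
      (pullback.snd i.unop.g (PS.π.app (op i.unop.b))) ‹QuasiSeparatedSpace S› h2
  have hlft : LocallyOfFiniteType ((Tri.cXp f PX PS).π.app (op i₀)) := by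
    have h0 : Tri.toXp f PX PS i₀ ≫ pullback.snd i₀.g (PS.π.app (op i₀.b)) = f :=
      Tri.toXp_snd f PX PS i₀
    have h1 : LocallyOfFiniteType
        (Tri.toXp f PX PS i₀ ≫ pullback.snd i₀.g (PS.π.app (op i₀.b))) := by
      rw [h0]; infer_instance
    exact locallyOfFiniteType_of_comp (Tri.toXp f PX PS i₀)
      (pullback.snd i₀.g (PS.π.app (op i₀.b)))
  have hC₀ : CompactSpace ((Tri.DXp f PX PS).obj (op i₀)) := hC (op i₀)
  obtain ⟨j₀, -, hj₀⟩ :=
    exists_isClosedImmersion_π (Tri.DXp f PX PS) (Tri.cXp f PX PS) hlim haff i₀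
  have hsep₀ : IsSeparated ((Tri.cXp f PX PS).π.app (op i₀) ≫ (Tri.sS f PX PS).app (op i₀)) := by
    have h0 : Tri.toXp f PX PS i₀ ≫ pullback.snd i₀.g (PS.π.app (op i₀.b)) = f :=
      Tri.toXp_snd f PX PS i₀
    change IsSeparated (Tri.toXp f PX PS i₀ ≫ pullback.snd i₀.g (PS.π.app (op i₀.b)))
    rw [h0]; infer_instance
  obtain ⟨i₁, hi₁⟩ := Groth.Agent.Lib.Helper13.exists_isSeparated_app (Tri.DXp f PX PS)
    (Tri.sS f PX PS) (Tri.cXp f PX PS) hlim (op i₀)
  obtain ⟨t, ht1, ht2⟩ := exists_ge_ge i₁.unop j₀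
  have hci : IsClosedImmersion (Tri.toXp f PX PS t) := hj₀ t ht2
  have hsept : IsSeparated (pullback.snd t.g (PS.π.app (op t.b))) :=
    hi₁ (op t) (homOfLE ht1).op
  -- descend separatedness to a finite stage
  have hCa : CompactSpace (PX.D.obj (op t.a)) := inferInstance
  have hQa : QuasiSeparatedSpace (PX.D.obj (op t.a)) := inferInstance
  have hCb : CompactSpace (PS.D.obj (op t.b)) := inferInstance
  have hQb : QuasiSeparatedSpace (PS.D.obj (op t.b)) := inferInstance
  have hY0 : IsPullback (PS.π.app (op t.b)) (𝟙 S) (𝟙 (PS.D.obj (op t.b)))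
      (PS.π.app (op t.b)) := by
    have h1 : IsIso (𝟙 S) := IsIso.id S
    have h2 : IsIso (𝟙 (PS.D.obj (op t.b))) := IsIso.id _
    exact @IsPullback.of_vert_isIso _ _ _ _ _ _ _ _ _ _ h1 h2
      ⟨(Category.comp_id _).trans (Category.id_comp _).symm⟩
  have hY : IsPullback (PS.π.app (op t.b)) (𝟙 S) (𝟙 (PS.D.obj (op t.b)))
      (PS.cone.π.app (op t.b)) := hY0
  have hX : IsPullback (pullback.fst t.g (PS.π.app (op t.b)))
      (pullback.snd t.g (PS.π.app (op t.b))) t.g (PS.π.app (op t.b)) :=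
    IsPullback.of_hasPullback _ _
  have haffS : ∀ (i j : PS.Jᵒᵖ) (a : i ⟶ j), IsAffineHom (PS.D.map a) := PS.haff
  obtain ⟨i, φ, Xi, Yi, fi, gi, pY, pX, hYi, hXi, hfisep⟩ :=
    Groth.Agent.S9190.result PS.D PS.cone PS.hlim (op t.b) t.g (𝟙 _) (pullback.snd t.g (PS.π.app (op t.b)))
      (𝟙 S) (PS.π.app (op t.b)) (pullback.fst t.g (PS.π.app (op t.b))) hY hX
  -- `gi` is an isomorphism
  have hgi : IsIso gi := hYi.isIso_snd_of_isIso
  have hpY : pY = gi ≫ PS.D.map φ := by
    have := hYi.w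
    rw [Category.comp_id] at this
    exact this
  let σ : S ⟶ Yi := PS.π.app i ≫ inv gi
  have hσgi : σ ≫ gi = PS.π.app i := by
    change (PS.π.app i ≫ inv gi) ≫ gi = _
    rw [Category.assoc, IsIso.inv_hom_id, Category.comp_id]
  have hσpY : σ ≫ pY = PS.π.app (op t.b) := by
    rw [hpY, ← Category.assoc, hσgi]
    have := PS.π.naturality φ
    simp only [Functor.const_obj_obj, Functor.const_obj_map, Category.id_comp] at this
    exact this.symm
  -- properties of `Yi`, `Xi`, `fi`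
  have hYic : CompactSpace Yi := (Scheme.Hom.homeomorph gi).symm.compactSpace
  have hYiqs : QuasiSeparatedSpace Yi := quasiSeparatedSpace_of_quasiSeparated gi
  have hYiln : IsLocallyNoetherian Yi := isLocallyNoetherian_of_isOpenImmersion gi
  have hglft : LocallyOfFiniteType t.g := Tri.lft_g t
  have hgqc : QuasiCompact t.g := inferInstance
  have hfilft : LocallyOfFiniteType fi := MorphismProperty.of_isPullback hXi hglft
  have hfiqc : QuasiCompact fi := MorphismProperty.of_isPullback hXi hgqc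
  have hXic : CompactSpace Xi := QuasiCompact.compactSpace_of_compactSpace fi
  have hXiln : IsLocallyNoetherian Xi := LocallyOfFiniteType.isLocallyNoetherian fi
  have hXinoeth : IsNoetherian Xi := { }
  have hirr : (irreducibleComponents (Xi : Type u)).Finite :=
    finite_irreducibleComponents_of_isNoetherian
  obtain ⟨n, Xi', πi, ji, hjiimm, hjiq, hπip, hπis, -⟩ := chow_finite_irr fi hirr
  -- the map `Xp t ⟶ Xi`
  have hρc : pullback.fst t.g (PS.π.app (op t.b)) ≫ t.g =
      (pullback.snd t.g (PS.π.app (op t.b)) ≫ σ) ≫ pY := by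
    rw [Category.assoc, hσpY]
    exact pullback.condition
  let ρ : pullback t.g (PS.π.app (op t.b)) ⟶ Xi := hXi.lift _ _ hρc
  have hρ1 : ρ ≫ pX = pullback.fst t.g (PS.π.app (op t.b)) := hXi.lift_fst _ _ _
  have hρ2 : ρ ≫ fi = pullback.snd t.g (PS.π.app (op t.b)) ≫ σ := hXi.lift_snd _ _ _
  have hBS : IsPullback ρ (pullback.snd t.g (PS.π.app (op t.b))) fi σ := by
    have hbig : IsPullback (ρ ≫ pX) (pullback.snd t.g (PS.π.app (op t.b))) t.g (σ ≫ pY) := by
      rw [hρ1, hσpY]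
      exact hX
    exact IsPullback.of_right hbig hρ2 hXi
  obtain ⟨X', π, j, hj, hjq, hπp, hπs⟩ := chow_baseChange f πi fi σ ρ
    (pullback.snd t.g (PS.π.app (op t.b))) hBS (Tri.toXp f PX PS t) (Tri.toXp_snd f PX PS t)
    n ji hjiq
  exact ⟨n, X', π, j, hj, hjq, hπp, hπs⟩

end Groth.Agent.Lib.Helper1.Chow
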