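import Groth.Agent.S9692
import Groth.Agent.S9693

/-!
# Chow's lemma: finite fibre products of H-projective schemes (helper1)
-/

set_option autoImplicit false
universe u

namespace Groth.Agent.Lib.Helper1.Chow

open AlgebraicGeometry CategoryTheory CategoryTheory.Limits TopologicalSpace Opposite

/-- A finite (nonempty) family of H-projective `S`-schemes has an H-projective "weak fibre
product" over `S`. -/
theorem exists_hprojective_product {S : Scheme.{u}} :
    ∀ (m : ℕ) (P : Fin (m + 1) → Scheme.{u}) (q : ∀ j, P j ⟶ S)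
      (_ : ∀ j, RelProj.IsHProjective (q j)),
      ∃ (Q : Scheme.{u}) (qQ : Q ⟶ S) (p : ∀ j, Q ⟶ P j), RelProj.IsHProjective qQ ∧
        (∀ j, p j ≫ q j = qQ) ∧
        ∀ (T : Scheme.{u}) (t : T ⟶ S) (a : ∀ j, T ⟶ P j), (∀ j, a j ≫ q j = t) →
          ∃ l : T ⟶ Q, l ≫ qQ = t ∧ ∀ j, l ≫ p j = a j := by
  intro m
  induction m with
  | zero =>
    intro P q hq
    refine ⟨P 0, q 0, Fin.cases (𝟙 _) (fun i => i.elim0), hq 0, ?_, ?_⟩
    · intro j
      obtain rfl : j = 0 := Fin.fin_one_eq_zero j
      simp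
    · intro T t a ha
      refine ⟨a 0, ha 0, ?_⟩
      intro j
      obtain rfl : j = 0 := Fin.fin_one_eq_zero j
      simp
  | succ m ih =>
    intro P q hq
    obtain ⟨Q', qQ', p', hQ', hp', hlift'⟩ := ih (fun j => P j.castSucc) (fun j => q j.castSucc)
      (fun j => hq j.castSucc)
    let ql : P (Fin.last (m + 1)) ⟶ S := q (Fin.last (m + 1))
    have hsnd : RelProj.IsHProjective (pullback.snd qQ' ql) := Groth.Agent.S9693.result qQ' hQ' ql
    have hQ : RelProj.IsHProjective (pullback.snd qQ' ql ≫ ql) :=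
      Groth.Agent.S9692.result _ _ hsnd (hq _)
    let p : ∀ j, pullback qQ' ql ⟶ P j :=
      Fin.lastCases (pullback.snd qQ' ql) (fun j => pullback.fst qQ' ql ≫ p' j)
    have hp_last : p (Fin.last (m + 1)) = pullback.snd qQ' ql := by
      simp [p]
    have hp_cast : ∀ j : Fin (m + 1), p j.castSucc = pullback.fst qQ' ql ≫ p' j := by
      intro j; simp [p]
    refine ⟨pullback qQ' ql, pullback.snd qQ' ql ≫ ql, p, hQ, ?_, ?_⟩
    · intro j
      refine Fin.lastCases ?_ (fun i => ?_) j
      · rw [hp_last]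
      · rw [hp_cast, Category.assoc, hp' i, pullback.condition]
    · intro T t a ha
      obtain ⟨l', hl', hl'p⟩ := hlift' T t (fun j => a j.castSucc) (fun j => ha j.castSucc)
      have hcond : l' ≫ qQ' = a (Fin.last (m + 1)) ≫ ql := by
        rw [hl', ha]
      refine ⟨pullback.lift l' (a (Fin.last (m + 1))) hcond, ?_, ?_⟩
      · rw [pullback.lift_snd_assoc, ha]
      · intro j
        refine Fin.lastCases ?_ (fun i => ?_) j
        · rw [hp_last, pullback.lift_snd]
        · rw [hp_cast, pullback.lift_fst_assoc, hl'p]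

end Groth.Agent.Lib.Helper1.Chow
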