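import Groth.Agent.Lib.Helper1.NACI

/-!
# Immersion of a limit into a product with a finite stage (helper1)

If `X = lim Xᵢ` (affine transitions) is quasi-compact and `f : X ⟶ S` is locally of finite type,
then `X ⟶ Xₖ × S` is an immersion for some `k`.
-/

set_option autoImplicit false
set_option linter.unusedSectionVars false
set_option linter.style.haveILetI false
universe u

namespace Groth.Agent.Lib.Helper1.NA

open AlgebraicGeometry CategoryTheory CategoryTheory.Limits TopologicalSpace Opposite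

/-- Gluing closed immersions over opens of the target covering the image gives an immersion. -/
lemma isImmersion_of_cover {X P : Scheme.{u}} (g : X ⟶ P) {ι : Type u} (O : ι → P.Opens)
    (h : ∀ l, IsClosedImmersion (g ∣_ O l)) (hcov : ⨆ l, g ⁻¹ᵁ O l = ⊤) : IsImmersion g := by
  let Ω : P.Opens := ⨆ l, O l
  have hr : Set.range g ⊆ Set.range Ω.ι := by
    rw [Scheme.Opens.range_ι]
    rintro _ ⟨x, rfl⟩
    have hx : x ∈ ⨆ l, g ⁻¹ᵁ O l := by rw [hcov]; trivial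
    obtain ⟨l, hl⟩ := Opens.mem_iSup.mp hx
    exact Opens.mem_iSup.mpr ⟨l, hl⟩
  obtain ⟨g', hg'⟩ : ∃ g' : X ⟶ Ω, g' ≫ Ω.ι = g :=
    ⟨IsOpenImmersion.lift Ω.ι g hr, IsOpenImmersion.lift_fac _ _ _⟩
  subst hg'
  have hcov' : ⨆ l, Ω.ι ⁻¹ᵁ O l = ⊤ := by
    rw [← Scheme.Hom.preimage_iSup]
    exact Scheme.Opens.ι_preimage_self Ω
  have : IsClosedImmersion g' := by
    rw [IsZariskiLocalAtTarget.iff_of_iSup_eq_top (P := @IsClosedImmersion) _ hcov']
    intro l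
    have h1 := h l
    rw [morphismRestrict_comp] at h1
    exact @IsClosedImmersion.of_comp _ _ _ (g' ∣_ Ω.ι ⁻¹ᵁ O l) (Ω.ι ∣_ O l) h1 inferInstance
  infer_instance

/-- In a fibre product over an affine base, the "box" of two affine opens is affine. -/
lemma isAffineOpen_box {P X S B : Scheme.{u}} [IsAffine B] {p₁ : P ⟶ X} {p₂ : P ⟶ S}
    {tX : X ⟶ B} {tS : S ⟶ B} (hP : IsPullback p₁ p₂ tX tS) (V : X.Opens) (hV : IsAffineOpen V)
    (U : S.Opens) (hU : IsAffineOpen U) : IsAffineOpen (p₁ ⁻¹ᵁ V ⊓ p₂ ⁻¹ᵁ U) := by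
  let Q : P.Opens := p₂ ⁻¹ᵁ U
  have h1 : IsPullback (p₂ ∣_ U) Q.ι U.ι p₂ := isPullback_morphismRestrict p₂ U
  have h2 : IsPullback (Q.ι ≫ p₁) (p₂ ∣_ U) tX (U.ι ≫ tS) := h1.flip.paste_horiz hP
  have : IsAffine (U : Scheme.{u}) := hU
  have h3 : IsAffineHom (Q.ι ≫ p₁) :=
    MorphismProperty.of_isPullback (P := @IsAffineHom) h2.flip inferInstance
  have h4 : IsAffineOpen ((Q.ι ≫ p₁) ⁻¹ᵁ V) := hV.preimage (Q.ι ≫ p₁)
  have h5 := h4.image_of_isOpenImmersion Q.ι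
  have h6 : Q.ι ''ᵁ ((Q.ι ≫ p₁) ⁻¹ᵁ V) = p₁ ⁻¹ᵁ V ⊓ p₂ ⁻¹ᵁ U := by
    rw [Scheme.Hom.comp_preimage, Scheme.Hom.image_preimage_eq_opensRange_inf,
      Scheme.Opens.opensRange_ι, inf_comm]
  rw [← h6]
  exact h5

section affine

variable {I : Type u} [Category.{u} I] (D : I ⥤ Scheme.{u}) (c : Cone D) (hc : IsLimit c)

include hc in
/-- For a cofiltered diagram of affine schemes, finitely many global sections of the limit come
from a common finite level. -/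
lemma exists_subset_range_appTop [IsCofiltered I] [∀ i, IsAffine (D.obj i)]
    (T : Finset Γ(c.pt, ⊤)) :
    ∃ j : I, ∀ (k : I) (_ : k ⟶ j),
      (T : Set Γ(c.pt, ⊤)) ⊆ Set.range (coneLeg D c k).appTop.hom := by
  classical
  choose ι u hu using exists_appTop_π_eq_of_isAffine_of_isLimit D c hc
  obtain ⟨j, hj⟩ := IsCofiltered.inf_objs_exists (T.image ι)
  refine ⟨j, fun k g t ht => ?_⟩
  obtain ⟨a⟩ := hj (Finset.mem_image_of_mem ι ht)
  refine ⟨(D.map (g ≫ a)).appTop.hom (u t), ?_⟩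
  have : coneLeg D c k ≫ D.map (g ≫ a) = coneLeg D c (ι t) := c.w (g ≫ a)
  have h2 : (coneLeg D c (ι t)).appTop.hom (u t) = t := hu t
  rw [← this, Scheme.Hom.comp_appTop] at h2
  exact h2

end affine

/-- The structure map to `Spec ℤ`. -/
noncomputable abbrev tZ (X : Scheme.{u}) : X ⟶ Spec (CommRingCat.of (ULift.{u} ℤ)) :=
  IsTerminal.from specULiftZIsTerminal X

section Imm

variable {I : Type u} [Preorder I] [IsDirected I (fun a b => a ≤ b)] [Nonempty I]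
  (D : Iᵒᵖ ⥤ Scheme.{u}) (c : Cone D) (hc : IsLimit c)
  (haff : ∀ (i j : Iᵒᵖ) (a : i ⟶ j), IsAffineHom (D.map a))
  {S : Scheme.{u}} (f : c.pt ⟶ S)

/-- The product of a stage with `S`. -/
noncomputable abbrev Pk (k : Iᵒᵖ) : Scheme.{u} := pullback (tZ (D.obj k)) (tZ S)

/-- The map from the limit to the product of a stage with `S`. -/
noncomputable def gk (k : Iᵒᵖ) : c.pt ⟶ Pk D (S := S) k :=
  pullback.lift (coneLeg D c k) f (specULiftZIsTerminal.hom_ext _ _)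

@[reassoc (attr := simp)]
lemma gk_fst (k : Iᵒᵖ) : gk D c f k ≫ pullback.fst _ _ = coneLeg D c k := pullback.lift_fst _ _ _

@[reassoc (attr := simp)]
lemma gk_snd (k : Iᵒᵖ) : gk D c f k ≫ pullback.snd _ _ = f := pullback.lift_snd _ _ _

/-- The box open of the product. -/
noncomputable def box (k : Iᵒᵖ) (V : (D.obj k).Opens) (U : S.Opens) : (Pk D (S := S) k).Opens :=
  pullback.fst (tZ (D.obj k)) (tZ S) ⁻¹ᵁ V ⊓ pullback.snd (tZ (D.obj k)) (tZ S) ⁻¹ᵁ U

lemma gk_preimage_box (k : Iᵒᵖ) (V : (D.obj k).Opens) (U : S.Opens) :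
    gk D c f k ⁻¹ᵁ box D k V U = coneLeg D c k ⁻¹ᵁ V ⊓ f ⁻¹ᵁ U := by
  unfold box
  rw [Scheme.Hom.preimage_inf, ← Scheme.Hom.comp_preimage, ← Scheme.Hom.comp_preimage, gk_fst,
    gk_snd]

include hc haff in
/-- Local statement: over a box of affine opens, `gk` is eventually a closed immersion. -/
lemma exists_isClosedImmersion_gk_box [LocallyOfFiniteType f] (i₀ : I)
    (V : (D.obj (op i₀)).Opens) (hV : IsAffineOpen V) (U : S.Opens) (hU : IsAffineOpen U)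
    (hWU : coneLeg D c (op i₀) ⁻¹ᵁ V ≤ f ⁻¹ᵁ U) :
    ∃ k₀, i₀ ≤ k₀ ∧ ∀ k (hik : i₀ ≤ k), k₀ ≤ k →
      IsClosedImmersion (gk D c f (op k) ∣_ box D (op k) (D.map (homOfLE hik).op ⁻¹ᵁ V) U) ∧
      coneLeg D c (op i₀) ⁻¹ᵁ V ≤
        gk D c f (op k) ⁻¹ᵁ box D (op k) (D.map (homOfLE hik).op ⁻¹ᵁ V) U := by
  have haff' : ∀ {i j : Iᵒᵖ} (a : i ⟶ j), IsAffineHom (D.map a) := fun a => haff _ _ a
  let W : c.pt.Opens := coneLeg D c (op i₀) ⁻¹ᵁ V
  have hπ : IsAffineHom (coneLeg D c (op i₀)) := isAffineHom_π_app D c hc (op i₀)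
  have hWa : IsAffineOpen W := hV.preimage _
  let fW : (W : Scheme.{u}) ⟶ U := f.resLE U W hWU
  have hW' : IsAffine (W : Scheme.{u}) := hWa
  have hU' : IsAffine (U : Scheme.{u}) := hU
  have hft := (HasRingHomProperty.iff_of_isAffine (P := @LocallyOfFiniteType)).mp
    (inferInstance : LocallyOfFiniteType fW)
  obtain ⟨T, hT⟩ := exists_finset_of_finiteType _ hft
  have hA : ∀ j : Over (op i₀), IsAffine ((opensDiagram D (op i₀) V).obj j) :=
    fun j => hV.preimage (D.map _)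
  obtain ⟨j, hj⟩ := exists_subset_range_appTop (opensDiagram D (op i₀) V)
    (opensCone D c (op i₀) V) (isLimitOpensCone D c hc (op i₀) V) T
  refine ⟨j.left.unop, leOfHom j.hom.unop, fun k hik hk => ?_⟩
  let a : op k ⟶ op i₀ := (homOfLE hik).op
  let K : Over (op i₀) := Over.mk a
  let g' : K ⟶ j := Over.homMk (homOfLE hk).op (Subsingleton.elim _ _)
  have hTk := hj K g'
  let Vk : (D.obj (op k)).Opens := D.map a ⁻¹ᵁ V
  let O : (Pk D (S := S) (op k)).Opens := box D (op k) Vk U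
  let g : c.pt ⟶ Pk D (S := S) (op k) := gk D c f (op k)
  have hVk : coneLeg D c (op k) ⁻¹ᵁ Vk = W := by
    rw [← Scheme.Hom.comp_preimage]
    have : coneLeg D c (op k) ≫ D.map a = coneLeg D c (op i₀) := c.w a
    rw [this]
  have hpre : g ⁻¹ᵁ O = W := by
    rw [gk_preimage_box, hVk]
    exact inf_eq_left.mpr hWU
  refine ⟨?_, hpre.ge⟩
  have hOa : IsAffineOpen O :=
    isAffineOpen_box (IsPullback.of_hasPullback _ _) Vk (hV.preimage _) U hU
  let gW : (W : Scheme.{u}) ⟶ O := g.resLE O W hpre.ge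
  have hO' : IsAffine (O : Scheme.{u}) := hOa
  suffices hs : Function.Surjective gW.appTop.hom by
    have := IsClosedImmersion.of_surjective_of_isAffine gW hs
    rw [← Scheme.Hom.resLE_eq_morphismRestrict]
    exact (Scheme.Hom.resLE_congr g _ rfl hpre.symm @IsClosedImmersion).mp this
  let p₁O : (O : Scheme.{u}) ⟶ Vk := (pullback.fst (tZ (D.obj (op k))) (tZ S)).resLE Vk O inf_le_left
  let p₂O : (O : Scheme.{u}) ⟶ U := (pullback.snd (tZ (D.obj (op k))) (tZ S)).resLE U O inf_le_right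
  let πW : (W : Scheme.{u}) ⟶ Vk := coneLeg _ (opensCone D c (op i₀) V) K
  have e1 : gW ≫ p₁O = πW := by
    rw [← cancel_mono Vk.ι]
    change (g.resLE O W hpre.ge ≫
      (pullback.fst (tZ (D.obj (op k))) (tZ S)).resLE Vk O inf_le_left) ≫ Vk.ι =
      (coneLeg D c (op k)).resLE Vk W _ ≫ Vk.ι
    rw [Category.assoc, Scheme.Hom.resLE_comp_ι, Scheme.Hom.resLE_comp_ι_assoc,
      Scheme.Hom.resLE_comp_ι]
    change W.ι ≫ gk D c f (op k) ≫ pullback.fst _ _ = _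
    rw [gk_fst]
  have e2 : gW ≫ p₂O = fW := by
    rw [← cancel_mono U.ι]
    change (g.resLE O W hpre.ge ≫
      (pullback.snd (tZ (D.obj (op k))) (tZ S)).resLE U O inf_le_right) ≫ U.ι =
      f.resLE U W _ ≫ U.ι
    rw [Category.assoc, Scheme.Hom.resLE_comp_ι, Scheme.Hom.resLE_comp_ι_assoc,
      Scheme.Hom.resLE_comp_ι]
    change W.ι ≫ gk D c f (op k) ≫ pullback.snd _ _ = _
    rw [gk_snd]
  have key : gW.appTop.hom.range = ⊤ := by
    apply hT
    · rintro _ ⟨r, rfl⟩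
      refine ⟨p₂O.appTop.hom r, ?_⟩
      rw [← e2, Scheme.Hom.comp_appTop]
      rfl
    · intro t ht
      obtain ⟨v, hv⟩ := hTk ht
      refine ⟨p₁O.appTop.hom v, ?_⟩
      have hv' : πW.appTop.hom v = t := hv
      rw [← hv', ← e1, Scheme.Hom.comp_appTop]
      rfl
  intro x
  have : x ∈ gW.appTop.hom.range := by rw [key]; trivial
  exact this

include hc haff in
/-- **Immersion into a product with a finite stage.** -/
theorem exists_isImmersion_gk [CompactSpace c.pt] [LocallyOfFiniteType f] :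
    ∃ k : I, IsImmersion (gk D c f (op k)) := by
  classical
  have haff' : ∀ {i j : Iᵒᵖ} (a : i ⟶ j), IsAffineHom (D.map a) := fun a => haff _ _ a
  have h1 : ∀ x : c.pt, ∃ U : S.Opens, IsAffineOpen U ∧ f x ∈ U := fun x => by
    obtain ⟨_, ⟨U, hU, rfl⟩, hxU, -⟩ :=
      S.isBasis_affineOpens.exists_subset_of_mem_open (Set.mem_univ (f x)) isOpen_univ
    exact ⟨U, hU, hxU⟩
  choose U hU hxU using h1
  have h2 : ∀ x : c.pt, ∃ (i : Iᵒᵖ) (V : (D.obj i).Opens), IsAffineOpen V ∧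
      x ∈ coneLeg D c i ⁻¹ᵁ V ∧ coneLeg D c i ⁻¹ᵁ V ≤ f ⁻¹ᵁ U x := fun x => by
    obtain ⟨_, ⟨_, ⟨i, V, hV, rfl⟩, rfl⟩, hxV, hle⟩ :=
      (isBasis_preimage_isAffineOpen D c hc).exists_subset_of_mem_open
        (hxU x : x ∈ f ⁻¹ᵁ U x) (f ⁻¹ᵁ U x).2
    exact ⟨i, V, hV, hxV, hle⟩
  choose i V hV hxV hVU using h2
  obtain ⟨t, ht⟩ := CompactSpace.elim_nhds_subcover
    (fun x => ((coneLeg D c (i x) ⁻¹ᵁ V x : c.pt.Opens) : Set c.pt))
    (fun x => (coneLeg D c (i x) ⁻¹ᵁ V x).2.mem_nhds (hxV x))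
  obtain ⟨i₀, hi₀⟩ := Finset.exists_le (t.image (fun x => (i x).unop))
  have hle : ∀ x : t, (i x.1).unop ≤ i₀ := fun x => hi₀ _ (Finset.mem_image_of_mem _ x.2)
  let a : ∀ x : t, op i₀ ⟶ i x.1 := fun x => (homOfLE (hle x)).op
  let V' : t → (D.obj (op i₀)).Opens := fun x => D.map (a x) ⁻¹ᵁ V x.1
  have hV' : ∀ x, IsAffineOpen (V' x) := fun x => (hV x.1).preimage _
  have hW : ∀ x : t, coneLeg D c (op i₀) ⁻¹ᵁ V' x = coneLeg D c (i x.1) ⁻¹ᵁ V x.1 := fun x => by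
    rw [← Scheme.Hom.comp_preimage]
    have : coneLeg D c (op i₀) ≫ D.map (a x) = coneLeg D c (i x.1) := c.w (a x)
    rw [this]
  have h3 := fun x : t => exists_isClosedImmersion_gk_box D c hc haff f i₀ (V' x) (hV' x)
    (U x.1) (hU x.1) (by rw [hW]; exact hVU x.1)
  choose k₀ hk₀ hk using h3
  obtain ⟨k, hk'⟩ := Finset.exists_le (insert i₀ (Finset.univ.image k₀))
  have hik : i₀ ≤ k := hk' _ (Finset.mem_insert_self _ _)
  have hkk : ∀ x : t, k₀ x ≤ k := fun x =>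
    hk' _ (Finset.mem_insert_of_mem (Finset.mem_image_of_mem _ (Finset.mem_univ x)))
  refine ⟨k, isImmersion_of_cover (gk D c f (op k))
    (fun x : t => box D (op k) (D.map (homOfLE hik).op ⁻¹ᵁ V' x) (U x.1))
    (fun x => (hk x k hik (hkk x)).1) ?_⟩
  rw [eq_top_iff]
  intro y _
  have hy : y ∈ ⋃ x ∈ t, ((coneLeg D c (i x) ⁻¹ᵁ V x : c.pt.Opens) : Set c.pt) := by
    rw [ht]; trivial
  obtain ⟨x, hx⟩ := Set.mem_iUnion.mp hy
  obtain ⟨hxt, hyx⟩ := Set.mem_iUnion.mp hx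
  refine Opens.mem_iSup.mpr ⟨⟨x, hxt⟩, (hk ⟨x, hxt⟩ k hik (hkk _)).2 ?_⟩
  rw [hW]
  exact hyx

end Imm

end Groth.Agent.Lib.Helper1.NA
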