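import Groth.Agent.Lib.Helper1.ChowMain

/-!
# Chow's lemma: the main construction, exposing the dense lift (helper1)
-/

set_option autoImplicit false
set_option linter.unusedSectionVars false
set_option linter.style.haveILetI false
universe u

namespace Groth.Agent.Lib.Helper1.Chow

open AlgebraicGeometry CategoryTheory CategoryTheory.Limits TopologicalSpace Opposite
open Groth.Agent.Lib.Helper1.NA Groth.Agent.Lib.Helper29.QCoh

set_option maxHeartbeats 1600000 in
/-- The core of Chow's lemma (EGA II 5.6.1). -/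
theorem chow_core' {X S : Scheme.{u}} (f : X ⟶ S) [IsSeparated f] (m : ℕ)
    (U : Fin (m + 1) → X.Opens) (U₀ : X.Opens) (hcov : ⨆ j, U j = ⊤) (hle : ∀ j, U₀ ≤ U j)
    [QuasiCompact U₀.ι] (P : Fin (m + 1) → Scheme.{u}) (q : ∀ j, P j ⟶ S)
    (hq : ∀ j, RelProj.IsHProjective (q j)) (φ : ∀ j, (U j : Scheme.{u}) ⟶ P j)
    [∀ j, IsOpenImmersion (φ j)] (hφ : ∀ j, φ j ≫ q j = (U j).ι ≫ f) :
    ∃ (X' Q : Scheme.{u}) (π : X' ⟶ X) (qQ : Q ⟶ S) (g : X' ⟶ Q),
      RelProj.IsHProjective qQ ∧ IsImmersion g ∧ g ≫ qQ = π ≫ f ∧ IsProper π ∧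
      (∀ x ∈ U₀, x ∈ Set.range π) ∧ IsIso (π ∣_ U₀) ∧
      ∃ τ : (U₀ : Scheme.{u}) ⟶ X', QuasiCompact τ ∧ τ.ker = ⊥ ∧ τ ≫ π = U₀.ι := by
  obtain ⟨Q, qQ, p, hQ, hp, hlift⟩ := exists_hprojective_product m P q hq
  have hqQproper : IsProper qQ := isProper_of_isHProjective qQ hQ
  have hqproper : ∀ j, IsProper (q j) := fun j => isProper_of_isHProjective _ (hq j)
  let a : ∀ j, (U₀ : Scheme.{u}) ⟶ P j := fun j => X.homOfLE (hle j) ≫ φ j
  have ha : ∀ j, a j ≫ q j = U₀.ι ≫ f := by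
    intro j
    change (X.homOfLE (hle j) ≫ φ j) ≫ q j = U₀.ι ≫ f
    rw [Category.assoc, hφ, ← Category.assoc, Scheme.homOfLE_ι]
  obtain ⟨ψ, hψq, hψp⟩ := hlift U₀ (U₀.ι ≫ f) a ha
  let ψ' : (U₀ : Scheme.{u}) ⟶ pullback f qQ := pullback.lift U₀.ι ψ hψq.symm
  have hψ'1 : ψ' ≫ pullback.fst f qQ = U₀.ι := pullback.lift_fst _ _ _
  have hψ'2 : ψ' ≫ pullback.snd f qQ = ψ := pullback.lift_snd _ _ _
  have hqcψ' : QuasiCompact ψ' := by
    have : QuasiCompact (ψ' ≫ pullback.fst f qQ) := by rw [hψ'1]; infer_instance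
    exact QuasiCompact.of_comp ψ' (pullback.fst f qQ)
  let ι' : ψ'.image ⟶ pullback f qQ := ψ'.imageι
  let τ : (U₀ : Scheme.{u}) ⟶ ψ'.image := ψ'.toImage
  have hτι : τ ≫ ι' = ψ' := ψ'.toImage_imageι
  have hτker : τ.ker = ⊥ := ker_toImage ψ'
  have hτqc : QuasiCompact τ := inferInstanceAs (QuasiCompact ψ'.toImage)
  have hι'ci : IsClosedImmersion ι' := inferInstanceAs (IsClosedImmersion ψ'.imageι)
  let π : ψ'.image ⟶ X := ι' ≫ pullback.fst f qQ
  let g : ψ'.image ⟶ Q := ι' ≫ pullback.snd f qQ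
  have hτπ : τ ≫ π = U₀.ι := by
    change τ ≫ ι' ≫ pullback.fst f qQ = _
    rw [← Category.assoc, hτι, hψ'1]
  have hτg : τ ≫ g = ψ := by
    change τ ≫ ι' ≫ pullback.snd f qQ = _
    rw [← Category.assoc, hτι, hψ'2]
  have hgq : g ≫ qQ = π ≫ f := by
    change (ι' ≫ pullback.snd f qQ) ≫ qQ = (ι' ≫ pullback.fst f qQ) ≫ f
    rw [Category.assoc, Category.assoc, pullback.condition]
  have hπ : IsProper π := inferInstanceAs (IsProper (ι' ≫ pullback.fst f qQ))
  have hτπx : ∀ x : (U₀ : Scheme.{u}), π (τ x) = U₀.ι x := by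
    intro x
    rw [← Scheme.Hom.comp_apply, hτπ]
  have hτgp : ∀ j, τ ≫ g ≫ p j = X.homOfLE (hle j) ≫ φ j := by
    intro j
    rw [← Category.assoc, hτg, hψp]
  refine ⟨ψ'.image, Q, π, qQ, g, hQ, ?_, hgq, hπ, ?_, ?_, τ, hτqc, hτker, hτπ⟩
  · -- `g` is an immersion
    let W : Fin (m + 1) → Q.Opens := fun j => p j ⁻¹ᵁ (φ j).opensRange
    apply isImmersion_of_cover g (fun l : ULift.{u} (Fin (m + 1)) => W l.down)
    · -- closed immersions over each `W j`
      rintro ⟨j⟩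
      change IsClosedImmersion (g ∣_ W j)
      -- the morphism `u : W j ⟶ X`
      have hrange : Set.range (⇑((W j).ι ≫ p j)) ⊆ Set.range ⇑(φ j) := by
        rintro _ ⟨y, rfl⟩
        rw [Scheme.Hom.comp_apply]
        exact y.2
      let lj : (W j : Scheme.{u}) ⟶ U j := IsOpenImmersion.lift (φ j) ((W j).ι ≫ p j) hrange
      have hlj : lj ≫ φ j = (W j).ι ≫ p j := IsOpenImmersion.lift_fac _ _ _
      let uj : (W j : Scheme.{u}) ⟶ X := lj ≫ (U j).ι
      have huj : uj ≫ f = (W j).ι ≫ qQ := by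
        change (lj ≫ (U j).ι) ≫ f = _
        rw [Category.assoc, ← hφ, ← Category.assoc, hlj, Category.assoc, hp]
      let Γ : (W j : Scheme.{u}) ⟶ pullback f qQ := pullback.lift uj (W j).ι huj
      have hΓ1 : Γ ≫ pullback.fst f qQ = uj := pullback.lift_fst _ _ _
      have hΓ2 : Γ ≫ pullback.snd f qQ = (W j).ι := pullback.lift_snd _ _ _
      let V : (pullback f qQ).Opens := pullback.snd f qQ ⁻¹ᵁ W j
      have hΓrange : Set.range ⇑Γ ⊆ Set.range ⇑V.ι := by
        rw [Scheme.Opens.range_ι]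
        rintro _ ⟨y, rfl⟩
        change (pullback.snd f qQ) (Γ y) ∈ W j
        rw [← Scheme.Hom.comp_apply, hΓ2]
        exact y.2
      let ΓV : (W j : Scheme.{u}) ⟶ V := IsOpenImmersion.lift V.ι Γ hΓrange
      have hΓV : ΓV ≫ V.ι = Γ := IsOpenImmersion.lift_fac _ _ _
      let sndV : (V : Scheme.{u}) ⟶ W j := pullback.snd f qQ ∣_ W j
      have hsndV : sndV ≫ (W j).ι = V.ι ≫ pullback.snd f qQ := morphismRestrict_ι _ _
      have hsec : ΓV ≫ sndV = 𝟙 _ := by
        rw [← cancel_mono (W j).ι, Category.assoc, hsndV, ← Category.assoc, hΓV, hΓ2,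
          Category.id_comp]
      have hsepV : IsSeparated sndV := inferInstanceAs (IsSeparated (pullback.snd f qQ ∣_ W j))
      have hΓVci : IsClosedImmersion ΓV := by
        have : IsClosedImmersion (ΓV ≫ sndV) := by rw [hsec]; infer_instance
        exact IsClosedImmersion.of_comp ΓV sndV
      -- the restriction of `ι'` over `V`
      let ιV : ((ι' ⁻¹ᵁ V : ψ'.image.Opens) : Scheme.{u}) ⟶ V := ι' ∣_ V
      have hιV : ιV ≫ V.ι = (ι' ⁻¹ᵁ V).ι ≫ ι' := morphismRestrict_ι _ _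
      have hιVci : IsClosedImmersion ιV := inferInstanceAs (IsClosedImmersion (ι' ∣_ V))
      have hgW : g ∣_ W j = ιV ≫ sndV := morphismRestrict_comp ι' (pullback.snd f qQ) (W j)
      -- the dense map into `ι' ⁻¹ᵁ V`
      have hA : ∀ x, τ x ∈ ι' ⁻¹ᵁ V := by
        intro x
        change (p j) ((pullback.snd f qQ) (ι' (τ x))) ∈ (φ j).opensRange
        have h1 : (p j) ((pullback.snd f qQ) (ι' (τ x))) = (φ j) ((X.homOfLE (hle j)) x) := by
          rw [← Scheme.Hom.comp_apply, ← Scheme.Hom.comp_apply, ← Scheme.Hom.comp_apply,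
            ← Scheme.Hom.comp_apply]
          exact congrArg (fun z : (U₀ : Scheme.{u}) ⟶ P j => z x) (hτgp j)
        rw [h1]
        exact ⟨_, rfl⟩
      obtain ⟨σ, hσ, hσker⟩ := exists_lift_ker_eq_bot τ hτker (ι' ⁻¹ᵁ V) hA
      have hkey : σ ≫ ιV ≫ sndV ≫ (W j).ι = ψ := by
        rw [hsndV, ← Category.assoc ιV, hιV, Category.assoc, ← Category.assoc σ, hσ,
          ← Category.assoc, hτι, hψ'2]
      have hkey' : ∀ {Z : Scheme.{u}} (h : Q ⟶ Z), σ ≫ ιV ≫ sndV ≫ (W j).ι ≫ h = ψ ≫ h := by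
        intro Z h
        rw [← hkey]
        simp only [Category.assoc]
      have hfact : (ιV ≫ sndV) ≫ ΓV = ιV := by
        apply ext_of_ker_eq_bot σ hσker _ _ sndV
        · rw [Category.assoc, Category.assoc, hsec, Category.comp_id]
        · rw [← cancel_mono V.ι]
          simp only [Category.assoc]
          rw [hΓV, hιV, ← Category.assoc σ (ι' ⁻¹ᵁ V).ι, hσ, hτι]
          apply pullback.hom_ext
          · simp only [Category.assoc]
            rw [hΓ1, hψ'1]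
            change σ ≫ ιV ≫ sndV ≫ lj ≫ (U j).ι = _
            rw [← Scheme.homOfLE_ι X (hle j)]
            have h2 : σ ≫ ιV ≫ sndV ≫ lj = X.homOfLE (hle j) := by
              rw [← cancel_mono (φ j)]
              simp only [Category.assoc]
              rw [hlj, hkey', hψp]
            rw [← h2]
            simp only [Category.assoc]
          · simp only [Category.assoc]
            rw [hΓ2, hψ'2, hkey]
      rw [hgW]
      have : IsClosedImmersion ((ιV ≫ sndV) ≫ ΓV) := by rw [hfact]; exact hιVci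
      exact IsClosedImmersion.of_comp (ιV ≫ sndV) ΓV
    · -- the cover
      rw [eq_top_iff]
      intro x' _
      have hx : π x' ∈ (⨆ j, U j : X.Opens) := by rw [hcov]; trivial
      obtain ⟨j, hj⟩ := Opens.mem_iSup.mp hx
      refine Opens.mem_iSup.mpr ⟨⟨j⟩, ?_⟩
      change (p j) (g x') ∈ (φ j).opensRange
      have hB : ∀ x, τ x ∈ π ⁻¹ᵁ U j := by
        intro x
        change π (τ x) ∈ U j
        rw [hτπx]
        exact hle j x.2
      obtain ⟨σ, hσ, hσker⟩ := exists_lift_ker_eq_bot τ hτker (π ⁻¹ᵁ U j) hB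
      have hπr : (π ∣_ U j) ≫ (U j).ι = (π ⁻¹ᵁ U j).ι ≫ π := morphismRestrict_ι _ _
      have hαβ : (π ∣_ U j) ≫ φ j = (π ⁻¹ᵁ U j).ι ≫ g ≫ p j := by
        apply ext_of_ker_eq_bot σ hσker _ _ (q j)
        · rw [Category.assoc, hφ, ← Category.assoc, hπr]
          simp only [Category.assoc]
          rw [hp, hgq]
        · have hR : σ ≫ (π ⁻¹ᵁ U j).ι ≫ g ≫ p j = X.homOfLE (hle j) ≫ φ j := by
            rw [← Category.assoc, hσ, hτgp]
          have h2 : σ ≫ (π ∣_ U j) = X.homOfLE (hle j) := by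
            rw [← cancel_mono (U j).ι, Category.assoc, hπr, ← Category.assoc, hσ, hτπ,
              Scheme.homOfLE_ι]
          rw [hR, ← Category.assoc, h2]
      have h3 := congrArg (fun z : ((π ⁻¹ᵁ U j : ψ'.image.Opens) : Scheme.{u}) ⟶ P j =>
        z ⟨x', hj⟩) hαβ
      simp only [Scheme.Hom.comp_apply] at h3
      change _ = (p j) (g x') at h3
      rw [← h3]
      exact ⟨_, rfl⟩
  · -- the image contains `U₀`
    intro x hx
    exact ⟨τ ⟨x, hx⟩, hτπx ⟨x, hx⟩⟩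
  · -- isomorphism over `U₀`
    have hC : ∀ x, τ x ∈ π ⁻¹ᵁ U₀ := by
      intro x
      change π (τ x) ∈ U₀
      rw [hτπx]
      exact x.2
    obtain ⟨σ, hσ, hσker⟩ := exists_lift_ker_eq_bot τ hτker (π ⁻¹ᵁ U₀) hC
    have hπr : (π ∣_ U₀) ≫ U₀.ι = (π ⁻¹ᵁ U₀).ι ≫ π := morphismRestrict_ι _ _
    have hsec : σ ≫ (π ∣_ U₀) = 𝟙 _ := by
      rw [← cancel_mono U₀.ι, Category.assoc, hπr, ← Category.assoc, hσ, hτπ, Category.id_comp]
    have hsep : IsSeparated (π ∣_ U₀) := inferInstance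
    have hσci : IsClosedImmersion σ := by
      have : IsClosedImmersion (σ ≫ (π ∣_ U₀)) := by rw [hsec]; infer_instance
      exact IsClosedImmersion.of_comp σ (π ∣_ U₀)
    have hσiso : IsIso σ := IsClosedImmersion.isIso_iff_ker_eq_bot.mpr hσker
    have : IsIso (σ ≫ (π ∣_ U₀)) := by rw [hsec]; infer_instance
    exact IsIso.of_isIso_comp_left σ (π ∣_ U₀)

end Groth.Agent.Lib.Helper1.Chow
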