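import Groth.Agent.Lib.Helper1.ChowLim2
import Groth.Agent.S9189

/-!
# Descending properness through limits, via Chow's lemma (helper1)
-/

set_option autoImplicit false
set_option linter.unusedSectionVars false
set_option linter.style.haveILetI false
universe u

namespace Groth.Agent.Lib.Helper1.Chow

open AlgebraicGeometry CategoryTheory CategoryTheory.Limits TopologicalSpace Opposite
open Groth.Agent.Lib.Helper1.NA Groth.Agent.Lib.Helper29.QCoh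

/-- Base change of Chow data: a pasting lemma. -/
theorem exists_pullback_chow {X₁ Y₁ X₁' X'' Y'' A B : Scheme.{u}} {n : ℕ}
    (f₁ : X₁ ⟶ Y₁) (π₁ : X₁' ⟶ X₁) (j₁ : X₁' ⟶ CohB1.ProjSpaceOver n Y₁)
    (hj₁ : j₁ ≫ CohB1.ProjSpaceOver.toBase n Y₁ = π₁ ≫ f₁)
    (rX : X'' ⟶ X₁) (f' : X'' ⟶ Y'') (rY : Y'' ⟶ Y₁) (hX'' : IsPullback rX f' f₁ rY)
    (pB : B ⟶ CohB1.ProjSpaceOver n Y₁) (tB : B ⟶ Y'')
    (hB : IsPullback pB tB (CohB1.ProjSpaceOver.toBase n Y₁) rY)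
    (pA : A ⟶ X₁') (fA : A ⟶ B) (hA : IsPullback pA fA j₁ pB) :
    ∃ πA : A ⟶ X'', IsPullback πA pA rX π₁ ∧ πA ≫ f' = fA ≫ tB := by
  have hc : (pA ≫ π₁) ≫ f₁ = (fA ≫ tB) ≫ rY := by
    rw [Category.assoc, ← hj₁, ← Category.assoc, hA.w, Category.assoc, hB.w, Category.assoc]
  let πA : A ⟶ X'' := hX''.lift (pA ≫ π₁) (fA ≫ tB) hc
  have h1 : πA ≫ rX = pA ≫ π₁ := hX''.lift_fst _ _ _
  have h2 : πA ≫ f' = fA ≫ tB := hX''.lift_snd _ _ _
  refine ⟨πA, ?_, h2⟩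
  have hbig : IsPullback (πA ≫ f') pA rY (π₁ ≫ f₁) := by
    rw [h2, ← hj₁]
    exact hA.flip.paste_horiz hB.flip
  exact IsPullback.of_right hbig h1 hX''.flip

set_option maxHeartbeats 1600000 in
/-- Properness descends through limits (Stacks 081F). -/
theorem exists_isProper_descend {I : Type u} [SmallCategory I] [IsCofiltered I]
    (D : I ⥤ Scheme.{u}) (c : Limits.Cone D) (hc : Limits.IsLimit c)
    [∀ (i j : I) (f : i ⟶ j), IsAffineHom (D.map f)] (i₀ : I) [CompactSpace (D.obj i₀)]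
    [QuasiSeparatedSpace (D.obj i₀)] {X₀ Y₀ : Scheme.{u}} (f₀ : X₀ ⟶ Y₀) (g₀ : Y₀ ⟶ D.obj i₀)
    [CompactSpace X₀] [QuasiSeparatedSpace X₀] [CompactSpace Y₀] [QuasiSeparatedSpace Y₀]
    {X Y : Scheme.{u}} (f : X ⟶ Y) (g : Y ⟶ c.pt) (qY : Y ⟶ Y₀) (qX : X ⟶ X₀)
    (hY : IsPullback qY g g₀ (c.π.app i₀)) (hX : IsPullback qX f f₀ qY) [LocallyOfFiniteType f₀]
    [IsProper f] :
    ∃ (i : I) (φ : i ⟶ i₀) (Xi Yi : Scheme.{u}) (fi : Xi ⟶ Yi) (gi : Yi ⟶ D.obj i) (pY : Yi ⟶ Y₀)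
      (pX : Xi ⟶ X₀), IsPullback pY gi g₀ (D.map φ) ∧ IsPullback pX fi f₀ pY ∧ IsProper fi := by
  -- Step 1: separatedness descends
  obtain ⟨i₁, φ₁, X₁, Y₁, f₁, g₁, pY₁, pX₁, hY₁, hX₁, hf₁sep⟩ :=
    Groth.Agent.S9190.result D c hc i₀ f₀ g₀ f g qY qX hY hX
  -- the maps `Y ⟶ Y₁`, `X ⟶ X₁`
  have hcπ : c.π.app i₁ ≫ D.map φ₁ = c.π.app i₀ := by
    have := c.π.naturality φ₁
    simp only [Functor.const_obj_obj, Functor.const_obj_map, Category.id_comp] at this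
    exact this.symm
  have hrYc : qY ≫ g₀ = (g ≫ c.π.app i₁) ≫ D.map φ₁ := by
    rw [Category.assoc, hcπ]
    exact hY.w
  let rY : Y ⟶ Y₁ := hY₁.lift qY (g ≫ c.π.app i₁) hrYc
  have hrY1 : rY ≫ pY₁ = qY := hY₁.lift_fst _ _ _
  have hrY2 : rY ≫ g₁ = g ≫ c.π.app i₁ := hY₁.lift_snd _ _ _
  have hYY₁ : IsPullback rY g g₁ (c.π.app i₁) := by
    have hbig : IsPullback (rY ≫ pY₁) g g₀ (c.π.app i₁ ≫ D.map φ₁) := by
      rw [hrY1, hcπ]
      exact hY
    exact IsPullback.of_right hbig hrY2 hY₁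
  have hrXc : qX ≫ f₀ = (f ≫ rY) ≫ pY₁ := by
    rw [Category.assoc, hrY1]
    exact hX.w
  let rX : X ⟶ X₁ := hX₁.lift qX (f ≫ rY) hrXc
  have hrX1 : rX ≫ pX₁ = qX := hX₁.lift_fst _ _ _
  have hrX2 : rX ≫ f₁ = f ≫ rY := hX₁.lift_snd _ _ _
  have hXX₁ : IsPullback rX f f₁ rY := by
    have hbig : IsPullback (rX ≫ pX₁) f f₀ (rY ≫ pY₁) := by
      rw [hrX1, hrY1]
      exact hX
    exact IsPullback.of_right hbig hrX2 hX₁
  -- qcqs-ness of the stage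
  have haffφ₁ : IsAffineHom (D.map φ₁) := inferInstance
  have haffpY₁ : IsAffineHom pY₁ := MorphismProperty.of_isPullback hY₁.flip haffφ₁
  have haffpX₁ : IsAffineHom pX₁ := MorphismProperty.of_isPullback hX₁.flip haffpY₁
  have hS₁c : CompactSpace (D.obj i₁) := QuasiCompact.compactSpace_of_compactSpace (D.map φ₁)
  have hS₁q : QuasiSeparatedSpace (D.obj i₁) := quasiSeparatedSpace_of_quasiSeparated (D.map φ₁)
  have hY₁c : CompactSpace Y₁ := QuasiCompact.compactSpace_of_compactSpace pY₁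
  have hY₁q : QuasiSeparatedSpace Y₁ := quasiSeparatedSpace_of_quasiSeparated pY₁
  have hX₁c : CompactSpace X₁ := QuasiCompact.compactSpace_of_compactSpace pX₁
  have hX₁q : QuasiSeparatedSpace X₁ := quasiSeparatedSpace_of_quasiSeparated pX₁
  have hf₁lft : LocallyOfFiniteType f₁ := MorphismProperty.of_isPullback hX₁ inferInstance
  have hf₁qc : QuasiCompact f₁ := inferInstance
  -- Step 2: Chow's lemma for `f₁`
  obtain ⟨n, X₁', π₁, j₁, hj₁imm, hj₁, hπ₁p, hπ₁s⟩ := chow_qcqs f₁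
  have hX₁'c : CompactSpace X₁' := QuasiCompact.compactSpace_of_compactSpace π₁
  have hX₁'q : QuasiSeparatedSpace X₁' := quasiSeparatedSpace_of_quasiSeparated π₁
  have hPc : CompactSpace (CohB1.ProjSpaceOver n Y₁) :=
    QuasiCompact.compactSpace_of_compactSpace (CohB1.ProjSpaceOver.toBase n Y₁)
  have hPq : QuasiSeparatedSpace (CohB1.ProjSpaceOver n Y₁) :=
    quasiSeparatedSpace_of_quasiSeparated (CohB1.ProjSpaceOver.toBase n Y₁)
  -- Step 3: the base change to the limit is a closed immersion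
  have hB : IsPullback (projSpaceOverMap n rY) (CohB1.ProjSpaceOver.toBase n Y)
      (CohB1.ProjSpaceOver.toBase n Y₁) rY := isPullback_projSpaceOverMap n rY
  have hA : IsPullback (pullback.fst j₁ (projSpaceOverMap n rY))
      (pullback.snd j₁ (projSpaceOverMap n rY)) j₁ (projSpaceOverMap n rY) :=
    IsPullback.of_hasPullback _ _
  obtain ⟨πA, hπA, hπAf⟩ := exists_pullback_chow f₁ π₁ j₁ hj₁ rX f rY hXX₁ _ _ hB _ _ hA
  have hπAp : IsProper πA := MorphismProperty.of_isPullback hπA.flip hπ₁p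
  have hsndp : IsProper (pullback.snd j₁ (projSpaceOverMap n rY)) := by
    have : IsProper (pullback.snd j₁ (projSpaceOverMap n rY) ≫ CohB1.ProjSpaceOver.toBase n Y) := by
      rw [← hπAf]; infer_instance
    exact IsProper.of_comp _ (CohB1.ProjSpaceOver.toBase n Y)
  have hsndci : IsClosedImmersion (pullback.snd j₁ (projSpaceOverMap n rY)) :=
    IsClosedImmersion.of_isPreimmersion _
      (pullback.snd j₁ (projSpaceOverMap n rY)).isClosedMap.isClosed_range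
  -- Step 4: closed immersions descend
  have hY' : IsPullback (projSpaceOverMap n rY) (CohB1.ProjSpaceOver.toBase n Y ≫ g)
      (CohB1.ProjSpaceOver.toBase n Y₁ ≫ g₁) (c.π.app i₁) := hB.paste_vert hYY₁
  obtain ⟨i₂, φ₂, A₂, B₂, fA₂, gB₂, pB₂, pA₂, hB₂, hA₂, hfA₂⟩ :=
    Groth.Agent.S9189.result D c hc i₁ j₁ (CohB1.ProjSpaceOver.toBase n Y₁ ≫ g₁)
      (pullback.snd j₁ (projSpaceOverMap n rY)) (CohB1.ProjSpaceOver.toBase n Y ≫ g)
      (projSpaceOverMap n rY) (pullback.fst j₁ (projSpaceOverMap n rY)) hY' hA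
  -- Step 5: the stage `i₂`
  let Y₂ := pullback g₁ (D.map φ₂)
  let X₂ := pullback f₁ (pullback.fst g₁ (D.map φ₂))
  let f₂ : X₂ ⟶ Y₂ := pullback.snd f₁ (pullback.fst g₁ (D.map φ₂))
  have hY₂ : IsPullback (pullback.fst g₁ (D.map φ₂)) (pullback.snd g₁ (D.map φ₂)) g₁ (D.map φ₂) :=
    IsPullback.of_hasPullback _ _
  have hX₂ : IsPullback (pullback.fst f₁ (pullback.fst g₁ (D.map φ₂))) f₂ f₁
      (pullback.fst g₁ (D.map φ₂)) := IsPullback.of_hasPullback _ _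
  have htBc : (pB₂ ≫ CohB1.ProjSpaceOver.toBase n Y₁) ≫ g₁ = gB₂ ≫ D.map φ₂ := by
    rw [Category.assoc]
    exact hB₂.w
  let tB : B₂ ⟶ Y₂ := pullback.lift (pB₂ ≫ CohB1.ProjSpaceOver.toBase n Y₁) gB₂ htBc
  have htB1 : tB ≫ pullback.fst g₁ (D.map φ₂) = pB₂ ≫ CohB1.ProjSpaceOver.toBase n Y₁ :=
    pullback.lift_fst _ _ _
  have htB2 : tB ≫ pullback.snd g₁ (D.map φ₂) = gB₂ := pullback.lift_snd _ _ _
  have hB₂' : IsPullback pB₂ tB (CohB1.ProjSpaceOver.toBase n Y₁) (pullback.fst g₁ (D.map φ₂)) := by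
    have hbig : IsPullback pB₂ (tB ≫ pullback.snd g₁ (D.map φ₂))
        (CohB1.ProjSpaceOver.toBase n Y₁ ≫ g₁) (D.map φ₂) := by
      rw [htB2]
      exact hB₂
    exact IsPullback.of_bot hbig htB1.symm hY₂
  obtain ⟨πA₂, hπA₂, hπA₂f⟩ := exists_pullback_chow f₁ π₁ j₁ hj₁ _ f₂ _ hX₂ pB₂ tB hB₂' pA₂ fA₂ hA₂
  have hπA₂s : Surjective πA₂ := MorphismProperty.of_isPullback hπA₂.flip hπ₁s
  have htBp : IsProper tB := MorphismProperty.of_isPullback hB₂' inferInstance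
  have hf₂sep : IsSeparated f₂ := MorphismProperty.of_isPullback hX₂ hf₁sep
  have hf₂lft : LocallyOfFiniteType f₂ := MorphismProperty.of_isPullback hX₂ hf₁lft
  have hf₂uc : UniversallyClosed f₂ := by
    have : UniversallyClosed (πA₂ ≫ f₂) := by
      rw [hπA₂f]; infer_instance
    exact UniversallyClosed.of_comp_surjective πA₂ f₂
  have hf₂p : IsProper f₂ := { }
  -- assemble the pullback squares over `i₀`
  have hY₂' : IsPullback (pullback.fst g₁ (D.map φ₂) ≫ pY₁) (pullback.snd g₁ (D.map φ₂)) g₀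
      (D.map (φ₂ ≫ φ₁)) := by
    rw [D.map_comp]
    exact hY₂.paste_horiz hY₁
  have hX₂' : IsPullback (pullback.fst f₁ (pullback.fst g₁ (D.map φ₂)) ≫ pX₁) f₂ f₀
      (pullback.fst g₁ (D.map φ₂) ≫ pY₁) := hX₂.paste_horiz hX₁
  exact ⟨i₂, φ₂ ≫ φ₁, X₂, Y₂, f₂, _, _, _, hY₂', hX₂', hf₂p⟩

end Groth.Agent.Lib.Helper1.Chow
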