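import Groth.Agent.Lib.Helper1.NACI

/-!
# Closed subschemes of a limit are eventually closed subschemes of the stages (helper1)

If `X = lim Xᵢ` with affine transition maps, `X_{i₀}` quasi-compact, `ι : Z ⟶ X` a closed immersion
and `Z ⟶ X_{i₀}` locally of finite type, then `Z ⟶ Xᵢ` is a closed immersion for all large `i`.
-/

set_option autoImplicit false
set_option linter.unusedSectionVars false
set_option linter.style.haveILetI false
universe u

namespace Groth.Agent.Lib.Helper1.NA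

open AlgebraicGeometry CategoryTheory CategoryTheory.Limits TopologicalSpace Opposite

section affine

variable {I : Type u} [Category.{u} I] (D : I ⥤ Scheme.{u}) (c : Cone D) (hc : IsLimit c)

include hc in
lemma exists_surjective_appTop_comp_of_finiteType [IsCofiltered I] [∀ i, IsAffine (D.obj i)]
    {Z : Scheme.{u}} (ι : Z ⟶ c.pt) (hι : Function.Surjective ι.appTop.hom) (i₀ : I)
    (h : (ι ≫ coneLeg D c i₀).appTop.hom.FiniteType) :
    ∃ j : I, Nonempty (j ⟶ i₀) ∧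
      ∀ (k : I) (_ : k ⟶ j), Function.Surjective (ι ≫ coneLeg D c k).appTop.hom := by
  classical
  obtain ⟨T, hT⟩ := exists_finset_of_finiteType _ h
  choose s hs using hι
  choose ι' u hu using exists_appTop_π_eq_of_isAffine_of_isLimit D c hc
  obtain ⟨j, hj⟩ := IsCofiltered.inf_objs_exists (insert i₀ (T.image (fun t => ι' (s t))))
  refine ⟨j, hj (Finset.mem_insert_self _ _), fun k g => ?_⟩
  have key : (ι ≫ coneLeg D c k).appTop.hom.range = ⊤ := by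
    apply hT
    · rintro _ ⟨r, rfl⟩
      obtain ⟨a⟩ := hj (Finset.mem_insert_self i₀ (T.image (fun t => ι' (s t))))
      refine ⟨(D.map (g ≫ a)).appTop.hom r, ?_⟩
      have h1 : coneLeg D c k ≫ D.map (g ≫ a) = coneLeg D c i₀ := c.w (g ≫ a)
      have h2 : (ι ≫ coneLeg D c k) ≫ D.map (g ≫ a) = ι ≫ coneLeg D c i₀ := by
        rw [Category.assoc, h1]
      rw [← h2, Scheme.Hom.comp_appTop]
      rfl
    · intro t ht
      obtain ⟨a⟩ := hj (Finset.mem_insert_of_mem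
        (Finset.mem_image_of_mem (fun t => ι' (s t)) ht))
      refine ⟨(D.map (g ≫ a)).appTop.hom (u (s t)), ?_⟩
      have h1 : coneLeg D c k ≫ D.map (g ≫ a) = coneLeg D c (ι' (s t)) := c.w (g ≫ a)
      have h2 : (coneLeg D c (ι' (s t))).appTop.hom (u (s t)) = s t := hu (s t)
      have h3 : ι.appTop.hom (s t) = t := hs t
      have h4 : (ι ≫ coneLeg D c k) ≫ D.map (g ≫ a) = ι ≫ coneLeg D c (ι' (s t)) := by
        rw [Category.assoc, h1]
      have h5 : (ι ≫ coneLeg D c (ι' (s t))).appTop.hom (u (s t)) = t := by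
        rw [Scheme.Hom.comp_appTop]
        change ι.appTop.hom ((coneLeg D c (ι' (s t))).appTop.hom (u (s t))) = t
        rw [h2, h3]
      rw [← h4, Scheme.Hom.comp_appTop] at h5
      exact h5
  intro x
  have : x ∈ (ι ≫ coneLeg D c k).appTop.hom.range := by rw [key]; trivial
  exact this

end affine

section CIZ

variable {I : Type u} [Preorder I] [IsDirected I (fun a b => a ≤ b)] [Nonempty I]
  (D : Iᵒᵖ ⥤ Scheme.{u}) (c : Cone D) (hc : IsLimit c)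
  (haff : ∀ (i j : Iᵒᵖ) (a : i ⟶ j), IsAffineHom (D.map a))
  {Z : Scheme.{u}} (ι : Z ⟶ c.pt) [IsClosedImmersion ι]

include hc haff in
/-- Local statement over an affine open `W` of `D.obj i₀`. -/
lemma exists_isClosedImmersion_comp_opensCone (i₀ : I)
    [LocallyOfFiniteType (ι ≫ c.π.app (op i₀))]
    (W : (D.obj (op i₀)).Opens) (hW : IsAffineOpen W) :
    ∃ j : Over (op i₀), ∀ (k : Over (op i₀)) (_ : k ⟶ j),
      IsClosedImmersion ((ι ∣_ (c.π.app (op i₀) ⁻¹ᵁ W)) ≫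
        coneLeg _ (opensCone D c (op i₀) W) k) := by
  have haff' : ∀ {i j : Iᵒᵖ} (a : i ⟶ j), IsAffineHom (D.map a) := fun a => haff _ _ a
  have hA : ∀ j : Over (op i₀), IsAffine ((opensDiagram D (op i₀) W).obj j) :=
    fun j => hW.preimage (D.map _)
  have hπ : IsAffineHom (c.π.app (op i₀)) := isAffineHom_π_app D c hc (op i₀)
  have hpt : IsAffine (opensCone D c (op i₀) W).pt := hW.preimage (c.π.app (op i₀))
  have hpt' : IsAffine ((c.π.app (op i₀) ⁻¹ᵁ W : c.pt.Opens) : Scheme.{u}) := hpt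
  let ιW : ((ι ⁻¹ᵁ (c.π.app (op i₀) ⁻¹ᵁ W) : Z.Opens) : Scheme.{u}) ⟶
      ((c.π.app (op i₀) ⁻¹ᵁ W : c.pt.Opens) : Scheme.{u}) :=
    ι ∣_ (c.π.app (op i₀) ⁻¹ᵁ W)
  have hιWci : IsClosedImmersion ιW := inferInstanceAs (IsClosedImmersion (ι ∣_ _))
  obtain ⟨hZaff, hsurj⟩ := IsClosedImmersion.isAffine_surjective_of_isAffine ιW
  have hZaff' : IsAffine ((ι ⁻¹ᵁ (c.π.app (op i₀) ⁻¹ᵁ W) : Z.Opens) : Scheme.{u}) := hZaff
  let leg : ((c.π.app (op i₀) ⁻¹ᵁ W : c.pt.Opens) : Scheme.{u}) ⟶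
      ((D.map (𝟙 (op i₀)) ⁻¹ᵁ W : (D.obj (op i₀)).Opens) : Scheme.{u}) :=
    coneLeg _ (opensCone D c (op i₀) W) (Over.mk (𝟙 (op i₀)))
  have hleg : leg ≫ (D.map (𝟙 (op i₀)) ⁻¹ᵁ W).ι = (c.π.app (op i₀) ⁻¹ᵁ W).ι ≫ c.π.app (op i₀) :=
    Scheme.Hom.resLE_comp_ι _ _
  have hιW : ιW ≫ (c.π.app (op i₀) ⁻¹ᵁ W).ι = (ι ⁻¹ᵁ (c.π.app (op i₀) ⁻¹ᵁ W)).ι ≫ ι :=
    morphismRestrict_ι _ _
  have hlft0 : LocallyOfFiniteType (ιW ≫ leg) := by
    have h1 : (ιW ≫ leg) ≫ (D.map (𝟙 (op i₀)) ⁻¹ᵁ W).ι =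
        (ι ⁻¹ᵁ (c.π.app (op i₀) ⁻¹ᵁ W)).ι ≫ (ι ≫ c.π.app (op i₀)) := by
      rw [Category.assoc, hleg, ← Category.assoc, hιW, Category.assoc]
    have h2 : LocallyOfFiniteType ((ιW ≫ leg) ≫ (D.map (𝟙 (op i₀)) ⁻¹ᵁ W).ι) := by
      rw [h1]; infer_instance
    exact locallyOfFiniteType_of_comp _ (D.map (𝟙 (op i₀)) ⁻¹ᵁ W).ι
  have hlft : LocallyOfFiniteType
      (ιW ≫ coneLeg _ (opensCone D c (op i₀) W) (Over.mk (𝟙 (op i₀)))) := hlft0
  have hft := (HasRingHomProperty.iff_of_isAffine (P := @LocallyOfFiniteType)).mp hlft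
  obtain ⟨j, -, hj⟩ := exists_surjective_appTop_comp_of_finiteType (opensDiagram D (op i₀) W)
    (opensCone D c (op i₀) W) (isLimitOpensCone D c hc (op i₀) W) ιW hsurj
    (Over.mk (𝟙 (op i₀))) hft
  exact ⟨j, fun k g => IsClosedImmersion.of_surjective_of_isAffine _ (hj k g)⟩

include hc haff in
/-- **Closed subschemes of the limit at a finite level**. -/
theorem exists_isClosedImmersion_comp_π (i₀ : I) [CompactSpace (D.obj (op i₀))]
    [LocallyOfFiniteType (ι ≫ c.π.app (op i₀))] :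
    ∃ j, i₀ ≤ j ∧ ∀ k, j ≤ k → IsClosedImmersion (ι ≫ coneLeg D c (op k)) := by
  classical
  obtain ⟨m, W, hW, hcov⟩ := exists_fin_affine_cover (D.obj (op i₀))
  have h := fun l => exists_isClosedImmersion_comp_opensCone D c hc haff ι i₀ (W l) (hW l)
  choose jo hjo using h
  let jl : Fin m → I := fun l => (jo l).left.unop
  obtain ⟨j, hj⟩ := Finset.exists_le (insert i₀ (Finset.univ.image jl))
  have hi₀j : i₀ ≤ j := hj _ (Finset.mem_insert_self _ _)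
  refine ⟨j, hi₀j, fun k hk => ?_⟩
  have hi₀k : i₀ ≤ k := hi₀j.trans hk
  let a : op k ⟶ op i₀ := (homOfLE hi₀k).op
  let K : Over (op i₀) := Over.mk a
  have hcov' : ⨆ l, D.map a ⁻¹ᵁ W l = ⊤ := by
    rw [← Scheme.Hom.preimage_iSup, hcov]
    rfl
  rw [IsZariskiLocalAtTarget.iff_of_iSup_eq_top (P := @IsClosedImmersion) _ hcov']
  intro l
  have hlk : jl l ≤ k :=
    (hj _ (Finset.mem_insert_of_mem (Finset.mem_image_of_mem _ (Finset.mem_univ l)))).trans hk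
  let g : K ⟶ jo l := Over.homMk (homOfLE hlk).op (Subsingleton.elim _ _)
  have h1 := hjo l K g
  rw [← Scheme.Hom.resLE_eq_morphismRestrict]
  have hw : coneLeg D c (op k) ≫ D.map a = c.π.app (op i₀) := c.w a
  have e₂ : ι ⁻¹ᵁ (c.π.app (op i₀) ⁻¹ᵁ W l) = (ι ≫ coneLeg D c (op k)) ⁻¹ᵁ (D.map a ⁻¹ᵁ W l) := by
    rw [← Scheme.Hom.comp_preimage, ← Scheme.Hom.comp_preimage, Category.assoc, hw]
  have h2 : (ι ∣_ (c.π.app (op i₀) ⁻¹ᵁ W l)) ≫ coneLeg _ (opensCone D c (op i₀) (W l)) K =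
      (ι ≫ coneLeg D c (op k)).resLE (D.map a ⁻¹ᵁ W l) (ι ⁻¹ᵁ (c.π.app (op i₀) ⁻¹ᵁ W l))
        (le_of_eq e₂) := by
    rw [← Scheme.Hom.resLE_eq_morphismRestrict]
    change ι.resLE _ _ _ ≫ (c.π.app (op k)).resLE _ _ _ = _
    rw [Scheme.Hom.resLE_comp_resLE]
    rfl
  rw [h2] at h1
  exact (Scheme.Hom.resLE_congr (ι ≫ coneLeg D c (op k)) _ rfl e₂ @IsClosedImmersion).mp h1

end CIZ

end Groth.Agent.Lib.Helper1.NA
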