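import Groth.Agent.Lib.Helper1.ChowProper
import Groth.Agent.Lib.Helper1.NACIZ

/-!
# Eventual properness over the stages of a limit (helper1)
-/

set_option autoImplicit false
set_option linter.unusedSectionVars false
set_option linter.style.haveILetI false
universe u

namespace Groth.Agent.Lib.Helper1.Chow

open AlgebraicGeometry CategoryTheory CategoryTheory.Limits TopologicalSpace Opposite
open Groth.Agent.Lib.Helper1.NA Groth.Agent.Lib.Helper29.QCoh

lemma projSpaceOver_hom_ext (n : ℕ) {T Z : Scheme.{u}} (a b : T ⟶ CohB1.ProjSpaceOver n Z)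
    (h1 : a ≫ pullback.fst (CohB1.ProjSpace.toSpec n (ULift.{u} ℤ)) (specULiftZIsTerminal.from Z) =
      b ≫ pullback.fst (CohB1.ProjSpace.toSpec n (ULift.{u} ℤ)) (specULiftZIsTerminal.from Z))
    (h2 : a ≫ CohB1.ProjSpaceOver.toBase n Z = b ≫ CohB1.ProjSpaceOver.toBase n Z) : a = b :=
  pullback.hom_ext h1 h2

lemma projSpaceOverMap_id (n : ℕ) (Y : Scheme.{u}) :
    projSpaceOverMap n (𝟙 Y) = 𝟙 (CohB1.ProjSpaceOver n Y) := by
  apply projSpaceOver_hom_ext
  · rw [projSpaceOverMap_fst, Category.id_comp]
  · rw [projSpaceOverMap_toBase, Category.id_comp, Category.comp_id]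

lemma projSpaceOverMap_comp (n : ℕ) {X Y Z : Scheme.{u}} (f : X ⟶ Y) (g : Y ⟶ Z) :
    projSpaceOverMap n (f ≫ g) = projSpaceOverMap n f ≫ projSpaceOverMap n g := by
  apply projSpaceOver_hom_ext
  · rw [projSpaceOverMap_fst, Category.assoc, projSpaceOverMap_fst, projSpaceOverMap_fst]
  · rw [projSpaceOverMap_toBase, Category.assoc, projSpaceOverMap_toBase,
      ← Category.assoc, ← Category.assoc, projSpaceOverMap_toBase]

/-- The diagram of projective spaces over a diagram of schemes. -/
noncomputable def projDiagram (n : ℕ) {J : Type u} [Category.{u} J] (D : J ⥤ Scheme.{u}) :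
    J ⥤ Scheme.{u} where
  obj j := CohB1.ProjSpaceOver n (D.obj j)
  map a := projSpaceOverMap n (D.map a)
  map_id j := by rw [D.map_id, projSpaceOverMap_id]
  map_comp a b := by rw [D.map_comp, projSpaceOverMap_comp]

/-- The structure maps. -/
noncomputable def projDiagramToBase (n : ℕ) {J : Type u} [Category.{u} J] (D : J ⥤ Scheme.{u}) :
    projDiagram n D ⟶ D where
  app j := CohB1.ProjSpaceOver.toBase n (D.obj j)
  naturality _ _ a := projSpaceOverMap_toBase n (D.map a)

/-- The cone of projective spaces. -/
noncomputable def projCone (n : ℕ) {J : Type u} [Category.{u} J] {D : J ⥤ Scheme.{u}} (c : Cone D) :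
    Cone (projDiagram n D) where
  pt := CohB1.ProjSpaceOver n c.pt
  π :=
    { app := fun j => projSpaceOverMap n (c.π.app j)
      naturality := by
        intro j j' a
        change 𝟙 _ ≫ projSpaceOverMap n (c.π.app j') =
          projSpaceOverMap n (c.π.app j) ≫ projSpaceOverMap n (D.map a)
        rw [Category.id_comp, ← projSpaceOverMap_comp, c.w] }

/-- Projective space over a connected limit is the limit of the projective spaces. -/
noncomputable def isLimitProjCone (n : ℕ) {J : Type u} [Category.{u} J] [IsConnected J]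
    {D : J ⥤ Scheme.{u}} (c : Cone D) (hc : IsLimit c) : IsLimit (projCone n c) :=
  isLimitOfIsPullbackOfIsConnected (projDiagramToBase n D) (projCone n c) c
    { hom := CohB1.ProjSpaceOver.toBase n c.pt
      w := fun j => (projSpaceOverMap_toBase n (c.π.app j)).symm }
    (fun j => isPullback_projSpaceOverMap n (c.π.app j)) hc

end Groth.Agent.Lib.Helper1.Chow
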