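import Groth.Agent.Lib.Helper1.ChowProper2

/-!
# Eventual properness over the stages of a limit (helper1)
-/

set_option autoImplicit false
set_option linter.unusedSectionVars false
set_option linter.style.haveILetI false
universe u

namespace Groth.Agent.Lib.Helper1.Chow

open AlgebraicGeometry CategoryTheory CategoryTheory.Limits TopologicalSpace Opposite
open Groth.Agent.Lib.Helper1.NA Groth.Agent.Lib.Helper29.QCoh

set_option maxHeartbeats 1600000 in
/-- Stacks-type lemma: a proper morphism to a limit, of finite type over the base, is proper over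
the stages from some index on. -/
theorem eventually_isProper_to_stage {I : Type u} [SmallCategory I] [IsCofiltered I]
    (S : Scheme.{u}) (D : I ⥤ Scheme.{u}) (t : D ⟶ (Functor.const I).obj S) (c : Limits.Cone D)
    (hc : Limits.IsLimit c) [∀ (i j : I) (a : i ⟶ j), IsAffineHom (D.map a)]
    [∀ i, CompactSpace (D.obj i)] [∀ i, QuasiSeparatedSpace (D.obj i)] (i₀ : I)
    {Y : Scheme.{u}} (h : Y ⟶ c.pt) [IsProper h]
    [LocallyOfFiniteType (h ≫ c.π.app i₀ ≫ t.app i₀)] :
    ∃ i₁ : I, ∀ (i : I) (_ : i ⟶ i₁), IsProper (h ≫ c.π.app i) := by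
  have haff' : ∀ {i j : I} (a : i ⟶ j), IsAffineHom (D.map a) := fun a => inferInstance
  have hπaff : ∀ i, IsAffineHom (c.π.app i) := fun i => isAffineHom_π_app D c hc i
  -- the structure map to `S` does not depend on the index
  have hstr : ∀ i, c.π.app i ≫ t.app i = c.π.app i₀ ≫ t.app i₀ := by
    have hmap : ∀ {i j : I} (a : i ⟶ j), c.π.app i ≫ t.app i = c.π.app j ≫ t.app j := by
      intro i j a
      have h1 := t.naturality a
      simp only [Functor.const_obj_obj, Functor.const_obj_map, Category.comp_id] at h1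
      rw [← h1, ← Category.assoc, c.w]
    intro i
    rw [← hmap (IsCofiltered.minToLeft i i₀), hmap (IsCofiltered.minToRight i i₀)]
  have hlft : ∀ i, LocallyOfFiniteType (h ≫ c.π.app i) := by
    intro i
    have h1 : LocallyOfFiniteType ((h ≫ c.π.app i) ≫ t.app i) := by
      rw [Category.assoc, hstr]; infer_instance
    exact locallyOfFiniteType_of_comp _ (t.app i)
  have hlft₀ := hlft i₀
  -- Chow's lemma for `Y ⟶ X_{i₀}`
  obtain ⟨n, Y', π, j, hjimm, hjq, hπp, hπs⟩ := chow_qcqs (h ≫ c.π.app i₀)
  -- reduction to a directed set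
  obtain ⟨α, _, _, _, F, hF⟩ := IsFiltered.exists_directed Iᵒᵖ
  let G : αᵒᵖ ⥤ I := F.leftOp
  have hG : G.Initial := inferInstance
  have hconn : IsConnected (CostructuredArrow G i₀) := Functor.Initial.out i₀
  obtain ⟨x⟩ := hconn.is_nonempty
  let a₀ : α := x.left.unop
  let u : G.obj (op a₀) ⟶ i₀ := x.hom
  let D' : αᵒᵖ ⥤ Scheme.{u} := G ⋙ D
  let c' : Cone D' := c.whisker G
  have hc' : IsLimit c' := (Functor.Initial.isLimitWhiskerEquiv G c).symm hc
  have hcofα : IsCofiltered αᵒᵖ := inferInstance
  have hconnα : IsConnected αᵒᵖ := IsCofiltered.isConnected αᵒᵖ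
  have hlimP : IsLimit (projCone n c') := isLimitProjCone n c' hc'
  have haffP : ∀ (i j : αᵒᵖ) (a : i ⟶ j), IsAffineHom ((projDiagram n D').map a) := by
    intro i j a
    have h1 : IsAffineHom (D'.map a) := inferInstanceAs (IsAffineHom (D.map (G.map a)))
    exact MorphismProperty.of_isPullback (isPullback_projSpaceOverMap n (D'.map a)).flip h1
  -- the closed immersion into projective space over the limit
  have hjXc : j ≫ CohB1.ProjSpaceOver.toBase n (D.obj i₀) = (π ≫ h) ≫ c.π.app i₀ := by
    rw [hjq, Category.assoc]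
  let jX : Y' ⟶ CohB1.ProjSpaceOver n c.pt :=
    (isPullback_projSpaceOverMap n (c.π.app i₀)).lift j (π ≫ h) hjXc
  have hjX1 : jX ≫ projSpaceOverMap n (c.π.app i₀) = j := IsPullback.lift_fst _ _ _ _
  have hjX2 : jX ≫ CohB1.ProjSpaceOver.toBase n c.pt = π ≫ h := IsPullback.lift_snd _ _ _ _
  have hjXimm : IsImmersion jX := by
    have : IsImmersion (jX ≫ projSpaceOverMap n (c.π.app i₀)) := by rw [hjX1]; exact hjimm
    exact IsImmersion.of_comp jX (projSpaceOverMap n (c.π.app i₀))
  have hjXp : IsProper jX := by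
    have : IsProper (jX ≫ CohB1.ProjSpaceOver.toBase n c.pt) := by rw [hjX2]; infer_instance
    exact IsProper.of_comp jX (CohB1.ProjSpaceOver.toBase n c.pt)
  have hjXci : IsClosedImmersion jX :=
    IsClosedImmersion.of_isPreimmersion _ jX.isClosedMap.isClosed_range
  let jX' : Y' ⟶ (projCone n c').pt := jX
  have hjX'ci : IsClosedImmersion jX' := hjXci
  have hcompP : CompactSpace ((projDiagram n D').obj (op a₀)) := by
    have hp : IsProper (CohB1.ProjSpaceOver.toBase n (D.obj (G.obj (op a₀)))) :=
      isProper_toBase n _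
    have hq : QuasiCompact (CohB1.ProjSpaceOver.toBase n (D.obj (G.obj (op a₀)))) := inferInstance
    exact @QuasiCompact.compactSpace_of_compactSpace _ _
      (CohB1.ProjSpaceOver.toBase n (D.obj (G.obj (op a₀)))) hq inferInstance
  have hlftP : LocallyOfFiniteType (jX' ≫ (projCone n c').π.app (op a₀)) := by
    have h1 : (jX ≫ projSpaceOverMap n (c.π.app (G.obj (op a₀)))) ≫ projSpaceOverMap n (D.map u) =
        j := by
      rw [Category.assoc, ← projSpaceOverMap_comp, c.w, hjX1]
    have h2 : LocallyOfFiniteType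
        ((jX ≫ projSpaceOverMap n (c.π.app (G.obj (op a₀)))) ≫ projSpaceOverMap n (D.map u)) := by
      rw [h1]; infer_instance
    have h2' : LocallyOfFiniteType
        ((jX' ≫ (projCone n c').π.app (op a₀)) ≫ projSpaceOverMap n (D.map u)) := h2
    exact locallyOfFiniteType_of_comp _ (projSpaceOverMap n (D.map u))
  obtain ⟨j₁, -, hj₁⟩ := exists_isClosedImmersion_comp_π (projDiagram n D') (projCone n c') hlimP
    haffP jX' a₀
  have hci₁ : IsClosedImmersion (jX ≫ projSpaceOverMap n (c.π.app (G.obj (op j₁)))) :=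
    hj₁ j₁ le_rfl
  -- properness at the index `i₁`
  have hproper₁ : IsProper (h ≫ c.π.app (G.obj (op j₁))) := by
    have hsep : IsSeparated (h ≫ c.π.app (G.obj (op j₁))) := inferInstance
    have hl := hlft (G.obj (op j₁))
    have huc : UniversallyClosed (h ≫ c.π.app (G.obj (op j₁))) := by
      have h1 : π ≫ (h ≫ c.π.app (G.obj (op j₁))) =
          (jX ≫ projSpaceOverMap n (c.π.app (G.obj (op j₁)))) ≫
            CohB1.ProjSpaceOver.toBase n (D.obj (G.obj (op j₁))) := by
        rw [Category.assoc, projSpaceOverMap_toBase, ← Category.assoc jX, hjX2, Category.assoc]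
      have : UniversallyClosed (π ≫ (h ≫ c.π.app (G.obj (op j₁)))) := by
        rw [h1]; infer_instance
      exact UniversallyClosed.of_comp_surjective π _
    exact { }
  refine ⟨G.obj (op j₁), fun i b => ?_⟩
  have h1 : (h ≫ c.π.app i) ≫ D.map b = h ≫ c.π.app (G.obj (op j₁)) := by
    rw [Category.assoc, c.w]
  have : IsProper ((h ≫ c.π.app i) ≫ D.map b) := by rw [h1]; exact hproper₁
  exact IsProper.of_comp (h ≫ c.π.app i) (D.map b)

end Groth.Agent.Lib.Helper1.Chow
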