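import Groth.Agent.Lib.Helper1.ChowProper4

/-!
# A proper scheme over a qcqs base is a limit of proper schemes of finite presentation (helper1)
-/

set_option autoImplicit false
set_option linter.unusedSectionVars false
set_option linter.style.haveILetI false
universe u

namespace Groth.Agent.Lib.Helper1.Chow

open AlgebraicGeometry CategoryTheory CategoryTheory.Limits TopologicalSpace Opposite
open Groth.Agent.Lib.Helper1.NA Groth.Agent.Lib.Helper29.QCoh
open Scheme.IdealSheafData

set_option maxHeartbeats 1600000 in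
theorem proper_isLimit_fp {X S : Scheme.{u}} (f : X ⟶ S) [IsProper f] [CompactSpace S]
    [QuasiSeparatedSpace S] :
    ∃ (I : Type u) (_ : SmallCategory I) (_ : IsCofiltered I) (D : I ⥤ Over S) (c : Limits.Cone D)
      (_ : Limits.IsLimit c) (e : c.pt ≅ Over.mk f),
      (∀ (i j : I) (a : i ⟶ j), IsClosedImmersion (D.map a).left) ∧
      (∀ i, IsClosedImmersion (c.π.app i).left ∧ IsProper (D.obj i).hom ∧
        LocallyOfFinitePresentation (D.obj i).hom) := by
  have hXc : CompactSpace X := QuasiCompact.compactSpace_of_compactSpace f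
  have hXq : QuasiSeparatedSpace X := quasiSeparatedSpace_of_quasiSeparated f
  obtain ⟨X', f', j, h1, h2, h3, h4, h5, h6, h7⟩ := exists_closedImmersion_fp f
  obtain ⟨I, hP, hD, hN, J, hJ, hsup, hfp⟩ := exists_closed_fp_family j
  obtain ⟨b₂, hb₂⟩ := exists_isProper_subscheme f f' j h7 J hJ hsup
  let J' : {b : I // b₂ ≤ b} → X'.IdealSheafData := fun b => J b.1
  have hJ' : Monotone J' := fun b b' h => hJ h
  have hdir : IsDirected {b : I // b₂ ≤ b} (fun a b => a ≤ b) := ⟨fun a b => by
    obtain ⟨c, h1, h2⟩ := exists_ge_ge a.1 b.1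
    exact ⟨⟨c, a.2.trans h1⟩, h1, h2⟩⟩
  have hne : Nonempty {b : I // b₂ ≤ b} := ⟨⟨b₂, le_rfl⟩⟩
  have hsup' : (⨆ b, J' b) = j.ker := by
    rw [← hsup]
    apply le_antisymm
    · exact iSup_le fun b => le_iSup J b.1
    · refine iSup_le fun b => ?_
      obtain ⟨b', h1, h2⟩ := exists_ge_ge b b₂
      exact (hJ h1).trans (le_iSup J' ⟨b', h2⟩)
  haveI : IsConnected {b : I // b₂ ≤ b}ᵒᵖ := IsCofiltered.isConnected _
  refine ⟨{b : I // b₂ ≤ b}ᵒᵖ, inferInstance, inferInstance, subDiag J' hJ' ⋙ Over.map f',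
    (Over.map f').mapCone (subCone J' hJ' (⨆ b, J' b) (le_iSup J')),
    isLimitMapConeOverMap f' _ (isLimitSubCone J' hJ'), ?_, fun i i' a => ?_, fun i => ⟨?_, ?_, ?_⟩⟩
  · have hk : j.ker = (⨆ b, J' b).subschemeι.ker := by
      rw [ker_subschemeι, hsup']
    have hiso := IsClosedImmersion.isIso_lift j (⨆ b, J' b).subschemeι hk
    let e : (⨆ b, J' b).subscheme ≅ X :=
      @asIso _ _ _ _ (IsClosedImmersion.lift j (⨆ b, J' b).subschemeι hk.le) hiso
    have he : e.hom ≫ j = (⨆ b, J' b).subschemeι := IsClosedImmersion.lift_fac _ _ _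
    have he' : e.hom ≫ f = (⨆ b, J' b).subschemeι ≫ f' := by
      rw [← h7, ← Category.assoc, he]
    exact Over.isoMk (f := Over.mk ((⨆ b, J' b).subschemeι ≫ f')) (g := Over.mk f) e he'
  · change IsClosedImmersion (inclusion (hJ' (leOfHom a.unop)))
    infer_instance
  · change IsClosedImmersion (inclusion (le_iSup J' i.unop))
    infer_instance
  · change IsProper ((J i.unop.1).subschemeι ≫ f')
    exact hb₂ _ i.unop.2
  · change LocallyOfFinitePresentation ((J i.unop.1).subschemeι ≫ f')
    have := hfp i.unop.1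
    infer_instance

end Groth.Agent.Lib.Helper1.Chow
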