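import Mathlib

/-!
# Chow's lemma, topological part (helper1)

A quasi-compact quasi-separated scheme with finitely many irreducible components has a finite
cover by affine opens whose intersection is dense (and compact).
-/

set_option autoImplicit false
universe u

namespace Groth.Agent.Lib.Helper1.Chow

open AlgebraicGeometry CategoryTheory CategoryTheory.Limits TopologicalSpace Opposite

/-- Every point of a scheme with finitely many irreducible components has a dense affine open
neighbourhood. -/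
theorem exists_dense_affine_nhd {X : Scheme.{u}}
    (hirr : (irreducibleComponents (X : Type u)).Finite) (x : X) :
    ∃ U : X.Opens, IsAffineOpen U ∧ x ∈ U ∧ Dense (U : Set X) := by
  classical
  let O : Set X → Set X := fun Z => (⋃₀ (irreducibleComponents (X : Type u) \ {Z}))ᶜ
  have hOopen : ∀ Z, IsOpen (O Z) := fun Z => by
    change IsOpen (⋃₀ (irreducibleComponents (X : Type u) \ {Z}))ᶜ
    rw [Set.sUnion_eq_biUnion, isOpen_compl_iff]
    have hfin : (irreducibleComponents (X : Type u) \ {Z}).Finite := hirr.sdiff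
    refine Set.Finite.isClosed_biUnion (X := (X : Type u)) hfin ?_
    intro W hW
    exact isClosed_of_mem_irreducibleComponents W hW.1
  have hOcl : ∀ Z ∈ irreducibleComponents (X : Type u), closure (O Z) = Z := fun Z hZ =>
    closure_sUnion_irreducibleComponents_sdiff_singleton hirr Z hZ
  have hOsub : ∀ Z ∈ irreducibleComponents (X : Type u), O Z ⊆ Z := fun Z hZ =>
    (subset_closure (s := O Z)).trans (hOcl Z hZ).le
  have hOne : ∀ Z ∈ irreducibleComponents (X : Type u), (O Z).Nonempty := fun Z hZ => by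
    by_contra h
    rw [Set.not_nonempty_iff_eq_empty] at h
    have h2 := hOcl Z hZ
    rw [h, closure_empty] at h2
    exact hZ.1.1.ne_empty h2.symm
  have hOdisj : ∀ Z ∈ irreducibleComponents (X : Type u),
      ∀ Z' ∈ irreducibleComponents (X : Type u), Z ≠ Z' → Disjoint (O Z) (O Z') := by
    intro Z hZ Z' hZ' hne
    rw [Set.disjoint_left]
    intro y hy hy'
    apply hy'
    exact Set.mem_sUnion.mpr ⟨Z, ⟨hZ, hne⟩, hOsub Z hZ hy⟩
  obtain ⟨W, hW, hxW⟩ : ∃ W : X.Opens, IsAffineOpen W ∧ x ∈ W := by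
    obtain ⟨_, ⟨V, hV, rfl⟩, hxV, -⟩ :=
      X.isBasis_affineOpens.exists_subset_of_mem_open (Set.mem_univ x) isOpen_univ
    exact ⟨V, hV, hxV⟩
  let B : Set (Set X) := {Z | Z ∈ irreducibleComponents (X : Type u) ∧ Disjoint (W : Set X) (O Z)}
  have hBfin : B.Finite := hirr.subset fun Z hZ => hZ.1
  have hex : ∀ Z : B, ∃ A : X.Opens, IsAffineOpen A ∧ (A : Set X) ⊆ O Z.1 ∧
      (A : Set X).Nonempty := by
    intro Z
    obtain ⟨y, hy⟩ := hOne Z.1 Z.2.1
    obtain ⟨_, ⟨V, hV, rfl⟩, hyV, hVO⟩ :=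
      X.isBasis_affineOpens.exists_subset_of_mem_open hy (hOopen Z.1)
    exact ⟨V, hV, hVO, ⟨y, hyV⟩⟩
  choose A hA1 hA2 hA3 using hex
  let V : Option B → X.Opens := fun o => o.elim W A
  have hfin : Finite B := hBfin.to_subtype
  have hV : ∀ o, IsAffineOpen (V o) := by
    rintro (_ | Z)
    · exact hW
    · exact hA1 Z
  have hdisj : Pairwise (Function.onFun Disjoint V) := by
    intro o o' hne
    change Disjoint (V o) (V o')
    rw [← Opens.coe_disjoint]
    rcases o with _ | Z <;> rcases o' with _ | Z'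
    · exact absurd rfl hne
    · exact Z'.2.2.mono_right (hA2 Z')
    · exact (Z.2.2.mono_right (hA2 Z)).symm
    · have hne' : Z.1 ≠ Z'.1 := fun h => hne (by rw [Subtype.ext h])
      exact (hOdisj Z.1 Z.2.1 Z'.1 Z'.2.1 hne').mono (hA2 Z) (hA2 Z')
  refine ⟨iSup V, IsAffineOpen.iSup_of_disjoint hV hdisj, Opens.mem_iSup.mpr ⟨none, hxW⟩, ?_⟩
  rw [dense_iff_closure_eq, ← Set.univ_subset_iff, ← sUnion_irreducibleComponents]
  apply Set.sUnion_subset
  intro Z hZ
  have hne : (Z ∩ (((iSup V : X.Opens) : Set X) ∩ O Z)).Nonempty := by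
    by_cases hZB : Disjoint (W : Set X) (O Z)
    · obtain ⟨y, hy⟩ := hA3 ⟨Z, hZ, hZB⟩
      have hyO := hA2 ⟨Z, hZ, hZB⟩ hy
      exact ⟨y, hOsub Z hZ hyO, Opens.mem_iSup.mpr ⟨some ⟨Z, hZ, hZB⟩, hy⟩, hyO⟩
    · rw [Set.not_disjoint_iff] at hZB
      obtain ⟨y, hyW, hyO⟩ := hZB
      exact ⟨y, hOsub Z hZ hyO, Opens.mem_iSup.mpr ⟨none, hyW⟩, hyO⟩
  refine (subset_closure_inter_of_isPreirreducible_of_isOpen hZ.1.2
    ((iSup V : X.Opens).isOpen.inter (hOopen Z)) hne).trans (closure_mono ?_)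
  intro y hy
  exact hy.2.1

lemma dense_compact_finset_inf {X : Scheme.{u}} [CompactSpace X] [QuasiSeparatedSpace X]
    {ι : Type*} (s : Finset ι) (U : ι → X.Opens) (hU : ∀ i, IsCompact (U i : Set X))
    (hd : ∀ i, Dense (U i : Set X)) :
    Dense ((s.inf U : X.Opens) : Set X) ∧ IsCompact ((s.inf U : X.Opens) : Set X) := by
  classical
  induction s using Finset.induction_on with
  | empty =>
    rw [Finset.inf_empty]
    exact ⟨by simp, by simpa using isCompact_univ⟩
  | insert a s ha ih =>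
    rw [Finset.inf_insert, Opens.coe_inf]
    exact ⟨(hd a).inter_of_isOpen_left ih.1 (U a).isOpen,
      QuasiSeparatedSpace.inter_isCompact _ _ (U a).isOpen (hU a) (s.inf U).isOpen ih.2⟩

/-- A qcqs scheme with finitely many irreducible components has a finite affine open cover,
indexed by `Fin (m + 1)`, together with a dense compact open contained in all of them. -/
theorem exists_affine_cover_dense {X : Scheme.{u}} [CompactSpace X] [QuasiSeparatedSpace X]
    (hirr : (irreducibleComponents (X : Type u)).Finite) :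
    ∃ (m : ℕ) (U : Fin (m + 1) → X.Opens) (U₀ : X.Opens), (∀ j, IsAffineOpen (U j)) ∧
      (⨆ j, U j = ⊤) ∧ (∀ j, U₀ ≤ U j) ∧ Dense (U₀ : Set X) ∧ IsCompact (U₀ : Set X) := by
  classical
  rcases isEmpty_or_nonempty X with hX | ⟨⟨x₀⟩⟩
  · refine ⟨0, fun _ => ⊥, ⊥, fun _ => isAffineOpen_bot X, ?_, fun _ => le_rfl, ?_, ?_⟩
    · ext y; exact (hX.false y).elim
    · intro y; exact (hX.false y).elim
    · simp
  · choose V hV1 hV2 hV3 using fun x => exists_dense_affine_nhd hirr x
    obtain ⟨t, ht⟩ := isCompact_univ.elim_finite_subcover (fun x => (V x : Set X))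
      (fun x => (V x).isOpen) (fun x _ => Set.mem_iUnion.mpr ⟨x, hV2 x⟩)
    let t' : Finset X := insert x₀ t
    have hcard : 0 < t'.card := Finset.card_pos.mpr ⟨x₀, Finset.mem_insert_self _ _⟩
    obtain ⟨m, hm⟩ : ∃ m, t'.card = m + 1 := ⟨t'.card - 1, by omega⟩
    let e : t' ≃ Fin (m + 1) := t'.equivFinOfCardEq hm
    let U : Fin (m + 1) → X.Opens := fun j => V (e.symm j).1
    have hUc : ∀ j, IsCompact (U j : Set X) := fun j => (hV1 _).isCompact
    obtain ⟨h1, h2⟩ := dense_compact_finset_inf Finset.univ U hUc (fun j => hV3 _)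
    refine ⟨m, U, Finset.univ.inf U, fun j => hV1 _, ?_, fun j => Finset.inf_le (Finset.mem_univ j),
      h1, h2⟩
    rw [eq_top_iff]
    intro y _
    obtain ⟨x, hx⟩ := Set.mem_iUnion.mp (ht (Set.mem_univ y))
    obtain ⟨hxt, hyx⟩ := Set.mem_iUnion.mp hx
    have hxt' : x ∈ t' := Finset.mem_insert_of_mem hxt
    refine Opens.mem_iSup.mpr ⟨e ⟨x, hxt'⟩, ?_⟩
    change y ∈ V (e.symm (e ⟨x, hxt'⟩)).1
    rw [Equiv.symm_apply_apply]
    exact hyx

end Groth.Agent.Lib.Helper1.Chow
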