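import Groth.Prelude.Def_FSch3
import Mathlib

/-!
# Lemmas on `FSch.complMap`, `FSch.cAwayToAtPrime`, `FSch.stalkSubring`
-/

universe u

namespace Groth.Agent.Lib.Helper1

section Unit

variable {R : Type u} [CommRing R] (I : Ideal R)

theorem evalOneₐ_mk (a : AdicCompletion.AdicCauchySequence I R) :
    AdicCompletion.evalOneₐ I (AdicCompletion.mk I R a) = Ideal.Quotient.mk I (a 1) := by
  rw [← AdicCompletion.factorₐ_evalₐ_one, AdicCompletion.evalₐ_mk, Ideal.Quotient.factor_mk]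

theorem cauchy_sub_mem (a : AdicCompletion.AdicCauchySequence I R) {m n : ℕ} (h : m ≤ n) :
    a m - a n ∈ I ^ m := by
  have := a.2 h
  rw [SModEq.sub_mem] at this
  simpa only [smul_eq_mul, Ideal.mul_top] using this

theorem isUnit_of_isUnit_evalOneₐ (x : AdicCompletion I R)
    (hx : IsUnit (AdicCompletion.evalOneₐ I x)) : IsUnit x := by
  obtain ⟨a, rfl⟩ := AdicCompletion.mk_surjective I R x
  rw [evalOneₐ_mk] at hx
  -- units at all positive levels
  have hu : ∀ n : ℕ, n ≠ 0 → IsUnit (Ideal.Quotient.mk (I ^ n) (a n)) := by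
    intro n hn
    rw [Ideal.Quotient.isUnit_mk_pow_iff_isUnit_mk I hn]
    have : Ideal.Quotient.mk I (a n) = Ideal.Quotient.mk I (a 1) := by
      rw [eq_comm, Ideal.Quotient.eq]
      have := cauchy_sub_mem I a (Nat.one_le_iff_ne_zero.mpr hn)
      rwa [pow_one] at this
    rw [this]; exact hx
  have hb : ∀ n : ℕ, ∃ b : R, n ≠ 0 → Ideal.Quotient.mk (I ^ n) (a n * b) = 1 := by
    intro n
    by_cases hn : n = 0
    · exact ⟨0, fun h => absurd hn h⟩
    · obtain ⟨c, hc⟩ := (hu n hn).exists_right_inv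
      obtain ⟨b, rfl⟩ := Ideal.Quotient.mk_surjective c
      exact ⟨b, fun _ => by rw [map_mul]; exact hc⟩
  choose b hb using hb
  have hcauchy : ∀ n, b n ≡ b (n + 1) [SMOD (I ^ n • ⊤ : Submodule R R)] := by
    intro n
    rw [SModEq.sub_mem, smul_eq_mul, Ideal.mul_top]
    by_cases hn : n = 0
    · subst hn; simp
    · rw [← Ideal.Quotient.eq]
      have h1 := hb n hn
      have h2 : Ideal.Quotient.mk (I ^ n) (a (n + 1) * b (n + 1)) = 1 := by
        have := hb (n + 1) (Nat.succ_ne_zero n)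
        have h3 := congrArg (Ideal.Quotient.factor (Ideal.pow_le_pow_right (Nat.le_succ n))) this
        rwa [Ideal.Quotient.factor_mk, map_one] at h3
      have h4 : Ideal.Quotient.mk (I ^ n) (a (n + 1)) = Ideal.Quotient.mk (I ^ n) (a n) := by
        rw [eq_comm, Ideal.Quotient.eq]
        exact cauchy_sub_mem I a (Nat.le_succ n)
      rw [map_mul] at h1 h2
      rw [h4] at h2
      calc Ideal.Quotient.mk (I ^ n) (b n)
          = Ideal.Quotient.mk (I ^ n) (b n) *
            (Ideal.Quotient.mk (I ^ n) (a n) * Ideal.Quotient.mk (I ^ n) (b (n + 1))) := by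
              rw [h2, mul_one]
        _ = (Ideal.Quotient.mk (I ^ n) (a n) * Ideal.Quotient.mk (I ^ n) (b n)) *
            Ideal.Quotient.mk (I ^ n) (b (n + 1)) := by ring
        _ = Ideal.Quotient.mk (I ^ n) (b (n + 1)) := by rw [h1, one_mul]
  refine .of_mul_eq_one (AdicCompletion.mk I R (AdicCompletion.AdicCauchySequence.mk I R b hcauchy)) ?_
  apply AdicCompletion.ext_evalₐ
  intro n
  rw [map_mul, AdicCompletion.evalₐ_mk, AdicCompletion.evalₐ_mk, map_one]
  by_cases hn : n = 0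
  · subst hn
    have : Subsingleton (R ⧸ I ^ 0) := by
      rw [pow_zero, Ideal.one_eq_top]; exact Ideal.Quotient.subsingleton_iff.mpr rfl
    exact Subsingleton.elim _ _
  · rw [← map_mul]
    exact hb n hn

theorem isUnit_iff_isUnit_evalOneₐ (x : AdicCompletion I R) :
    IsUnit x ↔ IsUnit (AdicCompletion.evalOneₐ I x) :=
  ⟨fun h => h.map _, isUnit_of_isUnit_evalOneₐ I x⟩


end Unit

section ComplMap

variable {S T : Type u} [CommRing S] [CommRing T] (I : Ideal S) (K : Ideal T) (g : S →+* T)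

theorem evalₐ_complMap (h : I.map g ≤ K) (n : ℕ) (x : AdicCompletion I S) :
    AdicCompletion.evalₐ K n (FSch.complMap I K g h x) =
      Ideal.quotientMap (K ^ n) g (FSch.pow_le_comap_pow_of_map_le I K g h n)
        (AdicCompletion.evalₐ I n x) := by
  unfold FSch.complMap
  generalize_proofs
  exact AdicCompletion.evalₐ_liftRingHom K _ (by assumption) n x

theorem complMap_of (h : I.map g ≤ K) (x : S) :
    FSch.complMap I K g h (AdicCompletion.of I S x) = AdicCompletion.of K T (g x) := by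
  apply AdicCompletion.ext_evalₐ
  intro n
  rw [evalₐ_complMap, AdicCompletion.evalₐ_of, AdicCompletion.evalₐ_of, Ideal.quotientMap_mk]

theorem complMap_congr {g g' : S →+* T} (hgg : g = g') (h : I.map g ≤ K) (h' : I.map g' ≤ K) :
    FSch.complMap I K g h = FSch.complMap I K g' h' := by
  subst hgg
  rfl

theorem evalOneₐ_complMap (h : I.map g ≤ K) (x : AdicCompletion I S) :
    AdicCompletion.evalOneₐ K (FSch.complMap I K g h x) =
      Ideal.quotientMap K g (Ideal.map_le_iff_le_comap.mp h) (AdicCompletion.evalOneₐ I x) := by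
  rw [← AdicCompletion.factorₐ_evalₐ_one, ← AdicCompletion.factorₐ_evalₐ_one, evalₐ_complMap]
  obtain ⟨s, hs⟩ := Ideal.Quotient.mk_surjective (AdicCompletion.evalₐ I 1 x)
  rw [← hs, Ideal.quotientMap_mk, Ideal.Quotient.factor_mk, Ideal.Quotient.factor_mk,
    Ideal.quotientMap_mk]

theorem complMap_comp {U : Type u} [CommRing U] (L : Ideal U) (g' : T →+* U)
    (h : I.map g ≤ K) (h' : K.map g' ≤ L) (h'' : I.map (g'.comp g) ≤ L) (x : AdicCompletion I S) :
    FSch.complMap K L g' h' (FSch.complMap I K g h x) = FSch.complMap I L (g'.comp g) h'' x := by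
  apply AdicCompletion.ext_evalₐ
  intro n
  rw [evalₐ_complMap, evalₐ_complMap, evalₐ_complMap]
  obtain ⟨s, hs⟩ := Ideal.Quotient.mk_surjective (AdicCompletion.evalₐ I n x)
  rw [← hs, Ideal.quotientMap_mk, Ideal.quotientMap_mk, Ideal.quotientMap_mk]
  rfl

end ComplMap

section Stalk

variable (A : Type u) [CommRing A] (J : Ideal A) (𝔭 : Ideal A) [𝔭.IsPrime]

theorem exists_awayToAtPrime_eq (a : Localization.AtPrime 𝔭) :
    ∃ (f : A) (hf : f ∉ 𝔭) (x : Localization.Away f), FSch.awayToAtPrime A 𝔭 f hf x = a := by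
  obtain ⟨b, s, rfl⟩ := IsLocalization.exists_mk'_eq 𝔭.primeCompl a
  refine ⟨s.1, s.2, IsLocalization.mk' (Localization.Away s.1) b
    (⟨s.1, Submonoid.mem_powers _⟩ : Submonoid.powers s.1), ?_⟩
  rw [IsLocalization.eq_mk'_iff_mul_eq]
  have h1 : FSch.awayToAtPrime A 𝔭 s.1 s.2 (algebraMap A (Localization.Away s.1) s.1) =
      algebraMap A (Localization.AtPrime 𝔭) s.1 := by
    unfold FSch.awayToAtPrime
    exact IsLocalization.Away.lift_eq _ _ _
  have h2 : FSch.awayToAtPrime A 𝔭 s.1 s.2 (algebraMap A (Localization.Away s.1) b) =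
      algebraMap A (Localization.AtPrime 𝔭) b := by
    unfold FSch.awayToAtPrime
    exact IsLocalization.Away.lift_eq _ _ _
  rw [← h1, ← h2, ← map_mul]
  congr 1
  exact IsLocalization.mk'_spec _ _ _

/-- The image of `A_𝔭` in `A{S⁻¹}` lies in the stalk subring. -/
theorem algebraMap_mem_stalkSubring (a : Localization.AtPrime 𝔭) :
    algebraMap (Localization.AtPrime 𝔭) (FSch.cAtPrime A J 𝔭) a ∈ FSch.stalkSubring A J 𝔭 := by
  obtain ⟨f, hf, x, rfl⟩ := exists_awayToAtPrime_eq A 𝔭 a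
  have hle : (FSch.cAwayToAtPrime A J 𝔭 f hf).range ≤ FSch.stalkSubring A J 𝔭 :=
    le_iSup (fun f : {f : A // f ∉ 𝔭} => (FSch.cAwayToAtPrime A J 𝔭 f.1 f.2).range) ⟨f, hf⟩
  apply hle
  refine ⟨AdicCompletion.of _ _ x, ?_⟩
  unfold FSch.cAwayToAtPrime
  rw [complMap_of]
  rfl

/-- The transition map `A_f → A_{fg}`. -/
noncomputable def awayTrans (f g : A) : Localization.Away f →+* Localization.Away (f * g) :=
  IsLocalization.Away.awayToAwayRight f g

theorem awayTrans_algebraMap (f g : A) (a : A) :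
    awayTrans A f g (algebraMap A (Localization.Away f) a) =
      algebraMap A (Localization.Away (f * g)) a :=
  IsLocalization.Away.awayToAwayRight_eq f g a

theorem map_awayTrans_le (f g : A) :
    (J.map (algebraMap A (Localization.Away f))).map (awayTrans A f g) ≤
      J.map (algebraMap A (Localization.Away (f * g))) := by
  rw [Ideal.map_map]
  apply le_of_eq
  congr 1
  ext a
  exact awayTrans_algebraMap A f g a

theorem awayToAtPrime_algebraMap (f : A) (hf : f ∉ 𝔭) (a : A) :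
    FSch.awayToAtPrime A 𝔭 f hf (algebraMap A (Localization.Away f) a) =
      algebraMap A (Localization.AtPrime 𝔭) a := by
  unfold FSch.awayToAtPrime
  exact IsLocalization.Away.lift_eq _ _ _

theorem awayToAtPrime_comp_awayTrans (f g : A) (hf : f ∉ 𝔭) (hfg : f * g ∉ 𝔭) :
    (FSch.awayToAtPrime A 𝔭 (f * g) hfg).comp (awayTrans A f g) = FSch.awayToAtPrime A 𝔭 f hf := by
  apply IsLocalization.ringHom_ext (Submonoid.powers f)
  ext a
  simp only [RingHom.comp_apply]
  rw [awayTrans_algebraMap, awayToAtPrime_algebraMap, awayToAtPrime_algebraMap]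

/-- The completed transition map `A_{f} → A_{fg}`. -/
noncomputable def cAwayTrans (f g : A) : FSch.cAway A J f →+* FSch.cAway A J (f * g) :=
  FSch.complMap _ _ (awayTrans A f g) (map_awayTrans_le A J f g)

theorem cAwayToAtPrime_cAwayTrans (f g : A) (hf : f ∉ 𝔭) (hfg : f * g ∉ 𝔭)
    (y : FSch.cAway A J f) :
    FSch.cAwayToAtPrime A J 𝔭 (f * g) hfg (cAwayTrans A J f g y) =
      FSch.cAwayToAtPrime A J 𝔭 f hf y := by
  unfold FSch.cAwayToAtPrime cAwayTrans
  rw [complMap_comp _ _ _ _ _ _ _ (by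
    rw [awayToAtPrime_comp_awayTrans A 𝔭 f g hf hfg]; exact FSch.map_awayToAtPrime_le A J 𝔭 f hf)]
  exact congrFun (congrArg DFunLike.coe (complMap_congr _ _
    (awayToAtPrime_comp_awayTrans A 𝔭 f g hf hfg) _ _)) y

theorem range_cAwayToAtPrime_le_mul_right (f g : A) (hf : f ∉ 𝔭) (hfg : f * g ∉ 𝔭) :
    (FSch.cAwayToAtPrime A J 𝔭 f hf).range ≤ (FSch.cAwayToAtPrime A J 𝔭 (f * g) hfg).range := by
  rintro _ ⟨y, rfl⟩
  exact ⟨cAwayTrans A J f g y, cAwayToAtPrime_cAwayTrans A J 𝔭 f g hf hfg y⟩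

theorem mem_stalkSubring_iff (x : FSch.cAtPrime A J 𝔭) :
    x ∈ FSch.stalkSubring A J 𝔭 ↔
      ∃ (f : A) (hf : f ∉ 𝔭) (y : FSch.cAway A J f), FSch.cAwayToAtPrime A J 𝔭 f hf y = x := by
  have hne : Nonempty {f : A // f ∉ 𝔭} := ⟨⟨1, fun h => (Ideal.IsPrime.ne_top ‹_›)
    ((Ideal.eq_top_iff_one _).mpr h)⟩⟩
  have hdir : Directed (· ≤ ·)
      (fun f : {f : A // f ∉ 𝔭} => (FSch.cAwayToAtPrime A J 𝔭 f.1 f.2).range) := by
    rintro ⟨f, hf⟩ ⟨g, hg⟩
    have hfg : f * g ∉ 𝔭 := fun h => (Ideal.IsPrime.mem_or_mem ‹_› h).elim hf hg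
    have hgf : g * f ∉ 𝔭 := by rwa [mul_comm]
    refine ⟨⟨f * g, hfg⟩, range_cAwayToAtPrime_le_mul_right A J 𝔭 f g hf hfg, ?_⟩
    have h2 := range_cAwayToAtPrime_le_mul_right A J 𝔭 g f hg hgf
    have hcongr : ∀ (a b : A) (hab : a = b) (ha : a ∉ 𝔭) (hb : b ∉ 𝔭),
        (FSch.cAwayToAtPrime A J 𝔭 a ha).range = (FSch.cAwayToAtPrime A J 𝔭 b hb).range := by
      intro a b hab ha hb
      subst hab
      rfl
    change (FSch.cAwayToAtPrime A J 𝔭 g hg).range ≤ (FSch.cAwayToAtPrime A J 𝔭 (f * g) hfg).range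
    rw [hcongr (f * g) (g * f) (mul_comm f g) hfg hgf]
    exact h2
  unfold FSch.stalkSubring
  rw [Subring.mem_iSup_of_directed hdir]
  constructor
  · rintro ⟨⟨f, hf⟩, y, rfl⟩
    exact ⟨f, hf, y, rfl⟩
  · rintro ⟨f, hf, y, rfl⟩
    exact ⟨⟨f, hf⟩, y, rfl⟩

section Local

variable {A J 𝔭}

theorem map_atPrime_ne_top (hJ : J ≤ 𝔭) : J.map (algebraMap A (Localization.AtPrime 𝔭)) ≠ ⊤ := by
  have hle : J.map (algebraMap A (Localization.AtPrime 𝔭)) ≤
      IsLocalRing.maximalIdeal (Localization.AtPrime 𝔭) := by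
    rw [← Localization.AtPrime.map_eq_maximalIdeal]
    exact Ideal.map_mono hJ
  intro h
  rw [h] at hle
  exact (IsLocalRing.maximalIdeal.isMaximal _).ne_top (top_le_iff.mp hle)

/-- The completion of a local ring along a proper ideal is local. -/
theorem isLocalRing_adicCompletion {R : Type u} [CommRing R] [IsLocalRing R] (I : Ideal R)
    (hI : I ≠ ⊤) : IsLocalRing (AdicCompletion I R) := by
  have : Nontrivial (R ⧸ I) := Ideal.Quotient.nontrivial_iff.mpr hI
  have : IsLocalRing (R ⧸ I) :=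
    IsLocalRing.of_surjective' (Ideal.Quotient.mk I) Ideal.Quotient.mk_surjective
  have : IsLocalHom (AdicCompletion.evalOneₐ I).toRingHom :=
    ⟨fun x hx => isUnit_of_isUnit_evalOneₐ I x hx⟩
  exact RingHom.domain_isLocalRing (AdicCompletion.evalOneₐ I).toRingHom

theorem isLocalRing_cAtPrime (hJ : J ≤ 𝔭) : IsLocalRing (FSch.cAtPrime A J 𝔭) :=
  isLocalRing_adicCompletion _ (map_atPrime_ne_top hJ)

/-- An element of the stalk subring which is invertible in `A{S⁻¹}` is invertible in the subring. -/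
theorem isUnit_stalkSubring_of_isUnit (hJ : J ≤ 𝔭) (x : FSch.stalkSubring A J 𝔭)
    (hx : IsUnit (x : FSch.cAtPrime A J 𝔭)) : IsUnit x := by
  obtain ⟨f, hf, y, hy⟩ := (mem_stalkSubring_iff A J 𝔭 x.1).mp x.2
  set I𝔭 := J.map (algebraMap A (Localization.AtPrime 𝔭)) with hI𝔭
  set If := J.map (algebraMap A (Localization.Away f)) with hIf
  -- a representative of the residue of `y`
  obtain ⟨r, hr⟩ := Ideal.Quotient.mk_surjective (AdicCompletion.evalOneₐ If y)
  obtain ⟨b, ⟨_, k, rfl⟩, rfl⟩ := IsLocalization.exists_mk'_eq (Submonoid.powers f) r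
  have hne : I𝔭 ≠ ⊤ := map_atPrime_ne_top hJ
  have : Nontrivial (Localization.AtPrime 𝔭 ⧸ I𝔭) := Ideal.Quotient.nontrivial_iff.mpr hne
  have hloc : IsLocalHom (Ideal.Quotient.mk I𝔭) :=
    IsLocalHom.of_surjective _ Ideal.Quotient.mk_surjective
  -- the image of `r` in `A_𝔭` is a unit
  have hu1 : IsUnit (AdicCompletion.evalOneₐ I𝔭 (FSch.cAwayToAtPrime A J 𝔭 f hf y)) := by
    rw [hy]; exact hx.map _
  unfold FSch.cAwayToAtPrime at hu1
  rw [evalOneₐ_complMap, ← hr, Ideal.quotientMap_mk] at hu1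
  have hu2 := hloc.map_nonunit _ hu1
  -- hence `b ∉ 𝔭`
  have hspec : IsLocalization.mk' (Localization.Away f) b
        (⟨f ^ k, k, rfl⟩ : Submonoid.powers f) * algebraMap A (Localization.Away f) (f ^ k) =
      algebraMap A (Localization.Away f) b := IsLocalization.mk'_spec _ _ _
  have hb : b ∉ 𝔭 := by
    have h3 := congrArg (FSch.awayToAtPrime A 𝔭 f hf) hspec
    rw [map_mul, awayToAtPrime_algebraMap, awayToAtPrime_algebraMap] at h3
    have hfk : IsUnit (algebraMap A (Localization.AtPrime 𝔭) (f ^ k)) :=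
      IsLocalization.map_units (Localization.AtPrime 𝔭)
        (⟨f ^ k, 𝔭.primeCompl.pow_mem hf k⟩ : 𝔭.primeCompl)
    have hbu : IsUnit (algebraMap A (Localization.AtPrime 𝔭) b) := by
      rw [← h3]; exact hu2.mul hfk
    exact (IsLocalization.AtPrime.isUnit_to_map_iff (Localization.AtPrime 𝔭) 𝔭 b).mp hbu
  have hfb : f * b ∉ 𝔭 := fun h => (Ideal.IsPrime.mem_or_mem ‹_› h).elim hf hb
  -- the image of `y` in `A_{fb}` is a unit
  set y' := cAwayTrans A J f b y with hy'
  have hy'x : FSch.cAwayToAtPrime A J 𝔭 (f * b) hfb y' = x.1 := by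
    rw [hy', cAwayToAtPrime_cAwayTrans A J 𝔭 f b hf hfb, hy]
  have hunit : IsUnit y' := by
    apply isUnit_of_isUnit_evalOneₐ
    rw [hy']
    unfold cAwayTrans
    rw [evalOneₐ_complMap, ← hr, Ideal.quotientMap_mk]
    apply IsUnit.map
    have h4 := congrArg (awayTrans A f b) hspec
    rw [map_mul, awayTrans_algebraMap, awayTrans_algebraMap] at h4
    have hfbu : IsUnit (algebraMap A (Localization.Away (f * b)) (f * b)) :=
      IsLocalization.Away.algebraMap_isUnit (f * b)
    rw [map_mul] at hfbu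
    have hbu : IsUnit (algebraMap A (Localization.Away (f * b)) b) := isUnit_of_mul_isUnit_right hfbu
    have hfu : IsUnit (algebraMap A (Localization.Away (f * b)) f) := isUnit_of_mul_isUnit_left hfbu
    have hfku : IsUnit (algebraMap A (Localization.Away (f * b)) (f ^ k)) := by
      rw [map_pow]; exact hfu.pow k
    have : awayTrans A f b (IsLocalization.mk' (Localization.Away f) b
        (⟨f ^ k, k, rfl⟩ : Submonoid.powers f)) =
        algebraMap A (Localization.Away (f * b)) b * ↑hfku.unit⁻¹ := by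
      rw [← h4, mul_assoc, IsUnit.mul_val_inv, mul_one]
    rw [this]
    exact hbu.mul (Units.isUnit _)
  -- build the inverse inside the stalk subring
  have hmem : FSch.cAwayToAtPrime A J 𝔭 (f * b) hfb (↑hunit.unit⁻¹ : FSch.cAway A J (f * b)) ∈
      FSch.stalkSubring A J 𝔭 :=
    (mem_stalkSubring_iff A J 𝔭 _).mpr ⟨f * b, hfb, _, rfl⟩
  refine .of_mul_eq_one ⟨_, hmem⟩ ?_
  apply Subtype.ext
  change x.1 * FSch.cAwayToAtPrime A J 𝔭 (f * b) hfb (↑hunit.unit⁻¹ : FSch.cAway A J (f * b)) = 1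
  rw [← hy'x, ← map_mul, IsUnit.mul_val_inv, map_one]

theorem isLocalHom_stalkSubring_subtype (hJ : J ≤ 𝔭) :
    IsLocalHom (FSch.stalkSubring A J 𝔭).subtype :=
  ⟨fun x hx => isUnit_stalkSubring_of_isUnit hJ x hx⟩

theorem isLocalRing_stalkSubring (hJ : J ≤ 𝔭) : IsLocalRing (FSch.stalkSubring A J 𝔭) := by
  have := isLocalRing_cAtPrime hJ
  have := isLocalHom_stalkSubring_subtype hJ
  exact RingHom.domain_isLocalRing (FSch.stalkSubring A J 𝔭).subtype

end Local

end Stalk

end Groth.Agent.Lib.Helper1
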