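import Mathlib
import Groth.Agent.Lib.Helper1.GeomIrrCover
import Groth.Agent.Lib.Helper1.FPS3

/-!
# Connected locally Noetherian schemes with domain stalks are irreducible
-/

set_option autoImplicit false
set_option linter.style.haveILetI false
set_option linter.unusedSectionVars false

universe u

open CategoryTheory CategoryTheory.Limits AlgebraicGeometry

namespace Groth.Agent.Lib.Helper1.ConnIrr

/-- a connected space covered by irreducible open subsets is irreducible -/
theorem irreducibleSpace_of_connected_of_cover {X : Type*} [TopologicalSpace X] [ConnectedSpace X]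
    {ι : Type*} (U : ι → Set X) (hopen : ∀ i, IsOpen (U i)) (hcov : ⋃ i, U i = Set.univ)
    (hirr : ∀ i, IsIrreducible (U i)) : IrreducibleSpace X := by
  classical
  obtain ⟨x₀⟩ : Nonempty X := inferInstance
  obtain ⟨i₀, hi₀⟩ := Set.mem_iUnion.mp (hcov.ge (Set.mem_univ x₀))
  haveI : Nonempty ι := ⟨i₀⟩
  -- transitivity of meeting
  have htrans : ∀ i j l, (U i ∩ U j).Nonempty → (U j ∩ U l).Nonempty → (U i ∩ U l).Nonempty := by
    intro i j l ⟨a, ha1, ha2⟩ ⟨b, hb1, hb2⟩
    obtain ⟨c, -, hc1, hc2⟩ := (hirr j).2 (U i) (U l) (hopen i) (hopen l) ⟨a, ha2, ha1⟩ ⟨b, hb1, hb2⟩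
    exact ⟨c, hc1, hc2⟩
  let W : Set X := ⋃ (j : ι) (_ : (U j ∩ U i₀).Nonempty), U j
  let W' : Set X := ⋃ (j : ι) (_ : ¬ (U j ∩ U i₀).Nonempty), U j
  have hWopen : IsOpen W := isOpen_iUnion fun j => isOpen_iUnion fun _ => hopen j
  have hW'open : IsOpen W' := isOpen_iUnion fun j => isOpen_iUnion fun _ => hopen j
  have hcover : Set.univ ⊆ W ∪ W' := by
    intro z _
    obtain ⟨j, hj⟩ := Set.mem_iUnion.mp (hcov.ge (Set.mem_univ z))
    by_cases h : (U j ∩ U i₀).Nonempty
    · exact Or.inl (Set.mem_iUnion₂.mpr ⟨j, h, hj⟩)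
    · exact Or.inr (Set.mem_iUnion₂.mpr ⟨j, h, hj⟩)
  have hdisj : W ∩ W' = ∅ := by
    rw [Set.eq_empty_iff_forall_notMem]
    rintro z ⟨hz, hz'⟩
    obtain ⟨j, hj, hzj⟩ := Set.mem_iUnion₂.mp hz
    obtain ⟨l, hl, hzl⟩ := Set.mem_iUnion₂.mp hz'
    exact hl (htrans l j i₀ ⟨z, hzl, hzj⟩ hj)
  have hW'empty : W' = ∅ := by
    by_contra hne
    obtain ⟨w', hw'⟩ := Set.nonempty_iff_ne_empty.mpr hne
    have hx₀W : x₀ ∈ W := Set.mem_iUnion₂.mpr ⟨i₀, ⟨x₀, hi₀, hi₀⟩, hi₀⟩
    obtain ⟨z, -, hz⟩ := isPreconnected_univ W W' hWopen hW'open hcover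
      ⟨x₀, Set.mem_univ _, hx₀W⟩ ⟨w', Set.mem_univ _, hw'⟩
    rw [hdisj] at hz
    exact hz
  have hall : ∀ j, (U j ∩ U i₀).Nonempty := by
    intro j
    by_contra h
    obtain ⟨y, hy⟩ := (hirr j).1
    have : y ∈ W' := Set.mem_iUnion₂.mpr ⟨j, h, hy⟩
    rw [hW'empty] at this
    exact this
  apply Groth.Agent.Lib.Helper1.GeomIrrCover.irreducibleSpace_of_cover U hopen hcov hirr
  intro i j
  have h1 := hall i
  have h2 := hall j
  rw [Set.inter_comm] at h2
  exact htrans i i₀ j h1 h2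

/-- In a Noetherian ring, a prime `p` with `A_p` a domain has an irreducible basic open
neighbourhood. -/
theorem exists_basicOpen_isIrreducible (A : Type u) [CommRing A] [IsNoetherianRing A]
    (p : PrimeSpectrum A) [IsDomain (Localization.AtPrime p.asIdeal)] :
    ∃ f : A, p ∈ PrimeSpectrum.basicOpen f ∧
      IsIrreducible (PrimeSpectrum.basicOpen f : Set (PrimeSpectrum A)) := by
  classical
  let N : Ideal A := RingHom.ker (algebraMap A (Localization.AtPrime p.asIdeal))
  haveI hNprime : N.IsPrime := RingHom.ker_isPrime _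
  have hNle : N ≤ p.asIdeal := by
    intro a ha
    by_contra hap
    have h1 : IsUnit (algebraMap A (Localization.AtPrime p.asIdeal) a) :=
      IsLocalization.map_units (Localization.AtPrime p.asIdeal) (⟨a, hap⟩ : p.asIdeal.primeCompl)
    rw [RingHom.mem_ker.mp ha] at h1
    exact not_isUnit_zero h1
  -- every minimal prime below `p` equals `N`
  have huniq : ∀ q ∈ minimalPrimes A, q ≤ p.asIdeal → q = N := by
    intro q hq hqp
    haveI : q.IsPrime := hq.1.1
    have h1 : (q.map (algebraMap A (Localization.AtPrime p.asIdeal))).comap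
        (algebraMap A (Localization.AtPrime p.asIdeal)) = q :=
      IsLocalization.comap_map_of_isPrime_disjoint p.asIdeal.primeCompl _ ‹_›
        (Set.disjoint_left.mpr fun a ha hq' => ha (hqp hq'))
    have h2 : N ≤ q := by
      rw [← h1]
      exact Ideal.comap_mono bot_le
    exact le_antisymm (hq.2 ⟨hNprime, bot_le⟩ h2) h2
  have hfin : (minimalPrimes A).Finite := minimalPrimes.finite_of_isNoetherianRing A
  let S : Finset (Ideal A) := hfin.toFinset.filter (fun q => q ≠ N)
  have hS : ∀ q ∈ S, ∃ a ∈ q, a ∉ p.asIdeal := by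
    intro q hq
    have hq' := Finset.mem_filter.mp hq
    have hqmin : q ∈ minimalPrimes A := hfin.mem_toFinset.mp hq'.1
    by_contra hcon
    push_neg at hcon
    exact hq'.2 (huniq q hqmin hcon)
  choose! a ha1 ha2 using hS
  let f : A := ∏ q ∈ S, a q
  have hfp : f ∉ p.asIdeal := by
    intro hf
    haveI := p.isPrime
    obtain ⟨q, hq, hqa⟩ := Ideal.IsPrime.prod_mem_iff.mp hf
    exact ha2 q hq hqa
  refine ⟨f, hfp, ⟨⟨p, hfp⟩, ?_⟩⟩
  have hsub : (PrimeSpectrum.basicOpen f : Set (PrimeSpectrum A)) ⊆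
      closure {(⟨N, hNprime⟩ : PrimeSpectrum A)} := by
    intro p' hp'
    rw [← specializes_iff_mem_closure, ← PrimeSpectrum.le_iff_specializes]
    obtain ⟨q, hq, hqp'⟩ := Ideal.exists_minimalPrimes_le (bot_le : (⊥ : Ideal A) ≤ p'.asIdeal)
    have hq' : q ∈ minimalPrimes A := hq
    suffices q = N by subst this; exact hqp'
    by_contra hne
    have hqS : q ∈ S := Finset.mem_filter.mpr ⟨hfin.mem_toFinset.mpr hq', hne⟩
    have : f ∈ q := Ideal.prod_mem q hqS (ha1 q hqS)
    exact hp' (hqp' this)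
  exact (isIrreducible_singleton.closure).2.open_subset (PrimeSpectrum.basicOpen f).2 hsub


open Groth.Agent.Lib.Helper1.FPS in
theorem exists_irreducible_open_nhd (X : Scheme.{u}) [IsLocallyNoetherian X] (x : X)
    [IsDomain (X.presheaf.stalk x)] : ∃ V : Set X, IsOpen V ∧ x ∈ V ∧ IsIrreducible V := by
  obtain ⟨A, _, _, iA, _, a, -, ha⟩ := exists_affine_chart (R := Γ(X, ⊤)) X.toSpecΓ x
  haveI : IsLocallyNoetherian (Spec (CommRingCat.of A)) := isLocallyNoetherian_of_isOpenImmersion iA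
  haveI : IsNoetherianRing A :=
    (isLocallyNoetherian_Spec (R := CommRingCat.of A)).mp inferInstance
  obtain ⟨e⟩ := nonempty_stalk_equiv iA a
  haveI : IsDomain (X.presheaf.stalk (iA.base a)) := by rw [ha]; infer_instance
  haveI : IsDomain (Localization.AtPrime a.asIdeal) := e.symm.toMulEquiv.isDomain _
  obtain ⟨f, hf1, hf2⟩ := exists_basicOpen_isIrreducible A a
  refine ⟨iA.base '' (PrimeSpectrum.basicOpen f : Set (PrimeSpectrum A)), ?_, ?_, ?_⟩
  · exact iA.isOpenEmbedding.isOpenMap _ (PrimeSpectrum.basicOpen f).2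
  · exact ⟨a, hf1, ha⟩
  · exact hf2.image _ iA.continuous.continuousOn

theorem irreducibleSpace_of_connected (X : Scheme.{u}) [IsLocallyNoetherian X] [ConnectedSpace X]
    (h : ∀ x : X, IsDomain (X.presheaf.stalk x)) : IrreducibleSpace X := by
  haveI := h
  choose V hV1 hV2 hV3 using fun x : X => exists_irreducible_open_nhd X x
  apply irreducibleSpace_of_connected_of_cover V hV1 _ hV3
  rw [Set.eq_univ_iff_forall]
  intro x
  exact Set.mem_iUnion.mpr ⟨x, hV2 x⟩

end Groth.Agent.Lib.Helper1.ConnIrr
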