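import Groth.Agent.Lib.Helper1.CotTVanish
import Groth.Agent.Lib.Helper1.CotTComp

/-!
# Complete intersections and vanishing of `T²` (helper1)

* `koszul_decomp`, `isRegFamily_of_rel_le_koszul` : in a Noetherian ring, a family in the Jacobson
  radical whose relations are all Koszul relations is a regular family.
* `isWeaklyRegular_of_isRegFamily` : converse of `isRegFamily_of_isWeaklyRegular`.
* `exists_minimal_list`, `coeff_mem_maximalIdeal_of_minimal`.
* `isRegFamily_of_subsingleton_T2` : for a quotient `B = A/(a_1..a_n)` of a Noetherian local ring with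
  `a` a minimal system of generators, `T²(B/A, L₂) = 0` forces `a` to be a regular family.
-/

universe u v w t m

open TensorProduct CotT

namespace Groth.Agent.Lib.Helper1.CotTCI

open Groth.Agent.Lib.Helper1.CotTVanish Groth.Agent.Lib.Helper1.CotTComp
  Groth.Agent.Lib.Helper1.CotTHom

section Koszul
variable {R : Type u} [CommRing R]

/-- structure of Koszul relations in `n+1` variables relative to the first `n` -/
lemma koszul_decomp {n : ℕ} (a : Fin (n + 1) → R) (y : Fin (n + 1) →₀ R)
    (hy : y ∈ koszulSpan a) :
    ∃ k' ∈ koszulSpan (fun i : Fin n => a i.castSucc), ∃ d : Fin n →₀ R,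
      (∀ i : Fin n, y i.castSucc = k' i - a (Fin.last n) * d i) ∧
      y (Fin.last n) = Finsupp.linearCombination R (fun i : Fin n => a i.castSucc) d := by
  unfold koszulSpan at hy
  induction hy using Submodule.span_induction with
  | mem y hy =>
    obtain ⟨i, j, rfl⟩ := hy
    induction i using Fin.lastCases with
    | last =>
      induction j using Fin.lastCases with
      | last =>
        refine ⟨0, Submodule.zero_mem _, 0, ?_, ?_⟩
        · intro l; simp
        · simp
      | cast j' =>
        refine ⟨0, Submodule.zero_mem _, -Finsupp.single j' 1, ?_, ?_⟩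
        · intro l
          simp [Finsupp.single_apply, Fin.castSucc_inj, (Fin.castSucc_ne_last l).symm]
        · simp [Finsupp.single_apply, Fin.castSucc_ne_last j']
    | cast i' =>
      induction j using Fin.lastCases with
      | last =>
        refine ⟨0, Submodule.zero_mem _, Finsupp.single i' 1, ?_, ?_⟩
        · intro l
          simp [Finsupp.single_apply, Fin.castSucc_inj, (Fin.castSucc_ne_last l).symm]
        · simp [Finsupp.single_apply, Fin.castSucc_ne_last i']
      | cast j' =>
        refine ⟨a i'.castSucc • Finsupp.single j' 1 - a j'.castSucc • Finsupp.single i' 1,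
          Submodule.subset_span ⟨i', j', rfl⟩, 0, ?_, ?_⟩
        · intro l
          simp [Finsupp.single_apply, Fin.castSucc_inj]
        · simp [Finsupp.single_apply, Fin.castSucc_ne_last i', Fin.castSucc_ne_last j']
  | zero => exact ⟨0, Submodule.zero_mem _, 0, by simp, by simp⟩
  | add x y _ _ hx hy =>
    obtain ⟨k1, hk1, d1, e1, f1⟩ := hx
    obtain ⟨k2, hk2, d2, e2, f2⟩ := hy
    refine ⟨k1 + k2, Submodule.add_mem _ hk1 hk2, d1 + d2, ?_, ?_⟩
    · intro i
      rw [Finsupp.add_apply, e1, e2, Finsupp.add_apply, Finsupp.add_apply]; ring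
    · rw [Finsupp.add_apply, f1, f2, map_add]
  | smul r x _ hx =>
    obtain ⟨k1, hk1, d1, e1, f1⟩ := hx
    refine ⟨r • k1, Submodule.smul_mem _ _ hk1, r • d1, ?_, ?_⟩
    · intro i
      rw [Finsupp.smul_apply, e1, Finsupp.smul_apply, Finsupp.smul_apply, smul_eq_mul, smul_eq_mul,
        smul_eq_mul]; ring
    · rw [Finsupp.smul_apply, f1, map_smul]

/-- In a Noetherian ring, a family of elements of the Jacobson radical all of whose relations are
Koszul relations is a regular family. -/
theorem isRegFamily_of_rel_le_koszul [IsNoetherianRing R] :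
    ∀ (n : ℕ) (a : Fin n → R), (∀ i, a i ∈ Ideal.jacobson (⊥ : Ideal R)) →
      (∀ c : Fin n →₀ R, Finsupp.linearCombination R a c = 0 → c ∈ koszulSpan a) →
      IsRegFamily a := by
  intro n
  induction n with
  | zero => intro a _ _ k; exact k.elim0
  | succ n ih =>
    intro a ha hK
    set a' : Fin n → R := fun i => a i.castSucc with ha'
    have hnotin : Fin.last n ∉ Set.range (Fin.castSucc : Fin n → Fin (n + 1)) := by
      rintro ⟨i, hi⟩
      exact Fin.castSucc_ne_last i hi
    have hK' : ∀ c : Fin n →₀ R, Finsupp.linearCombination R a' c = 0 → c ∈ koszulSpan a' := by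
      have hle : LinearMap.ker (Finsupp.linearCombination R a') ≤ koszulSpan a' := by
        refine Submodule.le_of_le_smul_of_le_jacobson_bot (I := Ideal.span {a (Fin.last n)})
          (IsNoetherian.noetherian _) ?_ ?_
        · rw [Ideal.span_le]
          intro x hx
          rw [Set.mem_singleton_iff] at hx
          rw [hx]
          exact ha _
        · intro z hz
          rw [LinearMap.mem_ker] at hz
          have h1 : Finsupp.linearCombination R a (Finsupp.mapDomain Fin.castSucc z) = 0 := by
            rw [Finsupp.linearCombination_mapDomain]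
            exact hz
          obtain ⟨k', hk', d, hd1, hd2⟩ := koszul_decomp a _ (hK _ h1)
          rw [Finsupp.mapDomain_of_notMem_range _ _ hnotin] at hd2
          have hz' : z = k' - a (Fin.last n) • d := by
            ext i
            have := hd1 i
            rw [Finsupp.mapDomain_apply (Fin.castSucc_injective n)] at this
            rw [this, Finsupp.sub_apply, Finsupp.smul_apply, smul_eq_mul]
          rw [hz']
          refine Submodule.sub_mem _ (Submodule.mem_sup_left hk') (Submodule.mem_sup_right ?_)
          refine Submodule.smul_mem_smul (Ideal.mem_span_singleton_self _) ?_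
          rw [LinearMap.mem_ker]
          exact hd2.symm
      intro c hc
      exact hle hc
    have hreg' := ih a' (fun i => ha _) hK'
    have hlast : ∀ x : R, x * a (Fin.last n) ∈ Ideal.span (Set.range a') →
        x ∈ Ideal.span (Set.range a') := by
      intro x hx
      obtain ⟨c', hc'⟩ := (Finsupp.mem_span_range_iff_exists_finsupp).mp hx
      have hz : Finsupp.linearCombination R a
          (Finsupp.mapDomain Fin.castSucc c' - Finsupp.single (Fin.last n) x) = 0 := by
        rw [map_sub, Finsupp.linearCombination_mapDomain, Finsupp.linearCombination_single,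
          Finsupp.linearCombination_apply]
        change (c'.sum fun i r => r • a' i) - _ = 0
        rw [hc', smul_eq_mul, sub_self]
      obtain ⟨k', hk', d, hd1, hd2⟩ := koszul_decomp a _ (hK _ hz)
      rw [Finsupp.sub_apply, Finsupp.mapDomain_of_notMem_range _ _ hnotin, Finsupp.single_eq_same,
        zero_sub] at hd2
      have hx' : x = -Finsupp.linearCombination R a' d := by rw [← hd2, neg_neg]
      rw [hx']
      refine neg_mem ?_
      change _ ∈ Submodule.span R (Set.range a')
      rw [← Finsupp.range_linearCombination]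
      exact ⟨d, rfl⟩
    intro k x hx
    induction k using Fin.lastCases with
    | last =>
      have hset : a '' {i | i < Fin.last n} = Set.range a' := by
        ext y
        constructor
        · rintro ⟨i, hi, rfl⟩
          exact ⟨i.castLT hi, by simp [ha']⟩
        · rintro ⟨i, rfl⟩
          exact ⟨i.castSucc, Fin.castSucc_lt_last i, rfl⟩
      rw [hset] at hx ⊢
      exact hlast x hx
    | cast k' =>
      have hset : a '' {i | i < k'.castSucc} = a' '' {i | i < k'} := by
        ext y
        constructor
        · rintro ⟨i, hi, rfl⟩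
          have hi' : i.val < n := lt_of_lt_of_le (Fin.lt_def.mp hi) (by simp [Nat.le_of_lt k'.2])
          refine ⟨⟨i.val, hi'⟩, ?_, ?_⟩
          · exact Fin.lt_def.mpr (Fin.lt_def.mp hi)
          · simp [ha']
        · rintro ⟨i, hi, rfl⟩
          exact ⟨i.castSucc, Fin.castSucc_lt_castSucc_iff.mpr hi, rfl⟩
      rw [hset] at hx ⊢
      exact hreg' k' x hx

/-- converse of `isRegFamily_of_isWeaklyRegular` -/
lemma isWeaklyRegular_of_isRegFamily (rs : List R)
    (h : IsRegFamily (fun i : Fin rs.length => rs[i])) :
    RingTheory.Sequence.IsWeaklyRegular R rs := by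
  refine ⟨fun i hi => ?_⟩
  rw [isSMulRegular_iff_right_eq_zero_of_smul]
  intro m hm
  induction m using Submodule.Quotient.induction_on with
  | H x =>
    rw [← Submodule.Quotient.mk_smul, Submodule.Quotient.mk_eq_zero, smul_eq_mul, smul_eq_mul,
      Ideal.mul_top] at hm
    rw [Submodule.Quotient.mk_eq_zero, smul_eq_mul, Ideal.mul_top]
    have h1 := h ⟨i, hi⟩ x
    rw [← ofList_take_eq_span rs ⟨i, hi⟩] at h1
    refine h1 ?_
    rw [mul_comm]
    exact hm

end Koszul

section Minimal
variable {A : Type u} [CommRing A]

lemma exists_minimal_list [IsNoetherianRing A] (I : Ideal A) :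
    ∃ rs : List A, Ideal.ofList rs = I ∧
      ∀ rs' : List A, Ideal.ofList rs' = I → rs.length ≤ rs'.length := by
  classical
  have hex : ∃ n : ℕ, ∃ rs : List A, Ideal.ofList rs = I ∧ rs.length = n := by
    obtain ⟨s, hs⟩ := (IsNoetherian.noetherian I : I.FG)
    refine ⟨_, s.toList, ?_, rfl⟩
    unfold Ideal.ofList
    rw [← hs]
    congr 1
    ext x
    simp
  obtain ⟨rs, h1, h2⟩ := Nat.find_spec hex
  refine ⟨rs, h1, fun rs' h' => ?_⟩
  rw [h2]
  exact Nat.find_min' hex ⟨rs', h', rfl⟩

lemma coeff_mem_maximalIdeal_of_minimal [IsLocalRing A] (rs : List A)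
    (hmin : ∀ rs' : List A, Ideal.ofList rs' = Ideal.ofList rs → rs.length ≤ rs'.length)
    (c : Fin rs.length →₀ A)
    (hc : Finsupp.linearCombination A (fun i : Fin rs.length => rs[i]) c = 0)
    (j : Fin rs.length) : c j ∈ IsLocalRing.maximalIdeal A := by
  classical
  by_contra hj
  rw [IsLocalRing.mem_maximalIdeal, mem_nonunits_iff, not_not] at hj
  obtain ⟨u, hu⟩ := hj
  have hsum : ∑ i : Fin rs.length, c i * rs[i] = 0 := by
    rw [Finsupp.linearCombination_apply, Finsupp.sum_fintype _ _ (by simp)] at hc
    simpa using hc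
  have hj' : rs[j] ∈ Ideal.ofList (rs.eraseIdx j) := by
    have h1 : c j * rs[j] = - ∑ i ∈ Finset.univ.erase j, c i * rs[i] := by
      rw [← Finset.add_sum_erase _ _ (Finset.mem_univ j)] at hsum
      exact eq_neg_of_add_eq_zero_left hsum
    have h2 : rs[j] = (↑u⁻¹ : A) * (c j * rs[j]) := by
      rw [← mul_assoc, ← hu, Units.inv_mul, one_mul]
    rw [h2, h1]
    refine Ideal.mul_mem_left _ _ (neg_mem (Ideal.sum_mem _ fun i hi => Ideal.mul_mem_left _ _ ?_))
    refine Ideal.subset_span ?_
    rw [Set.mem_setOf_eq, List.mem_eraseIdx_iff_getElem]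
    exact ⟨i.val, i.2, fun h => (Finset.ne_of_mem_erase hi) (Fin.ext h), rfl⟩
  have heq : Ideal.ofList (rs.eraseIdx j) = Ideal.ofList rs := by
    apply le_antisymm
    · refine Ideal.span_mono ?_
      intro x hx
      exact List.mem_of_mem_eraseIdx hx
    · unfold Ideal.ofList
      rw [Ideal.span_le]
      intro x hx
      obtain ⟨i, hi, rfl⟩ := List.mem_iff_getElem.mp hx
      by_cases hij : i = j.val
      · have : rs[i] = rs[j] := by
          congr 1
        rw [this]
        exact hj'
      · refine Ideal.subset_span ?_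
        rw [Set.mem_setOf_eq, List.mem_eraseIdx_iff_getElem]
        exact ⟨i, hi, hij, rfl⟩
  have h3 := hmin _ heq
  rw [List.length_eraseIdx_of_lt j.2] at h3
  have := j.2
  omega

end Minimal

section General
variable {A : Type u} {B : Type v} {ι : Type w} {σ : Type t}
variable [CommRing A] [CommRing B] [Algebra A B]
variable (P : Algebra.Presentation A B ι σ)

lemma d2_mem_smul_top (J : Ideal B)
    (hJ : ∀ q ∈ relKer P, ∀ s, algebraMap P.toExtension.Ring B (q s) ∈ J) (x : L2 P) :
    d2 P x ∈ (J • ⊤ : Submodule B (L1 P)) := by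
  classical
  induction x using Submodule.Quotient.induction_on with
  | H z =>
    induction z using TensorProduct.induction_on with
    | zero =>
      rw [Submodule.Quotient.mk_zero, (d2 P).map_zero]
      exact Submodule.zero_mem _
    | add x y hx hy =>
      rw [Submodule.Quotient.mk_add, (d2 P).map_add]
      exact Submodule.add_mem _ hx hy
    | tmul b q =>
      rw [d2_mk_tmul]
      have hq : ((q : relMod P)) = ∑ s ∈ (q : relMod P).support,
          (q : relMod P) s • Finsupp.single s (1 : P.toExtension.Ring) := by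
        conv_lhs => rw [← Finsupp.sum_single (q : relMod P)]
        rw [Finsupp.sum]
        refine Finset.sum_congr rfl fun s _ => ?_
        rw [Finsupp.smul_single, smul_eq_mul, mul_one]
      rw [hq, TensorProduct.tmul_sum]
      refine Submodule.sum_mem _ fun s _ => ?_
      rw [TensorProduct.tmul_smul, ← algebraMap_smul B ((q : relMod P) s)
        (b ⊗ₜ[P.toExtension.Ring] Finsupp.single s (1 : P.toExtension.Ring))]
      exact Submodule.smul_mem_smul (hJ q q.2 s) Submodule.mem_top

lemma subsingleton_L2_of_T2 [Module.Finite B (L2 P)] (J : Ideal B)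
    (hJac : J ≤ Ideal.jacobson ⊥)
    (hJ : ∀ q ∈ relKer P, ∀ s, algebraMap P.toExtension.Ring B (q s) ∈ J)
    (hT : Subsingleton (T2 P (L2 P))) : Subsingleton (L2 P) := by
  have h0 : toT2 P (L2 P) LinearMap.id = 0 := Subsingleton.elim _ _
  have h1 : (LinearMap.id : L2 P →ₗ[B] L2 P) ∈ LinearMap.range (d2Star P (L2 P)) := by
    unfold toT2 at h0
    rw [Submodule.mkQ_apply, Submodule.Quotient.mk_eq_zero] at h0
    exact h0
  obtain ⟨φ, hφ⟩ := h1
  rw [d2Star_apply] at hφ
  have htop : (⊤ : Submodule B (L2 P)) ≤ J • ⊤ := by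
    intro x _
    have hx : x = φ (d2 P x) := by
      have := LinearMap.congr_fun hφ x
      rw [LinearMap.comp_apply, LinearMap.id_apply] at this
      exact this.symm
    rw [hx]
    have h2 := d2_mem_smul_top P J hJ x
    have h3 : φ (d2 P x) ∈ (J • ⊤ : Submodule B (L1 P)).map φ := Submodule.mem_map_of_mem h2
    rw [Submodule.map_smul''] at h3
    exact Submodule.smul_mono le_rfl le_top h3
  have hbot := Submodule.eq_bot_of_le_smul_of_le_jacobson_bot J ⊤ Module.Finite.fg_top htop hJac
  refine ⟨fun x y => ?_⟩
  have hx : x ∈ (⊤ : Submodule B (L2 P)) := trivial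
  have hy : y ∈ (⊤ : Submodule B (L2 P)) := trivial
  rw [hbot, Submodule.mem_bot] at hx hy
  rw [hx, hy]

lemma relKer_le_trivRel_of_subsingleton_L2 (h : Subsingleton (L2 P)) : relKer P ≤ trivRel P := by
  intro q hq
  have h0 : kappa P ⟨q, hq⟩ = 0 := Subsingleton.elim _ _
  exact (kappa_eq_zero_iff P ⟨q, hq⟩).mp h0

lemma trivRel_le_koszulSpan {n : ℕ} (P : Algebra.Presentation A B ι (Fin n)) :
    trivRel P ≤ koszulSpan (rel P) := by
  unfold trivRel
  rw [Submodule.span_le]
  rintro _ ⟨f, g, rfl⟩
  rw [SetLike.mem_coe]
  induction g using Finsupp.induction_linear with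
  | zero => simp
  | add g1 g2 h1 h2 =>
    have : jmap P f • (g1 + g2) - jmap P (g1 + g2) • f =
        (jmap P f • g1 - jmap P g1 • f) + (jmap P f • g2 - jmap P g2 • f) := by
      rw [map_add, add_smul, smul_add]; abel
    rw [this]
    exact Submodule.add_mem _ h1 h2
  | single k r =>
    have : jmap P f • Finsupp.single k r - jmap P (Finsupp.single k r) • f =
        r • ((Finsupp.linearCombination P.toExtension.Ring (rel P) f) •
          Finsupp.single k (1 : P.toExtension.Ring) - rel P k • f) := by
      rw [jmap_single, smul_sub, smul_smul, smul_smul, Finsupp.smul_single, Finsupp.smul_single,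
        smul_eq_mul, smul_eq_mul, mul_one]
      unfold jmap
      rw [mul_comm _ r]
    rw [this]
    exact Submodule.smul_mem _ _ (lincomb_smul_single_sub_mem (rel P) k f)

end General

section Quot
variable {A : Type u} {B : Type v} [CommRing A] [CommRing B] [Algebra A B]
variable (hs : Function.Surjective (algebraMap A B)) {n : ℕ} (a : Fin n → A)
  (hI : RingHom.ker (algebraMap A B) = Ideal.span (Set.range a))

theorem isRegFamily_of_subsingleton_T2 [IsNoetherianRing A] [IsLocalRing A] [IsLocalRing B]
    (hmin : ∀ c : Fin n →₀ A, Finsupp.linearCombination A a c = 0 →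
      ∀ j, c j ∈ IsLocalRing.maximalIdeal A)
    (ha : ∀ i, a i ∈ IsLocalRing.maximalIdeal A)
    (hT : Subsingleton (T2 (quotPres.{u, v, w} hs a hI) (L2 (quotPres.{u, v, w} hs a hI)))) :
    IsRegFamily a := by
  classical
  set P := quotPres.{u, v, w} hs a hI with hP
  let φ : MvPolynomial PEmpty.{w + 1} A ≃+* A := MvPolynomial.isEmptyRingEquiv A PEmpty.{w + 1}
  have hφC : ∀ x : A, φ (MvPolynomial.C x) = x := by
    intro x
    have : (MvPolynomial.C x : MvPolynomial PEmpty.{w + 1} A) = φ.symm x := by
      rw [MvPolynomial.isEmptyRingEquiv_symm_apply]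
    rw [this, φ.apply_symm_apply]
  have hCφ : ∀ y : MvPolynomial PEmpty.{w + 1} A, MvPolynomial.C (φ y) = y := by
    intro y
    have : (MvPolynomial.C (φ y) : MvPolynomial PEmpty.{w + 1} A) = φ.symm (φ y) := by
      rw [MvPolynomial.isEmptyRingEquiv_symm_apply]
    rw [this, φ.symm_apply_apply]
  have : IsLocalHom (algebraMap A B) := IsLocalHom.of_surjective _ hs
  have hN : IsNoetherianRing P.toExtension.Ring :=
    inferInstanceAs (IsNoetherianRing (MvPolynomial PEmpty.{w + 1} A))
  have : IsNoetherian P.toExtension.Ring (relMod P) := inferInstance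
  have : Module.Finite P.toExtension.Ring (relKer P) := inferInstance
  have : Module.Finite B (B ⊗[P.toExtension.Ring] relKer P) := inferInstance
  have : Module.Finite B (L2 P) := inferInstance
  -- coefficients of relations lie in the maximal ideal
  have halg : ∀ y : P.toExtension.Ring, algebraMap P.toExtension.Ring B y = algebraMap A B (φ y) := by
    intro y
    rw [algebraMap_toExtension]
    conv_lhs => rw [← hCφ y]
    exact MvPolynomial.aeval_C _ _
  have hJ : ∀ q ∈ relKer P, ∀ s, algebraMap P.toExtension.Ring B (q s) ∈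
      IsLocalRing.maximalIdeal B := by
    intro q hq s
    rw [halg]
    refine map_nonunit (algebraMap A B) _ ?_
    refine hmin (Finsupp.mapRange φ (map_zero φ) q) ?_ s
    have h1 : jmap P q = 0 := hq
    unfold jmap at h1
    rw [Finsupp.linearCombination_apply, Finsupp.sum_fintype _ _ (by simp)] at h1 ⊢
    let qq : Fin n → MvPolynomial PEmpty.{w + 1} A := fun i => q i
    have h2 : φ (∑ i, qq i * (MvPolynomial.C (a i))) = φ 0 :=
      congrArg φ h1
    rw [map_sum, map_zero] at h2
    rw [← h2]
    refine Finset.sum_congr rfl fun i _ => ?_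
    rw [Finsupp.mapRange_apply, smul_eq_mul, map_mul, hφC]
    rfl
  have hL2 : Subsingleton (L2 P) :=
    subsingleton_L2_of_T2 P (IsLocalRing.maximalIdeal B) (IsLocalRing.maximalIdeal_le_jacobson _)
      hJ hT
  have hK : ∀ c : Fin n →₀ P.toExtension.Ring,
      Finsupp.linearCombination P.toExtension.Ring (rel P) c = 0 → c ∈ koszulSpan (rel P) := by
    intro c hc
    exact trivRel_le_koszulSpan P (relKer_le_trivRel_of_subsingleton_L2 P hL2 hc)
  have hjac : ∀ i, rel P i ∈ Ideal.jacobson (⊥ : Ideal P.toExtension.Ring) := by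
    intro i
    rw [Ideal.mem_jacobson_bot]
    intro y
    have h1 : rel P i * y + 1 = (MvPolynomial.C (a i * φ y + 1) : MvPolynomial PEmpty.{w + 1} A) := by
      rw [map_add, map_mul, map_one, hCφ]
      rfl
    rw [h1]
    refine IsUnit.map (MvPolynomial.C : A →+* MvPolynomial PEmpty.{w + 1} A) ?_
    have h2 : a i ∈ Ideal.jacobson (⊥ : Ideal A) :=
      IsLocalRing.maximalIdeal_le_jacobson _ (ha i)
    exact Ideal.mem_jacobson_bot.mp h2 (φ y)
  have hreg := isRegFamily_of_rel_le_koszul n (rel P) hjac hK
  have h3 := hreg.map φ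
  have h4 : (fun i => φ (rel P i)) = a := by
    funext i
    exact hφC (a i)
  rw [h4] at h3
  exact h3

end Quot

end Groth.Agent.Lib.Helper1.CotTCI
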