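import Mathlib

/-!
# `Ext¹` from a projective presentation (helper1)

For a surjection `g : L → M` of `R`-modules with `L` projective and kernel `K`,
`Ext¹_R(M, N) ≃ₗ Hom(K, N) / res Hom(L, N)`.
-/

universe u

open CategoryTheory Abelian

namespace Groth.Agent.Lib.Helper1.ExtOnePres

variable {R : Type u} [CommRing R] {L M N : Type u} [AddCommGroup L] [Module R L]
  [AddCommGroup M] [Module R M] [AddCommGroup N] [Module R N]
  (g : L →ₗ[R] M) (hg : Function.Surjective g)

/-- restriction of linear forms to the kernel -/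
def res (N : Type u) [AddCommGroup N] [Module R N] :
    (L →ₗ[R] N) →ₗ[R] (LinearMap.ker g →ₗ[R] N) :=
  LinearMap.lcomp R N (LinearMap.ker g).subtype

/-- the connecting map `Hom(K, N) → Ext¹(M, N)` -/
noncomputable def Phi (N : Type u) [AddCommGroup N] [Module R N] :
    (LinearMap.ker g →ₗ[R] N) →ₗ[R] Ext.{u} (ModuleCat.of R M) (ModuleCat.of R N) 1 :=
  (Ext.precompOfLinear (LinearMap.shortExact_shortComplexKer hg).extClass R (ModuleCat.of R N)
      (show 1 + 0 = 1 from rfl)) ∘ₗ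
    (Ext.linearEquiv₀ (R := R) (X := ModuleCat.of R (LinearMap.ker g))
      (Y := ModuleCat.of R N)).symm.toLinearMap ∘ₗ
    (ModuleCat.homLinearEquiv (S := R) (M := ModuleCat.of R (LinearMap.ker g))
      (N := ModuleCat.of R N)).symm.toLinearMap

lemma Phi_apply (φ : LinearMap.ker g →ₗ[R] N) :
    Phi g hg N φ = (LinearMap.shortExact_shortComplexKer hg).extClass.comp
      (Ext.mk₀ (ModuleCat.ofHom φ)) (show 1 + 0 = 1 from rfl) := rfl

variable [Module.Projective R L]

include hg in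
lemma Phi_surjective : Function.Surjective (Phi g hg N) := by
  intro x₃
  have hP : Projective (ModuleCat.of R L) := (IsProjective.iff_projective L).mp inferInstance
  have hS := LinearMap.shortExact_shortComplexKer hg
  obtain ⟨x₁, hx₁⟩ := Ext.contravariant_sequence_exact₃ hS (ModuleCat.of R N) x₃
    (Ext.eq_zero_of_projective (P := ModuleCat.of R L) _) (show 1 + 0 = 1 from rfl)
  refine ⟨(Ext.homEquiv₀ x₁).hom, ?_⟩
  rw [Phi_apply, ← hx₁]
  congr 1
  rw [ModuleCat.ofHom_hom]
  exact Ext.homEquiv₀.symm_apply_apply x₁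

lemma ker_Phi : LinearMap.ker (Phi g hg N) = LinearMap.range (res g N) := by
  have hS := LinearMap.shortExact_shortComplexKer hg
  ext φ
  rw [LinearMap.mem_ker, LinearMap.mem_range, Phi_apply]
  constructor
  · intro h
    obtain ⟨x₂, hx₂⟩ := Ext.contravariant_sequence_exact₁ hS (ModuleCat.of R N)
      (Ext.mk₀ (ModuleCat.ofHom φ)) (show 1 + 0 = 1 from rfl) h
    refine ⟨(Ext.homEquiv₀ x₂).hom, ?_⟩
    have h1 : x₂ = Ext.mk₀ (Ext.homEquiv₀ x₂) := (Ext.homEquiv₀.symm_apply_apply x₂).symm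
    rw [h1, Ext.mk₀_comp_mk₀] at hx₂
    have h2 := (Ext.mk₀_bijective _ _).1 hx₂
    have h3 := congrArg ModuleCat.Hom.hom h2
    rw [ModuleCat.hom_ofHom] at h3
    rw [← h3]
    rfl
  · rintro ⟨ψ, rfl⟩
    have : (ModuleCat.ofHom (res g N ψ) : ModuleCat.of R (LinearMap.ker g) ⟶ ModuleCat.of R N) =
        (LinearMap.shortComplexKer g).f ≫ ModuleCat.ofHom ψ := rfl
    rw [this, ← Ext.mk₀_comp_mk₀]
    exact hS.extClass_comp_assoc _

/-- `Ext¹(M, N)` as a quotient of `Hom(K, N)` -/
noncomputable def equiv :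
    ((LinearMap.ker g →ₗ[R] N) ⧸ LinearMap.range (res g N)) ≃ₗ[R]
      Ext.{u} (ModuleCat.of R M) (ModuleCat.of R N) 1 :=
  (Submodule.quotEquivOfEq _ _ (ker_Phi g hg).symm).trans
    ((Phi g hg N).quotKerEquivOfSurjective (Phi_surjective g hg))

end Groth.Agent.Lib.Helper1.ExtOnePres
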