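import Groth.Agent.Lib.Helper1.CotTGeneric
import Groth.Agent.Lib.Helper1.ExtOnePres

/-!
# `T² ≅ Ext¹(I/I², B)` for reduced algebras of finite type over a perfect field (helper1)
-/

universe u v w t m

open TensorProduct CotT

namespace Groth.Agent.Lib.Helper1.CotTExt

open Groth.Agent.Lib.Helper1.CotTVanish Groth.Agent.Lib.Helper1.CotTComp
  Groth.Agent.Lib.Helper1.CotTHom Groth.Agent.Lib.Helper1.CotTCI Groth.Agent.Lib.Helper1.CotTSmooth
  Groth.Agent.Lib.Helper1.CotTLoc Groth.Agent.Lib.Helper1.CotTGeneric

section Reindex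
variable {A : Type u} {B : Type v} {ι : Type w} {σ : Type t} [CommRing A] [CommRing B] [Algebra A B]

/-- reindex the relations of a presentation, keeping the generators -/
noncomputable def reindexRel (P : Algebra.Presentation A B ι σ) {σ' : Type*} (f : σ' ≃ σ) :
    Algebra.Presentation A B ι σ' where
  toGenerators := P.toGenerators
  relation := P.relation ∘ f
  span_range_relation_eq_ker := by
    rw [Set.range_comp, f.range_eq_univ, Set.image_univ]
    exact P.span_range_relation_eq_ker

end Reindex

section Factor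
variable {A : Type u} {B : Type v} {ι : Type w} {σ : Type t} [CommRing A] [CommRing B] [Algebra A B]
variable (P : Algebra.Presentation A B ι σ)

/-- `d₂` with values in the kernel of `L₁ → I/I²` -/
noncomputable def d2' : L2 P →ₗ[B] LinearMap.ker (toCot P) :=
  (d2 P).codRestrict (LinearMap.ker (toCot P)) (fun z => by
    rw [LinearMap.mem_ker]
    exact LinearMap.congr_fun (toCot_comp_d2 P) z)

lemma d2'_surjective : Function.Surjective (d2' P) := by
  rintro ⟨x, hx⟩
  obtain ⟨z, rfl⟩ := Groth.Agent.Lib27.CotTL.ker_toCot_le_range_d2 P hx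
  exact ⟨z, rfl⟩

lemma ker_d2' : LinearMap.ker (d2' P) = LinearMap.ker (d2 P) := by
  ext z
  rw [LinearMap.mem_ker, LinearMap.mem_ker]
  constructor
  · intro h
    exact congrArg Subtype.val h
  · intro h
    exact Subtype.ext h

variable (M : Type m) [AddCommGroup M] [Module B M]

/-- precomposition with `d₂'` -/
noncomputable def preD2 : (LinearMap.ker (toCot P) →ₗ[B] M) →ₗ[B] (L2 P →ₗ[B] M) :=
  LinearMap.lcomp B M (d2' P)

lemma preD2_injective : Function.Injective (preD2 P M) := by
  intro φ φ' h
  apply LinearMap.ext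
  intro x
  obtain ⟨z, rfl⟩ := d2'_surjective P x
  exact LinearMap.congr_fun h z

lemma preD2_surjective (hkill : ∀ (ψ : L2 P →ₗ[B] M) (z : L2 P), d2 P z = 0 → ψ z = 0) :
    Function.Surjective (preD2 P M) := by
  intro ψ
  let s := Function.surjInv (d2'_surjective P)
  have hs : ∀ x, d2' P (s x) = x := Function.surjInv_eq _
  have key : ∀ z z', d2' P z = d2' P z' → ψ z = ψ z' := by
    intro z z' h
    have h1 : d2 P (z - z') = 0 := by
      rw [map_sub, sub_eq_zero]
      exact congrArg Subtype.val h
    have h2 := hkill ψ _ h1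
    rwa [map_sub, sub_eq_zero] at h2
  let φ : LinearMap.ker (toCot P) →ₗ[B] M :=
    { toFun := fun x => ψ (s x)
      map_add' := fun x y => by
        rw [← map_add]
        apply key
        rw [hs, map_add, hs, hs]
      map_smul' := fun c x => by
        rw [RingHom.id_apply, ← map_smul]
        apply key
        rw [hs, map_smul, hs] }
  exact ⟨φ, LinearMap.ext fun z => key _ _ (hs _)⟩

end Factor

section Main
variable {k : Type u} {B : Type u} [Field k] [PerfectField k] [CommRing B] [Algebra k B] [IsReduced B]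
  {ι : Type u} [Finite ι]

theorem nonempty_T2_equiv_ext_fin {n : ℕ} (P : Algebra.Presentation k B ι (Fin n)) :
    Nonempty (T2 P B ≃ₗ[B] CategoryTheory.Abelian.Ext.{u}
      (ModuleCat.of B P.toExtension.Cotangent) (ModuleCat.of B B) 1) := by
  have : Algebra.FiniteType k B := P.toGenerators.finiteType
  have hkill : ∀ (ψ : L2 P →ₗ[B] B) (z : L2 P), d2 P z = 0 → ψ z = 0 :=
    fun ψ z hz => apply_eq_zero_of_d2_eq_zero P ψ z hz
  let E : (LinearMap.ker (toCot P) →ₗ[B] B) ≃ₗ[B] (L2 P →ₗ[B] B) :=
    LinearEquiv.ofBijective (preD2 P B) ⟨preD2_injective P B, preD2_surjective P B hkill⟩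
  have hmap : (LinearMap.range (ExtOnePres.res (toCot P) B)).map E.toLinearMap =
      LinearMap.range (d2Star P B) := by
    rw [← LinearMap.range_comp]
    congr 1
  let e1 : ((LinearMap.ker (toCot P) →ₗ[B] B) ⧸ LinearMap.range (ExtOnePres.res (toCot P) B)) ≃ₗ[B]
      T2 P B := Submodule.Quotient.equiv _ _ E hmap
  have : Module.Free B (L1 P) := Module.Free.of_basis (L1basis P)
  let e2 := ExtOnePres.equiv (N := B) (toCot P) (Groth.Agent.Lib27.CotTL.toCot_surjective P)
  exact ⟨e1.symm.trans e2⟩

end Main

end Groth.Agent.Lib.Helper1.CotTExt
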