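import Groth.Agent.Lib.Helper1.CotTUnif

/-!
# Local tightness at smooth points (helper1)

* `exists_smul_mem_koszulSpan_of_crit`: local tightness from the conormal criterion at a prime
* `ker_localRingHom`: kernel of `R_𝔫 → B_𝔭` for a surjection `R → B`
* `exists_smul_mem_koszulSpan_of_smoothAt`
-/

universe u v w t m

open TensorProduct CotT

namespace Groth.Agent.Lib.Helper1.CotTGeneric

open Groth.Agent.Lib.Helper1.CotTVanish Groth.Agent.Lib.Helper1.CotTComp
  Groth.Agent.Lib.Helper1.CotTHom Groth.Agent.Lib.Helper1.CotTCI Groth.Agent.Lib.Helper1.CotTSmooth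
  Groth.Agent.Lib.Helper1.CotTLoc

section Crit
variable {R : Type u} [CommRing R] [IsRegularRing R] {n : ℕ}

/-- local tightness from the conormal criterion at a prime -/
theorem exists_smul_mem_koszulSpan_of_crit (a : Fin n → R) (𝔫 : Ideal R) [𝔫.IsPrime]
    (hle : Ideal.span (Set.range a) ≤ 𝔫)
    (hcrit : ∀ x' ∈ (Ideal.span (Set.range a)).map (algebraMap R (Localization.AtPrime 𝔫)),
      x' ∈ IsLocalRing.maximalIdeal (Localization.AtPrime 𝔫) ^ 2 →
      x' ∈ IsLocalRing.maximalIdeal (Localization.AtPrime 𝔫) *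
        (Ideal.span (Set.range a)).map (algebraMap R (Localization.AtPrime 𝔫)))
    (c : Fin n →₀ R) (hc : Finsupp.linearCombination R a c = 0)
    (hcI : ∀ i, c i ∈ Ideal.span (Set.range a)) :
    ∃ s ∉ 𝔫, s • c ∈ koszulSpan a := by
  classical
  have hreg : IsRegularLocalRing (Localization.AtPrime 𝔫) := inferInstance
  have hI'top : (Ideal.span (Set.range a)).map
      (algebraMap R (Localization.AtPrime 𝔫)) ≠ ⊤ := by
    intro htop
    have h1 := Ideal.map_mono (f := algebraMap R (Localization.AtPrime 𝔫)) hle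
    rw [htop, Localization.AtPrime.map_eq_maximalIdeal, top_le_iff] at h1
    exact (IsLocalRing.maximalIdeal.isMaximal _).ne_top h1
  obtain ⟨rs, hrs, hregfam⟩ := exists_regular_generators _ hI'top hcrit
  have hf' : Ideal.span (Set.range (fun i =>
      algebraMap R (Localization.AtPrime 𝔫) (a i))) =
      (Ideal.span (Set.range a)).map (algebraMap R (Localization.AtPrime 𝔫)) := by
    rw [Ideal.map_span, ← Set.range_comp]
    rfl
  have htight : IsTight (fun i => algebraMap R (Localization.AtPrime 𝔫) (a i)) :=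
    isTight_of_isRegFamily_generators _ _
      (hf'.trans (hrs.symm.trans (span_range_getElem rs).symm)) hregfam
  have hc' : Finsupp.mapRange (algebraMap R (Localization.AtPrime 𝔫))
      (map_zero _) c ∈ koszulSpan (fun i => algebraMap R (Localization.AtPrime 𝔫) (a i)) := by
    apply htight
    · rw [Finsupp.linearCombination_apply, Finsupp.sum_fintype _ _ (by simp)] at hc ⊢
      have h2 := congrArg (algebraMap R (Localization.AtPrime 𝔫)) hc
      rw [map_sum, map_zero] at h2
      refine Eq.trans ?_ h2
      refine Finset.sum_congr rfl fun i _ => ?_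
      rw [Finsupp.mapRange_apply, smul_eq_mul, smul_eq_mul, map_mul]
    · intro i
      rw [hf', Finsupp.mapRange_apply]
      exact Ideal.mem_map_of_mem _ (hcI i)
  obtain ⟨s, hs, hsc⟩ := exists_smul_mem_koszulSpan 𝔫.primeCompl (Localization.AtPrime 𝔫) a c hc'
  exact ⟨s, hs, hsc⟩

end Crit

section KerLoc
variable {R : Type u} {B : Type v} [CommRing R] [CommRing B] (f : R →+* B)
  (hf : Function.Surjective f) (𝔭 : Ideal B) [𝔭.IsPrime]

include hf in
lemma localRingHom_surjective :
    Function.Surjective (Localization.localRingHom (𝔭.comap f) 𝔭 f rfl) := by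
  intro z
  obtain ⟨b, s, rfl⟩ := IsLocalization.exists_mk'_eq 𝔭.primeCompl z
  obtain ⟨r, rfl⟩ := hf b
  obtain ⟨t, ht⟩ := hf s
  have htn : t ∈ (𝔭.comap f).primeCompl := by
    change t ∉ 𝔭.comap f
    rw [Ideal.mem_comap, ht]
    exact s.2
  refine ⟨IsLocalization.mk' _ r ⟨t, htn⟩, ?_⟩
  rw [Localization.localRingHom_mk']
  congr 1
  exact Subtype.ext ht

include hf in
lemma ker_localRingHom :
    RingHom.ker (Localization.localRingHom (𝔭.comap f) 𝔭 f rfl) =
      (RingHom.ker f).map (algebraMap R (Localization.AtPrime (𝔭.comap f))) := by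
  apply le_antisymm
  · intro z hz
    obtain ⟨r, t, rfl⟩ := IsLocalization.exists_mk'_eq (𝔭.comap f).primeCompl z
    rw [RingHom.mem_ker, Localization.localRingHom_mk', IsLocalization.mk'_eq_zero_iff] at hz
    obtain ⟨u, hu⟩ := hz
    obtain ⟨v, hv⟩ := hf u
    have hvn : v ∈ (𝔭.comap f).primeCompl := by
      change v ∉ 𝔭.comap f
      rw [Ideal.mem_comap, hv]
      exact u.2
    have hvr : v * r ∈ RingHom.ker f := by
      rw [RingHom.mem_ker, map_mul, hv]
      exact hu
    have : IsLocalization.mk' (Localization.AtPrime (𝔭.comap f)) r t =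
        IsLocalization.mk' (Localization.AtPrime (𝔭.comap f)) (v * r) (⟨v, hvn⟩ * t) := by
      rw [IsLocalization.mk'_eq_iff_eq]
      simp only [Submonoid.coe_mul]
      ring_nf
    rw [this, IsLocalization.mk'_eq_mul_mk'_one]
    exact Ideal.mul_mem_right _ _ (Ideal.mem_map_of_mem _ hvr)
  · rw [Ideal.map_le_iff_le_comap]
    intro r hr
    rw [Ideal.mem_comap, RingHom.mem_ker, Localization.localRingHom_to_map,
      (RingHom.mem_ker).1 hr, map_zero]

end KerLoc

section SmoothAt
variable {k : Type u} {B : Type v} {ι : Type w} [CommRing k] [CommRing B] [Algebra k B]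

/-- at a prime where `B` is smooth over `k`, every relation with coefficients in the ideal is a Koszul
relation up to a multiplier outside the prime -/
theorem exists_smul_mem_koszulSpan_of_smoothAt {n : ℕ} (P : Algebra.Presentation k B ι (Fin n))
    [IsRegularRing P.toExtension.Ring] (𝔭 : Ideal B) [𝔭.IsPrime]
    [Algebra.FormallySmooth k (Localization.AtPrime 𝔭)]
    (c : Fin n →₀ P.toExtension.Ring) (hc : Finsupp.linearCombination P.toExtension.Ring (rel P) c = 0)
    (hcI : ∀ i, c i ∈ Ideal.span (Set.range (rel P))) :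
    ∃ s : P.toExtension.Ring, algebraMap P.toExtension.Ring B s ∉ 𝔭 ∧ s • c ∈ koszulSpan (rel P) := by
  classical
  set R := P.toExtension.Ring
  let f : R →+* B := algebraMap R B
  have hf : Function.Surjective f := P.toExtension.algebraMap_surjective
  have hker : RingHom.ker f = Ideal.span (Set.range (rel P)) :=
    P.span_range_relation_eq_ker.symm
  let 𝔫 : Ideal R := 𝔭.comap f
  let _ : Algebra (Localization.AtPrime 𝔫) (Localization.AtPrime 𝔭) :=
    (Localization.localRingHom 𝔫 𝔭 f rfl).toAlgebra
  have htower : IsScalarTower k (Localization.AtPrime 𝔫) (Localization.AtPrime 𝔭) := by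
    refine IsScalarTower.of_algebraMap_eq fun x => ?_
    change _ = Localization.localRingHom 𝔫 𝔭 f rfl (algebraMap k (Localization.AtPrime 𝔫) x)
    rw [IsScalarTower.algebraMap_apply k R (Localization.AtPrime 𝔫),
      Localization.localRingHom_to_map, IsScalarTower.algebraMap_apply k B (Localization.AtPrime 𝔭)]
    congr 1
    exact IsScalarTower.algebraMap_apply k R B x
  have hsm1 : Algebra.FormallySmooth R (Localization.AtPrime 𝔫) :=
    Algebra.FormallySmooth.of_isLocalization 𝔫.primeCompl
  have hsm2 : Algebra.FormallySmooth k (Localization.AtPrime 𝔫) :=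
    Algebra.FormallySmooth.comp k R (Localization.AtPrime 𝔫)
  have hsurj : Function.Surjective (algebraMap (Localization.AtPrime 𝔫) (Localization.AtPrime 𝔭)) :=
    localRingHom_surjective f hf 𝔭
  have hker' : RingHom.ker (algebraMap (Localization.AtPrime 𝔫) (Localization.AtPrime 𝔭)) =
      (Ideal.span (Set.range (rel P))).map (algebraMap R (Localization.AtPrime 𝔫)) := by
    rw [← hker]
    exact ker_localRingHom f hf 𝔭
  have hle : Ideal.span (Set.range (rel P)) ≤ 𝔫 := by
    rw [← hker]
    intro x hx
    change f x ∈ 𝔭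
    rw [(RingHom.mem_ker).1 hx]
    exact 𝔭.zero_mem
  have hkerle : RingHom.ker (algebraMap (Localization.AtPrime 𝔫) (Localization.AtPrime 𝔭)) ≤
      IsLocalRing.maximalIdeal (Localization.AtPrime 𝔫) := by
    rw [hker', ← Localization.AtPrime.map_eq_maximalIdeal]
    exact Ideal.map_mono hle
  obtain ⟨s, hs, hsc⟩ := exists_smul_mem_koszulSpan_of_crit (rel P) 𝔫 hle (fun x' hx' hx2 => by
    have h1 := mem_mul_ker_of_mem_sq (k := k) (R := Localization.AtPrime 𝔫)
      (B := Localization.AtPrime 𝔭) hsurj _ hkerle x' (hker' ▸ hx') hx2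
    rw [hker'] at h1
    exact h1) c hc hcI
  exact ⟨s, hs, hsc⟩

end SmoothAt

section Reduced
variable {k : Type u} {B : Type v} [Field k] [PerfectField k] [CommRing B] [Algebra k B]
  [Algebra.FiniteType k B] [IsReduced B]

/-- a reduced algebra of finite type over a perfect field is smooth at its minimal primes -/
lemma formallySmooth_atPrime_of_mem_minimalPrimes (𝔭 : Ideal B) [𝔭.IsPrime]
    (h𝔭 : 𝔭 ∈ minimalPrimes B) : Algebra.FormallySmooth k (Localization.AtPrime 𝔭) := by
  have : Ring.KrullDimLE 0 (Localization.AtPrime 𝔭) := .of_isLocalization _ h𝔭 _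
  let _ : Field (Localization.AtPrime 𝔭) := Ring.KrullDimLE.isField_of_isReduced.toField
  have h1 : Algebra.EssFiniteType B (Localization.AtPrime 𝔭) := .of_isLocalization _ 𝔭.primeCompl
  have h2 : Algebra.EssFiniteType k (Localization.AtPrime 𝔭) := .comp k B _
  exact Algebra.FormallySmooth.of_perfectField

variable {ι : Type w} [Finite ι]

/-- for a reduced algebra of finite type over a perfect field, every linear form on `L₂` kills the
kernel of `d₂` -/
theorem apply_eq_zero_of_d2_eq_zero {n : ℕ} (P : Algebra.Presentation k B ι (Fin n))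
    (ψ : L2 P →ₗ[B] B) (z : L2 P) (hz : d2 P z = 0) : ψ z = 0 := by
  classical
  have hR : IsRegularRing P.toExtension.Ring :=
    inferInstanceAs (IsRegularRing (MvPolynomial ι k))
  have hmem : ψ z ∈ sInf (minimalPrimes B) := by
    rw [Submodule.mem_sInf]
    intro (𝔭 : Ideal B) h𝔭
    have hp : Ideal.IsPrime 𝔭 := h𝔭.1.1
    have hsm := formallySmooth_atPrime_of_mem_minimalPrimes (k := k) 𝔭 h𝔭
    obtain ⟨q, rfl⟩ := kappa_surjective P z
    unfold kappa at hz
    rw [d2_mk_tmul] at hz
    have h1 := coeff_of_one_tmul_eq_zero P (q : relMod P) hz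
    obtain ⟨s, hs, hsq⟩ := exists_smul_mem_koszulSpan_of_smoothAt P 𝔭 (q : relMod P) q.2 (fun i => by
      have : Ideal.span (Set.range (rel P)) = P.ker := P.span_range_relation_eq_ker
      rw [this]
      exact h1 i)
    have h2 : kappa P (s • q) = 0 :=
      (kappa_eq_zero_iff P (s • q)).mpr (koszulSpan_le_trivRel P hsq)
    rw [kappa_smul] at h2
    have h3 : algebraMap P.toExtension.Ring B s * ψ (kappa P q) = 0 := by
      rw [← smul_eq_mul, ← map_smul, h2, map_zero]
    have h4 : algebraMap P.toExtension.Ring B s * ψ (kappa P q) ∈ 𝔭 := by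
      rw [h3]; exact 𝔭.zero_mem
    exact (hp.mem_or_mem h4).resolve_left hs
  have h0 : sInf (minimalPrimes B) = (⊥ : Ideal B) := by
    change sInf ((⊥ : Ideal B).minimalPrimes) = ⊥
    rw [Ideal.sInf_minimalPrimes]
    exact nilradical_eq_zero B
  rw [h0] at hmem
  exact hmem

end Reduced

end Groth.Agent.Lib.Helper1.CotTGeneric
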