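import Groth.Agent.Lib.Helper1.CotTSmooth
import Groth.Prelude.Def_Found

/-!
# `T²` of a localization vanishes (helper1)

* `locRel f s = C (f s) * X s - 1` and `mem_span_locRel_of_mul_mem` (it is a nonzerodivisor modulo the
  other relations).
* `locPres W C'` : the presentation of a localization `C' = W⁻¹C` over `C` with a variable and a relation
  for each element of `W`.
* `subsingleton_T2_locPres`, `subsingleton_T2_of_isLocalization`.
-/

universe u v w t m

open TensorProduct CotT

namespace Groth.Agent.Lib.Helper1.CotTLoc

open Groth.Agent.Lib.Helper1.CotTVanish Groth.Agent.Lib.Helper1.CotTComp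
  Groth.Agent.Lib.Helper1.CotTHom Groth.Agent.Lib.Helper1.CotTCI Groth.Agent.Lib.Helper1.CotTSmooth

section Poly
variable {Q : Type u} [CommRing Q]

lemma polynomial_eq_zero_of_mul_X_mul_C_sub_one (c : Q) (p : Polynomial Q)
    (h : p * (Polynomial.X * Polynomial.C c - 1) = 0) : p = 0 := by
  have h1 : p = Polynomial.X * (Polynomial.C c * p) := by
    have : p * (Polynomial.X * Polynomial.C c - 1) = Polynomial.X * (Polynomial.C c * p) - p := by
      ring
    rw [this, sub_eq_zero] at h
    exact h.symm
  ext n
  rw [Polynomial.coeff_zero]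
  induction n with
  | zero =>
    rw [h1, Polynomial.coeff_X_mul_zero]
  | succ n ih =>
    rw [h1, Polynomial.coeff_X_mul, Polynomial.coeff_C_mul, ih, mul_zero]

end Poly

section NZD
variable {A : Type u} [CommRing A] {S : Type v}

/-- the relation `f(s) y_s - 1` -/
noncomputable def locRel (f : S → A) (s : S) : MvPolynomial S A :=
  MvPolynomial.C (f s) * MvPolynomial.X s - 1

theorem mem_span_locRel_of_mul_mem (f : S → A) (T : Set S) (s₀ : S) (hs₀ : s₀ ∉ T)
    (x : MvPolynomial S A) (h : x * locRel f s₀ ∈ Ideal.span (locRel f '' T)) :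
    x ∈ Ideal.span (locRel f '' T) := by
  classical
  set J : Ideal (MvPolynomial S A) := Ideal.span (locRel f '' T)
  let mk : MvPolynomial S A →+* MvPolynomial S A ⧸ J := Ideal.Quotient.mk J
  let θ : MvPolynomial S A →ₐ[A] Polynomial (MvPolynomial S A ⧸ J) :=
    MvPolynomial.aeval (fun u => if u = s₀ then Polynomial.X * Polynomial.C (mk (MvPolynomial.X u))
      else Polynomial.C (mk (MvPolynomial.X u)))
  have hθC : ∀ a : A, θ (MvPolynomial.C a) = Polynomial.C (mk (MvPolynomial.C a)) := by
    intro a
    rw [← MvPolynomial.algebraMap_eq, AlgHom.commutes]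
    rfl
  have hθX0 : θ (MvPolynomial.X s₀) = Polynomial.X * Polynomial.C (mk (MvPolynomial.X s₀)) := by
    change MvPolynomial.aeval _ (MvPolynomial.X s₀) = _
    rw [MvPolynomial.aeval_X, if_pos rfl]
  have hθX : ∀ u, u ≠ s₀ → θ (MvPolynomial.X u) = Polynomial.C (mk (MvPolynomial.X u)) := by
    intro u hu
    change MvPolynomial.aeval _ (MvPolynomial.X u) = _
    rw [MvPolynomial.aeval_X, if_neg hu]
  have hθJ : ∀ z ∈ J, θ z = 0 := by
    intro z hz
    have hle : J ≤ RingHom.ker (θ : MvPolynomial S A →+* Polynomial (MvPolynomial S A ⧸ J)) := by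
      refine Ideal.span_le.mpr ?_
      rintro _ ⟨t, ht, rfl⟩
      have hts : t ≠ s₀ := fun h => hs₀ (h ▸ ht)
      rw [SetLike.mem_coe, RingHom.mem_ker]
      change θ (locRel f t) = 0
      unfold locRel
      rw [map_sub, map_mul, map_one, hθC, hθX t hts, ← Polynomial.C_mul, ← map_mul]
      have h0 : mk (MvPolynomial.C (f t) * MvPolynomial.X t) = 1 := by
        have : mk (locRel f t) = 0 :=
          Ideal.Quotient.eq_zero_iff_mem.mpr (Ideal.subset_span ⟨t, ht, rfl⟩)
        unfold locRel at this
        rw [map_sub, map_one, sub_eq_zero] at this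
        exact this
      rw [h0, Polynomial.C_1, sub_self]
    exact hle hz
  have hev : ∀ z : MvPolynomial S A, Polynomial.eval 1 (θ z) = mk z := by
    intro z
    induction z using MvPolynomial.induction_on with
    | C a => rw [hθC, Polynomial.eval_C]
    | add p q hp hq => rw [map_add, Polynomial.eval_add, hp, hq, map_add]
    | mul_X p u hp =>
      rw [map_mul, Polynomial.eval_mul, hp, map_mul]
      congr 1
      by_cases hu : u = s₀
      · rw [hu, hθX0, Polynomial.eval_mul, Polynomial.eval_X, Polynomial.eval_C, one_mul]
      · rw [hθX u hu, Polynomial.eval_C]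
  have h1 : θ x * θ (locRel f s₀) = 0 := by
    rw [← map_mul]
    exact hθJ _ h
  have h2 : θ (locRel f s₀) = Polynomial.X *
      Polynomial.C (mk (MvPolynomial.C (f s₀) * MvPolynomial.X s₀)) - 1 := by
    unfold locRel
    rw [map_sub, map_mul, map_one, hθC, hθX0, map_mul, Polynomial.C_mul]
    ring
  rw [h2] at h1
  have h3 := polynomial_eq_zero_of_mul_X_mul_C_sub_one _ _ h1
  have h4 : mk x = 0 := by rw [← hev, h3, Polynomial.eval_zero]
  exact Ideal.Quotient.eq_zero_iff_mem.mp h4

lemma isRegFamily_locRel (f : S → A) {n : ℕ} (s : Fin n → S) (hs : Function.Injective s) :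
    IsRegFamily (fun i => locRel f (s i)) := by
  intro k x hx
  have himg : (fun i => locRel f (s i)) '' {i | i < k} = locRel f '' (s '' {i | i < k}) := by
    rw [Set.image_image]
  rw [himg] at hx ⊢
  refine mem_span_locRel_of_mul_mem f _ (s k) ?_ x hx
  rintro ⟨i, hi, hik⟩
  have := hs hik
  rw [this] at hi
  exact absurd hi (lt_irrefl k)

end NZD

section LocPres
variable {C : Type u} [CommRing C] (W : Submonoid C) (C' : Type v) [CommRing C'] [Algebra C C']
  [IsLocalization W C']

lemma aeval_locVal_surjective :
    Function.Surjective (MvPolynomial.aeval (R := C)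
      (fun w : W => IsLocalization.mk' C' (1 : C) w)) := by
  intro z
  obtain ⟨c, w, rfl⟩ := IsLocalization.exists_mk'_eq W z
  refine ⟨MvPolynomial.C c * MvPolynomial.X w, ?_⟩
  rw [map_mul, MvPolynomial.aeval_C, MvPolynomial.aeval_X, ← IsLocalization.mk'_eq_mul_mk'_one]

/-- generators of a localization: one variable `y_w ↦ 1/w` for each `w ∈ W` -/
noncomputable def locGens : Algebra.Generators C C' W :=
  Algebra.Generators.ofSurjective (fun w : W => IsLocalization.mk' C' (1 : C) w)
    (aeval_locVal_surjective W C')

lemma aeval_locRel (w : W) :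
    MvPolynomial.aeval (R := C) (fun w : W => IsLocalization.mk' C' (1 : C) w)
      (locRel (fun w : W => (w : C)) w) = 0 := by
  unfold locRel
  rw [map_sub, map_mul, map_one, MvPolynomial.aeval_C, MvPolynomial.aeval_X, sub_eq_zero,
    IsLocalization.mk'_spec', map_one]

lemma ker_aeval_locVal :
    RingHom.ker (MvPolynomial.aeval (R := C) (fun w : W => IsLocalization.mk' C' (1 : C) w)) =
      Ideal.span (Set.range (locRel (fun w : W => (w : C)))) := by
  classical
  apply le_antisymm
  · intro x hx
    rw [RingHom.mem_ker] at hx
    set J : Ideal (MvPolynomial W C) := Ideal.span (Set.range (locRel (fun w : W => (w : C))))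
    let mk : MvPolynomial W C →+* MvPolynomial W C ⧸ J := Ideal.Quotient.mk J
    have hinv : ∀ w : W, mk (MvPolynomial.C (w : C)) * mk (MvPolynomial.X w) = 1 := by
      intro w
      have : mk (locRel (fun w : W => (w : C)) w) = 0 :=
        Ideal.Quotient.eq_zero_iff_mem.mpr (Ideal.subset_span ⟨w, rfl⟩)
      unfold locRel at this
      rw [map_sub, map_one, sub_eq_zero, map_mul] at this
      exact this
    let g : C →+* MvPolynomial W C ⧸ J := mk.comp MvPolynomial.C
    have hg : ∀ w : W, IsUnit (g w) := by
      intro w
      exact IsUnit.of_mul_eq_one _ (hinv w)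
    let ψ : C' →+* MvPolynomial W C ⧸ J := IsLocalization.lift hg
    have hψ : ∀ z : MvPolynomial W C,
        ψ (MvPolynomial.aeval (R := C) (fun w : W => IsLocalization.mk' C' (1 : C) w) z) = mk z := by
      intro z
      induction z using MvPolynomial.induction_on with
      | C a =>
        rw [MvPolynomial.aeval_C]
        exact IsLocalization.lift_eq hg a
      | add p q hp hq => rw [map_add, map_add, hp, hq, map_add]
      | mul_X p w hp =>
        rw [map_mul, map_mul, hp, map_mul, MvPolynomial.aeval_X]
        congr 1
        rw [IsLocalization.lift_mk'_spec]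
        change mk (MvPolynomial.C 1) = mk (MvPolynomial.C (w : C)) * mk (MvPolynomial.X w)
        rw [hinv, MvPolynomial.C_1, map_one]
    have h1 := hψ x
    rw [hx, map_zero] at h1
    exact Ideal.Quotient.eq_zero_iff_mem.mp h1.symm
  · rw [Ideal.span_le]
    rintro _ ⟨w, rfl⟩
    exact aeval_locRel W C' w

/-- the presentation of a localization `C' = W⁻¹C` over `C`: variables `y_w`, relations `w y_w - 1` -/
noncomputable def locPres : Algebra.Presentation C C' W W where
  toGenerators := locGens W C'
  relation w := locRel (fun w : W => (w : C)) w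
  span_range_relation_eq_ker := by
    rw [Algebra.Generators.ker_eq_ker_aeval_val]
    exact (ker_aeval_locVal W C').symm

lemma rel_locPres (w : W) : rel (locPres W C') w = locRel (fun w : W => (w : C)) w := rfl

end LocPres

section MapDomain
variable {A : Type u} {B : Type v} {ι : Type w} {σ : Type t}
variable [CommRing A] [CommRing B] [Algebra A B]
variable (P : Algebra.Presentation A B ι σ)

lemma mapDomain_koszulSpan_le_trivRel {n : ℕ} (s : Fin n → σ) (c : Fin n →₀ P.toExtension.Ring)
    (hc : c ∈ koszulSpan (fun i => rel P (s i))) :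
    Finsupp.mapDomain s c ∈ trivRel P := by
  unfold koszulSpan at hc
  induction hc using Submodule.span_induction with
  | mem y hy =>
    obtain ⟨i, j, rfl⟩ := hy
    rw [Finsupp.mapDomain_sub, Finsupp.mapDomain_smul, Finsupp.mapDomain_smul,
      Finsupp.mapDomain_single, Finsupp.mapDomain_single]
    refine Submodule.subset_span ⟨Finsupp.single (s i) 1, Finsupp.single (s j) 1, ?_⟩
    rw [jmap_single, jmap_single, one_mul, one_mul]
  | zero =>
    rw [Finsupp.mapDomain_zero]
    exact Submodule.zero_mem _
  | add x y _ _ hx hy =>
    rw [Finsupp.mapDomain_add]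
    exact Submodule.add_mem _ hx hy
  | smul r x _ hx =>
    rw [Finsupp.mapDomain_smul]
    exact Submodule.smul_mem _ _ hx

/-- if every finite injective subfamily of the relations is a regular family, then all relations among
the relations are trivial -/
theorem relKer_le_trivRel_of_forall_isRegFamily
    (h : ∀ (n : ℕ) (s : Fin n → σ), Function.Injective s → IsRegFamily (fun i => rel P (s i))) :
    relKer P ≤ trivRel P := by
  classical
  intro q hq
  let e := q.support.equivFin
  let s : Fin q.support.card → σ := fun i => (e.symm i : σ)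
  have hs : Function.Injective s := by
    intro i j hij
    exact e.symm.injective (Subtype.ext hij)
  let c : Fin q.support.card →₀ P.toExtension.Ring := Finsupp.comapDomain s q hs.injOn
  have hqc : Finsupp.mapDomain s c = q := by
    refine Finsupp.mapDomain_comapDomain s hs q ?_
    intro x hx
    exact ⟨e ⟨x, hx⟩, by simp [s]⟩
  have hlin : Finsupp.linearCombination P.toExtension.Ring (fun i => rel P (s i)) c = 0 := by
    have h1 : jmap P q = 0 := hq
    unfold jmap at h1
    rw [← hqc, Finsupp.linearCombination_mapDomain] at h1
    exact h1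
  have hk := mem_koszulSpan_of_isRegFamily _ (h _ s hs) c hlin
  rw [← hqc]
  exact mapDomain_koszulSpan_le_trivRel P s c hk

end MapDomain

section LocT2
variable {C : Type u} [CommRing C] (W : Submonoid C) (C' : Type v) [CommRing C'] [Algebra C C']
  [IsLocalization W C']

theorem relKer_locPres_le : relKer (locPres W C') ≤ trivRel (locPres W C') := by
  refine relKer_le_trivRel_of_forall_isRegFamily _ fun n s hs => ?_
  exact isRegFamily_locRel (fun w : W => (w : C)) s hs

theorem subsingleton_T2_locPres (M : Type m) [AddCommGroup M] [Module C' M] :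
    Subsingleton (T2 (locPres W C') M) := by
  have := subsingleton_L2_of_relKer_le _ (relKer_locPres_le W C')
  exact subsingleton_T2_of_subsingleton_L2 _ M

end LocT2

/-- `T²` of a localization vanishes (computed from any presentation) -/
theorem subsingleton_T2_of_isLocalization {C : Type u} [CommRing C] (W : Submonoid C) (C' : Type v)
    [CommRing C'] [Algebra C C'] [IsLocalization W C'] {ι : Type w} {σ : Type t}
    (P : Algebra.Presentation C C' ι σ) (M : Type m) [AddCommGroup M] [Module C' M] :
    Subsingleton (T2 P M) :=
  subsingleton_T2_of_subsingleton (locPres W C') P M (subsingleton_T2_locPres W C' M)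

section Final

/-- over an algebraically closed field, geometric regularity is regularity -/
theorem geomRegular_iff_of_isAlgClosed (k C : Type u) [Field k] [IsAlgClosed k] [CommRing C]
    [Algebra k C] : CAlg.IsGeometricallyRegular k C ↔ IsRegularRing C := by
  constructor
  · intro hG
    have h2 := hG k inferInstance
    exact IsRegularRing.of_ringEquiv (Algebra.TensorProduct.lid k C).toRingEquiv
  · intro hR k' _ _ hfin
    have hint : Algebra.IsIntegral k k' := Algebra.IsIntegral.of_finite k k'
    have hbij := IsAlgClosed.algebraMap_bijective_of_isIntegral (k := k) (K := k')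
    let e₀ : k ≃ₐ[k] k' := AlgEquiv.ofBijective (Algebra.ofId k k') hbij
    let e : TensorProduct k k' C ≃ₐ[k] C :=
      (Algebra.TensorProduct.congr e₀.symm (AlgEquiv.refl : C ≃ₐ[k] C)).trans
        (Algebra.TensorProduct.lid k C)
    exact IsRegularRing.of_ringEquiv e.symm.toRingEquiv

/-- `T²(B/k, M) = 0` for a finitely generated formally smooth algebra over a field -/
theorem subsingleton_T2_canon_of_formallySmooth (k B : Type u) [Field k] [CommRing B] [Algebra k B]
    [Algebra.FiniteType k B] [Algebra.FormallySmooth k B]
    (M : Type u) [AddCommGroup M] [Module B M] : Subsingleton (T2 (canon k B) M) := by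
  have hfp : Algebra.FinitePresentation k B :=
    Algebra.FinitePresentation.of_finiteType.mp inferInstance
  let P₀ := Algebra.Presentation.ofFinitePresentation k B
  have hR : IsRegularRing P₀.toExtension.Ring :=
    inferInstanceAs (IsRegularRing
      (MvPolynomial (Fin (Algebra.Presentation.ofFinitePresentationVars k B)) k))
  have h1 := subsingleton_T2_of_formallySmooth P₀ M
  exact subsingleton_T2_of_subsingleton P₀ (canon k B) M h1

end Final

end Groth.Agent.Lib.Helper1.CotTLoc
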