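import Groth.Agent.Lib.Helper1.CotTUnif

/-!
# Variable-to-variable morphisms of presentations and transfer of quasi-splittings (helper1)

* `IsVarRel P P'`: `P'` has the same variables and relations as `P`, over a square of rings.
* `varRelHom`: the morphism of presentations `x_i ↦ x_i`, `e_s ↦ e_s`.
* `quasiSplit_of_isVarRel`: a quasi-splitting `l ∘ d = c • id` of the conormal map of `P` gives one for `P'`.
-/

universe u v w t u' v' m

open TensorProduct CotT

namespace Groth.Agent.Lib.Helper1.CotTRigid

section VarRel

variable {A : Type u} {B : Type v} {ι : Type w} {σ : Type t}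
variable {A' : Type u'} {B' : Type v'}
variable [CommRing A] [CommRing B] [Algebra A B] [CommRing A'] [CommRing B'] [Algebra A' B']
variable [Algebra A A'] [Algebra B B'] [Algebra A B'] [IsScalarTower A A' B'] [IsScalarTower A B B']
variable (P : Algebra.Presentation A B ι σ) (P' : Algebra.Presentation A' B' ι σ)

/-- `P'` has the same variables and relations as `P`. -/
structure IsVarRel : Prop where
  val : ∀ i, P'.val i = algebraMap B B' (P.val i)
  rel : ∀ s, P'.relation s = MvPolynomial.map (algebraMap A A') (P.relation s)

variable {P P'} (H : IsVarRel P P')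

/-- variables to variables -/
noncomputable def varHom : Algebra.Generators.Hom P.toGenerators P'.toGenerators where
  val i := MvPolynomial.X i
  aeval_val i := by rw [MvPolynomial.aeval_X]; exact H.val i

lemma varHom_toRingHom (r : P.toExtension.Ring) :
    (varHom H).toExtensionHom.toRingHom r = MvPolynomial.map (algebraMap A A') r := by
  change MvPolynomial.aeval (fun i => (MvPolynomial.X i : MvPolynomial ι A')) r = _
  induction r using MvPolynomial.induction_on with
  | C a => rw [MvPolynomial.aeval_C, MvPolynomial.map_C,
      IsScalarTower.algebraMap_apply A A' (MvPolynomial ι A'), MvPolynomial.algebraMap_eq]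
  | add p q hp hq => rw [map_add, map_add, hp, hq]
  | mul_X p i hp => rw [map_mul, map_mul, hp, MvPolynomial.aeval_X, MvPolynomial.map_X]

/-- variables to variables, relations to relations -/
noncomputable def varRelHom : PresHom P P' where
  hom := varHom H
  relVal s := Finsupp.single s 1
  jmap_relVal s := by
    rw [jmap_single, one_mul, varHom_toRingHom]
    exact H.rel s

lemma varRelHom_ringHom (r : P.toExtension.Ring) :
    (varRelHom H).ringHom r = MvPolynomial.map (algebraMap A A') r := varHom_toRingHom H r

lemma varRelHom_L0map_basis (i : ι) :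
    (varRelHom H).L0map (P.cotangentSpaceBasis i) = P'.cotangentSpaceBasis i := by
  rw [PresHom.L0map_apply, Algebra.Generators.cotangentSpaceBasis_apply,
    Algebra.Generators.cotangentSpaceBasis_apply]
  refine (Algebra.Extension.CotangentSpace.map_tmul _ _ _).trans ?_
  rw [map_one]
  congr 2
  exact (varRelHom_ringHom H _).trans (MvPolynomial.map_X _ i)

lemma varRelHom_L1map_basis (s : σ) :
    (varRelHom H).L1map (L1basis P s) = L1basis P' s := by
  rw [L1basis_apply, L1basis_apply, PresHom.L1map_tmul, map_one, PresHom.relModMap_single, map_one,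
    one_smul]
  rfl

/-- a quasi-splitting of the conormal map of `P` gives one for `P'` -/
theorem quasiSplit_of_isVarRel (H : IsVarRel P P') (c : B) (l : L0 P →ₗ[B] P.toExtension.Cotangent)
    (hl : l ∘ₗ P.toExtension.cotangentComplex = c • LinearMap.id) :
    ∃ l' : L0 P' →ₗ[B'] P'.toExtension.Cotangent,
      l' ∘ₗ P'.toExtension.cotangentComplex = algebraMap B B' c • LinearMap.id := by
  set h := varRelHom H with hh
  let l' : L0 P' →ₗ[B'] P'.toExtension.Cotangent :=
    P'.cotangentSpaceBasis.constr B' (fun i => h.cotMap (l (P.cotangentSpaceBasis i)))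
  have key1 : ∀ y : L0 P, l' (h.L0map y) = h.cotMap (l y) := by
    have : (l'.comp h.L0map : L0 P →ₛₗ[(algebraMap B B' : B →+* B')] P'.toExtension.Cotangent) =
        h.cotMap.comp l := by
      apply P.cotangentSpaceBasis.ext
      intro i
      rw [LinearMap.comp_apply, LinearMap.comp_apply, varRelHom_L0map_basis, Module.Basis.constr_basis]
    intro y
    exact congrArg (fun f => f y) this
  have key2 : ∀ x : P.toExtension.Cotangent,
      l' (P'.toExtension.cotangentComplex (h.cotMap x)) = algebraMap B B' c • h.cotMap x := by
    intro x
    have hx : l (P.toExtension.cotangentComplex x) = c • x := congrArg (fun f => f x) hl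
    rw [PresHom.cotMap_apply, ← Algebra.Extension.CotangentSpace.map_cotangentComplex,
      ← PresHom.L0map_apply, key1, hx, LinearMap.map_smulₛₗ]
    rfl
  refine ⟨l', ?_⟩
  apply LinearMap.ext
  intro z
  obtain ⟨w, rfl⟩ := Groth.Agent.Lib27.CotTL.toCot_surjective P' z
  have : (l' ∘ₗ P'.toExtension.cotangentComplex) ∘ₗ toCot P' =
      (algebraMap B B' c • LinearMap.id) ∘ₗ toCot P' := by
    apply (L1basis P').ext
    intro s
    rw [LinearMap.comp_apply, LinearMap.comp_apply, LinearMap.comp_apply, LinearMap.smul_apply,
      LinearMap.id_apply, ← varRelHom_L1map_basis H s, PresHom.toCot_L1map, key2]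
  exact congrArg (fun f => f w) this

end VarRel

end Groth.Agent.Lib.Helper1.CotTRigid
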