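import Groth.Agent.Lib.Helper1.CotTRigidA

/-!
# Descending a quasi-splitting along a free base (helper1)

`P₀` a presentation of `B₀` over `k`, `Q` a presentation of `B'` over a `k`-algebra `C` with the same variables and
relations.  If the conormal map of `Q` has a quasi-splitting `l ∘ d = c • id` with `c ∈ C` and there is a `k`-linear
`μ : C → k` with `μ c = 1`, then the conormal map of `P₀` is split.
-/

universe u v w t

open TensorProduct CotT
open scoped Pointwise

namespace Groth.Agent.Lib.Helper1.CotTRigid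

section Coeff
variable {k : Type u} {C : Type v} {ι : Type w} [CommRing k] [CommRing C] [Algebra k C]
variable (μ : C →ₗ[k] k)

/-- apply `μ` coefficientwise -/
noncomputable def coeffMap : MvPolynomial ι C →ₗ[k] MvPolynomial ι k :=
  (AddMonoidAlgebra.coeffLinearEquiv k (S := k) (M := ι →₀ ℕ)).symm.toLinearMap ∘ₗ
    Finsupp.mapRange.linearMap μ ∘ₗ
    (AddMonoidAlgebra.coeffLinearEquiv k (S := C) (M := ι →₀ ℕ)).toLinearMap

lemma coeff_coeffMap (f : MvPolynomial ι C) (m : ι →₀ ℕ) :
    MvPolynomial.coeff m (coeffMap μ f) = μ (MvPolynomial.coeff m f) := rfl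

lemma coeffMap_map_mul (p : MvPolynomial ι k) (f : MvPolynomial ι C) :
    coeffMap μ (MvPolynomial.map (algebraMap k C) p * f) = p * coeffMap μ f := by
  classical
  ext m
  rw [coeff_coeffMap, MvPolynomial.coeff_mul, MvPolynomial.coeff_mul, map_sum]
  refine Finset.sum_congr rfl fun x _ => ?_
  rw [MvPolynomial.coeff_map, coeff_coeffMap, ← Algebra.smul_def, map_smul, smul_eq_mul]

lemma coeffMap_C (c : C) : coeffMap μ (MvPolynomial.C c : MvPolynomial ι C) = MvPolynomial.C (μ c) := by
  classical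
  ext m
  rw [coeff_coeffMap, MvPolynomial.coeff_C, MvPolynomial.coeff_C]
  split_ifs
  · rfl
  · exact map_zero μ

lemma coeffMap_C_mul_map (c : C) (g : MvPolynomial ι k) :
    coeffMap μ (MvPolynomial.C c * MvPolynomial.map (algebraMap k C) g) = μ c • g := by
  rw [mul_comm, coeffMap_map_mul, coeffMap_C, MvPolynomial.smul_eq_C_mul, mul_comm]

lemma coeffMap_mem_of_mem_span {S : Set (MvPolynomial ι k)} {J : Ideal (MvPolynomial ι k)}
    (hS : S ⊆ J) {f : MvPolynomial ι C}
    (hf : f ∈ Ideal.span (MvPolynomial.map (algebraMap k C) '' S)) : coeffMap μ f ∈ J := by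
  suffices h : ∀ r : MvPolynomial ι C, coeffMap μ (r * f) ∈ J by simpa using h 1
  induction hf using Submodule.span_induction with
  | mem x hx =>
    obtain ⟨p, hp, rfl⟩ := hx
    intro r
    rw [mul_comm, coeffMap_map_mul]
    exact J.mul_mem_right _ (hS hp)
  | zero => intro r; simp
  | add x y _ _ hx hy =>
    intro r
    rw [mul_add, map_add]
    exact J.add_mem (hx r) (hy r)
  | smul a x _ hx =>
    intro r
    rw [smul_eq_mul, ← mul_assoc]
    exact hx (r * a)

end Coeff

section Lambda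

variable {k C B₀ B' : Type u} {ι : Type w} {σ : Type t}
variable [CommRing k] [CommRing C] [CommRing B₀] [CommRing B'] [Algebra k C] [Algebra k B₀]
  [Algebra C B'] [Algebra B₀ B'] [Algebra k B'] [IsScalarTower k C B'] [IsScalarTower k B₀ B']
variable (P₀ : Algebra.Presentation k B₀ ι σ) (Q : Algebra.Presentation C B' ι σ)

/-- `coeffMap` between the polynomial rings of the two presentations -/
noncomputable def lam (μ : C →ₗ[k] k) : Q.toExtension.Ring →+ P₀.toExtension.Ring :=
  (coeffMap μ : MvPolynomial ι C →ₗ[k] MvPolynomial ι k).toAddMonoidHom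

variable {P₀ Q}

lemma lam_map_mul (H : IsVarRel P₀ Q) (μ : C →ₗ[k] k) (p : P₀.toExtension.Ring)
    (f : Q.toExtension.Ring) :
    lam P₀ Q μ ((varRelHom H).ringHom p * f) = p * lam P₀ Q μ f := by
  rw [varRelHom_ringHom]
  exact coeffMap_map_mul μ p f

lemma lam_C_mul (H : IsVarRel P₀ Q) (μ : C →ₗ[k] k) (c : C) (g : P₀.toExtension.Ring) :
    lam P₀ Q μ (algebraMap C Q.toExtension.Ring c * (varRelHom H).ringHom g) = μ c • g := by
  rw [varRelHom_ringHom]
  exact coeffMap_C_mul_map μ c g

omit [Algebra k B'] [IsScalarTower k C B'] [IsScalarTower k B₀ B'] in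
lemma range_relation_eq (H : IsVarRel P₀ Q) :
    Set.range Q.relation = MvPolynomial.map (algebraMap k C) '' Set.range P₀.relation := by
  rw [← Set.range_comp]
  congr 1
  funext s
  exact H.rel s

lemma lam_mem_ker (H : IsVarRel P₀ Q) (μ : C →ₗ[k] k) {f : Q.toExtension.Ring}
    (hf : f ∈ Q.toExtension.ker) : lam P₀ Q μ f ∈ P₀.toExtension.ker := by
  have h1 : f ∈ Ideal.span (Set.range Q.relation) := by
    rw [Q.span_range_relation_eq_ker]; exact hf
  rw [range_relation_eq H] at h1
  have h2 : Set.range P₀.relation ⊆ (P₀.ker : Set (MvPolynomial ι k)) := by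
    rintro _ ⟨s, rfl⟩
    exact P₀.relation_mem_ker s
  exact coeffMap_mem_of_mem_span μ h2 h1

lemma lam_mem_sq (H : IsVarRel P₀ Q) (μ : C →ₗ[k] k) {f : Q.toExtension.Ring}
    (hf : f ∈ Q.toExtension.ker ^ 2) : lam P₀ Q μ f ∈ P₀.toExtension.ker ^ 2 := by
  have h1 : f ∈ Ideal.span (Set.range Q.relation) * Ideal.span (Set.range Q.relation) := by
    rw [Q.span_range_relation_eq_ker, ← pow_two]; exact hf
  rw [Ideal.span_mul_span', range_relation_eq H, ← Set.image_mul] at h1
  have h2 : Set.range P₀.relation * Set.range P₀.relation ⊆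
      ((P₀.ker ^ 2 : Ideal (MvPolynomial ι k)) : Set (MvPolynomial ι k)) := by
    rintro _ ⟨_, ⟨s, rfl⟩, _, ⟨s', rfl⟩, rfl⟩
    change P₀.relation s * P₀.relation s' ∈ P₀.ker ^ 2
    rw [pow_two]
    exact Ideal.mul_mem_mul (P₀.relation_mem_ker s) (P₀.relation_mem_ker s')
  exact coeffMap_mem_of_mem_span μ h2 h1

/-- the map `I_Q/I_Q² → I₀/I₀²` induced by `μ` on coefficients -/
noncomputable def rho (H : IsVarRel P₀ Q) (μ : C →ₗ[k] k) (z : Q.toExtension.Cotangent) :
    P₀.toExtension.Cotangent :=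
  Algebra.Extension.Cotangent.mk
    ⟨lam P₀ Q μ (Function.surjInv Algebra.Extension.Cotangent.mk_surjective z : Q.toExtension.ker).1,
      lam_mem_ker H μ (Subtype.property _)⟩

lemma rho_mk (H : IsVarRel P₀ Q) (μ : C →ₗ[k] k) (f : Q.toExtension.ker) :
    rho H μ (Algebra.Extension.Cotangent.mk f) =
      Algebra.Extension.Cotangent.mk ⟨lam P₀ Q μ f.1, lam_mem_ker H μ f.2⟩ := by
  have hg : Algebra.Extension.Cotangent.mk
      (Function.surjInv Algebra.Extension.Cotangent.mk_surjective
        (Algebra.Extension.Cotangent.mk f) : Q.toExtension.ker) = Algebra.Extension.Cotangent.mk f :=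
    Function.surjInv_eq _ _
  rw [Algebra.Extension.Cotangent.mk_eq_mk_iff_sub_mem] at hg
  unfold rho
  rw [Algebra.Extension.Cotangent.mk_eq_mk_iff_sub_mem]
  change lam P₀ Q μ _ - lam P₀ Q μ _ ∈ _
  rw [← map_sub]
  exact lam_mem_sq H μ hg

lemma rho_add (H : IsVarRel P₀ Q) (μ : C →ₗ[k] k) (z z' : Q.toExtension.Cotangent) :
    rho H μ (z + z') = rho H μ z + rho H μ z' := by
  obtain ⟨f, rfl⟩ := Algebra.Extension.Cotangent.mk_surjective z
  obtain ⟨f', rfl⟩ := Algebra.Extension.Cotangent.mk_surjective z'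
  rw [← map_add, rho_mk, rho_mk, rho_mk, ← map_add]
  congr 1
  apply Subtype.ext
  change lam P₀ Q μ (f.1 + f'.1) = lam P₀ Q μ f.1 + lam P₀ Q μ f'.1
  rw [map_add]

lemma rho_smul (H : IsVarRel P₀ Q) (μ : C →ₗ[k] k) (b : B₀) (z : Q.toExtension.Cotangent) :
    rho H μ (algebraMap B₀ B' b • z) = b • rho H μ z := by
  obtain ⟨f, rfl⟩ := Algebra.Extension.Cotangent.mk_surjective z
  obtain ⟨p, rfl⟩ := P₀.toExtension.algebraMap_surjective b
  have h1 : algebraMap B₀ B' (algebraMap P₀.toExtension.Ring B₀ p) =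
      algebraMap Q.toExtension.Ring B' ((varRelHom H).ringHom p) :=
    ((varRelHom H).algebraMap_ringHom p).symm
  rw [h1, algebraMap_smul, ← map_smul, rho_mk, rho_mk, algebraMap_smul, ← map_smul]
  congr 1
  apply Subtype.ext
  change lam P₀ Q μ ((varRelHom H).ringHom p * f.1) = p * lam P₀ Q μ f.1
  exact lam_map_mul H μ p f.1

lemma rho_smul_cotMap (H : IsVarRel P₀ Q) (μ : C →ₗ[k] k) (c : C) (x : P₀.toExtension.Cotangent) :
    rho H μ (algebraMap C B' c • (varRelHom H).cotMap x) = μ c • x := by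
  obtain ⟨g, rfl⟩ := Algebra.Extension.Cotangent.mk_surjective x
  have h1 : algebraMap C B' c = algebraMap Q.toExtension.Ring B' (algebraMap C Q.toExtension.Ring c) :=
    IsScalarTower.algebraMap_apply C Q.toExtension.Ring B' c
  rw [PresHom.cotMap_apply, Algebra.Extension.Cotangent.map_mk, h1, algebraMap_smul, ← map_smul,
    rho_mk, ← algebraMap_smul P₀.toExtension.Ring (μ c), ← map_smul]
  congr 1
  apply Subtype.ext
  change lam P₀ Q μ (algebraMap C Q.toExtension.Ring c * (varRelHom H).ringHom g.1) =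
    algebraMap k P₀.toExtension.Ring (μ c) * g.1
  rw [lam_C_mul, Algebra.smul_def]

/-- a quasi-splitting over `C` descends to a splitting over `k` -/
theorem exists_split_of_quasiSplit (H : IsVarRel P₀ Q) (μ : C →ₗ[k] k) (c : C) (hμ : μ c = 1)
    (lQ : L0 Q →ₗ[B'] Q.toExtension.Cotangent)
    (hl : lQ ∘ₗ Q.toExtension.cotangentComplex = algebraMap C B' c • LinearMap.id) :
    ∃ l₀ : L0 P₀ →ₗ[B₀] P₀.toExtension.Cotangent,
      l₀ ∘ₗ P₀.toExtension.cotangentComplex = LinearMap.id := by
  let F : L0 P₀ →ₗ[B₀] P₀.toExtension.Cotangent :=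
    { toFun := fun y => rho H μ (lQ ((varRelHom H).L0map y))
      map_add' := fun y y' => by rw [map_add, map_add, rho_add]
      map_smul' := fun b y => by
        rw [LinearMap.map_smulₛₗ, map_smul, rho_smul, RingHom.id_apply] }
  refine ⟨F, LinearMap.ext fun x => ?_⟩
  change rho H μ (lQ ((varRelHom H).L0map (P₀.toExtension.cotangentComplex x))) = x
  rw [PresHom.L0map_apply, Algebra.Extension.CotangentSpace.map_cotangentComplex,
    ← PresHom.cotMap_apply]
  have hx : lQ (Q.toExtension.cotangentComplex ((varRelHom H).cotMap x)) =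
      algebraMap C B' c • (varRelHom H).cotMap x := congrArg (fun f => f ((varRelHom H).cotMap x)) hl
  rw [hx, rho_smul_cotMap, hμ, one_smul]

end Lambda

end Groth.Agent.Lib.Helper1.CotTRigid
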