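import Mathlib

/-!
# The Artinian quotients `A ⧸ (t^(m+1))` of a ring at a principal maximal ideal (helper1)
-/

universe u

namespace Groth.Agent.Lib.Helper1.CotTRigid

section Quot
variable {A : Type u} [CommRing A] (t : A) (ht : (Ideal.span {t}).IsMaximal) (m : ℕ)

include ht in
lemma span_pow_ne_top : Ideal.span {t ^ (m + 1)} ≠ ⊤ := by
  intro h
  rw [Ideal.span_singleton_eq_top, isUnit_pow_iff (Nat.succ_ne_zero m)] at h
  exact ht.ne_top (Ideal.span_singleton_eq_top.2 h)

include ht in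
lemma nontrivial_quot : Nontrivial (A ⧸ Ideal.span {t ^ (m + 1)}) :=
  Ideal.Quotient.nontrivial_iff.2 (span_pow_ne_top t ht m)

lemma isNilpotent_mk_of_mem {a : A} (ha : a ∈ Ideal.span {t}) :
    IsNilpotent (Ideal.Quotient.mk (Ideal.span {t ^ (m + 1)}) a) := by
  obtain ⟨b, rfl⟩ := Ideal.mem_span_singleton'.1 ha
  refine ⟨m + 1, ?_⟩
  rw [← map_pow, Ideal.Quotient.eq_zero_iff_mem, mul_pow]
  exact Ideal.mul_mem_left _ _ (Ideal.subset_span rfl)

include ht in
lemma isNilpotent_iff_not_isUnit (x : A ⧸ Ideal.span {t ^ (m + 1)}) : IsNilpotent x ↔ ¬ IsUnit x := by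
  have := nontrivial_quot t ht m
  constructor
  · exact fun h => h.not_isUnit
  · intro hx
    obtain ⟨a, rfl⟩ := Ideal.Quotient.mk_surjective x
    by_cases ha : a ∈ Ideal.span {t}
    · exact isNilpotent_mk_of_mem t m ha
    · exfalso
      apply hx
      obtain ⟨y, i, hi, hyi⟩ := ht.exists_inv ha
      have h1 : Ideal.Quotient.mk (Ideal.span {t ^ (m + 1)}) y * Ideal.Quotient.mk _ a =
          1 - Ideal.Quotient.mk _ i := by
        rw [← map_mul, ← map_one (Ideal.Quotient.mk (Ideal.span {t ^ (m + 1)})), ← map_sub]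
        congr 1
        rw [← hyi]; ring
      have h2 : IsUnit (Ideal.Quotient.mk (Ideal.span {t ^ (m + 1)}) y * Ideal.Quotient.mk _ a) := by
        rw [h1]
        exact (isNilpotent_mk_of_mem t m hi).isUnit_one_sub
      exact isUnit_of_mul_isUnit_right h2

include ht in
theorem krullDimLE_and_isLocalRing :
    Ring.KrullDimLE 0 (A ⧸ Ideal.span {t ^ (m + 1)}) ∧ IsLocalRing (A ⧸ Ideal.span {t ^ (m + 1)}) :=
  ((Ring.krullDimLE_zero_and_isLocalRing_tfae _).out 0 2 rfl rfl).2 (isNilpotent_iff_not_isUnit t ht m)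

include ht in
theorem isLocalRing_quot : IsLocalRing (A ⧸ Ideal.span {t ^ (m + 1)}) :=
  (krullDimLE_and_isLocalRing t ht m).2

include ht in
theorem isArtinianRing_quot [IsNoetherianRing A] : IsArtinianRing (A ⧸ Ideal.span {t ^ (m + 1)}) := by
  have := (krullDimLE_and_isLocalRing t ht m).1
  exact isArtinianRing_iff_krullDimLE_zero.2 this

include ht in
lemma mk_mem_maximalIdeal :
    letI := isLocalRing_quot t ht m
    Ideal.Quotient.mk (Ideal.span {t ^ (m + 1)}) t ∈
      IsLocalRing.maximalIdeal (A ⧸ Ideal.span {t ^ (m + 1)}) := by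
  letI := isLocalRing_quot t ht m
  rw [IsLocalRing.mem_maximalIdeal, mem_nonunits_iff, ← isNilpotent_iff_not_isUnit t ht m]
  exact isNilpotent_mk_of_mem t m (Ideal.subset_span rfl)

end Quot

section Res
variable {k : Type u} [Field k] [IsAlgClosed k] {A : Type u} [CommRing A] [Algebra k A]
  [Algebra.FiniteType k A] (t : A) (ht : (Ideal.span {t}).IsMaximal) (m : ℕ)

include ht in
/-- the augmentation `A ⧸ (t^(m+1)) → k` -/
theorem exists_res : ∃ res : (A ⧸ Ideal.span {t ^ (m + 1)}) →ₐ[k] k,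
    ∀ a : A, a - algebraMap k A (res (Ideal.Quotient.mk _ a)) ∈ Ideal.span {t} := by
  letI : Field (A ⧸ Ideal.span {t}) := Ideal.Quotient.field _
  have hft : Algebra.FiniteType k (A ⧸ Ideal.span {t}) :=
    Algebra.FiniteType.of_surjective (Ideal.Quotient.mkₐ k (Ideal.span {t}))
      (Ideal.Quotient.mkₐ_surjective k _)
  have hfin : Module.Finite k (A ⧸ Ideal.span {t}) := finite_of_finite_type_of_isJacobsonRing k _
  have hbij : Function.Bijective (algebraMap k (A ⧸ Ideal.span {t})) :=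
    IsAlgClosed.algebraMap_bijective_of_isIntegral
  let ε : k ≃ₐ[k] (A ⧸ Ideal.span {t}) := AlgEquiv.ofBijective (Algebra.ofId k _) hbij
  have hle : Ideal.span {t ^ (m + 1)} ≤ Ideal.span {t} := by
    rw [Ideal.span_singleton_le_iff_mem]
    exact Ideal.pow_mem_of_mem (Ideal.span {t}) (Ideal.mem_span_singleton_self t) (m + 1) (Nat.succ_pos m)
  refine ⟨(ε.symm : (A ⧸ Ideal.span {t}) →ₐ[k] k).comp (Ideal.Quotient.factorₐ k hle), fun a => ?_⟩
  rw [← Ideal.Quotient.eq_zero_iff_mem, map_sub, sub_eq_zero]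
  have h1 : algebraMap k (A ⧸ Ideal.span {t}) (ε.symm (Ideal.Quotient.mk (Ideal.span {t}) a)) =
      Ideal.Quotient.mk (Ideal.span {t}) a := ε.apply_symm_apply _
  exact h1.symm

end Res

section Misc
variable {k : Type u} [Field k] {A : Type u} [CommRing A] [IsDomain A] [Algebra k A]

lemma ne_zero_of_dim (hdim : ringKrullDim A = 1) (t : A) (ht : (Ideal.span {t}).IsMaximal) : t ≠ 0 := by
  have hnf : ¬ IsField A := by
    intro hf
    rw [ringKrullDim_eq_zero_of_isField hf] at hdim
    exact zero_ne_one hdim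
  have := Ideal.bot_lt_of_maximal (Ideal.span {t}) hnf
  intro h0
  rw [h0, Ideal.span_singleton_zero] at this
  exact lt_irrefl _ this

lemma mk_pow_ne_zero (t : A) (ht0 : t ≠ 0) (ht : (Ideal.span {t}).IsMaximal) (m n₀ : ℕ) (h : n₀ ≤ m) :
    Ideal.Quotient.mk (Ideal.span {t ^ (m + 1)}) (t ^ n₀) ≠ 0 := by
  rw [Ne, Ideal.Quotient.eq_zero_iff_mem, Ideal.mem_span_singleton]
  have hu : ¬ IsUnit t := fun hu => ht.ne_top (Ideal.span_singleton_eq_top.2 hu)
  rw [pow_dvd_pow_iff ht0 hu]
  omega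

/-- a `k`-linear functional with a prescribed value `1` at a nonzero vector -/
lemma exists_functional {V : Type u} [AddCommGroup V] [Module k V] (v : V) (hv : v ≠ 0) :
    ∃ μ : V →ₗ[k] k, μ v = 1 := by
  let f : k →ₗ[k] V := LinearMap.toSpanSingleton k V v
  have hf : LinearMap.ker f = ⊥ := by
    rw [LinearMap.ker_eq_bot]
    intro a b hab
    have : (a - b) • v = 0 := by
      rw [sub_smul, sub_eq_zero]; exact hab
    rcases smul_eq_zero.1 this with h | h
    · exact sub_eq_zero.1 h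
    · exact absurd h hv
  obtain ⟨g, hg⟩ := f.exists_leftInverse_of_injective hf
  refine ⟨g, ?_⟩
  have := congrArg (fun l => l 1) hg
  simpa [f] using this

end Misc

end Groth.Agent.Lib.Helper1.CotTRigid
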