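import Groth.Prelude.Def_Exal2
import Groth.Agent.Lib.Helper10.ExalLib

/-!
# Extensions of `B` by `M` through a surjection `R → B` (helper1)

Let `A → R → B` be ring maps with `R → B` surjective with kernel `I`, and `M` a `B`-module (also regarded as an `R`-module).
An `A`-extension `X` of `B` by `M` together with a lift `u : R →ₐ[A] X.E` of `R → B` determines the `R`-linear map
`δ : I → M` with `u x = incl (δ x)`; conversely every `R`-linear `δ : I → M` comes from the extension
`(R ⊕ M) ⧸ {(x, -δ x)}`, and `(X, u)` is determined by `δ` up to equivalence.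
-/

universe u

namespace Groth.Agent.Lib.Helper1.ExalGen

open Groth.Agent.Lib.Helper10.ExalLib

attribute [local instance] Exal.opModule Exal.isCentralScalar_opModule

section General

variable {A R B M : Type u} [CommRing A] [CommRing R] [CommRing B] [Algebra A R] [Algebra A B]
  [Algebra R B] [IsScalarTower A R B] [AddCommGroup M] [Module B M] [Module R M] [IsScalarTower R B M]

omit [CommRing A] [Algebra A R] [Algebra A B] [IsScalarTower A R B] in
lemma smul_eq_zero_of_mem_ker {x : R} (hx : x ∈ RingHom.ker (algebraMap R B)) (m : M) : x • m = 0 := by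
  rw [← algebraMap_smul B x m, (RingHom.mem_ker).1 hx, zero_smul]

/-- The ideal `{(x, -δ x) : x ∈ I}` of `R ⊕ M`. -/
def relIdeal (δ : RingHom.ker (algebraMap R B) →ₗ[R] M) : Ideal (TrivSqZeroExt R M) where
  carrier := {t | ∃ x : RingHom.ker (algebraMap R B),
    t = TrivSqZeroExt.inl (x : R) - TrivSqZeroExt.inr (δ x)}
  add_mem' := by
    rintro _ _ ⟨b, rfl⟩ ⟨b', rfl⟩
    refine ⟨b + b', ?_⟩
    rw [map_add, TrivSqZeroExt.inr_add, Submodule.coe_add, TrivSqZeroExt.inl_add]
    abel
  zero_mem' := ⟨0, by simp⟩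
  smul_mem' c t := by
    rintro ⟨b, rfl⟩
    refine ⟨c.fst • b, ?_⟩
    refine TrivSqZeroExt.ext ?_ ?_
    · simp
    · simp only [smul_eq_mul, TrivSqZeroExt.snd_mul, TrivSqZeroExt.fst_sub, TrivSqZeroExt.fst_inl,
        TrivSqZeroExt.fst_inr, sub_zero, TrivSqZeroExt.snd_sub, TrivSqZeroExt.snd_inl,
        TrivSqZeroExt.snd_inr, zero_sub, smul_neg, map_smul, Submodule.coe_smul]
      rw [op_smul_eq_smul, smul_eq_zero_of_mem_ker b.2, add_zero]

lemma mem_relIdeal (δ : RingHom.ker (algebraMap R B) →ₗ[R] M) (t : TrivSqZeroExt R M) :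
    t ∈ relIdeal δ ↔ ∃ x : RingHom.ker (algebraMap R B),
      t = TrivSqZeroExt.inl (x : R) - TrivSqZeroExt.inr (δ x) :=
  Iff.rfl

/-- the first projection as a ring homomorphism -/
def fstRingHom : TrivSqZeroExt R M →+* R where
  toFun := TrivSqZeroExt.fst
  map_one' := TrivSqZeroExt.fst_one
  map_mul' := TrivSqZeroExt.fst_mul
  map_zero' := TrivSqZeroExt.fst_zero
  map_add' := TrivSqZeroExt.fst_add

/-- The carrier of the extension attached to `δ`. -/
@[nolint unusedArguments]
def Carrier (_A' : Type u) (δ : RingHom.ker (algebraMap R B) →ₗ[R] M) : Type u :=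
  TrivSqZeroExt R M ⧸ relIdeal δ

instance (δ : RingHom.ker (algebraMap R B) →ₗ[R] M) : CommRing (Carrier A δ) :=
  inferInstanceAs (CommRing (TrivSqZeroExt R M ⧸ relIdeal δ))

/-- the quotient map -/
def mkC (A' : Type u) (δ : RingHom.ker (algebraMap R B) →ₗ[R] M) : TrivSqZeroExt R M →+* Carrier A' δ :=
  Ideal.Quotient.mk (relIdeal δ)

lemma mkC_surjective (δ : RingHom.ker (algebraMap R B) →ₗ[R] M) : Function.Surjective (mkC A δ) :=
  Ideal.Quotient.mk_surjective

lemma mkC_eq_zero_iff (δ : RingHom.ker (algebraMap R B) →ₗ[R] M) (t : TrivSqZeroExt R M) :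
    mkC A δ t = 0 ↔ t ∈ relIdeal δ :=
  Ideal.Quotient.eq_zero_iff_mem

noncomputable instance (δ : RingHom.ker (algebraMap R B) →ₗ[R] M) : Algebra A (Carrier A δ) :=
  (((mkC A δ).comp (TrivSqZeroExt.inlHom R M)).comp (algebraMap A R) : A →+* Carrier A δ).toAlgebra

lemma algebraMap_carrier (δ : RingHom.ker (algebraMap R B) →ₗ[R] M) (a : A) :
    algebraMap A (Carrier A δ) a = mkC A δ (TrivSqZeroExt.inl (algebraMap A R a)) := rfl

variable (A) in
/-- The projection of the extension attached to `δ`. -/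
noncomputable def extProj (δ : RingHom.ker (algebraMap R B) →ₗ[R] M) : Carrier A δ →ₐ[A] B :=
  { toRingHom := Ideal.Quotient.lift (relIdeal δ) ((algebraMap R B).comp fstRingHom) (by
      rintro t ⟨x, rfl⟩
      change algebraMap R B (TrivSqZeroExt.fst
        (TrivSqZeroExt.inl (x : R) - TrivSqZeroExt.inr (δ x) : TrivSqZeroExt R M)) = 0
      simp only [TrivSqZeroExt.fst_sub, TrivSqZeroExt.fst_inl, TrivSqZeroExt.fst_inr, sub_zero]
      exact x.2)
    commutes' := fun a => by
      change algebraMap R B (TrivSqZeroExt.fst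
        (TrivSqZeroExt.inl (algebraMap A R a) : TrivSqZeroExt R M)) = _
      rw [TrivSqZeroExt.fst_inl, ← IsScalarTower.algebraMap_apply] }

lemma extProj_mk (δ : RingHom.ker (algebraMap R B) →ₗ[R] M) (t : TrivSqZeroExt R M) :
    extProj A δ (mkC A δ t) = algebraMap R B t.fst := rfl

variable (A) in
/-- The extension `(R ⊕ M) ⧸ {(x, -δ x)}` of `B` by `M` attached to an `R`-linear map `δ : I → M`. -/
noncomputable def ext (hsurj : Function.Surjective (algebraMap R B))
    (δ : RingHom.ker (algebraMap R B) →ₗ[R] M) : Exal.Ext A B M where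
  E := Carrier A δ
  proj := extProj A δ
  incl := (mkC A δ).toAddMonoidHom.comp (TrivSqZeroExt.inrHom R M).toAddMonoidHom
  isExtension :=
    { proj_surjective := fun c => by
        obtain ⟨b, rfl⟩ := hsurj c
        exact ⟨mkC A δ (TrivSqZeroExt.inl b), by rw [extProj_mk, TrivSqZeroExt.fst_inl]⟩
      incl_injective := by
        rw [injective_iff_map_eq_zero]
        intro m hm
        change mkC A δ (TrivSqZeroExt.inr m) = 0 at hm
        rw [mkC_eq_zero_iff] at hm
        obtain ⟨b, hb⟩ := hm
        have h1 := congrArg TrivSqZeroExt.fst hb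
        have h2 := congrArg TrivSqZeroExt.snd hb
        simp at h1 h2
        have : b = 0 := Subtype.ext h1.symm
        rw [h2, this, map_zero, neg_zero]
      exact := fun x => by
        obtain ⟨t, rfl⟩ := mkC_surjective (A := A) δ x
        constructor
        · intro h
          have hb : t.fst ∈ RingHom.ker (algebraMap R B) := by
            rwa [extProj_mk] at h
          refine ⟨t.snd + δ ⟨t.fst, hb⟩, ?_⟩
          change mkC A δ (TrivSqZeroExt.inr _) = _
          rw [eq_comm, ← sub_eq_zero, ← map_sub, mkC_eq_zero_iff]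
          refine ⟨⟨t.fst, hb⟩, ?_⟩
          refine TrivSqZeroExt.ext ?_ ?_ <;> simp
        · rintro ⟨m, hm⟩
          rw [← hm]
          change extProj A δ (mkC A δ (TrivSqZeroExt.inr m)) = 0
          rw [extProj_mk, TrivSqZeroExt.fst_inr, map_zero]
      mul_incl := fun x z => by
        obtain ⟨t, rfl⟩ := mkC_surjective (A := A) δ x
        change mkC A δ t * mkC A δ (TrivSqZeroExt.inr z) = mkC A δ (TrivSqZeroExt.inr _)
        rw [← map_mul]
        congr 1
        refine TrivSqZeroExt.ext ?_ ?_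
        · simp
        · simp only [TrivSqZeroExt.snd_mul, TrivSqZeroExt.snd_inr, TrivSqZeroExt.fst_inr,
            MulOpposite.op_zero, zero_smul, add_zero]
          change _ = algebraMap R B t.fst • z
          rw [algebraMap_smul] }

lemma ext_incl (hsurj : Function.Surjective (algebraMap R B))
    (δ : RingHom.ker (algebraMap R B) →ₗ[R] M) (z : M) :
    (ext A hsurj δ).incl z = mkC A δ (TrivSqZeroExt.inr z) := rfl

lemma ext_proj (hsurj : Function.Surjective (algebraMap R B))
    (δ : RingHom.ker (algebraMap R B) →ₗ[R] M) (t : TrivSqZeroExt R M) :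
    (ext A hsurj δ).proj (mkC A δ t) = algebraMap R B t.fst := rfl

variable (A) in
/-- The canonical lift `R → (R ⊕ M) ⧸ {(x, -δ x)}`. -/
noncomputable def extLift (hsurj : Function.Surjective (algebraMap R B))
    (δ : RingHom.ker (algebraMap R B) →ₗ[R] M) : R →ₐ[A] (ext A hsurj δ).E :=
  { toRingHom := (mkC A δ).comp (TrivSqZeroExt.inlHom R M)
    commutes' := fun _ => rfl }

lemma extLift_apply (hsurj : Function.Surjective (algebraMap R B))
    (δ : RingHom.ker (algebraMap R B) →ₗ[R] M) (r : R) :
    extLift A hsurj δ r = mkC A δ (TrivSqZeroExt.inl r) := rfl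

lemma proj_extLift (hsurj : Function.Surjective (algebraMap R B))
    (δ : RingHom.ker (algebraMap R B) →ₗ[R] M) (r : R) :
    (ext A hsurj δ).proj (extLift A hsurj δ r) = algebraMap R B r := by
  rw [extLift_apply, ext_proj, TrivSqZeroExt.fst_inl]

lemma extLift_eq_incl (hsurj : Function.Surjective (algebraMap R B))
    (δ : RingHom.ker (algebraMap R B) →ₗ[R] M) (x : RingHom.ker (algebraMap R B)) :
    extLift A hsurj δ (x : R) = (ext A hsurj δ).incl (δ x) := by
  rw [extLift_apply, ext_incl]
  change mkC A δ (TrivSqZeroExt.inl (x : R)) = mkC A δ (TrivSqZeroExt.inr (δ x))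
  rw [← sub_eq_zero, ← map_sub, mkC_eq_zero_iff]
  exact ⟨x, rfl⟩

section Compare

variable (X : Exal.Ext A B M) (u : R →ₐ[A] X.E) (hu : ∀ r, X.proj (u r) = algebraMap R B r)

include hu in
/-- the ring map `R ⊕ M → X.E`, `(r, m) ↦ u r + incl m` -/
noncomputable def qHom : TrivSqZeroExt R M →+* X.E where
  toFun t := u t.fst + X.incl t.snd
  map_one' := by
    rw [TrivSqZeroExt.fst_one, TrivSqZeroExt.snd_one, map_one, map_zero, add_zero]
  map_zero' := by
    rw [TrivSqZeroExt.fst_zero, TrivSqZeroExt.snd_zero, map_zero, map_zero, add_zero]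
  map_add' s t := by
    rw [TrivSqZeroExt.fst_add, TrivSqZeroExt.snd_add, map_add, map_add]
    abel
  map_mul' s t := by
    rw [TrivSqZeroExt.fst_mul, TrivSqZeroExt.snd_mul, map_mul, map_add, op_smul_eq_smul]
    have h1 : u s.fst * X.incl t.snd = X.incl (s.fst • t.snd) := by
      rw [X.isExtension.mul_incl, hu, algebraMap_smul]
    have h2 : u t.fst * X.incl s.snd = X.incl (t.fst • s.snd) := by
      rw [X.isExtension.mul_incl, hu, algebraMap_smul]
    have h3 : X.incl s.snd * X.incl t.snd = 0 := incl_mul_incl X _ _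
    rw [← h1, ← h2]
    linear_combination (-1 : X.E) * h3

lemma qHom_apply (t : TrivSqZeroExt R M) : qHom X u hu t = u t.fst + X.incl t.snd := rfl

variable (δ : RingHom.ker (algebraMap R B) →ₗ[R] M)
  (hδ : ∀ x : RingHom.ker (algebraMap R B), u (x : R) = X.incl (δ x))

include hδ in
lemma qHom_eq_zero_iff (t : TrivSqZeroExt R M) : qHom X u hu t = 0 ↔ t ∈ relIdeal δ := by
  rw [qHom_apply, mem_relIdeal]
  constructor
  · intro h
    have h1 : algebraMap R B t.fst = 0 := by
      have := congrArg X.proj h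
      rwa [map_add, hu, proj_incl, add_zero, map_zero] at this
    have hmem : t.fst ∈ RingHom.ker (algebraMap R B) := h1
    refine ⟨⟨t.fst, hmem⟩, ?_⟩
    have h2 := hδ ⟨t.fst, hmem⟩
    rw [show ((⟨t.fst, hmem⟩ : RingHom.ker (algebraMap R B)) : R) = t.fst from rfl] at h2
    rw [h2, ← map_add] at h
    have h3 : δ ⟨t.fst, hmem⟩ + t.snd = 0 :=
      X.isExtension.incl_injective (by rw [h, map_zero])
    refine TrivSqZeroExt.ext ?_ ?_
    · simp
    · simp only [TrivSqZeroExt.snd_sub, TrivSqZeroExt.snd_inl, TrivSqZeroExt.snd_inr, zero_sub]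
      exact (neg_eq_of_add_eq_zero_right h3).symm ▸ rfl
  · rintro ⟨x, rfl⟩
    simp only [TrivSqZeroExt.fst_sub, TrivSqZeroExt.fst_inl, TrivSqZeroExt.fst_inr, sub_zero,
      TrivSqZeroExt.snd_sub, TrivSqZeroExt.snd_inl, TrivSqZeroExt.snd_inr, zero_sub, map_neg]
    rw [hδ x, add_neg_cancel]

lemma qHom_surjective (hsurj : Function.Surjective (algebraMap R B)) :
    Function.Surjective (qHom X u hu) := by
  intro e
  obtain ⟨r, hr⟩ := hsurj (X.proj e)
  have h0 : X.proj (e - u r) = 0 := by rw [map_sub, hu, hr, sub_self]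
  refine ⟨TrivSqZeroExt.inl r + TrivSqZeroExt.inr (X.kerLift _ h0), ?_⟩
  rw [qHom_apply]
  simp only [TrivSqZeroExt.fst_add, TrivSqZeroExt.fst_inl, TrivSqZeroExt.fst_inr, add_zero,
    TrivSqZeroExt.snd_add, TrivSqZeroExt.snd_inl, TrivSqZeroExt.snd_inr, zero_add]
  rw [X.incl_kerLift]
  abel

include hδ in
/-- the comparison map `(R ⊕ M) ⧸ {(x, -δ x)} → X.E` -/
noncomputable def cmpHom (hsurj : Function.Surjective (algebraMap R B)) :
    (ext A hsurj δ).E →ₐ[A] X.E :=
  { toRingHom := Ideal.Quotient.lift (relIdeal δ) (qHom X u hu)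
      (fun t ht => (qHom_eq_zero_iff X u hu δ hδ t).2 ht)
    commutes' := fun a => by
      change qHom X u hu (TrivSqZeroExt.inl (algebraMap A R a)) = _
      rw [qHom_apply, TrivSqZeroExt.fst_inl, TrivSqZeroExt.snd_inl, map_zero, add_zero,
        AlgHom.commutes] }

lemma cmpHom_mk (hsurj : Function.Surjective (algebraMap R B)) (t : TrivSqZeroExt R M) :
    cmpHom X u hu δ hδ hsurj (mkC A δ t) = qHom X u hu t := rfl

lemma cmpHom_bijective (hsurj : Function.Surjective (algebraMap R B)) :
    Function.Bijective (cmpHom X u hu δ hδ hsurj) := by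
  constructor
  · rw [injective_iff_map_eq_zero]
    intro x hx
    obtain ⟨t, rfl⟩ := mkC_surjective (A := A) δ x
    rw [cmpHom_mk, qHom_eq_zero_iff X u hu δ hδ] at hx
    exact (mkC_eq_zero_iff (A := A) δ t).2 hx
  · intro e
    obtain ⟨t, rfl⟩ := qHom_surjective X u hu hsurj e
    exact ⟨mkC A δ t, rfl⟩

/-- An extension with a lift `u` whose restriction to the kernel is `δ` is equivalent to the
standard extension attached to `δ`. -/
noncomputable def equivExt (hsurj : Function.Surjective (algebraMap R B)) :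
    (ext A hsurj δ).Equiv X where
  toAlgEquiv := AlgEquiv.ofBijective (cmpHom X u hu δ hδ hsurj) (cmpHom_bijective X u hu δ hδ hsurj)
  proj_apply := fun x => by
    obtain ⟨t, rfl⟩ := mkC_surjective (A := A) δ x
    change X.proj (qHom X u hu t) = algebraMap R B t.fst
    rw [qHom_apply, map_add, hu, proj_incl, add_zero]
  apply_incl := fun z => by
    change qHom X u hu (TrivSqZeroExt.inr z) = X.incl z
    rw [qHom_apply, TrivSqZeroExt.fst_inr, TrivSqZeroExt.snd_inr, map_zero, zero_add]

end Compare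

end General

end Groth.Agent.Lib.Helper1.ExalGen
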