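import Groth.Prelude.Def_Exal2
import Groth.Prelude.Def_CotT
import Groth.Agent.S12289
import Groth.Agent.Lib.Helper10.ExalLib
import Groth.Agent.Lib.Helper1.ExalGen

/-!
# Extensions of an algebra by a module and `T¹` (helper1)

For a presentation `P` of `B` over `A` with polynomial ring `R` and kernel `I`, the classes of
`A`-extensions of `B` by a `B`-module `M` are in bijection with `T¹(P, M)`:
an extension `X` with a lift `u : R → X.E` of `R → B` gives `δ = u|_I : I → M`, hence a `B`-linear map
`I/I² → M`, whose class in `T¹` does not depend on the lift.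
-/

universe u

open TensorProduct CotT

namespace Groth.Agent.Lib.Helper1.ExalT1

open Groth.Agent.Lib.Helper10.ExalLib

section Setup
variable {A B M : Type u} {ι σ : Type u} [CommRing A] [CommRing B] [Algebra A B]
  [AddCommGroup M] [Module B M]
variable (P : Algebra.Presentation A B ι σ)

/-- the `B`-linear map `I/I² → M` attached to a semilinear map `I → M` -/
noncomputable def barOf (δ : P.toExtension.ker → M) (hadd : ∀ x y, δ (x + y) = δ x + δ y)
    (hsmul : ∀ (r : P.toExtension.Ring) (x : P.toExtension.ker),
      δ (r • x) = algebraMap P.toExtension.Ring B r • δ x) :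
    P.toExtension.Cotangent →ₗ[B] M :=
  letI : Module P.toExtension.Ring M := Module.compHom M (algebraMap P.toExtension.Ring B)
  haveI : IsScalarTower P.toExtension.Ring B M := IsScalarTower.of_compHom P.toExtension.Ring B M
  (LinearMap.liftBaseChange B
    ({ toFun := δ, map_add' := hadd, map_smul' := hsmul } :
      P.toExtension.ker →ₗ[P.toExtension.Ring] M)) ∘ₗ
    P.toExtension.cotangentEquiv.symm.toLinearMap

lemma barOf_mk (δ : P.toExtension.ker → M) (hadd : ∀ x y, δ (x + y) = δ x + δ y)
    (hsmul : ∀ (r : P.toExtension.Ring) (x : P.toExtension.ker),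
      δ (r • x) = algebraMap P.toExtension.Ring B r • δ x) (x : P.toExtension.ker) :
    barOf P δ hadd hsmul (Algebra.Extension.Cotangent.mk x) = δ x := by
  letI : Module P.toExtension.Ring M := Module.compHom M (algebraMap P.toExtension.Ring B)
  haveI : IsScalarTower P.toExtension.Ring B M := IsScalarTower.of_compHom P.toExtension.Ring B M
  have h1 : P.toExtension.cotangentEquiv.symm (Algebra.Extension.Cotangent.mk x) =
      (1 : B) ⊗ₜ[P.toExtension.Ring] x := by
    rw [LinearEquiv.symm_apply_eq, Algebra.Extension.contangentEquiv_tmul, one_smul]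
  unfold barOf
  rw [LinearMap.comp_apply, LinearEquiv.coe_coe, h1, LinearMap.liftBaseChange_tmul, one_smul]
  rfl

/-- the `B`-linear map `L₀ = B ⊗ Ω_{R/A} → M` attached to an `A`-derivation `R → M` (given as a function) -/
noncomputable def psiOf (D : P.toExtension.Ring → M) (hadd : ∀ x y, D (x + y) = D x + D y)
    (hmul : ∀ x y, D (x * y) = algebraMap P.toExtension.Ring B x • D y +
      algebraMap P.toExtension.Ring B y • D x)
    (hA : ∀ a : A, D (algebraMap A P.toExtension.Ring a) = 0) :
    L0 P →ₗ[B] M :=
  letI : Module P.toExtension.Ring M := Module.compHom M (algebraMap P.toExtension.Ring B)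
  haveI : IsScalarTower P.toExtension.Ring B M := IsScalarTower.of_compHom P.toExtension.Ring B M
  letI : Module A M := Module.compHom M (algebraMap A B)
  haveI : IsScalarTower A B M := IsScalarTower.of_compHom A B M
  haveI : IsScalarTower A P.toExtension.Ring M := ⟨fun a r x => by
    change algebraMap P.toExtension.Ring B (a • r) • x = a • (algebraMap P.toExtension.Ring B r • x)
    rw [Algebra.smul_def, map_mul, ← IsScalarTower.algebraMap_apply, mul_smul, algebraMap_smul]⟩
  let D' : Derivation A P.toExtension.Ring M :=
    { toFun := D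
      map_add' := hadd
      map_smul' := fun a x => by
        rw [Algebra.smul_def, hmul, hA, smul_zero, add_zero, RingHom.id_apply,
          ← IsScalarTower.algebraMap_apply, algebraMap_smul]
      map_one_eq_zero' := by
        have := hA 1
        rwa [map_one] at this
      leibniz' := fun x y => by
        change D (x * y) = _
        rw [hmul]
        rfl }
  LinearMap.liftBaseChange B D'.liftKaehlerDifferential

lemma psiOf_tmul_D (D : P.toExtension.Ring → M) (hadd : ∀ x y, D (x + y) = D x + D y)
    (hmul : ∀ x y, D (x * y) = algebraMap P.toExtension.Ring B x • D y +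
      algebraMap P.toExtension.Ring B y • D x)
    (hA : ∀ a : A, D (algebraMap A P.toExtension.Ring a) = 0) (b : B) (r : P.toExtension.Ring) :
    psiOf P D hadd hmul hA (b ⊗ₜ KaehlerDifferential.D A P.toExtension.Ring r) = b • D r := by
  letI : Module P.toExtension.Ring M := Module.compHom M (algebraMap P.toExtension.Ring B)
  haveI : IsScalarTower P.toExtension.Ring B M := IsScalarTower.of_compHom P.toExtension.Ring B M
  unfold psiOf
  simp only [LinearMap.liftBaseChange_tmul, Derivation.liftKaehlerDifferential_comp_D]
  rfl

lemma psiOf_cotangentComplex_mk (D : P.toExtension.Ring → M) (hadd : ∀ x y, D (x + y) = D x + D y)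
    (hmul : ∀ x y, D (x * y) = algebraMap P.toExtension.Ring B x • D y +
      algebraMap P.toExtension.Ring B y • D x)
    (hA : ∀ a : A, D (algebraMap A P.toExtension.Ring a) = 0) (x : P.toExtension.ker) :
    psiOf P D hadd hmul hA (P.toExtension.cotangentComplex (Algebra.Extension.Cotangent.mk x)) =
      D x := by
  rw [Algebra.Extension.cotangentComplex_mk, psiOf_tmul_D, one_smul]

/-- the derivation (as a function) attached to a linear map `L₀ → M` -/
noncomputable def derOf (ψ : L0 P →ₗ[B] M) (r : P.toExtension.Ring) : M :=
  ψ ((1 : B) ⊗ₜ KaehlerDifferential.D A P.toExtension.Ring r)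

lemma derOf_add (ψ : L0 P →ₗ[B] M) (x y : P.toExtension.Ring) :
    derOf P ψ (x + y) = derOf P ψ x + derOf P ψ y := by
  unfold derOf
  rw [map_add, TensorProduct.tmul_add, map_add]

lemma derOf_mul (ψ : L0 P →ₗ[B] M) (x y : P.toExtension.Ring) :
    derOf P ψ (x * y) = algebraMap P.toExtension.Ring B x • derOf P ψ y +
      algebraMap P.toExtension.Ring B y • derOf P ψ x := by
  unfold derOf
  rw [Derivation.leibniz, TensorProduct.tmul_add, map_add, TensorProduct.tmul_smul,
    TensorProduct.tmul_smul, ← algebraMap_smul B x, ← algebraMap_smul B y, map_smul, map_smul]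

lemma derOf_algebraMap (ψ : L0 P →ₗ[B] M) (a : A) :
    derOf P ψ (algebraMap A P.toExtension.Ring a) = 0 := by
  unfold derOf
  rw [Derivation.map_algebraMap, TensorProduct.tmul_zero, map_zero]

lemma derOf_cotangentComplex_mk (ψ : L0 P →ₗ[B] M) (x : P.toExtension.ker) :
    ψ (P.toExtension.cotangentComplex (Algebra.Extension.Cotangent.mk x)) = derOf P ψ x := by
  rw [Algebra.Extension.cotangentComplex_mk]
  rfl

end Setup

section Lifts

variable {A B M : Type u} {ι σ : Type u} [CommRing A] [CommRing B] [Algebra A B]
  [AddCommGroup M] [Module B M]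
variable (P : Algebra.Presentation A B ι σ)

/-- a lift of `R → B` to the middle ring of an extension -/
structure LiftData (X : Exal.Ext A B M) where
  /-- the lift -/
  u : P.toExtension.Ring →ₐ[A] X.E
  hu : ∀ r, X.proj (u r) = algebraMap P.toExtension.Ring B r

/-- every extension has a lift, the polynomial ring being free -/
noncomputable def chosenLift (X : Exal.Ext A B M) : LiftData P X where
  u := (MvPolynomial.aeval (fun i => Function.surjInv X.isExtension.proj_surjective (P.val i)) :
    MvPolynomial ι A →ₐ[A] X.E)
  hu := by
    have h : X.proj.comp (MvPolynomial.aeval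
        (fun i => Function.surjInv X.isExtension.proj_surjective (P.val i)) :
        MvPolynomial ι A →ₐ[A] X.E) = (MvPolynomial.aeval P.val : MvPolynomial ι A →ₐ[A] B) := by
      apply MvPolynomial.algHom_ext
      intro i
      rw [AlgHom.comp_apply, MvPolynomial.aeval_X, MvPolynomial.aeval_X]
      exact Function.surjInv_eq X.isExtension.proj_surjective (P.val i)
    intro r
    rw [algebraMap_toExtension]
    exact DFunLike.congr_fun h r

variable {P}
variable {X : Exal.Ext A B M} (l : LiftData P X)

lemma LiftData.proj_u_ker (x : P.toExtension.ker) : X.proj (l.u (x : P.toExtension.Ring)) = 0 := by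
  rw [l.hu]
  exact x.2

/-- the restriction of a lift to the kernel, with values in `M` -/
noncomputable def deltaFun (x : P.toExtension.ker) : M :=
  X.kerLift (l.u (x : P.toExtension.Ring)) (l.proj_u_ker x)

lemma incl_deltaFun (x : P.toExtension.ker) :
    X.incl (deltaFun l x) = l.u (x : P.toExtension.Ring) :=
  X.incl_kerLift _ _

lemma deltaFun_add (x y : P.toExtension.ker) : deltaFun l (x + y) = deltaFun l x + deltaFun l y := by
  apply X.isExtension.incl_injective
  rw [map_add, incl_deltaFun, incl_deltaFun, incl_deltaFun, Submodule.coe_add, map_add]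

lemma deltaFun_smul (r : P.toExtension.Ring) (x : P.toExtension.ker) :
    deltaFun l (r • x) = algebraMap P.toExtension.Ring B r • deltaFun l x := by
  apply X.isExtension.incl_injective
  rw [incl_deltaFun, ← l.hu, ← X.isExtension.mul_incl, incl_deltaFun, Submodule.coe_smul, smul_eq_mul,
    map_mul]

/-- the `B`-linear map `I/I² → M` attached to an extension with a lift -/
noncomputable def deltaBar : P.toExtension.Cotangent →ₗ[B] M :=
  barOf P (deltaFun l) (deltaFun_add l) (deltaFun_smul l)

lemma deltaBar_mk (x : P.toExtension.ker) :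
    deltaBar l (Algebra.Extension.Cotangent.mk x) = deltaFun l x :=
  barOf_mk P _ _ _ x

end Lifts

section TwoLifts

variable {A B M : Type u} {ι σ : Type u} [CommRing A] [CommRing B] [Algebra A B]
  [AddCommGroup M] [Module B M]
variable {P : Algebra.Presentation A B ι σ}
variable {X : Exal.Ext A B M} (l l' : LiftData P X)

lemma proj_sub (r : P.toExtension.Ring) : X.proj (l.u r - l'.u r) = 0 := by
  rw [map_sub, l.hu, l'.hu, sub_self]

/-- the derivation by which two lifts differ -/
noncomputable def diffDer (r : P.toExtension.Ring) : M :=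
  X.kerLift (l.u r - l'.u r) (proj_sub l l' r)

lemma incl_diffDer (r : P.toExtension.Ring) : X.incl (diffDer l l' r) = l.u r - l'.u r :=
  X.incl_kerLift _ _

lemma diffDer_add (x y : P.toExtension.Ring) :
    diffDer l l' (x + y) = diffDer l l' x + diffDer l l' y := by
  apply X.isExtension.incl_injective
  rw [map_add, incl_diffDer, incl_diffDer, incl_diffDer, map_add, map_add]
  abel

lemma diffDer_mul (x y : P.toExtension.Ring) :
    diffDer l l' (x * y) = algebraMap P.toExtension.Ring B x • diffDer l l' y +
      algebraMap P.toExtension.Ring B y • diffDer l l' x := by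
  apply X.isExtension.incl_injective
  have h1 : X.incl (algebraMap P.toExtension.Ring B x • diffDer l l' y) =
      l.u x * X.incl (diffDer l l' y) := by
    rw [X.isExtension.mul_incl, l.hu]
  have h2 : X.incl (algebraMap P.toExtension.Ring B y • diffDer l l' x) =
      l'.u y * X.incl (diffDer l l' x) := by
    rw [X.isExtension.mul_incl, l'.hu]
  rw [map_add, h1, h2, incl_diffDer, incl_diffDer, incl_diffDer, map_mul, map_mul]
  ring

lemma diffDer_algebraMap (a : A) : diffDer l l' (algebraMap A P.toExtension.Ring a) = 0 := by
  apply X.isExtension.incl_injective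
  rw [incl_diffDer, AlgHom.commutes, AlgHom.commutes, sub_self, map_zero]

lemma deltaFun_sub (x : P.toExtension.ker) :
    deltaFun l x - deltaFun l' x = diffDer l l' (x : P.toExtension.Ring) := by
  apply X.isExtension.incl_injective
  rw [map_sub, incl_deltaFun, incl_deltaFun, incl_diffDer]

lemma deltaBar_sub :
    deltaBar l - deltaBar l' =
      (psiOf P (diffDer l l') (diffDer_add l l') (diffDer_mul l l') (diffDer_algebraMap l l')) ∘ₗ
        P.toExtension.cotangentComplex := by
  apply LinearMap.ext
  intro z
  obtain ⟨x, rfl⟩ := Algebra.Extension.Cotangent.mk_surjective z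
  rw [LinearMap.sub_apply, deltaBar_mk, deltaBar_mk, LinearMap.comp_apply, psiOf_cotangentComplex_mk,
    deltaFun_sub]

lemma homToT1_deltaBar_eq : homToT1 P M (deltaBar l) = homToT1 P M (deltaBar l') := by
  rw [← sub_eq_zero, ← map_sub, ← LinearMap.mem_ker, (Groth.Agent.S12289.result A B ι σ P M).2.1,
    deltaBar_sub]
  exact ⟨psiOf P (diffDer l l') (diffDer_add l l') (diffDer_mul l l') (diffDer_algebraMap l l'),
    LinearMap.lcomp_apply' _ _⟩

end TwoLifts

section Transport

variable {A B M : Type u} {ι σ : Type u} [CommRing A] [CommRing B] [Algebra A B]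
  [AddCommGroup M] [Module B M]
variable {P : Algebra.Presentation A B ι σ}
variable {X Y : Exal.Ext A B M}

/-- transport a lift along an equivalence of extensions -/
noncomputable def LiftData.map (l : LiftData P X) (e : X.Equiv Y) : LiftData P Y where
  u := e.toAlgEquiv.toAlgHom.comp l.u
  hu r := by
    change Y.proj (e.toAlgEquiv (l.u r)) = _
    rw [e.proj_apply, l.hu]

lemma LiftData.map_u (l : LiftData P X) (e : X.Equiv Y) (r : P.toExtension.Ring) :
    (l.map e).u r = e.toAlgEquiv (l.u r) := rfl

lemma deltaFun_map (l : LiftData P X) (e : X.Equiv Y) (x : P.toExtension.ker) :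
    deltaFun (l.map e) x = deltaFun l x := by
  apply Y.isExtension.incl_injective
  rw [incl_deltaFun, ← e.apply_incl, incl_deltaFun, LiftData.map_u]

lemma deltaBar_map (l : LiftData P X) (e : X.Equiv Y) : deltaBar (l.map e) = deltaBar l := by
  apply LinearMap.ext
  intro z
  obtain ⟨x, rfl⟩ := Algebra.Extension.Cotangent.mk_surjective z
  rw [deltaBar_mk, deltaBar_mk, deltaFun_map]

variable (P) in
/-- the class in `T¹` of an extension -/
noncomputable def cls (X : Exal.Ext A B M) : T1 P M := homToT1 P M (deltaBar (chosenLift P X))

lemma cls_eq (l : LiftData P X) : cls P X = homToT1 P M (deltaBar l) :=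
  homToT1_deltaBar_eq _ _

lemma cls_equiv (e : X.Equiv Y) : cls P X = cls P Y := by
  rw [cls_eq ((chosenLift P X).map e), deltaBar_map]
  rfl

/-- twist a lift by the derivation attached to a linear map `L₀ → M` -/
noncomputable def LiftData.twist (l : LiftData P Y) (ψ : L0 P →ₗ[B] M) : LiftData P Y where
  u :=
    { toFun := fun r => l.u r + Y.incl (derOf P ψ r)
      map_one' := by
        have h : derOf P ψ (1 : P.toExtension.Ring) = 0 := by
          have := derOf_algebraMap P ψ 1
          rwa [map_one] at this
        rw [h, map_zero, add_zero, map_one]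
      map_mul' := fun x y => by
        have h1 : Y.incl (algebraMap P.toExtension.Ring B x • derOf P ψ y) =
            l.u x * Y.incl (derOf P ψ y) := by
          rw [Y.isExtension.mul_incl, l.hu]
        have h2 : Y.incl (algebraMap P.toExtension.Ring B y • derOf P ψ x) =
            l.u y * Y.incl (derOf P ψ x) := by
          rw [Y.isExtension.mul_incl, l.hu]
        have h3 : Y.incl (derOf P ψ x) * Y.incl (derOf P ψ y) = 0 := incl_mul_incl Y _ _
        rw [derOf_mul, map_add, h1, h2, map_mul]
        linear_combination (-1 : Y.E) * h3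
      map_zero' := by
        have h : derOf P ψ (0 : P.toExtension.Ring) = 0 := by
          have := derOf_algebraMap P ψ 0
          rwa [map_zero] at this
        rw [h, map_zero, map_zero, add_zero]
      map_add' := fun x y => by
        rw [derOf_add, map_add, map_add]
        abel
      commutes' := fun a => by
        rw [derOf_algebraMap, map_zero, add_zero, AlgHom.commutes] }
  hu r := by
    change Y.proj (l.u r + Y.incl _) = _
    rw [map_add, l.hu, proj_incl, add_zero]

lemma LiftData.twist_u (l : LiftData P Y) (ψ : L0 P →ₗ[B] M) (r : P.toExtension.Ring) :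
    (l.twist ψ).u r = l.u r + Y.incl (derOf P ψ r) := rfl

lemma deltaFun_twist (l : LiftData P Y) (ψ : L0 P →ₗ[B] M) (x : P.toExtension.ker) :
    deltaFun (l.twist ψ) x = deltaFun l x + derOf P ψ (x : P.toExtension.Ring) := by
  apply Y.isExtension.incl_injective
  rw [incl_deltaFun, map_add, incl_deltaFun, LiftData.twist_u]

end Transport

section Main

variable {A B M : Type u} {ι σ : Type u} [CommRing A] [CommRing B] [Algebra A B]
  [AddCommGroup M] [Module B M]
variable (P : Algebra.Presentation A B ι σ)

lemma nonempty_equiv_of_cls_eq {X Y : Exal.Ext A B M} (h : cls P X = cls P Y) :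
    Nonempty (X.Equiv Y) := by
  have h1 : homToT1 P M (deltaBar (chosenLift P X) - deltaBar (chosenLift P Y)) = 0 := by
    rw [map_sub, sub_eq_zero]
    exact h
  rw [← LinearMap.mem_ker, (Groth.Agent.S12289.result A B ι σ P M).2.1] at h1
  obtain ⟨ψ, hψ⟩ := h1
  rw [LinearMap.lcomp_apply'] at hψ
  have key : ∀ x : P.toExtension.ker,
      deltaFun ((chosenLift P Y).twist ψ) x = deltaFun (chosenLift P X) x := by
    intro x
    have h2 := LinearMap.congr_fun hψ (Algebra.Extension.Cotangent.mk x)
    rw [LinearMap.comp_apply, derOf_cotangentComplex_mk, LinearMap.sub_apply, deltaBar_mk,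
      deltaBar_mk] at h2
    rw [deltaFun_twist, h2]
    abel
  letI : Module P.toExtension.Ring M := Module.compHom M (algebraMap P.toExtension.Ring B)
  haveI : IsScalarTower P.toExtension.Ring B M := IsScalarTower.of_compHom P.toExtension.Ring B M
  let δ : RingHom.ker (algebraMap P.toExtension.Ring B) →ₗ[P.toExtension.Ring] M :=
    { toFun := deltaFun (chosenLift P X)
      map_add' := deltaFun_add _
      map_smul' := fun r x => deltaFun_smul _ r x }
  have hs : Function.Surjective (algebraMap P.toExtension.Ring B) :=
    P.toExtension.algebraMap_surjective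
  have e1 := ExalGen.equivExt X (chosenLift P X).u (chosenLift P X).hu δ
    (fun x => (incl_deltaFun (chosenLift P X) x).symm) hs
  have e2 := ExalGen.equivExt Y ((chosenLift P Y).twist ψ).u ((chosenLift P Y).twist ψ).hu δ
    (fun x => by
      change _ = Y.incl (deltaFun (chosenLift P X) x)
      rw [← key x]
      exact (incl_deltaFun _ x).symm) hs
  exact ⟨e1.symm.trans e2⟩

lemma exists_cls_eq (φ : P.toExtension.Cotangent →ₗ[B] M) :
    ∃ X : Exal.Ext A B M, cls P X = homToT1 P M φ := by
  letI : Module P.toExtension.Ring M := Module.compHom M (algebraMap P.toExtension.Ring B)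
  haveI : IsScalarTower P.toExtension.Ring B M := IsScalarTower.of_compHom P.toExtension.Ring B M
  let δ : RingHom.ker (algebraMap P.toExtension.Ring B) →ₗ[P.toExtension.Ring] M :=
    { toFun := fun x => φ (Algebra.Extension.Cotangent.mk x)
      map_add' := fun x y => by rw [map_add, map_add]
      map_smul' := fun r x => by
        rw [map_smul, ← algebraMap_smul B r (Algebra.Extension.Cotangent.mk x), map_smul]
        rfl }
  have hs : Function.Surjective (algebraMap P.toExtension.Ring B) :=
    P.toExtension.algebraMap_surjective
  refine ⟨ExalGen.ext A hs δ, ?_⟩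
  let l : LiftData P (ExalGen.ext A hs δ) :=
    { u := ExalGen.extLift A hs δ
      hu := ExalGen.proj_extLift hs δ }
  rw [cls_eq l]
  congr 1
  apply LinearMap.ext
  intro z
  obtain ⟨x, rfl⟩ := Algebra.Extension.Cotangent.mk_surjective z
  rw [deltaBar_mk]
  apply (ExalGen.ext A hs δ).isExtension.incl_injective
  rw [incl_deltaFun]
  exact ExalGen.extLift_eq_incl hs δ x

attribute [local instance] Exal.opModule Exal.isCentralScalar_opModule in
lemma cls_trivial : cls P (Exal.Ext.trivial A B M) = 0 := by
  let l : LiftData P (Exal.Ext.trivial A B M) :=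
    { u :=
        { toRingHom := ((TrivSqZeroExt.inlHom B M).comp (algebraMap P.toExtension.Ring B) :
            P.toExtension.Ring →+* Exal.Ext.TrivCarrier A B M)
          commutes' := fun a => by
            change TrivSqZeroExt.inl (algebraMap P.toExtension.Ring B (algebraMap A _ a)) =
              TrivSqZeroExt.inl (algebraMap A B a)
            rw [← IsScalarTower.algebraMap_apply] }
      hu := fun r => rfl }
  rw [cls_eq l]
  have h0 : deltaBar l = 0 := by
    apply LinearMap.ext
    intro z
    obtain ⟨x, rfl⟩ := Algebra.Extension.Cotangent.mk_surjective z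
    rw [deltaBar_mk, LinearMap.zero_apply]
    apply (Exal.Ext.trivial A B M).isExtension.incl_injective
    rw [incl_deltaFun, map_zero]
    change TrivSqZeroExt.inl (algebraMap P.toExtension.Ring B x) = 0
    rw [show algebraMap P.toExtension.Ring B x = 0 from x.2, TrivSqZeroExt.inl_zero]
    rfl
  rw [h0, map_zero]

/-- Classes of extensions of `B` by `M` are in bijection with `T¹(P, M)`. -/
theorem exists_equiv_exalcom_T1 :
    ∃ e : Exal.Exalcom A B M ≃ T1 P M, e 0 = 0 := by
  let Φ : Exal.Exalcom A B M → T1 P M :=
    Quotient.lift (cls P) (fun X Y ⟨e⟩ => cls_equiv e)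
  have hinj : Function.Injective Φ := by
    intro a b hab
    induction a using Quotient.inductionOn with
    | _ X =>
      induction b using Quotient.inductionOn with
      | _ Y => exact Quotient.sound (nonempty_equiv_of_cls_eq P hab)
  have hsurj : Function.Surjective Φ := by
    intro t
    obtain ⟨φ, rfl⟩ := (Groth.Agent.S12289.result A B ι σ P M).2.2 t
    obtain ⟨X, hX⟩ := exists_cls_eq P φ
    exact ⟨Quotient.mk _ X, hX⟩
  refine ⟨Equiv.ofBijective Φ ⟨hinj, hsurj⟩, ?_⟩
  exact cls_trivial P

end Main

end Groth.Agent.Lib.Helper1.ExalT1
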