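import Groth.Agent.Lib.Helper1.AffDefTriv
import Groth.Agent.Lib.Helper1.CotTRigidC
import Groth.Agent.Lib.Helper1.ExalT1

/-!
# The infinitesimal neighbourhoods of the special fibre of a flat family as deformations (helper1)
-/

universe u

open TensorProduct CotT ArtFun

namespace Groth.Agent.Lib.Helper1.CotTRigid

open Groth.Agent.Lib.Helper1.AffDef

section Triv
variable {k : Type u} [Field k] (B₀ : Type u) [CommRing B₀] [Algebra k B₀]

attribute [local instance] Exal.opModule Exal.isCentralScalar_opModule in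
/-- the trivial extension is trivial -/
lemma isTrivial_trivial' : (Exal.Ext.trivial k B₀ B₀).IsTrivial :=
  ⟨{ toFun := fun r => (TrivSqZeroExt.inl r : TrivSqZeroExt B₀ B₀)
     map_one' := rfl
     map_mul' := fun c c' => TrivSqZeroExt.inl_mul B₀ c c'
     map_zero' := rfl
     map_add' := fun c c' => TrivSqZeroExt.inl_add B₀ c c'
     commutes' := fun _ => rfl }, fun _ => rfl⟩

/-- vanishing of `T¹(B₀/k, B₀)` makes every extension of `B₀` by `B₀` trivial -/
theorem isTrivial_of_subsingleton_T1 {ι σ : Type u} (P : Algebra.Presentation k B₀ ι σ)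
    (h : Subsingleton (T1 P B₀)) (E : Exal.Ext k B₀ B₀) : E.IsTrivial := by
  have h1 : ExalT1.cls P E = ExalT1.cls P (Exal.Ext.trivial k B₀ B₀) := Subsingleton.elim _ _
  obtain ⟨eq⟩ := ExalT1.nonempty_equiv_of_cls_eq P h1
  obtain ⟨s, hs⟩ := isTrivial_trivial' (k := k) B₀
  refine ⟨(eq.symm.toAlgEquiv : _ →ₐ[k] _).comp s, fun b => ?_⟩
  change E.proj (eq.symm.toAlgEquiv (s b)) = b
  rw [eq.symm.proj_apply, hs]

end Triv


section Def
variable {k : Type u} [Field k] {B₀ : Type u} [CommRing B₀] [Algebra k B₀]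
  {A B : Type u} [CommRing A] [CommRing B] [Algebra k A] [IsNoetherianRing A]
  (t : A) (ht : (Ideal.span {t}).IsMaximal) [Algebra A B] [Module.Flat A B] [Algebra k B]
  [IsScalarTower k A B] (m : ℕ)

/-- the Artinian base `A ⧸ (t^(m+1))` with a chosen augmentation -/
noncomputable abbrev artQuot (res : (A ⧸ Ideal.span {t ^ (m + 1)}) →ₐ[k] k) : Art k k where
  carrier := A ⧸ Ideal.span {t ^ (m + 1)}
  commRing := inferInstance
  algebra := inferInstance
  isLocalRing := isLocalRing_quot t ht m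
  isArtinianRing := isArtinianRing_quot t ht m
  res := res
  res_surjective := fun c => ⟨algebraMap k _ c, res.commutes c⟩

omit [IsNoetherianRing A] [Algebra k A] [Module.Flat A B] in
lemma exists_one_tmul (I : Ideal A) (x : (A ⧸ I) ⊗[A] B) : ∃ b : B, x = (1 : A ⧸ I) ⊗ₜ[A] b := by
  induction x using TensorProduct.induction_on with
  | zero => exact ⟨0, (TensorProduct.tmul_zero _ _).symm⟩
  | tmul c b =>
    obtain ⟨a, rfl⟩ := Ideal.Quotient.mk_surjective c
    refine ⟨a • b, ?_⟩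
    rw [TensorProduct.tmul_smul, TensorProduct.smul_tmul', Algebra.smul_def, mul_one]
    rfl
  | add x y hx hy =>
    obtain ⟨b, rfl⟩ := hx
    obtain ⟨b', rfl⟩ := hy
    exact ⟨b + b', (TensorProduct.tmul_add _ _ _).symm⟩

/-- the reduction `(A ⧸ (t^(m+1))) ⊗[A] B → B ⧸ tB` -/
noncomputable def redMap : (A ⧸ Ideal.span {t ^ (m + 1)}) ⊗[A] B →ₐ[A] B ⧸ Ideal.span {algebraMap A B t} :=
  Algebra.TensorProduct.lift
    (Ideal.Quotient.liftₐ (Ideal.span {t ^ (m + 1)}) (Algebra.ofId A (B ⧸ Ideal.span {algebraMap A B t}))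
      (fun a ha => by
        obtain ⟨y, rfl⟩ := Ideal.mem_span_singleton'.1 ha
        change algebraMap A (B ⧸ Ideal.span {algebraMap A B t}) (y * t ^ (m + 1)) = 0
        rw [IsScalarTower.algebraMap_apply A B (B ⧸ Ideal.span {algebraMap A B t}), Ideal.Quotient.algebraMap_eq,
          Ideal.Quotient.eq_zero_iff_mem, map_mul, map_pow, pow_succ, ← mul_assoc]
        exact Ideal.mul_mem_left _ _ (Ideal.subset_span rfl)))
    (Ideal.Quotient.mkₐ A (Ideal.span {algebraMap A B t}))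
    (fun _ _ => Commute.all _ _)


omit [IsNoetherianRing A] [Algebra k A] [Module.Flat A B] in
lemma redMap_tmul (a : A) (b : B) :
    redMap (B := B) t m (Ideal.Quotient.mk _ a ⊗ₜ[A] b) =
      Ideal.Quotient.mk _ (algebraMap A B a * b) := by
  unfold redMap
  rw [Algebra.TensorProduct.lift_tmul, map_mul]
  rfl

omit [IsNoetherianRing A] [Algebra k A] [Module.Flat A B] in
lemma redMap_one_tmul (b : B) :
    redMap (B := B) t m ((1 : A ⧸ Ideal.span {t ^ (m + 1)}) ⊗ₜ[A] b) = Ideal.Quotient.mk _ b := by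
  have := redMap_tmul (B := B) t m 1 b
  rwa [map_one, map_one, one_mul] at this

variable (e : (B ⧸ Ideal.span {algebraMap A B t}) ≃ₐ[k] B₀)

/-- the `m`-th infinitesimal neighbourhood of the special fibre as a deformation of `B₀` -/
noncomputable def algDefQuot (res : (A ⧸ Ideal.span {t ^ (m + 1)}) →ₐ[k] k)
    (hres : ∀ a : A, a - algebraMap k A (res (Ideal.Quotient.mk _ a)) ∈ Ideal.span {t}) :
    AlgDef B₀ (artQuot t ht m res) where
  B := (A ⧸ Ideal.span {t ^ (m + 1)}) ⊗[A] B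
  commRing := inferInstance
  algebra := (inferInstance : Algebra (A ⧸ Ideal.span {t ^ (m + 1)}) ((A ⧸ Ideal.span {t ^ (m + 1)}) ⊗[A] B))
  flat := (inferInstance : Module.Flat (A ⧸ Ideal.span {t ^ (m + 1)}) ((A ⧸ Ideal.span {t ^ (m + 1)}) ⊗[A] B))
  π := (e : (B ⧸ Ideal.span {algebraMap A B t}) →+* B₀).comp (redMap (B := B) t m : _ →+* _)
  comm := fun c => by
    obtain ⟨a, rfl⟩ := Ideal.Quotient.mk_surjective c
    change e (redMap (B := B) t m (algebraMap (A ⧸ Ideal.span {t ^ (m + 1)}) _ (Ideal.Quotient.mk _ a))) =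
      algebraMap k B₀ (res (Ideal.Quotient.mk _ a))
    rw [Algebra.TensorProduct.algebraMap_apply, Algebra.algebraMap_self, RingHom.id_apply, redMap_tmul, mul_one,
      ← e.commutes]
    congr 1
    rw [IsScalarTower.algebraMap_apply k B (B ⧸ Ideal.span {algebraMap A B t}), Ideal.Quotient.algebraMap_eq,
      Ideal.Quotient.eq, IsScalarTower.algebraMap_apply k A B, ← map_sub]
    obtain ⟨y, hy⟩ := Ideal.mem_span_singleton'.1 (hres a)
    rw [← hy, map_mul]
    exact Ideal.mul_mem_left _ _ (Ideal.subset_span rfl)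
  surj := fun b₀ => by
    obtain ⟨b, hb⟩ := Ideal.Quotient.mk_surjective (e.symm b₀)
    refine ⟨(1 : A ⧸ Ideal.span {t ^ (m + 1)}) ⊗ₜ[A] b, ?_⟩
    change e (redMap (B := B) t m _) = b₀
    rw [redMap_one_tmul, hb, AlgEquiv.apply_symm_apply]
  ker_le := fun x hx => by
    obtain ⟨b, rfl⟩ := exists_one_tmul (B := B) (Ideal.span {t ^ (m + 1)}) x
    have h1 : e (redMap (B := B) t m ((1 : A ⧸ Ideal.span {t ^ (m + 1)}) ⊗ₜ[A] b)) = 0 := hx
    rw [redMap_one_tmul, map_eq_zero_iff e e.injective, Ideal.Quotient.eq_zero_iff_mem] at h1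
    obtain ⟨b', rfl⟩ := Ideal.mem_span_singleton'.1 h1
    have h2 : (1 : A ⧸ Ideal.span {t ^ (m + 1)}) ⊗ₜ[A] (b' * algebraMap A B t) =
        algebraMap (A ⧸ Ideal.span {t ^ (m + 1)}) ((A ⧸ Ideal.span {t ^ (m + 1)}) ⊗[A] B)
          (Ideal.Quotient.mk _ t) * ((1 : A ⧸ Ideal.span {t ^ (m + 1)}) ⊗ₜ[A] b') := by
      rw [Algebra.TensorProduct.algebraMap_apply, Algebra.TensorProduct.tmul_mul_tmul, mul_one, one_mul,
        mul_comm, ← Algebra.smul_def, TensorProduct.tmul_smul, TensorProduct.smul_tmul', Algebra.smul_def,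
        mul_one]
      rfl
    rw [h2]
    exact Ideal.mul_mem_right _ _ (Ideal.mem_map_of_mem _ (mk_mem_maximalIdeal t ht m))


include ht e in
/-- rigidity: the `m`-th neighbourhood of the special fibre is the trivial deformation -/
theorem exists_algEquiv_of_rigid (hT : ∀ E : Exal.Ext k B₀ B₀, E.IsTrivial)
    (res : (A ⧸ Ideal.span {t ^ (m + 1)}) →ₐ[k] k)
    (hres : ∀ a : A, a - algebraMap k A (res (Ideal.Quotient.mk _ a)) ∈ Ideal.span {t}) :
    Nonempty (((A ⧸ Ideal.span {t ^ (m + 1)}) ⊗[k] B₀) ≃ₐ[A ⧸ Ideal.span {t ^ (m + 1)}]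
      ((A ⧸ Ideal.span {t ^ (m + 1)}) ⊗[A] B)) := by
  obtain ⟨s, hs1, hs2⟩ := AlgDef.hasSection_all hT (artQuot t ht m res) (algDefQuot t ht m e res hres)
  let s' : B₀ →+* (A ⧸ Ideal.span {t ^ (m + 1)}) ⊗[A] B := s
  let sA : B₀ →ₐ[k] (A ⧸ Ideal.span {t ^ (m + 1)}) ⊗[A] B :=
    { s' with
      commutes' := fun c => by
        refine (hs2 c).trans ?_
        exact (IsScalarTower.algebraMap_apply k (A ⧸ Ideal.span {t ^ (m + 1)})
          ((A ⧸ Ideal.span {t ^ (m + 1)}) ⊗[A] B) c).symm }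
  let Ψ₀ : (A ⧸ Ideal.span {t ^ (m + 1)}) ⊗[k] B₀ →ₐ[A ⧸ Ideal.span {t ^ (m + 1)}]
      (A ⧸ Ideal.span {t ^ (m + 1)}) ⊗[A] B :=
    Algebra.TensorProduct.lift (Algebra.ofId _ _) sA (fun _ _ => Commute.all _ _)
  let π' : (A ⧸ Ideal.span {t ^ (m + 1)}) ⊗[A] B →+* B₀ := (algDefQuot t ht m e res hres).π
  have hc : ∀ c : A ⧸ Ideal.span {t ^ (m + 1)},
      π' (algebraMap (A ⧸ Ideal.span {t ^ (m + 1)}) ((A ⧸ Ideal.span {t ^ (m + 1)}) ⊗[A] B) c) =
        algebraMap k B₀ (res c) := (algDefQuot t ht m e res hres).comm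
  have hs1' : ∀ b, π' (s' b) = b := hs1
  have hπ' : ∀ x : (A ⧸ Ideal.span {t ^ (m + 1)}) ⊗[k] B₀,
      π' (Ψ₀ x) = trivπ B₀ (artQuot t ht m res) x := by
    intro x
    induction x using TensorProduct.induction_on with
    | zero => rw [map_zero, map_zero, map_zero]
    | add x y hx hy => rw [map_add, map_add, map_add, hx, hy]
    | tmul c b₀ =>
      rw [trivπ_tmul, Algebra.TensorProduct.lift_tmul, map_mul]
      congr 1
      · exact hc c
      · exact hs1' b₀
  have hbij : Function.Bijective Ψ₀ := by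
    let Ψr : (trivModel B₀ (artQuot t ht m res)).B →+* (algDefQuot t ht m e res hres).B :=
      Ψ₀.toRingHom
    exact AlgDef.bijective_of_hom (trivModel B₀ (artQuot t ht m res)) (algDefQuot t ht m e res hres)
      Ψr (fun a => Ψ₀.commutes a) hπ'
  exact ⟨AlgEquiv.ofBijective Ψ₀ hbij⟩

end Def

end Groth.Agent.Lib.Helper1.CotTRigid
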