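import Groth.Agent.Lib.Helper1.CotTRigidB
import Groth.Agent.Lib.Helper1.CotTRigidD

/-!
# A rigid fibre of a family with a quasi-split conormal sequence is smooth (helper1)
-/

universe u

open TensorProduct CotT ArtFun

namespace Groth.Agent.Lib.Helper1.CotTRigid

open Groth.Agent.Lib.Helper1.CotTUnif Groth.Agent.Lib.Helper1.CotTHom

attribute [local instance] Algebra.TensorProduct.rightAlgebra

section S1
variable {A B : Type u} [CommRing A] [CommRing B] [Algebra A B] {ι σ : Type u}
  (P : Algebra.Presentation A B ι σ) (C : Type u) [CommRing C] [Algebra A C]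

/-- a quasi-splitting base changes -/
theorem quasiSplit_baseChange (c : B) (l : L0 P →ₗ[B] P.toExtension.Cotangent)
    (hl : l ∘ₗ P.toExtension.cotangentComplex = c • LinearMap.id) :
    ∃ l' : L0 (P.baseChange C) →ₗ[C ⊗[A] B] (P.baseChange C).toExtension.Cotangent,
      l' ∘ₗ (P.baseChange C).toExtension.cotangentComplex =
        algebraMap B (C ⊗[A] B) c • LinearMap.id := by
  have H' : IsVarRel P (P.baseChange C) := ⟨fun i => rfl, fun s => rfl⟩
  exact quasiSplit_of_isVarRel H' c l hl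

end S1

section S2
variable {C B' : Type u} [CommRing C] [CommRing B'] [Algebra C B'] {ι σ ι' σ' : Type u}

/-- a quasi-splitting for one presentation gives one for any other presentation of the same algebra -/
theorem quasiSplit_transfer (Q' : Algebra.Presentation C B' ι σ) (Q : Algebra.Presentation C B' ι' σ')
    (c : B') (l' : L0 Q' →ₗ[B'] Q'.toExtension.Cotangent)
    (hl' : l' ∘ₗ Q'.toExtension.cotangentComplex = c • LinearMap.id) :
    ∃ lQ : L0 Q →ₗ[B'] Q.toExtension.Cotangent,
      lQ ∘ₗ Q.toExtension.cotangentComplex = c • LinearMap.id := by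
  obtain ⟨h⟩ := exists_presHom Q' Q
  have hkill : ∀ x : T1 Q Q.toExtension.Cotangent, c • x = 0 := by
    intro x
    apply (T1pull_bijective h Q.toExtension.Cotangent).1
    rw [map_smul, map_zero]
    exact smul_T1_eq_zero_of_quasiSplit Q' c l' hl' _ _
  exact quasiSplit_of_smul_T1_eq_zero Q c hkill

end S2

section S3
variable {k C B₀ B' : Type u} [CommRing k] [CommRing C] [Algebra k C] [CommRing B₀] [Algebra k B₀]
  [CommRing B'] [Algebra C B'] [Algebra k B'] [IsScalarTower k C B'] {ι σ : Type u}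
  (P₀ : Algebra.Presentation k B₀ ι σ) (Ψ : C ⊗[k] B₀ ≃ₐ[C] B')

/-- a quasi-splitting over `C` for a trivial family descends to a splitting -/
theorem split_of_algEquiv (μ : C →ₗ[k] k) (c : C) (hμ : μ c = 1)
    (lQ : L0 ((P₀.baseChange C).ofAlgEquiv Ψ) →ₗ[B'] ((P₀.baseChange C).ofAlgEquiv Ψ).toExtension.Cotangent)
    (hlQ : lQ ∘ₗ ((P₀.baseChange C).ofAlgEquiv Ψ).toExtension.cotangentComplex =
      algebraMap C B' c • LinearMap.id) :
    ∃ l₀ : L0 P₀ →ₗ[B₀] P₀.toExtension.Cotangent,
      l₀ ∘ₗ P₀.toExtension.cotangentComplex = LinearMap.id := by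
  let sR : B₀ →+* B' :=
    (Ψ : _ →+* _).comp (Algebra.TensorProduct.includeRight : B₀ →ₐ[k] C ⊗[k] B₀).toRingHom
  letI algB₀ : Algebra B₀ B' := sR.toAlgebra
  haveI tow : IsScalarTower k B₀ B' := by
    refine IsScalarTower.of_algebraMap_eq fun a => ?_
    change _ = Ψ ((1 : C) ⊗ₜ[k] algebraMap k B₀ a)
    have h1 : (1 : C) ⊗ₜ[k] algebraMap k B₀ a = algebraMap C (C ⊗[k] B₀) (algebraMap k C a) := by
      rw [Algebra.TensorProduct.algebraMap_apply, Algebra.algebraMap_self, RingHom.id_apply,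
        Algebra.algebraMap_eq_smul_one, Algebra.algebraMap_eq_smul_one, TensorProduct.tmul_smul,
        TensorProduct.smul_tmul']
    rw [h1, Ψ.commutes]
    exact IsScalarTower.algebraMap_apply k C B' a
  have H : IsVarRel P₀ ((P₀.baseChange C).ofAlgEquiv Ψ) := ⟨fun i => rfl, fun s => rfl⟩
  exact exists_split_of_quasiSplit H μ c hμ lQ hlQ

end S3


section S4
variable {k A B C B₀ : Type u} [CommRing k] [CommRing A] [CommRing B] [CommRing C] [CommRing B₀]
  [Algebra k A] [Algebra A B] [Algebra A C] [Algebra k C] [IsScalarTower k A C] [Algebra k B₀]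
  {ι σ ι₀ σ₀ : Type u}

/-- the chain: base change, change of presentation, descent -/
theorem split_of_quasiSplit_of_algEquiv (P : Algebra.Presentation A B ι σ)
    (P₀ : Algebra.Presentation k B₀ ι₀ σ₀) (Ψ : C ⊗[k] B₀ ≃ₐ[C] C ⊗[A] B)
    (a : A) (μ : C →ₗ[k] k) (hμ : μ (algebraMap A C a) = 1)
    (l : L0 P →ₗ[B] P.toExtension.Cotangent)
    (hl : l ∘ₗ P.toExtension.cotangentComplex = algebraMap A B a • LinearMap.id) :
    ∃ l₀ : L0 P₀ →ₗ[B₀] P₀.toExtension.Cotangent,
      l₀ ∘ₗ P₀.toExtension.cotangentComplex = LinearMap.id := by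
  obtain ⟨l', hl'⟩ := quasiSplit_baseChange P C _ l hl
  have hc : algebraMap B (C ⊗[A] B) (algebraMap A B a) = algebraMap C (C ⊗[A] B) (algebraMap A C a) := by
    rw [← IsScalarTower.algebraMap_apply A B, IsScalarTower.algebraMap_apply A C]
  rw [hc] at hl'
  obtain ⟨lQ, hlQ⟩ := quasiSplit_transfer (P.baseChange C) ((P₀.baseChange C).ofAlgEquiv Ψ) _ l' hl'
  exact split_of_algEquiv P₀ Ψ μ _ hμ lQ hlQ

end S4

end Groth.Agent.Lib.Helper1.CotTRigid
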