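import Groth.Agent.Lib.Helper1.CotTRigidE

/-!
# A rigid fibre of a family with a quasi-split conormal sequence is smooth: assembly (helper1)
-/

universe u

open TensorProduct CotT ArtFun

namespace Groth.Agent.Lib.Helper1.CotTRigid

theorem formallySmooth_of_quasiSplit
    {k : Type u} [Field k] [IsAlgClosed k] (B₀ : Type u) [CommRing B₀] [Algebra k B₀]
    (hT : ∀ E : Exal.Ext k B₀ B₀, E.IsTrivial)
    (A B : Type u) [CommRing A] [CommRing B] [IsDomain A] [Algebra k A] [Algebra.FiniteType k A]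
    (hdim : ringKrullDim A = 1) (t : A) (ht : (Ideal.span {t}).IsMaximal)
    [Algebra A B] [Module.Flat A B] [Algebra k B] [IsScalarTower k A B]
    (e : (B ⧸ Ideal.span {algebraMap A B t}) ≃ₐ[k] B₀)
    {ι σ : Type u} (P : Algebra.Presentation A B ι σ) (n₀ : ℕ)
    (l : L0 P →ₗ[B] P.toExtension.Cotangent)
    (hl : l ∘ₗ P.toExtension.cotangentComplex = (algebraMap A B t) ^ n₀ • LinearMap.id) :
    Algebra.FormallySmooth k B₀ := by
  have hN : IsNoetherianRing A := Algebra.FiniteType.isNoetherianRing k A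
  obtain ⟨res, hres⟩ := exists_res (k := k) t ht n₀
  obtain ⟨Ψ⟩ := exists_algEquiv_of_rigid t ht n₀ e hT res hres
  have ht0 : t ≠ 0 := ne_zero_of_dim hdim t ht
  obtain ⟨μ, hμ⟩ := exists_functional (k := k) (Ideal.Quotient.mk (Ideal.span {t ^ (n₀ + 1)}) (t ^ n₀))
    (mk_pow_ne_zero t ht0 ht n₀ n₀ le_rfl)
  rw [← map_pow] at hl
  obtain ⟨l₀, hl₀⟩ := split_of_quasiSplit_of_algEquiv P (canon k B₀) Ψ (t ^ n₀) μ hμ l hl
  exact (Algebra.Extension.formallySmooth_iff_split_injection (canon k B₀).toExtension).mpr ⟨l₀, hl₀⟩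

end Groth.Agent.Lib.Helper1.CotTRigid
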