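import Groth.Agent.Lib.Helper1.CotTFinite

/-!
# Uniform annihilation of `T¹` by a power of `g` ⟺ `B_g` formally smooth (helper1)

* `smul_T1_eq_zero_of_quasiSplit`, `quasiSplit_of_smul_T1_eq_zero`
* `subsingleton_T1_of_away`: `T¹(B/A, N) = 0` for `N` a module over a formally smooth localization
* `formallySmooth_away_of_quasiSplit`, `quasiSplit_of_formallySmooth_away`
-/

universe u v w t m

open TensorProduct CotT

namespace Groth.Agent.Lib.Helper1.CotTUnif

open Groth.Agent.Lib.Helper1.CotTVanish Groth.Agent.Lib.Helper1.CotTComp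
  Groth.Agent.Lib.Helper1.CotTHom Groth.Agent.Lib.Helper1.CotTCI Groth.Agent.Lib.Helper1.CotTSmooth
  Groth.Agent.Lib.Helper1.CotTLoc

section Quasi
variable {A B : Type u} [CommRing A] [CommRing B] [Algebra A B] {ι σ : Type w}
  (P : Algebra.Presentation A B ι σ)

/-- a quasi-splitting `l ∘ d = c • id` of the conormal map forces `c • T¹ = 0` -/
lemma smul_T1_eq_zero_of_quasiSplit (c : B) (l : L0 P →ₗ[B] P.toExtension.Cotangent)
    (hl : l ∘ₗ P.toExtension.cotangentComplex = c • LinearMap.id)
    (M : Type m) [AddCommGroup M] [Module B M] (x : T1 P M) : c • x = 0 := by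
  obtain ⟨_, hker, hsurj⟩ := Groth.Agent.S12289.result A B ι σ P M
  obtain ⟨φ, rfl⟩ := hsurj x
  rw [← map_smul, ← LinearMap.mem_ker, hker]
  refine ⟨φ ∘ₗ l, ?_⟩
  rw [LinearMap.lcomp_apply', LinearMap.comp_assoc, hl]
  ext z
  simp

lemma quasiSplit_of_smul_T1_eq_zero (c : B)
    (h : ∀ x : T1 P P.toExtension.Cotangent, c • x = 0) :
    ∃ l : L0 P →ₗ[B] P.toExtension.Cotangent,
      l ∘ₗ P.toExtension.cotangentComplex = c • LinearMap.id := by
  obtain ⟨_, hker, _⟩ := Groth.Agent.S12289.result A B ι σ P P.toExtension.Cotangent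
  have h0 : homToT1 P P.toExtension.Cotangent (c • LinearMap.id) = 0 := by
    rw [map_smul]
    exact h _
  rw [← LinearMap.mem_ker, hker] at h0
  obtain ⟨l, hl⟩ := h0
  rw [LinearMap.lcomp_apply'] at hl
  exact ⟨l, hl⟩

end Quasi

section Away
variable {A B : Type u} [CommRing A] [CommRing B] [Algebra A B] {ι σ : Type w}
  (P : Algebra.Presentation A B ι σ)
variable (g : B) (C : Type u) [CommRing C] [Algebra B C] [Algebra A C] [IsScalarTower A B C]

/-- `T¹(B/A, N) = 0` for `N` a module over a formally smooth localization `C = B_g` -/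
theorem subsingleton_T1_of_away [IsLocalization.Away g C] [Algebra.FormallySmooth A C]
    (N : Type m) [AddCommGroup N] [Module C N] [Module B N] [IsScalarTower B C N] :
    Subsingleton (T1 P N) := by
  have h1 : Subsingleton (T1 (CotT.canon A C) N) :=
    subsingleton_T1_of_formallySmooth (CotT.canon A C) N
  have h2 : Subsingleton (T2 (locPres (Submonoid.powers g) C) N) :=
    subsingleton_T2_locPres _ _ _
  obtain ⟨a⟩ := exists_presHom P (CotT.canon A C)
  obtain ⟨b⟩ := exists_presHom (CotT.canon A C) (locPres (Submonoid.powers g) C)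
  obtain ⟨_, _, _, _, δ₀, δ₁, _, _, e3, _⟩ := nine_general a b N
  refine subsingleton_of_forall_eq 0 fun x => ?_
  have h0 : δ₁ x = 0 := Subsingleton.elim _ _
  obtain ⟨t, rfl⟩ := (e3 x).1 h0
  rw [Subsingleton.elim t 0, map_zero]

omit [Algebra A C] [IsScalarTower A B C] in
/-- if some `c` that is a unit in `C` kills `T¹(B/A, N)` for the `C`-module `N` then `T¹(B/A, N) = 0` -/
lemma subsingleton_T1_of_smul_eq_zero (c : B) (hc : IsUnit (algebraMap B C c))
    (N : Type m) [AddCommGroup N] [Module C N] [Module B N] [IsScalarTower B C N]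
    (h : ∀ x : T1 P N, c • x = 0) : Subsingleton (T1 P N) := by
  obtain ⟨u, hu⟩ := hc
  let e : N →ₗ[B] N := (LinearMap.lsmul C N ((u⁻¹ : Cˣ) : C)).restrictScalars B
  have he : ∀ y : N, c • e y = y := by
    intro y
    change c • (((u⁻¹ : Cˣ) : C) • y) = y
    rw [← algebraMap_smul C c, ← hu, smul_smul, Units.mul_inv, one_smul]
  refine subsingleton_of_forall_eq 0 fun x => ?_
  obtain ⟨φ, rfl⟩ := Submodule.Quotient.mk_surjective _ x
  have : φ = c • cocycles1Map P e φ := by
    apply Subtype.ext
    apply LinearMap.ext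
    intro y
    exact (he _).symm
  rw [this, Submodule.Quotient.mk_smul]
  exact h _

/-- a quasi-splitting by a power of `g` makes `B_g` formally smooth -/
theorem formallySmooth_away_of_quasiSplit [IsLocalization.Away g C] (n : ℕ) (l : L0 P →ₗ[B] P.toExtension.Cotangent)
    (hl : l ∘ₗ P.toExtension.cotangentComplex = g ^ n • LinearMap.id) :
    Algebra.FormallySmooth A C := by
  apply formallySmooth_of_subsingleton_T1 (CotT.canon A C)
  set N := (CotT.canon A C).toExtension.Cotangent
  let _ : Module B N := Module.compHom N (algebraMap B C)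
  have : IsScalarTower B C N := IsScalarTower.of_algebraMap_smul fun _ _ => rfl
  have : Algebra.FormallySmooth B C := Algebra.FormallySmooth.of_isLocalization (Submonoid.powers g)
  have h1 : Subsingleton (T1 (locPres (Submonoid.powers g) C) N) :=
    subsingleton_T1_of_formallySmooth (locPres (Submonoid.powers g) C) N
  have hunit : IsUnit (algebraMap B C (g ^ n)) := by
    rw [map_pow]
    exact (IsLocalization.Away.algebraMap_isUnit g).pow n
  have h2 : Subsingleton (T1 P N) :=
    subsingleton_T1_of_smul_eq_zero P C (g ^ n) hunit N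
      (smul_T1_eq_zero_of_quasiSplit P (g ^ n) l hl N)
  obtain ⟨a⟩ := exists_presHom P (CotT.canon A C)
  obtain ⟨b⟩ := exists_presHom (CotT.canon A C) (locPres (Submonoid.powers g) C)
  obtain ⟨_, _, ex1, _⟩ := nine_general a b N
  refine subsingleton_of_forall_eq 0 fun x => ?_
  have h0 : a.T1pull N x = 0 := Subsingleton.elim _ _
  obtain ⟨t, rfl⟩ := (ex1 x).1 h0
  rw [Subsingleton.elim t 0, map_zero]

end Away

section Converse
variable {A B : Type u} [CommRing A] [CommRing B] [Algebra A B] {ι σ : Type w} [Finite ι] [Finite σ]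
  (P : Algebra.Presentation A B ι σ) (g : B)

/-- if `B_g` is formally smooth over `A`, the conormal map of a finite presentation has a
quasi-splitting by a power of `g` -/
theorem quasiSplit_of_formallySmooth_away [Algebra.FormallySmooth A (Localization.Away g)] :
    ∃ (n : ℕ) (l : L0 P →ₗ[B] P.toExtension.Cotangent),
      l ∘ₗ P.toExtension.cotangentComplex = g ^ n • LinearMap.id := by
  classical
  let S : Submonoid B := Submonoid.powers g
  let N := LocalizedModule S P.toExtension.Cotangent
  let lam : P.toExtension.Cotangent →ₗ[B] N := LocalizedModule.mkLinearMap S P.toExtension.Cotangent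
  have hT : Subsingleton (T1 P N) := subsingleton_T1_of_away P g (Localization.Away g) N
  obtain ⟨_, hker, _⟩ := Groth.Agent.S12289.result A B ι σ P N
  have h0 : homToT1 P N lam = 0 := Subsingleton.elim _ _
  rw [← LinearMap.mem_ker, hker] at h0
  obtain ⟨ψ, hψ⟩ := h0
  rw [LinearMap.lcomp_apply'] at hψ
  have hsurj : ∀ i, ∃ (m : P.toExtension.Cotangent) (s : S),
      (s : B) • ψ (P.cotangentSpaceBasis i) = lam m := by
    intro i
    obtain ⟨⟨m, s⟩, h⟩ := IsLocalizedModule.surj S lam (ψ (P.cotangentSpaceBasis i))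
    exact ⟨m, s, h⟩
  choose m s hms using hsurj
  cases nonempty_fintype ι
  cases nonempty_fintype σ
  let sT : S := ∏ i, s i
  have hdiv : ∀ i, ∃ c : S, (sT : B) = (c : B) * (s i : B) := fun i => by
    obtain ⟨c, hc⟩ := Finset.dvd_prod_of_mem s (Finset.mem_univ i)
    refine ⟨c, ?_⟩
    change ((∏ i, s i : S) : B) = _
    rw [hc, Submonoid.coe_mul, mul_comm]
  choose c hc using hdiv
  let ψ' : L0 P →ₗ[B] P.toExtension.Cotangent :=
    P.cotangentSpaceBasis.constr B (fun i => (c i : B) • m i)
  have h1 : lam ∘ₗ ψ' = (sT : B) • ψ := by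
    apply P.cotangentSpaceBasis.ext
    intro i
    rw [LinearMap.comp_apply, Module.Basis.constr_basis, LinearMap.smul_apply, map_smul, ← hms i,
      smul_smul, ← hc i]
  let χ : P.toExtension.Cotangent →ₗ[B] P.toExtension.Cotangent :=
    ψ' ∘ₗ P.toExtension.cotangentComplex - (sT : B) • LinearMap.id
  have h2 : ∀ z, lam (χ z) = 0 := by
    intro z
    change lam (ψ' (P.toExtension.cotangentComplex z) - (sT : B) • z) = 0
    rw [map_sub, map_smul, ← LinearMap.comp_apply, h1, LinearMap.smul_apply, ← LinearMap.comp_apply,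
      hψ, sub_self]
  have h3 : ∀ j : σ, ∃ r : S, (r : B) • χ (toCot P (L1basis P j)) = 0 := fun j =>
    (IsLocalizedModule.eq_zero_iff S lam).1 (h2 _)
  choose r hr using h3
  let rT : S := ∏ j, r j
  have hrT : ∀ j, (rT : B) • χ (toCot P (L1basis P j)) = 0 := by
    intro j
    obtain ⟨d, hd⟩ := Finset.dvd_prod_of_mem r (Finset.mem_univ j)
    have : (rT : B) = (d : B) * (r j : B) := by
      change ((∏ j, r j : S) : B) = _
      rw [hd, Submonoid.coe_mul, mul_comm]
    rw [this, mul_smul, hr, smul_zero]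
  have h4 : ((rT : B) • χ) ∘ₗ toCot P = 0 := by
    apply (L1basis P).ext
    intro j
    rw [LinearMap.comp_apply, LinearMap.smul_apply, hrT, LinearMap.zero_apply]
  have h5 : (rT : B) • χ = 0 := by
    apply LinearMap.ext
    intro z
    obtain ⟨y, rfl⟩ := Groth.Agent.Lib27.CotTL.toCot_surjective P z
    exact LinearMap.congr_fun h4 y
  obtain ⟨n, hn⟩ := (rT * sT).2
  refine ⟨n, (rT : B) • ψ', ?_⟩
  have hn' : g ^ n = (rT : B) * (sT : B) := hn
  have h6 : (rT : B) • χ = ((rT : B) • ψ') ∘ₗ P.toExtension.cotangentComplex -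
      ((rT : B) * (sT : B)) • LinearMap.id := by
    change (rT : B) • (ψ' ∘ₗ P.toExtension.cotangentComplex - (sT : B) • LinearMap.id) = _
    rw [smul_sub, LinearMap.smul_comp, smul_smul]
  rw [h6, sub_eq_zero] at h5
  rw [h5, hn']

end Converse

end Groth.Agent.Lib.Helper1.CotTUnif
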