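import Groth.Agent.Lib.Helper1.CotTHom

/-!
# Vanishing of cotangent modules for special presentations (helper1)
-/

universe u v w t w' t' m

open TensorProduct CotT

namespace Groth.Agent.Lib.Helper1.CotTVanish

open Groth.Agent.Lib.Helper1.CotTHom

section Transfer
variable {A : Type u} {B : Type v} {ι : Type w} {σ : Type t} {ι' : Type w'} {σ' : Type t'}
variable [CommRing A] [CommRing B] [Algebra A B]
variable (P : Algebra.Presentation A B ι σ) (P' : Algebra.Presentation A B ι' σ')
variable (M : Type m) [AddCommGroup M] [Module B M]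

/-- `T⁰` of two presentations of the same algebra are in bijection. -/
lemma nonempty_equiv_T0 : Nonempty (T0 P' M ≃ T0 P M) := by
  obtain ⟨h⟩ := exists_presHom P P'
  exact ⟨Equiv.ofBijective _ (T0pull_bijective h M)⟩

lemma nonempty_equiv_T1 : Nonempty (T1 P' M ≃ T1 P M) := by
  obtain ⟨h⟩ := exists_presHom P P'
  exact ⟨Equiv.ofBijective _ (T1pull_bijective h M)⟩

lemma nonempty_equiv_T2 : Nonempty (T2 P' M ≃ T2 P M) := by
  obtain ⟨h⟩ := exists_presHom P P'
  exact ⟨Equiv.ofBijective _ (T2pull_bijective h M)⟩

lemma subsingleton_T1_of_subsingleton (hP : Subsingleton (T1 P M)) : Subsingleton (T1 P' M) := by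
  obtain ⟨e⟩ := nonempty_equiv_T1 P P' M
  exact e.subsingleton

lemma subsingleton_T2_of_subsingleton (hP : Subsingleton (T2 P M)) : Subsingleton (T2 P' M) := by
  obtain ⟨e⟩ := nonempty_equiv_T2 P P' M
  exact e.subsingleton

end Transfer

section Empty
variable {A : Type u} {B : Type v} {ι : Type w} {σ : Type t}
variable [CommRing A] [CommRing B] [Algebra A B]
variable (P : Algebra.Presentation A B ι σ)
variable (M : Type m) [AddCommGroup M] [Module B M]

lemma subsingleton_tensor_of_subsingleton {R : Type*} [CommSemiring R] {X Y : Type*}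
    [AddCommMonoid X] [Module R X] [AddCommMonoid Y] [Module R Y] [Subsingleton Y] : Subsingleton (X ⊗[R] Y) := by
  refine ⟨fun a b => ?_⟩
  have h0 : ∀ z : X ⊗[R] Y, z = 0 := by
    intro z
    induction z using TensorProduct.induction_on with
    | zero => rfl
    | tmul x y => rw [Subsingleton.elim y 0, TensorProduct.tmul_zero]
    | add x y hx hy => rw [hx, hy, add_zero]
  rw [h0 a, h0 b]

lemma subsingleton_L1_of_isEmpty [IsEmpty σ] : Subsingleton (L1 P) :=
  subsingleton_tensor_of_subsingleton

lemma subsingleton_L2_of_subsingleton_relKer [Subsingleton (relKer P)] : Subsingleton (L2 P) := by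
  have : Subsingleton (B ⊗[P.toExtension.Ring] (relKer P)) := subsingleton_tensor_of_subsingleton
  exact Quotient.instSubsingletonQuotient _

lemma subsingleton_T1_of_subsingleton_L1 [Subsingleton (L1 P)] : Subsingleton (T1 P M) := by
  have : Subsingleton (L1 P →ₗ[B] M) := ⟨fun a b => LinearMap.ext fun x => by
    rw [Subsingleton.elim x 0, map_zero, map_zero]⟩
  have : Subsingleton (cocycles1 P M) := inferInstance
  exact Quotient.instSubsingletonQuotient _

lemma subsingleton_T2_of_subsingleton_L2 [Subsingleton (L2 P)] : Subsingleton (T2 P M) := by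
  have : Subsingleton (L2 P →ₗ[B] M) := ⟨fun a b => LinearMap.ext fun x => by
    rw [Subsingleton.elim x 0, map_zero, map_zero]⟩
  exact Quotient.instSubsingletonQuotient _

lemma subsingleton_T1_of_isEmpty [IsEmpty σ] : Subsingleton (T1 P M) := by
  have := subsingleton_L1_of_isEmpty P
  exact subsingleton_T1_of_subsingleton_L1 P M

lemma subsingleton_T2_of_isEmpty [IsEmpty σ] : Subsingleton (T2 P M) := by
  have : Subsingleton (relKer P) := inferInstance
  have := subsingleton_L2_of_subsingleton_relKer P
  exact subsingleton_T2_of_subsingleton_L2 P M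

end Empty

section Poly
variable (A : Type u) [CommRing A] (κ : Type w)

/-- the presentation of a polynomial ring with no relations -/
noncomputable def polyPres : Algebra.Presentation A (MvPolynomial κ A) κ PEmpty.{t + 1} where
  toGenerators := Algebra.Generators.mvPolynomial A κ
  relation := PEmpty.elim
  span_range_relation_eq_ker := by
    rw [Algebra.Generators.ker_mvPolynomial]
    simp [Set.range_eq_empty]

end Poly

section Koszul
variable {R : Type u} [CommRing R] {n : ℕ} (a : Fin n → R)

/-- the span of the Koszul relations `a_i e_j - a_j e_i` -/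
noncomputable def koszulSpan : Submodule R (Fin n →₀ R) :=
  Submodule.span R {y | ∃ i j, y = a i • Finsupp.single j (1 : R) - a j • Finsupp.single i (1 : R)}

lemma lincomb_smul_single_sub_mem (k : Fin n) (d : Fin n →₀ R) :
    (Finsupp.linearCombination R a d) • Finsupp.single k (1 : R) - a k • d ∈ koszulSpan a := by
  induction d using Finsupp.induction_linear with
  | zero => simp
  | add f g hf hg =>
    have : (Finsupp.linearCombination R a (f + g)) • Finsupp.single k (1 : R) - a k • (f + g) =
        ((Finsupp.linearCombination R a f) • Finsupp.single k (1 : R) - a k • f) +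
        ((Finsupp.linearCombination R a g) • Finsupp.single k (1 : R) - a k • g) := by
      rw [map_add, add_smul, smul_add]; abel
    rw [this]
    exact Submodule.add_mem _ hf hg
  | single i r =>
    have : (Finsupp.linearCombination R a (Finsupp.single i r)) • Finsupp.single k (1 : R) -
        a k • Finsupp.single i r =
        r • (a i • Finsupp.single k (1 : R) - a k • Finsupp.single i (1 : R)) := by
      rw [Finsupp.linearCombination_single, smul_sub, smul_smul, smul_smul, smul_eq_mul,
        Finsupp.smul_single, Finsupp.smul_single, Finsupp.smul_single, smul_eq_mul, smul_eq_mul,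
        smul_eq_mul, mul_one, mul_one, mul_comm r (a k)]
    rw [this]
    exact Submodule.smul_mem _ _ (Submodule.subset_span ⟨i, k, rfl⟩)

/-- elementary form of regularity of the family `a` -/
def IsRegFamily : Prop :=
  ∀ k : Fin n, ∀ x : R, x * a k ∈ Ideal.span (a '' {i | i < k}) → x ∈ Ideal.span (a '' {i | i < k})

theorem mem_koszulSpan_of_isRegFamily (hreg : IsRegFamily a) (c : Fin n →₀ R)
    (hc : Finsupp.linearCombination R a c = 0) : c ∈ koszulSpan a := by
  suffices H : ∀ m : ℕ, m ≤ n → ∀ c : Fin n →₀ R, (∀ i : Fin n, m ≤ i.val → c i = 0) →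
      Finsupp.linearCombination R a c = 0 → c ∈ koszulSpan a from
    H n le_rfl c (fun i hi => absurd i.2 (not_lt.mpr hi)) hc
  intro m
  induction m with
  | zero =>
    intro _ c hc0 _
    have : c = 0 := Finsupp.ext fun i => hc0 i (Nat.zero_le _)
    rw [this]
    exact Submodule.zero_mem _
  | succ m ih =>
    intro hm c hc0 hc
    let k : Fin n := ⟨m, hm⟩
    -- c k * a k ∈ span of earlier ones
    have hsplit : Finsupp.linearCombination R a c =
        c k * a k + Finsupp.linearCombination R a (c.erase k) := by
      conv_lhs => rw [← Finsupp.single_add_erase k c]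
      rw [map_add, Finsupp.linearCombination_single, smul_eq_mul]
    have hmem : Finsupp.linearCombination R a (c.erase k) ∈ Ideal.span (a '' {i | i < k}) := by
      rw [Finsupp.linearCombination_apply]
      refine Ideal.sum_mem _ fun i hi => ?_
      change (c.erase k) i • a i ∈ _
      rw [smul_eq_mul]
      refine Ideal.mul_mem_left _ _ (Ideal.subset_span ⟨i, ?_, rfl⟩)
      have hik : i ≠ k := by
        intro h
        rw [h] at hi
        simp at hi
      have hne : (c.erase k) i ≠ 0 := Finsupp.mem_support_iff.mp hi
      rw [Finsupp.erase_ne hik] at hne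
      have : ¬ (m + 1 ≤ i.val) := fun h => hne (hc0 i h)
      have h1 : i.val ≠ m := fun h => hik (Fin.ext h)
      change i.val < m
      omega
    have hck : c k * a k ∈ Ideal.span (a '' {i | i < k}) := by
      have : c k * a k = - Finsupp.linearCombination R a (c.erase k) := by
        rw [hsplit] at hc
        exact eq_neg_of_add_eq_zero_left hc
      rw [this]
      exact Ideal.neg_mem_iff _ |>.mpr hmem
    have hck' := hreg k (c k) hck
    obtain ⟨d, hd, hdc⟩ := (Finsupp.mem_span_image_iff_linearCombination R).mp hck'
    -- c' = c - single k (c k) + a k • d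
    let c' : Fin n →₀ R := c - ((Finsupp.linearCombination R a d) • Finsupp.single k (1 : R) - a k • d)
    have hdk : ∀ i : Fin n, m ≤ i.val → d i = 0 := by
      intro i hi
      by_contra hne
      have : i ∈ d.support := Finsupp.mem_support_iff.mpr hne
      have h2 : i ∈ {i | i < k} := hd this
      have : i.val < m := h2
      omega
    have hc'0 : ∀ i : Fin n, m ≤ i.val → c' i = 0 := by
      intro i hi
      change c i - ((Finsupp.linearCombination R a d) • Finsupp.single k (1 : R) - a k • d) i = 0
      rw [Finsupp.sub_apply, Finsupp.smul_apply, Finsupp.smul_apply, hdk i hi, hdc]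
      by_cases hik : i = k
      · rw [hik, Finsupp.single_eq_same]
        simp
      · rw [Finsupp.single_eq_of_ne hik]
        have : m + 1 ≤ i.val := by
          have h1 : i.val ≠ m := fun h => hik (Fin.ext h)
          omega
        rw [hc0 i this]
        simp
    have hc' : Finsupp.linearCombination R a c' = 0 := by
      change Finsupp.linearCombination R a (c - _) = 0
      rw [map_sub, map_sub, map_smul, map_smul, Finsupp.linearCombination_single, hc, hdc]
      simp only [smul_eq_mul, one_mul]
      ring
    have h1 := ih (Nat.le_of_succ_le hm) c' hc'0 hc'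
    have h2 := lincomb_smul_single_sub_mem a k d
    have : c = c' + ((Finsupp.linearCombination R a d) • Finsupp.single k (1 : R) - a k • d) := by
      change c = c - _ + _
      abel
    rw [this]
    exact Submodule.add_mem _ h1 h2

lemma ofList_take_eq_span (rs : List R) (k : Fin rs.length) :
    Ideal.ofList (rs.take k) = Ideal.span ((fun i : Fin rs.length => rs[i]) '' {i | i < k}) := by
  unfold Ideal.ofList
  congr 1
  ext x
  simp only [Set.mem_ofPred_eq, Set.mem_image]
  rw [List.mem_take_iff_getElem]
  constructor
  · rintro ⟨i, hi, rfl⟩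
    have h1 : i < rs.length := lt_of_lt_of_le hi (min_le_right _ _)
    have h2 : i < k.val := lt_of_lt_of_le hi (min_le_left _ _)
    exact ⟨⟨i, h1⟩, h2, rfl⟩
  · rintro ⟨i, hi, rfl⟩
    exact ⟨i.val, lt_min hi i.2, rfl⟩

lemma isRegFamily_of_isWeaklyRegular (rs : List R) (h : RingTheory.Sequence.IsWeaklyRegular R rs) :
    IsRegFamily (fun i : Fin rs.length => rs[i]) := by
  intro k x hx
  rw [← ofList_take_eq_span] at hx ⊢
  have hreg := h.regular_mod_prev k.val k.2
  have h0 : (rs[k.val] : R) • (Submodule.Quotient.mk x :
      R ⧸ (Ideal.ofList (rs.take k) • ⊤ : Submodule R R)) = rs[k.val] • 0 := by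
    rw [smul_zero, ← Submodule.Quotient.mk_smul, Submodule.Quotient.mk_eq_zero, smul_eq_mul,
      smul_eq_mul, Ideal.mul_top, mul_comm]
    exact hx
  have h1 := hreg h0
  rw [Submodule.Quotient.mk_eq_zero, smul_eq_mul, Ideal.mul_top] at h1
  exact h1

lemma IsRegFamily.map {S : Type v} [CommRing S] (φ : R ≃+* S) {a : Fin n → R}
    (h : IsRegFamily a) : IsRegFamily (fun i => φ (a i)) := by
  intro k x hx
  have himg : ∀ s : Set (Fin n), Ideal.span ((fun i => φ (a i)) '' s) =
      Ideal.map (φ : R →+* S) (Ideal.span (a '' s)) := by
    intro s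
    rw [Ideal.map_span, Set.image_image]
    rfl
  rw [himg] at hx ⊢
  have h1 : φ.symm x * a k ∈ Ideal.span (a '' {i | i < k}) := by
    have := Ideal.mem_map_of_mem (φ.symm : S →+* R) hx
    rw [Ideal.map_map] at this
    have hid : ((φ.symm : S →+* R).comp (φ : R →+* S)) = RingHom.id R := by
      ext r; simp
    rw [hid, Ideal.map_id] at this
    simpa using this
  have h2 := Ideal.mem_map_of_mem (φ : R →+* S) (h k _ h1)
  simpa using h2

end Koszul
section Quot
variable {A : Type u} {B : Type v} [CommRing A] [CommRing B] [Algebra A B]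
variable (hs : Function.Surjective (algebraMap A B)) {n : ℕ} (a : Fin n → A)
  (hI : RingHom.ker (algebraMap A B) = Ideal.span (Set.range a))

/-- the presentation of a quotient `B = A/(a_1, …, a_n)` with no variables -/
noncomputable def quotPres : Algebra.Presentation A B PEmpty.{w + 1} (Fin n) where
  toGenerators := Algebra.Generators.ofSurjectiveAlgebraMap hs
  relation i := MvPolynomial.C (a i)
  span_range_relation_eq_ker := by
    rw [Algebra.Generators.ker_eq_ker_aeval_val]
    apply le_antisymm
    · rw [Ideal.span_le]
      rintro _ ⟨i, rfl⟩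
      change MvPolynomial.aeval _ (MvPolynomial.C (a i)) = 0
      rw [MvPolynomial.aeval_C]
      have : a i ∈ RingHom.ker (algebraMap A B) := by
        rw [hI]; exact Ideal.subset_span ⟨i, rfl⟩
      exact this
    · intro x hx
      rw [RingHom.mem_ker, MvPolynomial.eq_C_of_isEmpty x, MvPolynomial.aeval_C] at hx
      have h1 : MvPolynomial.coeff 0 x ∈ Ideal.span (Set.range a) := by
        rw [← hI]; exact hx
      have h2 := Ideal.mem_map_of_mem (MvPolynomial.C : A →+* MvPolynomial PEmpty.{w + 1} A) h1
      rw [Ideal.map_span, ← Set.range_comp] at h2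
      rw [MvPolynomial.eq_C_of_isEmpty x]
      exact h2

lemma quotPres_rel (i : Fin n) :
    rel (quotPres.{u, v, w} hs a hI) i = (MvPolynomial.C (a i) : MvPolynomial PEmpty.{w + 1} A) := rfl

end Quot

section L2zero
variable {A : Type u} {B : Type v} {ι : Type w} {σ : Type t}
variable [CommRing A] [CommRing B] [Algebra A B]
variable (P : Algebra.Presentation A B ι σ)

lemma subsingleton_L2_of_relKer_le (h : relKer P ≤ trivRel P) : Subsingleton (L2 P) := by
  refine ⟨fun x y => ?_⟩
  have h0 : ∀ z : L2 P, z = 0 := by
    intro z
    induction z using Submodule.Quotient.induction_on with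
    | H z =>
      rw [Submodule.Quotient.mk_eq_zero]
      induction z using TensorProduct.induction_on with
      | zero => exact Submodule.zero_mem _
      | add x y hx hy => exact Submodule.add_mem _ hx hy
      | tmul b q => exact ⟨b ⊗ₜ ⟨q, h q.2⟩, rfl⟩
  rw [h0 x, h0 y]

lemma relKer_le_trivRel_of_isRegFamily {n : ℕ} (P : Algebra.Presentation A B ι (Fin n))
    (hreg : IsRegFamily (rel P)) : relKer P ≤ trivRel P := by
  intro f hf
  have h1 := mem_koszulSpan_of_isRegFamily (rel P) hreg f hf
  refine (Submodule.span_le.2 ?_ : koszulSpan (rel P) ≤ trivRel P) h1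
  rintro _ ⟨i, j, rfl⟩
  refine Submodule.subset_span ⟨Finsupp.single i 1, Finsupp.single j 1, ?_⟩
  rw [jmap_single, jmap_single, one_mul, one_mul]

end L2zero

section QuotReg
variable {A : Type u} {B : Type v} [CommRing A] [CommRing B] [Algebra A B]
variable (hs : Function.Surjective (algebraMap A B)) {n : ℕ} (a : Fin n → A)
  (hI : RingHom.ker (algebraMap A B) = Ideal.span (Set.range a))

lemma isRegFamily_rel_quotPres (hreg : IsRegFamily a) :
    IsRegFamily (rel (quotPres.{u, v, w} hs a hI)) := by
  have h1 := hreg.map (MvPolynomial.isEmptyRingEquiv A PEmpty.{w + 1}).symm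
  simp only [MvPolynomial.isEmptyRingEquiv_symm_apply] at h1
  exact h1

theorem subsingleton_T2_quotPres (hreg : IsRegFamily a) (M : Type m) [AddCommGroup M]
    [Module B M] : Subsingleton (T2 (quotPres.{u, v, w} hs a hI) M) := by
  have h1 := relKer_le_trivRel_of_isRegFamily _ (isRegFamily_rel_quotPres.{u, v, w} hs a hI hreg)
  have := subsingleton_L2_of_relKer_le _ h1
  exact subsingleton_T2_of_subsingleton_L2 _ M

end QuotReg

end Groth.Agent.Lib.Helper1.CotTVanish
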