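import Groth.Agent.Lib.Helper1.PbSys2
import Groth.Agent.S0086
import Groth.Agent.S2074
import Groth.Agent.Lib.Helper20.SpreadOutLFP

/-!
# Properness near a point from properness over the local ring / its completion (helper1)
-/

set_option autoImplicit false
set_option linter.unusedSectionVars false
set_option linter.style.haveILetI false
universe u

namespace Groth.Agent.Lib.Helper1.CplProper

open AlgebraicGeometry CategoryTheory CategoryTheory.Limits TopologicalSpace Opposite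
open Groth.Agent.Lib.Helper1.PbSys

/-- fpqc descent of properness for a double base change. -/
theorem proper_descend {X Y S T T' : Scheme.{u}} (f : X ⟶ Y) (g : Y ⟶ S) (j : T ⟶ S) (ρ : T' ⟶ T)
    [Surjective ρ] [Flat ρ] [QuasiCompact ρ]
    (h : IsProper (pullback.snd f (pullback.fst g (ρ ≫ j)))) :
    IsProper (pullback.snd f (pullback.fst g j)) := by
  -- u : Y_{T'} ⟶ Y_T
  let u : pullback g (ρ ≫ j) ⟶ pullback g j :=
    pullback.lift (pullback.fst _ _) (pullback.snd _ _ ≫ ρ)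
      (by rw [pullback.condition, Category.assoc])
  have hu1 : u ≫ pullback.fst g j = pullback.fst g (ρ ≫ j) := pullback.lift_fst _ _ _
  have hu2 : u ≫ pullback.snd g j = pullback.snd g (ρ ≫ j) ≫ ρ := pullback.lift_snd _ _ _
  have hsqu : IsPullback u (pullback.snd g (ρ ≫ j)) (pullback.snd g j) ρ := by
    have hbig : IsPullback (u ≫ pullback.fst g j) (pullback.snd g (ρ ≫ j)) g (ρ ≫ j) := by
      rw [hu1]; exact IsPullback.of_hasPullback _ _
    exact IsPullback.of_right hbig hu2 (IsPullback.of_hasPullback _ _)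
  have hQu : (@Surjective ⊓ @Flat ⊓ @QuasiCompact : MorphismProperty Scheme.{u}) u :=
    ⟨⟨MorphismProperty.of_isPullback hsqu.flip ‹Surjective ρ›,
      MorphismProperty.of_isPullback hsqu.flip ‹Flat ρ›⟩,
      MorphismProperty.of_isPullback hsqu.flip ‹QuasiCompact ρ›⟩
  -- v : X_{T'} ⟶ X_T
  let v : pullback f (pullback.fst g (ρ ≫ j)) ⟶ pullback f (pullback.fst g j) :=
    pullback.lift (pullback.fst _ _) (pullback.snd _ _ ≫ u)
      (by rw [pullback.condition, Category.assoc, hu1])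
  have hv1 : v ≫ pullback.fst f (pullback.fst g j) = pullback.fst f (pullback.fst g (ρ ≫ j)) :=
    pullback.lift_fst _ _ _
  have hv2 : v ≫ pullback.snd f (pullback.fst g j) =
      pullback.snd f (pullback.fst g (ρ ≫ j)) ≫ u := pullback.lift_snd _ _ _
  have hsqv : IsPullback v (pullback.snd f (pullback.fst g (ρ ≫ j)))
      (pullback.snd f (pullback.fst g j)) u := by
    have hbig : IsPullback (v ≫ pullback.fst f (pullback.fst g j))
        (pullback.snd f (pullback.fst g (ρ ≫ j))) f (u ≫ pullback.fst g j) := by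
      rw [hv1, hu1]; exact IsPullback.of_hasPullback _ _
    exact IsPullback.of_right hbig hv2 (IsPullback.of_hasPullback _ _)
  haveI := Groth.Agent.S0086.result.{u}
  exact MorphismProperty.of_isPullback_of_descendsAlong (P := @IsProper)
    (Q := (@Surjective ⊓ @Flat ⊓ @QuasiCompact : MorphismProperty Scheme.{u})) hsqv.flip hQu h


/-- Properness over the local ring of `S` at `s` spreads out to a neighbourhood of `s`. -/
theorem exists_nhd_proper {X Y S : Scheme.{u}} (f : X ⟶ Y) (g : Y ⟶ S)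
    [QuasiCompact g] [QuasiSeparated g] [LocallyOfFinitePresentation g]
    [QuasiCompact (f ≫ g)] [QuasiSeparated (f ≫ g)] [LocallyOfFinitePresentation (f ≫ g)]
    (s : S) (h : IsProper (pullback.snd f (pullback.fst g (S.fromSpecStalk s)))) :
    ∃ W : S.Opens, s ∈ W ∧ IsProper (f ∣_ (g ⁻¹ᵁ W)) := by
  classical
  obtain ⟨_, ⟨(S₀ : S.Opens), (hS₀ : IsAffineOpen S₀), rfl⟩, hsS₀, -⟩ :=
    S.isBasis_affineOpens.exists_subset_of_mem_open (Set.mem_univ s) isOpen_univ
  haveI : IsAffine (S₀ : Scheme.{u}) := hS₀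
  let jO : Spec (S.presheaf.stalk s) ⟶ S := S.fromSpecStalk s
  have hrange : Set.range jO.base ⊆ Set.range S₀.ι.base := by
    rw [Scheme.Opens.range_ι, Scheme.range_fromSpecStalk]
    intro y hy
    exact hy.mem_open S₀.isOpen hsS₀
  let h₀ : Spec (S.presheaf.stalk s) ⟶ (S₀ : Scheme.{u}) := IsOpenImmersion.lift S₀.ι jO hrange
  have hh₀ : h₀ ≫ S₀.ι = jO := IsOpenImmersion.lift_fac _ _ _
  obtain ⟨I, _, _, _, D, s', c, hc, e, h1, h2, h3, h4, h5⟩ :=
    Groth.Agent.Lib.Helper1.NA.exists_fp_limit' h₀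
  haveI : ∀ (i j : Iᵒᵖ) (a : i ⟶ j), IsAffineHom (D.map a) := fun i j a => h3 i j a
  haveI : ∀ i : Iᵒᵖ, CompactSpace (D.obj i) := h5
  haveI : ∀ i : Iᵒᵖ, QuasiSeparatedSpace (D.obj i) := fun i => by
    haveI := (h2 i).2.2
    haveI : QuasiSeparatedSpace ↥(((Functor.const Iᵒᵖ).obj (S₀ : Scheme.{u})).obj i) :=
      (inferInstance : QuasiSeparatedSpace ↥(S₀ : Scheme.{u}))
    exact quasiSeparatedSpace_of_quasiSeparated (s'.app i)
  let s'' : D ⟶ (Functor.const Iᵒᵖ).obj S := s' ≫ (Functor.const Iᵒᵖ).map S₀.ι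
  let c' : Cone D :=
    { pt := Spec (S.presheaf.stalk s)
      π :=
        { app := fun i => e.inv ≫ c.π.app i
          naturality := fun i j a => by
            change 𝟙 _ ≫ e.inv ≫ c.π.app j = (e.inv ≫ c.π.app i) ≫ D.map a
            rw [Category.id_comp, Category.assoc, c.w] } }
  have hc' : IsLimit c' := IsLimit.ofIsoLimit hc (Cone.ext e (fun i => by
    change c.π.app i = e.hom ≫ e.inv ≫ c.π.app i
    rw [Iso.hom_inv_id_assoc]))
  have hg : ∀ j, c'.π.app j ≫ s''.app j = jO := by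
    intro j
    change (e.inv ≫ c.π.app j) ≫ (s'.app j ≫ S₀.ι) = jO
    rw [Category.assoc, ← Category.assoc (c.π.app j), h1 j, Category.assoc, hh₀,
      Iso.inv_hom_id_assoc]
  haveI : IsCofiltered Iᵒᵖ := inferInstance
  let i₀ : Iᵒᵖ := op (Classical.arbitrary I)
  -- the bottom stage
  let b₀ : D.obj i₀ ⟶ S := s''.app i₀
  let q : pullback g b₀ ⟶ Y := pullback.fst g b₀
  have hYsq := pbCone_isPullback D s'' g c' jO hg i₀
  let qY : pullback g jO ⟶ pullback g b₀ := pbLeg D s'' g c' jO hg i₀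
  have hqY1 : qY ≫ q = pullback.fst g jO := pbLeg_fst D s'' g c' jO hg i₀
  let qX : pullback f (pullback.fst g jO) ⟶ pullback f q :=
    pullback.lift (pullback.fst _ _) (pullback.snd _ _ ≫ qY)
      (by rw [pullback.condition, Category.assoc, hqY1])
  have hqX1 : qX ≫ pullback.fst f q = pullback.fst f (pullback.fst g jO) :=
    pullback.lift_fst _ _ _
  have hqX2 : qX ≫ pullback.snd f q = pullback.snd f (pullback.fst g jO) ≫ qY :=
    pullback.lift_snd _ _ _
  have hXsq : IsPullback qX (pullback.snd f (pullback.fst g jO)) (pullback.snd f q) qY := by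
    have hbig : IsPullback (qX ≫ pullback.fst f q) (pullback.snd f (pullback.fst g jO)) f
        (qY ≫ q) := by
      rw [hqX1, hqY1]; exact IsPullback.of_hasPullback _ _
    exact IsPullback.of_right hbig hqX2 (IsPullback.of_hasPullback _ _)
  -- qcqs-ness
  haveI : QuasiCompact (pullback.snd g b₀) := MorphismProperty.pullback_snd _ _ inferInstance
  haveI : QuasiSeparated (pullback.snd g b₀) := MorphismProperty.pullback_snd _ _ inferInstance
  haveI : CompactSpace ↥(pullback g b₀) :=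
    QuasiCompact.compactSpace_of_compactSpace (pullback.snd g b₀)
  haveI : QuasiSeparatedSpace ↥(pullback g b₀) :=
    quasiSeparatedSpace_of_quasiSeparated (pullback.snd g b₀)
  haveI : QuasiCompact f := QuasiCompact.of_comp f g
  haveI : QuasiSeparated f := QuasiSeparated.of_comp f g
  haveI : LocallyOfFiniteType f := locallyOfFiniteType_of_comp f g
  haveI : QuasiCompact (pullback.snd f q) := MorphismProperty.pullback_snd _ _ inferInstance
  haveI : QuasiSeparated (pullback.snd f q) := MorphismProperty.pullback_snd _ _ inferInstance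
  haveI : LocallyOfFiniteType (pullback.snd f q) :=
    MorphismProperty.pullback_snd _ _ inferInstance
  haveI : CompactSpace ↥(pullback f q) :=
    QuasiCompact.compactSpace_of_compactSpace (pullback.snd f q)
  haveI : QuasiSeparatedSpace ↥(pullback f q) :=
    quasiSeparatedSpace_of_quasiSeparated (pullback.snd f q)
  haveI : IsProper (pullback.snd f (pullback.fst g jO)) := h
  obtain ⟨i, φ, Xi, Yi, fi, gi, pY, pX, hYi, hXi, hfi⟩ :=
    Groth.Agent.S2074.result D c' hc' i₀ (pullback.snd f q) (pullback.snd g b₀)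
      (pullback.snd f (pullback.fst g jO)) (pullback.snd g jO) qY qX hYsq hXsq
  -- spreading out the section
  haveI : LocallyOfFinitePresentation (s''.app i) := by
    haveI := (h2 i).1
    change LocallyOfFinitePresentation (s'.app i ≫ S₀.ι)
    infer_instance
  obtain ⟨W, hsW, σ, hσ1, hσ2⟩ :=
    Groth.Agent.Lib.Helper20.spread_out_of_locallyOfFinitePresentation' (𝟙 S) (s''.app i)
      (x := s) (c'.π.app i) (by rw [hg i, Category.comp_id])
  refine ⟨W, hsW, ?_⟩
  rw [Category.comp_id] at hσ2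
  -- the map `g⁻¹W ⟶ Yi`
  let k₁ : ((g ⁻¹ᵁ W : Y.Opens) : Scheme.{u}) ⟶ D.obj i := (g ∣_ W) ≫ σ
  have hk₁ : k₁ ≫ D.map φ ≫ b₀ = (g ⁻¹ᵁ W).ι ≫ g := by
    change ((g ∣_ W) ≫ σ) ≫ D.map φ ≫ s''.app i₀ = _
    rw [map_s D s'' φ, Category.assoc, hσ2, morphismRestrict_ι]
  let k₀ : ((g ⁻¹ᵁ W : Y.Opens) : Scheme.{u}) ⟶ pullback g b₀ :=
    pullback.lift (g ⁻¹ᵁ W).ι (k₁ ≫ D.map φ) (by rw [Category.assoc, hk₁])
  have hk₀1 : k₀ ≫ q = (g ⁻¹ᵁ W).ι := pullback.lift_fst _ _ _
  have hk₀2 : k₀ ≫ pullback.snd g b₀ = k₁ ≫ D.map φ := pullback.lift_snd _ _ _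
  let k : ((g ⁻¹ᵁ W : Y.Opens) : Scheme.{u}) ⟶ Yi := hYi.lift k₀ k₁ hk₀2
  have hk : k ≫ pY = k₀ := hYi.lift_fst _ _ _
  have hright : IsPullback (pX ≫ pullback.fst f q) fi f (pY ≫ q) :=
    hXi.paste_horiz (IsPullback.of_hasPullback f q)
  have hkι : k ≫ pY ≫ q = (g ⁻¹ᵁ W).ι := by rw [← Category.assoc, hk, hk₀1]
  have hcomm : (f ⁻¹ᵁ (g ⁻¹ᵁ W)).ι ≫ f = ((f ∣_ (g ⁻¹ᵁ W)) ≫ k) ≫ pY ≫ q := by
    rw [Category.assoc, hkι, morphismRestrict_ι]
  let l : ((f ⁻¹ᵁ (g ⁻¹ᵁ W) : X.Opens) : Scheme.{u}) ⟶ Xi :=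
    hright.lift (f ⁻¹ᵁ (g ⁻¹ᵁ W)).ι ((f ∣_ (g ⁻¹ᵁ W)) ≫ k) hcomm
  have hl1 : l ≫ pX ≫ pullback.fst f q = (f ⁻¹ᵁ (g ⁻¹ᵁ W)).ι := hright.lift_fst _ _ _
  have hl2 : l ≫ fi = (f ∣_ (g ⁻¹ᵁ W)) ≫ k := hright.lift_snd _ _ _
  have hleft : IsPullback l (f ∣_ (g ⁻¹ᵁ W)) fi k := by
    have hbig : IsPullback (l ≫ pX ≫ pullback.fst f q) (f ∣_ (g ⁻¹ᵁ W)) f (k ≫ pY ≫ q) := by
      rw [hl1, hkι]
      exact (isPullback_morphismRestrict f (g ⁻¹ᵁ W)).flip
    exact IsPullback.of_right hbig hl2 hright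
  exact MorphismProperty.of_isPullback hleft hfi

end Groth.Agent.Lib.Helper1.CplProper
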