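import Groth.Agent.Lib.Helper1.MonoRS3
import Mathlib.RingTheory.Spectrum.Prime.Noetherian
import Mathlib.AlgebraicGeometry.Noetherian

/-!
# The dense-lift criterion: quasi-compactness of monomorphisms (helper1)
-/

set_option autoImplicit false
set_option linter.unusedSectionVars false
set_option linter.style.haveILetI false
universe u

namespace Groth.Agent.Lib.Helper1.DenseLift

open AlgebraicGeometry CategoryTheory CategoryTheory.Limits TopologicalSpace
  Groth.Agent.Lib.Helper1.MonoRS

/-- The dense-lift property of a morphism. -/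
def DenseLift {X Y : Scheme.{u}} (f : Y ⟶ X) : Prop :=
  ∀ (A : Type u) [CommRing A] [IsDomain A] (s : Spec (CommRingCat.of A) ⟶ X)
    (D : Set ↥(Spec (CommRingCat.of A))),
    Dense D →
    (∀ p ∈ D, ∃ l : Spec ((Spec (CommRingCat.of A)).residueField p) ⟶ Y,
        l ≫ f = (Spec (CommRingCat.of A)).fromSpecResidueField p ≫ s) →
      ∃ U : (Spec (CommRingCat.of A)).Opens, (U : Set ↥(Spec (CommRingCat.of A))).Nonempty ∧
        ∃ l : (U : Scheme.{u}) ⟶ Y, l ≫ f = U.ι ≫ s

lemma DenseLift.of_isPullback {X Y P X' : Scheme.{u}} {f : Y ⟶ X} {a : P ⟶ Y} {p : P ⟶ X'}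
    {g : X' ⟶ X} (hsq : IsPullback a p f g) (h : DenseLift f) : DenseLift p := by
  intro A _ _ s D hD hl
  obtain ⟨U, hU, l, hlU⟩ := h A (s ≫ g) D hD (fun q hq => by
    obtain ⟨l, hl'⟩ := hl q hq
    exact ⟨l ≫ a, by rw [Category.assoc, hsq.w, ← Category.assoc, hl', Category.assoc]⟩)
  refine ⟨U, hU, hsq.lift l (U.ι ≫ s) (by rw [hlU, Category.assoc]), hsq.lift_snd _ _ _⟩

/-- Lifting residue field points of `Spec A` through a mono, given a point in the image. -/
lemma exists_residue_lift {X Y : Scheme.{u}} (f : Y ⟶ X) [Mono f] {T : Scheme.{u}} (s : T ⟶ X)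
    (t : T) (y : Y) (hy : f y = s t) :
    ∃ l : Spec (T.residueField t) ⟶ Y, l ≫ f = T.fromSpecResidueField t ≫ s := by
  obtain ⟨l, hl⟩ := exists_lift_residueField f y (s t) hy
  refine ⟨Spec.map (s.residueFieldMap t) ≫ l, ?_⟩
  rw [Category.assoc, hl, Scheme.Hom.SpecMap_residueFieldMap_fromSpecResidueField]

/-- Key theorem: a monomorphism to a Noetherian affine scheme with the dense-lift property has
quasi-compact source. -/
theorem compactSpace_of_denseLift_Spec (B : CommRingCat.{u}) [IsNoetherianRing B]
    {Y : Scheme.{u}} (f : Y ⟶ Spec B) [Mono f] (h : DenseLift f) : CompactSpace Y := by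
  have hinj : Function.Injective f := injective_of_mono f
  haveI : NoetherianSpace ↥(Spec B) := inferInstanceAs (NoetherianSpace (PrimeSpectrum B))
  have key : ∀ Z : Closeds ↥(Spec B), IsCompact (f ⁻¹' (Z : Set ↥(Spec B))) := by
    intro Z
    induction Z using WellFoundedLT.induction with
    | ind Z IH =>
      by_cases hZe : (Z : Set ↥(Spec B)) = ∅
      · rw [hZe, Set.preimage_empty]; exact isCompact_empty
      have hZne : (Z : Set ↥(Spec B)).Nonempty := Set.nonempty_iff_ne_empty.mpr hZe
      by_cases hirr : IsPreirreducible (Z : Set ↥(Spec B))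
      · -- irreducible case
        obtain ⟨η, hη⟩ := QuasiSober.sober ⟨hZne, hirr⟩ Z.isClosed
        let 𝔭 : Ideal B := PrimeSpectrum.asIdeal η
        have hZ : (Z : Set ↥(Spec B)) = PrimeSpectrum.zeroLocus (𝔭 : Set B) :=
          hη.symm.trans (PrimeSpectrum.closure_singleton (R := B) η)
        let A : Type u := B ⧸ 𝔭
        let mk : B ⟶ CommRingCat.of A := CommRingCat.ofHom (Ideal.Quotient.mk 𝔭)
        let s : Spec (CommRingCat.of A) ⟶ Spec B := Spec.map mk
        have hsemb : Topology.IsClosedEmbedding s :=
          PrimeSpectrum.isClosedEmbedding_comap_of_surjective _ _ Ideal.Quotient.mk_surjective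
        have hsrange : Set.range s = (Z : Set ↥(Spec B)) := by
          have := _root_.range_comap_of_surjective _ (Ideal.Quotient.mk 𝔭)
            Ideal.Quotient.mk_surjective
          rw [Ideal.mk_ker] at this
          exact this.trans hZ.symm
        -- find a good open
        obtain ⟨U, hUo, hUne, hUc⟩ : ∃ U : Set ↥(Spec (CommRingCat.of A)), IsOpen U ∧ U.Nonempty ∧
            IsCompact (f ⁻¹' (s '' U)) := by
          let D : Set ↥(Spec (CommRingCat.of A)) := s ⁻¹' (Set.range f)
          by_cases hD : Dense D
          · obtain ⟨U, hUne, l, hl⟩ := h A s D hD (fun q hq => by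
              obtain ⟨y, hy⟩ := hq
              exact exists_residue_lift f s q y hy)
            refine ⟨(U : Set ↥(Spec (CommRingCat.of A))), U.isOpen, hUne, ?_⟩
            have hrange : f ⁻¹' (s '' U) = Set.range l := by
              ext y
              constructor
              · rintro ⟨u', hu', hfu⟩
                refine ⟨⟨u', hu'⟩, hinj ?_⟩
                rw [← hfu, ← Scheme.Hom.comp_apply, hl]
                rfl
              · rintro ⟨u, rfl⟩
                refine ⟨u.1, u.2, ?_⟩
                change s (U.ι u) = f (l u)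
                rw [← Scheme.Hom.comp_apply, ← Scheme.Hom.comp_apply, hl]
            rw [hrange]
            haveI : NoetherianSpace ↥(Spec (CommRingCat.of A)) :=
              inferInstanceAs (NoetherianSpace (PrimeSpectrum A))
            haveI : CompactSpace ↥(U : Scheme.{u}) :=
              isCompact_iff_compactSpace.mp
                (NoetherianSpace.isCompact (U : Set ↥(Spec (CommRingCat.of A))))
            exact isCompact_range l.continuous
          · refine ⟨(closure D)ᶜ, isClosed_closure.isOpen_compl, ?_, ?_⟩
            · rw [Set.nonempty_compl]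
              intro hcl
              exact hD (dense_iff_closure_eq.mpr hcl)
            · have : f ⁻¹' (s '' (closure D)ᶜ) = ∅ := by
                ext y
                simp only [Set.mem_preimage, Set.mem_image, Set.mem_compl_iff,
                  Set.mem_empty_iff_false, iff_false, not_exists, not_and]
                intro u hu hfu
                exact hu (subset_closure ⟨y, hfu.symm⟩)
              rw [this]; exact isCompact_empty
        let Z' : Closeds ↥(Spec B) := ⟨s '' Uᶜ, hsemb.isClosedMap _ hUo.isClosed_compl⟩
        have hZ'le : Z' ≤ Z := by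
          intro x hx
          obtain ⟨u, -, rfl⟩ := hx
          rw [← SetLike.mem_coe, ← hsrange]; exact ⟨u, rfl⟩
        have hZ'lt : Z' < Z := by
          refine lt_of_le_of_ne hZ'le ?_
          intro heq
          obtain ⟨u, hu⟩ := hUne
          have : s u ∈ (Z' : Set ↥(Spec B)) := by
            rw [heq, ← hsrange]; exact ⟨u, rfl⟩
          obtain ⟨u', hu', huu⟩ := this
          rw [hsemb.injective huu] at hu'
          exact hu' hu
        have hunion : (Z : Set ↥(Spec B)) = s '' U ∪ (Z' : Set ↥(Spec B)) := by
          change _ = s '' U ∪ s '' Uᶜ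
          rw [← Set.image_union, Set.union_compl_self, Set.image_univ, hsrange]
        rw [hunion, Set.preimage_union]
        exact hUc.union (IH Z' hZ'lt)
      · -- reducible case
        rw [isPreirreducible_iff_isClosed_union_isClosed] at hirr
        push Not at hirr
        obtain ⟨z₁, z₂, hz₁, hz₂, hsub, hn₁, hn₂⟩ := hirr
        let Z₁ : Closeds ↥(Spec B) := Z ⊓ ⟨z₁, hz₁⟩
        let Z₂ : Closeds ↥(Spec B) := Z ⊓ ⟨z₂, hz₂⟩
        have h₁ : Z₁ < Z := lt_of_le_of_ne inf_le_left (fun heq => hn₁ (by
          intro x hx
          have : x ∈ (Z₁ : Set ↥(Spec B)) := by rw [heq]; exact hx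
          exact this.2))
        have h₂ : Z₂ < Z := lt_of_le_of_ne inf_le_left (fun heq => hn₂ (by
          intro x hx
          have : x ∈ (Z₂ : Set ↥(Spec B)) := by rw [heq]; exact hx
          exact this.2))
        have hunion : (Z : Set ↥(Spec B)) =
            (Z₁ : Set ↥(Spec B)) ∪ (Z₂ : Set ↥(Spec B)) := by
          ext x
          constructor
          · intro hx
            rcases hsub hx with h | h
            · exact Or.inl ⟨hx, h⟩
            · exact Or.inr ⟨hx, h⟩
          · rintro (h | h) <;> exact h.1
        rw [hunion, Set.preimage_union]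
        exact (IH Z₁ h₁).union (IH Z₂ h₂)
  have := key ⊤
  rw [Closeds.coe_top, Set.preimage_univ] at this
  exact isCompact_univ_iff.mp this

theorem compactSpace_of_denseLift_affine {X Y : Scheme.{u}} [IsAffine X] [IsLocallyNoetherian X]
    (f : Y ⟶ X) [Mono f] (h : DenseLift f) : CompactSpace Y := by
  haveI : IsNoetherianRing Γ(X, ⊤) :=
    IsLocallyNoetherian.component_noetherian ⟨⊤, isAffineOpen_top X⟩
  have hsq : IsPullback (𝟙 Y) (f ≫ X.isoSpec.hom) f X.isoSpec.inv :=
    IsPullback.of_horiz_isIso ⟨by simp⟩
  exact compactSpace_of_denseLift_Spec Γ(X, ⊤) (f ≫ X.isoSpec.hom) (h.of_isPullback hsq)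

theorem quasiCompact_of_denseLift {X Y : Scheme.{u}} [IsLocallyNoetherian X] (f : Y ⟶ X) [Mono f]
    (h : DenseLift f) : QuasiCompact f := by
  rw [HasAffineProperty.iff_of_openCover (P := @QuasiCompact) X.affineCover]
  intro i
  haveI : IsLocallyNoetherian (X.affineCover.X i) :=
    isLocallyNoetherian_of_isOpenImmersion (X.affineCover.f i)
  haveI : Mono (X.affineCover.pullbackHom f i) :=
    inferInstanceAs (Mono (pullback.snd f (X.affineCover.f i)))
  exact compactSpace_of_denseLift_affine (X.affineCover.pullbackHom f i)
    (h.of_isPullback (IsPullback.of_hasPullback f (X.affineCover.f i)))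

end Groth.Agent.Lib.Helper1.DenseLift
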