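import Mathlib

/-!
# A morphism glued from finitely many finite pieces with finite overlaps is finite (helper1)
-/

set_option autoImplicit false
set_option linter.unusedSectionVars false
set_option linter.style.haveILetI false
universe u

namespace Groth.Agent.Lib.Helper1.EtStrat

open AlgebraicGeometry CategoryTheory CategoryTheory.Limits TopologicalSpace Opposite

/-- If `Q k ⊓ Q l` is finite over `T` for all `l`, then `Q k` is closed. -/
theorem isClosed_of_finite_inf {P T : Scheme.{u}} (p : P ⟶ T) {ι : Type*} (Q : ι → P.Opens)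
    (hcov : ⨆ k, Q k = ⊤) (h1 : ∀ k, IsFinite ((Q k).ι ≫ p))
    (h2 : ∀ k l, IsFinite ((Q k ⊓ Q l).ι ≫ p)) (k : ι) : IsClosed (Q k : Set P) := by
  have hU : IsOpenCover Q := by
    rw [IsOpenCover, hcov]
  rw [hU.isClosed_iff_coe_preimage]
  intro l
  let i : ((Q k ⊓ Q l : P.Opens) : Scheme.{u}) ⟶ (Q l : Scheme.{u}) := P.homOfLE inf_le_right
  have hi : i ≫ (Q l).ι = (Q k ⊓ Q l).ι := P.homOfLE_ι _
  have hfin : IsFinite (i ≫ (Q l).ι ≫ p) := by
    rw [← Category.assoc, hi]; exact h2 k l
  have hsep : IsSeparated ((Q l).ι ≫ p) := by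
    have := h1 l
    infer_instance
  have hifin : IsFinite i := IsFinite.of_comp i ((Q l).ι ≫ p)
  have hcl : IsClosed (Set.range i) := i.isClosedMap.isClosed_range
  have hset : ((Subtype.val : (Q l) → P) ⁻¹' (Q k : Set P) : Set (Q l)) =
      (Set.range i : Set ((Q l : P.Opens) : Scheme.{u})) := by
    ext x
    constructor
    · intro hx
      have hxk : x.1 ∈ Q k := hx
      refine ⟨⟨x.1, hxk, x.2⟩, ?_⟩
      apply (Q l).ι.isOpenEmbedding.injective
      rw [← Scheme.Hom.comp_apply, hi]
      rfl
    · rintro ⟨y, rfl⟩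
      change ((Q l).ι (i y)) ∈ Q k
      rw [← Scheme.Hom.comp_apply, hi]
      exact y.2.1
  rw [← hset] at hcl
  exact hcl

end Groth.Agent.Lib.Helper1.EtStrat

namespace Groth.Agent.Lib.Helper1.EtStrat

open AlgebraicGeometry CategoryTheory CategoryTheory.Limits TopologicalSpace Opposite

/-- The image of the point of `Spec K` is dense in `Spec R`. -/
theorem closure_generic_eq_univ (R K : Type u) [CommRing R] [IsDomain R] [Field K] [Algebra R K]
    [IsFractionRing R K] (η : Spec (.of K)) :
    closure {(Spec.map (CommRingCat.ofHom (algebraMap R K))) η} = Set.univ := by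
  have h0 : ((Spec.map (CommRingCat.ofHom (algebraMap R K))) η).asIdeal = ⊥ := by
    change Ideal.comap (algebraMap R K) η.asIdeal = ⊥
    have hη : η.asIdeal = ⊥ := by
      have := η.isPrime
      exact (Ideal.eq_bot_or_top η.asIdeal).resolve_right this.ne_top
    rw [hη]
    exact (RingHom.injective_iff_ker_eq_bot _).mp (IsFractionRing.injective R K)
  let x : PrimeSpectrum R := (Spec.map (CommRingCat.ofHom (algebraMap R K))) η
  have h1 : closure ({x} : Set (PrimeSpectrum R)) = PrimeSpectrum.zeroLocus x.asIdeal :=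
    PrimeSpectrum.closure_singleton x
  have h2 : x.asIdeal = ⊥ := h0
  rw [h2, PrimeSpectrum.zeroLocus_bot] at h1
  exact h1

/-- A quasi-compact, quasi-separated, locally quasi-finite morphism locally of finite type
which is covered by opens finite over the base, with finite overlaps, is finite. -/
theorem isFinite_of_finite_cover {P T : Scheme.{u}} (p : P ⟶ T) [QuasiCompact p]
    [QuasiSeparated p] [LocallyOfFiniteType p] [LocallyQuasiFinite p] {ι : Type*}
    (Q : ι → P.Opens) (hcov : ⨆ k, Q k = ⊤) (h1 : ∀ k, IsFinite ((Q k).ι ≫ p))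
    (h2 : ∀ k l, IsFinite ((Q k ⊓ Q l).ι ≫ p)) : IsFinite p := by
  have hclosed := isClosed_of_finite_inf p Q hcov h1 h2
  rw [IsFinite.iff_isProper_and_locallyQuasiFinite]
  refine ⟨IsProper.of_valuativeCriterion p ?_, inferInstance⟩
  -- common setup for a valuative square
  have key : ∀ S : ValuativeCommSq p, ∃ (k : ι) (i₁' : Spec (.of S.K) ⟶ (Q k : Scheme.{u})),
      i₁' ≫ (Q k).ι = S.i₁ ∧
      ∀ l : Spec (.of S.R) ⟶ P, Spec.map (CommRingCat.ofHom (algebraMap S.R S.K)) ≫ l = S.i₁ →
        Set.range l ⊆ Set.range (Q k).ι := by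
    intro S
    let η : Spec (.of S.K) := IsLocalRing.closedPoint S.K
    obtain ⟨k, hk⟩ : ∃ k, S.i₁ η ∈ Q k := by
      have : S.i₁ η ∈ (⨆ k, Q k : P.Opens) := by rw [hcov]; trivial
      exact Opens.mem_iSup.mp this
    have hsub : ∀ z : Spec (.of S.K), z = η := fun z =>
      Subsingleton.elim (α := PrimeSpectrum S.K) z η
    have hrange : Set.range S.i₁ ⊆ Set.range (Q k).ι := by
      rintro _ ⟨z, rfl⟩
      rw [hsub z, Scheme.Opens.range_ι]
      exact hk
    refine ⟨k, IsOpenImmersion.lift (Q k).ι S.i₁ hrange, IsOpenImmersion.lift_fac _ _ _, ?_⟩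
    intro l hl
    rw [Scheme.Opens.range_ι]
    have hcl : IsClosed (l ⁻¹' (Q k : Set P)) := (hclosed k).preimage l.continuous
    have hξ : (Spec.map (CommRingCat.ofHom (algebraMap S.R S.K))) η ∈ l ⁻¹' (Q k : Set P) := by
      change l ((Spec.map (CommRingCat.ofHom (algebraMap S.R S.K))) η) ∈ Q k
      rw [← Scheme.Hom.comp_apply, hl]
      exact hk
    rintro _ ⟨z, rfl⟩
    have hz : z ∈ closure {(Spec.map (CommRingCat.ofHom (algebraMap S.R S.K))) η} := by
      rw [closure_generic_eq_univ]; trivial
    exact (hcl.closure_subset_iff.mpr (Set.singleton_subset_iff.mpr hξ)) hz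
  rw [ValuativeCriterion.iff]
  constructor
  · -- existence
    intro S
    obtain ⟨k, i₁', hi₁', -⟩ := key S
    have hfin := h1 k
    have huc : UniversallyClosed ((Q k).ι ≫ p) := inferInstance
    rw [UniversallyClosed.eq_valuativeCriterion] at huc
    let S' : ValuativeCommSq ((Q k).ι ≫ p) :=
      { R := S.R, K := S.K, i₁ := i₁', i₂ := S.i₂,
        commSq := ⟨by rw [← Category.assoc, hi₁', S.commSq.w]⟩ }
    obtain ⟨⟨l'⟩⟩ := huc.1 S'
    exact ⟨⟨{ l := l'.l ≫ (Q k).ι
              fac_left := by
                have := l'.fac_left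
                rw [← Category.assoc, this]
                exact hi₁'
              fac_right := by
                have := l'.fac_right
                rw [Category.assoc]
                exact this }⟩⟩
  · -- uniqueness
    intro S
    obtain ⟨k, i₁', hi₁', hfact⟩ := key S
    have hfin := h1 k
    have huni : ValuativeCriterion.Uniqueness ((Q k).ι ≫ p) := IsSeparated.valuativeCriterion _
    let S' : ValuativeCommSq ((Q k).ι ≫ p) :=
      { R := S.R, K := S.K, i₁ := i₁', i₂ := S.i₂,
        commSq := ⟨by rw [← Category.assoc, hi₁', S.commSq.w]⟩ }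
    have hS' := huni S'
    refine ⟨fun a b => ?_⟩
    let a' : S'.commSq.LiftStruct :=
      { l := IsOpenImmersion.lift (Q k).ι a.l (hfact a.l a.fac_left)
        fac_left := by
          rw [← cancel_mono (Q k).ι, Category.assoc, IsOpenImmersion.lift_fac]
          exact a.fac_left.trans hi₁'.symm
        fac_right := by
          rw [← Category.assoc, IsOpenImmersion.lift_fac]
          exact a.fac_right }
    let b' : S'.commSq.LiftStruct :=
      { l := IsOpenImmersion.lift (Q k).ι b.l (hfact b.l b.fac_left)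
        fac_left := by
          rw [← cancel_mono (Q k).ι, Category.assoc, IsOpenImmersion.lift_fac]
          exact b.fac_left.trans hi₁'.symm
        fac_right := by
          rw [← Category.assoc, IsOpenImmersion.lift_fac]
          exact b.fac_right }
    have hab : a' = b' := Subsingleton.elim a' b'
    have hl : a'.l = b'.l := congrArg CommSq.LiftStruct.l hab
    have ha : a'.l ≫ (Q k).ι = a.l := IsOpenImmersion.lift_fac _ _ _
    have hb : b'.l ≫ (Q k).ι = b.l := IsOpenImmersion.lift_fac _ _ _
    apply CommSq.LiftStruct.ext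
    rw [← ha, ← hb, hl]

end Groth.Agent.Lib.Helper1.EtStrat
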