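import Groth.Agent.Lib.Helper1.EtStrat1
import Groth.Agent.Lib.Helper6.FD7
import Groth.Agent.Lib.Helper14.EtaleLQF

/-!
# Stratification of a qcqs étale morphism into finite pieces (helper1)
-/

set_option autoImplicit false
set_option linter.unusedSectionVars false
set_option linter.style.haveILetI false
universe u

namespace Groth.Agent.Lib.Helper1.EtStrat

open AlgebraicGeometry CategoryTheory CategoryTheory.Limits TopologicalSpace Opposite Topology
open Groth.Agent.Lib.Helper6 Groth.Agent.Lib.Helper6.FD

/-- Every locally closed subset of a scheme is the range of an immersion. -/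
theorem exists_immersion_range_eq {X : Scheme.{u}} (E : Set X) (hE : IsLocallyClosed E) :
    ∃ (T : Scheme.{u}) (g : T ⟶ X), IsImmersion g ∧ Set.range g = E := by
  obtain ⟨W, Z, hW, hZ, rfl⟩ := hE
  let W' : X.Opens := ⟨W, hW⟩
  let Z' : Closeds (W' : Scheme.{u}) := ⟨W'.ι ⁻¹' Z, hZ.preimage W'.ι.continuous⟩
  let I := Scheme.IdealSheafData.vanishingIdeal Z'
  have hr : Set.range I.subschemeι = W'.ι ⁻¹' Z := by
    rw [Scheme.IdealSheafData.range_subschemeι, Scheme.IdealSheafData.coe_support_vanishingIdeal]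
    rfl
  refine ⟨I.subscheme, I.subschemeι ≫ W'.ι, inferInstance, ?_⟩
  ext x
  constructor
  · rintro ⟨y, rfl⟩
    rw [Scheme.Hom.comp_apply]
    have hy : I.subschemeι y ∈ W'.ι ⁻¹' Z := hr ▸ ⟨y, rfl⟩
    exact ⟨(I.subschemeι y).2, hy⟩
  · rintro ⟨hxW, hxZ⟩
    have hx' : (⟨x, hxW⟩ : W') ∈ Set.range I.subschemeι := by
      rw [hr]
      exact hxZ
    obtain ⟨y, hy⟩ := hx'
    refine ⟨y, ?_⟩
    rw [Scheme.Hom.comp_apply, hy]
    rfl

/-- A finite intersection of locally closed sets is locally closed. -/
theorem isLocallyClosed_iInter {X : Type*} [TopologicalSpace X] {ι : Type*} [Finite ι]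
    (s : ι → Set X) (h : ∀ i, IsLocallyClosed (s i)) : IsLocallyClosed (⋂ i, s i) := by
  classical
  haveI := Fintype.ofFinite ι
  have key : ∀ t : Finset ι, IsLocallyClosed (⋂ i ∈ t, s i) := by
    intro t
    induction t using Finset.induction_on with
    | empty => simpa using isOpen_univ.isLocallyClosed
    | insert a t _ ih =>
      rw [Finset.set_biInter_insert]
      exact (h a).inter ih
  have := key Finset.univ
  simpa using this

/-- Level sets of the fibre degree are locally closed. -/
theorem isLocallyClosed_fdeg_eq {X S : Scheme.{u}} (f : X ⟶ S) [Flat f]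
    [LocallyOfFinitePresentation f] [IsSeparated f] [LocallyQuasiFinite f] [QuasiCompact f]
    (r : ℕ) : IsLocallyClosed {s : S | fdeg f s = r} := by
  have hc : ∀ r', IsClosed {s : S | fdeg f s ≤ r'} := fun r' =>
    isClosed_fdeg_le f (fun s => f.finite_preimage_singleton s) (FinFib.of_quasiCompact f) r'
  have hc2 : IsClosed {s : S | fdeg f s + 1 ≤ r} := by
    rcases r with _ | r
    · convert isClosed_empty using 1
      ext s
      simp
    · convert hc r using 1
      ext s
      simp
  have : {s : S | fdeg f s = r} = {s : S | fdeg f s ≤ r} ∩ {s : S | fdeg f s + 1 ≤ r}ᶜ := by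
    ext s
    simp only [Set.mem_ofPred_eq, Set.mem_inter_iff, Set.mem_compl_iff]
    omega
  rw [this]
  exact (hc r).isLocallyClosed.inter hc2.isOpen_compl.isLocallyClosed

/-- The restriction of the base change of `j` to the preimage of an open `V` of the source is
finite as soon as the fibre degree of `V ⟶ X` is constant along `g`. -/
theorem isFinite_restrict_of_fdeg {U X T : Scheme.{u}} (j : U ⟶ X) (V : U.Opens)
    [Flat (V.ι ≫ j)] [LocallyOfFinitePresentation (V.ι ≫ j)] [IsSeparated (V.ι ≫ j)]
    [LocallyQuasiFinite (V.ι ≫ j)] [QuasiCompact (V.ι ≫ j)] (g : T ⟶ X) (r : ℕ)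
    (h : ∀ t : T, fdeg (V.ι ≫ j) (g t) = r) :
    IsFinite (((pullback.fst j g) ⁻¹ᵁ V).ι ≫ pullback.snd j g) := by
  have hF : IsFinite (pullback.snd (V.ι ≫ j) g) :=
    ((isFinLocFreeOfDeg_iff (V.ι ≫ j) (fun s => (V.ι ≫ j).finite_preimage_singleton s)
      (FinFib.of_quasiCompact _) T g r).mpr h).1.1
  have sq1 : IsPullback ((pullback.fst j g) ∣_ V) ((pullback.fst j g) ⁻¹ᵁ V).ι V.ι
      (pullback.fst j g) := isPullback_morphismRestrict (pullback.fst j g) V
  have sq2 : IsPullback (pullback.fst j g) (pullback.snd j g) j g := IsPullback.of_hasPullback j g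
  have sq := sq1.paste_vert sq2
  have hiso := sq.isoPullback_hom_snd
  rw [← hiso]
  infer_instance

end Groth.Agent.Lib.Helper1.EtStrat
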