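import Groth.Agent.Lib.Helper1.EtStrat2

/-!
# Stratification of a qcqs étale morphism into finite pieces: main theorem (helper1)
-/

set_option autoImplicit false
set_option linter.unusedSectionVars false
set_option linter.style.haveILetI false
universe u

namespace Groth.Agent.Lib.Helper1.EtStrat

open AlgebraicGeometry CategoryTheory CategoryTheory.Limits TopologicalSpace Opposite Topology
open Groth.Agent.Lib.Helper6 Groth.Agent.Lib.Helper6.FD

theorem isSeparated_of_le_affine {U X : Scheme.{u}} (j : U ⟶ X) (V W : U.Opens)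
    (hW : IsAffineOpen W) (h : V ≤ W) : IsSeparated (V.ι ≫ j) := by
  have : IsAffine (W : Scheme.{u}) := hW
  have h1 : V.ι ≫ j = U.homOfLE h ≫ (W.ι ≫ j) := by
    rw [← Category.assoc, Scheme.homOfLE_ι]
  rw [h1]
  infer_instance

set_option maxHeartbeats 1600000 in
theorem etale_stratified_finite {U X : Scheme.{u}} [CompactSpace U] [QuasiSeparatedSpace U]
    [CompactSpace X] [QuasiSeparatedSpace X] (j : U ⟶ X) [Etale j] :
    ∃ (n : ℕ) (T : Fin n → Scheme.{u}) (g : ∀ i, T i ⟶ X),
      (∀ i, IsImmersion (g i)) ∧ (∀ i, Topology.IsConstructible (Set.range (g i))) ∧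
      Pairwise (fun i i' => Disjoint (Set.range (g i)) (Set.range (g i'))) ∧
      (⋃ i, Set.range (g i)) = Set.univ ∧ ∀ i, IsFinite (pullback.snd j (g i)) := by
  classical
  -- a finite affine cover of `U`
  have hex : ∀ x : U, ∃ V : U.Opens, IsAffineOpen V ∧ x ∈ V := by
    intro x
    obtain ⟨_, ⟨V, hV, rfl⟩, hxV, -⟩ :=
      U.isBasis_affineOpens.exists_subset_of_mem_open (Set.mem_univ x) isOpen_univ
    exact ⟨V, hV, hxV⟩
  choose V₀ hV₀1 hV₀2 using hex
  obtain ⟨t, ht⟩ := isCompact_univ.elim_finite_subcover (fun x => (V₀ x : Set U))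
    (fun x => (V₀ x).isOpen) (fun x _ => Set.mem_iUnion.mpr ⟨x, hV₀2 x⟩)
  let W : t → U.Opens := fun k => V₀ k.1
  have hWaff : ∀ k, IsAffineOpen (W k) := fun k => hV₀1 _
  have hWcov : ⨆ k, W k = ⊤ := by
    rw [eq_top_iff]
    intro y _
    obtain ⟨x, hx⟩ := Set.mem_iUnion.mp (ht (Set.mem_univ y))
    obtain ⟨hxt, hyx⟩ := Set.mem_iUnion.mp hx
    exact Opens.mem_iSup.mpr ⟨⟨x, hxt⟩, hyx⟩
  -- the family of pieces
  let A := t ⊕ t × t
  let V : A → U.Opens := Sum.elim W (fun kl => W kl.1 ⊓ W kl.2)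
  have hVle : ∀ a : A, ∃ k, V a ≤ W k := by
    rintro (k | ⟨k, l⟩)
    · exact ⟨k, le_rfl⟩
    · exact ⟨k, inf_le_left⟩
  have hVc : ∀ a : A, CompactSpace (V a : Scheme.{u}) := by
    rintro (k | ⟨k, l⟩)
    · exact isCompact_iff_compactSpace.mp (hWaff k).isCompact
    · exact isCompact_iff_compactSpace.mp
        (QuasiSeparatedSpace.inter_isCompact _ _ (W k).isOpen (hWaff k).isCompact (W l).isOpen
          (hWaff l).isCompact)
  have hEt : ∀ a, Etale ((V a).ι ≫ j) := fun a => inferInstance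
  have hFlat : ∀ a, Flat ((V a).ι ≫ j) := fun a => inferInstance
  have hLFP : ∀ a, LocallyOfFinitePresentation ((V a).ι ≫ j) := fun a => inferInstance
  have hLQF : ∀ a, LocallyQuasiFinite ((V a).ι ≫ j) := fun a =>
    Groth.Agent.Lib.Helper14.AS.etale_locallyQuasiFinite _
  have hSep : ∀ a, IsSeparated ((V a).ι ≫ j) := by
    intro a
    obtain ⟨k, hk⟩ := hVle a
    exact isSeparated_of_le_affine j (V a) (W k) (hWaff k) hk
  have hQC : ∀ a, QuasiCompact ((V a).ι ≫ j) := by
    intro a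
    have := hVc a
    infer_instance
  -- the degree vector
  let Φ : X → (A → ℕ) := fun x a => fdeg ((V a).ι ≫ j) x
  have H : ∀ x, ∃ C : Set X, IsConstructible C ∧ x ∈ C ∧ ∀ x' ∈ C, Φ x' = Φ x := by
    intro x
    have hC : ∀ a, ∃ C : Set X, IsConstructible C ∧ x ∈ C ∧
        ∀ x' ∈ C, fdeg ((V a).ι ≫ j) x' = fdeg ((V a).ι ≫ j) x := by
      intro a
      haveI := hFlat a; haveI := hLFP a; haveI := hLQF a; haveI := hSep a; haveI := hQC a
      exact exists_isConstructible_fdeg_eq ((V a).ι ≫ j) x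
    choose C hC1 hC2 hC3 using hC
    refine ⟨⋂ a, C a, IsConstructible.iInter hC1, Set.mem_iInter.mpr hC2, ?_⟩
    intro x' hx'
    funext a
    exact hC3 a x' (Set.mem_iInter.mp hx' a)
  obtain ⟨hfinrange, hcons⟩ := Wt.isConstructible_levelSet_of_forall_exists Φ H
  let s : Finset (A → ℕ) := hfinrange.toFinset
  let e : s ≃ Fin s.card := s.equivFin
  let δ : Fin s.card → (A → ℕ) := fun i => (e.symm i).1
  let E : Fin s.card → Set X := fun i => {x | Φ x = δ i}
  have hlc : ∀ i, IsLocallyClosed (E i) := by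
    intro i
    have : E i = ⋂ a, {x : X | fdeg ((V a).ι ≫ j) x = δ i a} := by
      ext x
      simp only [E, Set.mem_ofPred_eq, Set.mem_iInter]
      exact funext_iff
    rw [this]
    apply isLocallyClosed_iInter
    intro a
    haveI := hFlat a; haveI := hLFP a; haveI := hLQF a; haveI := hSep a; haveI := hQC a
    exact isLocallyClosed_fdeg_eq ((V a).ι ≫ j) (δ i a)
  choose T g himm hrange using fun i => exists_immersion_range_eq (E i) (hlc i)
  have hδinj : Function.Injective δ := by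
    intro i i' h
    have : e.symm i = e.symm i' := Subtype.ext h
    exact e.symm.injective this
  refine ⟨s.card, T, g, himm, ?_, ?_, ?_, ?_⟩
  · intro i
    rw [hrange i]
    exact hcons (δ i)
  · intro i i' hii'
    rw [hrange i, hrange i', Set.disjoint_left]
    intro x hx hx'
    apply hii'
    apply hδinj
    exact (hx : Φ x = δ i).symm.trans hx'
  · rw [Set.eq_univ_iff_forall]
    intro x
    have hx : Φ x ∈ s := hfinrange.mem_toFinset.mpr ⟨x, rfl⟩
    refine Set.mem_iUnion.mpr ⟨e ⟨Φ x, hx⟩, ?_⟩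
    rw [hrange]
    change Φ x = (e.symm (e ⟨Φ x, hx⟩)).1
    rw [Equiv.symm_apply_apply]
  · intro i
    have hval : ∀ (a : A) (y : T i), fdeg ((V a).ι ≫ j) (g i y) = δ i a := by
      intro a y
      have hy : g i y ∈ E i := by rw [← hrange i]; exact ⟨y, rfl⟩
      exact congrFun hy a
    haveI : LocallyQuasiFinite (pullback.snd j (g i)) :=
      Groth.Agent.Lib.Helper14.AS.etale_locallyQuasiFinite _
    apply isFinite_of_finite_cover (pullback.snd j (g i))
      (fun k : t => (pullback.fst j (g i)) ⁻¹ᵁ W k)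
    · rw [← Scheme.Hom.preimage_iSup, hWcov, Scheme.Hom.preimage_top]
    · intro k
      haveI : Flat ((W k).ι ≫ j) := hFlat (Sum.inl k)
      haveI : LocallyOfFinitePresentation ((W k).ι ≫ j) := hLFP (Sum.inl k)
      haveI : LocallyQuasiFinite ((W k).ι ≫ j) := hLQF (Sum.inl k)
      haveI : IsSeparated ((W k).ι ≫ j) := hSep (Sum.inl k)
      haveI : QuasiCompact ((W k).ι ≫ j) := hQC (Sum.inl k)
      exact isFinite_restrict_of_fdeg j (W k) (g i) (δ i (Sum.inl k))
        (fun y => hval (Sum.inl k) y)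
    · intro k l
      haveI : Flat ((W k ⊓ W l).ι ≫ j) := hFlat (Sum.inr (k, l))
      haveI : LocallyOfFinitePresentation ((W k ⊓ W l).ι ≫ j) := hLFP (Sum.inr (k, l))
      haveI : LocallyQuasiFinite ((W k ⊓ W l).ι ≫ j) := hLQF (Sum.inr (k, l))
      haveI : IsSeparated ((W k ⊓ W l).ι ≫ j) := hSep (Sum.inr (k, l))
      haveI : QuasiCompact ((W k ⊓ W l).ι ≫ j) := hQC (Sum.inr (k, l))
      exact isFinite_restrict_of_fdeg j (W k ⊓ W l) (g i) (δ i (Sum.inr (k, l)))
        (fun y => hval (Sum.inr (k, l)) y)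

end Groth.Agent.Lib.Helper1.EtStrat
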