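import Groth.Agent.Lib.Helper1.ExalGen2
import Mathlib.RingTheory.MvPolynomial.Ideal
import Mathlib.RingTheory.Ideal.Cotangent
import Mathlib.RingTheory.Nakayama
import Mathlib.RingTheory.Artinian.Ring
import Mathlib.RingTheory.Polynomial.Basic
import Mathlib.LinearAlgebra.Basis.VectorSpace

/-!
# A non-trivial extension of an Artinian local algebra by its residue field (helper1)
-/

universe u

namespace Groth.Agent.Lib.Helper1.ExalArt

open IsLocalRing Groth.Agent.Lib.Helper1.ExalGen

section Gens

variable (A : Type u) [CommRing A] [IsLocalRing A] [IsNoetherianRing A]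

/-- minimal generators of the maximal ideal of a Noetherian local ring -/
lemma exists_gens :
    ∃ (d : ℕ) (a : Fin d → A), (∀ i, a i ∈ maximalIdeal A) ∧
      Ideal.span (Set.range a) = maximalIdeal A ∧
      ∀ c : Fin d → A, (∑ i, c i * a i) ∈ maximalIdeal A ^ 2 → ∀ i, c i ∈ maximalIdeal A := by
  classical
  let b := Module.finBasis (ResidueField A) (CotangentSpace A)
  have hlift : ∀ i, ∃ x : maximalIdeal A, (maximalIdeal A).toCotangent x = b i :=
    fun i => (maximalIdeal A).toCotangent_surjective (b i)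
  choose a' ha' using hlift
  refine ⟨_, fun i => (a' i : A), fun i => (a' i).2, ?_, ?_⟩
  · have h1 : Submodule.span A (Set.range a') = ⊤ := by
      rw [← CotangentSpace.span_image_eq_top_iff, ← Set.range_comp]
      have : (maximalIdeal A).toCotangent ∘ a' = b := funext ha'
      rw [this]
      exact b.span_eq
    have h2 := congrArg (Submodule.map (maximalIdeal A).subtype) h1
    rw [Submodule.map_span, Submodule.map_top, Submodule.range_subtype, ← Set.range_comp] at h2
    exact h2
  · intro c hc i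
    have hmem : (∑ i, c i * (a' i : A)) ∈ maximalIdeal A :=
      Ideal.sum_mem _ fun i _ => Ideal.mul_mem_left _ _ (a' i).2
    have h1 : (maximalIdeal A).toCotangent ⟨∑ i, c i * (a' i : A), hmem⟩ = 0 := by
      rw [Ideal.toCotangent_eq_zero]
      exact hc
    have h2 : (⟨∑ i, c i * (a' i : A), hmem⟩ : maximalIdeal A) = ∑ i, c i • a' i := by
      apply Subtype.ext
      rw [Submodule.coe_sum]
      rfl
    rw [h2, map_sum] at h1
    have h3 : ∑ i, residue A (c i) • b i = 0 := by
      rw [← h1]
      refine Finset.sum_congr rfl fun i _ => ?_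
      rw [map_smul, ha']
      rfl
    have h4 := Fintype.linearIndependent_iff.mp b.linearIndependent _ h3 i
    exact (residue_eq_zero_iff _).mp h4

end Gens

section Surj

variable {k : Type u} [Field k] {A : Type u} [CommRing A] [Algebra k A] [IsLocalRing A]

/-- approximation step: an element of `m^j` is, modulo `m^(j+1)`, in the image of the polynomials -/
lemma exists_mem_range_sub_mem (hres : ∀ x : A, ∃ c : k, x - algebraMap k A c ∈ maximalIdeal A)
    {d : ℕ} (a : Fin d → A) (hspan : Ideal.span (Set.range a) = maximalIdeal A) (j : ℕ) :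
    ∀ z ∈ maximalIdeal A ^ j, ∃ s ∈ (MvPolynomial.aeval a : MvPolynomial (Fin d) k →ₐ[k] A).range,
      s ∈ maximalIdeal A ^ j ∧ z - s ∈ maximalIdeal A ^ (j + 1) := by
  induction j with
  | zero =>
    intro z _
    obtain ⟨c, hc⟩ := hres z
    refine ⟨algebraMap k A c, Subalgebra.algebraMap_mem _ c, by simp, ?_⟩
    rwa [zero_add, pow_one]
  | succ j ih =>
    intro z hz
    rw [pow_succ] at hz
    -- the property, quantified over the first factor
    have key : ∀ y ∈ maximalIdeal A, ∀ x ∈ maximalIdeal A ^ j,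
        ∃ s ∈ (MvPolynomial.aeval a : MvPolynomial (Fin d) k →ₐ[k] A).range,
          s ∈ maximalIdeal A ^ (j + 1) ∧ x * y - s ∈ maximalIdeal A ^ (j + 1 + 1) := by
      intro y hy
      rw [← hspan] at hy
      refine Submodule.span_induction ?_ ?_ ?_ ?_ hy
      · rintro _ ⟨i, rfl⟩ x hx
        obtain ⟨s, hsS, hsj, hxs⟩ := ih x hx
        have hai : a i ∈ maximalIdeal A := by
          rw [← hspan]
          exact Ideal.subset_span ⟨i, rfl⟩
        refine ⟨s * a i, Subalgebra.mul_mem _ hsS ⟨MvPolynomial.X i, by simp⟩, ?_, ?_⟩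
        · rw [pow_succ]
          exact Ideal.mul_mem_mul hsj hai
        · rw [← sub_mul, pow_succ (maximalIdeal A) (j + 1)]
          exact Ideal.mul_mem_mul hxs hai
      · intro x _
        exact ⟨0, Subalgebra.zero_mem _, Ideal.zero_mem _, by simp⟩
      · intro y₁ y₂ _ _ h₁ h₂ x hx
        obtain ⟨s₁, hs₁, hs₁', hx₁⟩ := h₁ x hx
        obtain ⟨s₂, hs₂, hs₂', hx₂⟩ := h₂ x hx
        refine ⟨s₁ + s₂, Subalgebra.add_mem _ hs₁ hs₂, Ideal.add_mem _ hs₁' hs₂', ?_⟩
        have : x * (y₁ + y₂) - (s₁ + s₂) = (x * y₁ - s₁) + (x * y₂ - s₂) := by ring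
        rw [this]
        exact Ideal.add_mem _ hx₁ hx₂
      · intro r y₁ _ h₁ x hx
        obtain ⟨s, hs, hs', hxs⟩ := h₁ (x * r) (Ideal.mul_mem_right _ _ hx)
        refine ⟨s, hs, hs', ?_⟩
        have : x * (r • y₁) - s = x * r * y₁ - s := by rw [smul_eq_mul]; ring
        rw [this]
        exact hxs
    refine Submodule.mul_induction_on hz ?_ ?_
    · intro x hx y hy
      exact key y hy x hx
    · intro z₁ z₂ h₁ h₂
      obtain ⟨s₁, hs₁, hs₁', hx₁⟩ := h₁
      obtain ⟨s₂, hs₂, hs₂', hx₂⟩ := h₂
      refine ⟨s₁ + s₂, Subalgebra.add_mem _ hs₁ hs₂, Ideal.add_mem _ hs₁' hs₂', ?_⟩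
      have : z₁ + z₂ - (s₁ + s₂) = (z₁ - s₁) + (z₂ - s₂) := by ring
      rw [this]
      exact Ideal.add_mem _ hx₁ hx₂

/-- the polynomial ring on generators of a nilpotent maximal ideal surjects onto the ring -/
lemma aeval_surjective (hres : ∀ x : A, ∃ c : k, x - algebraMap k A c ∈ maximalIdeal A)
    {d : ℕ} (a : Fin d → A) (hspan : Ideal.span (Set.range a) = maximalIdeal A)
    {N : ℕ} (hN : maximalIdeal A ^ N = ⊥) :
    Function.Surjective (MvPolynomial.aeval a : MvPolynomial (Fin d) k →ₐ[k] A) := by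
  have h : ∀ i j : ℕ, i + j = N → ∀ z ∈ maximalIdeal A ^ j,
      z ∈ (MvPolynomial.aeval a : MvPolynomial (Fin d) k →ₐ[k] A).range := by
    intro i
    induction i with
    | zero =>
      intro j hj z hz
      rw [zero_add] at hj
      rw [hj, hN, Ideal.mem_bot] at hz
      rw [hz]
      exact Subalgebra.zero_mem _
    | succ i ih =>
      intro j hj z hz
      obtain ⟨s, hs, -, hzs⟩ := exists_mem_range_sub_mem hres a hspan j z hz
      have h1 := ih (j + 1) (by omega) _ hzs
      have : z = (z - s) + s := by ring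
      rw [this]
      exact Subalgebra.add_mem _ h1 hs
  intro z
  have := h N 0 (by omega) z (by simp)
  exact this

end Surj

section Main

variable {k : Type u} [Field k] {A : Type u} [CommRing A] [Algebra k A] [IsLocalRing A]
  [IsArtinianRing A]

/-- the abstract form: `A` is presented by the polynomial ring on minimal generators of its maximal ideal -/
theorem exists_not_isTrivial_aux {d : ℕ} (a : Fin d → A)
    [Algebra (MvPolynomial (Fin d) k) A] [IsScalarTower k (MvPolynomial (Fin d) k) A]
    (halg : ∀ r : MvPolynomial (Fin d) k,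
      algebraMap (MvPolynomial (Fin d) k) A r = MvPolynomial.aeval a r)
    (hπ : Function.Surjective (MvPolynomial.aeval a : MvPolynomial (Fin d) k →ₐ[k] A))
    (ham : ∀ i, a i ∈ maximalIdeal A)
    (hind : ∀ c : Fin d → A, (∑ i, c i * a i) ∈ maximalIdeal A ^ 2 → ∀ i, c i ∈ maximalIdeal A)
    {N : ℕ} (hN : maximalIdeal A ^ N = ⊥)
    (hA : maximalIdeal A ≠ ⊥) :
    ∃ X : Exal.Ext k A (ResidueField A), ¬ X.IsTrivial := by
  classical
  have hsurj : Function.Surjective (algebraMap (MvPolynomial (Fin d) k) A) := by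
    intro x
    obtain ⟨f, hf⟩ := hπ x
    exact ⟨f, by rw [halg, hf]⟩
  have hsmul : ∀ (r : MvPolynomial (Fin d) k) (z : ResidueField A),
      r • z = residue A (MvPolynomial.aeval a r) * z := by
    intro r z
    rw [← algebraMap_smul A r z, halg, Algebra.smul_def]
    rfl
  -- `𝔫` maps into `m`
  have h𝔫m : ∀ f ∈ MvPolynomial.idealOfVars (Fin d) k,
      MvPolynomial.aeval a f ∈ maximalIdeal A := by
    have : MvPolynomial.idealOfVars (Fin d) k ≤
        (maximalIdeal A).comap (MvPolynomial.aeval a : MvPolynomial (Fin d) k →ₐ[k] A) := by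
      refine Ideal.span_le.mpr ?_
      rintro _ ⟨i, rfl⟩
      change (MvPolynomial.aeval a : MvPolynomial (Fin d) k →ₐ[k] A) (MvPolynomial.X i) ∈
        maximalIdeal A
      rw [MvPolynomial.aeval_X]
      exact ham i
    exact fun f hf => this hf
  have hk : ∀ c : k, algebraMap k A c ∈ maximalIdeal A → c = 0 := by
    intro c hc
    by_contra h
    exact (IsLocalRing.mem_maximalIdeal _).mp hc ((Ne.isUnit h).map (algebraMap k A))
  have hdecomp : ∀ r : MvPolynomial (Fin d) k,
      r - MvPolynomial.C (MvPolynomial.coeff 0 r) ∈ MvPolynomial.idealOfVars (Fin d) k := by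
    intro r
    rw [← pow_one (MvPolynomial.idealOfVars (Fin d) k), MvPolynomial.mem_pow_idealOfVars_iff']
    intro x hx
    have hx0 : x = 0 := by
      rw [← Finsupp.degree_eq_zero_iff]
      omega
    rw [hx0, MvPolynomial.coeff_sub, MvPolynomial.coeff_zero_C, sub_self]
  have hmem𝔫 : ∀ f : MvPolynomial (Fin d) k, MvPolynomial.aeval a f ∈ maximalIdeal A →
      f ∈ MvPolynomial.idealOfVars (Fin d) k := by
    intro f hf
    have h1 := hdecomp f
    have h2 : algebraMap k A (MvPolynomial.coeff 0 f) ∈ maximalIdeal A := by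
      have h3 := h𝔫m _ h1
      rw [map_sub, MvPolynomial.aeval_C] at h3
      have : algebraMap k A (MvPolynomial.coeff 0 f) =
          MvPolynomial.aeval a f -
            (MvPolynomial.aeval a f - algebraMap k A (MvPolynomial.coeff 0 f)) := by ring
      rw [this]
      exact Ideal.sub_mem _ hf h3
    rw [hk _ h2, map_zero, sub_zero] at h1
    exact h1
  -- the kernel lies in `𝔫²`
  have hI : RingHom.ker (algebraMap (MvPolynomial (Fin d) k) A) ≤
      MvPolynomial.idealOfVars (Fin d) k ^ 2 := by
    intro f hf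
    have hf0 : MvPolynomial.aeval a f = 0 := by rw [← halg]; exact hf
    have hf𝔫 : f ∈ MvPolynomial.idealOfVars (Fin d) k := by
      apply hmem𝔫
      rw [hf0]
      exact Ideal.zero_mem _
    obtain ⟨c, hc⟩ := (Ideal.mem_span_range_iff_exists_fun).mp hf𝔫
    have h1 : ∑ i, MvPolynomial.aeval a (c i) * a i = 0 := by
      rw [← hf0, ← hc, map_sum]
      refine Finset.sum_congr rfl fun i _ => ?_
      rw [map_mul, MvPolynomial.aeval_X]
    have h2 := hind (fun i => MvPolynomial.aeval a (c i)) (by rw [h1]; exact Ideal.zero_mem _)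
    rw [← hc, pow_two]
    refine Ideal.sum_mem _ fun i _ => ?_
    exact Ideal.mul_mem_mul (hmem𝔫 _ (h2 i)) (Ideal.subset_span ⟨i, rfl⟩)
  -- the kernel is nonzero
  have hIne : RingHom.ker (algebraMap (MvPolynomial (Fin d) k) A) ≠ ⊥ := by
    intro hbot
    obtain ⟨x, hxm, hx0⟩ := Submodule.exists_mem_ne_zero_of_ne_bot hA
    obtain ⟨f, rfl⟩ := hπ x
    have hfN : f ^ N ∈ RingHom.ker (algebraMap (MvPolynomial (Fin d) k) A) := by
      change algebraMap (MvPolynomial (Fin d) k) A (f ^ N) = 0
      rw [halg, map_pow]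
      have : MvPolynomial.aeval a f ^ N ∈ maximalIdeal A ^ N := Ideal.pow_mem_pow hxm N
      rwa [hN, Ideal.mem_bot] at this
    rw [hbot, Ideal.mem_bot] at hfN
    have hf0 : f = 0 := IsNilpotent.eq_zero ⟨N, hfN⟩
    exact hx0 (by rw [hf0, map_zero])
  -- Nakayama
  have hnot : ¬ RingHom.ker (algebraMap (MvPolynomial (Fin d) k) A) ≤
      MvPolynomial.idealOfVars (Fin d) k * RingHom.ker (algebraMap (MvPolynomial (Fin d) k) A) := by
    intro hle
    have hfg : (RingHom.ker (algebraMap (MvPolynomial (Fin d) k) A)).FG :=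
      IsNoetherian.noetherian _
    obtain ⟨r, hr1, hr2⟩ := Submodule.exists_sub_one_mem_and_smul_eq_zero_of_fg_of_le_smul
      (MvPolynomial.idealOfVars (Fin d) k) (RingHom.ker (algebraMap (MvPolynomial (Fin d) k) A)) hfg
      (by rwa [smul_eq_mul])
    obtain ⟨n, hnI, hn0⟩ := Submodule.exists_mem_ne_zero_of_ne_bot hIne
    have hr0 : r = 0 := by
      have := hr2 n hnI
      rw [smul_eq_mul, mul_eq_zero] at this
      exact this.resolve_right hn0
    rw [hr0, zero_sub] at hr1
    have h1 : MvPolynomial.aeval a (-1 : MvPolynomial (Fin d) k) ∈ maximalIdeal A := h𝔫m _ hr1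
    rw [map_neg, map_one] at h1
    have : (1 : A) ∈ maximalIdeal A := (Ideal.neg_mem_iff (maximalIdeal A)).mp h1
    exact (Ideal.ne_top_iff_one _).mp (IsLocalRing.maximalIdeal.isMaximal A).ne_top this
  obtain ⟨f₀, hf₀I, hf₀⟩ := SetLike.not_le_iff_exists.mp hnot
  obtain ⟨ℓ, hℓ1, hℓ2⟩ := Submodule.exists_le_ker_of_notMem (K := k) (V := MvPolynomial (Fin d) k)
    (p := (MvPolynomial.idealOfVars (Fin d) k *
      RingHom.ker (algebraMap (MvPolynomial (Fin d) k) A)).restrictScalars k) (v := f₀) hf₀
  let δ : RingHom.ker (algebraMap (MvPolynomial (Fin d) k) A) →ₗ[MvPolynomial (Fin d) k]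
      ResidueField A :=
    { toFun := fun x => algebraMap k (ResidueField A) (ℓ (x : MvPolynomial (Fin d) k))
      map_add' := fun x y => by rw [Submodule.coe_add, map_add, map_add]
      map_smul' := fun r x => by
        change algebraMap k (ResidueField A) (ℓ (r * (x : MvPolynomial (Fin d) k))) =
          r • algebraMap k (ResidueField A) (ℓ (x : MvPolynomial (Fin d) k))
        rw [hsmul]
        have h1 : r * (x : MvPolynomial (Fin d) k) =
            MvPolynomial.coeff 0 r • (x : MvPolynomial (Fin d) k) +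
              (r - MvPolynomial.C (MvPolynomial.coeff 0 r)) * (x : MvPolynomial (Fin d) k) := by
          rw [MvPolynomial.smul_eq_C_mul]
          ring
        have h2 : ℓ ((r - MvPolynomial.C (MvPolynomial.coeff 0 r)) *
            (x : MvPolynomial (Fin d) k)) = 0 :=
          hℓ2 (Ideal.mul_mem_mul (hdecomp r) x.2)
        have h3 : residue A (MvPolynomial.aeval a r) =
            algebraMap k (ResidueField A) (MvPolynomial.coeff 0 r) := by
          have h4 : MvPolynomial.aeval a r = algebraMap k A (MvPolynomial.coeff 0 r) +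
              MvPolynomial.aeval a (r - MvPolynomial.C (MvPolynomial.coeff 0 r)) := by
            rw [map_sub, MvPolynomial.aeval_C]
            ring
          rw [h4, map_add, (residue_eq_zero_iff _).mpr (h𝔫m _ (hdecomp r)), add_zero]
          rfl
        rw [h1, map_add, h2, add_zero, map_smul, smul_eq_mul, map_mul, h3] }
  have hδ : δ ≠ 0 := by
    intro h0
    have := LinearMap.congr_fun h0 ⟨f₀, hf₀I⟩
    change algebraMap k (ResidueField A) (ℓ f₀) = 0 at this
    rw [map_eq_zero] at this
    exact hℓ1 this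
  refine ⟨ExalGen.ext k hsurj δ, ?_⟩
  refine not_isTrivial_ext_of_le_sq hsurj δ hδ (MvPolynomial.idealOfVars (Fin d) k) ?_ hI
  intro r hr z
  rw [hsmul, (residue_eq_zero_iff _).mpr (h𝔫m r hr), zero_mul]

/-- An Artinian local `k`-algebra with residue field `k` which is not a field has a non-trivial
`k`-extension by its residue field. -/
theorem exists_not_isTrivial
    (hres : ∀ a : A, ∃ c : k, a - algebraMap k A c ∈ maximalIdeal A)
    (hA : maximalIdeal A ≠ ⊥) :
    ∃ X : Exal.Ext k A (ResidueField A), ¬ X.IsTrivial := by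
  obtain ⟨d, a, ham, hspan, hind⟩ := exists_gens A
  obtain ⟨N, hN⟩ : ∃ N, maximalIdeal A ^ N = ⊥ := by
    have := IsArtinianRing.isNilpotent_jacobson_bot (R := A)
    rwa [IsLocalRing.jacobson_eq_maximalIdeal ⊥ bot_ne_top] at this
  have hπ : Function.Surjective (MvPolynomial.aeval a : MvPolynomial (Fin d) k →ₐ[k] A) :=
    aeval_surjective hres a hspan hN
  let _ : Algebra (MvPolynomial (Fin d) k) A :=
    (MvPolynomial.aeval a : MvPolynomial (Fin d) k →ₐ[k] A).toRingHom.toAlgebra
  have _ : IsScalarTower k (MvPolynomial (Fin d) k) A :=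
    IsScalarTower.of_algebraMap_eq
      (fun c => ((MvPolynomial.aeval a : MvPolynomial (Fin d) k →ₐ[k] A).commutes c).symm)
  exact exists_not_isTrivial_aux a (fun _ => rfl) hπ ham hind hN hA

end Main

end Groth.Agent.Lib.Helper1.ExalArt
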