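import Groth.Agent.Lib.Helper1.ExalGen

/-!
# Triviality of the extension attached to `δ` (helper1)

If the extension `(R ⊕ M) ⧸ {(x, -δ x)}` of `B = R/I` by `M` is trivial, then `δ` is the restriction to `I`
of a derivation `R → M`.
-/

universe u

namespace Groth.Agent.Lib.Helper1.ExalGen

open Groth.Agent.Lib.Helper10.ExalLib

attribute [local instance] Exal.opModule Exal.isCentralScalar_opModule

section Trivial

variable {A R B M : Type u} [CommRing A] [CommRing R] [CommRing B] [Algebra A R] [Algebra A B]
  [Algebra R B] [IsScalarTower A R B] [AddCommGroup M] [Module B M] [Module R M] [IsScalarTower R B M]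

/-- Two lifts of `R → B` to the middle ring of an extension differ by a derivation. -/
lemma exists_derivation_of_lifts (X : Exal.Ext A B M) (u u' : R →ₐ[A] X.E)
    (hu : ∀ r, X.proj (u r) = algebraMap R B r) (hu' : ∀ r, X.proj (u' r) = algebraMap R B r) :
    ∃ D : R → M, (∀ x y, D (x + y) = D x + D y) ∧
      (∀ x y, D (x * y) = algebraMap R B x • D y + algebraMap R B y • D x) ∧
      (∀ a : A, D (algebraMap A R a) = 0) ∧
      ∀ r, X.incl (D r) = u r - u' r := by
  have h0 : ∀ r, X.proj (u r - u' r) = 0 := fun r => by rw [map_sub, hu, hu', sub_self]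
  refine ⟨fun r => X.kerLift (u r - u' r) (h0 r), ?_, ?_, ?_, ?_⟩
  · intro x y
    apply X.isExtension.incl_injective
    rw [map_add, X.incl_kerLift, X.incl_kerLift, X.incl_kerLift, map_add, map_add]
    abel
  · intro x y
    apply X.isExtension.incl_injective
    have h1 : X.incl (algebraMap R B x • X.kerLift (u y - u' y) (h0 y)) =
        u x * X.incl (X.kerLift (u y - u' y) (h0 y)) := by
      rw [X.isExtension.mul_incl, hu]
    have h2 : X.incl (algebraMap R B y • X.kerLift (u x - u' x) (h0 x)) =
        u' y * X.incl (X.kerLift (u x - u' x) (h0 x)) := by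
      rw [X.isExtension.mul_incl, hu']
    rw [map_add, h1, h2, X.incl_kerLift, X.incl_kerLift, X.incl_kerLift, map_mul, map_mul]
    ring
  · intro a
    apply X.isExtension.incl_injective
    rw [X.incl_kerLift, AlgHom.commutes, AlgHom.commutes, sub_self, map_zero]
  · intro r
    exact X.incl_kerLift _ _

/-- If the extension attached to `δ` is trivial, `δ` extends to a derivation of `R`. -/
lemma exists_derivation_of_isTrivial (hsurj : Function.Surjective (algebraMap R B))
    (δ : RingHom.ker (algebraMap R B) →ₗ[R] M) (h : (ext A hsurj δ).IsTrivial) :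
    ∃ D : R → M, (∀ x y, D (x + y) = D x + D y) ∧
      (∀ x y, D (x * y) = algebraMap R B x • D y + algebraMap R B y • D x) ∧
      (∀ a : A, D (algebraMap A R a) = 0) ∧
      ∀ x : RingHom.ker (algebraMap R B), D (x : R) = δ x := by
  obtain ⟨s, hs⟩ := h
  obtain ⟨D, hadd, hmul, hA, hD⟩ := exists_derivation_of_lifts (ext A hsurj δ) (extLift A hsurj δ)
    (s.comp (IsScalarTower.toAlgHom A R B)) (proj_extLift hsurj δ) (fun r => hs _)
  refine ⟨D, hadd, hmul, hA, fun x => ?_⟩
  apply (ext A hsurj δ).isExtension.incl_injective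
  rw [hD, extLift_eq_incl hsurj δ x]
  have : (s.comp (IsScalarTower.toAlgHom A R B)) (x : R) = 0 := by
    change s (algebraMap R B x) = 0
    rw [show algebraMap R B x = 0 from x.2, map_zero]
  rw [this, sub_zero]

/-- If `I = ker (R → B)` lies in the square of an ideal `𝔫` acting by zero on `M`, every nonzero `δ : I → M`
gives a non-trivial extension. -/
lemma not_isTrivial_ext_of_le_sq (hsurj : Function.Surjective (algebraMap R B))
    (δ : RingHom.ker (algebraMap R B) →ₗ[R] M) (hδ : δ ≠ 0) (𝔫 : Ideal R)
    (h𝔫 : ∀ r ∈ 𝔫, ∀ z : M, r • z = 0) (hI : RingHom.ker (algebraMap R B) ≤ 𝔫 ^ 2) :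
    ¬ (ext A hsurj δ).IsTrivial := by
  intro h
  obtain ⟨D, hadd, hmul, -, hD⟩ := exists_derivation_of_isTrivial hsurj δ h
  have hD0 : D 0 = 0 := by
    have := hadd 0 0
    rw [add_zero] at this
    exact left_eq_add.mp this
  have hsq : ∀ x ∈ 𝔫 ^ 2, D x = 0 := by
    intro x hx
    rw [pow_two] at hx
    refine Submodule.mul_induction_on hx ?_ ?_
    · intro f hf g hg
      rw [hmul, algebraMap_smul, algebraMap_smul, h𝔫 f hf, h𝔫 g hg, add_zero]
    · intro f g hf hg
      rw [hadd, hf, hg, add_zero]
  apply hδ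
  apply LinearMap.ext
  intro x
  rw [← hD x, hsq _ (hI x.2), LinearMap.zero_apply]

end Trivial

end Groth.Agent.Lib.Helper1.ExalGen
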