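import Groth.Agent.Lib.Helper1.ExalGen2

/-!
# More on extensions with lifts (helper1)

* `deltaOf X u hu`: the `R`-linear map `ker (R → B) → M` induced by a lift `u : R → X.E`;
* `twistLift`: a lift modified by a derivation;
* `nonempty_equiv_of_lifts`: two extensions with lifts inducing the same map on the kernel are equivalent;
* `nonempty_equiv_of_isTrivial`: any two trivial extensions are equivalent;
* `changeBase`: an `A`-extension whose middle ring receives a compatible map from an `A`-algebra `Λ` is a `Λ`-extension.
-/

universe u

namespace Groth.Agent.Lib.Helper1.ExalGen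

open Groth.Agent.Lib.Helper10.ExalLib

section Delta

variable {A R B M : Type u} [CommRing A] [CommRing R] [CommRing B] [Algebra A R] [Algebra A B]
  [Algebra R B] [IsScalarTower A R B] [AddCommGroup M] [Module B M] [Module R M] [IsScalarTower R B M]

variable (X : Exal.Ext A B M) (u : R →ₐ[A] X.E) (hu : ∀ r, X.proj (u r) = algebraMap R B r)

include hu in
lemma proj_u_ker (x : RingHom.ker (algebraMap R B)) : X.proj (u (x : R)) = 0 := by
  rw [hu]
  exact x.2

/-- the restriction of a lift to the kernel, with values in `M` -/
noncomputable def deltaOf : RingHom.ker (algebraMap R B) →ₗ[R] M where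
  toFun x := X.kerLift (u (x : R)) (proj_u_ker X u hu x)
  map_add' x y := by
    apply X.isExtension.incl_injective
    rw [map_add, X.incl_kerLift, X.incl_kerLift, X.incl_kerLift, Submodule.coe_add, map_add]
  map_smul' r x := by
    apply X.isExtension.incl_injective
    have h1 : X.incl (r • X.kerLift (u (x : R)) (proj_u_ker X u hu x)) = u r * u (x : R) := by
      rw [← algebraMap_smul B r (X.kerLift (u (x : R)) (proj_u_ker X u hu x)), ← hu,
        ← X.isExtension.mul_incl, X.incl_kerLift]
    rw [RingHom.id_apply, h1, X.incl_kerLift, Submodule.coe_smul, smul_eq_mul, map_mul]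

lemma incl_deltaOf (x : RingHom.ker (algebraMap R B)) :
    X.incl (deltaOf X u hu x) = u (x : R) :=
  X.incl_kerLift (u (x : R)) (proj_u_ker X u hu x)

/-- a lift twisted by a derivation -/
noncomputable def twistLift (D : R → M) (hadd : ∀ x y, D (x + y) = D x + D y)
    (hmul : ∀ x y, D (x * y) = algebraMap R B x • D y + algebraMap R B y • D x)
    (hA : ∀ a : A, D (algebraMap A R a) = 0) : R →ₐ[A] X.E where
  toFun r := u r + X.incl (D r)
  map_one' := by
    have h : D (1 : R) = 0 := by
      have := hA 1
      rwa [map_one] at this
    rw [h, map_zero, add_zero, map_one]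
  map_mul' x y := by
    have h1 : X.incl (algebraMap R B x • D y) = u x * X.incl (D y) := by
      rw [X.isExtension.mul_incl, hu]
    have h2 : X.incl (algebraMap R B y • D x) = u y * X.incl (D x) := by
      rw [X.isExtension.mul_incl, hu]
    have h3 : X.incl (D x) * X.incl (D y) = 0 := incl_mul_incl X _ _
    rw [hmul, map_add, h1, h2, map_mul]
    linear_combination (-1 : X.E) * h3
  map_zero' := by
    have h : D (0 : R) = 0 := by
      have := hA 0
      rwa [map_zero] at this
    rw [h, map_zero, map_zero, add_zero]
  map_add' x y := by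
    rw [hadd, map_add, map_add]
    abel
  commutes' a := by
    rw [hA, map_zero, add_zero, AlgHom.commutes]

omit [IsScalarTower A R B] [Module R M] [IsScalarTower R B M] in
lemma twistLift_apply (D : R → M) (hadd : ∀ x y, D (x + y) = D x + D y)
    (hmul : ∀ x y, D (x * y) = algebraMap R B x • D y + algebraMap R B y • D x)
    (hA : ∀ a : A, D (algebraMap A R a) = 0) (r : R) :
    twistLift X u hu D hadd hmul hA r = u r + X.incl (D r) := rfl

include hu in
lemma proj_twistLift (D : R → M) (hadd : ∀ x y, D (x + y) = D x + D y)
    (hmul : ∀ x y, D (x * y) = algebraMap R B x • D y + algebraMap R B y • D x)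
    (hA : ∀ a : A, D (algebraMap A R a) = 0) (r : R) :
    X.proj (twistLift X u hu D hadd hmul hA r) = algebraMap R B r := by
  rw [twistLift_apply, map_add, hu, proj_incl, add_zero]

end Delta

section Equiv

variable {A R B M : Type u} [CommRing A] [CommRing R] [CommRing B] [Algebra A R] [Algebra A B]
  [Algebra R B] [IsScalarTower A R B] [AddCommGroup M] [Module B M] [Module R M] [IsScalarTower R B M]

/-- Two extensions with lifts which agree on the kernel are equivalent. -/
lemma nonempty_equiv_of_lifts (hsurj : Function.Surjective (algebraMap R B))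
    (X Y : Exal.Ext A B M) (u : R →ₐ[A] X.E) (u' : R →ₐ[A] Y.E)
    (hu : ∀ r, X.proj (u r) = algebraMap R B r) (hu' : ∀ r, Y.proj (u' r) = algebraMap R B r)
    (h : ∀ x : RingHom.ker (algebraMap R B), ∃ z : M, X.incl z = u (x : R) ∧ Y.incl z = u' (x : R)) :
    Nonempty (X.Equiv Y) := by
  have e1 := equivExt X u hu (deltaOf X u hu) (fun x => (incl_deltaOf X u hu x).symm) hsurj
  have e2 := equivExt Y u' hu' (deltaOf X u hu) (fun x => by
    obtain ⟨z, hz1, hz2⟩ := h x
    have : deltaOf X u hu x = z := by
      apply X.isExtension.incl_injective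
      rw [incl_deltaOf, hz1]
    rw [this, hz2]) hsurj
  exact ⟨e1.symm.trans e2⟩

end Equiv

section Trivial

variable {A B M : Type u} [CommRing A] [CommRing B] [Algebra A B] [AddCommGroup M] [Module B M]

/-- Any two trivial extensions are equivalent. -/
lemma nonempty_equiv_of_isTrivial (X Y : Exal.Ext A B M) (hX : X.IsTrivial) (hY : Y.IsTrivial) :
    Nonempty (X.Equiv Y) := by
  obtain ⟨s, hs⟩ := hX
  obtain ⟨s', hs'⟩ := hY
  refine nonempty_equiv_of_lifts (R := B) (fun b => ⟨b, rfl⟩) X Y s s' hs hs' ?_
  intro x
  have hx : (x : B) = 0 := x.2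
  exact ⟨0, by rw [hx, map_zero, map_zero], by rw [hx, map_zero, map_zero]⟩

end Trivial

section ChangeBase

variable {A Λ B M : Type u} [CommRing A] [CommRing Λ] [CommRing B] [Algebra A Λ] [Algebra Λ B]
  [Algebra A B] [IsScalarTower A Λ B] [AddCommGroup M] [Module B M]

/-- The middle ring of an `A`-extension regarded as a `Λ`-algebra through a given ring map. -/
@[nolint unusedArguments]
def BaseCarrier (X : Exal.Ext A B M) (_l : Λ →+* X.E) : Type u := X.E

instance (X : Exal.Ext A B M) (l : Λ →+* X.E) : CommRing (BaseCarrier X l) :=
  inferInstanceAs (CommRing X.E)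

instance (X : Exal.Ext A B M) (l : Λ →+* X.E) : Algebra Λ (BaseCarrier X l) :=
  (l : Λ →+* BaseCarrier X l).toAlgebra

/-- An `A`-extension as a `Λ`-extension, given a ring map `Λ → E` over `Λ → B`. -/
def changeBase (X : Exal.Ext A B M) (l : Λ →+* X.E) (hl : ∀ a, X.proj (l a) = algebraMap Λ B a) :
    Exal.Ext Λ B M where
  E := BaseCarrier X l
  proj :=
    { toFun := fun x => X.proj x
      map_one' := map_one X.proj
      map_mul' := map_mul X.proj
      map_zero' := map_zero X.proj
      map_add' := map_add X.proj
      commutes' := hl }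
  incl := X.incl
  isExtension :=
    { proj_surjective := X.isExtension.proj_surjective
      incl_injective := X.isExtension.incl_injective
      exact := X.isExtension.exact
      mul_incl := X.isExtension.mul_incl }

/-- If the `Λ`-extension is trivial and the map from `Λ` is `A`-linear, the `A`-extension is trivial. -/
lemma isTrivial_of_changeBase (X : Exal.Ext A B M) (l : Λ →+* X.E)
    (hl : ∀ a, X.proj (l a) = algebraMap Λ B a)
    (hlA : ∀ c : A, l (algebraMap A Λ c) = algebraMap A X.E c)
    (h : (changeBase X l hl).IsTrivial) : X.IsTrivial := by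
  obtain ⟨s, hs⟩ := h
  refine ⟨{ toFun := fun b => s b
            map_one' := map_one s
            map_mul' := map_mul s
            map_zero' := map_zero s
            map_add' := map_add s
            commutes' := fun c => ?_ }, hs⟩
  have h1 := s.commutes (algebraMap A Λ c)
  rw [← IsScalarTower.algebraMap_apply] at h1
  change s (algebraMap A B c) = _
  rw [h1]
  exact hlA c

end ChangeBase

end Groth.Agent.Lib.Helper1.ExalGen
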