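import Groth.Agent.Lib.Helper1.ExalGen3

/-!
# The relative obstruction space vanishes iff derivations extend and pull-back of extensions is injective (helper1)

For ring maps `k → Λ → R` and an `R`-module `M`: every `Λ`-extension of `R` by `M` is trivial if and only if
(a) every `k`-derivation `Λ → M` extends to `R` and (b) two `k`-extensions of `R` by `M` with equivalent inverse
images over `Λ` are equivalent.
-/

universe u

namespace Groth.Agent.Lib.Helper1.ExalJZ

open Groth.Agent.Lib.Helper1.ExalGen Groth.Agent.Lib.Helper10.ExalLib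

attribute [local instance] Exal.opModule Exal.isCentralScalar_opModule

section Setup

variable {k Λ R M : Type u} [CommRing k] [CommRing Λ] [CommRing R] [Algebra k Λ] [Algebra Λ R]
  [Algebra k R] [IsScalarTower k Λ R] [AddCommGroup M] [Module R M] [Module Λ M]
  [IsScalarTower Λ R M] [Module k M] [IsScalarTower k R M] [IsScalarTower k Λ M]

/-- (⇒ a): derivations extend when all `Λ`-extensions are trivial. -/
lemma exists_extend_derivation (H : ∀ X : Exal.Ext Λ R M, X.IsTrivial) (D : Derivation k Λ M) :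
    ∃ D' : Derivation k R M, ∀ a : Λ, D' (algebraMap Λ R a) = D a := by
  have hd : ∀ a a', (D : Λ →+ M) (a * a') =
      algebraMap Λ R a • (D : Λ →+ M) a' + algebraMap Λ R a' • (D : Λ →+ M) a := by
    intro a a'
    change D (a * a') = algebraMap Λ R a • D a' + algebraMap Λ R a' • D a
    rw [D.leibniz, algebraMap_smul, algebraMap_smul]
  obtain ⟨s, hs⟩ := H (twistExt (D : Λ →+ M) hd)
  let σ : R →+* TrivSqZeroExt R M := (s : R →+* (twistExt (D : Λ →+ M) hd).E)
  have hfst : ∀ r, TrivSqZeroExt.fst (σ r) = r := hs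
  have halg : ∀ a : Λ, σ (algebraMap Λ R a) =
      TrivSqZeroExt.inl (algebraMap Λ R a) + TrivSqZeroExt.inr (D a) := by
    intro a
    have h1 := s.commutes a
    rw [twistExt_algebraMap] at h1
    exact h1
  have hD0 : ∀ a : Λ, TrivSqZeroExt.snd (σ (algebraMap Λ R a)) = D a := by
    intro a
    rw [halg, TrivSqZeroExt.snd_add, TrivSqZeroExt.snd_inl, TrivSqZeroExt.snd_inr, zero_add]
  have hmul : ∀ r r', TrivSqZeroExt.snd (σ (r * r')) =
      r • TrivSqZeroExt.snd (σ r') + r' • TrivSqZeroExt.snd (σ r) := by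
    intro r r'
    rw [map_mul, TrivSqZeroExt.snd_mul, hfst, hfst, op_smul_eq_smul]
  let lin : R →ₗ[k] M :=
    { toFun := fun r => TrivSqZeroExt.snd (σ r)
      map_add' := fun r r' => by
        rw [map_add, TrivSqZeroExt.snd_add]
      map_smul' := fun c r => by
        rw [RingHom.id_apply, Algebra.smul_def, hmul, IsScalarTower.algebraMap_apply k Λ R, hD0,
          D.map_algebraMap, smul_zero, add_zero, ← IsScalarTower.algebraMap_apply k Λ R,
          algebraMap_smul] }
  refine ⟨Derivation.mk' lin (fun r r' => hmul r r'), fun a => ?_⟩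
  exact hD0 a

/-- the trivial extension is trivial -/
lemma isTrivial_trivial : (Exal.Ext.trivial k R M).IsTrivial :=
  ⟨{ toFun := fun r => (TrivSqZeroExt.inl r : TrivSqZeroExt R M)
     map_one' := rfl
     map_mul' := fun c c' => TrivSqZeroExt.inl_mul M c c'
     map_zero' := rfl
     map_add' := fun c c' => TrivSqZeroExt.inl_add M c c'
     commutes' := fun _ => rfl }, fun _ => rfl⟩

/-- the structure map `Λ → E` of a `Λ`-extension as a `k`-algebra map into the restricted extension -/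
def structHom (X : Exal.Ext Λ R M) : Λ →ₐ[k] (X.restrictBase k).E :=
  { toRingHom := (algebraMap Λ X.E : Λ →+* X.RestrictCarrier k)
    commutes' := fun _ => rfl }

lemma proj_structHom (X : Exal.Ext Λ R M) (a : Λ) :
    (X.restrictBase k).proj (structHom (k := k) X a) = algebraMap Λ R a :=
  X.proj.commutes a

/-- (⇐): if derivations extend and pull-back is injective on classes, all `Λ`-extensions are trivial. -/
theorem isTrivial_of_extend_and_injective
    (ha : ∀ D : Derivation k Λ M, ∃ D' : Derivation k R M, ∀ a : Λ, D' (algebraMap Λ R a) = D a)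
    (hb : ∀ Y Y' : Exal.Ext k R M,
      Nonempty ((Y.pullback Λ).Equiv (Y'.pullback Λ)) → Nonempty (Y.Equiv Y'))
    (X : Exal.Ext Λ R M) : X.IsTrivial := by
  -- both inverse images over `Λ` are trivial
  have h1 : ((X.restrictBase k).pullback Λ).IsTrivial := by
    refine ⟨((structHom (k := k) X).prod (AlgHom.id k Λ)).codRestrict _ (fun a => ?_), fun a => rfl⟩
    change (X.restrictBase k).proj (structHom (k := k) X a) = algebraMap Λ R a
    exact proj_structHom X a
  have h2 : ((Exal.Ext.trivial k R M).pullback Λ).IsTrivial := by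
    let f : Λ →ₐ[k] (Exal.Ext.trivial k R M).E :=
      { toRingHom := ((TrivSqZeroExt.inlHom R M).comp (algebraMap Λ R) :
          Λ →+* Exal.Ext.TrivCarrier k R M)
        commutes' := fun c => by
          change (TrivSqZeroExt.inl (algebraMap Λ R (algebraMap k Λ c)) : TrivSqZeroExt R M) =
            TrivSqZeroExt.inl (algebraMap k R c)
          rw [← IsScalarTower.algebraMap_apply] }
    refine ⟨(f.prod (AlgHom.id k Λ)).codRestrict _ (fun a => ?_), fun a => rfl⟩
    rfl
  obtain ⟨e⟩ := hb _ _ (nonempty_equiv_of_isTrivial _ _ h1 h2)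
  obtain ⟨s₀, hs₀⟩ := isTrivial_of_equiv e (isTrivial_trivial (k := k) (R := R) (M := M))
  obtain ⟨D, hadd, hmul, hA, hD⟩ := exists_derivation_of_lifts (X.restrictBase k)
    (structHom (k := k) X) (s₀.comp (IsScalarTower.toAlgHom k Λ R)) (proj_structHom X)
    (fun a => hs₀ _)
  let lin : Λ →ₗ[k] M :=
    { toFun := D
      map_add' := hadd
      map_smul' := fun c a => by
        rw [RingHom.id_apply, Algebra.smul_def, hmul, hA, smul_zero, add_zero,
          ← IsScalarTower.algebraMap_apply, algebraMap_smul] }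
  obtain ⟨D', hD'⟩ := ha (Derivation.mk' lin (fun a b => by
    change D (a * b) = a • D b + b • D a
    rw [hmul, algebraMap_smul, algebraMap_smul]))
  let s₁ : R →ₐ[k] (X.restrictBase k).E :=
    twistLift (X.restrictBase k) (R := R) s₀ hs₀ (fun r => D' r) (fun x y => map_add D' x y)
      (fun x y => D'.leibniz x y) (fun c => D'.map_algebraMap c)
  refine ⟨{ toRingHom := (s₁.toRingHom : R →+* X.E)
            commutes' := fun a => ?_ }, fun r => ?_⟩
  · have h3 : s₁ (algebraMap Λ R a) =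
        s₀ (algebraMap Λ R a) + (X.restrictBase k).incl (D' (algebraMap Λ R a)) := rfl
    have h4 : s₁ (algebraMap Λ R a) = structHom (k := k) X a := by
      rw [h3, hD' a]
      change _ + (X.restrictBase k).incl (D a) = _
      rw [hD a]
      exact add_sub_cancel _ _
    exact h4
  · exact proj_twistLift (X.restrictBase k) (R := R) s₀ hs₀ (fun r => D' r)
      (fun x y => map_add D' x y) (fun x y => D'.leibniz x y) (fun c => D'.map_algebraMap c) r

end Setup

section Difference

variable {k R M : Type u} [CommRing k] [CommRing R] [Algebra k R] [AddCommGroup M] [Module R M]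
variable (Y Y' : Exal.Ext k R M)

/-- the fibre product of the middle rings of two extensions over `R` -/
def FP : Subalgebra k (Y.E × Y'.E) :=
  AlgHom.equalizer (Y.proj.comp (AlgHom.fst k Y.E Y'.E)) (Y'.proj.comp (AlgHom.snd k Y.E Y'.E))

/-- the projection of the fibre product to `R` -/
def fpToR : FP Y Y' →ₐ[k] R := (Y.proj.comp (AlgHom.fst k Y.E Y'.E)).comp (FP Y Y').val

/-- `R` as an algebra over the fibre product -/
@[reducible] def fpAlgebra : Algebra (FP Y Y') R := (fpToR Y Y').toRingHom.toAlgebra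

attribute [local instance] fpAlgebra

lemma fp_tower : IsScalarTower k (FP Y Y') R :=
  IsScalarTower.of_algebraMap_eq (fun c => ((fpToR Y Y').commutes c).symm)

/-- `M` as a module over the fibre product -/
@[reducible] def fpModule : Module (FP Y Y') M := Module.compHom M (algebraMap (FP Y Y') R)

attribute [local instance] fpModule

lemma fp_tower' : IsScalarTower (FP Y Y') R M := IsScalarTower.of_compHom _ _ _

attribute [local instance] fp_tower fp_tower'

/-- first projection -/
def pr₁ : FP Y Y' →ₐ[k] Y.E := (AlgHom.fst k Y.E Y'.E).comp (FP Y Y').val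

/-- second projection -/
def pr₂ : FP Y Y' →ₐ[k] Y'.E := (AlgHom.snd k Y.E Y'.E).comp (FP Y Y').val

lemma proj_pr₁ (p : FP Y Y') : Y.proj (pr₁ Y Y' p) = algebraMap (FP Y Y') R p := rfl

lemma proj_pr₂ (p : FP Y Y') : Y'.proj (pr₂ Y Y' p) = algebraMap (FP Y Y') R p := p.2.symm

lemma fp_surjective : Function.Surjective (algebraMap (FP Y Y') R) := by
  intro r
  obtain ⟨y, hy⟩ := Y.isExtension.proj_surjective r
  obtain ⟨y', hy'⟩ := Y'.isExtension.proj_surjective r
  exact ⟨⟨(y, y'), by change Y.proj y = Y'.proj y'; rw [hy, hy']⟩, hy⟩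

/-- the difference of the two restriction maps -/
noncomputable def deltaDiff : RingHom.ker (algebraMap (FP Y Y') R) →ₗ[FP Y Y'] M :=
  deltaOf Y (pr₁ Y Y') (proj_pr₁ Y Y') - deltaOf Y' (pr₂ Y Y') (proj_pr₂ Y Y')

/-- the difference extension -/
noncomputable def diffExt : Exal.Ext k R M := ExalGen.ext k (fp_surjective Y Y') (deltaDiff Y Y')

/-- a point of the fibre product -/
def fpMk (y : Y.E) (y' : Y'.E) (h : Y.proj y = Y'.proj y') : FP Y Y' := ⟨(y, y'), h⟩

lemma mkC_inl_eq_of_sub_eq_incl (p q : FP Y Y') (z : M)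
    (h1 : pr₁ Y Y' q - pr₁ Y Y' p = Y.incl z) (h2 : pr₂ Y Y' q - pr₂ Y Y' p = Y'.incl z) :
    mkC k (deltaDiff Y Y') (TrivSqZeroExt.inl q) = mkC k (deltaDiff Y Y') (TrivSqZeroExt.inl p) := by
  have hker : q - p ∈ RingHom.ker (algebraMap (FP Y Y') R) := by
    change Y.proj (pr₁ Y Y' (q - p)) = 0
    rw [map_sub, h1, proj_incl]
  rw [← sub_eq_zero, ← map_sub, ← TrivSqZeroExt.inl_sub, mkC_eq_zero_iff]
  refine ⟨⟨q - p, hker⟩, ?_⟩
  have hd : deltaDiff Y Y' ⟨q - p, hker⟩ = 0 := by
    have e1 : deltaOf Y (pr₁ Y Y') (proj_pr₁ Y Y') ⟨q - p, hker⟩ = z := by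
      apply Y.isExtension.incl_injective
      rw [incl_deltaOf, ← h1, map_sub]
    have e2 : deltaOf Y' (pr₂ Y Y') (proj_pr₂ Y Y') ⟨q - p, hker⟩ = z := by
      apply Y'.isExtension.incl_injective
      rw [incl_deltaOf, ← h2, map_sub]
    change deltaOf Y (pr₁ Y Y') (proj_pr₁ Y Y') ⟨q - p, hker⟩ -
      deltaOf Y' (pr₂ Y Y') (proj_pr₂ Y Y') ⟨q - p, hker⟩ = 0
    rw [e1, e2, sub_self]
  rw [hd, TrivSqZeroExt.inr_zero, sub_zero]

end Difference

section Lam

variable {k Λ R M : Type u} [CommRing k] [CommRing Λ] [CommRing R] [Algebra k Λ] [Algebra Λ R]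
  [Algebra k R] [IsScalarTower k Λ R] [AddCommGroup M] [Module R M] [Module Λ M]
  [IsScalarTower Λ R M]
variable (Y Y' : Exal.Ext k R M) (ε : (Y.pullback Λ).Equiv (Y'.pullback Λ))

attribute [local instance] fpAlgebra fpModule fp_tower fp_tower'

/-- a point of the inverse image over `Λ` -/
noncomputable def pbMk (y : Y.E) (a : Λ) (h : Y.proj y = algebraMap Λ R a) : (Y.pullback Λ).E := ⟨(y, a), h⟩

lemma eps_snd (x : (Y.pullback Λ).E) : (ε.toAlgEquiv x).1.2 = x.1.2 := ε.proj_apply x

lemma eps_mem (x : (Y.pullback Λ).E) :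
    Y'.proj (ε.toAlgEquiv x).1.1 = algebraMap Λ R x.1.2 := by
  have h1 : Y'.proj (ε.toAlgEquiv x).1.1 = algebraMap Λ R (ε.toAlgEquiv x).1.2 :=
    (ε.toAlgEquiv x).2
  rw [h1, eps_snd]

lemma eps_sub_eq_incl (x₁ x₂ : (Y.pullback Λ).E) (z : M)
    (h : x₁ - x₂ = (Y.pullback Λ).incl z) :
    (ε.toAlgEquiv x₁).1.1 - (ε.toAlgEquiv x₂).1.1 = Y'.incl z := by
  have h1 : ε.toAlgEquiv x₁ - ε.toAlgEquiv x₂ = (Y'.pullback Λ).incl z := by
    rw [← map_sub, h, ε.apply_incl]
  exact congrArg (fun t : (Y'.pullback Λ).E => t.1.1) h1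

/-- the point of the fibre product of `Y.E` and `Y'.E` attached to a lift of `a` -/
noncomputable def lamPt (a : Λ) (y : Y.E) (h : Y.proj y = algebraMap Λ R a) : FP Y Y' :=
  fpMk Y Y' y (ε.toAlgEquiv (pbMk Y y a h)).1.1 (by rw [eps_mem]; exact h)

lemma lamPt_congr (a a' : Λ) (y y' : Y.E) (h : Y.proj y = algebraMap Λ R a)
    (h' : Y.proj y' = algebraMap Λ R a') (ha : a = a') (hy : y = y') :
    lamPt Y Y' ε a y h = lamPt Y Y' ε a' y' h' := by
  subst ha
  subst hy
  rfl

/-- the map `Λ → E` into the difference extension -/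
noncomputable def lam (a : Λ) : (diffExt Y Y').E :=
  mkC k (deltaDiff Y Y') (TrivSqZeroExt.inl
    (lamPt Y Y' ε a (Function.surjInv Y.isExtension.proj_surjective (algebraMap Λ R a))
      (Function.surjInv_eq _ _)))

lemma lam_eq (a : Λ) (y : Y.E) (h : Y.proj y = algebraMap Λ R a) :
    lam Y Y' ε a = mkC k (deltaDiff Y Y') (TrivSqZeroExt.inl (lamPt Y Y' ε a y h)) := by
  have h0 : Y.proj (Function.surjInv Y.isExtension.proj_surjective (algebraMap Λ R a)) =
      algebraMap Λ R a := Function.surjInv_eq _ _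
  have hp : Y.proj (Function.surjInv Y.isExtension.proj_surjective (algebraMap Λ R a) - y) = 0 := by
    rw [map_sub, h0, h, sub_self]
  refine mkC_inl_eq_of_sub_eq_incl Y Y' _ _ (Y.kerLift _ hp) ?_ ?_
  · exact (Y.incl_kerLift _ hp).symm
  · refine eps_sub_eq_incl Y Y' ε _ _ _ ?_
    apply Subtype.ext
    refine Prod.ext ?_ ?_
    · exact (Y.incl_kerLift _ hp).symm
    · exact sub_self a

lemma lamPt_one : lamPt Y Y' ε 1 1 (by rw [map_one, map_one]) = 1 := by
  apply Subtype.ext
  refine Prod.ext rfl ?_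
  change (ε.toAlgEquiv (pbMk Y 1 1 _)).1.1 = 1
  have : pbMk Y (1 : Y.E) (1 : Λ) (by rw [map_one, map_one]) = 1 := rfl
  rw [this, map_one]
  rfl

lemma lamPt_zero : lamPt Y Y' ε 0 0 (by rw [map_zero, map_zero]) = 0 := by
  apply Subtype.ext
  refine Prod.ext rfl ?_
  change (ε.toAlgEquiv (pbMk Y 0 0 _)).1.1 = 0
  have : pbMk Y (0 : Y.E) (0 : Λ) (by rw [map_zero, map_zero]) = 0 := rfl
  rw [this, map_zero]
  rfl

lemma lamPt_mul (a a' : Λ) (y y' : Y.E) (h : Y.proj y = algebraMap Λ R a)
    (h' : Y.proj y' = algebraMap Λ R a') :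
    lamPt Y Y' ε (a * a') (y * y') (by rw [map_mul, map_mul, h, h']) =
      lamPt Y Y' ε a y h * lamPt Y Y' ε a' y' h' := by
  apply Subtype.ext
  refine Prod.ext rfl ?_
  change (ε.toAlgEquiv (pbMk Y (y * y') (a * a') _)).1.1 =
    (ε.toAlgEquiv (pbMk Y y a h)).1.1 * (ε.toAlgEquiv (pbMk Y y' a' h')).1.1
  have : pbMk Y (y * y') (a * a') (by rw [map_mul, map_mul, h, h']) =
      pbMk Y y a h * pbMk Y y' a' h' := rfl
  rw [this, map_mul]
  rfl

lemma lamPt_add (a a' : Λ) (y y' : Y.E) (h : Y.proj y = algebraMap Λ R a)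
    (h' : Y.proj y' = algebraMap Λ R a') :
    lamPt Y Y' ε (a + a') (y + y') (by rw [map_add, map_add, h, h']) =
      lamPt Y Y' ε a y h + lamPt Y Y' ε a' y' h' := by
  apply Subtype.ext
  refine Prod.ext rfl ?_
  change (ε.toAlgEquiv (pbMk Y (y + y') (a + a') _)).1.1 =
    (ε.toAlgEquiv (pbMk Y y a h)).1.1 + (ε.toAlgEquiv (pbMk Y y' a' h')).1.1
  have : pbMk Y (y + y') (a + a') (by rw [map_add, map_add, h, h']) =
      pbMk Y y a h + pbMk Y y' a' h' := rfl
  rw [this, map_add]
  rfl

lemma lamPt_algebraMap (c : k) :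
    lamPt Y Y' ε (algebraMap k Λ c) (algebraMap k Y.E c)
      (by rw [AlgHom.commutes, ← IsScalarTower.algebraMap_apply]) = algebraMap k (FP Y Y') c := by
  apply Subtype.ext
  refine Prod.ext rfl ?_
  change (ε.toAlgEquiv (pbMk Y (algebraMap k Y.E c) (algebraMap k Λ c) _)).1.1 = algebraMap k Y'.E c
  have : pbMk Y (algebraMap k Y.E c) (algebraMap k Λ c)
      (by rw [AlgHom.commutes, ← IsScalarTower.algebraMap_apply]) =
      algebraMap k (Y.pullback Λ).E c := rfl
  rw [this, AlgEquiv.commutes]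
  rfl

/-- `lam` as a ring homomorphism -/
noncomputable def lamHom : Λ →+* (diffExt Y Y').E where
  toFun := lam Y Y' ε
  map_one' := by
    rw [lam_eq Y Y' ε 1 1 (by rw [map_one, map_one]), lamPt_one, TrivSqZeroExt.inl_one, map_one]
    rfl
  map_mul' a a' := by
    obtain ⟨y, hy⟩ := Y.isExtension.proj_surjective (algebraMap Λ R a)
    obtain ⟨y', hy'⟩ := Y.isExtension.proj_surjective (algebraMap Λ R a')
    rw [lam_eq Y Y' ε (a * a') (y * y') (by rw [map_mul, map_mul, hy, hy']), lam_eq Y Y' ε a y hy,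
      lam_eq Y Y' ε a' y' hy', lamPt_mul Y Y' ε a a' y y' hy hy', TrivSqZeroExt.inl_mul, map_mul]
    rfl
  map_zero' := by
    rw [lam_eq Y Y' ε 0 0 (by rw [map_zero, map_zero]), lamPt_zero, TrivSqZeroExt.inl_zero, map_zero]
    rfl
  map_add' a a' := by
    obtain ⟨y, hy⟩ := Y.isExtension.proj_surjective (algebraMap Λ R a)
    obtain ⟨y', hy'⟩ := Y.isExtension.proj_surjective (algebraMap Λ R a')
    rw [lam_eq Y Y' ε (a + a') (y + y') (by rw [map_add, map_add, hy, hy']), lam_eq Y Y' ε a y hy,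
      lam_eq Y Y' ε a' y' hy', lamPt_add Y Y' ε a a' y y' hy hy', TrivSqZeroExt.inl_add, map_add]
    rfl

lemma proj_lamHom (a : Λ) : (diffExt Y Y').proj (lamHom Y Y' ε a) = algebraMap Λ R a := by
  obtain ⟨y, hy⟩ := Y.isExtension.proj_surjective (algebraMap Λ R a)
  change (diffExt Y Y').proj (lam Y Y' ε a) = _
  rw [lam_eq Y Y' ε a y hy]
  change (ExalGen.ext k (fp_surjective Y Y') (deltaDiff Y Y')).proj (mkC k (deltaDiff Y Y') _) = _
  rw [ext_proj, TrivSqZeroExt.fst_inl]
  exact hy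

lemma lamHom_algebraMap (c : k) :
    lamHom Y Y' ε (algebraMap k Λ c) = algebraMap k (diffExt Y Y').E c := by
  change lam Y Y' ε (algebraMap k Λ c) = _
  rw [lam_eq Y Y' ε (algebraMap k Λ c) (algebraMap k Y.E c)
    (by rw [AlgHom.commutes, ← IsScalarTower.algebraMap_apply]), lamPt_algebraMap]
  rfl

end Lam

section Main

variable {k Λ R M : Type u} [CommRing k] [CommRing Λ] [CommRing R] [Algebra k Λ] [Algebra Λ R]
  [Algebra k R] [IsScalarTower k Λ R] [AddCommGroup M] [Module R M] [Module Λ M]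
  [IsScalarTower Λ R M] [Module k M] [IsScalarTower k R M] [IsScalarTower k Λ M]

attribute [local instance] fpAlgebra fpModule fp_tower fp_tower'

/-- (⇒ b): pull-back to `Λ` is injective on classes when all `Λ`-extensions are trivial. -/
lemma nonempty_equiv_of_pullback_equiv (H : ∀ X : Exal.Ext Λ R M, X.IsTrivial)
    (Y Y' : Exal.Ext k R M) (hε : Nonempty ((Y.pullback Λ).Equiv (Y'.pullback Λ))) :
    Nonempty (Y.Equiv Y') := by
  obtain ⟨ε⟩ := hε
  have hW : (diffExt Y Y').IsTrivial :=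
    isTrivial_of_changeBase (diffExt Y Y') (lamHom Y Y' ε) (proj_lamHom Y Y' ε)
      (lamHom_algebraMap Y Y' ε) (H _)
  obtain ⟨D, hadd, hmul, hA, hD⟩ :=
    exists_derivation_of_isTrivial (fp_surjective Y Y') (deltaDiff Y Y') hW
  refine nonempty_equiv_of_lifts (fp_surjective Y Y') Y Y' (pr₁ Y Y')
    (twistLift Y' (pr₂ Y Y') (proj_pr₂ Y Y') D hadd hmul hA) (proj_pr₁ Y Y')
    (proj_twistLift Y' (pr₂ Y Y') (proj_pr₂ Y Y') D hadd hmul hA) ?_
  intro x
  refine ⟨deltaOf Y (pr₁ Y Y') (proj_pr₁ Y Y') x, incl_deltaOf _ _ _ x, ?_⟩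
  rw [twistLift_apply, hD x, ← incl_deltaOf Y' (pr₂ Y Y') (proj_pr₂ Y Y') x, ← map_add]
  congr 1
  change _ = _ + (deltaOf Y (pr₁ Y Y') (proj_pr₁ Y Y') x - deltaOf Y' (pr₂ Y Y') (proj_pr₂ Y Y') x)
  abel

/-- The relative obstruction space vanishes iff derivations extend and pull-back of extensions is injective. -/
theorem forall_isTrivial_iff :
    (∀ X : Exal.Ext Λ R M, X.IsTrivial) ↔
    ((∀ D : Derivation k Λ M, ∃ D' : Derivation k R M, ∀ a : Λ, D' (algebraMap Λ R a) = D a) ∧
     (∀ Y Y' : Exal.Ext k R M,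
        Nonempty ((Y.pullback Λ).Equiv (Y'.pullback Λ)) → Nonempty (Y.Equiv Y'))) := by
  constructor
  · intro H
    exact ⟨fun D => exists_extend_derivation H D,
      fun Y Y' h => nonempty_equiv_of_pullback_equiv H Y Y' h⟩
  · rintro ⟨ha, hb⟩ X
    exact isTrivial_of_extend_and_injective ha hb X

end Main

end Groth.Agent.Lib.Helper1.ExalJZ
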