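import Mathlib

/-!
# Noetherianity of nilpotent thickenings (ring level)

If `A ⧸ 𝔨^(n+1)` is Noetherian, `𝔨` is nilpotent and (`n = 0 → 𝔨` finitely generated), then `A` is Noetherian.
-/

namespace Groth.Agent.Lib.Helper1

variable {A B : Type*} [CommRing A] [CommRing B]

/-- Lifting generators along a surjection. -/
theorem exists_fg_le_of_map_fg (f : A →+* B) (hf : Function.Surjective f) (I : Ideal A)
    (h : (I.map f).FG) : ∃ 𝔞 : Ideal A, 𝔞 ≤ I ∧ 𝔞.FG ∧ I ≤ 𝔞 ⊔ RingHom.ker f := by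
  obtain ⟨s, hs⟩ := h
  have hmem : ∀ b ∈ s, ∃ a ∈ I, f a = b := by
    intro b hb
    have hb' : b ∈ I.map f := by
      rw [← hs]; exact Ideal.subset_span hb
    exact (Ideal.mem_map_iff_of_surjective f hf).mp hb'
  choose! g hgI hgf using hmem
  classical
  refine ⟨Ideal.span (s.image g : Finset A), ?_, ⟨s.image g, rfl⟩, ?_⟩
  · rw [Ideal.span_le]
    intro a ha
    rw [Finset.coe_image] at ha
    obtain ⟨b, hb, rfl⟩ := ha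
    exact hgI b hb
  · intro x hx
    have hmap : (Ideal.span (s.image g : Finset A) : Ideal A).map f = I.map f := by
      rw [Ideal.map_span, ← hs, Finset.coe_image, ← Set.image_comp]
      congr 1
      ext b
      constructor
      · rintro ⟨c, hc, rfl⟩
        simpa [hgf c hc] using hc
      · intro hb
        exact ⟨b, hb, hgf b hb⟩
    have hfx : f x ∈ (Ideal.span (s.image g : Finset A) : Ideal A).map f := by
      rw [hmap]; exact Ideal.mem_map_of_mem f hx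
    obtain ⟨y, hy, hyx⟩ := (Ideal.mem_map_iff_of_surjective f hf).mp hfx
    have : x = y + (x - y) := by ring
    rw [this]
    refine Ideal.add_mem _ (Ideal.mem_sup_left hy) (Ideal.mem_sup_right ?_)
    rw [RingHom.mem_ker, map_sub, hyx, sub_self]

/-- Nakayama for a nilpotent ideal: `𝔨 ≤ 𝔞 ⊔ 𝔨²` with `𝔞 ≤ 𝔨` and `𝔨` nilpotent forces `𝔨 = 𝔞`. -/
theorem eq_of_le_sup_sq_of_pow_eq_bot (𝔨 𝔞 : Ideal A) (h𝔞 : 𝔞 ≤ 𝔨) (hle : 𝔨 ≤ 𝔞 ⊔ 𝔨 ^ 2)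
    (N : ℕ) (hN : 𝔨 ^ N = ⊥) : 𝔨 = 𝔞 := by
  have key : ∀ m : ℕ, 𝔨 ≤ 𝔞 ⊔ 𝔨 ^ (m + 2) := by
    intro m
    induction m with
    | zero => exact hle
    | succ m ih =>
      have h2 : 𝔨 ^ 2 ≤ 𝔞 ⊔ 𝔨 ^ (m + 1 + 2) := by
        calc 𝔨 ^ 2 = 𝔨 * 𝔨 := sq 𝔨
          _ ≤ (𝔞 ⊔ 𝔨 ^ (m + 2)) * 𝔨 := Ideal.mul_mono_left ih
          _ = 𝔞 * 𝔨 ⊔ 𝔨 ^ (m + 2) * 𝔨 := Ideal.sup_mul _ _ _
          _ ≤ 𝔞 ⊔ 𝔨 ^ (m + 1 + 2) := by
            refine sup_le_sup Ideal.mul_le_left ?_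
            rw [← pow_succ]
      exact hle.trans (sup_le le_sup_left h2)
  refine le_antisymm ?_ h𝔞
  have h3 := key N
  have h4 : 𝔨 ^ (N + 2) = ⊥ := by rw [pow_add, hN, Ideal.bot_mul]
  rwa [h4, sup_bot_eq] at h3

/-- `A/𝔨` Noetherian, `𝔨` finitely generated and nilpotent imply `A` Noetherian. -/
theorem isNoetherianRing_of_quotient_of_fg_of_nilpotent (𝔨 : Ideal A) [IsNoetherianRing (A ⧸ 𝔨)]
    (hfg : 𝔨.FG) (N : ℕ) (hN : 𝔨 ^ N = ⊥) : IsNoetherianRing A := by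
  apply IsNoetherianRing.of_prime
  intro P hP
  have h𝔨P : 𝔨 ≤ P := hP.le_of_pow_le (n := N) (by rw [hN]; exact bot_le)
  obtain ⟨𝔞, h𝔞P, h𝔞fg, hP𝔞⟩ := exists_fg_le_of_map_fg (Ideal.Quotient.mk 𝔨)
    Ideal.Quotient.mk_surjective P (IsNoetherian.noetherian _)
  rw [Ideal.mk_ker] at hP𝔞
  have : P = 𝔞 ⊔ 𝔨 := le_antisymm hP𝔞 (sup_le h𝔞P h𝔨P)
  rw [this]
  exact Submodule.FG.sup h𝔞fg hfg

/-- If `A/𝔨²` is Noetherian and `𝔨` is nilpotent then `𝔨` is finitely generated. -/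
theorem fg_of_quotient_sq_of_nilpotent (𝔨 : Ideal A) [IsNoetherianRing (A ⧸ 𝔨 ^ 2)]
    (N : ℕ) (hN : 𝔨 ^ N = ⊥) : 𝔨.FG := by
  obtain ⟨𝔞, h𝔞𝔨, h𝔞fg, h𝔨𝔞⟩ := exists_fg_le_of_map_fg (Ideal.Quotient.mk (𝔨 ^ 2))
    Ideal.Quotient.mk_surjective 𝔨 (IsNoetherian.noetherian _)
  rw [Ideal.mk_ker] at h𝔨𝔞
  rw [eq_of_le_sup_sq_of_pow_eq_bot 𝔨 𝔞 h𝔞𝔨 h𝔨𝔞 N hN]
  exact h𝔞fg

/-- The combined statement used for systems of thickenings. -/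
theorem isNoetherianRing_of_quotient_pow (𝔨 : Ideal A) (n : ℕ) [IsNoetherianRing (A ⧸ 𝔨 ^ (n + 1))]
    (N : ℕ) (hN : 𝔨 ^ N = ⊥) (hfg : n = 0 → 𝔨.FG) : IsNoetherianRing A := by
  have h1 : IsNoetherianRing (A ⧸ 𝔨) :=
    isNoetherianRing_of_surjective (A ⧸ 𝔨 ^ (n + 1)) (A ⧸ 𝔨)
      (Ideal.Quotient.factor (Ideal.pow_le_self (Nat.succ_ne_zero n)))
      (Ideal.Quotient.factor_surjective _)
  have h2 : 𝔨.FG := by
    rcases Nat.eq_zero_or_pos n with h0 | hpos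
    · exact hfg h0
    · have : IsNoetherianRing (A ⧸ 𝔨 ^ 2) :=
        isNoetherianRing_of_surjective (A ⧸ 𝔨 ^ (n + 1)) (A ⧸ 𝔨 ^ 2)
          (Ideal.Quotient.factor (Ideal.pow_le_pow_right (by omega)))
          (Ideal.Quotient.factor_surjective _)
      exact fg_of_quotient_sq_of_nilpotent 𝔨 N hN
  exact isNoetherianRing_of_quotient_of_fg_of_nilpotent 𝔨 h2 N hN

end Groth.Agent.Lib.Helper1
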