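import Groth.Agent.Lib.Helper1.ExalGen2
import Groth.Agent.Lib.Helper1.NilpNoeth

/-!
# Extensions by the residue field and lifting along small extensions (helper1)
-/

universe u

namespace Groth.Agent.Lib.Helper1.ExalSmall

open IsLocalRing Groth.Agent.Lib.Helper10.ExalLib

section Basic

variable {Λ : Type u} {R L : Type u} [CommRing Λ] [CommRing R] [Algebra Λ R] [AddCommGroup L]
  [Module R L]
variable (X : Exal.Ext Λ R L)

lemma isUnit_of_isUnit_proj (e : X.E) (h : IsUnit (X.proj e)) : IsUnit e := by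
  obtain ⟨e', he'⟩ := X.isExtension.proj_surjective (↑h.unit⁻¹ : R)
  have h1 : X.proj (e * e' - 1) = 0 := by
    rw [map_sub, map_mul, he', map_one, IsUnit.mul_val_inv, sub_self]
  obtain ⟨w, hz⟩ : ∃ w, X.incl w = e * e' - 1 := ⟨_, X.incl_kerLift _ h1⟩
  have h2 : X.incl w * X.incl w = 0 := incl_mul_incl X _ _
  have h3 : e * (e' * (1 - X.incl w)) = 1 := by
    have h4 : e * e' = 1 + X.incl w := by rw [hz]; ring
    calc e * (e' * (1 - X.incl w))
        = (e * e') * (1 - X.incl w) := by ring
      _ = (1 + X.incl w) * (1 - X.incl w) := by rw [h4]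
      _ = 1 - X.incl w * X.incl w := by ring
      _ = 1 := by rw [h2, sub_zero]
  exact IsUnit.of_mul_eq_one _ h3

lemma isLocalHom_proj : IsLocalHom (X.proj : X.E →+* R) :=
  ⟨fun e h => isUnit_of_isUnit_proj X e h⟩

lemma isLocalRing_E [IsLocalRing R] : IsLocalRing X.E :=
  haveI := isLocalHom_proj X
  RingHom.domain_isLocalRing (X.proj : X.E →+* R)

end Basic

section Residue

variable {Λ : Type u} {R : Type u} [CommRing Λ] [CommRing R] [Algebra Λ R] [IsLocalRing R]
variable (X : Exal.Ext Λ R (ResidueField R))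

lemma smul_residue (r : R) (z : ResidueField R) : r • z = residue R r * z := by
  rw [Algebra.smul_def]
  rfl

lemma mul_incl_one (e : X.E) : e * X.incl 1 = X.incl (residue R (X.proj e)) := by
  rw [X.isExtension.mul_incl, smul_residue, mul_one]

lemma incl_eq_mul_incl_one (z : ResidueField R) : ∃ e : X.E, X.incl z = e * X.incl 1 := by
  obtain ⟨r, rfl⟩ := residue_surjective z
  obtain ⟨e, rfl⟩ := X.isExtension.proj_surjective r
  exact ⟨e, (mul_incl_one X e).symm⟩

lemma ker_proj_eq_span : RingHom.ker (X.proj : X.E →+* R) = Ideal.span {X.incl 1} := by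
  apply le_antisymm
  · intro x hx
    obtain ⟨z, rfl⟩ := (X.isExtension.exact x).1 hx
    obtain ⟨e, he⟩ := incl_eq_mul_incl_one X z
    rw [he]
    exact Ideal.mul_mem_left _ _ (Ideal.subset_span rfl)
  · rw [Ideal.span_le]
    rintro _ rfl
    exact proj_incl X 1

lemma isNoetherianRing_E [IsNoetherianRing R] : IsNoetherianRing X.E := by
  have e : (X.E ⧸ RingHom.ker (X.proj : X.E →+* R)) ≃+* R :=
    RingHom.quotientKerEquivOfSurjective X.isExtension.proj_surjective
  haveI : IsNoetherianRing (X.E ⧸ RingHom.ker (X.proj : X.E →+* R)) :=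
    isNoetherianRing_of_ringEquiv R e.symm
  refine isNoetherianRing_of_quotient_of_fg_of_nilpotent (RingHom.ker (X.proj : X.E →+* R)) ?_ 2 ?_
  · rw [ker_proj_eq_span]
    exact ⟨{X.incl 1}, by simp⟩
  · rw [ker_proj_eq_span, Ideal.span_singleton_pow, pow_two, incl_mul_incl]
    simp

end Residue

section Converse

variable {k : Type u} [Field k] {Λ : Type u} [CommRing Λ] [Algebra k Λ]
  {R : Type u} [CommRing R] [Algebra Λ R] [IsLocalRing R] [IsNoetherianRing R]

/-- If maps from `R` lift along small extensions of Artinian local algebras, every extension of `R` by its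
residue field is trivial. -/
theorem isTrivial_of_lifting
    (hR : ∀ r : R, ∃ c : k, r - algebraMap Λ R (algebraMap k Λ c) ∈ maximalIdeal R)
    (hlift : ∀ (B : Type u) [CommRing B] [Algebra Λ B] [IsLocalRing B] [IsArtinianRing B],
      (∀ b : B, ∃ c : k, b - algebraMap Λ B (algebraMap k Λ c) ∈ maximalIdeal B) →
      ∀ t : B, t ∈ maximalIdeal B → (∀ b ∈ maximalIdeal B, b * t = 0) →
      ∀ φ : R →ₐ[Λ] B ⧸ Ideal.span {t},
        ∃ φ' : R →ₐ[Λ] B, (Ideal.Quotient.mkₐ Λ (Ideal.span {t})).comp φ' = φ)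
    (X : Exal.Ext Λ R (ResidueField R)) : X.IsTrivial := by
  have _ : IsLocalRing X.E := isLocalRing_E X
  have _ : IsNoetherianRing X.E := isNoetherianRing_E X
  have _ : IsLocalHom (X.proj : X.E →+* R) := isLocalHom_proj X
  have hne : X.incl 1 ≠ 0 := fun h =>
    one_ne_zero (X.isExtension.incl_injective (h.trans (map_zero _).symm))
  obtain ⟨n, hn⟩ : ∃ n, X.incl 1 ∉ maximalIdeal X.E ^ n := by
    by_contra hall
    simp only [not_exists, not_not] at hall
    have : X.incl 1 ∈ (⨅ i, maximalIdeal X.E ^ i) := (Submodule.mem_iInf _).mpr hall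
    rw [Ideal.iInf_pow_eq_bot_of_isLocalRing _ (maximalIdeal.isMaximal _).ne_top] at this
    exact hne this
  have hItop : maximalIdeal X.E ^ n ≠ ⊤ := fun h => hn (h ▸ Submodule.mem_top)
  -- the kernel meets `m^n` trivially
  have hker : ∀ x, X.proj x = 0 → x ∈ maximalIdeal X.E ^ n → x = 0 := by
    intro x hx hxI
    obtain ⟨z, rfl⟩ := (X.isExtension.exact x).1 hx
    by_contra hz
    have hz0 : z ≠ 0 := fun h => hz (by rw [h, map_zero])
    obtain ⟨r', hr'⟩ := residue_surjective (z⁻¹)
    obtain ⟨e', he'⟩ := X.isExtension.proj_surjective r'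
    have h1 : e' * X.incl z = X.incl 1 := by
      rw [X.isExtension.mul_incl, he', smul_residue, hr', inv_mul_cancel₀ hz0]
    exact hn (h1 ▸ Ideal.mul_mem_left _ _ hxI)
  have _ : Nontrivial (X.E ⧸ maximalIdeal X.E ^ n) := Ideal.Quotient.nontrivial_iff.mpr hItop
  have _ : IsLocalRing (X.E ⧸ maximalIdeal X.E ^ n) :=
    IsLocalRing.of_surjective' (Ideal.Quotient.mk (maximalIdeal X.E ^ n))
      Ideal.Quotient.mk_surjective
  have _ : IsLocalHom (Ideal.Quotient.mk (maximalIdeal X.E ^ n)) :=
    IsLocalHom.of_surjective _ Ideal.Quotient.mk_surjective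
  have hmB : ∀ e : X.E, Ideal.Quotient.mk (maximalIdeal X.E ^ n) e ∈
      maximalIdeal (X.E ⧸ maximalIdeal X.E ^ n) ↔ e ∈ maximalIdeal X.E := by
    intro e
    rw [mem_maximalIdeal, mem_maximalIdeal, mem_nonunits_iff, mem_nonunits_iff, not_iff_not]
    exact ⟨fun h => isUnit_of_map_unit (Ideal.Quotient.mk (maximalIdeal X.E ^ n)) e h,
      fun h => h.map _⟩
  have _ : IsArtinianRing (X.E ⧸ maximalIdeal X.E ^ n) := by
    rw [isArtinianRing_iff_isNilpotent_maximalIdeal]
    refine ⟨n, ?_⟩
    rw [Ideal.zero_eq_bot, eq_bot_iff]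
    have h1 : maximalIdeal (X.E ⧸ maximalIdeal X.E ^ n) ≤
        (maximalIdeal X.E).map (Ideal.Quotient.mk (maximalIdeal X.E ^ n)) := by
      intro b hb
      obtain ⟨e, rfl⟩ := Ideal.Quotient.mk_surjective b
      exact Ideal.mem_map_of_mem _ ((hmB e).mp hb)
    calc maximalIdeal (X.E ⧸ maximalIdeal X.E ^ n) ^ n
        ≤ ((maximalIdeal X.E).map (Ideal.Quotient.mk (maximalIdeal X.E ^ n))) ^ n :=
          Ideal.pow_right_mono h1 n
      _ = (maximalIdeal X.E ^ n).map (Ideal.Quotient.mk (maximalIdeal X.E ^ n)) :=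
          (Ideal.map_pow _ _ _).symm
      _ = ⊥ := Ideal.map_quotient_self _
  have hmE : ∀ e : X.E, e ∈ maximalIdeal X.E ↔ X.proj e ∈ maximalIdeal R := by
    intro e
    rw [mem_maximalIdeal, mem_maximalIdeal, mem_nonunits_iff, mem_nonunits_iff, not_iff_not]
    exact ⟨fun h => h.map X.proj, fun h => isUnit_of_isUnit_proj X e h⟩
  -- residue field condition
  have hB : ∀ b : X.E ⧸ maximalIdeal X.E ^ n, ∃ c : k,
      b - algebraMap Λ (X.E ⧸ maximalIdeal X.E ^ n) (algebraMap k Λ c) ∈
        maximalIdeal (X.E ⧸ maximalIdeal X.E ^ n) := by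
    intro b
    obtain ⟨e, rfl⟩ := Ideal.Quotient.mk_surjective b
    obtain ⟨c, hc⟩ := hR (X.proj e)
    refine ⟨c, ?_⟩
    have h1 : e - algebraMap Λ X.E (algebraMap k Λ c) ∈ maximalIdeal X.E := by
      rw [hmE, map_sub, AlgHom.commutes]
      exact hc
    have h2 := (hmB _).mpr h1
    rwa [map_sub] at h2
  have ht : Ideal.Quotient.mk (maximalIdeal X.E ^ n) (X.incl 1) ∈
      maximalIdeal (X.E ⧸ maximalIdeal X.E ^ n) := by
    rw [hmB, hmE, proj_incl]
    exact Ideal.zero_mem _
  have htm : ∀ b ∈ maximalIdeal (X.E ⧸ maximalIdeal X.E ^ n),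
      b * Ideal.Quotient.mk (maximalIdeal X.E ^ n) (X.incl 1) = 0 := by
    intro b hb
    obtain ⟨e, rfl⟩ := Ideal.Quotient.mk_surjective b
    rw [hmB, hmE] at hb
    rw [← map_mul, mul_incl_one, (residue_eq_zero_iff _).mpr hb, map_zero, map_zero]
  -- the map `R → B/t`
  let ψ : X.E →ₐ[Λ] (X.E ⧸ maximalIdeal X.E ^ n) ⧸
      Ideal.span {Ideal.Quotient.mk (maximalIdeal X.E ^ n) (X.incl 1)} :=
    (Ideal.Quotient.mkₐ Λ _).comp (Ideal.Quotient.mkₐ Λ (maximalIdeal X.E ^ n))
  have hψ : ∀ x ∈ RingHom.ker (X.proj : X.E →+* R), ψ x = 0 := by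
    intro x hx
    obtain ⟨z, rfl⟩ := (X.isExtension.exact x).1 hx
    obtain ⟨e, he⟩ := incl_eq_mul_incl_one X z
    change Ideal.Quotient.mk _ (Ideal.Quotient.mk _ (X.incl z)) = 0
    rw [Ideal.Quotient.eq_zero_iff_mem, he, map_mul]
    exact Ideal.mul_mem_left _ _ (Ideal.subset_span rfl)
  let φ : R →ₐ[Λ] (X.E ⧸ maximalIdeal X.E ^ n) ⧸
      Ideal.span {Ideal.Quotient.mk (maximalIdeal X.E ^ n) (X.incl 1)} :=
    (Ideal.Quotient.liftₐ (RingHom.ker (X.proj : X.E →+* R)) ψ hψ).comp
      (Ideal.quotientKerAlgEquivOfSurjective X.isExtension.proj_surjective).symm.toAlgHom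
  have hφ : ∀ e : X.E, φ (X.proj e) = ψ e := by
    intro e
    have h1 : (Ideal.quotientKerAlgEquivOfSurjective X.isExtension.proj_surjective).symm (X.proj e) =
        Ideal.Quotient.mk _ e := by
      rw [AlgEquiv.symm_apply_eq]
      rfl
    change Ideal.Quotient.liftₐ _ ψ hψ
      ((Ideal.quotientKerAlgEquivOfSurjective X.isExtension.proj_surjective).symm (X.proj e)) = _
    rw [h1]
    rfl
  obtain ⟨φ', hφ'⟩ := hlift (X.E ⧸ maximalIdeal X.E ^ n) hB _ ht htm φ
  have hφ'' : ∀ r, Ideal.Quotient.mk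
      (Ideal.span {Ideal.Quotient.mk (maximalIdeal X.E ^ n) (X.incl 1)}) (φ' r) = φ r :=
    fun r => DFunLike.congr_fun hφ' r
  -- existence and uniqueness of the lift of an element
  have huniq : ∀ e e' : X.E, X.proj e = X.proj e' →
      Ideal.Quotient.mk (maximalIdeal X.E ^ n) e = Ideal.Quotient.mk (maximalIdeal X.E ^ n) e' →
      e = e' := by
    intro e e' h1 h2
    rw [← sub_eq_zero]
    apply hker
    · rw [map_sub, h1, sub_self]
    · rwa [← Ideal.Quotient.eq]
  have hex : ∀ r : R, ∃ e : X.E, X.proj e = r ∧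
      Ideal.Quotient.mk (maximalIdeal X.E ^ n) e = φ' r := by
    intro r
    obtain ⟨e₀, he₀⟩ := X.isExtension.proj_surjective r
    have h1 : Ideal.Quotient.mk (maximalIdeal X.E ^ n) e₀ - φ' r ∈
        Ideal.span {Ideal.Quotient.mk (maximalIdeal X.E ^ n) (X.incl 1)} := by
      rw [← Ideal.Quotient.eq, hφ'', ← he₀, hφ]
      rfl
    obtain ⟨b', hb'⟩ := Ideal.mem_span_singleton'.mp h1
    obtain ⟨e₁, rfl⟩ := Ideal.Quotient.mk_surjective b'
    refine ⟨e₀ - e₁ * X.incl 1, ?_, ?_⟩
    · rw [map_sub, map_mul, proj_incl, mul_zero, sub_zero, he₀]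
    · rw [map_sub, map_mul, hb']
      ring
  choose s hs1 hs2 using hex
  refine ⟨{ toFun := s
            map_one' := ?_
            map_mul' := ?_
            map_zero' := ?_
            map_add' := ?_
            commutes' := ?_ }, hs1⟩
  · apply huniq
    · rw [hs1, map_one]
    · rw [hs2, map_one, map_one]
  · intro x y
    apply huniq
    · rw [hs1, map_mul, hs1, hs1]
    · rw [hs2, map_mul, map_mul, hs2, hs2]
  · apply huniq
    · rw [hs1, map_zero]
    · rw [hs2, map_zero, map_zero]
  · intro x y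
    apply huniq
    · rw [hs1, map_add, hs1, hs1]
    · rw [hs2, map_add, map_add, hs2, hs2]
  · intro a
    apply huniq
    · rw [hs1, AlgHom.commutes]
    · rw [hs2, AlgHom.commutes]
      rfl

end Converse

section Direct

variable {k : Type u} [Field k] {Λ : Type u} [CommRing Λ] [Algebra k Λ]
  {R : Type u} [CommRing R] [Algebra Λ R] [IsLocalRing R]

/-- the comparison `k → κ(R)` -/
noncomputable def iotaK (k : Type u) [Field k] {Λ : Type u} [CommRing Λ] [Algebra k Λ]
    (R : Type u) [CommRing R] [Algebra Λ R] [IsLocalRing R] : k →+* ResidueField R :=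
  (residue R).comp ((algebraMap Λ R).comp (algebraMap k Λ))

lemma iotaK_bijective
    (hR : ∀ r : R, ∃ c : k, r - algebraMap Λ R (algebraMap k Λ c) ∈ maximalIdeal R) :
    Function.Bijective (iotaK k (Λ := Λ) R) := by
  refine ⟨(iotaK k R).injective, fun z => ?_⟩
  obtain ⟨r, rfl⟩ := residue_surjective z
  obtain ⟨c, hc⟩ := hR r
  refine ⟨c, ?_⟩
  have := (residue_eq_zero_iff _).mpr hc
  rw [map_sub, sub_eq_zero] at this
  exact this.symm

variable {B : Type u} [CommRing B] [Algebra Λ B] [IsLocalRing B]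

/-- the key congruence: if `φ r = [b]` then `b` and the constant of `r` agree up to the maximal ideal, so after
multiplication by `t` -/
lemma sub_mul_eq_zero
    (hR : ∀ r : R, ∃ c : k, r - algebraMap Λ R (algebraMap k Λ c) ∈ maximalIdeal R)
    (hB : ∀ b : B, ∃ c : k, b - algebraMap Λ B (algebraMap k Λ c) ∈ maximalIdeal B)
    (t : B) (ht : t ∈ maximalIdeal B) (htm : ∀ b ∈ maximalIdeal B, b * t = 0)
    (φ : R →ₐ[Λ] B ⧸ Ideal.span {t}) (r : R) (c : k)
    (hc : r - algebraMap Λ R (algebraMap k Λ c) ∈ maximalIdeal R) (b : B)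
    (hb : φ r = Ideal.Quotient.mk _ b) :
    (b - algebraMap Λ B (algebraMap k Λ c)) * t = 0 := by
  obtain ⟨c', hc'⟩ := hB (b - algebraMap Λ B (algebraMap k Λ c))
  have hc0 : c' = 0 := by
    by_contra hne
    -- `u = n_r - c'` is a unit of `R`
    have hu : IsUnit (r - algebraMap Λ R (algebraMap k Λ c) - algebraMap Λ R (algebraMap k Λ c')) := by
      rw [← notMem_maximalIdeal]
      intro hmem
      have h1 : algebraMap Λ R (algebraMap k Λ c') ∈ maximalIdeal R := by
        have := Ideal.sub_mem _ hc hmem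
        rwa [sub_sub_cancel] at this
      exact (mem_maximalIdeal _).mp h1
        (((Ne.isUnit hne).map (algebraMap k Λ)).map (algebraMap Λ R))
    have hφu : φ (r - algebraMap Λ R (algebraMap k Λ c) - algebraMap Λ R (algebraMap k Λ c')) =
        Ideal.Quotient.mk (Ideal.span {t})
          (b - algebraMap Λ B (algebraMap k Λ c) - algebraMap Λ B (algebraMap k Λ c')) := by
      rw [map_sub, map_sub, AlgHom.commutes, AlgHom.commutes, hb, map_sub, map_sub]
      rfl
    have hunit := hu.map φ
    rw [hφu] at hunit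
    obtain ⟨w, hw⟩ := hunit.exists_right_inv
    obtain ⟨w', rfl⟩ := Ideal.Quotient.mk_surjective w
    rw [← map_mul, ← map_one (Ideal.Quotient.mk (Ideal.span {t})), Ideal.Quotient.eq] at hw
    have h2 : (b - algebraMap Λ B (algebraMap k Λ c) - algebraMap Λ B (algebraMap k Λ c')) * w' - 1 ∈
        maximalIdeal B := by
      have hle : Ideal.span {t} ≤ maximalIdeal B := (Ideal.span_singleton_le_iff_mem _).mpr ht
      exact hle hw
    have h3 : (1 : B) ∈ maximalIdeal B := by
      have := Ideal.sub_mem _ (Ideal.mul_mem_right w' _ hc') h2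
      rwa [sub_sub_cancel] at this
    exact (Ideal.ne_top_iff_one _).mp (maximalIdeal.isMaximal B).ne_top h3
  rw [hc0, map_zero, map_zero, sub_zero] at hc'
  exact htm _ hc'

/-- the map `κ(R) → B` through `k` -/
noncomputable def theta
    (hR : ∀ r : R, ∃ c : k, r - algebraMap Λ R (algebraMap k Λ c) ∈ maximalIdeal R)
    (B : Type u) [CommRing B] [Algebra Λ B] : ResidueField R →+* B :=
  ((algebraMap Λ B).comp (algebraMap k Λ)).comp
    (RingEquiv.ofBijective (iotaK k (Λ := Λ) R) (iotaK_bijective hR)).symm.toRingHom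

lemma theta_residue
    (hR : ∀ r : R, ∃ c : k, r - algebraMap Λ R (algebraMap k Λ c) ∈ maximalIdeal R)
    (r : R) (c : k) (hc : r - algebraMap Λ R (algebraMap k Λ c) ∈ maximalIdeal R) :
    theta hR B (residue R r) = algebraMap Λ B (algebraMap k Λ c) := by
  have h1 : residue R r = iotaK k (Λ := Λ) R c := by
    have := (residue_eq_zero_iff _).mpr hc
    rw [map_sub, sub_eq_zero] at this
    exact this
  have h2 : (RingEquiv.ofBijective (iotaK k (Λ := Λ) R) (iotaK_bijective hR)).symm (residue R r) = c := by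
    rw [RingEquiv.symm_apply_eq, h1]
    rfl
  change algebraMap Λ B (algebraMap k Λ
    ((RingEquiv.ofBijective (iotaK k (Λ := Λ) R) (iotaK_bijective hR)).symm (residue R r))) = _
  rw [h2]

/-- the extension of `R` by its residue field obtained by pulling back `B → B/t` along `φ` -/
noncomputable def pullExt
    (hR : ∀ r : R, ∃ c : k, r - algebraMap Λ R (algebraMap k Λ c) ∈ maximalIdeal R)
    (hB : ∀ b : B, ∃ c : k, b - algebraMap Λ B (algebraMap k Λ c) ∈ maximalIdeal B)
    (t : B) (ht : t ∈ maximalIdeal B) (htm : ∀ b ∈ maximalIdeal B, b * t = 0) (ht0 : t ≠ 0)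
    (φ : R →ₐ[Λ] B ⧸ Ideal.span {t}) : Exal.Ext Λ R (ResidueField R) where
  E := AlgHom.equalizer (φ.comp (AlgHom.fst Λ R B))
    ((Ideal.Quotient.mkₐ Λ (Ideal.span {t})).comp (AlgHom.snd Λ R B))
  proj := (AlgHom.fst Λ R B).comp (Subalgebra.val _)
  incl :=
    { toFun := fun z => ⟨(0, theta hR B z * t), by
        change φ 0 = Ideal.Quotient.mk _ (theta hR B z * t)
        rw [map_zero, eq_comm, Ideal.Quotient.eq_zero_iff_mem]
        exact Ideal.mul_mem_left _ _ (Ideal.subset_span rfl)⟩
      map_zero' := by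
        apply Subtype.ext
        change ((0 : R), theta hR B 0 * t) = (0, 0)
        rw [map_zero, zero_mul]
      map_add' := fun z z' => by
        apply Subtype.ext
        change ((0 : R), theta hR B (z + z') * t) = (0 + 0, theta hR B z * t + theta hR B z' * t)
        rw [map_add, add_mul, add_zero] }
  isExtension :=
    { proj_surjective := fun r => by
        obtain ⟨b, hb⟩ := Ideal.Quotient.mk_surjective (φ r)
        exact ⟨⟨(r, b), hb.symm⟩, rfl⟩
      incl_injective := by
        rw [injective_iff_map_eq_zero]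
        intro z hz
        have h1 : theta hR B z * t = 0 := congrArg (fun x => x.1.2) hz
        by_contra hz0
        have hu : IsUnit (theta hR B z) := (Ne.isUnit hz0).map _
        exact ht0 ((hu.mul_right_eq_zero).mp h1)
      exact := fun x => by
        obtain ⟨⟨r, b⟩, hx⟩ := x
        change φ r = Ideal.Quotient.mk _ b at hx
        constructor
        · intro h
          change r = 0 at h
          subst h
          rw [map_zero, eq_comm, Ideal.Quotient.eq_zero_iff_mem] at hx
          obtain ⟨b', rfl⟩ := Ideal.mem_span_singleton'.mp hx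
          obtain ⟨c, hc⟩ := hB b'
          refine ⟨iotaK k (Λ := Λ) R c, ?_⟩
          apply Subtype.ext
          change ((0 : R), theta hR B (iotaK k (Λ := Λ) R c) * t) = (0, b' * t)
          have h1 : theta hR B (iotaK k (Λ := Λ) R c) = algebraMap Λ B (algebraMap k Λ c) := by
            change theta hR B (residue R (algebraMap Λ R (algebraMap k Λ c))) = _
            exact theta_residue hR _ c (by rw [sub_self]; exact Ideal.zero_mem _)
          have h2 := htm _ hc
          rw [sub_mul, sub_eq_zero] at h2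
          rw [h1, h2]
        · rintro ⟨z, hz⟩
          have := congrArg (fun x => x.1.1) hz
          exact this.symm
      mul_incl := fun x z => by
        obtain ⟨⟨r, b⟩, hx⟩ := x
        change φ r = Ideal.Quotient.mk _ b at hx
        apply Subtype.ext
        change (r * 0, b * (theta hR B z * t)) = ((0 : R), theta hR B (r • z) * t)
        obtain ⟨c, hc⟩ := hR r
        have h1 := sub_mul_eq_zero hR hB t ht htm φ r c hc b hx
        rw [sub_mul, sub_eq_zero] at h1
        rw [mul_zero, smul_residue, map_mul, theta_residue hR r c hc]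
        congr 1
        calc b * (theta hR B z * t) = theta hR B z * (b * t) := by ring
          _ = theta hR B z * (algebraMap Λ B (algebraMap k Λ c) * t) := by rw [h1]
          _ = algebraMap Λ B (algebraMap k Λ c) * theta hR B z * t := by ring }

/-- If every extension of `R` by its residue field is trivial, maps from `R` lift along small extensions. -/
theorem lifting_of_isTrivial
    (hR : ∀ r : R, ∃ c : k, r - algebraMap Λ R (algebraMap k Λ c) ∈ maximalIdeal R)
    (htriv : ∀ X : Exal.Ext Λ R (ResidueField R), X.IsTrivial)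
    (hB : ∀ b : B, ∃ c : k, b - algebraMap Λ B (algebraMap k Λ c) ∈ maximalIdeal B)
    (t : B) (ht : t ∈ maximalIdeal B) (htm : ∀ b ∈ maximalIdeal B, b * t = 0)
    (φ : R →ₐ[Λ] B ⧸ Ideal.span {t}) :
    ∃ φ' : R →ₐ[Λ] B, (Ideal.Quotient.mkₐ Λ (Ideal.span {t})).comp φ' = φ := by
  by_cases ht0 : t = 0
  · subst ht0
    have h0 : Ideal.span {(0 : B)} = ⊥ := Ideal.span_singleton_eq_bot.mpr rfl
    let q : B ⧸ Ideal.span {(0 : B)} →ₐ[Λ] B :=
      Ideal.Quotient.liftₐ _ (AlgHom.id Λ B) (fun a ha => by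
        rw [h0] at ha
        exact Ideal.mem_bot.mp ha)
    refine ⟨q.comp φ, ?_⟩
    apply AlgHom.ext
    intro r
    obtain ⟨b, hb⟩ := Ideal.Quotient.mk_surjective (φ r)
    change Ideal.Quotient.mk _ (q (φ r)) = φ r
    rw [← hb]
    rfl
  · obtain ⟨s, hs⟩ := htriv (pullExt hR hB t ht htm ht0 φ)
    refine ⟨((AlgHom.snd Λ R B).comp (Subalgebra.val _)).comp s, ?_⟩
    apply AlgHom.ext
    intro r
    have h1 : φ (s r).1.1 = Ideal.Quotient.mk _ (s r).1.2 := (s r).2
    have h2 : (s r).1.1 = r := hs r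
    change Ideal.Quotient.mk _ (s r).1.2 = φ r
    rw [← h1, h2]

end Direct

end Groth.Agent.Lib.Helper1.ExalSmall
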