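import Groth.Agent.Lib.Helper1.PSLift

/-!
# A uniform bound for extensions by the residue field (helper1)

`exists_uniform_pow`: for a Noetherian local ring `R` with residue field `k` (a coefficient field mapping to `R`), there is
`n` such that every extension of `R` by its residue field is pulled back from `R ⧸ 𝔪^(n+1)`.  Proof: the filtration
`K_n = ψ⁻¹(𝔪^(n+1)) ∩ (T)^n` of a polynomial ring `k[T] → R` is stable (Artin–Rees), and Krull in the middle ring.
-/


universe u

namespace Groth.Agent.Lib.Helper1.ExalUnif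

open IsLocalRing Groth.Agent.Lib.Helper10.ExalLib

section Filtration

variable {k : Type u} [Field k] {R : Type u} [CommRing R] [IsLocalRing R]
  {σ : Type u} (ψ : MvPolynomial σ k →+* R)
  (hψ : ∀ i, ψ (MvPolynomial.X i) ∈ maximalIdeal R)

include hψ in
lemma map_vars_le : Ideal.map ψ (Ideal.span (Set.range (MvPolynomial.X : σ → MvPolynomial σ k))) ≤
    maximalIdeal R := by
  rw [Ideal.map_span, Ideal.span_le]
  rintro _ ⟨_, ⟨i, rfl⟩, rfl⟩
  exact hψ i

/-- the filtration `K_n = ψ⁻¹(𝔪^(n+1)) ∩ 𝔫^n` of the polynomial ring -/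
noncomputable def filt (ψ : MvPolynomial σ k →+* R)
    (hψ : ∀ i, ψ (MvPolynomial.X i) ∈ maximalIdeal R) :
    (Ideal.span (Set.range (MvPolynomial.X : σ → MvPolynomial σ k))).Filtration (MvPolynomial σ k) where
  N n := (Ideal.comap ψ (maximalIdeal R ^ (n + 1)) ⊓
    (Ideal.span (Set.range (MvPolynomial.X : σ → MvPolynomial σ k))) ^ n : Ideal (MvPolynomial σ k))
  mono n := by
    apply inf_le_inf
    · exact Ideal.comap_mono (Ideal.pow_le_pow_right (Nat.le_succ _))
    · exact Ideal.pow_le_pow_right (Nat.le_succ _)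
  smul_le n := by
    rw [smul_eq_mul, Ideal.mul_le]
    intro a ha F hF
    refine ⟨?_, ?_⟩
    · change ψ (a * F) ∈ maximalIdeal R ^ (n + 1 + 1)
      rw [map_mul, pow_succ']
      exact Ideal.mul_mem_mul (map_vars_le ψ hψ (Ideal.mem_map_of_mem ψ ha)) hF.1
    · rw [pow_succ']
      exact Ideal.mul_mem_mul ha hF.2

lemma filt_stable [Finite σ] : (filt ψ hψ).Stable := by
  refine (Ideal.stableFiltration_stable _ ⊤).of_le (F' := filt ψ hψ) ?_
  intro n
  change (Ideal.comap ψ (maximalIdeal R ^ (n + 1)) ⊓ _ : Ideal (MvPolynomial σ k)) ≤ _ ^ n • ⊤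
  rw [smul_eq_mul, Ideal.mul_top]
  exact inf_le_right

end Filtration

section Ext

variable {k : Type u} [Field k] {Λ : Type u} [CommRing Λ] [Algebra k Λ]
  {R : Type u} [CommRing R] [Algebra Λ R] [IsLocalRing R] [IsNoetherianRing R]
  (X : Exal.Ext Λ R (ResidueField R)) {σ : Type u} (e : σ → X.E)

/-- elements of the kernel are killed by elements mapping to the maximal ideal -/
lemma incl_mul_eq_zero (z : ResidueField R) (a : X.E) (ha : X.proj a ∈ maximalIdeal R) :
    X.incl z * a = 0 := by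
  rw [mul_comm, X.isExtension.mul_incl, ExalSmall.smul_residue,
    (residue_eq_zero_iff (X.proj a)).mpr ha, zero_mul, map_zero]

lemma proj_mem_of_mem_span (he : ∀ i, X.proj (e i) ∈ maximalIdeal R) (a : X.E)
    (ha : a ∈ Ideal.span (Set.range e)) : X.proj a ∈ maximalIdeal R := by
  have h1 : Ideal.map (X.proj : X.E →+* R) (Ideal.span (Set.range e)) ≤ maximalIdeal R := by
    rw [Ideal.map_span, Ideal.span_le]
    rintro _ ⟨_, ⟨i, rfl⟩, rfl⟩
    exact he i
  exact h1 (Ideal.mem_map_of_mem _ ha)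

/-- lifting membership in powers of the maximal ideal -/
lemma exists_mem_pow_add_incl (hmap : Ideal.map (X.proj : X.E →+* R) (Ideal.span (Set.range e)) = maximalIdeal R)
    (n : ℕ) (y : X.E) (hy : X.proj y ∈ maximalIdeal R ^ n) :
    ∃ a ∈ Ideal.span (Set.range e) ^ n, ∃ z : ResidueField R, y = a + X.incl z := by
  rw [← hmap, ← Ideal.map_pow] at hy
  obtain ⟨a, ha, hay⟩ := (Ideal.mem_map_iff_of_surjective (X.proj : X.E →+* R)
    X.isExtension.proj_surjective).mp hy
  have h0 : X.proj (y - a) = 0 := by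
    rw [map_sub, sub_eq_zero]
    exact hay.symm
  obtain ⟨z, hz⟩ : ∃ z, X.incl z = y - a := ⟨_, X.incl_kerLift _ h0⟩
  exact ⟨a, ha, z, by rw [hz]; ring⟩

end Ext

section Main

variable {k : Type u} [Field k] {Λ : Type u} [CommRing Λ] [Algebra k Λ]
  {R : Type u} [CommRing R] [Algebra Λ R] [IsLocalRing R] [IsNoetherianRing R]

/-- There is `n`, depending only on `R`, such that every extension of `R` by its residue field is pulled back from
`R ⧸ 𝔪^(n+1)`. -/
theorem exists_uniform_pow
    (hR : ∀ r : R, ∃ c : k, r - algebraMap Λ R (algebraMap k Λ c) ∈ maximalIdeal R) :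
    ∃ n : ℕ, ∀ X : Exal.Ext Λ R (ResidueField R),
      ∃ I : Ideal X.E, (∀ x ∈ I, X.proj x = 0 → x = 0) ∧
        Ideal.map X.proj I = maximalIdeal R ^ (n + 1) := by
  classical
  obtain ⟨s, hs⟩ := (isNoetherianRing_iff_ideal_fg R).mp inferInstance (maximalIdeal R)
  let x : s → R := Subtype.val
  have hxspan : Ideal.span (Set.range x) = maximalIdeal R := by
    rw [Subtype.range_coe]
    exact hs
  have hxmem : ∀ i, x i ∈ maximalIdeal R := fun i => hs ▸ Ideal.subset_span i.2
  let κ₀ : k →+* R := (algebraMap Λ R).comp (algebraMap k Λ)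
  let ψ : MvPolynomial s k →+* R := MvPolynomial.eval₂Hom κ₀ x
  have hψX : ∀ i, ψ (MvPolynomial.X i) = x i := fun i => MvPolynomial.eval₂_X κ₀ x i
  have hψ : ∀ i, ψ (MvPolynomial.X i) ∈ maximalIdeal R := fun i => by rw [hψX]; exact hxmem i
  obtain ⟨n₀, hn₀⟩ := filt_stable ψ hψ
  refine ⟨n₀ + 1, fun X => ?_⟩
  have hlocE : IsLocalRing X.E := ExalSmall.isLocalRing_E X
  have hnoeE : IsNoetherianRing X.E := ExalSmall.isNoetherianRing_E X
  choose e he using fun i : s => X.isExtension.proj_surjective (x i)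
  let κE : k →+* X.E := (algebraMap Λ X.E).comp (algebraMap k Λ)
  let ψE : MvPolynomial s k →+* X.E := MvPolynomial.eval₂Hom κE e
  have hψEX : ∀ i, ψE (MvPolynomial.X i) = e i := fun i => MvPolynomial.eval₂_X κE e i
  have hκ : ∀ c, X.proj (κE c) = κ₀ c := fun c => X.proj.commutes _
  have hcomp : ∀ F, X.proj (ψE F) = ψ F := by
    intro F
    have h1 : (X.proj : X.E →+* R).comp ψE = ψ := by
      apply MvPolynomial.ringHom_ext
      · intro c
        change X.proj (ψE (MvPolynomial.C c)) = ψ (MvPolynomial.C c)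
        rw [show ψE (MvPolynomial.C c) = κE c from MvPolynomial.eval₂_C κE e c,
          show ψ (MvPolynomial.C c) = κ₀ c from MvPolynomial.eval₂_C κ₀ x c, hκ]
      · intro i
        change X.proj (ψE (MvPolynomial.X i)) = ψ (MvPolynomial.X i)
        rw [hψEX, hψX, he]
    exact RingHom.congr_fun h1 F
  have he' : ∀ i, X.proj (e i) ∈ maximalIdeal R := fun i => by rw [he]; exact hxmem i
  have hmap : Ideal.map (X.proj : X.E →+* R) (Ideal.span (Set.range e)) = maximalIdeal R := by
    rw [Ideal.map_span, ← Set.range_comp, ← hxspan]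
    congr 2
    funext i
    exact he i
  have h𝔞ψ : Ideal.map ψE (Ideal.span (Set.range (MvPolynomial.X : s → MvPolynomial s k))) =
      Ideal.span (Set.range e) := by
    rw [Ideal.map_span, ← Set.range_comp]
    congr 2
    funext i
    exact hψEX i
  -- multiplication by an element of `E` is multiplication by a scalar modulo the next power
  have hscal : ∀ (N : ℕ), 1 ≤ N → ∀ y ∈ Ideal.span (Set.range e) ^ N, ∀ c : X.E,
      ∃ l : k, c * y - κE l * y ∈ Ideal.span (Set.range e) ^ (N + 1) := by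
    intro N hN y hy c
    obtain ⟨l, hl⟩ := hR (X.proj c)
    obtain ⟨a, ha, z, hz⟩ := exists_mem_pow_add_incl X e hmap 1 (c - κE l)
      (by rw [pow_one, map_sub, hκ]; exact hl)
    refine ⟨l, ?_⟩
    have hy1 : y ∈ Ideal.span (Set.range e) := Ideal.pow_le_self (by omega) hy
    have h2 : c * y - κE l * y = a * y := by
      have : c * y - κE l * y = (c - κE l) * y := by ring
      rw [this, hz, add_mul, incl_mul_eq_zero X z y (proj_mem_of_mem_span X e he' y hy1), add_zero]
    rw [h2, pow_succ']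
    rw [pow_one] at ha
    exact Ideal.mul_mem_mul ha hy
  have hdecomp : ∀ (N : ℕ), 1 ≤ N → ∀ y ∈ Ideal.span (Set.range e) ^ N,
      ∃ F ∈ Ideal.span (Set.range (MvPolynomial.X : s → MvPolynomial s k)) ^ N,
        y - ψE F ∈ Ideal.span (Set.range e) ^ (N + 1) := by
    intro N hN y hy
    have hy' := hy
    rw [← h𝔞ψ, ← Ideal.map_pow] at hy'
    refine Submodule.span_induction (p := fun y _ =>
      ∃ F ∈ Ideal.span (Set.range (MvPolynomial.X : s → MvPolynomial s k)) ^ N,
        y - ψE F ∈ Ideal.span (Set.range e) ^ (N + 1)) ?_ ?_ ?_ ?_ hy'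
    · rintro _ ⟨F, hF, rfl⟩
      exact ⟨F, hF, by rw [sub_self]; exact zero_mem _⟩
    · exact ⟨0, zero_mem _, by rw [map_zero, sub_zero]; exact zero_mem _⟩
    · rintro y₁ y₂ _ _ ⟨F₁, hF₁, h₁⟩ ⟨F₂, hF₂, h₂⟩
      refine ⟨F₁ + F₂, add_mem hF₁ hF₂, ?_⟩
      have : y₁ + y₂ - ψE (F₁ + F₂) = (y₁ - ψE F₁) + (y₂ - ψE F₂) := by rw [map_add]; ring
      rw [this]
      exact add_mem h₁ h₂
    · rintro c y hyspan ⟨F, hF, h⟩
      have hyN : y ∈ Ideal.span (Set.range e) ^ N := by
        rw [← h𝔞ψ, ← Ideal.map_pow]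
        exact hyspan
      obtain ⟨l, hl⟩ := hscal N hN y hyN c
      refine ⟨MvPolynomial.C l * F, Ideal.mul_mem_left _ _ hF, ?_⟩
      have hC : ψE (MvPolynomial.C l * F) = κE l * ψE F := by
        rw [map_mul, show ψE (MvPolynomial.C l) = κE l from MvPolynomial.eval₂_C κE e l]
      have : c • y - ψE (MvPolynomial.C l * F) = (c * y - κE l * y) + κE l * (y - ψE F) := by
        rw [hC, smul_eq_mul]; ring
      rw [this]
      exact add_mem hl (Ideal.mul_mem_left _ _ h)
  -- the key step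
  have hstep : ∀ N, n₀ + 2 ≤ N → X.incl 1 ∈ Ideal.span (Set.range e) ^ N →
      X.incl 1 ∈ Ideal.span (Set.range e) ^ (N + 1) := by
    intro N hN h1
    obtain ⟨F, hF, hFy⟩ := hdecomp N (by omega) _ h1
    have hψF : ψ F ∈ maximalIdeal R ^ (N + 1) := by
      have h3 : X.proj (X.incl 1 - ψE F) ∈ maximalIdeal R ^ (N + 1) := by
        rw [← hmap, ← Ideal.map_pow]
        exact Ideal.mem_map_of_mem (X.proj : X.E →+* R) hFy
      rw [map_sub, proj_incl, zero_sub, hcomp] at h3
      exact neg_mem_iff.mp h3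
    have hFK : F ∈ (filt ψ hψ).N N := ⟨hψF, hF⟩
    obtain ⟨N', rfl⟩ : ∃ N', N = N' + 1 := ⟨N - 1, by omega⟩
    rw [← hn₀ N' (by omega)] at hFK
    have hψEF : ψE F ∈ Ideal.span (Set.range e) ^ (N' + 1 + 1) := by
      refine Submodule.smul_induction_on hFK ?_ ?_
      · intro a ha G hG
        rw [smul_eq_mul, map_mul]
        obtain ⟨a', ha', z, hz⟩ := exists_mem_pow_add_incl X e hmap (N' + 1) (ψE G)
          (by rw [hcomp]; exact hG.1)
        have haE : ψE a ∈ Ideal.span (Set.range e) := h𝔞ψ ▸ Ideal.mem_map_of_mem ψE ha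
        rw [hz, mul_add, mul_comm (ψE a) (X.incl z),
          incl_mul_eq_zero X z _ (proj_mem_of_mem_span X e he' _ haE), add_zero, pow_succ']
        exact Ideal.mul_mem_mul haE ha'
      · intro F₁ F₂ h₁ h₂
        rw [map_add]
        exact add_mem h₁ h₂
    have h4 := add_mem hFy hψEF
    rwa [sub_add_cancel] at h4
  -- Krull
  have h𝔞top : Ideal.span (Set.range e) ≠ ⊤ := by
    intro htop
    have h5 : (1 : X.E) ∈ Ideal.span (Set.range e) := by rw [htop]; trivial
    have h6 := proj_mem_of_mem_span X e he' 1 h5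
    rw [map_one] at h6
    exact (maximalIdeal.isMaximal R).ne_top ((Ideal.eq_top_iff_one _).mpr h6)
  have hK := Ideal.iInf_pow_eq_bot_of_isLocalRing _ h𝔞top
  have hnot : X.incl 1 ∉ Ideal.span (Set.range e) ^ (n₀ + 2) := by
    intro h1
    have hall : ∀ j, X.incl 1 ∈ Ideal.span (Set.range e) ^ (n₀ + 2 + j) := by
      intro j
      induction j with
      | zero => exact h1
      | succ j ih => exact hstep _ (Nat.le_add_right _ _) ih
    have h7 : X.incl 1 ∈ ⨅ i, Ideal.span (Set.range e) ^ i := by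
      rw [Ideal.mem_iInf]
      intro i
      exact Ideal.pow_le_pow_right (by omega : i ≤ n₀ + 2 + i) (hall i)
    rw [hK, Ideal.mem_bot] at h7
    have h8 : (1 : ResidueField R) = 0 := X.isExtension.incl_injective (by rw [h7, map_zero])
    exact one_ne_zero h8
  refine ⟨Ideal.span (Set.range e) ^ (n₀ + 2), ?_, ?_⟩
  · intro y hy hy0
    obtain ⟨z, rfl⟩ : ∃ z, X.incl z = y := ⟨_, X.incl_kerLift _ hy0⟩
    by_cases hz : z = 0
    · rw [hz, map_zero]
    · exfalso
      apply hnot
      obtain ⟨r, hr⟩ := residue_surjective (z⁻¹ : ResidueField R)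
      obtain ⟨c, hc⟩ := X.isExtension.proj_surjective r
      have h9 : X.incl 1 = c * X.incl z := by
        rw [X.isExtension.mul_incl, hc, ExalSmall.smul_residue, hr, inv_mul_cancel₀ hz]
      rw [h9]
      exact Ideal.mul_mem_left _ _ hy
  · change Ideal.map (X.proj : X.E →+* R) _ = _
    rw [Ideal.map_pow, hmap]

end Main

end Groth.Agent.Lib.Helper1.ExalUnif
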