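import Mathlib

/-!
# Finite étale covers on Ferrand pushouts (helper1), part 1: the free compatible case (rings)

For a fibre square of rings `R = A ×_C B`, `R' = A' ×_{C'} B'` over it, and a family `ε` of elements
of `R'` whose images are an `A`-basis of `A'`, a `B`-basis of `B'` and a `C`-basis of `C'`:
`ε` is an `R`-basis of `R'`, the squares `R → R' , A → A'` are pushouts, and `R → R'` is finite
étale when `A → A'` and `B → B'` are étale.
-/

set_option autoImplicit false
set_option linter.style.haveILetI false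
universe u

noncomputable section

namespace Groth.Agent.Lib.Helper1.FE

open CategoryTheory CategoryTheory.Limits TensorProduct

/-- `v` is a basis of `A'` as an `A`-module via the ring map `u`. -/
def IsBasisVia {A A' : Type u} [CommRing A] [CommRing A'] {ι : Type} [Fintype ι]
    (u : A →+* A') (v : ι → A') : Prop :=
  (∀ x : A', ∃ c : ι → A, ∑ k, u (c k) * v k = x) ∧
    ∀ c : ι → A, ∑ k, u (c k) * v k = 0 → c = 0

section Basis

variable {A A' : Type u} [CommRing A] [CommRing A'] [Algebra A A'] {ι : Type} [Fintype ι]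

lemma IsBasisVia.bijective {v : ι → A'} (h : IsBasisVia (algebraMap A A') v) :
    Function.Bijective (Fintype.linearCombination A v) := by
  constructor
  · rw [← LinearMap.ker_eq_bot, LinearMap.ker_eq_bot']
    intro c hc
    apply h.2
    rw [← hc, Fintype.linearCombination_apply]
    exact Finset.sum_congr rfl fun k _ => (Algebra.smul_def _ _).symm
  · intro x
    obtain ⟨c, hc⟩ := h.1 x
    refine ⟨c, ?_⟩
    rw [Fintype.linearCombination_apply, ← hc]
    exact Finset.sum_congr rfl fun k _ => Algebra.smul_def _ _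

/-- the basis attached to `IsBasisVia` -/
def IsBasisVia.toBasis {v : ι → A'} (h : IsBasisVia (algebraMap A A') v) : Module.Basis ι A A' :=
  Module.Basis.ofEquivFun
    (LinearEquiv.ofBijective (Fintype.linearCombination A v) h.bijective).symm

lemma IsBasisVia.toBasis_apply {v : ι → A'} (h : IsBasisVia (algebraMap A A') v) (k : ι) :
    h.toBasis k = v k := by
  classical
  rw [toBasis, Module.Basis.coe_ofEquivFun]
  simp [Fintype.linearCombination_apply, Pi.single_apply]

lemma isBasisVia_of_basis (b : Module.Basis ι A A') : IsBasisVia (algebraMap A A') b := by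
  constructor
  · intro x
    refine ⟨b.equivFun x, ?_⟩
    conv_rhs => rw [← b.sum_equivFun x]
    exact Finset.sum_congr rfl fun k _ => (Algebra.smul_def _ _).symm
  · intro c hc
    have h0 : ∑ k, c k • b k = 0 := by
      rw [← hc]; exact Finset.sum_congr rfl fun k _ => Algebra.smul_def _ _
    exact funext (Fintype.linearIndependent_iff.mp b.linearIndependent c h0)

end Basis

/-- **The free compatible case**: a compatible family of bases is a basis of the fibre product. -/
theorem free_case {R A B C R' A' B' C' : Type u} [CommRing R] [CommRing A] [CommRing B]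
    [CommRing C] [CommRing R'] [CommRing A'] [CommRing B'] [CommRing C']
    (f₁ : R →+* A) (f₂ : R →+* B) (φ : A →+* C) (ψ : B →+* C)
    (hex : ∀ a b, φ a = ψ b → ∃ r, f₁ r = a ∧ f₂ r = b)
    (hinj : ∀ r, f₁ r = 0 → f₂ r = 0 → r = 0)
    (f₁' : R' →+* A') (f₂' : R' →+* B') (φ' : A' →+* C') (ψ' : B' →+* C')
    (hf' : ∀ r, φ' (f₁' r) = ψ' (f₂' r))
    (hinj' : ∀ r, f₁' r = 0 → f₂' r = 0 → r = 0)
    (ρ : R →+* R') (uA : A →+* A') (uB : B →+* B') (uC : C →+* C')
    (h1 : ∀ r, f₁' (ρ r) = uA (f₁ r)) (h2 : ∀ r, f₂' (ρ r) = uB (f₂ r))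
    (h3 : ∀ a, φ' (uA a) = uC (φ a)) (h4 : ∀ b, ψ' (uB b) = uC (ψ b))
    {ι : Type} [Fintype ι] (ε : ι → R')
    (hA : IsBasisVia uA (fun k => f₁' (ε k))) (hB : IsBasisVia uB (fun k => f₂' (ε k)))
    (hC : IsBasisVia uC (fun k => φ' (f₁' (ε k)))) :
    IsBasisVia ρ ε := by
  constructor
  · intro x
    obtain ⟨cA, hcA⟩ := hA.1 (f₁' x)
    obtain ⟨cB, hcB⟩ := hB.1 (f₂' x)
    have hcomp : ∀ k, φ (cA k) = ψ (cB k) := by
      have e1 : ∑ k, uC (φ (cA k)) * φ' (f₁' (ε k)) = φ' (f₁' x) := by
        rw [← hcA, map_sum]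
        exact Finset.sum_congr rfl fun k _ => by rw [map_mul, h3]
      have e2 : ∑ k, uC (ψ (cB k)) * φ' (f₁' (ε k)) = φ' (f₁' x) := by
        rw [hf' x, ← hcB, map_sum]
        exact Finset.sum_congr rfl fun k _ => by rw [map_mul, h4, hf']
      have e3 : ∑ k, uC ((fun k => φ (cA k) - ψ (cB k)) k) * φ' (f₁' (ε k)) = 0 := by
        simp only [map_sub, sub_mul, Finset.sum_sub_distrib, e1, e2, sub_self]
      have h0 := hC.2 _ e3
      intro k
      exact sub_eq_zero.mp (congrFun h0 k)
    choose c hc1 hc2 using fun k => hex (cA k) (cB k) (hcomp k)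
    refine ⟨c, ?_⟩
    apply sub_eq_zero.mp
    apply hinj'
    · rw [map_sub, map_sum, sub_eq_zero, ← hcA]
      exact Finset.sum_congr rfl fun k _ => by rw [map_mul, h1, hc1]
    · rw [map_sub, map_sum, sub_eq_zero, ← hcB]
      exact Finset.sum_congr rfl fun k _ => by rw [map_mul, h2, hc2]
  · intro c hc
    have eA : ∑ k, uA (f₁ (c k)) * f₁' (ε k) = 0 := by
      have h0 := congrArg f₁' hc
      rw [map_sum, map_zero] at h0
      rw [← h0]
      exact Finset.sum_congr rfl fun k _ => by rw [map_mul, h1]
    have eB : ∑ k, uB (f₂ (c k)) * f₂' (ε k) = 0 := by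
      have h0 := congrArg f₂' hc
      rw [map_sum, map_zero] at h0
      rw [← h0]
      exact Finset.sum_congr rfl fun k _ => by rw [map_mul, h2]
    have hA0 := hA.2 (fun k => f₁ (c k)) eA
    have hB0 := hB.2 (fun k => f₂ (c k)) eB
    funext k
    exact hinj (c k) (congrFun hA0 k) (congrFun hB0 k)

section PO

variable {R R' A A' : Type u} [CommRing R] [CommRing R'] [CommRing A] [CommRing A']
  [Algebra R R'] [Algebra R A] [Algebra A A'] [Algebra R' A'] [Algebra R A']
  [IsScalarTower R A A'] [IsScalarTower R R' A'] {ι : Type} [Fintype ι]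

/-- matching bases give a pushout of algebras -/
theorem algebra_isPushout_of_isBasisVia (ε : ι → R') (hR : IsBasisVia (algebraMap R R') ε)
    (hA : IsBasisVia (algebraMap A A') (fun k => algebraMap R' A' (ε k))) :
    Algebra.IsPushout R A R' A' := by
  let bR := hR.toBasis
  let bA := hA.toBasis
  let e : A ⊗[R] R' ≃ₗ[A] A' := (Algebra.TensorProduct.basis A bR).equiv bA (Equiv.refl ι)
  refine ⟨IsBaseChange.of_equiv e ?_⟩
  intro x
  have key : (e.toLinearMap.restrictScalars R) ∘ₗ (TensorProduct.mk R A R' 1) =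
      (IsScalarTower.toAlgHom R R' A').toLinearMap := by
    apply bR.ext
    intro k
    simp only [LinearMap.coe_comp, LinearMap.coe_restrictScalars, LinearEquiv.coe_coe,
      Function.comp_apply, TensorProduct.mk_apply, AlgHom.toLinearMap_apply,
      IsScalarTower.coe_toAlgHom']
    rw [← Algebra.TensorProduct.basis_apply (A := A) bR k]
    simp only [e, Module.Basis.equiv_apply, Equiv.refl_apply]
    rw [hA.toBasis_apply, hR.toBasis_apply]
  exact LinearMap.congr_fun key x

end PO

/-- matching bases give a pushout square of commutative rings -/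
theorem isPushout_of_isBasisVia {R R' A A' : Type u} [CommRing R] [CommRing R'] [CommRing A]
    [CommRing A'] (ρ : R →+* R') (f : R →+* A) (f' : R' →+* A') (u : A →+* A')
    (hcomm : ∀ r, f' (ρ r) = u (f r)) {ι : Type} [Fintype ι] (ε : ι → R')
    (hR : IsBasisVia ρ ε) (hA : IsBasisVia u (fun k => f' (ε k))) :
    IsPushout (CommRingCat.ofHom ρ) (CommRingCat.ofHom f) (CommRingCat.ofHom f')
      (CommRingCat.ofHom u) := by
  letI : Algebra R R' := ρ.toAlgebra
  letI : Algebra R A := f.toAlgebra
  letI : Algebra A A' := u.toAlgebra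
  letI : Algebra R' A' := f'.toAlgebra
  letI : Algebra R A' := (u.comp f).toAlgebra
  haveI : IsScalarTower R A A' := .of_algebraMap_eq' rfl
  haveI : IsScalarTower R R' A' := .of_algebraMap_eq' (RingHom.ext fun r => (hcomm r).symm)
  haveI : Algebra.IsPushout R A R' A' := algebra_isPushout_of_isBasisVia ε hR hA
  haveI : Algebra.IsPushout R R' A A' := Algebra.IsPushout.symm inferInstance
  exact CommRingCat.isPushout_iff_isPushout.mpr inferInstance

end Groth.Agent.Lib.Helper1.FE
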