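import Groth.Agent.Lib.Helper1.FE1

/-!
# Finite étale covers on Ferrand pushouts (helper1), part 2: étaleness in the free compatible case
-/

set_option autoImplicit false
set_option linter.style.haveILetI false
universe u

noncomputable section

namespace Groth.Agent.Lib.Helper1.FE

open CategoryTheory CategoryTheory.Limits TensorProduct

section KTrick

variable {R A B C : Type u} [CommRing R] [CommRing A] [CommRing B] [CommRing C]
  [Algebra R A] [Algebra R B] (φ : A →+* C) (ψ : B →+* C)

/-- a module over a fibre product ring which dies on both factors is zero -/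
theorem subsingleton_of_tensor
    (hex : ∀ a b, φ a = ψ b → ∃ r : R, algebraMap R A r = a ∧ algebraMap R B r = b)
    (hinj : ∀ r : R, algebraMap R A r = 0 → algebraMap R B r = 0 → r = 0)
    (hf : ∀ r : R, φ (algebraMap R A r) = ψ (algebraMap R B r))
    (hφ : Function.Surjective φ)
    (M : Type u) [AddCommGroup M] [Module R M]
    [Subsingleton (A ⊗[R] M)] [Subsingleton (B ⊗[R] M)] : Subsingleton M := by
  have hsurj : Function.Surjective (Algebra.ofId R B) := by
    intro b
    obtain ⟨a, ha⟩ := hφ (ψ b)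
    obtain ⟨r, -, hr⟩ := hex a b ha
    exact ⟨r, hr⟩
  set K : Ideal R := RingHom.ker (Algebra.ofId R B) with hK
  have hKmem : ∀ k ∈ K, algebraMap R B k = 0 := fun k hk => (RingHom.mem_ker).mp hk
  -- Step 1
  have h1 : K • (⊤ : Submodule R M) = ⊤ := by
    let e₀ : (R ⧸ K) ≃ₐ[R] B := Ideal.quotientKerAlgEquivOfSurjective hsurj
    let e₁ : (R ⧸ K) ⊗[R] M ≃ₗ[R] B ⊗[R] M :=
      TensorProduct.congr e₀.toLinearEquiv (LinearEquiv.refl R M)
    haveI : Subsingleton ((R ⧸ K) ⊗[R] M) := e₁.toEquiv.subsingleton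
    haveI : Subsingleton (M ⧸ K • (⊤ : Submodule R M)) :=
      (TensorProduct.quotTensorEquivQuotSMul M K).symm.toEquiv.subsingleton
    exact Submodule.Quotient.subsingleton_iff.mp inferInstance
  -- Step 2
  have h2 : ∀ k ∈ K, ∀ m : M, k • m = 0 := by
    let I : Ideal A := RingHom.ker φ
    haveI : Subsingleton (↥I ⊗[R] M) :=
      (TensorProduct.AlgebraTensorModule.cancelBaseChange R A A (↥I) M).symm.toEquiv.subsingleton
    have hsec : ∀ x : I, ∃ r : R, algebraMap R A r = x.1 ∧ algebraMap R B r = 0 := fun x =>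
      hex x.1 0 (by rw [map_zero]; exact (RingHom.mem_ker).mp x.2)
    choose s hs1 hs2 using hsec
    let sl : ↥I →ₗ[R] R :=
      { toFun := s
        map_add' := fun x y => by
          apply sub_eq_zero.mp
          apply hinj
          · rw [map_sub, map_add, hs1, hs1, hs1]; simp
          · rw [map_sub, map_add, hs2, hs2, hs2]; simp
        map_smul' := fun r x => by
          apply sub_eq_zero.mp
          apply hinj
          · rw [map_sub, hs1, RingHom.id_apply, smul_eq_mul, map_mul, hs1]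
            simp [Algebra.smul_def]
          · rw [map_sub, hs2, RingHom.id_apply, smul_eq_mul, map_mul, hs2]; simp }
    let L : ↥I ⊗[R] M →ₗ[R] M := TensorProduct.lift ((LinearMap.lsmul R M).comp sl)
    intro k hk m
    have hkI : algebraMap R A k ∈ I := by
      rw [RingHom.mem_ker, hf k, hKmem k hk, map_zero]
    have hsk : s ⟨algebraMap R A k, hkI⟩ = k := by
      apply sub_eq_zero.mp
      apply hinj
      · rw [map_sub, hs1, sub_self]
      · rw [map_sub, hs2, hKmem k hk, sub_self]
    have hL : L ((⟨algebraMap R A k, hkI⟩ : I) ⊗ₜ[R] m) = k • m := by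
      simp only [L, TensorProduct.lift.tmul, LinearMap.coe_comp, Function.comp_apply,
        LinearMap.lsmul_apply]
      change s ⟨algebraMap R A k, hkI⟩ • m = k • m
      rw [hsk]
    rw [← hL, Subsingleton.elim ((⟨algebraMap R A k, hkI⟩ : I) ⊗ₜ[R] m) 0, map_zero]
  -- Step 3
  have hz : ∀ m : M, m = 0 := by
    intro m
    have hm : m ∈ K • (⊤ : Submodule R M) := by rw [h1]; exact Submodule.mem_top
    exact Submodule.smul_induction_on hm (fun k hk n _ => h2 k hk n)
      (fun x y hx hy => by rw [hx, hy, add_zero])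
  exact ⟨fun m m' => by rw [hz m, hz m']⟩

end KTrick

/-- **Étaleness in the free compatible case.** -/
theorem finite_etale_of_free_case {R A B C R' A' B' C' : Type u} [CommRing R] [CommRing A]
    [CommRing B] [CommRing C] [CommRing R'] [CommRing A'] [CommRing B'] [CommRing C']
    (f₁ : R →+* A) (f₂ : R →+* B) (φ : A →+* C) (ψ : B →+* C)
    (hf : ∀ r, φ (f₁ r) = ψ (f₂ r))
    (hex : ∀ a b, φ a = ψ b → ∃ r, f₁ r = a ∧ f₂ r = b)
    (hinj : ∀ r, f₁ r = 0 → f₂ r = 0 → r = 0)
    (hφ : Function.Surjective φ)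
    (f₁' : R' →+* A') (f₂' : R' →+* B') (φ' : A' →+* C') (ψ' : B' →+* C')
    (hf' : ∀ r, φ' (f₁' r) = ψ' (f₂' r))
    (hinj' : ∀ r, f₁' r = 0 → f₂' r = 0 → r = 0)
    (ρ : R →+* R') (uA : A →+* A') (uB : B →+* B') (uC : C →+* C')
    (h1 : ∀ r, f₁' (ρ r) = uA (f₁ r)) (h2 : ∀ r, f₂' (ρ r) = uB (f₂ r))
    (h3 : ∀ a, φ' (uA a) = uC (φ a)) (h4 : ∀ b, ψ' (uB b) = uC (ψ b))
    {ι : Type} [Fintype ι] (ε : ι → R')
    (hA : IsBasisVia uA (fun k => f₁' (ε k))) (hB : IsBasisVia uB (fun k => f₂' (ε k)))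
    (hC : IsBasisVia uC (fun k => φ' (f₁' (ε k))))
    (hAet : uA.Etale) (hBet : uB.Etale) :
    ρ.Finite ∧ ρ.Etale := by
  have hR := free_case f₁ f₂ φ ψ hex hinj f₁' f₂' φ' ψ' hf' hinj' ρ uA uB uC h1 h2 h3 h4 ε
    hA hB hC
  letI : Algebra R R' := ρ.toAlgebra
  letI : Algebra R A := f₁.toAlgebra
  letI : Algebra R B := f₂.toAlgebra
  letI : Algebra A A' := uA.toAlgebra
  letI : Algebra B B' := uB.toAlgebra
  letI : Algebra R' A' := f₁'.toAlgebra
  letI : Algebra R' B' := f₂'.toAlgebra
  letI : Algebra R A' := (uA.comp f₁).toAlgebra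
  letI : Algebra R B' := (uB.comp f₂).toAlgebra
  haveI : IsScalarTower R A A' := .of_algebraMap_eq' rfl
  haveI : IsScalarTower R B B' := .of_algebraMap_eq' rfl
  haveI : IsScalarTower R R' A' := .of_algebraMap_eq' (RingHom.ext fun r => (h1 r).symm)
  haveI : IsScalarTower R R' B' := .of_algebraMap_eq' (RingHom.ext fun r => (h2 r).symm)
  haveI : Algebra.Etale A A' := hAet
  haveI : Algebra.Etale B B' := hBet
  have hR' : IsBasisVia (algebraMap R R') ε := hR
  let bR := hR'.toBasis
  haveI : Module.Finite R R' := Module.Finite.of_basis bR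
  haveI : Module.Free R R' := Module.Free.of_basis bR
  haveI : Module.FinitePresentation R R' := Module.finitePresentation_of_projective R R'
  haveI : Algebra.FinitePresentation R R' := inferInstance
  haveI : Algebra.IsPushout R A R' A' := algebra_isPushout_of_isBasisVia ε hR' hA
  haveI : Algebra.IsPushout R B R' B' := algebra_isPushout_of_isBasisVia ε hR' hB
  haveI : Subsingleton (A ⊗[R] Ω[R'⁄R]) :=
    (KaehlerDifferential.tensorKaehlerEquivBase R A R' A').toEquiv.subsingleton
  haveI : Subsingleton (B ⊗[R] Ω[R'⁄R]) :=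
    (KaehlerDifferential.tensorKaehlerEquivBase R B R' B').toEquiv.subsingleton
  haveI : Subsingleton Ω[R'⁄R] := subsingleton_of_tensor φ ψ hex hinj hf hφ _
  haveI : Algebra.FormallyUnramified R R' := ⟨inferInstance⟩
  exact ⟨‹Module.Finite R R'›, Algebra.Etale.of_formallyUnramified_of_flat⟩

end Groth.Agent.Lib.Helper1.FE
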