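import Groth.Agent.Lib.Helper1.FE2

/-!
# Finite étale covers on Ferrand pushouts (helper1), part 3: producing bases (rings)

* `isBasisVia_of_away`: a family which is a basis "after inverting `t`" is a basis of the localization.
* `exists_basis_away_of_mod`: lifting a basis modulo an ideal `I` to a basis after inverting some
  `t ∈ 1 + I` (finite projective case; Nakayama twice).
* `isBasisVia_baseChange`: bases are preserved by base change.
* `ker_eq_map_of_isPushout`: the kernel of the base change of a surjection.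
-/

set_option autoImplicit false
set_option linter.style.haveILetI false
universe u

noncomputable section

namespace Groth.Agent.Lib.Helper1.FE

open CategoryTheory CategoryTheory.Limits TensorProduct

/-- transfer of a "basis after inverting `t`" to the localizations -/
theorem isBasisVia_of_away {A A' Ag A'g : Type u} [CommRing A] [CommRing A'] [CommRing Ag]
    [CommRing A'g] (u : A →+* A') (lA : A →+* Ag) (lA' : A' →+* A'g) (ug : Ag →+* A'g)
    (hcomm : ∀ a, ug (lA a) = lA' (u a)) (t : A)
    (h1 : @IsLocalization.Away A _ t Ag _ lA.toAlgebra)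
    (h2 : @IsLocalization.Away A' _ (u t) A'g _ lA'.toAlgebra)
    {ι : Type} [Fintype ι] (v : ι → A')
    (hspan : ∀ x, ∃ c : ι → A, u t * x = ∑ k, u (c k) * v k)
    (hind : ∀ c : ι → A, ∑ k, u (c k) * v k = 0 → ∀ k, t * c k = 0) :
    IsBasisVia ug (fun k => lA' (v k)) := by
  letI : Algebra A Ag := lA.toAlgebra
  letI : Algebra A' A'g := lA'.toAlgebra
  haveI := h1
  haveI := h2
  have hlA : ∀ a, algebraMap A Ag a = lA a := fun _ => rfl
  have hlA' : ∀ a, algebraMap A' A'g a = lA' a := fun _ => rfl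
  obtain ⟨w, hw⟩ : IsUnit (lA t) := IsLocalization.Away.algebraMap_isUnit (S := Ag) t
  set d : A'g := ug (↑w⁻¹ : Ag) with hd
  have hdu : d * lA' (u t) = 1 := by
    rw [hd, ← hcomm, ← map_mul, ← hw, Units.inv_mul, map_one]
  have hdpow : ∀ n : ℕ, d ^ n * lA' (u t) ^ n = 1 := fun n => by
    rw [← mul_pow, hdu, one_pow]
  have hut : IsUnit (lA t) := ⟨w, hw⟩
  constructor
  · intro y
    obtain ⟨n, x, hx⟩ := IsLocalization.Away.surj (u t) y
    rw [hlA', hlA'] at hx
    obtain ⟨c, hc⟩ := hspan x
    have key : lA' (u t) ^ (n + 1) * y = ∑ k, ug (lA (c k)) * lA' (v k) := by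
      have e1 : lA' (u t) ^ (n + 1) * y = lA' (u t) * (y * lA' (u t) ^ n) := by ring
      rw [e1, hx, ← map_mul, hc, map_sum]
      exact Finset.sum_congr rfl fun k _ => by rw [map_mul, hcomm]
    refine ⟨fun k => (↑w⁻¹ : Ag) ^ (n + 1) * lA (c k), ?_⟩
    have e2 : y = d ^ (n + 1) * (lA' (u t) ^ (n + 1) * y) := by
      rw [← mul_assoc, hdpow, one_mul]
    rw [e2, key, Finset.mul_sum]
    exact Finset.sum_congr rfl fun k _ => by rw [map_mul, map_pow, hd, mul_assoc]
  · intro c hc
    have hsurj : ∀ k, ∃ (n : ℕ) (a : A), c k * lA t ^ n = lA a := fun k => by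
      obtain ⟨n, a, h⟩ := IsLocalization.Away.surj t (c k)
      exact ⟨n, a, h⟩
    choose n a ha using hsurj
    set N : ℕ := ∑ k, n k with hN
    have hnN : ∀ k, n k ≤ N := fun k => Finset.single_le_sum (fun _ _ => Nat.zero_le _)
      (Finset.mem_univ k)
    set a' : ι → A := fun k => a k * t ^ (N - n k) with ha'
    have hca' : ∀ k, c k * lA t ^ N = lA (a' k) := fun k => by
      have : lA t ^ N = lA t ^ n k * lA t ^ (N - n k) := by
        rw [← pow_add, Nat.add_sub_cancel' (hnN k)]
      rw [this, ← mul_assoc, ha, ha', map_mul, map_pow]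
    have h0 : lA' (∑ k, u (a' k) * v k) = 0 := by
      rw [map_sum]
      have : ∑ k, lA' (u (a' k) * v k) = lA' (u t) ^ N * ∑ k, ug (c k) * lA' (v k) := by
        rw [Finset.mul_sum]
        refine Finset.sum_congr rfl fun k _ => ?_
        rw [map_mul, ← hcomm, ← hca', map_mul, map_pow, hcomm]
        ring
      rw [this, hc, mul_zero]
    obtain ⟨m, hm⟩ := IsLocalization.Away.exists_of_eq (S := A'g) (u t)
      (show algebraMap A' A'g (∑ k, u (a' k) * v k) = algebraMap A' A'g 0 by
        rw [hlA', hlA', h0, map_zero])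
    rw [mul_zero] at hm
    have h3 : ∑ k, u (t ^ m * a' k) * v k = 0 := by
      rw [← hm, Finset.mul_sum]
      exact Finset.sum_congr rfl fun k _ => by rw [map_mul, map_pow, mul_assoc]
    have h4 := hind _ h3
    funext k
    have h5 : lA (a' k) = 0 := by
      have h6 : lA t ^ (m + 1) * lA (a' k) = 0 := by
        rw [← map_pow, ← map_mul, pow_succ', mul_assoc, h4 k, map_zero]
      have hu : IsUnit (lA t ^ (m + 1)) := hut.pow _
      exact (hu.mul_right_eq_zero).mp h6
    have h7 : c k * lA t ^ N = 0 := by rw [hca', h5]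
    have hu : IsUnit (lA t ^ N) := hut.pow _
    exact (hu.mul_left_eq_zero).mp h7

open Pointwise in
/-- lifting a basis modulo `I` to a basis after inverting an element of `1 + I` -/
theorem exists_basis_away_of_mod {A A' : Type u} [CommRing A] [CommRing A'] [Algebra A A']
    [Module.Finite A A'] [Module.Projective A A'] (I : Ideal A) {n : ℕ} (v : Fin n → A')
    (H1 : ∀ x : A', ∃ c : Fin n → A,
      x - ∑ k, algebraMap A A' (c k) * v k ∈ I.map (algebraMap A A'))
    (H2 : ∀ c : Fin n → A,
      ∑ k, algebraMap A A' (c k) * v k ∈ I.map (algebraMap A A') → ∀ k, c k ∈ I) :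
    ∃ t : A, t - 1 ∈ I ∧
      (∀ x : A', ∃ c : Fin n → A, algebraMap A A' t * x = ∑ k, algebraMap A A' (c k) * v k) ∧
      ∀ c : Fin n → A, ∑ k, algebraMap A A' (c k) * v k = 0 → ∀ k, t * c k = 0 := by
  classical
  let π : (Fin n → A) →ₗ[A] A' := Fintype.linearCombination A v
  have hπ : ∀ c, π c = ∑ k, algebraMap A A' (c k) * v k := fun c => by
    rw [Fintype.linearCombination_apply]
    exact Finset.sum_congr rfl fun k _ => Algebra.smul_def _ _
  let N : Submodule A A' := LinearMap.range π
  have step1 : (⊤ : Submodule A A') ≤ N ⊔ I • (⊤ : Submodule A A') := by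
    intro x _
    obtain ⟨c, hc⟩ := H1 x
    have hx : x = π c + (x - π c) := by ring
    rw [hx]
    refine Submodule.add_mem_sup ⟨c, rfl⟩ ?_
    rw [Ideal.smul_top_eq_map, Submodule.restrictScalars_mem, hπ]
    exact hc
  obtain ⟨t₁, ht₁, hle⟩ := Submodule.exists_sub_one_mem_and_smul_le_of_fg_of_le_sup
    (N := N) (N' := ⊤) (P := ⊤) (I := I) Module.Finite.fg_top le_rfl step1
  have hgen : ∀ x : A', t₁ • x ∈ N := fun x =>
    hle (Submodule.smul_mem_pointwise_smul x t₁ ⊤ Submodule.mem_top)
  -- the projective lifting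
  let g : A' →ₗ[A] N := (LinearMap.lsmul A A' t₁).codRestrict N hgen
  obtain ⟨σ, hσ⟩ := Module.projective_lifting_property π.rangeRestrict g
    (LinearMap.surjective_rangeRestrict π)
  have hσ' : ∀ x, π (σ x) = t₁ • x := fun x => by
    have := congrArg Subtype.val (LinearMap.congr_fun hσ x)
    exact this
  let θ : (Fin n → A) →ₗ[A] (Fin n → A) := t₁ • LinearMap.id - σ ∘ₗ π
  have hθ : ∀ c, θ c = t₁ • c - σ (π c) := fun c => rfl
  have hθπ : ∀ c, π (θ c) = 0 := fun c => by
    rw [hθ, map_sub, map_smul, hσ', sub_self]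
  have hθker : ∀ c, π c = 0 → θ c = t₁ • c := fun c hc => by
    rw [hθ, hc, map_zero, sub_zero]
  have hθI : ∀ c k, θ c k ∈ I := fun c k =>
    H2 (θ c) (by rw [← hπ, hθπ]; exact zero_mem _) k
  let L : Submodule A (Fin n → A) := LinearMap.range θ
  have hLfg : L.FG := by
    change (LinearMap.range θ).FG
    rw [LinearMap.range_eq_map]
    exact Submodule.FG.map _ Module.Finite.fg_top
  have hLI : L ≤ I • L := by
    rintro _ ⟨c, rfl⟩
    set w := θ c with hw
    have h1 : θ w = t₁ • w := hθker w (hθπ c)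
    have h2 : θ w ∈ I • L := by
      have hsum : w = ∑ k, w k • (Pi.single k (1 : A) : Fin n → A) := by
        funext j
        simp [Finset.sum_apply, Pi.single_apply]
      rw [hsum, map_sum]
      refine Submodule.sum_mem _ fun k _ => ?_
      rw [map_smul]
      exact Submodule.smul_mem_smul (hθI c k) ⟨_, rfl⟩
    have h3 : (1 - t₁) • w ∈ I • L := by
      refine Submodule.smul_mem_smul ?_ ⟨c, rfl⟩
      have : 1 - t₁ = -(t₁ - 1) := by ring
      rw [this]; exact I.neg_mem ht₁
    have h4 : w = t₁ • w + (1 - t₁) • w := by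
      rw [← add_smul]; simp
    rw [h4, ← h1]
    exact Submodule.add_mem _ h2 h3
  obtain ⟨t₂, ht₂, hkill⟩ :=
    Submodule.exists_sub_one_mem_and_smul_eq_zero_of_fg_of_le_smul I L hLfg hLI
  refine ⟨t₂ * t₁, ?_, ?_, ?_⟩
  · have : t₂ * t₁ - 1 = t₂ * (t₁ - 1) + (t₂ - 1) := by ring
    rw [this]
    exact I.add_mem (I.mul_mem_left _ ht₁) ht₂
  · intro x
    obtain ⟨c, hc⟩ := hgen x
    refine ⟨t₂ • c, ?_⟩
    have hc' : π c = t₁ • x := hc
    have : ∑ k, algebraMap A A' ((t₂ • c) k) * v k = algebraMap A A' t₂ * π c := by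
      rw [hπ, Finset.mul_sum]
      exact Finset.sum_congr rfl fun k _ => by
        rw [Pi.smul_apply, smul_eq_mul, map_mul, mul_assoc]
    rw [this, hc', Algebra.smul_def, map_mul, mul_assoc]
  · intro c hc k
    have hπc : π c = 0 := by rw [hπ, hc]
    have h1 : θ c = t₁ • c := hθker c hπc
    have h2 := hkill (θ c) ⟨c, rfl⟩
    rw [h1] at h2
    have := congrFun h2 k
    simpa [mul_assoc] using this

/-- bases are preserved by base change -/
theorem isBasisVia_baseChange {B B' C C' : Type u} [CommRing B] [CommRing B'] [CommRing C]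
    [CommRing C'] (uB : B →+* B') (ψ : B →+* C) (ψ' : B' →+* C') (uC : C →+* C')
    (hpo : IsPushout (CommRingCat.ofHom uB) (CommRingCat.ofHom ψ) (CommRingCat.ofHom ψ')
      (CommRingCat.ofHom uC))
    {ι : Type} [Fintype ι] (e : ι → B') (he : IsBasisVia uB e) :
    IsBasisVia uC (fun k => ψ' (e k)) := by
  letI : Algebra B B' := uB.toAlgebra
  letI : Algebra B C := ψ.toAlgebra
  letI : Algebra B' C' := ψ'.toAlgebra
  letI : Algebra C C' := uC.toAlgebra
  letI : Algebra B C' := (uC.comp ψ).toAlgebra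
  haveI : IsScalarTower B C C' := .of_algebraMap_eq' rfl
  have hw : ψ'.comp uB = uC.comp ψ := congrArg CommRingCat.Hom.hom hpo.w
  haveI : IsScalarTower B B' C' := .of_algebraMap_eq' hw.symm
  have h1 : Algebra.IsPushout B B' C C' := CommRingCat.isPushout_iff_isPushout.mp hpo
  have h2 : Algebra.IsPushout B C B' C' := h1.symm
  have he' : IsBasisVia (algebraMap B B') e := he
  let bC := IsBaseChange.basis he'.toBasis h2.out
  have h3 := isBasisVia_of_basis bC
  have h4 : (fun k => ψ' (e k)) = ⇑bC := by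
    funext k
    simp only [bC, IsBaseChange.basis_apply, IsBasisVia.toBasis_apply]
    rfl
  change IsBasisVia (algebraMap C C') (fun k => ψ' (e k))
  rw [h4]
  exact h3

/-- the kernel of the base change of a surjection -/
theorem ker_eq_map_of_isPushout {A A' C C' : Type u} [CommRing A] [CommRing A'] [CommRing C]
    [CommRing C'] (uA : A →+* A') (φ : A →+* C) (φ' : A' →+* C') (uC : C →+* C')
    (hpo : IsPushout (CommRingCat.ofHom uA) (CommRingCat.ofHom φ) (CommRingCat.ofHom φ')
      (CommRingCat.ofHom uC))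
    (hφ : Function.Surjective φ) : RingHom.ker φ' = (RingHom.ker φ).map uA := by
  have hw : φ'.comp uA = uC.comp φ := congrArg CommRingCat.Hom.hom hpo.w
  apply le_antisymm
  · set J : Ideal A' := (RingHom.ker φ).map uA with hJ
    let q : A' →+* A' ⧸ J := Ideal.Quotient.mk J
    have hker : RingHom.ker φ ≤ RingHom.ker (q.comp uA) := by
      intro x hx
      rw [RingHom.mem_ker, RingHom.comp_apply]
      exact Ideal.Quotient.eq_zero_iff_mem.mpr (Ideal.mem_map_of_mem _ hx)
    let γ : C →+* A' ⧸ J := φ.liftOfSurjective hφ ⟨q.comp uA, hker⟩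
    have hγ : γ.comp φ = q.comp uA := φ.liftOfSurjective_comp hφ ⟨q.comp uA, hker⟩
    let χ := hpo.desc (CommRingCat.ofHom q) (CommRingCat.ofHom γ)
      (by
        ext x
        exact (congrFun (congrArg DFunLike.coe hγ) x).symm)
    have hχ : χ.hom.comp φ' = q := congrArg CommRingCat.Hom.hom
      (hpo.inl_desc (CommRingCat.ofHom q) (CommRingCat.ofHom γ) _)
    intro x hx
    have : q x = 0 := by
      rw [← hχ, RingHom.comp_apply, (RingHom.mem_ker).mp hx, map_zero]
    exact Ideal.Quotient.eq_zero_iff_mem.mp this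
  · rw [Ideal.map_le_iff_le_comap]
    intro x hx
    rw [Ideal.mem_comap, RingHom.mem_ker]
    have := congrFun (congrArg DFunLike.coe hw) x
    simp only [RingHom.comp_apply] at this
    rw [this, (RingHom.mem_ker).mp hx, map_zero]

end Groth.Agent.Lib.Helper1.FE
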