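import Groth.Agent.Lib.Helper1.FE3

/-!
# Finite étale covers on Ferrand pushouts (helper1), part 4: local freeness (rings)
-/

set_option autoImplicit false
set_option linter.style.haveILetI false
universe u

noncomputable section

namespace Groth.Agent.Lib.Helper1.FE

open CategoryTheory CategoryTheory.Limits TensorProduct

attribute [local instance] RingHomInvPair.of_ringEquiv in
/-- a finite flat finitely presented algebra is free after inverting an element outside a given
prime, for every model of the localizations -/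
theorem exists_free_away {A A' : Type u} [CommRing A] [CommRing A'] [Algebra A A']
    [Module.Finite A A'] [Module.Flat A A'] [Module.FinitePresentation A A']
    (𝔭 : Ideal A) [𝔭.IsPrime] :
    ∃ g : A, g ∉ 𝔭 ∧ ∀ (Ag A'g : Type u) [CommRing Ag] [CommRing A'g] [Algebra A Ag]
      [Algebra A' A'g] [Algebra Ag A'g] [Algebra A A'g] [IsScalarTower A Ag A'g]
      [IsScalarTower A A' A'g] [IsLocalization.Away g Ag]
      [IsLocalization.Away (algebraMap A A' g) A'g],
      Module.Free Ag A'g ∧ Module.Finite Ag A'g := by
  let S := 𝔭.primeCompl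
  let f := LocalizedModule.mkLinearMap S A'
  haveI : Module.Free (Localization.AtPrime 𝔭) (LocalizedModule S A') :=
    Module.free_of_flat_of_isLocalRing
  obtain ⟨r, hr, hfree, -⟩ := Module.FinitePresentation.exists_free_localizedModule_powers S f
    (Localization.AtPrime 𝔭)
  refine ⟨r, hr, ?_⟩
  intro Ag A'g _ _ _ _ _ _ _ _ _ _
  haveI : IsLocalization (Algebra.algebraMapSubmonoid A' (Submonoid.powers r)) A'g := by
    rw [Algebra.algebraMapSubmonoid_powers]; infer_instance
  let fl : A' →ₗ[A] A'g := (IsScalarTower.toAlgHom A A' A'g).toLinearMap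
  haveI : IsLocalizedModule (Submonoid.powers r) fl :=
    isLocalizedModule_iff_isLocalization.mpr ‹_›
  refine ⟨?_, Module.Finite.of_isLocalizedModule (Submonoid.powers r) (Rₚ := Ag) fl⟩
  set e := (IsLocalization.algEquiv (Submonoid.powers r) (Localization (Submonoid.powers r))
    Ag).toRingEquiv with he
  refine (Module.Free.iff_of_equiv (σ := (e : Localization (Submonoid.powers r) →+* Ag))
    (M := LocalizedModule (Submonoid.powers r) A') (M' := A'g) ?_).mp hfree
  refine { __ := IsLocalizedModule.iso (Submonoid.powers r) fl, map_smul' := ?_ }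
  intro x y
  obtain ⟨x, s, rfl⟩ := IsLocalization.exists_mk'_eq (Submonoid.powers r) x
  apply ((Module.End.isUnit_iff _).mp (IsLocalizedModule.map_units fl s)).1
  simp [e, ← map_smul, ← smul_assoc]

/-- basis form of `exists_free_away` -/
theorem exists_isBasisVia_away {A A' : Type u} [CommRing A] [CommRing A'] [Algebra A A']
    [Module.Finite A A'] [Module.Flat A A'] [Module.FinitePresentation A A']
    (𝔭 : Ideal A) [𝔭.IsPrime] :
    ∃ g : A, g ∉ 𝔭 ∧ ∀ (Ag A'g : Type u) [CommRing Ag] [CommRing A'g] [Algebra A Ag]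
      [Algebra A' A'g] [Algebra Ag A'g] [Algebra A A'g] [IsScalarTower A Ag A'g]
      [IsScalarTower A A' A'g] [IsLocalization.Away g Ag]
      [IsLocalization.Away (algebraMap A A' g) A'g],
      ∃ (n : ℕ) (v : Fin n → A'g), IsBasisVia (algebraMap Ag A'g) v := by
  obtain ⟨g, hg, h⟩ := exists_free_away (A := A) (A' := A') 𝔭
  refine ⟨g, hg, ?_⟩
  intro Ag A'g _ _ _ _ _ _ _ _ _ _
  obtain ⟨h1, h2⟩ := h Ag A'g
  rcases subsingleton_or_nontrivial Ag with hs | hn
  · haveI : Subsingleton A'g := Module.subsingleton Ag A'g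
    refine ⟨0, fun k => k.elim0, fun x => ⟨fun k => k.elim0, Subsingleton.elim _ _⟩,
      fun c _ => Subsingleton.elim _ _⟩
  · exact ⟨_, _, isBasisVia_of_basis (Module.finBasis Ag A'g)⟩

end Groth.Agent.Lib.Helper1.FE
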