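import Groth.Agent.Lib.Helper1.FPS10

/-!
# A Ferrand pushout is a pushout of (pre)sheafed spaces (helper1)
-/

set_option autoImplicit false
set_option linter.unusedSectionVars false
set_option linter.unusedVariables false
set_option linter.style.haveILetI false
universe u

noncomputable section

namespace Groth.Agent.Lib.Helper1.FP

open AlgebraicGeometry CategoryTheory CategoryTheory.Limits TopologicalSpace Opposite TopCat

variable {X Y Z : Scheme.{u}} {i : Z ⟶ X} {j : Z ⟶ Y} [IsClosedImmersion i]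
  (hc : Covering i j) {P' : Scheme.{u}} {a' : X ⟶ P'} {b' : Y ⟶ P'}
  (hP : IsPushout i j a' b')

/-- parallel restriction maps agree -/
lemma presheaf_map_congr {T : TopCat.{u}} (F : TopCat.Presheaf CommRingCat.{u} T)
    {A B : (Opens T)ᵒᵖ} (u v : A ⟶ B) : F.map u = F.map v := by
  rw [show u = v from Quiver.Hom.unop_inj (Subsingleton.elim _ _)]


lemma cond_aux {C : Type*} [Category C] {A B B' D D' E : C} (f : A ⟶ B) (k : B ⟶ D) (g : A ⟶ B')
    (l : B' ⟶ D') (u : D' ⟶ D) (r : D ⟶ E) (r' : D' ⟶ E) (h : f ≫ k = (g ≫ l) ≫ u)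
    (hr : u ≫ r = r') : f ≫ k ≫ r = g ≫ l ≫ r' := by
  rw [← hr, ← Category.assoc, h]
  simp only [Category.assoc]

lemma nat_aux {C : Type*} [Category C] {A A' Q Q' B B' : C} (wφ : A ⟶ A') (m : A ⟶ Q)
    (m' : A' ⟶ Q') (pφ : Q ⟶ Q') (α : Q ⟶ B) (α' : Q' ⟶ B') (xφ : B ⟶ B') (fU : A ⟶ B)
    (fU' : A' ⟶ B') (h1 : m ≫ α = fU) (h1' : m' ≫ α' = fU') (n1 : wφ ≫ fU' = fU ≫ xφ)
    (n2 : pφ ≫ α' = α ≫ xφ) : (wφ ≫ m') ≫ α' = (m ≫ pφ) ≫ α' := by
  rw [Category.assoc, h1', n1, Category.assoc, n2, ← Category.assoc, h1]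

include hc hP in
/-- existence part of the universal property, in presheafed spaces -/
theorem exists_desc_psh [QuasiCompact a'] [QuasiCompact b'] (W : PresheafedSpace CommRingCat.{u})
    (f : X.toPresheafedSpace ⟶ W) (g : Y.toPresheafedSpace ⟶ W)
    (h : (Fsh.map i).hom ≫ f = (Fsh.map j).hom ≫ g) :
    ∃ m : P'.toPresheafedSpace ⟶ W, (Fsh.map a').hom ≫ m = f ∧ (Fsh.map b').hom ≫ m = g := by
  have hT := isPushout_base hc hP
  obtain ⟨mb, e1, e2⟩ : ∃ mb : (P' : TopCat) ⟶ W.carrier,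
      a'.base ≫ mb = f.base ∧ b'.base ≫ mb = g.base := by
    have hb : i.base ≫ f.base = j.base ≫ g.base := congrArg PresheafedSpace.Hom.base h
    exact ⟨hT.desc f.base g.base hb, hT.inl_desc _ _ _, hT.inr_desc _ _ _⟩
  obtain ⟨fb, fc⟩ := f
  obtain ⟨gb, gc⟩ := g
  dsimp only at e1 e2
  subst e1 e2
  -- the components
  have cond : ∀ U : Opens W.carrier,
      (fc.app (op U) : W.presheaf.obj (op U) ⟶ Γ(X, a' ⁻¹ᵁ ((Opens.map mb).obj U))) ≫
        i.appLE (a' ⁻¹ᵁ ((Opens.map mb).obj U)) ((i ≫ a') ⁻¹ᵁ ((Opens.map mb).obj U))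
          (Scheme.Hom.comp_preimage i a' _).le =
      (gc.app (op U) : W.presheaf.obj (op U) ⟶ Γ(Y, b' ⁻¹ᵁ ((Opens.map mb).obj U))) ≫
        j.appLE (b' ⁻¹ᵁ ((Opens.map mb).obj U)) ((i ≫ a') ⁻¹ᵁ ((Opens.map mb).obj U))
          (preimage_le_of_isPushout hP _) := by
    intro U
    have := PresheafedSpace.congr_app h (op U)
    rw [PresheafedSpace.comp_c_app, PresheafedSpace.comp_c_app] at this
    refine cond_aux _ _ _ _ _ _ _ this ?_
    exact (Z.presheaf.map_comp _ _).symm.trans (presheaf_map_congr _ _ _)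
  let mcU : ∀ U : Opens W.carrier, W.presheaf.obj (op U) ⟶ Γ(P', (Opens.map mb).obj U) :=
    fun U => (isPullback_app hc hP ((Opens.map mb).obj U)).lift _ _ (cond U)
  have mcU1 : ∀ U, mcU U ≫ a'.app ((Opens.map mb).obj U) = fc.app (op U) :=
    fun U => (isPullback_app hc hP ((Opens.map mb).obj U)).lift_fst _ _ (cond U)
  have mcU2 : ∀ U, mcU U ≫ b'.app ((Opens.map mb).obj U) = gc.app (op U) :=
    fun U => (isPullback_app hc hP ((Opens.map mb).obj U)).lift_snd _ _ (cond U)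
  let mc : W.presheaf ⟶ mb _* P'.presheaf :=
    { app := fun U => mcU U.unop
      naturality := by
        intro U U' φ
        refine (isPullback_app hc hP ((Opens.map mb).obj U'.unop)).hom_ext ?_ ?_
        · exact nat_aux _ _ _ _ _ _ _ _ _ (mcU1 U.unop) (mcU1 U'.unop) (fc.naturality φ)
            (a'.c.naturality ((Opens.map mb).op.map φ))
        · exact nat_aux _ _ _ _ _ _ _ _ _ (mcU2 U.unop) (mcU2 U'.unop) (gc.naturality φ)
            (b'.c.naturality ((Opens.map mb).op.map φ)) }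
  refine ⟨⟨mb, mc⟩, ?_, ?_⟩
  · refine PresheafedSpace.hext _ _ rfl (heq_of_eq ?_)
    refine NatTrans.ext (funext fun U => ?_)
    exact mcU1 U.unop
  · refine PresheafedSpace.hext _ _ rfl (heq_of_eq ?_)
    refine NatTrans.ext (funext fun U => ?_)
    exact mcU2 U.unop

lemma c_heq_of_eq {A B : PresheafedSpace CommRingCat.{u}} (α β : A ⟶ B) (h : α = β) :
    HEq α.c β.c := by
  subst h; rfl

include hc hP in
/-- uniqueness part of the universal property, in presheafed spaces -/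
theorem hom_ext_psh [QuasiCompact a'] [QuasiCompact b'] (W : PresheafedSpace CommRingCat.{u})
    (m m' : P'.toPresheafedSpace ⟶ W)
    (h1 : (Fsh.map a').hom ≫ m = (Fsh.map a').hom ≫ m')
    (h2 : (Fsh.map b').hom ≫ m = (Fsh.map b').hom ≫ m') : m = m' := by
  have hT := isPushout_base hc hP
  have hb : m.base = m'.base :=
    hT.hom_ext (congrArg PresheafedSpace.Hom.base h1) (congrArg PresheafedSpace.Hom.base h2)
  obtain ⟨mb, mc⟩ := m
  obtain ⟨mb', mc'⟩ := m'
  dsimp only at hb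
  subst hb
  refine PresheafedSpace.hext _ _ rfl (heq_of_eq ?_)
  refine NatTrans.ext (funext fun U => ?_)
  have k1 : ((Fsh.map a').hom ≫ (⟨mb, mc⟩ : P'.toPresheafedSpace ⟶ W)).c =
      ((Fsh.map a').hom ≫ (⟨mb, mc'⟩ : P'.toPresheafedSpace ⟶ W)).c :=
    eq_of_heq (c_heq_of_eq _ _ h1)
  have k2 : ((Fsh.map b').hom ≫ (⟨mb, mc⟩ : P'.toPresheafedSpace ⟶ W)).c =
      ((Fsh.map b').hom ≫ (⟨mb, mc'⟩ : P'.toPresheafedSpace ⟶ W)).c :=
    eq_of_heq (c_heq_of_eq _ _ h2)
  refine (isPullback_app hc hP ((Opens.map mb).obj U.unop)).hom_ext ?_ ?_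
  · exact NatTrans.congr_app k1 U
  · exact NatTrans.congr_app k2 U

include hc hP in
/-- **A Ferrand pushout of schemes is a pushout of presheafed spaces.** -/
theorem isPushout_psh [QuasiCompact a'] [QuasiCompact b'] :
    IsPushout (Fsh.map i).hom (Fsh.map j).hom (Fsh.map a').hom (Fsh.map b').hom := by
  have w : (Fsh.map i).hom ≫ (Fsh.map a').hom = (Fsh.map j).hom ≫ (Fsh.map b').hom := by
    have : Fsh.map i ≫ Fsh.map a' = Fsh.map j ≫ Fsh.map b' := by
      rw [← Fsh.map_comp, ← Fsh.map_comp, hP.w]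
    exact congrArg InducedCategory.Hom.hom this
  refine ⟨⟨w⟩, ⟨PushoutCocone.IsColimit.mk _
    (fun s => (exists_desc_psh hc hP s.pt s.inl s.inr s.condition).choose)
    (fun s => (exists_desc_psh hc hP s.pt s.inl s.inr s.condition).choose_spec.1)
    (fun s => (exists_desc_psh hc hP s.pt s.inl s.inr s.condition).choose_spec.2) ?_⟩⟩
  intro s m h1 h2
  refine hom_ext_psh hc hP s.pt _ _ ?_ ?_
  · rw [h1, (exists_desc_psh hc hP s.pt s.inl s.inr s.condition).choose_spec.1]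
  · rw [h2, (exists_desc_psh hc hP s.pt s.inl s.inr s.condition).choose_spec.2]

include hc hP in
/-- **A Ferrand pushout of schemes is a pushout of sheafed spaces.** -/
theorem isPushout_sheafedSpace [QuasiCompact a'] [QuasiCompact b'] :
    IsPushout (Fsh.map i) (Fsh.map j) (Fsh.map a') (Fsh.map b') := by
  have w : Fsh.map i ≫ Fsh.map a' = Fsh.map j ≫ Fsh.map b' := by
    rw [← Fsh.map_comp, ← Fsh.map_comp, hP.w]
  exact IsPushout.of_map (SheafedSpace.forgetToPresheafedSpace (C := CommRingCat.{u})) w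
    (isPushout_psh hc hP)

end Groth.Agent.Lib.Helper1.FP
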