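import Groth.Agent.Lib.Helper1.FE4
import Groth.Agent.Lib.Helper1.FPS11

/-!
# Finite étale covers on Ferrand pushouts (helper1), part 5: pulled-back charts
-/

set_option autoImplicit false
set_option linter.unusedSectionVars false
set_option linter.unusedVariables false
set_option linter.style.haveILetI false
universe u

noncomputable section

namespace Groth.Agent.Lib.Helper1.FP

open AlgebraicGeometry CategoryTheory CategoryTheory.Limits TopologicalSpace Opposite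

open Chart

namespace FEt

variable {X Y Z U₀ V₀ Q : Scheme.{u}} {i : Z ⟶ X} {j : Z ⟶ Y} [IsClosedImmersion i]
  {πU : U₀ ⟶ X} {πV : V₀ ⟶ Y} {qU : Q ⟶ U₀} {qV : Q ⟶ V₀} {qZ : Q ⟶ Z}
  [IsAffineHom πU] [IsAffineHom πV] [IsClosedImmersion qU]
  (hX : IsPullback qU qZ πU i) (hY : IsPullback qV qZ πV j)

include hX hY in
lemma pb_h (α : Chart i j) : qU ⁻¹ᵁ (πU ⁻¹ᵁ α.U) = qV ⁻¹ᵁ (πV ⁻¹ᵁ α.V) := by
  change (qU ≫ πU) ⁻¹ᵁ α.U = (qV ≫ πV) ⁻¹ᵁ α.V
  rw [hX.w, hY.w]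
  change qZ ⁻¹ᵁ (i ⁻¹ᵁ α.U) = qZ ⁻¹ᵁ (j ⁻¹ᵁ α.V)
  rw [α.h]

/-- the pulled-back chart -/
def pb (α : Chart i j) : Chart qU qV where
  U := πU ⁻¹ᵁ α.U
  V := πV ⁻¹ᵁ α.V
  hU := α.hU.preimage πU
  hV := α.hV.preimage πV
  h := pb_h hX hY α

lemma pb_W (α : Chart i j) : (pb hX hY α).W = qZ ⁻¹ᵁ α.W := by
  change (qU ≫ πU) ⁻¹ᵁ α.U = (qZ ≫ i) ⁻¹ᵁ α.U
  rw [hX.w]

/-- `Γ(X, U) → Γ(U₀, π⁻¹U)` -/
def uA (α : Chart i j) : Γ(X, α.U) →+* Γ(U₀, (pb hX hY α).U) :=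
  (πU.appLE α.U (pb hX hY α).U le_rfl).hom

/-- `Γ(Y, V) → Γ(V₀, π⁻¹V)` -/
def uB (α : Chart i j) : Γ(Y, α.V) →+* Γ(V₀, (pb hX hY α).V) :=
  (πV.appLE α.V (pb hX hY α).V le_rfl).hom

/-- `Γ(Z, W) → Γ(Q, q⁻¹W)` -/
def uC (α : Chart i j) : Γ(Z, α.W) →+* Γ(Q, (pb hX hY α).W) :=
  (qZ.appLE α.W (pb hX hY α).W (pb_W hX hY α).le).hom

lemma φ_uA (α : Chart i j) :
    (pb hX hY α).φ.comp (uA hX hY α) = (uC hX hY α).comp α.φ :=
  congrArg CommRingCat.Hom.hom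
    (appLE_comp_eq hX.w α.U (pb hX hY α).U α.W (pb hX hY α).W le_rfl (pb hX hY α).W_le'
      α.W_le' (pb_W hX hY α).le)

lemma ψ_uB (α : Chart i j) :
    (pb hX hY α).ψ.comp (uB hX hY α) = (uC hX hY α).comp α.ψ :=
  congrArg CommRingCat.Hom.hom
    (appLE_comp_eq hY.w α.V (pb hX hY α).V α.W (pb hX hY α).W le_rfl (pb hX hY α).W_le
      α.W_le (pb_W hX hY α).le)

/-- the map of fibre product rings -/
def ρR (α : Chart i j) : α.R →+* (pb hX hY α).R :=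
  FibProd.lift ((uA hX hY α).comp α.p₁) ((uB hX hY α).comp α.p₂) (by
    rw [← RingHom.comp_assoc, φ_uA, ← RingHom.comp_assoc, ψ_uB, RingHom.comp_assoc,
      RingHom.comp_assoc, FibProd.condition])

lemma p₁_ρR (α : Chart i j) :
    (pb hX hY α).p₁.comp (ρR hX hY α) = (uA hX hY α).comp α.p₁ := rfl

lemma p₂_ρR (α : Chart i j) :
    (pb hX hY α).p₂.comp (ρR hX hY α) = (uB hX hY α).comp α.p₂ := rfl

/-- the map `Spec R_{α'} → Spec R_α` -/
def tα (α : Chart i j) : (pb hX hY α).spec ⟶ α.spec :=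
  Spec.map (CommRingCat.ofHom (ρR hX hY α))

lemma a_tα (α : Chart i j) :
    (pb hX hY α).a ≫ tα hX hY α = πU.resLE α.U (pb hX hY α).U le_rfl ≫ α.a := by
  rw [a, a, tα, Category.assoc, ← Spec.map_comp, ← CommRingCat.ofHom_comp, p₁_ρR,
    CommRingCat.ofHom_comp, Spec.map_comp, ← Category.assoc (πU.resLE _ _ _),
    resLE_isoSpec_hom πU α.hU (pb hX hY α).hU le_rfl, Category.assoc]
  rfl

lemma b_tα (α : Chart i j) :
    (pb hX hY α).b ≫ tα hX hY α = πV.resLE α.V (pb hX hY α).V le_rfl ≫ α.b := by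
  rw [b, b, tα, Category.assoc, ← Spec.map_comp, ← CommRingCat.ofHom_comp, p₂_ρR,
    CommRingCat.ofHom_comp, Spec.map_comp, ← Category.assoc (πV.resLE _ _ _),
    resLE_isoSpec_hom πV α.hV (pb hX hY α).hV le_rfl, Category.assoc]
  rfl

/-- the pushout square of sections on the `X`-side -/
theorem isPushout_U (α : Chart i j) :
    IsPushout (CommRingCat.ofHom (uA hX hY α)) (CommRingCat.ofHom α.φ)
      (CommRingCat.ofHom (pb hX hY α).φ) (CommRingCat.ofHom (uC hX hY α)) := by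
  have hUY : (pb hX hY α).W = qU ⁻¹ᵁ (pb hX hY α).U ⊓ qZ ⁻¹ᵁ α.W := by
    rw [← pb_W hX hY α]
    exact (inf_idem _).symm
  exact (isIso_pushoutSection_iff hX (US := α.U) (UT := α.W) (UX := (pb hX hY α).U)
    α.W_le' le_rfl hUY).mp
    (isIso_pushoutSection_of_isAffineOpen hX α.W_le' le_rfl hUY α.hU α.hW (pb hX hY α).hU)

/-- the pushout square of sections on the `Y`-side -/
theorem isPushout_V (α : Chart i j) :
    IsPushout (CommRingCat.ofHom (uB hX hY α)) (CommRingCat.ofHom α.ψ)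
      (CommRingCat.ofHom (pb hX hY α).ψ) (CommRingCat.ofHom (uC hX hY α)) := by
  have hUY : (pb hX hY α).W = qV ⁻¹ᵁ (pb hX hY α).V ⊓ qZ ⁻¹ᵁ α.W := by
    rw [← pb_W hX hY α]
    rw [← (pb hX hY α).h]
    exact (inf_idem _).symm
  exact (isIso_pushoutSection_iff hY (US := α.V) (UT := α.W) (UX := (pb hX hY α).V)
    α.W_le le_rfl hUY).mp
    (isIso_pushoutSection_of_isAffineOpen hY α.W_le le_rfl hUY α.hV α.hW (pb hX hY α).hV)

end FEt

end Groth.Agent.Lib.Helper1.FP
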