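import Groth.Agent.Lib.Helper1.FE5

/-!
# Finite étale covers on Ferrand pushouts (helper1), part 6: charts with compatible bases
-/

set_option autoImplicit false
set_option linter.unusedSectionVars false
set_option linter.unusedVariables false
set_option linter.style.haveILetI false
universe u

noncomputable section

namespace Groth.Agent.Lib.Helper1.FP

open AlgebraicGeometry CategoryTheory CategoryTheory.Limits TopologicalSpace Opposite

open Chart

namespace FEt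

variable {X Y Z U₀ V₀ Q : Scheme.{u}} {i : Z ⟶ X} {j : Z ⟶ Y} [IsClosedImmersion i]
  {πU : U₀ ⟶ X} {πV : V₀ ⟶ Y} {qU : Q ⟶ U₀} {qV : Q ⟶ V₀} {qZ : Q ⟶ Z}
  [IsFinite πU] [IsFinite πV] [Etale πU] [Etale πV] [IsClosedImmersion qU]
  (hX : IsPullback qU qZ πU i) (hY : IsPullback qV qZ πV j)

/-- a chart with compatible bases -/
def GoodBasis (α : Chart i j) : Prop :=
  ∃ (n : ℕ) (ε : Fin n → (pb hX hY α).R),
    FE.IsBasisVia (uA hX hY α) (fun k => (pb hX hY α).p₁ (ε k)) ∧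
    FE.IsBasisVia (uB hX hY α) (fun k => (pb hX hY α).p₂ (ε k))

lemma fibProd_hinj {A B C : Type u} [CommRing A] [CommRing B] [CommRing C] (φ : A →+* C)
    (ψ : B →+* C) (r : FibProd φ ψ) (h1 : FibProd.fst φ ψ r = 0) (h2 : FibProd.snd φ ψ r = 0) :
    r = 0 :=
  FibProd.ext' (h1.trans (map_zero _).symm) (h2.trans (map_zero _).symm)

lemma isBasisVia_ρR (α : Chart i j) {n : ℕ} (ε : Fin n → (pb hX hY α).R)
    (hA : FE.IsBasisVia (uA hX hY α) (fun k => (pb hX hY α).p₁ (ε k)))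
    (hB : FE.IsBasisVia (uB hX hY α) (fun k => (pb hX hY α).p₂ (ε k))) :
    FE.IsBasisVia (ρR hX hY α) ε := by
  have hC := FE.isBasisVia_baseChange (uA hX hY α) α.φ (pb hX hY α).φ (uC hX hY α)
    (isPushout_U hX hY α) _ hA
  exact FE.free_case α.p₁ α.p₂ α.φ α.ψ (fun a b h => ⟨FibProd.mk a b h, rfl, rfl⟩)
    (fibProd_hinj α.φ α.ψ) (pb hX hY α).p₁ (pb hX hY α).p₂ (pb hX hY α).φ (pb hX hY α).ψ
    FibProd.condition_apply (fibProd_hinj _ _) (ρR hX hY α) (uA hX hY α) (uB hX hY α)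
    (uC hX hY α) (fun r => rfl) (fun r => rfl) (fun a => congr($(φ_uA hX hY α) a))
    (fun b => congr($(ψ_uB hX hY α) b)) ε hA hB hC

theorem finite_etale_tα (α : Chart i j) (hg : GoodBasis hX hY α) :
    IsFinite (tα hX hY α) ∧ Etale (tα hX hY α) := by
  obtain ⟨n, ε, hA, hB⟩ := hg
  have hC := FE.isBasisVia_baseChange (uA hX hY α) α.φ (pb hX hY α).φ (uC hX hY α)
    (isPushout_U hX hY α) _ hA
  have hAet : (uA hX hY α).Etale := πU.etale_appLE α.hU (pb hX hY α).hU le_rfl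
  have hBet : (uB hX hY α).Etale := πV.etale_appLE α.hV (pb hX hY α).hV le_rfl
  have key := FE.finite_etale_of_free_case α.p₁ α.p₂ α.φ α.ψ FibProd.condition_apply
    (fun a b h => ⟨FibProd.mk a b h, rfl, rfl⟩)
    (fibProd_hinj α.φ α.ψ) α.φ_surjective (pb hX hY α).p₁ (pb hX hY α).p₂ (pb hX hY α).φ
    (pb hX hY α).ψ FibProd.condition_apply (fibProd_hinj _ _) (ρR hX hY α) (uA hX hY α)
    (uB hX hY α) (uC hX hY α) (fun r => rfl) (fun r => rfl)
    (fun a => congr($(φ_uA hX hY α) a)) (fun b => congr($(ψ_uB hX hY α) b)) ε hA hB hC hAet hBet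
  rw [tα, IsFinite.SpecMap_iff, HasRingHomProperty.Spec_iff (P := @Etale)]
  exact key

theorem isPullback_a_tα (α : Chart i j) (hg : GoodBasis hX hY α) :
    IsPullback (pb hX hY α).a (πU.resLE α.U (pb hX hY α).U le_rfl) (tα hX hY α) α.a := by
  obtain ⟨n, ε, hA, hB⟩ := hg
  have hR := isBasisVia_ρR hX hY α ε hA hB
  have hpo := FE.isPushout_of_isBasisVia (ρR hX hY α) α.p₁ (pb hX hY α).p₁ (uA hX hY α)
    (fun r => rfl) ε hR hA
  have h1 := isPullback_SpecMap_of_isPushout _ _ _ _ hpo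
  refine IsPullback.of_iso h1 (pb hX hY α).hU.isoSpec.symm (Iso.refl _) α.hU.isoSpec.symm
    (Iso.refl _) ?_ ?_ ?_ ?_
  · rw [Iso.refl_hom, Category.comp_id, Iso.symm_hom, Chart.a, Iso.inv_hom_id_assoc]
  · rw [Iso.symm_hom, Iso.symm_hom, Iso.comp_inv_eq, Category.assoc,
      resLE_isoSpec_hom πU α.hU (pb hX hY α).hU le_rfl, Iso.inv_hom_id_assoc]
    rfl
  · rw [Iso.refl_hom, Category.comp_id, Iso.refl_hom, Category.id_comp]
    rfl
  · rw [Iso.refl_hom, Category.comp_id, Iso.symm_hom, Chart.a, Iso.inv_hom_id_assoc]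

theorem isPullback_b_tα (α : Chart i j) (hg : GoodBasis hX hY α) :
    IsPullback (pb hX hY α).b (πV.resLE α.V (pb hX hY α).V le_rfl) (tα hX hY α) α.b := by
  obtain ⟨n, ε, hA, hB⟩ := hg
  have hR := isBasisVia_ρR hX hY α ε hA hB
  have hpo := FE.isPushout_of_isBasisVia (ρR hX hY α) α.p₂ (pb hX hY α).p₂ (uB hX hY α)
    (fun r => rfl) ε hR hB
  have h1 := isPullback_SpecMap_of_isPushout _ _ _ _ hpo
  refine IsPullback.of_iso h1 (pb hX hY α).hV.isoSpec.symm (Iso.refl _) α.hV.isoSpec.symm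
    (Iso.refl _) ?_ ?_ ?_ ?_
  · rw [Iso.refl_hom, Category.comp_id, Iso.symm_hom, Chart.b, Iso.inv_hom_id_assoc]
  · rw [Iso.symm_hom, Iso.symm_hom, Iso.comp_inv_eq, Category.assoc,
      resLE_isoSpec_hom πV α.hV (pb hX hY α).hV le_rfl, Iso.inv_hom_id_assoc]
    rfl
  · rw [Iso.refl_hom, Category.comp_id, Iso.refl_hom, Category.id_comp]
    rfl
  · rw [Iso.refl_hom, Category.comp_id, Iso.symm_hom, Chart.b, Iso.inv_hom_id_assoc]

end FEt

end Groth.Agent.Lib.Helper1.FP
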