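import Groth.Agent.Lib.Helper1.FE6

/-!
# Finite étale covers on Ferrand pushouts (helper1), part 7: the glued cover
-/

set_option autoImplicit false
set_option linter.unusedSectionVars false
set_option linter.unusedVariables false
set_option linter.style.haveILetI false
universe u

noncomputable section

namespace Groth.Agent.Lib.Helper1.FP

open AlgebraicGeometry CategoryTheory CategoryTheory.Limits TopologicalSpace Opposite

open Chart

namespace FEt

variable {X Y Z U₀ V₀ Q : Scheme.{u}} {i : Z ⟶ X} {j : Z ⟶ Y} [IsClosedImmersion i]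
  {πU : U₀ ⟶ X} {πV : V₀ ⟶ Y} {qU : Q ⟶ U₀} {qV : Q ⟶ V₀} {qZ : Q ⟶ Z}
  [IsFinite πU] [IsFinite πV] [Etale πU] [Etale πV] [IsClosedImmersion qU]
  (hX : IsPullback qU qZ πU i) (hY : IsPullback qV qZ πV j) (hc : Covering i j)

include hX hY hc in
/-- the covering by pulled-back charts -/
lemma coveringQ : Covering qU qV := by
  refine ⟨fun u => ?_, fun v => ?_⟩
  · obtain ⟨α, hα⟩ := hc.hX (πU u)
    exact ⟨pb hX hY α, hα⟩
  · obtain ⟨α, hα⟩ := hc.hY (πV v)
    exact ⟨pb hX hY α, hα⟩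

include hX hY in
lemma w_t : qU ≫ (πU ≫ toP₁ hc) = qV ≫ (πV ≫ toP₂ hc) := by
  rw [← Category.assoc, hX.w, ← Category.assoc, hY.w, Category.assoc, Category.assoc, toP_comm hc]

/-- the glued morphism -/
def t : P qU qV ⟶ P i j := descP (w_t hX hY hc)

lemma toP₁_t : toP₁ (coveringQ hX hY hc) ≫ t hX hY hc = πU ≫ toP₁ hc :=
  toP₁_descP (coveringQ hX hY hc) (w_t hX hY hc)

lemma toP₂_t : toP₂ (coveringQ hX hY hc) ≫ t hX hY hc = πV ≫ toP₂ hc :=
  toP₂_descP (coveringQ hX hY hc) (w_t hX hY hc)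

lemma good_pb (α : Chart i j) : Good (πU ≫ toP₁ hc) (πV ≫ toP₂ hc) (pb hX hY α) := by
  refine ⟨BC.S α, BC.hS α, ?_, ?_⟩
  · change πU ⁻¹ᵁ α.U ≤ πU ⁻¹ᵁ (toP₁ hc ⁻¹ᵁ BC.S α)
    rw [toP₁_preimage hc α]
  · change πV ⁻¹ᵁ α.V ≤ πV ⁻¹ᵁ (toP₂ hc ⁻¹ᵁ BC.S α)
    rw [toP₂_preimage hc α]

lemma ι_t (α : Chart i j) :
    ι qU qV (pb hX hY α) ≫ t hX hY hc = tα hX hY α ≫ ι i j α := by
  rw [t, ι_descP (w_t hX hY hc) (pb hX hY α) (good_pb hX hY hc α)]
  refine (good_pb hX hY hc α).hom_ext _ _ ((good_pb hX hY hc α).a_desc _)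
    ((good_pb hX hY hc α).b_desc _) ?_ ?_
  · rw [← Category.assoc, a_tα, Category.assoc, ← ι_toP₁ hc α, ← Category.assoc,
      Scheme.Hom.resLE_comp_ι, Category.assoc]
  · rw [← Category.assoc, b_tα, Category.assoc, ← ι_toP₂ hc α, ← Category.assoc,
      Scheme.Hom.resLE_comp_ι, Category.assoc]

lemma t_preimage (α : Chart i j) :
    t hX hY hc ⁻¹ᵁ BC.S α = BC.S (pb hX hY α) := by
  ext p
  obtain ⟨u, rfl⟩ | ⟨v, rfl⟩ := toP_jointly_surjective (coveringQ hX hY hc) p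
  · have h1 : t hX hY hc (toP₁ (coveringQ hX hY hc) u) = toP₁ hc (πU u) := by
      rw [← Scheme.Hom.comp_apply, toP₁_t, Scheme.Hom.comp_apply]
    have h2 : toP₁ hc (πU u) ∈ BC.S α ↔ πU u ∈ α.U := by
      rw [← toP₁_preimage hc α]; rfl
    have h3 : toP₁ (coveringQ hX hY hc) u ∈ BC.S (pb hX hY α) ↔ u ∈ (pb hX hY α).U := by
      rw [← toP₁_preimage (coveringQ hX hY hc) (pb hX hY α)]; rfl
    change t hX hY hc (toP₁ (coveringQ hX hY hc) u) ∈ BC.S α ↔ _
    rw [h1, h2]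
    exact h3.symm
  · have h1 : t hX hY hc (toP₂ (coveringQ hX hY hc) v) = toP₂ hc (πV v) := by
      rw [← Scheme.Hom.comp_apply, toP₂_t, Scheme.Hom.comp_apply]
    have h2 : toP₂ hc (πV v) ∈ BC.S α ↔ πV v ∈ α.V := by
      rw [← toP₂_preimage hc α]; rfl
    have h3 : toP₂ (coveringQ hX hY hc) v ∈ BC.S (pb hX hY α) ↔ v ∈ (pb hX hY α).V := by
      rw [← toP₂_preimage (coveringQ hX hY hc) (pb hX hY α)]; rfl
    change t hX hY hc (toP₂ (coveringQ hX hY hc) v) ∈ BC.S α ↔ _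
    rw [h1, h2]
    exact h3.symm

lemma isPullback_ι_t (α : Chart i j) :
    IsPullback (ι qU qV (pb hX hY α)) (tα hX hY α) (t hX hY hc) (ι i j α) :=
  (IsOpenImmersion.isPullback (tα hX hY α) (ι qU qV (pb hX hY α)) (ι i j α) (t hX hY hc)
    (ι_t hX hY hc α) (t_preimage hX hY hc α)).flip

variable (hgood : ∀ p : P i j, ∃ α : Chart i j, GoodBasis hX hY α ∧ p ∈ BC.S α)

/-- the cover of `P i j` by good charts -/
def coverGood : (P i j).OpenCover where
  I₀ := {α : Chart i j // GoodBasis hX hY α}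
  X α := α.1.spec
  f α := ι i j α.1
  mem₀ := by
    rw [Scheme.presieve₀_mem_precoverage_iff]
    refine ⟨fun p => ?_, fun α => inferInstanceAs (IsOpenImmersion (ι i j α.1))⟩
    obtain ⟨α, hα, q, hq⟩ := hgood p
    exact ⟨⟨α, hα⟩, q, hq⟩

/-- the cover of `P qU qV` by pulled-back good charts -/
def coverGood' : (P qU qV).OpenCover where
  I₀ := {α : Chart i j // GoodBasis hX hY α}
  X α := (pb hX hY α.1).spec
  f α := ι qU qV (pb hX hY α.1)
  mem₀ := by
    rw [Scheme.presieve₀_mem_precoverage_iff]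
    refine ⟨fun p => ?_, fun α => inferInstanceAs (IsOpenImmersion (ι qU qV (pb hX hY α.1)))⟩
    obtain ⟨α, hα, hp⟩ := hgood (t hX hY hc p)
    have hp' : p ∈ t hX hY hc ⁻¹ᵁ BC.S α := hp
    rw [t_preimage hX hY hc α] at hp'
    obtain ⟨q, hq⟩ := hp'
    exact ⟨⟨α, hα⟩, q, hq⟩

include hgood in
theorem isFinite_t : IsFinite (t hX hY hc) :=
  of_forall_isPullback @IsFinite (t hX hY hc) (coverGood hX hY hgood) fun α =>
    ⟨_, _, _, isPullback_ι_t hX hY hc α.1, (finite_etale_tα hX hY α.1 α.2).1⟩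

include hgood in
theorem etale_t : Etale (t hX hY hc) :=
  of_forall_isPullback @Etale (t hX hY hc) (coverGood hX hY hgood) fun α =>
    ⟨_, _, _, isPullback_ι_t hX hY hc α.1, (finite_etale_tα hX hY α.1 α.2).2⟩

include hgood in
theorem isPullback_toP₁_t :
    IsPullback (toP₁ (coveringQ hX hY hc)) πU (t hX hY hc) (toP₁ hc) := by
  refine Scheme.isPullback_of_openCover _ _ _ _ (coverGood' hX hY hc hgood) fun α => ?_
  have hbig : IsPullback (pb hX hY α.1).a ((pb hX hY α.1).U.ι ≫ πU)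
      (ι qU qV (pb hX hY α.1) ≫ t hX hY hc) (toP₁ hc) := by
    have h := (isPullback_a_tα hX hY α.1 α.2).paste_vert (isPullback_a hc α.1)
    rw [Scheme.Hom.resLE_comp_ι, ← ι_t hX hY hc α.1] at h
    exact h
  let e := (isPullback_a (coveringQ hX hY hc) (pb hX hY α.1)).flip.isoPullback
  change IsPullback (pullback.snd (toP₁ (coveringQ hX hY hc)) (ι qU qV (pb hX hY α.1)))
    (pullback.fst (toP₁ (coveringQ hX hY hc)) (ι qU qV (pb hX hY α.1)) ≫ πU)
    (ι qU qV (pb hX hY α.1) ≫ t hX hY hc) (toP₁ hc)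
  refine IsPullback.of_iso hbig e (Iso.refl _) (Iso.refl _) (Iso.refl _) ?_ ?_ ?_ ?_
  · rw [Iso.refl_hom, Category.comp_id]
    exact ((isPullback_a (coveringQ hX hY hc) (pb hX hY α.1)).flip.isoPullback_hom_snd).symm
  · rw [Iso.refl_hom, Category.comp_id, ← Category.assoc]
    rw [(isPullback_a (coveringQ hX hY hc) (pb hX hY α.1)).flip.isoPullback_hom_fst]
  · rw [Iso.refl_hom, Category.comp_id, Iso.refl_hom, Category.id_comp]
  · rw [Iso.refl_hom, Category.comp_id, Iso.refl_hom, Category.id_comp]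

include hgood in
theorem isPullback_toP₂_t :
    IsPullback (toP₂ (coveringQ hX hY hc)) πV (t hX hY hc) (toP₂ hc) := by
  refine Scheme.isPullback_of_openCover _ _ _ _ (coverGood' hX hY hc hgood) fun α => ?_
  have hbig : IsPullback (pb hX hY α.1).b ((pb hX hY α.1).V.ι ≫ πV)
      (ι qU qV (pb hX hY α.1) ≫ t hX hY hc) (toP₂ hc) := by
    have h := (isPullback_b_tα hX hY α.1 α.2).paste_vert (isPullback_b hc α.1)
    rw [Scheme.Hom.resLE_comp_ι, ← ι_t hX hY hc α.1] at h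
    exact h
  let e := (isPullback_b (coveringQ hX hY hc) (pb hX hY α.1)).flip.isoPullback
  change IsPullback (pullback.snd (toP₂ (coveringQ hX hY hc)) (ι qU qV (pb hX hY α.1)))
    (pullback.fst (toP₂ (coveringQ hX hY hc)) (ι qU qV (pb hX hY α.1)) ≫ πV)
    (ι qU qV (pb hX hY α.1) ≫ t hX hY hc) (toP₂ hc)
  refine IsPullback.of_iso hbig e (Iso.refl _) (Iso.refl _) (Iso.refl _) ?_ ?_ ?_ ?_
  · rw [Iso.refl_hom, Category.comp_id]
    exact ((isPullback_b (coveringQ hX hY hc) (pb hX hY α.1)).flip.isoPullback_hom_snd).symm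
  · rw [Iso.refl_hom, Category.comp_id, ← Category.assoc]
    rw [(isPullback_b (coveringQ hX hY hc) (pb hX hY α.1)).flip.isoPullback_hom_fst]
  · rw [Iso.refl_hom, Category.comp_id, Iso.refl_hom, Category.id_comp]
  · rw [Iso.refl_hom, Category.comp_id, Iso.refl_hom, Category.id_comp]

end FEt

end Groth.Agent.Lib.Helper1.FP
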