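import Groth.Agent.Lib.Helper1.FPB10

/-!
# Base change of Ferrand pushouts (helper1), part 11: arbitrary base change of pinchings
-/

set_option autoImplicit false
set_option linter.unusedSectionVars false
set_option linter.unusedVariables false
set_option linter.style.haveILetI false
universe u

noncomputable section

namespace Groth.Agent.Lib.Helper1.FP

open AlgebraicGeometry CategoryTheory CategoryTheory.Limits TopologicalSpace Opposite

/-- charts away from the closed subscheme, with empty second open -/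
lemma exists_chart_of_not_mem_range_bot {X Y Z : Scheme.{u}} (i : Z ⟶ X) (j : Z ⟶ Y)
    [IsClosedImmersion i] (x : X) (hx : x ∉ Set.range ⇑i) :
    ∃ α : Chart i j, x ∈ α.U ∧ α.V = ⊥ := by
  have hcl : IsClosed (Set.range ⇑i) := i.isClosedEmbedding.isClosed_range
  let O : X.Opens := ⟨(Set.range ⇑i)ᶜ, hcl.isOpen_compl⟩
  obtain ⟨W, hW, hxW, hWO⟩ := exists_isAffineOpen_mem_and_subset (x := x) (U := O) hx
  refine ⟨⟨W, ⊥, hW, isAffineOpen_bot Y, ?_⟩, hxW, rfl⟩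
  ext z
  constructor
  · intro hz
    exact absurd ⟨z, rfl⟩ (hWO hz)
  · intro hz
    exact absurd hz (by simp)

namespace BC

/-- base change data along `Over.pullback` -/
def dataOver {S S' : Scheme.{u}} (g : S' ⟶ S) {Y X₁ X₂ X : Over S} (θ₁ : Y ⟶ X₁) (θ₂ : Y ⟶ X₂)
    [IsClosedImmersion θ₁.left] (hc : Covering θ₁.left θ₂.left) (φ₁ : X₁ ⟶ X) (φ₂ : X₂ ⟶ X)
    (hXl : IsPushout θ₁.left θ₂.left φ₁.left φ₂.left) (w : θ₁ ≫ φ₁ = θ₂ ≫ φ₂) :
    Data hc (pullback.fst X.hom g ≫ ((isPushout_toP hc).isoIsPushout _ _ hXl).inv) :=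
  Data.ofIsPushout hc hXl (pullback.fst X.hom g)
    (isPullback_overPullback g φ₁) (isPullback_overPullback g φ₂)
    (pZ := pullback.fst Y.hom g) (cF := ((Over.pullback g).map (θ₁ ≫ φ₁)).left)
    (iF := ((Over.pullback g).map θ₁).left) (jF := ((Over.pullback g).map θ₂).left)
    (by have := isPullback_overPullback g (θ₁ ≫ φ₁); rwa [Over.comp_left] at this)
    (pullback.lift_fst _ _ _) (by rw [← Over.comp_left, ← Functor.map_comp])
    (pullback.lift_fst _ _ _) (by rw [← Over.comp_left, ← Functor.map_comp, w])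

/-- **Arbitrary base change of pinchings** with projective cokernel. -/
theorem isPushout_pinch_baseChange {X Y T Z : Scheme.{u}} (f : X ⟶ Y) (t : T ⟶ Y) (ξ : Z ⟶ T)
    (ι : Z ⟶ X) [IsAffineHom t] [IsClosedImmersion ι] (hsq : ι ≫ f = ξ ≫ t)
    (hstd : ∀ y : Y, ∃ U : Y.Opens, IsAffineOpen U ∧ y ∈ U ∧ ∃ V : X.Opens, IsAffineOpen V ∧
      V ≤ f ⁻¹ᵁ U ∧ ∀ z : Z, (ξ ≫ t).base z ∈ U → ι.base z ∈ V)
    {P' : Scheme.{u}} (a : X ⟶ P') (b : T ⟶ P') (hP : IsPushout ι ξ a b)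
    [Flat ξ] [Surjective ξ]
    (hv : ∀ U : Y.affineOpens, @Pinch.CokerProjective Γ(Y, U) Γ(Z, (ξ ≫ t) ⁻¹ᵁ U)
      Γ(T, t ⁻¹ᵁ U) _ _ _ ((ξ ≫ t).app U).hom.toAlgebra (ξ.app (t ⁻¹ᵁ U)).hom)
    (p : P' ⟶ Y) (hap : a ≫ p = f) (hbp : b ≫ p = t) {Y' : Scheme.{u}} (g : Y' ⟶ Y) :
    IsPushout ((Over.pullback g).map (Over.homMk ι hsq : Over.mk (ξ ≫ t) ⟶ Over.mk f)).left
      ((Over.pullback g).map (Over.homMk ξ rfl : Over.mk (ξ ≫ t) ⟶ Over.mk t)).left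
      ((Over.pullback g).map (Over.homMk a hap : Over.mk f ⟶ Over.mk p)).left
      ((Over.pullback g).map (Over.homMk b hbp : Over.mk t ⟶ Over.mk p)).left := by
  have hc : Covering ι ξ := covering_of_hstd f t ξ ι hsq hstd
  let θ₁ : Over.mk (ξ ≫ t) ⟶ Over.mk f := Over.homMk ι hsq
  let θ₂ : Over.mk (ξ ≫ t) ⟶ Over.mk t := Over.homMk ξ rfl
  let φ₁ : Over.mk f ⟶ Over.mk p := Over.homMk a hap
  let φ₂ : Over.mk t ⟶ Over.mk p := Over.homMk b hbp
  haveI : IsClosedImmersion θ₁.left := ‹IsClosedImmersion ι›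
  have w : θ₁ ≫ φ₁ = θ₂ ≫ φ₂ := by
    ext
    exact hP.w
  let d := dataOver g θ₁ θ₂ hc φ₁ φ₂ hP w
  refine d.isPushout ?_
  -- the local condition
  set e := (isPushout_toP hc).isoIsPushout _ _ hP with he
  have e1 : toP₁ hc ≫ e.hom = a := (isPushout_toP hc).inl_isoIsPushout_hom _ _ hP
  have e2 : toP₂ hc ≫ e.hom = b := (isPushout_toP hc).inr_isoIsPushout_hom _ _ hP
  let p₀ : P ι ξ ⟶ Y := e.hom ≫ p
  have hp₁ : toP₁ hc ≫ p₀ = f := by rw [← Category.assoc, e1, hap]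
  have hp₂ : toP₂ hc ≫ p₀ = t := by rw [← Category.assoc, e2, hbp]
  let q : pullback p g ⟶ P ι ξ := pullback.fst p g ≫ e.inv
  have HF : IsPullback q (pullback.snd p g) p₀ g := by
    refine (IsPullback.of_hasPullback p g).of_iso (Iso.refl _) e.symm (Iso.refl _) (Iso.refl _)
      ?_ ?_ ?_ ?_
    · simp [q]
    · simp
    · simp [p₀]
    · simp
  intro f₀
  have key : ∀ τ : T, toP₂ hc τ = q f₀ →
      ∃ (α : Chart ι ξ) (O : (pullback p g).Opens) (hO : IsAffineOpen O)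
        (hOS : O ≤ q ⁻¹ᵁ S α), f₀ ∈ O ∧ d.LocalCond α O hO hOS := by
    intro τ hτ
    obtain ⟨U, hU, hyU, V, hV, hVU, hz⟩ := hstd (t τ)
    have hτα : τ ∈ (hstdChart f t ξ ι hsq U hU V hV hVU hz).V := hyU
    have hqf : q f₀ ∈ S (hstdChart f t ξ ι hsq U hU V hV hVU hz) := by
      rw [← hτ]
      exact ⟨(hstdChart f t ξ ι hsq U hU V hV hVU hz).b ⟨τ, hτα⟩,
        (toP₂_apply hc _ ⟨τ, hτα⟩).symm⟩
    have hSU := hstd_S_le f t ξ ι hsq U hU V hV hVU hz hc p₀ hp₁ hp₂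
    have hgy : g ((pullback.snd p g) f₀) ∈ U := by
      have h1 : g ((pullback.snd p g) f₀) = p₀ (q f₀) := by
        rw [← Scheme.Hom.comp_apply, ← Scheme.Hom.comp_apply, HF.w]
      rw [h1]
      exact hSU hqf
    obtain ⟨U', hU', hy'U', hU'U⟩ := exists_isAffineOpen_mem_and_subset
      (x := (pullback.snd p g) f₀) (U := g ⁻¹ᵁ U) hgy
    obtain ⟨r, hr1, hr2⟩ := exists_retraction_hstd f t ξ ι hsq U hU V hV hVU hz hc p₀ hp₁ hp₂
      (hv ⟨U, hU⟩)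
    exact ⟨hstdChart f t ξ ι hsq U hU V hV hVU hz,
      q ⁻¹ᵁ S (hstdChart f t ξ ι hsq U hU V hV hVU hz) ⊓ (pullback.snd p g) ⁻¹ᵁ U', _,
      inf_le_left, ⟨hqf, hy'U'⟩,
      d.localCond_of_split _ p₀ g (pullback.snd p g) HF U hU hSU U' hU' hU'U r hr1 hr2⟩
  rcases toP_jointly_surjective hc (q f₀) with ⟨x, hx⟩ | ⟨τ, hτ⟩
  · by_cases hxr : x ∈ Set.range ⇑ι
    · obtain ⟨z, rfl⟩ := hxr
      refine key (ξ z) ?_
      rw [← hx, ← Scheme.Hom.comp_apply, ← Scheme.Hom.comp_apply, toP_comm hc]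
    · obtain ⟨α, hxα, hαV⟩ := exists_chart_of_not_mem_range_bot ι ξ x hxr
      have hqf : q f₀ ∈ S α := by
        rw [← hx]
        exact ⟨α.a ⟨x, hxα⟩, (toP₁_apply hc _ ⟨x, hxα⟩).symm⟩
      obtain ⟨O, hO, hfO, hOS⟩ := exists_isAffineOpen_mem_and_subset (x := f₀)
        (U := q ⁻¹ᵁ S α) hqf
      exact ⟨α, O, hO, hOS, hfO, d.localCond_of_bot α O hO hOS hαV⟩
  · exact key τ hτ

end BC

end Groth.Agent.Lib.Helper1.FP
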