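import Groth.Agent.Lib.Helper1.FE7
import Groth.Agent.Lib.Helper1.FPB11

/-!
# Finite étale covers on Ferrand pushouts (helper1), part 8: existence of good charts
-/

set_option autoImplicit false
set_option linter.unusedSectionVars false
set_option linter.unusedVariables false
set_option linter.style.haveILetI false
universe u

noncomputable section

namespace Groth.Agent.Lib.Helper1.FP

open AlgebraicGeometry CategoryTheory CategoryTheory.Limits TopologicalSpace Opposite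

open Chart

namespace FEt

section Generic

variable {E X : Scheme.{u}} (π : E ⟶ X)

lemma preimage_basicOpen_le {O : X.Opens} (g : Γ(X, O)) : π ⁻¹ᵁ X.basicOpen g ≤ π ⁻¹ᵁ O :=
  fun _ hx => X.basicOpen_le g hx

/-- naturality of `appLE` for the restriction to a basic open -/
lemma appLE_basicOpen_comm {O : X.Opens} (g : Γ(X, O)) (a : Γ(X, O)) :
    (π.appLE (X.basicOpen g) (π ⁻¹ᵁ X.basicOpen g) le_rfl).hom
        ((X.presheaf.map (homOfLE (X.basicOpen_le g)).op).hom a) =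
      (E.presheaf.map (homOfLE (preimage_basicOpen_le π g)).op).hom
        ((π.appLE O (π ⁻¹ᵁ O) le_rfl).hom a) := by
  have h1 : X.presheaf.map (homOfLE (X.basicOpen_le g)).op ≫
      π.appLE (X.basicOpen g) (π ⁻¹ᵁ X.basicOpen g) le_rfl =
      π.appLE O (π ⁻¹ᵁ X.basicOpen g) (preimage_basicOpen_le π g) := Scheme.Hom.map_appLE ..
  have h2 : π.appLE O (π ⁻¹ᵁ O) le_rfl ≫
      E.presheaf.map (homOfLE (preimage_basicOpen_le π g)).op =
      π.appLE O (π ⁻¹ᵁ X.basicOpen g) (preimage_basicOpen_le π g) := Scheme.Hom.appLE_map ..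
  have h3 := congrArg CommRingCat.Hom.hom (h1.trans h2.symm)
  exact RingHom.congr_fun h3 a

/-- local freeness of a finite étale morphism, in basis form on a basic open -/
theorem exists_basis_basicOpen [IsFinite π] [Etale π] (O : X.Opens) (hO : IsAffineOpen O) (x : X)
    (hx : x ∈ O) :
    ∃ g : Γ(X, O), x ∈ X.basicOpen g ∧ ∀ g' : Γ(X, O), g' = g →
      ∃ (n : ℕ) (v : Fin n → Γ(E, π ⁻¹ᵁ X.basicOpen g')),
        FE.IsBasisVia (π.appLE (X.basicOpen g') (π ⁻¹ᵁ X.basicOpen g') le_rfl).hom v := by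
  have hO' : IsAffineOpen (π ⁻¹ᵁ O) := hO.preimage π
  set u : Γ(X, O) →+* Γ(E, π ⁻¹ᵁ O) := (π.appLE O (π ⁻¹ᵁ O) le_rfl).hom with hu
  have hu_app : ∀ a, u a = (π.app O).hom a := fun a => by rw [hu, ← Scheme.Hom.app_eq_appLE]
  have hfin : u.Finite := by
    have := π.finite_app O hO
    rwa [Scheme.Hom.app_eq_appLE] at this
  have het : u.Etale := π.etale_appLE hO hO' le_rfl
  letI algu : Algebra Γ(X, O) Γ(E, π ⁻¹ᵁ O) := u.toAlgebra
  haveI : Module.Finite Γ(X, O) Γ(E, π ⁻¹ᵁ O) := hfin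
  haveI : Algebra.Etale Γ(X, O) Γ(E, π ⁻¹ᵁ O) := het
  haveI : Module.Flat Γ(X, O) Γ(E, π ⁻¹ᵁ O) := inferInstance
  haveI : Module.FinitePresentation Γ(X, O) Γ(E, π ⁻¹ᵁ O) :=
    Module.FinitePresentation.of_finite_of_finitePresentation _ _
  let P : PrimeSpectrum Γ(X, O) := hO.isoSpec.hom ⟨x, hx⟩
  haveI : P.asIdeal.IsPrime := P.isPrime
  obtain ⟨g, hgP, hg⟩ := FE.exists_isBasisVia_away (A := Γ(X, O)) (A' := Γ(E, π ⁻¹ᵁ O)) P.asIdeal
  refine ⟨g, (mem_basicOpen_iff_isoSpec hO g ⟨x, hx⟩).mpr hgP, ?_⟩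
  intro g' hg'
  rw [hg']
  letI alg1 : Algebra Γ(X, O) Γ(X, X.basicOpen g) :=
    (X.presheaf.map (homOfLE (X.basicOpen_le g)).op).hom.toAlgebra
  letI alg2 : Algebra Γ(E, π ⁻¹ᵁ O) Γ(E, π ⁻¹ᵁ X.basicOpen g) :=
    (E.presheaf.map (homOfLE (preimage_basicOpen_le π g)).op).hom.toAlgebra
  letI alg3 : Algebra Γ(X, X.basicOpen g) Γ(E, π ⁻¹ᵁ X.basicOpen g) :=
    (π.appLE (X.basicOpen g) (π ⁻¹ᵁ X.basicOpen g) le_rfl).hom.toAlgebra
  letI alg4 : Algebra Γ(X, O) Γ(E, π ⁻¹ᵁ X.basicOpen g) :=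
    ((algebraMap Γ(X, X.basicOpen g) Γ(E, π ⁻¹ᵁ X.basicOpen g)).comp
      (algebraMap Γ(X, O) Γ(X, X.basicOpen g))).toAlgebra
  haveI : IsScalarTower Γ(X, O) Γ(X, X.basicOpen g) Γ(E, π ⁻¹ᵁ X.basicOpen g) :=
    IsScalarTower.of_algebraMap_eq (fun _ => rfl)
  haveI : IsScalarTower Γ(X, O) Γ(E, π ⁻¹ᵁ O) Γ(E, π ⁻¹ᵁ X.basicOpen g) :=
    IsScalarTower.of_algebraMap_eq (fun a => appLE_basicOpen_comm π g a)
  haveI : IsLocalization.Away g Γ(X, X.basicOpen g) :=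
    hO.isLocalization_of_eq_basicOpen g (homOfLE (X.basicOpen_le g)) rfl
  haveI : IsLocalization.Away (algebraMap Γ(X, O) Γ(E, π ⁻¹ᵁ O) g)
      Γ(E, π ⁻¹ᵁ X.basicOpen g) := by
    have e : π ⁻¹ᵁ X.basicOpen g = E.basicOpen (u g) := by
      rw [hu_app, ← Scheme.preimage_basicOpen]
    exact hO'.isLocalization_of_eq_basicOpen (u g) (homOfLE (preimage_basicOpen_le π g)) e
  exact hg Γ(X, X.basicOpen g) Γ(E, π ⁻¹ᵁ X.basicOpen g)

/-- transfer of a basis to a basic open -/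
theorem isBasisVia_basicOpen [IsAffineHom π] (O : X.Opens) (hO : IsAffineOpen O) (t : Γ(X, O))
    {n : ℕ} (v : Fin n → Γ(E, π ⁻¹ᵁ O))
    (hspan : ∀ x, ∃ c : Fin n → Γ(X, O), (π.appLE O (π ⁻¹ᵁ O) le_rfl).hom t * x =
      ∑ k, (π.appLE O (π ⁻¹ᵁ O) le_rfl).hom (c k) * v k)
    (hind : ∀ c : Fin n → Γ(X, O), ∑ k, (π.appLE O (π ⁻¹ᵁ O) le_rfl).hom (c k) * v k = 0 →
      ∀ k, t * c k = 0) (t' : Γ(X, O)) (ht' : t' = t) :
    FE.IsBasisVia (π.appLE (X.basicOpen t') (π ⁻¹ᵁ X.basicOpen t') le_rfl).hom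
      (fun k => (E.presheaf.map (homOfLE (preimage_basicOpen_le π t')).op).hom (v k)) := by
  rw [ht']
  have hO' : IsAffineOpen (π ⁻¹ᵁ O) := hO.preimage π
  have hu_app : ∀ a, (π.appLE O (π ⁻¹ᵁ O) le_rfl).hom a = (π.app O).hom a := fun a => by
    rw [← Scheme.Hom.app_eq_appLE]
  have e : π ⁻¹ᵁ X.basicOpen t = E.basicOpen ((π.appLE O (π ⁻¹ᵁ O) le_rfl).hom t) := by
    rw [hu_app, ← Scheme.preimage_basicOpen]
  exact FE.isBasisVia_of_away (π.appLE O (π ⁻¹ᵁ O) le_rfl).hom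
    (X.presheaf.map (homOfLE (X.basicOpen_le t)).op).hom
    (E.presheaf.map (homOfLE (preimage_basicOpen_le π t)).op).hom
    (π.appLE (X.basicOpen t) (π ⁻¹ᵁ X.basicOpen t) le_rfl).hom
    (fun a => appLE_basicOpen_comm π t a) t
    (hO.isLocalization_of_eq_basicOpen t (homOfLE (X.basicOpen_le t)) rfl)
    (hO'.isLocalization_of_eq_basicOpen _ (homOfLE (preimage_basicOpen_le π t)) e)
    v hspan hind

end Generic

variable {X Y Z U₀ V₀ Q : Scheme.{u}} {i : Z ⟶ X} {j : Z ⟶ Y} [IsClosedImmersion i]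
  {πU : U₀ ⟶ X} {πV : V₀ ⟶ Y} {qU : Q ⟶ U₀} {qV : Q ⟶ V₀} {qZ : Q ⟶ Z}
  [IsFinite πU] [IsFinite πV] [Etale πU] [Etale πV] [IsClosedImmersion qU]
  (hX : IsPullback qU qZ πU i) (hY : IsPullback qV qZ πV j)

/-- the main step: a basis on the `Y`-side is lifted to compatible bases on a smaller chart -/
theorem exists_good_basic (α₁ : Chart i j) {n : ℕ} (e : Fin n → Γ(V₀, (pb hX hY α₁).V))
    (hB₁ : FE.IsBasisVia (uB hX hY α₁) e) :
    ∃ r : α₁.R, α₁.p₂ r = 1 ∧ GoodBasis hX hY (α₁.basic r) := by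
  have hC₁ := FE.isBasisVia_baseChange (uB hX hY α₁) α₁.ψ (pb hX hY α₁).ψ (uC hX hY α₁)
    (isPushout_V hX hY α₁) e hB₁
  have hC₁a : ∀ x : Γ(Q, (pb hX hY α₁).W), ∃ c : Fin n → Γ(Z, α₁.W),
      ∑ k, uC hX hY α₁ (c k) * (pb hX hY α₁).ψ (e k) = x := hC₁.1
  have hC₁b : ∀ c : Fin n → Γ(Z, α₁.W),
      ∑ k, uC hX hY α₁ (c k) * (pb hX hY α₁).ψ (e k) = 0 → c = 0 := hC₁.2
  choose a' ha' using fun k => (pb hX hY α₁).φ_surjective ((pb hX hY α₁).ψ (e k))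
  have hker := FE.ker_eq_map_of_isPushout (uA hX hY α₁) α₁.φ (pb hX hY α₁).φ (uC hX hY α₁)
    (isPushout_U hX hY α₁) α₁.φ_surjective
  letI algA : Algebra Γ(X, α₁.U) Γ(U₀, (pb hX hY α₁).U) := (uA hX hY α₁).toAlgebra
  have hfin : (uA hX hY α₁).Finite := by
    have := πU.finite_app α₁.U α₁.hU
    rwa [Scheme.Hom.app_eq_appLE] at this
  have het : (uA hX hY α₁).Etale := πU.etale_appLE α₁.hU (pb hX hY α₁).hU le_rfl
  haveI : Module.Finite Γ(X, α₁.U) Γ(U₀, (pb hX hY α₁).U) := hfin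
  haveI : Algebra.Etale Γ(X, α₁.U) Γ(U₀, (pb hX hY α₁).U) := het
  haveI : Module.Flat Γ(X, α₁.U) Γ(U₀, (pb hX hY α₁).U) := inferInstance
  haveI : Module.FinitePresentation Γ(X, α₁.U) Γ(U₀, (pb hX hY α₁).U) :=
    Module.FinitePresentation.of_finite_of_finitePresentation _ _
  haveI : Module.Projective Γ(X, α₁.U) Γ(U₀, (pb hX hY α₁).U) :=
    Module.Flat.projective_of_finitePresentation
  have hφu : ∀ a, (pb hX hY α₁).φ (uA hX hY α₁ a) = uC hX hY α₁ (α₁.φ a) :=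
    fun a => congr($(φ_uA hX hY α₁) a)
  have H1 : ∀ x : Γ(U₀, (pb hX hY α₁).U), ∃ c : Fin n → Γ(X, α₁.U),
      x - ∑ k, algebraMap Γ(X, α₁.U) Γ(U₀, (pb hX hY α₁).U) (c k) * a' k ∈
        (RingHom.ker α₁.φ).map (algebraMap Γ(X, α₁.U) Γ(U₀, (pb hX hY α₁).U)) := by
    intro x
    obtain ⟨c₀, hc₀⟩ := hC₁a ((pb hX hY α₁).φ x)
    choose c hc using fun k => α₁.φ_surjective (c₀ k)
    refine ⟨c, ?_⟩
    change _ ∈ (RingHom.ker α₁.φ).map (uA hX hY α₁)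
    rw [← hker, RingHom.mem_ker, map_sub, map_sum, sub_eq_zero, ← hc₀]
    refine Finset.sum_congr rfl fun k _ => ?_
    rw [map_mul, ha' k]
    congr 1
    rw [← hc k]
    exact (hφu (c k)).symm
  have H2 : ∀ c : Fin n → Γ(X, α₁.U),
      ∑ k, algebraMap Γ(X, α₁.U) Γ(U₀, (pb hX hY α₁).U) (c k) * a' k ∈
        (RingHom.ker α₁.φ).map (algebraMap Γ(X, α₁.U) Γ(U₀, (pb hX hY α₁).U)) →
      ∀ k, c k ∈ RingHom.ker α₁.φ := by
    intro c hc k
    change _ ∈ (RingHom.ker α₁.φ).map (uA hX hY α₁) at hc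
    rw [← hker, RingHom.mem_ker, map_sum] at hc
    have h0 : (fun k => α₁.φ (c k)) = 0 := by
      apply hC₁b
      refine (Finset.sum_congr rfl fun k _ => ?_).trans hc
      change uC hX hY α₁ (α₁.φ (c k)) * (pb hX hY α₁).ψ (e k) =
        (pb hX hY α₁).φ (uA hX hY α₁ (c k) * a' k)
      rw [map_mul, ha' k, hφu]
    exact congrFun h0 k
  obtain ⟨t, ht1, hspan, hind⟩ := FE.exists_basis_away_of_mod (RingHom.ker α₁.φ) a' H1 H2
  have ht : α₁.φ t = α₁.ψ 1 := by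
    have := RingHom.mem_ker.mp ht1
    rw [map_sub, map_one, sub_eq_zero] at this
    rw [this, map_one]
  refine ⟨FibProd.mk t 1 ht, rfl, ?_⟩
  have hUle : (pb hX hY (α₁.basic (FibProd.mk t 1 ht))).U ≤ (pb hX hY α₁).U :=
    preimage_basicOpen_le πU (α₁.p₁ (FibProd.mk t 1 ht))
  have hVle : (pb hX hY (α₁.basic (FibProd.mk t 1 ht))).V ≤ (pb hX hY α₁).V :=
    preimage_basicOpen_le πV (α₁.p₂ (FibProd.mk t 1 ht))
  have hA₂ := isBasisVia_basicOpen πU α₁.U α₁.hU t a' hspan hind (α₁.p₁ (FibProd.mk t 1 ht)) rfl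
  have hB₂ := isBasisVia_basicOpen πV α₁.V α₁.hV 1 e
    (fun x => by
      obtain ⟨c, hc⟩ := hB₁.1 x
      exact ⟨c, by rw [map_one, one_mul]; exact hc.symm⟩)
    (fun c hc k => by
      have := hB₁.2 c hc
      rw [one_mul, this]; rfl) (α₁.p₂ (FibProd.mk t 1 ht)) rfl
  have hcompat : ∀ k, (pb hX hY (α₁.basic (FibProd.mk t 1 ht))).φ
      (Chart.resU (α := pb hX hY (α₁.basic (FibProd.mk t 1 ht))) (β := pb hX hY α₁) hUle (a' k)) =
      (pb hX hY (α₁.basic (FibProd.mk t 1 ht))).ψ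
      (Chart.resV (α := pb hX hY (α₁.basic (FibProd.mk t 1 ht))) (β := pb hX hY α₁) hVle (e k)) := by
    intro k
    have h1 := RingHom.congr_fun (Chart.φ_resU (α := pb hX hY (α₁.basic (FibProd.mk t 1 ht)))
      (β := pb hX hY α₁) hUle) (a' k)
    have h2 := RingHom.congr_fun (Chart.ψ_resV (α := pb hX hY (α₁.basic (FibProd.mk t 1 ht)))
      (β := pb hX hY α₁) hUle hVle) (e k)
    rw [RingHom.comp_apply, RingHom.comp_apply] at h1 h2
    rw [h1, h2, ha' k]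
  exact ⟨n, fun k => FibProd.mk _ _ (hcompat k), hA₂, hB₂⟩

/-- good charts around points of `Y` -/
theorem exists_good_of_mem_V (α₀ : Chart i j) (y : Y) (hy : y ∈ α₀.V) :
    ∃ α : Chart i j, GoodBasis hX hY α ∧ y ∈ α.V := by
  obtain ⟨g, hyg, hg_all⟩ := exists_basis_basicOpen πV α₀.V α₀.hV y hy
  obtain ⟨a, ha⟩ := α₀.φ_surjective (α₀.ψ g)
  obtain ⟨n, e, hB₁⟩ := hg_all (α₀.p₂ (FibProd.mk a g ha)) rfl
  obtain ⟨r, hr1, hr2⟩ := exists_good_basic hX hY (α₀.basic (FibProd.mk a g ha)) e hB₁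
  refine ⟨_, hr2, ?_⟩
  change y ∈ Y.basicOpen ((α₀.basic (FibProd.mk a g ha)).p₂ r)
  rw [hr1, Y.basicOpen_of_isUnit isUnit_one]
  exact hyg

/-- good charts around points of `X` away from `Z` -/
theorem exists_good_of_not_mem_range (x : X) (hx : x ∉ Set.range ⇑i) :
    ∃ α : Chart i j, GoodBasis hX hY α ∧ x ∈ α.U := by
  obtain ⟨α₀, hxα, hαV⟩ := exists_chart_of_not_mem_range_bot i j x hx
  obtain ⟨g, hxg, hg_all⟩ := exists_basis_basicOpen πU α₀.U α₀.hU x hxα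
  haveI hW₀ : Subsingleton Γ(Z, α₀.W) := by
    have : α₀.W = ⊥ := by
      change i ⁻¹ᵁ α₀.U = ⊥
      rw [α₀.h, hαV]; rfl
    rw [this]; infer_instance
  have h0 : α₀.φ g = α₀.ψ 0 := Subsingleton.elim _ _
  obtain ⟨n, v, hA⟩ := hg_all (α₀.p₁ (FibProd.mk g 0 h0)) rfl
  have hV₁ : (α₀.basic (FibProd.mk g 0 h0)).V = ⊥ :=
    le_bot_iff.mp ((Y.basicOpen_le _).trans hαV.le)
  haveI : Subsingleton Γ(Y, (α₀.basic (FibProd.mk g 0 h0)).V) := by rw [hV₁]; infer_instance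
  have hV₁' : (pb hX hY (α₀.basic (FibProd.mk g 0 h0))).V = ⊥ := by
    change πV ⁻¹ᵁ (α₀.basic (FibProd.mk g 0 h0)).V = ⊥
    rw [hV₁]; rfl
  haveI : Subsingleton Γ(V₀, (pb hX hY (α₀.basic (FibProd.mk g 0 h0))).V) := by
    rw [hV₁']; infer_instance
  have hW₁' : (pb hX hY (α₀.basic (FibProd.mk g 0 h0))).W = ⊥ := by
    change qU ⁻¹ᵁ (pb hX hY (α₀.basic (FibProd.mk g 0 h0))).U = ⊥
    rw [(pb hX hY (α₀.basic (FibProd.mk g 0 h0))).h, hV₁']; rfl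
  haveI : Subsingleton Γ(Q, (pb hX hY (α₀.basic (FibProd.mk g 0 h0))).W) := by
    rw [hW₁']; infer_instance
  refine ⟨α₀.basic (FibProd.mk g 0 h0),
    ⟨n, fun k => FibProd.mk (v k) 0 (Subsingleton.elim _ _), hA, ?_⟩, hxg⟩
  exact ⟨fun x => ⟨0, Subsingleton.elim _ _⟩, fun c _ => Subsingleton.elim _ _⟩

/-- **existence of good charts** -/
theorem exists_good (hc : Covering i j) (p : P i j) :
    ∃ α : Chart i j, GoodBasis hX hY α ∧ p ∈ BC.S α := by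
  have key : ∀ y : Y, ∃ α : Chart i j, GoodBasis hX hY α ∧ toP₂ hc y ∈ BC.S α := by
    intro y
    obtain ⟨α₀, hy⟩ := hc.hY y
    obtain ⟨α, hα, hyα⟩ := exists_good_of_mem_V hX hY α₀ y hy
    exact ⟨α, hα, (toP₂_preimage hc α).ge hyα⟩
  rcases toP_jointly_surjective hc p with ⟨x, rfl⟩ | ⟨y, rfl⟩
  · by_cases hxr : x ∈ Set.range ⇑i
    · obtain ⟨z, rfl⟩ := hxr
      have h1 : toP₁ hc (i z) = toP₂ hc (j z) := by
        have := congr($(toP_comm hc) z)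
        rwa [Scheme.Hom.comp_apply, Scheme.Hom.comp_apply] at this
      rw [h1]
      exact key (j z)
    · obtain ⟨α, hα, hxα⟩ := exists_good_of_not_mem_range hX hY x hxr
      exact ⟨α, hα, (toP₁_preimage hc α).ge hxα⟩
  · exact key y

end FEt

end Groth.Agent.Lib.Helper1.FP
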