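import Groth.Agent.Lib.Helper1.FP15

/-!
# Ferrand pushouts (helper1), part 16: adapted affine pairs (S1442), covering (S0430)
-/

set_option autoImplicit false
set_option linter.unusedSectionVars false
set_option linter.unusedVariables false
set_option linter.style.haveILetI false
universe u

noncomputable section

namespace Groth.Agent.Lib.Helper1.FP

open AlgebraicGeometry CategoryTheory CategoryTheory.Limits TopologicalSpace Opposite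

/-- **Adapted affine opens** for a closed immersion and an integral morphism. -/
theorem exists_adapted {X Y Z : Scheme.{u}} (i : Z ⟶ X) [IsClosedImmersion i] (j : Z ⟶ Y)
    [IsIntegralHom j] (y : Y) (U : X.Opens) (hU : IsAffineOpen U)
    (hfib : j ⁻¹' {y} ⊆ (i ⁻¹ᵁ U : Set Z)) :
    ∃ (U'' : X.Opens) (V'' : Y.Opens), IsAffineOpen U'' ∧ IsAffineOpen V'' ∧ y ∈ V'' ∧
      i ⁻¹ᵁ U'' = j ⁻¹ᵁ V'' := by
  -- Step A
  have hT : IsAffineOpen (i ⁻¹ᵁ U) := hU.preimage i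
  have hcl₀ : IsClosed (j '' ((i ⁻¹ᵁ U : Z.Opens) : Set Z)ᶜ) :=
    j.isClosedMap _ (i ⁻¹ᵁ U).2.isClosed_compl
  have hy₀ : y ∉ j '' ((i ⁻¹ᵁ U : Z.Opens) : Set Z)ᶜ := by
    rintro ⟨z, hz, hzy⟩
    exact hz (hfib hzy)
  let O : Y.Opens := ⟨(j '' ((i ⁻¹ᵁ U : Z.Opens) : Set Z)ᶜ)ᶜ, hcl₀.isOpen_compl⟩
  obtain ⟨V', hV', hyV', hV'O⟩ := exists_isAffineOpen_mem_and_subset (x := y) (U := O) hy₀
  have hle : j ⁻¹ᵁ V' ≤ i ⁻¹ᵁ U := by
    intro z hz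
    by_contra hzT
    exact hV'O hz ⟨z, hzT, rfl⟩
  -- Step B
  obtain ⟨u, hu1, hu2⟩ := exists_section_fibre j hV' hT hle y hyV'
  -- Step C
  obtain ⟨ũ, rfl⟩ := i.app_surjective U hU u
  have hU' : IsAffineOpen (X.basicOpen ũ) := hU.basicOpen ũ
  have hT'eq : i ⁻¹ᵁ (X.basicOpen ũ) = Z.basicOpen (i.app U ũ) := Scheme.preimage_basicOpen i ũ
  have hT'le : i ⁻¹ᵁ (X.basicOpen ũ) ≤ j ⁻¹ᵁ V' := hT'eq.le.trans hu1
  -- Step D
  have hcl : IsClosed (j '' ((i ⁻¹ᵁ (X.basicOpen ũ) : Z.Opens) : Set Z)ᶜ) :=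
    j.isClosedMap _ (i ⁻¹ᵁ (X.basicOpen ũ)).2.isClosed_compl
  have hy1 : y ∉ j '' ((i ⁻¹ᵁ (X.basicOpen ũ) : Z.Opens) : Set Z)ᶜ := by
    rintro ⟨z, hz, hzy⟩
    apply hz
    change z ∈ i ⁻¹ᵁ (X.basicOpen ũ)
    rw [hT'eq]
    exact hu2 z hzy
  let O' : Y.Opens := ⟨(j '' ((i ⁻¹ᵁ (X.basicOpen ũ) : Z.Opens) : Set Z)ᶜ)ᶜ, hcl.isOpen_compl⟩
  obtain ⟨g, hg1, hg2⟩ := hV'.exists_basicOpen_le (V := O') ⟨y, hy1⟩ hyV'
  have hle' : j ⁻¹ᵁ (Y.basicOpen g) ≤ i ⁻¹ᵁ (X.basicOpen ũ) := by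
    intro z hz
    by_contra hzT
    exact hg1 hz ⟨z, hzT, rfl⟩
  obtain ⟨g₂, hg₂⟩ := i.app_surjective (X.basicOpen ũ) hU' (j.appLE V' _ hT'le g)
  refine ⟨X.basicOpen g₂, Y.basicOpen g, hU'.basicOpen g₂, hV'.basicOpen g, hg2, ?_⟩
  rw [Scheme.preimage_basicOpen, hg₂, Scheme.basicOpen_appLE]
  exact inf_eq_right.mpr hle'

/-- the covering for a closed immersion and an integral morphism -/
theorem covering_of_integral {X Y Z : Scheme.{u}} (i : Z ⟶ X) [IsClosedImmersion i] (j : Z ⟶ Y)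
    [IsIntegralHom j]
    (haff : ∀ y : Y, ∃ U : X.Opens, IsAffineOpen U ∧ j ⁻¹' {y} ⊆ (i ⁻¹ᵁ U : Set Z)) :
    Covering i j := by
  have key : ∀ y : Y, ∃ α : Chart i j, y ∈ α.V := by
    intro y
    obtain ⟨U, hU, hfib⟩ := haff y
    obtain ⟨U'', V'', h1, h2, h3, h4⟩ := exists_adapted i j y U hU hfib
    exact ⟨⟨U'', V'', h1, h2, h4⟩, h3⟩
  refine ⟨fun x => ?_, key⟩
  by_cases hx : x ∈ Set.range ⇑i
  · obtain ⟨z, rfl⟩ := hx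
    obtain ⟨α, hα⟩ := key (j z)
    refine ⟨α, ?_⟩
    change z ∈ i ⁻¹ᵁ α.U
    rw [α.h]
    exact hα
  · exact exists_chart_of_not_mem_range i j x hx

end Groth.Agent.Lib.Helper1.FP
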