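import Groth.Agent.Lib.Helper1.FPS9

/-!
# The underlying space of a Ferrand pushout is the pushout of spaces (helper1)
-/

set_option autoImplicit false
set_option linter.unusedSectionVars false
set_option linter.unusedVariables false
set_option linter.style.haveILetI false
universe u

noncomputable section

namespace Groth.Agent.Lib.Helper1.FP

open AlgebraicGeometry CategoryTheory CategoryTheory.Limits TopologicalSpace Opposite

variable {X Y Z : Scheme.{u}} {i : Z ⟶ X} {j : Z ⟶ Y} [IsClosedImmersion i]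
  (hc : Covering i j) {P' : Scheme.{u}} {a' : X ⟶ P'} {b' : Y ⟶ P'}
  (hP : IsPushout i j a' b')

lemma a'_eq (hc : Covering i j) (hP : IsPushout i j a' b') :
    toP₁ hc ≫ ((isPushout_toP hc).isoIsPushout _ _ hP).hom = a' :=
  (isPushout_toP hc).inl_isoIsPushout_hom _ _ hP

lemma b'_eq (hc : Covering i j) (hP : IsPushout i j a' b') :
    toP₂ hc ≫ ((isPushout_toP hc).isoIsPushout _ _ hP).hom = b' :=
  (isPushout_toP hc).inr_isoIsPushout_hom _ _ hP

lemma isoHom_injective (hc : Covering i j) (hP : IsPushout i j a' b') :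
    Function.Injective ((isPushout_toP hc).isoIsPushout _ _ hP).hom := by
  intro p q h
  have := congrArg ((isPushout_toP hc).isoIsPushout _ _ hP).inv h
  rwa [← Scheme.Hom.comp_apply, ← Scheme.Hom.comp_apply, Iso.hom_inv_id] at this

/-- the preimage of a chart in `X` -/
theorem a'_preimage_chartTo (α : Chart i j) : a' ⁻¹ᵁ (chartTo hc hP α).opensRange = α.U := by
  rw [← toP₁_preimage hc α]
  ext x
  constructor
  · rintro ⟨q, hq⟩
    refine ⟨q, isoHom_injective hc hP ?_⟩
    have : a' x = ((isPushout_toP hc).isoIsPushout _ _ hP).hom (toP₁ hc x) := by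
      rw [← Scheme.Hom.comp_apply, a'_eq]
    rw [← this]
    exact hq
  · rintro ⟨q, hq⟩
    refine ⟨q, ?_⟩
    change (ι i j α ≫ ((isPushout_toP hc).isoIsPushout _ _ hP).hom) q = a' x
    rw [Scheme.Hom.comp_apply, hq, ← Scheme.Hom.comp_apply, a'_eq]

/-- the preimage of a chart in `Y` -/
theorem b'_preimage_chartTo (α : Chart i j) : b' ⁻¹ᵁ (chartTo hc hP α).opensRange = α.V := by
  rw [← toP₂_preimage hc α]
  ext y
  constructor
  · rintro ⟨q, hq⟩
    refine ⟨q, isoHom_injective hc hP ?_⟩
    have : b' y = ((isPushout_toP hc).isoIsPushout _ _ hP).hom (toP₂ hc y) := by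
      rw [← Scheme.Hom.comp_apply, b'_eq]
    rw [← this]
    exact hq
  · rintro ⟨q, hq⟩
    refine ⟨q, ?_⟩
    change (ι i j α ≫ ((isPushout_toP hc).isoIsPushout _ _ hP).hom) q = b' y
    rw [Scheme.Hom.comp_apply, hq, ← Scheme.Hom.comp_apply, b'_eq]

include hc hP in
/-- **the topology of a Ferrand pushout is the quotient topology** -/
theorem isOpen_of_preimage (O : Set P') (h1 : IsOpen (a' ⁻¹' O)) (h2 : IsOpen (b' ⁻¹' O)) :
    IsOpen O := by
  rw [isOpen_iff_forall_mem_open]
  intro p hp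
  let U' : X.Opens := ⟨a' ⁻¹' O, h1⟩
  let V' : Y.Opens := ⟨b' ⁻¹' O, h2⟩
  have h : i ⁻¹ᵁ U' = j ⁻¹ᵁ V' := by
    ext z
    change a' (i z) ∈ O ↔ b' (j z) ∈ O
    rw [← Scheme.Hom.comp_apply, ← Scheme.Hom.comp_apply, hP.w]
  have key : ∀ α : Chart i j, α.U ≤ U' → α.V ≤ V' →
      ((chartTo hc hP α).opensRange : Set P') ⊆ O := by
    intro α hU hV q hq
    rcases jointly_surjective_of_isPushout hc a' b' hP q with ⟨x, rfl⟩ | ⟨y, rfl⟩
    · have hx : x ∈ a' ⁻¹ᵁ (chartTo hc hP α).opensRange := hq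
      rw [a'_preimage_chartTo] at hx
      exact hU hx
    · have hy : y ∈ b' ⁻¹ᵁ (chartTo hc hP α).opensRange := hq
      rw [b'_preimage_chartTo] at hy
      exact hV hy
  rcases jointly_surjective_of_isPushout hc a' b' hP p with ⟨x, rfl⟩ | ⟨y, rfl⟩
  · obtain ⟨β, hβ⟩ := hc.hX x
    obtain ⟨α, -, hxα, hU, hV⟩ := β.exists_le_of_mem_U U' V' h x hp hβ
    refine ⟨_, key α hU hV, (chartTo hc hP α).opensRange.2, ?_⟩
    have : x ∈ a' ⁻¹ᵁ (chartTo hc hP α).opensRange := by
      rw [a'_preimage_chartTo]; exact hxα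
    exact this
  · obtain ⟨β, hβ⟩ := hc.hY y
    obtain ⟨α, -, hyα, hU, hV⟩ := β.exists_le_of_mem_V U' V' h y hp hβ
    refine ⟨_, key α hU hV, (chartTo hc hP α).opensRange.2, ?_⟩
    have : y ∈ b' ⁻¹ᵁ (chartTo hc hP α).opensRange := by
      rw [b'_preimage_chartTo]; exact hyα
    exact this

include hc hP in
lemma exists_of_a'_eq_b' (x : X) (y : Y) (h : a' x = b' y) : ∃ z, i z = x ∧ j z = y := by
  have hpb : IsPullback i j a' b' := (properties_of_isPushout hc a' b' hP).1
  obtain ⟨w, hw1, hw2⟩ := Scheme.Pullback.exists_preimage_pullback x y h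
  refine ⟨hpb.isoPullback.inv w, ?_, ?_⟩
  · rw [← hw1, ← Scheme.Hom.comp_apply, hpb.isoPullback_inv_fst]
  · rw [← hw2, ← Scheme.Hom.comp_apply, hpb.isoPullback_inv_snd]

include hc hP in
lemma b'_injective : Function.Injective b' := by
  haveI : IsClosedImmersion b' := (properties_of_isPushout hc a' b' hP).2.1
  exact b'.isClosedEmbedding.injective

/-- on a chart with empty second open the chart map is injective on `U` -/
lemma Chart.a_injective_of_V_eq_bot (α : Chart i j) (h : α.V = ⊥) : Function.Injective α.a := by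
  have hW : α.W = ⊥ := by
    have := α.W_le
    rw [h] at this
    exact le_bot_iff.mp this
  haveI : Subsingleton Γ(Z, α.W) := by rw [hW]; infer_instance
  have hψ : Function.Surjective α.ψ := fun c => ⟨0, Subsingleton.elim _ _⟩
  have hp₁ : Function.Surjective α.p₁ := FibProd.fst_surjective (φ := α.φ) (ψ := α.ψ) hψ
  have h1 : Function.Injective (Spec.map (CommRingCat.ofHom α.p₁)) :=
    PrimeSpectrum.comap_injective_of_surjective _ hp₁
  have h2 : Function.Injective α.hU.isoSpec.hom := by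
    intro p q hpq
    have := congrArg α.hU.isoSpec.inv hpq
    rwa [← Scheme.Hom.comp_apply, ← Scheme.Hom.comp_apply, Iso.hom_inv_id] at this
  intro p q hpq
  apply h2
  apply h1
  have e : ∀ r, α.a r = (Spec.map (CommRingCat.ofHom α.p₁)) (α.hU.isoSpec.hom r) := fun r => by
    rw [Chart.a, Scheme.Hom.comp_apply]
  rw [← e, ← e, hpq]

include hc hP in
lemma a'_eq_a' (x x' : X) (h : a' x = a' x') :
    x = x' ∨ ∃ z z', i z = x ∧ i z' = x' ∧ j z = j z' := by
  by_cases hr : ∃ y, b' y = a' x
  · obtain ⟨y, hy⟩ := hr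
    obtain ⟨z, hz1, hz2⟩ := exists_of_a'_eq_b' hc hP x y hy.symm
    obtain ⟨z', hz1', hz2'⟩ := exists_of_a'_eq_b' hc hP x' y (h ▸ hy.symm)
    exact Or.inr ⟨z, z', hz1, hz1', hz2.trans hz2'.symm⟩
  · left
    have hx : x ∉ Set.range ⇑i := by
      rintro ⟨z, rfl⟩
      apply hr
      refine ⟨j z, ?_⟩
      rw [← Scheme.Hom.comp_apply, ← Scheme.Hom.comp_apply, hP.w]
    obtain ⟨α, hxα, hαV⟩ := exists_chart_of_not_mem_range_bot i j x hx
    have hx1 : x ∈ a' ⁻¹ᵁ (chartTo hc hP α).opensRange := by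
      rw [a'_preimage_chartTo]; exact hxα
    have hx'α : x' ∈ α.U := by
      have : x' ∈ a' ⁻¹ᵁ (chartTo hc hP α).opensRange := by
        change a' x' ∈ (chartTo hc hP α).opensRange
        rw [← h]; exact hx1
      rwa [a'_preimage_chartTo] at this
    have e1 : chartTo hc hP α (α.a ⟨x, hxα⟩) = a' x := by
      have := congr($(a_chartTo hc hP α) ⟨x, hxα⟩)
      rw [Scheme.Hom.comp_apply, Scheme.Hom.comp_apply] at this
      exact this
    have e2 : chartTo hc hP α (α.a ⟨x', hx'α⟩) = a' x' := by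
      have := congr($(a_chartTo hc hP α) ⟨x', hx'α⟩)
      rw [Scheme.Hom.comp_apply, Scheme.Hom.comp_apply] at this
      exact this
    have e3 : α.a ⟨x, hxα⟩ = α.a ⟨x', hx'α⟩ :=
      (chartTo hc hP α).isOpenEmbedding.injective (by rw [e1, e2, h])
    have := α.a_injective_of_V_eq_bot hαV e3
    exact congrArg Subtype.val this


include hc hP in
/-- descent of maps of sets to the pushout -/
lemma exists_desc_fun {T : Type*} (f : X → T) (g : Y → T) (h : ∀ z, f (i z) = g (j z)) :
    ∃ m : P' → T, (∀ x, m (a' x) = f x) ∧ (∀ y, m (b' y) = g y) := by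
  classical
  have hf : ∀ x x', a' x = a' x' → f x = f x' := by
    intro x x' hxx
    rcases a'_eq_a' hc hP x x' hxx with rfl | ⟨z, z', rfl, rfl, hz⟩
    · rfl
    · rw [h, h, hz]
  have hfg : ∀ x y, a' x = b' y → f x = g y := by
    intro x y hxy
    obtain ⟨z, rfl, rfl⟩ := exists_of_a'_eq_b' hc hP x y hxy
    exact h z
  have hg : ∀ y y', b' y = b' y' → g y = g y' := by
    intro y y' hyy
    rw [b'_injective hc hP hyy]
  refine ⟨fun p => if hx : ∃ x, a' x = p then f hx.choose else
    if hy : ∃ y, b' y = p then g hy.choose else f (Classical.choice (by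
      rcases jointly_surjective_of_isPushout hc a' b' hP p with ⟨x, -⟩ | ⟨y, hy'⟩
      · exact ⟨x⟩
      · exact absurd ⟨y, hy'⟩ hy)), ?_, ?_⟩
  · intro x
    have hx : ∃ x', a' x' = a' x := ⟨x, rfl⟩
    simp only [dif_pos hx]
    exact hf _ _ hx.choose_spec
  · intro y
    by_cases hx : ∃ x', a' x' = b' y
    · simp only [dif_pos hx]
      exact hfg _ _ hx.choose_spec
    · have hy : ∃ y', b' y' = b' y := ⟨y, rfl⟩
      simp only [dif_neg hx, dif_pos hy]
      exact hg _ _ hy.choose_spec

include hc hP in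
/-- **the underlying space of a Ferrand pushout is the pushout of the underlying spaces** -/
theorem isPushout_base : IsPushout i.base j.base a'.base b'.base := by
  have w : i.base ≫ a'.base = j.base ≫ b'.base := by
    rw [← Scheme.Hom.comp_base, ← Scheme.Hom.comp_base, hP.w]
  have key : ∀ s : PushoutCocone i.base j.base, ∃ m : (P' : TopCat) ⟶ s.pt,
      a'.base ≫ m = s.inl ∧ b'.base ≫ m = s.inr := by
    intro s
    have hcond : ∀ z, s.inl (i z) = s.inr (j z) := fun z =>
      ConcreteCategory.congr_hom s.condition z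
    obtain ⟨m, hm1, hm2⟩ := exists_desc_fun hc hP (fun x => s.inl x) (fun y => s.inr y) hcond
    have hcont : Continuous m := by
      rw [continuous_def]
      intro O hO
      refine isOpen_of_preimage hc hP _ ?_ ?_
      · have : a' ⁻¹' (m ⁻¹' O) = s.inl ⁻¹' O := by
          ext x; simp only [Set.mem_preimage, hm1]
        rw [this]
        exact hO.preimage s.inl.hom.continuous
      · have : b' ⁻¹' (m ⁻¹' O) = s.inr ⁻¹' O := by
          ext y; simp only [Set.mem_preimage, hm2]
        rw [this]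
        exact hO.preimage s.inr.hom.continuous
    refine ⟨TopCat.ofHom ⟨m, hcont⟩, ?_, ?_⟩
    · ext x; exact hm1 x
    · ext y; exact hm2 y
  refine ⟨⟨w⟩, ⟨PushoutCocone.IsColimit.mk _ (fun s => (key s).choose)
    (fun s => (key s).choose_spec.1) (fun s => (key s).choose_spec.2) ?_⟩⟩
  intro s m h1 h2
  ext p
  rcases jointly_surjective_of_isPushout hc a' b' hP p with ⟨x, rfl⟩ | ⟨y, rfl⟩
  · have e1 := ConcreteCategory.congr_hom h1 x
    have e2 := ConcreteCategory.congr_hom (key s).choose_spec.1 x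
    exact e1.trans e2.symm
  · have e1 := ConcreteCategory.congr_hom h2 y
    have e2 := ConcreteCategory.congr_hom (key s).choose_spec.2 y
    exact e1.trans e2.symm

end Groth.Agent.Lib.Helper1.FP
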