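import Groth.Agent.Lib.Helper1.FE8
import Groth.Agent.Lib.Helper1.FPS10
import Groth.Agent.Lib.Helper1.FP16

/-!
# Finite étale covers on Ferrand pushouts (helper1), part 9: the glued cover on any pushout
-/

set_option autoImplicit false
set_option linter.unusedSectionVars false
set_option linter.unusedVariables false
set_option linter.style.haveILetI false
universe u

noncomputable section

namespace Groth.Agent.Lib.Helper1.FP

open AlgebraicGeometry CategoryTheory CategoryTheory.Limits TopologicalSpace Opposite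

namespace FEt

/-- **Gluing finite étale covers along a Ferrand pushout.** -/
theorem exists_glued {Z X Y W : Scheme.{u}} (i : Z ⟶ X) [IsClosedImmersion i] (j : Z ⟶ Y)
    (hc : Covering i j) (a : X ⟶ W) (b : Y ⟶ W) (hpo : IsPushout i j a b)
    {U₀ V₀ Q : Scheme.{u}} (πU : U₀ ⟶ X) (πV : V₀ ⟶ Y) (qU : Q ⟶ U₀) (qV : Q ⟶ V₀) (qZ : Q ⟶ Z)
    [IsFinite πU] [IsFinite πV] [Etale πU] [Etale πV]
    (hX : IsPullback qU qZ πU i) (hY : IsPullback qV qZ πV j) :
    ∃ (T : Scheme.{u}) (τ : T ⟶ W) (a' : U₀ ⟶ T) (b' : V₀ ⟶ T), IsFinite τ ∧ Etale τ ∧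
      IsPullback a' πU τ a ∧ IsPullback b' πV τ b := by
  haveI : IsClosedImmersion qU :=
    MorphismProperty.of_isPullback (P := @IsClosedImmersion) hX.flip inferInstance
  have hgood := fun p => exists_good hX hY hc p
  let e := (isPushout_toP hc).isoIsPushout _ _ hpo
  have ea : toP₁ hc ≫ e.hom = a := a'_eq hc hpo
  have eb : toP₂ hc ≫ e.hom = b := b'_eq hc hpo
  haveI := isFinite_t hX hY hc hgood
  haveI := etale_t hX hY hc hgood
  refine ⟨P qU qV, t hX hY hc ≫ e.hom, toP₁ (coveringQ hX hY hc), toP₂ (coveringQ hX hY hc),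
    inferInstance, inferInstance, ?_, ?_⟩
  · refine IsPullback.of_iso (isPullback_toP₁_t hX hY hc hgood) (Iso.refl _) (Iso.refl _)
      (Iso.refl _) e ?_ ?_ ?_ ?_
    · simp
    · simp
    · simp
    · rw [Iso.refl_hom, Category.id_comp]; exact ea
  · refine IsPullback.of_iso (isPullback_toP₂_t hX hY hc hgood) (Iso.refl _) (Iso.refl _)
      (Iso.refl _) e ?_ ?_ ?_ ?_
    · simp
    · simp
    · simp
    · rw [Iso.refl_hom, Category.id_comp]; exact eb

end FEt

end Groth.Agent.Lib.Helper1.FP
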