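import Mathlib

/-!
# Successive approximation in an adic tower of rings (helper1)

Abstract algebra behind "ideals of definition of a locally Noetherian formal scheme are of finite type".
-/

set_option autoImplicit false
universe u

namespace Groth.Agent.Lib.Helper1.FK

section Nak
variable {R : Type*} [CommRing R]

/-- nilpotent Nakayama for ideals -/
lemma eq_of_le_sup_mul {I N P : Ideal R} {k : ℕ} (hI : I ^ k = ⊥) (hNP : N ≤ P)
    (h : P ≤ N ⊔ I * P) : P = N := by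
  have key : ∀ j : ℕ, P ≤ N ⊔ I ^ j * P := by
    intro j
    induction j with
    | zero => rw [pow_zero, one_mul]; exact le_sup_right
    | succ j ih =>
      refine ih.trans (sup_le le_sup_left ?_)
      calc I ^ j * P ≤ I ^ j * (N ⊔ I * P) := Ideal.mul_mono_right h
        _ = I ^ j * N ⊔ I ^ j * (I * P) := Ideal.mul_sup _ _ _
        _ ≤ N ⊔ I ^ (j + 1) * P := by
          refine sup_le_sup Ideal.mul_le_right ?_
          rw [← mul_assoc, ← pow_succ]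
  have h2 := key k
  rw [hI, Ideal.bot_mul, sup_bot_eq] at h2
  exact le_antisymm h2 hNP

end Nak

/-- an adic tower of rings with its limit -/
structure Tower (A : ℕ → Type u) [∀ m, CommRing (A m)] (Ah : Type u) [CommRing Ah] where
  T : ∀ {m n : ℕ}, m ≤ n → A n →+* A m
  T_comp : ∀ {l m n : ℕ} (h1 : l ≤ m) (h2 : m ≤ n) (a : A n), T h1 (T h2 a) = T (h1.trans h2) a
  T_surj : ∀ {m n : ℕ} (h : m ≤ n), Function.Surjective (T h)
  π : ∀ m, Ah →+* A m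
  π_T : ∀ {m n : ℕ} (h : m ≤ n) (x : Ah), T h (π n x) = π m x
  π_inj : ∀ x y : Ah, (∀ m, π m x = π m y) → x = y
  π_lift : ∀ a : ∀ m, A m, (∀ m, T (Nat.le_succ m) (a (m + 1)) = a m) → ∃ x : Ah, ∀ m, π m x = a m
  I : ∀ m, Ideal (A m)
  I_comap : ∀ {m n : ℕ} (h : m ≤ n), I n = (I m).comap (T h)
  ker_T : ∀ m, RingHom.ker (T (Nat.le_succ m)) = I (m + 1) ^ (m + 1)
  I_pow : ∀ m, I m ^ (m + 1) = ⊥

variable {A : ℕ → Type u} [∀ m, CommRing (A m)] {Ah : Type u} [CommRing Ah] (𝒯 : Tower A Ah)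

namespace Tower

lemma ker_T' {m m' : ℕ} (h : m ≤ m') (e : m' = m + 1) :
    RingHom.ker (𝒯.T h) = 𝒯.I m' ^ m' := by
  subst e
  exact 𝒯.ker_T m

lemma map_I {m m' : ℕ} (h : m ≤ m') : (𝒯.I m').map (𝒯.T h) = 𝒯.I m := by
  rw [𝒯.I_comap h]
  exact Ideal.map_comap_of_surjective _ (𝒯.T_surj h) _

variable {r : ℕ} (g : Fin r → Ah)

/-- the ideal generated by the images of the `g j` at level `M` -/
def Nspan (M : ℕ) : Ideal (A M) := Ideal.span (Set.range (fun j => 𝒯.π M (g j)))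

lemma map_Nspan {m m' : ℕ} (h : m ≤ m') : (Nspan 𝒯 g m').map (𝒯.T h) = Nspan 𝒯 g m := by
  unfold Nspan
  rw [Ideal.map_span]
  congr 1
  ext x
  simp only [Set.mem_image, Set.mem_range]
  constructor
  · rintro ⟨_, ⟨j, rfl⟩, rfl⟩
    exact ⟨j, (𝒯.π_T h _).symm⟩
  · rintro ⟨j, rfl⟩
    exact ⟨_, ⟨j, rfl⟩, 𝒯.π_T h _⟩

/-- pulling back a power of `I` along a one-step transition -/
lemma mem_pow_of_T_mem {M M' : ℕ} (h : M ≤ M') (e : M' = M + 1) {k : ℕ} (hk : k ≤ M') (x : A M')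
    (hx : 𝒯.T h x ∈ 𝒯.I M ^ k) : x ∈ 𝒯.I M' ^ k := by
  rw [← 𝒯.map_I h, ← Ideal.map_pow] at hx
  obtain ⟨y, hy, hyx⟩ := (Ideal.mem_map_iff_of_surjective _ (𝒯.T_surj h)).1 hx
  have h1 : x - y ∈ RingHom.ker (𝒯.T h) := by
    rw [RingHom.mem_ker, map_sub, hyx, sub_self]
  rw [𝒯.ker_T' h e] at h1
  have h2 : x - y ∈ 𝒯.I M' ^ k := Ideal.pow_le_pow_right hk h1
  have := Ideal.add_mem _ h2 hy
  rwa [sub_add_cancel] at this

variable (n : ℕ)

theorem pow_eq_Nspan (hg0 : ∀ j, 𝒯.π n (g j) = 0)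
    (hspan : RingHom.ker (𝒯.T (Nat.le_succ n)) ≤ Nspan 𝒯 g (n + 1)) :
    ∀ k : ℕ, 𝒯.I (n + 1 + k) ^ (n + 1) = Nspan 𝒯 g (n + 1 + k) := by
  intro k
  induction k with
  | zero =>
    apply le_antisymm
    · rw [← 𝒯.ker_T n]
      exact hspan
    · rw [← 𝒯.ker_T n]
      unfold Nspan
      rw [Ideal.span_le]
      rintro _ ⟨j, rfl⟩
      show _ ∈ RingHom.ker _
      rw [RingHom.mem_ker, 𝒯.π_T, hg0]
  | succ k ih =>
    have hle : Nspan 𝒯 g (n + 1 + k + 1) ≤ 𝒯.I (n + 1 + k + 1) ^ (n + 1) := by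
      unfold Nspan
      rw [Ideal.span_le]
      rintro _ ⟨j, rfl⟩
      refine 𝒯.mem_pow_of_T_mem (Nat.le_succ (n + 1 + k)) rfl (by omega) _ ?_
      rw [𝒯.π_T, ih]
      exact Ideal.subset_span ⟨j, rfl⟩
    refine eq_of_le_sup_mul (𝒯.I_pow (n + 1 + k + 1)) hle ?_
    intro x hx
    have h1 : 𝒯.T (Nat.le_succ (n + 1 + k)) x ∈ Nspan 𝒯 g (n + 1 + k) := by
      rw [← ih, ← 𝒯.map_I (Nat.le_succ (n + 1 + k)), ← Ideal.map_pow]
      exact Ideal.mem_map_of_mem _ hx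
    rw [← 𝒯.map_Nspan g (Nat.le_succ (n + 1 + k))] at h1
    obtain ⟨y, hy, hyx⟩ := (Ideal.mem_map_iff_of_surjective _ (𝒯.T_surj _)).1 h1
    have h2 : x - y ∈ RingHom.ker (𝒯.T (Nat.le_succ (n + 1 + k))) := by
      rw [RingHom.mem_ker, map_sub, hyx, sub_self]
    rw [𝒯.ker_T] at h2
    have h3 : x - y ∈ 𝒯.I (n + 1 + k + 1) * 𝒯.I (n + 1 + k + 1) ^ (n + 1) := by
      rw [← pow_succ']
      exact Ideal.pow_le_pow_right (by omega) h2
    have : y + (x - y) ∈ Nspan 𝒯 g (n + 1 + k + 1) ⊔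
        𝒯.I (n + 1 + k + 1) * 𝒯.I (n + 1 + k + 1) ^ (n + 1) :=
      Ideal.add_mem _ (Ideal.mem_sup_left hy) (Ideal.mem_sup_right h3)
    rwa [add_sub_cancel] at this

theorem pow_eq_Nspan' (hg0 : ∀ j, 𝒯.π n (g j) = 0)
    (hspan : RingHom.ker (𝒯.T (Nat.le_succ n)) ≤ Nspan 𝒯 g (n + 1)) (M : ℕ) (hM : n + 1 ≤ M) :
    𝒯.I M ^ (n + 1) = Nspan 𝒯 g M := by
  obtain ⟨k, rfl⟩ := Nat.exists_eq_add_of_le hM
  exact pow_eq_Nspan 𝒯 g n hg0 hspan k

end Tower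

/-- an element of `J * span (range f)` is a combination of the `f j` with coefficients in `J` -/
lemma exists_sum_of_mem_mul_span {R : Type*} [CommRing R] (J : Ideal R) {r : ℕ} (f : Fin r → R) (x : R)
    (hx : x ∈ J * Ideal.span (Set.range f)) :
    ∃ d : Fin r → R, (∀ j, d j ∈ J) ∧ ∑ j, d j * f j = x := by
  have hx' : x ∈ J • Submodule.span R (Set.range f) := hx
  obtain ⟨a, ha, hax⟩ := (Submodule.mem_ideal_smul_span_iff_exists_sum J f x).1 hx'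
  refine ⟨fun j => a j, ha, ?_⟩
  rw [← hax, Finsupp.sum_fintype _ _ (fun i => by simp)]
  rfl

namespace Tower

variable {r : ℕ} (g : Fin r → Ah) (n : ℕ) (t : Ah)

lemma step (hN : ∀ M, n + 1 ≤ M → 𝒯.I M ^ (n + 1) = Nspan 𝒯 g M) (k : ℕ)
    (x : Fin r → A (k + (n + 1)))
    (hx : ∑ j, x j * 𝒯.π (k + (n + 1)) (g j) = 𝒯.π (k + (n + 1)) t) :
    ∃ x' : Fin r → A (k + 1 + (n + 1)),
      ∑ j, x' j * 𝒯.π (k + 1 + (n + 1)) (g j) = 𝒯.π (k + 1 + (n + 1)) t ∧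
      ∀ j, 𝒯.T (show k ≤ k + 1 + (n + 1) by omega) (x' j) =
        𝒯.T (show k ≤ k + (n + 1) by omega) (x j) := by
  have hMM' : k + (n + 1) ≤ k + 1 + (n + 1) := by omega
  have e : k + 1 + (n + 1) = k + (n + 1) + 1 := by omega
  choose y hy using fun j => 𝒯.T_surj hMM' (x j)
  have hε : 𝒯.π (k + 1 + (n + 1)) t - ∑ j, y j * 𝒯.π (k + 1 + (n + 1)) (g j) ∈
      RingHom.ker (𝒯.T hMM') := by
    rw [RingHom.mem_ker, map_sub, map_sum, 𝒯.π_T]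
    simp only [map_mul, hy, 𝒯.π_T]
    rw [hx, sub_self]
  rw [𝒯.ker_T' hMM' e] at hε
  have hε2 : 𝒯.π (k + 1 + (n + 1)) t - ∑ j, y j * 𝒯.π (k + 1 + (n + 1)) (g j) ∈
      𝒯.I (k + 1 + (n + 1)) ^ (k + 1) *
        Ideal.span (Set.range (fun j => 𝒯.π (k + 1 + (n + 1)) (g j))) := by
    have := hN (k + 1 + (n + 1)) (by omega)
    unfold Nspan at this
    rw [← this, ← pow_add]
    exact hε
  obtain ⟨d, hd, hdε⟩ := exists_sum_of_mem_mul_span _ _ _ hε2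
  refine ⟨fun j => y j + d j, ?_, fun j => ?_⟩
  · simp only [add_mul, Finset.sum_add_distrib, hdε]
    ring
  · rw [map_add]
    have h0 : 𝒯.T (show k ≤ k + 1 + (n + 1) by omega) (d j) = 0 := by
      have h1 : 𝒯.T (show k ≤ k + 1 + (n + 1) by omega) (d j) ∈
          (𝒯.I (k + 1 + (n + 1)) ^ (k + 1)).map (𝒯.T (show k ≤ k + 1 + (n + 1) by omega)) :=
        Ideal.mem_map_of_mem _ (hd j)
      rw [Ideal.map_pow, 𝒯.map_I, 𝒯.I_pow] at h1
      exact h1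
    rw [h0, add_zero, ← 𝒯.T_comp (show k ≤ k + (n + 1) by omega) hMM', hy]

/-- the set of valid approximations at stage `k` -/
def Appr (k : ℕ) : Type u :=
  {x : Fin r → A (k + (n + 1)) // ∑ j, x j * 𝒯.π (k + (n + 1)) (g j) = 𝒯.π (k + (n + 1)) t}

theorem exists_coeff (hg0 : ∀ j, 𝒯.π n (g j) = 0)
    (hspan : RingHom.ker (𝒯.T (Nat.le_succ n)) ≤ Nspan 𝒯 g (n + 1)) (ht : 𝒯.π n t = 0) :
    ∃ c : Fin r → Ah, t = ∑ j, c j * g j := by
  have hN := pow_eq_Nspan' 𝒯 g n hg0 hspan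
  -- base
  have hbase : ∃ x : Fin r → A (0 + (n + 1)),
      ∑ j, x j * 𝒯.π (0 + (n + 1)) (g j) = 𝒯.π (0 + (n + 1)) t := by
    have h1 : 𝒯.π (0 + (n + 1)) t ∈ 𝒯.I (0 + (n + 1)) ^ (n + 1) := by
      have h2 : 𝒯.π (0 + (n + 1)) t ∈ RingHom.ker (𝒯.T (show n ≤ 0 + (n + 1) by omega)) := by
        rw [RingHom.mem_ker, 𝒯.π_T, ht]
      rw [𝒯.ker_T' _ (by omega)] at h2
      exact Ideal.pow_le_pow_right (by omega) h2
    rw [hN _ (by omega)] at h1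
    have h3 : 𝒯.π (0 + (n + 1)) t ∈ (⊤ : Ideal (A (0 + (n + 1)))) *
        Ideal.span (Set.range (fun j => 𝒯.π (0 + (n + 1)) (g j))) := by
      rw [Ideal.top_mul]
      exact h1
    obtain ⟨d, -, hd⟩ := exists_sum_of_mem_mul_span _ _ _ h3
    exact ⟨d, hd⟩
  let x0 : Appr 𝒯 g n t 0 := ⟨hbase.choose, hbase.choose_spec⟩
  let nxt : ∀ k, Appr 𝒯 g n t k → Appr 𝒯 g n t (k + 1) := fun k x =>
    ⟨(step 𝒯 g n t hN k x.1 x.2).choose, (step 𝒯 g n t hN k x.1 x.2).choose_spec.1⟩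
  have hnxt : ∀ k (x : Appr 𝒯 g n t k) j,
      𝒯.T (show k ≤ k + 1 + (n + 1) by omega) ((nxt k x).1 j) =
        𝒯.T (show k ≤ k + (n + 1) by omega) (x.1 j) := fun k x =>
    (step 𝒯 g n t hN k x.1 x.2).choose_spec.2
  let sq : ∀ k, Appr 𝒯 g n t k := fun k => Nat.rec x0 nxt k
  have hsq : ∀ k, sq (k + 1) = nxt k (sq k) := fun k => rfl
  -- the coefficients
  have hc : ∀ j, ∃ c : Ah, ∀ m, 𝒯.π m c = 𝒯.T (show m ≤ m + (n + 1) by omega) ((sq m).1 j) := by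
    intro j
    apply 𝒯.π_lift
    intro m
    rw [hsq, 𝒯.T_comp]
    exact hnxt m (sq m) j
  choose c hc using hc
  refine ⟨c, 𝒯.π_inj _ _ fun m => ?_⟩
  rw [map_sum]
  simp only [map_mul, hc]
  have h5 := congrArg (𝒯.T (show m ≤ m + (n + 1) by omega)) (sq m).2
  rw [𝒯.π_T, map_sum] at h5
  simp only [map_mul, 𝒯.π_T] at h5
  exact h5.symm

end Tower

end Groth.Agent.Lib.Helper1.FK
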