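import Groth.Agent.Lib.Helper1.FSchAdic
import Groth.Agent.Lib.Helper1.NilpNoeth

/-!
# Levelwise Noetherianity of adic formal systems
-/

universe u

open CategoryTheory CategoryTheory.Limits AlgebraicGeometry

namespace Groth.Agent.Lib.Helper1

theorem isPullback_of_mono_comp {C : Type*} [Category C] {A B D : C} (a : A ⟶ B) (i : B ⟶ D) [Mono i] :
    IsPullback a (𝟙 A) i (a ≫ i) := by
  refine ⟨⟨by rw [Category.id_comp]⟩, ⟨?_⟩⟩
  refine PullbackCone.IsLimit.mk _ (fun s => s.snd) ?_ ?_ ?_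
  · intro s
    rw [← cancel_mono i, Category.assoc]
    exact s.condition.symm
  · intro s
    exact Category.comp_id _
  · intro s m _ h2
    rw [← h2, Category.comp_id]

/-- For a closed immersion `i`, the inverse image of its kernel along itself is zero. -/
theorem ker_comap_self {Z Y : Scheme.{u}} (i : Z ⟶ Y) [IsClosedImmersion i] : i.ker.comap i = ⊥ := by
  have h := isPullback_of_mono_comp (𝟙 Z) i
  have hcl : IsClosedImmersion (𝟙 Z ≫ i) := by rw [Category.id_comp]; infer_instance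
  have := ker_of_isPullback h
  rw [Scheme.Hom.ker_eq_bot_of_isIso] at this
  rw [this]
  congr 2

/-- `ker (a) = ker (a ≫ i).comap i` for a closed immersion `a ≫ i` and a monomorphism `i`. -/
theorem ker_eq_comap_ker_comp {A B D : Scheme.{u}} (a : A ⟶ B) (i : B ⟶ D) [Mono i]
    [IsClosedImmersion (a ≫ i)] : a.ker = (a ≫ i).ker.comap i :=
  ker_of_isPullback (isPullback_of_mono_comp a i)

/-- In an adic formal system, the `(m+1)`-st power of the kernel of `X 0 ⟶ X m` vanishes. -/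
theorem toX_ker_pow_eq_bot (𝔛 : FSch.Sys.{u}) (hF : 𝔛.IsFormal) (hA : 𝔛.IsAdic) (m : ℕ) :
    (𝔛.toX m).ker ^ (m + 1) = ⊥ := by
  have hcl := (hF m).1
  have hcl' : IsClosedImmersion (𝔛.toX m ≫ 𝔛.ι m) := isClosedImmersion_toX hF (m + 1)
  have h1 : (𝔛.toX m).ker = (𝔛.toX (m + 1)).ker.comap (𝔛.ι m) := ker_eq_comap_ker_comp _ _
  rw [h1, ← comap_pow, ← hA m, ker_comap_self]

/-- Sections of a closed subscheme over the preimage of an affine open. -/
noncomputable def quotientKerIdealEquiv {Z Y : Scheme.{u}} (i : Z ⟶ Y) [IsClosedImmersion i]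
    (W : Y.affineOpens) : Γ(Y, W.1) ⧸ i.ker.ideal W ≃+* Γ(Z, i ⁻¹ᵁ W.1) :=
  (Ideal.quotEquivOfEq (Scheme.Hom.ker_apply i W)).trans
    (RingHom.quotientKerEquivOfSurjective (Scheme.Hom.app_surjective i W.1 W.2))

theorem isNoetherianRing_quotient_ker_ideal {Z Y : Scheme.{u}} (i : Z ⟶ Y) [IsClosedImmersion i]
    [IsLocallyNoetherian Z] (W : Y.affineOpens) : IsNoetherianRing (Γ(Y, W.1) ⧸ i.ker.ideal W) := by
  have h : IsNoetherianRing Γ(Z, i ⁻¹ᵁ W.1) :=
    IsLocallyNoetherian.component_noetherian ⟨i ⁻¹ᵁ W.1, W.2.preimage i⟩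
  exact isNoetherianRing_of_ringEquiv _ (quotientKerIdealEquiv i W).symm

/-- Levelwise Noetherianity: in an adic formal system with `X 0` locally Noetherian and the kernel of
`X 0 ⟶ X 1` of finite type, every level is locally Noetherian. -/
theorem isLocallyNoetherian_level (𝔛 : FSch.Sys.{u}) (hF : 𝔛.IsFormal) (hA : 𝔛.IsAdic)
    [IsLocallyNoetherian (𝔛.X 0)] (hft : FSch.IdealFT (𝔛.ι 0).ker) (n : ℕ) :
    IsLocallyNoetherian (𝔛.X n) := by
  induction n with
  | zero => infer_instance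
  | succ n ih =>
    refine ⟨fun W => ?_⟩
    have hcl := (hF n).1
    have hnil : ((𝔛.toX (n + 1)).ker.ideal W) ^ (n + 1 + 1) = ⊥ := by
      have := congrArg (fun K => Scheme.IdealSheafData.ideal K W) (toX_ker_pow_eq_bot 𝔛 hF hA (n + 1))
      simpa using this
    have hq : IsNoetherianRing (Γ(𝔛.X (n + 1), W.1) ⧸ ((𝔛.toX (n + 1)).ker.ideal W) ^ (n + 1)) := by
      have h1 := isNoetherianRing_quotient_ker_ideal (𝔛.ι n) W
      have h2 : (𝔛.ι n).ker.ideal W = ((𝔛.toX (n + 1)).ker.ideal W) ^ (n + 1) := by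
        rw [hA n]; rfl
      rwa [h2] at h1
    refine isNoetherianRing_of_quotient_pow ((𝔛.toX (n + 1)).ker.ideal W) n (n + 1 + 1) hnil ?_
    intro h0
    subst h0
    have h3 : 𝔛.toX (0 + 1) = 𝔛.ι 0 := by rw [toX_succ, toX_zero, Category.id_comp]
    rw [h3]
    exact hft W

end Groth.Agent.Lib.Helper1
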