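import Mathlib
import Groth.Agent.Lib.Helper1.FK1
import Groth.Agent.Lib.Helper1.FSchNoeth
import Groth.Agent.Lib.Helper9.OshSurj

/-!
# The adic tower of sections over an affine open of a formal system (helper1)
-/

set_option autoImplicit false
universe u

open CategoryTheory Limits TopologicalSpace Opposite AlgebraicGeometry
open Groth.Agent.Lib.Helper9.CplFlat

namespace Groth.Agent.Lib.Helper1.FK

noncomputable section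

variable (𝔛 : FSch.Sys.{u}) (h : 𝔛.IsFormal) (U : (𝔛.X 0).Opens)

lemma Tn_comp {l m n : ℕ} (h1 : l ≤ m) (h2 : m ≤ n) (a : (𝔛.levelObj h n).obj.obj (op U)) :
    Tn 𝔛 h U h1 (Tn 𝔛 h U h2 a) = Tn 𝔛 h U (h1.trans h2) a := by
  have e : (homOfLE (h1.trans h2)).op = (homOfLE h2).op ≫ (homOfLE h1).op := rfl
  unfold Tn
  rw [e, Functor.map_comp]
  rfl

lemma Tn_le_succ (n : ℕ) (a : (𝔛.levelObj h (n + 1)).obj.obj (op U)) :
    Tn 𝔛 h U (Nat.le_succ n) a = tn 𝔛 h U n a := by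
  have := Tn_succ 𝔛 h U (le_refl n) a
  rw [Tn_self] at this
  exact this

lemma Tn_surjective (hU : IsAffineOpen U) {m n : ℕ} (hmn : m ≤ n) :
    Function.Surjective (Tn 𝔛 h U hmn) := by
  induction n, hmn using Nat.le_induction with
  | base =>
    intro a
    exact ⟨a, Tn_self 𝔛 h U m a⟩
  | succ n hmn ih =>
    intro a
    obtain ⟨b, hb⟩ := ih a
    obtain ⟨c, hc⟩ := tn_surjective 𝔛 h U hU n b
    exact ⟨c, by rw [Tn_succ 𝔛 h U hmn, hc, hb]⟩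

lemma Tn_πn {m n : ℕ} (hmn : m ≤ n) (x : (𝔛.Osh h).obj.obj (op U)) :
    Tn 𝔛 h U hmn (πn 𝔛 h U n x) = πn 𝔛 h U m x := by
  induction n, hmn using Nat.le_induction with
  | base => exact Tn_self 𝔛 h U m _
  | succ n hmn ih => rw [Tn_succ 𝔛 h U hmn, tn_πn, ih]

lemma lvU_zero : 𝔛.lvU h 0 U = U := toX_preimage_lvU 𝔛 h U 0

lemma lvU_zero_le (m : ℕ) : 𝔛.lvU h 0 U ≤ (𝔛.toX m) ⁻¹ᵁ (𝔛.lvU h m U) := by
  rw [toX_preimage_lvU, lvU_zero]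

lemma Tn_zero_eq (m : ℕ) (a : (𝔛.levelObj h m).obj.obj (op U)) :
    Tn 𝔛 h U (Nat.zero_le m) a =
      ((𝔛.toX m).appLE (𝔛.lvU h m U) (𝔛.lvU h 0 U) (lvU_zero_le 𝔛 h U m)).hom a := by
  induction m with
  | zero =>
    rw [Tn_self]
    have : (𝔛.toX 0).appLE (𝔛.lvU h 0 U) (𝔛.lvU h 0 U) (lvU_zero_le 𝔛 h U 0) = 𝟙 _ := by
      change (𝟙 (𝔛.X 0) : 𝔛.X 0 ⟶ 𝔛.X 0).appLE _ _ _ = _
      simp only [Scheme.Hom.appLE, Scheme.Hom.id_app, Category.id_comp]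
      exact (𝔛.X 0).presheaf.map_id _
    rw [this]
    rfl
  | succ m ih =>
    have h1 := Tn_succ 𝔛 h U (Nat.zero_le m) a
    have h2 : Tn 𝔛 h U (Nat.zero_le (m + 1)) a = Tn 𝔛 h U (Nat.zero_le m) (tn 𝔛 h U m a) := h1
    rw [h2, ih]
    have h3 := FSch.appLE_comp_appLE_of_eq (𝔛.toX m) (𝔛.ι m) (𝔛.toX (m + 1)) rfl
      (𝔛.lvU h (m + 1) U) (𝔛.lvU h m U) (𝔛.lvU h 0 U) (𝔛.lvU_le h m U) (lvU_zero_le 𝔛 h U m)
      (lvU_zero_le 𝔛 h U (m + 1))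
    exact congrArg (fun φ => φ.hom a) h3

/-- the ideal of definition at level `m` over `U` -/
def Im (m : ℕ) : Ideal ((𝔛.levelObj h m).obj.obj (op U)) := RingHom.ker (Tn 𝔛 h U (Nat.zero_le m))

lemma Im_eq (hU : IsAffineOpen U) (m : ℕ) :
    Im 𝔛 h U m = (𝔛.toX m).ker.ideal ⟨𝔛.lvU h m U, isAffineOpen_lvU 𝔛 h U hU m⟩ := by
  haveI := 𝔛.toX_isClosedImmersion h m
  rw [Scheme.Hom.ker_apply]
  have h1 : Tn 𝔛 h U (Nat.zero_le m) =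
      ((𝔛.toX m).appLE (𝔛.lvU h m U) (𝔛.lvU h 0 U) (lvU_zero_le 𝔛 h U m)).hom :=
    RingHom.ext (Tn_zero_eq 𝔛 h U m)
  unfold Im
  rw [h1]
  exact ker_appLE_of_eq (𝔛.toX m) (𝔛.lvU h m U) (𝔛.lvU h 0 U)
    (by rw [toX_preimage_lvU, lvU_zero])

lemma ker_Tn_succ (hA : 𝔛.IsAdic) (hU : IsAffineOpen U) (m : ℕ) :
    RingHom.ker (Tn 𝔛 h U (Nat.le_succ m)) = Im 𝔛 h U (m + 1) ^ (m + 1) := by
  haveI := (h m).1
  have h1 : Tn 𝔛 h U (Nat.le_succ m) =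
      ((𝔛.ι m).appLE (𝔛.lvU h (m + 1) U) (𝔛.lvU h m U) (𝔛.lvU_le h m U)).hom :=
    RingHom.ext (Tn_le_succ 𝔛 h U m)
  have h3 : RingHom.ker (Tn 𝔛 h U (Nat.le_succ m)) =
      RingHom.ker ((𝔛.ι m).app (𝔛.lvU h (m + 1) U)).hom := by
    rw [h1]
    exact ker_appLE_of_eq (𝔛.ι m) (𝔛.lvU h (m + 1) U) (𝔛.lvU h m U) (𝔛.lvU_succ h m U).symm
  rw [h3, Im_eq 𝔛 h U hU (m + 1)]
  have h2 := congrArg (fun I => I.ideal ⟨𝔛.lvU h (m + 1) U, isAffineOpen_lvU 𝔛 h U hU (m + 1)⟩) (hA m)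
  simp only [Scheme.IdealSheafData.ideal_pow, Pi.pow_apply] at h2
  exact (Scheme.Hom.ker_apply (𝔛.ι m) _).symm.trans h2

lemma Im_pow (hA : 𝔛.IsAdic) (hU : IsAffineOpen U) (m : ℕ) : Im 𝔛 h U m ^ (m + 1) = ⊥ := by
  rw [Im_eq 𝔛 h U hU m]
  have h2 := congrArg (fun I => I.ideal ⟨𝔛.lvU h m U, isAffineOpen_lvU 𝔛 h U hU m⟩)
    (toX_ker_pow_eq_bot 𝔛 h hA m)
  simp only [Scheme.IdealSheafData.ideal_pow, Pi.pow_apply, Scheme.IdealSheafData.ideal_bot] at h2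
  exact h2

/-- the adic tower of sections over an affine open -/
def tower (hA : 𝔛.IsAdic) (hU : IsAffineOpen U) :
    Tower (fun m => (𝔛.levelObj h m).obj.obj (op U)) ((𝔛.Osh h).obj.obj (op U)) where
  T := fun hmn => Tn 𝔛 h U hmn
  T_comp := fun h1 h2 a => Tn_comp 𝔛 h U h1 h2 a
  T_surj := fun hmn => Tn_surjective 𝔛 h U hU hmn
  π := πn 𝔛 h U
  π_T := fun hmn x => Tn_πn 𝔛 h U hmn x
  π_inj := πn_injective 𝔛 h U
  π_lift := fun a ha => πn_surjective 𝔛 h U a (fun m => by rw [← Tn_le_succ]; exact ha m)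
  I := Im 𝔛 h U
  I_comap := fun {m n} hmn => by
    ext x
    unfold Im
    rw [Ideal.mem_comap, RingHom.mem_ker, RingHom.mem_ker, Tn_comp]
  ker_T := ker_Tn_succ 𝔛 h U hA hU
  I_pow := Im_pow 𝔛 h U hA hU

end

end Groth.Agent.Lib.Helper1.FK
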