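import Mathlib
import Groth.Agent.Lib.Helper1.FK2
import Groth.Agent.Lib.Helper2.RSMod.Top

/-!
# The kernel of `O_𝔛 → (u_n)_* u_n^* O_𝔛` is of finite type (helper1)
-/

set_option autoImplicit false
universe u

open CategoryTheory Limits TopologicalSpace Opposite AlgebraicGeometry
open Groth.Agent.Lib.Helper9.CplFlat
open Groth.Agent.Lib.Helper2.RSMod

namespace Groth.Agent.Lib.Helper1.FK

noncomputable section

variable (𝔛 : FSch.Sys.{u}) (h : 𝔛.IsFormal) (n : ℕ)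

instance final_gInv : (Opens.map (𝔛.gInv h n)).Final := by
  have : (Opens.map (𝔛.gInv h n)).IsEquivalence :=
    (Opens.mapMapIso (TopCat.isoOfHomeo (𝔛.levelHomeo h n)).symm).isEquivalence_functor
  infer_instance

instance final_levelMor_fn : (FSch.levelMor 𝔛 h n).fn.Final := final_gInv 𝔛 h n

/-- the unit `O_𝔛 → (u_n)_* u_n^* O_𝔛` -/
abbrev uu : FSch.unitF 𝔛 h ⟶ (FSch.levelMor 𝔛 h n).push.obj ((FSch.levelMor 𝔛 h n).pull.obj (FSch.unitF 𝔛 h)) :=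
  (FSch.levelMor 𝔛 h n).adj.unit.app (FSch.unitF 𝔛 h)

lemma uu_comp :
    uu 𝔛 h n ≫ (FSch.levelMor 𝔛 h n).push.map
        (SheafOfModules.pullbackObjUnitToUnit (FSch.levelMor 𝔛 h n).sharpR) =
      SheafOfModules.unitToPushforwardObjUnit (FSch.levelMor 𝔛 h n).sharpR := by
  rw [← Adjunction.homEquiv_unit]
  exact SheafOfModules.pullbackPushforwardAdjunction_homEquiv_pullbackObjUnitToUnit _

lemma uu_app_eq_zero_iff (V : (𝔛.X 0).Opens) (a : (𝔛.Osh h).obj.obj (op V)) :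
    (uu 𝔛 h n).val.app (op V) a = 0 ↔ πn 𝔛 h V n a = 0 := by
  have h1 := congrArg (fun ψ => (ψ.val.app (op V)).hom a) (uu_comp 𝔛 h n)
  have h2 : (SheafOfModules.unitToPushforwardObjUnit (FSch.levelMor 𝔛 h n).sharpR).val.app (op V) a =
      πn 𝔛 h V n a := rfl
  constructor
  · intro h0
    rw [← h2, ← h1]
    change ((FSch.levelMor 𝔛 h n).push.map
      (SheafOfModules.pullbackObjUnitToUnit (FSch.levelMor 𝔛 h n).sharpR)).val.app (op V)
        ((uu 𝔛 h n).val.app (op V) a) = 0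
    rw [h0]
    exact map_zero _
  · intro h0
    have h3 : ((FSch.levelMor 𝔛 h n).push.map
      (SheafOfModules.pullbackObjUnitToUnit (FSch.levelMor 𝔛 h n).sharpR)).val.app (op V)
        ((uu 𝔛 h n).val.app (op V) a) = 0 := by
      exact h1.trans (h2.trans h0)
    have hinj := mono_injective ((FSch.levelMor 𝔛 h n).push.map
      (SheafOfModules.pullbackObjUnitToUnit (FSch.levelMor 𝔛 h n).sharpR)) V
    apply hinj
    rw [h3]
    exact (map_zero _).symm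

variable {𝔛 h}

lemma πn_rres {V W : (𝔛.X 0).Opens} (hWV : W ≤ V) (m : ℕ) (x : (𝔛.Osh h).obj.obj (op V)) :
    πn 𝔛 h W m (rres (𝔛.Osh h) hWV x) =
      ((𝔛.levelObj h m).obj.map (homOfLE hWV).op).hom (πn 𝔛 h V m x) := by
  have := (𝔛.OshProj h m).hom.naturality (homOfLE hWV).op
  exact congrArg (fun φ => φ.hom x) this

lemma ker_Tn_succ_map (hA : 𝔛.IsAdic) {U W : (𝔛.X 0).Opens} (hU : IsAffineOpen U)
    (hW : IsAffineOpen W) (hWU : W ≤ U) (n : ℕ) :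
    (RingHom.ker (Tn 𝔛 h U (Nat.le_succ n))).map
        ((𝔛.levelObj h (n + 1)).obj.map (homOfLE hWU).op).hom =
      RingHom.ker (Tn 𝔛 h W (Nat.le_succ n)) := by
  rw [ker_Tn_succ 𝔛 h U hA hU, ker_Tn_succ 𝔛 h W hA hW, Ideal.map_pow, Im_eq 𝔛 h U hU,
    Im_eq 𝔛 h W hW]
  congr 1
  exact (𝔛.toX (n + 1)).ker.map_ideal
    (U := ⟨𝔛.lvU h (n + 1) W, isAffineOpen_lvU 𝔛 h W hW (n + 1)⟩)
    (V := ⟨𝔛.lvU h (n + 1) U, isAffineOpen_lvU 𝔛 h U hU (n + 1)⟩)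
    ((Opens.map (𝔛.gInv h (n + 1))).map (homOfLE hWU)).le

/-- **The ideals of definition of a locally Noetherian formal scheme are of finite type.** -/
theorem kernel_isFiniteType (h : 𝔛.IsFormal) (hA : 𝔛.IsAdic)
    (hNoeth : ∀ n, IsLocallyNoetherian (𝔛.X n)) (n : ℕ) :
    SheafOfModules.IsFiniteType (R := ModSite.ringSh (𝔛.Osh h)) (kernel (uu 𝔛 h n)) := by
  refine (isFiniteType_iff (O := 𝔛.Osh h) (kernel (uu 𝔛 h n))).2 fun x => ?_
  obtain ⟨U, hU, hxU, -⟩ := Opens.isBasis_iff_nbhd.mp (𝔛.X 0).isBasis_affineOpens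
    (show x ∈ (⊤ : (𝔛.X 0).Opens) from trivial)
  have hU : IsAffineOpen U := hU
  haveI := hNoeth (n + 1)
  haveI : IsNoetherianRing Γ(𝔛.X (n + 1), 𝔛.lvU h (n + 1) U) :=
    IsLocallyNoetherian.component_noetherian
      (⟨𝔛.lvU h (n + 1) U, isAffineOpen_lvU 𝔛 h U hU (n + 1)⟩ : (𝔛.X (n + 1)).affineOpens)
  have hfg : (RingHom.ker (Tn 𝔛 h U (Nat.le_succ n))).FG :=
    (isNoetherianRing_iff_ideal_fg _).1 ‹_› _
  obtain ⟨r, γ, hγ⟩ := Submodule.fg_iff_exists_fin_generating_family.1 hfg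
  choose g hg using fun j => πn_surjective_of_isAffineOpen 𝔛 h U hU (n + 1) (γ j)
  have hγmem : ∀ j, γ j ∈ RingHom.ker (Tn 𝔛 h U (Nat.le_succ n)) := fun j => by
    rw [← hγ]
    exact Submodule.subset_span ⟨j, rfl⟩
  have hg0 : ∀ j, πn 𝔛 h U n (g j) = 0 := fun j => by
    rw [← Tn_πn 𝔛 h U (Nat.le_succ n), hg]
    exact hγmem j
  have hs : ∀ j, ∃ s : (kernel (uu 𝔛 h n)).val.obj (op U),
      (kernel.ι (uu 𝔛 h n)).val.app (op U) s = g j := fun j =>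
    exists_kernel_lift (uu 𝔛 h n) (g j) ((uu_app_eq_zero_iff 𝔛 h n U (g j)).2 (hg0 j))
  choose s hs using hs
  refine ⟨U, hxU, r, s, ?_⟩
  intro V hV t y hy
  obtain ⟨W, hW, hyW, hWV⟩ := Opens.isBasis_iff_nbhd.mp (𝔛.X 0).isBasis_affineOpens hy
  have hW : IsAffineOpen W := hW
  refine ⟨W, hWV, hyW, ?_⟩
  let 𝒯 := tower 𝔛 h W hA hW
  let g' : Fin r → (𝔛.Osh h).obj.obj (op W) := fun j => rres (𝔛.Osh h) (hWV.trans hV) (g j)
  let τ : (𝔛.Osh h).obj.obj (op W) :=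
    (kernel.ι (uu 𝔛 h n)).val.app (op W) (res (kernel (uu 𝔛 h n)) hWV t)
  have hτ : πn 𝔛 h W n τ = 0 :=
    (uu_app_eq_zero_iff 𝔛 h n W τ).1 (kernel_ι_comp_apply (uu 𝔛 h n) _)
  have hg0' : ∀ j, 𝒯.π n (g' j) = 0 := fun j => by
    change πn 𝔛 h W n (rres (𝔛.Osh h) (hWV.trans hV) (g j)) = 0
    rw [πn_rres, hg0, map_zero]
  have hspan' : RingHom.ker (𝒯.T (Nat.le_succ n)) ≤ Tower.Nspan 𝒯 g' (n + 1) := by
    change RingHom.ker (Tn 𝔛 h W (Nat.le_succ n)) ≤ _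
    rw [← ker_Tn_succ_map hA hU hW (hWV.trans hV) n]
    have hγ' : RingHom.ker (Tn 𝔛 h U (Nat.le_succ n)) = Ideal.span (Set.range γ) := hγ.symm
    rw [hγ', Ideal.map_span, Ideal.span_le]
    rintro _ ⟨_, ⟨j, rfl⟩, rfl⟩
    apply Ideal.subset_span
    refine ⟨j, ?_⟩
    change πn 𝔛 h W (n + 1) (rres (𝔛.Osh h) (hWV.trans hV) (g j)) = _
    rw [πn_rres, hg]
  obtain ⟨c, hc⟩ := Tower.exists_coeff 𝒯 g' n τ hg0' hspan' hτ
  refine ⟨c, ?_⟩
  apply mono_injective (kernel.ι (uu 𝔛 h n)) W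
  have h5 : ∀ j, (kernel.ι (uu 𝔛 h n)).val.app (op W)
      (c j • res (kernel (uu 𝔛 h n)) (hWV.trans hV) (s j)) = c j * g' j := by
    intro j
    have e1 := hom_smul (kernel.ι (uu 𝔛 h n)) (W := W) (c j)
      (res (kernel (uu 𝔛 h n)) (hWV.trans hV) (s j))
    have e2 := hom_res (kernel.ι (uu 𝔛 h n)) (hWV.trans hV) (s j)
    refine e1.trans ?_
    rw [e2, hs j]
    rfl
  rw [hom_sum]
  exact hc.trans (Finset.sum_congr rfl (fun j _ => (h5 j).symm))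

end

end Groth.Agent.Lib.Helper1.FK
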