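import Mathlib
import Groth.Agent.Lib.Helper1.FK1

/-!
# The limit of an adic tower is adically complete (helper1)
-/

set_option autoImplicit false
universe u

namespace Groth.Agent.Lib.Helper1.FK

variable {A : ℕ → Type u} [∀ m, CommRing (A m)] {Ah : Type u} [CommRing Ah] (𝒯 : Tower A Ah)

namespace Tower

/-- the ideal of definition of the limit -/
def J : Ideal Ah := RingHom.ker (𝒯.π 0)

lemma I_zero : 𝒯.I 0 = ⊥ := by
  have := 𝒯.I_pow 0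
  simpa using this

lemma mem_J_iff (x : Ah) (m : ℕ) : x ∈ 𝒯.J ↔ 𝒯.π m x ∈ 𝒯.I m := by
  rw [𝒯.I_comap (Nat.zero_le m), Ideal.mem_comap, 𝒯.π_T, I_zero, Ideal.mem_bot]
  rfl

lemma map_π_J (hπ : ∀ m, Function.Surjective (𝒯.π m)) (m : ℕ) : 𝒯.J.map (𝒯.π m) = 𝒯.I m := by
  have h1 : 𝒯.J = (𝒯.I m).comap (𝒯.π m) := by
    ext x
    exact mem_J_iff 𝒯 x m
  rw [h1]
  exact Ideal.map_comap_of_surjective _ (hπ m) _

lemma J_pow_le_ker (hπ : ∀ m, Function.Surjective (𝒯.π m)) (n : ℕ) :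
    𝒯.J ^ (n + 1) ≤ RingHom.ker (𝒯.π n) := by
  intro x hx
  have h1 := Ideal.mem_map_of_mem (𝒯.π n) hx
  rw [Ideal.map_pow, map_π_J 𝒯 hπ, 𝒯.I_pow] at h1
  exact h1

theorem exists_gens (hπ : ∀ m, Function.Surjective (𝒯.π m)) (n : ℕ)
    (hfg : (RingHom.ker (𝒯.T (Nat.le_succ n))).FG) :
    ∃ (r : ℕ) (g : Fin r → Ah), (∀ j, g j ∈ 𝒯.J ^ (n + 1)) ∧
      RingHom.ker (𝒯.π n) = Ideal.span (Set.range g) := by
  obtain ⟨r, γ, hγ⟩ := Submodule.fg_iff_exists_fin_generating_family.1 hfg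
  have h1 : ∀ j, ∃ g ∈ 𝒯.J ^ (n + 1), 𝒯.π (n + 1) g = γ j := by
    intro j
    have hmem : γ j ∈ RingHom.ker (𝒯.T (Nat.le_succ n)) := by
      rw [← hγ]
      exact Submodule.subset_span ⟨j, rfl⟩
    rw [𝒯.ker_T, ← map_π_J 𝒯 hπ, ← Ideal.map_pow] at hmem
    exact (Ideal.mem_map_iff_of_surjective _ (hπ (n + 1))).1 hmem
  choose g hgJ hg using h1
  refine ⟨r, g, hgJ, le_antisymm ?_ ?_⟩
  · intro t ht
    obtain ⟨c, hc⟩ := exists_coeff 𝒯 g n t (fun j => J_pow_le_ker 𝒯 hπ n (hgJ j)) (by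
      unfold Nspan
      rw [show (fun j => 𝒯.π (n + 1) (g j)) = γ from funext hg]
      exact hγ.ge) ht
    rw [hc]
    exact Ideal.sum_mem _ (fun j _ => Ideal.mul_mem_left _ _ (Ideal.subset_span ⟨j, rfl⟩))
  · rw [Ideal.span_le]
    rintro _ ⟨j, rfl⟩
    exact J_pow_le_ker 𝒯 hπ n (hgJ j)

theorem ker_π_eq (hπ : ∀ m, Function.Surjective (𝒯.π m))
    (hfg : ∀ n, (RingHom.ker (𝒯.T (Nat.le_succ n))).FG) (n : ℕ) :
    RingHom.ker (𝒯.π n) = 𝒯.J ^ (n + 1) := by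
  apply le_antisymm _ (J_pow_le_ker 𝒯 hπ n)
  obtain ⟨r, g, hgJ, hker⟩ := exists_gens 𝒯 hπ n (hfg n)
  rw [hker, Ideal.span_le]
  rintro _ ⟨j, rfl⟩
  exact hgJ j

theorem J_fg (hπ : ∀ m, Function.Surjective (𝒯.π m))
    (hfg : (RingHom.ker (𝒯.T (Nat.le_succ 0))).FG) : 𝒯.J.FG := by
  obtain ⟨r, g, -, hker⟩ := exists_gens 𝒯 hπ 0 hfg
  unfold J
  rw [hker]
  exact Submodule.fg_span (Set.finite_range g)

theorem isAdicComplete (hker : ∀ n, RingHom.ker (𝒯.π n) = 𝒯.J ^ (n + 1)) :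
    IsAdicComplete 𝒯.J Ah := by
  refine { toIsHausdorff := ⟨fun x hx => ?_⟩, toIsPrecomplete := ⟨fun f hf => ?_⟩ }
  · apply 𝒯.π_inj
    intro m
    rw [map_zero]
    have h1 := hx (m + 1)
    rw [SModEq.zero, smul_eq_mul, Ideal.mul_top, ← hker] at h1
    exact h1
  · obtain ⟨L, hL⟩ := 𝒯.π_lift (fun m => 𝒯.π m (f (m + 1))) (fun m => by
      rw [𝒯.π_T]
      have h1 := hf (Nat.le_succ (m + 1))
      rw [SModEq.sub_mem, smul_eq_mul, Ideal.mul_top, ← hker, RingHom.mem_ker, map_sub,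
        sub_eq_zero] at h1
      exact h1.symm)
    refine ⟨L, fun n => ?_⟩
    cases n with
    | zero =>
      rw [SModEq.sub_mem, pow_zero, Ideal.one_eq_top, smul_eq_mul, Ideal.mul_top]
      exact Submodule.mem_top
    | succ n =>
      rw [SModEq.sub_mem, smul_eq_mul, Ideal.mul_top, ← hker, RingHom.mem_ker, map_sub, hL,
        sub_self]

end Tower

end Groth.Agent.Lib.Helper1.FK
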