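import Mathlib
import Groth.Agent.Lib.Helper1.FK2
import Groth.Agent.Lib.Helper1.FK4
import Groth.Agent.Lib.Helper21.AdicNoetherian

/-!
# Sections of `O_𝔛` over an affine open form a Noetherian adically complete ring (helper1)
-/

set_option autoImplicit false
universe u

open CategoryTheory Limits TopologicalSpace Opposite AlgebraicGeometry
open Groth.Agent.Lib.Helper9.CplFlat

namespace Groth.Agent.Lib.Helper1.FK

noncomputable section

variable (𝔛 : FSch.Sys.{u}) (h : 𝔛.IsFormal) (hA : 𝔛.IsAdic)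
  (hN : ∀ n, IsLocallyNoetherian (𝔛.X n)) (U : (𝔛.X 0).Opens) (hU : IsAffineOpen U)

lemma tower_π_surj (m : ℕ) : Function.Surjective ((tower 𝔛 h U hA hU).π m) :=
  πn_surjective_of_isAffineOpen 𝔛 h U hU m

include hN hU in
lemma level_noeth (n : ℕ) : IsNoetherianRing ((𝔛.levelObj h n).obj.obj (op U)) := by
  haveI := hN n
  exact IsLocallyNoetherian.component_noetherian
    (⟨𝔛.lvU h n U, isAffineOpen_lvU 𝔛 h U hU n⟩ : (𝔛.X n).affineOpens)

include hN in
lemma tower_fg (n : ℕ) : (RingHom.ker ((tower 𝔛 h U hA hU).T (Nat.le_succ n))).FG := by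
  haveI := level_noeth 𝔛 h hN U hU (n + 1)
  exact (isNoetherianRing_iff_ideal_fg _).1 ‹_› _

include hN in
lemma tower_ker_π (n : ℕ) :
    RingHom.ker ((tower 𝔛 h U hA hU).π n) = (tower 𝔛 h U hA hU).J ^ (n + 1) :=
  Tower.ker_π_eq _ (tower_π_surj 𝔛 h hA U hU) (tower_fg 𝔛 h hA hN U hU) n

include hN in
lemma tower_complete : IsAdicComplete (tower 𝔛 h U hA hU).J ((𝔛.Osh h).obj.obj (op U)) :=
  Tower.isAdicComplete _ (tower_ker_π 𝔛 h hA hN U hU)

include hA hN hU in
theorem osh_noetherian : IsNoetherianRing ((𝔛.Osh h).obj.obj (op U)) := by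
  haveI := tower_complete 𝔛 h hA hN U hU
  haveI : IsNoetherianRing ((𝔛.Osh h).obj.obj (op U) ⧸ (tower 𝔛 h U hA hU).J) := by
    haveI := level_noeth 𝔛 h hN U hU 0
    exact isNoetherianRing_of_ringEquiv _
      (RingHom.quotientKerEquivOfSurjective (tower_π_surj 𝔛 h hA U hU 0)).symm
  exact Groth.Agent.Lib.Helper21.isNoetherianRing_of_isAdicComplete (tower 𝔛 h U hA hU).J
    (Tower.J_fg _ (tower_π_surj 𝔛 h hA U hU) (tower_fg 𝔛 h hA hN U hU 0))

end

end Groth.Agent.Lib.Helper1.FK
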