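import Mathlib
import Groth.Agent.Lib.Helper9.CplFlat1

/-!
# Flatness of a limit of localized towers (helper1)
-/

set_option autoImplicit false
universe u

open Groth.Agent.Lib.Helper9.CplFlat

namespace Groth.Agent.Lib.Helper1.FK

section Alg

variable {Ah Ah' : Type u} [CommRing Ah] [CommRing Ah'] (ρ : Ah →+* Ah') (g : Ah)
  (hunit : IsUnit (ρ g))
  (A B : ℕ → Type u) [∀ n, CommRing (A n)] [∀ n, CommRing (B n)]
  (π : ∀ n, Ah →+* A n) (π' : ∀ n, Ah' →+* B n) (r : ∀ n, A n →+* B n)
  (hr : ∀ n x, r n (π n x) = π' n (ρ x))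
  (hloc : ∀ n, @IsLocalization.Away _ _ (π n g) (B n) _ (r n).toAlgebra)
  (t' : ∀ n, B (n + 1) →+* B n) (ht' : ∀ n x, t' n (π' (n + 1) x) = π' n x)
  (hπ : ∀ n, Function.Surjective (π n))
  (J : Ideal Ah) (hker : ∀ n, RingHom.ker (π n) = J ^ (n + 1))
  (hinj : ∀ x : Ah', (∀ n, π' n x = 0) → x = 0)
  (hsurj : ∀ a : ∀ n, B n, (∀ n, t' n (a (n + 1)) = a n) → ∃ x : Ah', ∀ n, π' n x = a n)

include hunit hr hloc ht' hπ hker hinj hsurj in
theorem flat_of_localized_towers [IsNoetherianRing Ah] : ρ.Flat := by
  let S := Localization.Away g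
  letI algAB : ∀ n, Algebra (A n) (B n) := fun n => (r n).toAlgebra
  haveI locB : ∀ n, IsLocalization ((Submonoid.powers g).map (π n)) (B n) := fun n => by
    rw [Submonoid.map_powers]
    exact hloc n
  let q : ∀ n, S →+* B n := fun n =>
    IsLocalization.map (B n) (π n) (Submonoid.le_comap_map (Submonoid.powers g))
  have hq_alg : ∀ n x, q n (algebraMap Ah S x) = r n (π n x) := fun n x =>
    IsLocalization.map_eq _ x
  let σ : S →+* Ah' := IsLocalization.Away.lift g hunit
  have hσ : ∀ x, σ (algebraMap Ah S x) = ρ x := fun x => IsLocalization.Away.lift_eq g hunit x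
  letI algS : Algebra S Ah' := σ.toAlgebra
  letI algSB : ∀ n, Algebra S (B n) := fun n => (q n).toAlgebra
  have hπ'σ : ∀ n, (π' n).comp σ = q n := fun n => by
    apply IsLocalization.ringHom_ext (Submonoid.powers g)
    ext x
    simp only [RingHom.comp_apply]
    rw [hσ, hq_alg, hr]
  have ht'q : ∀ n, (t' n).comp (q (n + 1)) = q n := fun n => by
    apply IsLocalization.ringHom_ext (Submonoid.powers g)
    ext x
    simp only [RingHom.comp_apply]
    rw [hq_alg, hq_alg, hr, ht', hr]
  haveI : IsNoetherianRing S := IsLocalization.isNoetherianRing (Submonoid.powers g) S inferInstance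
  have hflatS : Module.Flat S Ah' := by
    refine flat_of_limit (A := S) (R := Ah') (J.map (algebraMap Ah S)) B
      (fun n => { toRingHom := π' n, commutes' := fun s => congrArg (fun φ => φ s) (hπ'σ n) })
      (fun n => { toRingHom := t' n, commutes' := fun s => congrArg (fun φ => φ s) (ht'q n) })
      ?_ ?_ (fun n x => ht' n x) (fun x hx => hinj x hx) (fun a ha => hsurj a ha)
    · intro n
      exact IsLocalization.map_surjective_of_surjective _ _ _ (hπ n)
    · intro n
      change RingHom.ker (q n) = _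
      rw [← Ideal.map_pow, ← hker n]
      exact IsLocalization.ker_map (B n) (π n) rfl
  letI algρ : Algebra Ah Ah' := ρ.toAlgebra
  haveI : IsScalarTower Ah S Ah' := IsScalarTower.of_algebraMap_eq (fun x => (hσ x).symm)
  haveI : Module.Flat Ah S := IsLocalization.flat S (Submonoid.powers g)
  exact Module.Flat.trans Ah S Ah'

end Alg

end Groth.Agent.Lib.Helper1.FK
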