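import Mathlib
import Groth.Agent.Lib.Helper1.FK3
import Groth.Agent.Lib.Helper1.FK6
import Groth.Agent.Lib.Helper1.FK7
import Groth.Agent.Lib.Helper9.OshUnit

/-!
# Restriction `O_𝔛(W) → O_𝔛(D(g))` is flat on a locally Noetherian formal scheme (helper1)
-/

set_option autoImplicit false
universe u

open CategoryTheory Limits TopologicalSpace Opposite AlgebraicGeometry
open Groth.Agent.Lib.Helper9.CplFlat
open Groth.Agent.Lib.Helper2.RSMod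

namespace Groth.Agent.Lib.Helper1.FK

noncomputable section

variable (𝔛 : FSch.Sys.{u}) (h : 𝔛.IsFormal) (W : (𝔛.X 0).Opens) (g : (𝔛.Osh h).obj.obj (op W))

/-- the basic open of the common space attached to a section of `O_𝔛` -/
def bo : (𝔛.X 0).Opens := (𝔛.X 0).basicOpen (πn 𝔛 h W 0 g)

lemma bo_le : bo 𝔛 h W g ≤ W := by
  have h1 : bo 𝔛 h W g ≤ 𝔛.lvU h 0 W := (𝔛.X 0).basicOpen_le _
  rwa [lvU_zero] at h1

lemma lvU_bo (n : ℕ) : 𝔛.lvU h n (bo 𝔛 h W g) = (𝔛.X n).basicOpen (πn 𝔛 h W n g) := by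
  haveI := 𝔛.toX_isClosedImmersion h n
  apply Groth.Agent.Lib.Helper1.AffThick.opens_eq_of_preimage_eq (𝔛.toX n) (𝔛.toX_surjective h n)
  rw [toX_preimage_lvU, Scheme.preimage_basicOpen]
  have h1 : πn 𝔛 h W 0 g = Tn 𝔛 h W (Nat.zero_le n) (πn 𝔛 h W n g) := (Tn_πn 𝔛 h W _ g).symm
  rw [Tn_zero_eq] at h1
  unfold bo
  rw [h1]
  change (𝔛.X 0).basicOpen ((𝔛.X 0).presheaf.map _ ((𝔛.toX n).app (𝔛.lvU h n W) (πn 𝔛 h W n g))) = _
  rw [Scheme.basicOpen_res]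
  apply inf_eq_right.2
  refine ((𝔛.X 0).basicOpen_le _).trans ?_
  rw [toX_preimage_lvU]
  exact (lvU_zero 𝔛 h W).ge

/-- restriction of sections of `O_𝔛`, as a map of commutative rings -/
def cres {V V' : (𝔛.X 0).Opens} (hV : V' ≤ V) :
    (𝔛.Osh h).obj.obj (op V) →+* (𝔛.Osh h).obj.obj (op V') :=
  ((𝔛.Osh h).obj.map (homOfLE hV).op).hom

lemma cres_eq_rres {V V' : (𝔛.X 0).Opens} (hV : V' ≤ V) (x : (𝔛.Osh h).obj.obj (op V)) :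
    cres 𝔛 h hV x = rres (𝔛.Osh h) hV x := rfl

lemma πn_cres {V V' : (𝔛.X 0).Opens} (hV : V' ≤ V) (m : ℕ) (x : (𝔛.Osh h).obj.obj (op V)) :
    πn 𝔛 h V' m (cres 𝔛 h hV x) =
      ((𝔛.levelObj h m).obj.map (homOfLE hV).op).hom (πn 𝔛 h V m x) :=
  πn_rres hV m x

variable (hA : 𝔛.IsAdic) (hN : ∀ n, IsLocallyNoetherian (𝔛.X n)) (hW : IsAffineOpen W)

include hW in
lemma isAffineOpen_bo : IsAffineOpen (bo 𝔛 h W g) := by
  have h0 : IsAffineOpen (𝔛.lvU h 0 W) := isAffineOpen_lvU 𝔛 h W hW 0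
  exact h0.basicOpen _

include hW in
lemma isUnit_cres_bo : IsUnit (cres 𝔛 h (bo_le 𝔛 h W g) g) := by
  apply isUnit_of_isUnit_π0 𝔛 h _ (isAffineOpen_bo 𝔛 h W g hW)
  rw [πn_cres]
  have hle : 𝔛.lvU h 0 (bo 𝔛 h W g) ≤ (𝔛.X 0).basicOpen (πn 𝔛 h W 0 g) := (lvU_zero 𝔛 h _).le
  have h1 := (𝔛.X 0).toRingedSpace.isUnit_res_basicOpen (πn 𝔛 h W 0 g)
  have h2 := h1.map ((𝔛.X 0).presheaf.map (homOfLE hle).op).hom
  have e : ((𝔛.levelObj h 0).obj.map (homOfLE (bo_le 𝔛 h W g)).op).hom (πn 𝔛 h W 0 g) =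
      ((𝔛.X 0).presheaf.map (homOfLE hle).op).hom
        (((𝔛.X 0).presheaf.map (homOfLE ((𝔛.X 0).basicOpen_le (πn 𝔛 h W 0 g))).op).hom
          (πn 𝔛 h W 0 g)) := by
    have := (𝔛.X 0).presheaf.map_comp (homOfLE ((𝔛.X 0).basicOpen_le (πn 𝔛 h W 0 g))).op
      (homOfLE hle).op
    exact congrArg (fun φ => φ.hom (πn 𝔛 h W 0 g)) this
  rw [e]
  exact h2

include hA hN hW in
/-- restriction to a basic open is flat -/
theorem flat_cres_bo : (cres 𝔛 h (bo_le 𝔛 h W g)).Flat := by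
  haveI := osh_noetherian 𝔛 h hA hN W hW
  refine flat_of_localized_towers (cres 𝔛 h (bo_le 𝔛 h W g)) g (isUnit_cres_bo 𝔛 h W g hW)
    (fun n => (𝔛.levelObj h n).obj.obj (op W))
    (fun n => (𝔛.levelObj h n).obj.obj (op (bo 𝔛 h W g)))
    (πn 𝔛 h W) (πn 𝔛 h (bo 𝔛 h W g))
    (fun n => ((𝔛.levelObj h n).obj.map (homOfLE (bo_le 𝔛 h W g)).op).hom)
    (fun n x => (πn_cres 𝔛 h (bo_le 𝔛 h W g) n x).symm)
    (fun n => ?_)
    (tn 𝔛 h (bo 𝔛 h W g)) (tn_πn 𝔛 h (bo 𝔛 h W g))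
    (tower_π_surj 𝔛 h hA W hW) (tower 𝔛 h W hA hW).J (tower_ker_π 𝔛 h hA hN W hW)
    (fun x hx => πn_injective 𝔛 h _ x 0 (fun n => by rw [map_zero]; exact hx n))
    (πn_surjective 𝔛 h _)
  exact (isAffineOpen_lvU 𝔛 h W hW n).isLocalization_of_eq_basicOpen (πn 𝔛 h W n g)
    ((Opens.map (𝔛.gInv h n)).map (homOfLE (bo_le 𝔛 h W g))) (lvU_bo 𝔛 h W g n)

end

end Groth.Agent.Lib.Helper1.FK
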