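import Mathlib

/-!
# Flat base change of the module of relations (helper1)
-/

set_option autoImplicit false
universe u

namespace Groth.Agent.Lib.Helper1.FK

/-- relations of `ρ ∘ a` over a flat extension are generated by relations of `a` -/
theorem exists_coeffs_of_flat {B B' : Type u} [CommRing B] [CommRing B'] (ρ : B →+* B')
    (hρ : ρ.Flat) {I : Type u} [Fintype I] (a : I → B) {r : ℕ} (k : Fin r → I → B)
    (hk : ∀ c : I → B, ∑ i, c i * a i = 0 → c ∈ Submodule.span B (Set.range k))
    (c' : I → B') (hc' : ∑ i, c' i * ρ (a i) = 0) :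
    ∃ e : Fin r → B', ∀ i, c' i = ∑ l, e l * ρ (k l i) := by
  letI := ρ.toAlgebra
  haveI : Module.Flat B B' := hρ
  have hrel : ∑ i, a i • c' i = 0 := by
    rw [← hc']
    refine Finset.sum_congr rfl fun i _ => ?_
    rw [Algebra.smul_def, mul_comm]
    rfl
  obtain ⟨k₀, α, y, hxy, hα⟩ := Module.Flat.isTrivialRelation_of_sum_smul_eq_zero
    (R := B) (M := B') (f := a) (x := c') hrel
  have hmem : ∀ j, (fun i => α i j) ∈ Submodule.span B (Set.range k) := fun j =>
    hk _ (by
      rw [← hα j]
      exact Finset.sum_congr rfl fun i _ => mul_comm _ _)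
  choose d hd using fun j => (Submodule.mem_span_range_iff_exists_fun B).1 (hmem j)
  refine ⟨fun l => ∑ j, y j * ρ (d j l), fun i => ?_⟩
  rw [hxy i]
  have h1 : ∀ j, α i j = ∑ l, d j l * k l i := fun j => by
    have := congrFun (hd j) i
    rw [Finset.sum_apply] at this
    rw [← this]
    rfl
  simp only [h1, Algebra.smul_def, Finset.sum_mul]
  rw [Finset.sum_comm]
  refine Finset.sum_congr rfl fun j _ => ?_
  change ρ (∑ l, d j l * k l i) * y j = _
  rw [map_sum, Finset.sum_mul]
  refine Finset.sum_congr rfl fun l _ => ?_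
  rw [map_mul]
  ring

end Groth.Agent.Lib.Helper1.FK
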