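import Mathlib
import Groth.Agent.Lib.Helper1.FK8
import Groth.Agent.Lib.Helper1.FK9

/-!
# The structure sheaf of a locally Noetherian formal scheme is coherent (helper1)
-/

set_option autoImplicit false
universe u

open CategoryTheory Limits TopologicalSpace Opposite AlgebraicGeometry
open Groth.Agent.Lib.Helper9.CplFlat
open Groth.Agent.Lib.Helper2.RSMod

namespace Groth.Agent.Lib.Helper1.FK

noncomputable section

variable (𝔛 : FSch.Sys.{u}) (h : 𝔛.IsFormal) (hA : 𝔛.IsAdic)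
  (hN : ∀ n, IsLocallyNoetherian (𝔛.X n))

include hA hN in
/-- **Coherence of `O_𝔛`**: the kernel of `O_𝔛^n ⟶ O_𝔛` is of finite type. -/
theorem kernel_free_isFiniteType (n : ℕ)
    (φ : SheafOfModules.free (ULift.{u} (Fin n)) ⟶ FSch.unitF 𝔛 h) :
    SheafOfModules.IsFiniteType (R := ModSite.ringSh (𝔛.Osh h)) (kernel φ) := by
  classical
  refine (isFiniteType_iff (O := 𝔛.Osh h) (kernel φ)).2 fun x => ?_
  obtain ⟨W, hW, hxW, -⟩ := Opens.isBasis_iff_nbhd.mp (𝔛.X 0).isBasis_affineOpens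
    (show x ∈ (⊤ : (𝔛.X 0).Opens) from trivial)
  have hW : IsAffineOpen W := hW
  haveI := osh_noetherian 𝔛 h hA hN W hW
  -- the images of the basis sections
  let a : ULift.{u} (Fin n) → (𝔛.Osh h).obj.obj (op W) := fun i =>
    φ.val.app (op W) (basisSec (ModSite.ringSh (𝔛.Osh h)) (ULift.{u} (Fin n)) (op W) i)
  let L : (ULift.{u} (Fin n) → (𝔛.Osh h).obj.obj (op W)) →ₗ[(𝔛.Osh h).obj.obj (op W)]
      (𝔛.Osh h).obj.obj (op W) := Fintype.linearCombination _ a
  have hfg : (LinearMap.ker L).FG := IsNoetherian.noetherian _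
  obtain ⟨r, k, hk⟩ := Submodule.fg_iff_exists_fin_generating_family.1 hfg
  have hkK : ∀ l, ∑ i, k l i * a i = 0 := fun l => by
    have h1 : k l ∈ LinearMap.ker L := by
      rw [← hk]
      exact Submodule.subset_span ⟨l, rfl⟩
    have h2 : L (k l) = 0 := h1
    rw [Fintype.linearCombination_apply] at h2
    exact h2
  have hkspan : ∀ c : ULift.{u} (Fin n) → (𝔛.Osh h).obj.obj (op W),
      ∑ i, c i * a i = 0 → c ∈ Submodule.span _ (Set.range k) := fun c hc => by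
    rw [hk]
    change L c = 0
    rw [Fintype.linearCombination_apply]
    exact hc
  -- lifts to the kernel
  have hs : ∀ l, ∃ s : (kernel φ).val.obj (op W), (kernel.ι φ).val.app (op W) s =
      ∑ i, k l i • basisSec (ModSite.ringSh (𝔛.Osh h)) (ULift.{u} (Fin n)) (op W) i := fun l => by
    apply exists_kernel_lift φ
    rw [hom_sum]
    refine Eq.trans (Finset.sum_congr rfl fun i _ => hom_smul φ (k l i) _) ?_
    exact hkK l
  choose s hs using hs
  refine ⟨W, hxW, r, s, ?_⟩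
  intro V hV t y hy
  -- a basic open neighbourhood inside `V`
  have hW0 : IsAffineOpen (𝔛.lvU h 0 W) := isAffineOpen_lvU 𝔛 h W hW 0
  have hyW0 : y ∈ 𝔛.lvU h 0 W := by
    rw [lvU_zero]
    exact hV hy
  obtain ⟨f, hfV, hyf⟩ := hW0.exists_basicOpen_le (V := V) ⟨y, hy⟩ hyW0
  obtain ⟨g, hg⟩ := πn_surjective_of_isAffineOpen 𝔛 h W hW 0 f
  have hbo : bo 𝔛 h W g = (𝔛.X 0).basicOpen f := by
    unfold bo
    rw [hg]
  have hDV : bo 𝔛 h W g ≤ V := hbo.le.trans hfV
  have hyD : y ∈ bo 𝔛 h W g := by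
    rw [hbo]
    exact hyf
  refine ⟨bo 𝔛 h W g, hDV, hyD, ?_⟩
  -- coordinates of `t` over the basic open
  let τ := (kernel.ι φ).val.app (op (bo 𝔛 h W g)) (res (kernel φ) hDV t)
  let c' : ULift.{u} (Fin n) → (𝔛.Osh h).obj.obj (op (bo 𝔛 h W g)) :=
    coords (op (bo 𝔛 h W g)) τ
  have hφτ : φ.val.app (op (bo 𝔛 h W g)) τ = 0 := kernel_ι_comp_apply φ _
  have hbas : ∀ i, φ.val.app (op (bo 𝔛 h W g))
      (basisSec (ModSite.ringSh (𝔛.Osh h)) (ULift.{u} (Fin n)) (op (bo 𝔛 h W g)) i) =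
      cres 𝔛 h (bo_le 𝔛 h W g) (a i) := fun i => by
    have h1 := basisSec_rs (R := ModSite.ringSh (𝔛.Osh h)) (I := ULift.{u} (Fin n))
      (homOfLE (bo_le 𝔛 h W g)) i
    rw [← h1]
    exact hom_rs φ (homOfLE (bo_le 𝔛 h W g)) _
  have hc' : ∑ i, c' i * cres 𝔛 h (bo_le 𝔛 h W g) (a i) = 0 := by
    have h1 := hom_eq_sum φ (op (bo 𝔛 h W g)) τ
    rw [hφτ] at h1
    refine Eq.trans (Finset.sum_congr rfl fun i _ => ?_) h1.symm
    rw [hbas i]
    rfl
  obtain ⟨e, he⟩ := exists_coeffs_of_flat (cres 𝔛 h (bo_le 𝔛 h W g))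
    (flat_cres_bo 𝔛 h W g hA hN hW) a k hkspan c' hc'
  refine ⟨e, ?_⟩
  apply mono_injective (kernel.ι φ) (bo 𝔛 h W g)
  -- compare coordinates
  have hτ := eq_sum_coords (op (bo 𝔛 h W g)) τ
  refine hτ.trans ?_
  rw [hom_sum]
  have h5 : ∀ l, (kernel.ι φ).val.app (op (bo 𝔛 h W g))
      (e l • res (kernel φ) (hDV.trans hV) (s l)) =
      ∑ i, (e l * cres 𝔛 h (bo_le 𝔛 h W g) (k l i)) •
        basisSec (ModSite.ringSh (𝔛.Osh h)) (ULift.{u} (Fin n)) (op (bo 𝔛 h W g)) i := fun l => by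
    have e1 := hom_smul (kernel.ι φ) (W := bo 𝔛 h W g) (e l)
      (res (kernel φ) (hDV.trans hV) (s l))
    have e2 := hom_res (kernel.ι φ) (hDV.trans hV) (s l)
    refine e1.trans ?_
    rw [e2, hs l, res_sum, Finset.smul_sum]
    refine Finset.sum_congr rfl fun i _ => ?_
    have e3 := res_smul (F := SheafOfModules.free (ULift.{u} (Fin n))) (hDV.trans hV) (k l i)
      (basisSec (ModSite.ringSh (𝔛.Osh h)) (ULift.{u} (Fin n)) (op W) i)
    have h6 : res (SheafOfModules.free (ULift.{u} (Fin n))) (hDV.trans hV)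
        (basisSec (ModSite.ringSh (𝔛.Osh h)) (ULift.{u} (Fin n)) (op W) i) =
        basisSec (ModSite.ringSh (𝔛.Osh h)) (ULift.{u} (Fin n)) (op (bo 𝔛 h W g)) i :=
      basisSec_rs (homOfLE (hDV.trans hV)) i
    rw [h6] at e3
    refine (congrArg (fun z => e l • z) e3).trans ?_
    exact smul_smul _ _ _
  refine Eq.trans ?_ (Finset.sum_congr rfl fun l _ => (h5 l).symm)
  rw [Finset.sum_comm]
  refine Finset.sum_congr rfl fun i _ => ?_
  rw [← Finset.sum_smul]
  congr 1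
  exact he i

end

end Groth.Agent.Lib.Helper1.FK
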