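import Mathlib
import Groth.Agent.Lib.Helper1.FK10
import Groth.Agent.Lib.Helper1.FSchAdic

/-!
# The system induced on an open of a locally Noetherian formal scheme (helper1)
-/

set_option autoImplicit false
universe u

open CategoryTheory Limits TopologicalSpace Opposite AlgebraicGeometry

namespace Groth.Agent.Lib.Helper1.FK

variable (𝔛 : FSch.Sys.{u}) (h : 𝔛.IsFormal) (U : (𝔛.X 0).Opens)

/-- the inclusion of the induced system on an open is adic -/
theorem isAdicHom_restrictOpenι : FSch.IsAdicHom (𝔛.restrictOpenι h U) := by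
  intro n
  change IsPullback ((𝔛.ι n).resLE (𝔛.lvU h (n + 1) U) (𝔛.lvU h n U) (𝔛.lvU_le h n U))
    (𝔛.lvU h n U).ι (𝔛.lvU h (n + 1) U).ι (𝔛.ι n)
  apply IsOpenImmersion.isPullback
  · exact (Scheme.Hom.resLE_comp_ι _ _).symm
  · rw [Scheme.Opens.opensRange_ι, Scheme.Opens.opensRange_ι]
    exact 𝔛.lvU_succ h n U

theorem restrictOpen_isAdic (hA : 𝔛.IsAdic) : (𝔛.restrictOpen h U).IsAdic :=
  Groth.Agent.Lib.Helper1.isAdic_of_isAdicHom (𝔛.restrictOpenι h U) (isAdicHom_restrictOpenι 𝔛 h U) h hA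

theorem restrictOpen_isLocallyNoetherian (hN : ∀ n, IsLocallyNoetherian (𝔛.X n)) (n : ℕ) :
    IsLocallyNoetherian ((𝔛.restrictOpen h U).X n) := by
  haveI := hN n
  change IsLocallyNoetherian (𝔛.lvU h n U).toScheme
  exact isLocallyNoetherian_of_isOpenImmersion (Scheme.Opens.ι (𝔛.lvU h n U))

end Groth.Agent.Lib.Helper1.FK
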