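import Mathlib
import Groth.Agent.Lib.Helper1.FK2
import Groth.Agent.Lib.Helper1.FK4
import Groth.Agent.Lib.Helper1.AffThick
import Groth.Agent.Lib.Helper21.AdicNoetherian

/-!
# Affine adic formal systems are formal spectra (helper1)
-/

set_option autoImplicit false
universe u

open CategoryTheory Limits TopologicalSpace Opposite AlgebraicGeometry
open Groth.Agent.Lib.Helper9.CplFlat

namespace Groth.Agent.Lib.Helper1.FK

noncomputable section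

/-- an isomorphism of systems from levelwise isomorphisms -/
def sysIsoOfLevelIso {𝔛 𝔜 : FSch.Sys.{u}} (e : ∀ n, 𝔛.X n ≅ 𝔜.X n)
    (comm : ∀ n, (e n).hom ≫ 𝔜.ι n = 𝔛.ι n ≫ (e (n + 1)).hom) : 𝔛 ≅ 𝔜 where
  hom := ⟨fun n => (e n).hom, comm⟩
  inv := ⟨fun n => (e n).inv, fun n => by
    rw [Iso.inv_comp_eq, ← Category.assoc, comm, Category.assoc, Iso.hom_inv_id, Category.comp_id]⟩
  hom_inv_id := FSch.Hom.ext (funext fun n => (e n).hom_inv_id)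
  inv_hom_id := FSch.Hom.ext (funext fun n => (e n).inv_hom_id)

variable (𝔛 : FSch.Sys.{u}) (hF : 𝔛.IsFormal) (hA : 𝔛.IsAdic) [IsAffine (𝔛.X 0)]

/-- the tower of global sections -/
abbrev gtower : Tower (fun m => (𝔛.levelObj hF m).obj.obj (op (⊤ : (𝔛.X 0).Opens)))
    ((𝔛.Osh hF).obj.obj (op (⊤ : (𝔛.X 0).Opens))) :=
  tower 𝔛 hF ⊤ hA (isAffineOpen_top (𝔛.X 0))

lemma gtower_π_surj (m : ℕ) : Function.Surjective ((gtower 𝔛 hF hA).π m) :=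
  πn_surjective_of_isAffineOpen 𝔛 hF ⊤ (isAffineOpen_top (𝔛.X 0)) m

include hF in
lemma isAffine_level (n : ℕ) : IsAffine (𝔛.X n) := by
  haveI := 𝔛.toX_isClosedImmersion hF n
  exact Groth.Agent.Lib.Helper1.AffThick.isAffine_of_thickening (𝔛.toX n) (𝔛.toX_surjective hF n)

variable [IsLocallyNoetherian (𝔛.X 0)] (hft : FSch.IdealFT (𝔛.ι 0).ker)

include hA hft in
lemma isNoetherianRing_level (n : ℕ) :
    IsNoetherianRing ((𝔛.levelObj hF n).obj.obj (op (⊤ : (𝔛.X 0).Opens))) := by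
  haveI := isLocallyNoetherian_level 𝔛 hF hA hft n
  exact IsLocallyNoetherian.component_noetherian
    (⟨𝔛.lvU hF n ⊤, isAffineOpen_lvU 𝔛 hF ⊤ (isAffineOpen_top (𝔛.X 0)) n⟩ : (𝔛.X n).affineOpens)

include hft in
lemma gtower_fg (n : ℕ) : (RingHom.ker ((gtower 𝔛 hF hA).T (Nat.le_succ n))).FG := by
  haveI := isNoetherianRing_level 𝔛 hF hA hft (n + 1)
  exact (isNoetherianRing_iff_ideal_fg _).1 ‹_› _

include hft in
lemma gtower_ker_π (n : ℕ) :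
    RingHom.ker ((gtower 𝔛 hF hA).π n) = (gtower 𝔛 hF hA).J ^ (n + 1) :=
  Tower.ker_π_eq _ (gtower_π_surj 𝔛 hF hA) (gtower_fg 𝔛 hF hA hft) n

include hft in
lemma gtower_complete : IsAdicComplete (gtower 𝔛 hF hA).J ((𝔛.Osh hF).obj.obj (op (⊤ : (𝔛.X 0).Opens))) :=
  Tower.isAdicComplete _ (gtower_ker_π 𝔛 hF hA hft)

include hA hft in
lemma gtower_noetherian : IsNoetherianRing ((𝔛.Osh hF).obj.obj (op (⊤ : (𝔛.X 0).Opens))) := by
  haveI := gtower_complete 𝔛 hF hA hft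
  haveI : IsNoetherianRing ((𝔛.Osh hF).obj.obj (op (⊤ : (𝔛.X 0).Opens)) ⧸ (gtower 𝔛 hF hA).J) := by
    haveI := isNoetherianRing_level 𝔛 hF hA hft 0
    exact isNoetherianRing_of_ringEquiv _
      (RingHom.quotientKerEquivOfSurjective (gtower_π_surj 𝔛 hF hA 0)).symm
  exact Groth.Agent.Lib.Helper21.isNoetherianRing_of_isAdicComplete (gtower 𝔛 hF hA).J
    (Tower.J_fg _ (gtower_π_surj 𝔛 hF hA) (gtower_fg 𝔛 hF hA hft 0))

/-- the ring isomorphism `A ⧸ J^(n+1) ≃+* Γ(X_n, ⊤)` -/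
def ρ (n : ℕ) : ((𝔛.Osh hF).obj.obj (op (⊤ : (𝔛.X 0).Opens)) ⧸ (gtower 𝔛 hF hA).J ^ (n + 1)) ≃+*
    Γ(𝔛.X n, ⊤) :=
  (Ideal.quotEquivOfEq (gtower_ker_π 𝔛 hF hA hft n).symm).trans
    (RingHom.quotientKerEquivOfSurjective (gtower_π_surj 𝔛 hF hA n))

lemma ρ_mk (n : ℕ) (x : (𝔛.Osh hF).obj.obj (op (⊤ : (𝔛.X 0).Opens))) :
    ρ 𝔛 hF hA hft n (Ideal.Quotient.mk _ x) = πn 𝔛 hF ⊤ n x := rfl

lemma appTop_ι (n : ℕ) (y : Γ(𝔛.X (n + 1), ⊤)) :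
    (𝔛.ι n).appTop.hom y = tn 𝔛 hF ⊤ n y := by
  rw [Scheme.Hom.appTop, Scheme.Hom.app_eq_appLE]
  rfl

/-- the levelwise morphism `X_n ⟶ Spec (A ⧸ J^(n+1))` -/
def levelHom (n : ℕ) : 𝔛.X n ⟶
    Spec (CommRingCat.of ((𝔛.Osh hF).obj.obj (op (⊤ : (𝔛.X 0).Opens)) ⧸ (gtower 𝔛 hF hA).J ^ (n + 1))) :=
  (𝔛.X n).toSpecΓ ≫ Spec.map (ρ 𝔛 hF hA hft n).toCommRingCatIso.hom

instance isIso_levelHom (n : ℕ) : IsIso (levelHom 𝔛 hF hA hft n) := by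
  haveI := isAffine_level 𝔛 hF n
  unfold levelHom
  infer_instance

lemma levelHom_comm (n : ℕ) :
    levelHom 𝔛 hF hA hft n ≫
        (FSch.spf ((𝔛.Osh hF).obj.obj (op (⊤ : (𝔛.X 0).Opens))) (gtower 𝔛 hF hA).J).ι n =
      𝔛.ι n ≫ levelHom 𝔛 hF hA hft (n + 1) := by
  unfold levelHom
  rw [← Category.assoc (𝔛.ι n), Scheme.toSpecΓ_naturality, Category.assoc, Category.assoc]
  congr 1
  change Spec.map _ ≫ Spec.map _ = _
  rw [← Spec.map_comp, ← Spec.map_comp]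
  congr 1
  apply CommRingCat.hom_ext
  apply Ideal.Quotient.ringHom_ext
  ext x
  change ρ 𝔛 hF hA hft n (Ideal.Quotient.mk _ x) =
    (𝔛.ι n).appTop.hom (ρ 𝔛 hF hA hft (n + 1) (Ideal.Quotient.mk _ x))
  rw [ρ_mk, ρ_mk, appTop_ι 𝔛 hF, tn_πn]

include hF hA hft in
/-- **An affine adic formal system is a formal spectrum.** -/
theorem exists_iso_spf :
    ∃ (A : Type u) (_ : CommRing A) (J : Ideal A),
      IsNoetherianRing A ∧ IsAdicComplete J A ∧ Nonempty (𝔛 ≅ FSch.spf A J) :=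
  ⟨(𝔛.Osh hF).obj.obj (op (⊤ : (𝔛.X 0).Opens)), inferInstance, (gtower 𝔛 hF hA).J,
    gtower_noetherian 𝔛 hF hA hft, gtower_complete 𝔛 hF hA hft,
    ⟨sysIsoOfLevelIso (fun n => @asIso _ _ _ _ (levelHom 𝔛 hF hA hft n) (isIso_levelHom 𝔛 hF hA hft n))
      (levelHom_comm 𝔛 hF hA hft)⟩⟩

end

end Groth.Agent.Lib.Helper1.FK
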