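import Mathlib
import Groth.Agent.S1377

/-!
# Morphisms factoring Zariski-locally through a cover; local-to-global for integral covers (helper1)
-/

set_option autoImplicit false

universe u

namespace Groth.Agent.Lib.Helper1.FL

open AlgebraicGeometry CategoryTheory Limits

/-- `p : P ⟶ S` factors through `g : U ⟶ S` Zariski-locally on `P`. -/
def FactorsLocally {P U S : Scheme.{u}} (p : P ⟶ S) (g : U ⟶ S) : Prop :=
  ∀ y : P, ∃ (W : P.Opens) (h : (W : Scheme.{u}) ⟶ U), y ∈ W ∧ h ≫ g = W.ι ≫ p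

lemma FactorsLocally.precomp {P P' U S : Scheme.{u}} {p : P ⟶ S} {g : U ⟶ S}
    (hp : FactorsLocally p g) (q : P' ⟶ P) : FactorsLocally (q ≫ p) g := by
  intro y
  obtain ⟨W, h, hy, hh⟩ := hp (q y)
  refine ⟨q ⁻¹ᵁ W, (q ∣_ W) ≫ h, hy, ?_⟩
  rw [Category.assoc, hh, ← Category.assoc, morphismRestrict_ι, Category.assoc]

lemma FactorsLocally.of_eq {P U S : Scheme.{u}} {p p' : P ⟶ S} {g : U ⟶ S}
    (hp : FactorsLocally p g) (h : p = p') : FactorsLocally p' g := h ▸ hp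

lemma factorsLocally_of_forall_opens {P U S : Scheme.{u}} (p : P ⟶ S) (g : U ⟶ S)
    (h : ∀ y : P, ∃ V : P.Opens, y ∈ V ∧ FactorsLocally (V.ι ≫ p) g) : FactorsLocally p g := by
  intro y
  obtain ⟨V, hyV, hV⟩ := h y
  obtain ⟨W, k, hyW, hk⟩ := hV ⟨y, hyV⟩
  refine ⟨V.ι ''ᵁ W, (V.ι.isoImage W).inv ≫ k, ⟨⟨y, hyV⟩, hyW, rfl⟩, ?_⟩
  rw [Category.assoc, hk, ← Scheme.Hom.isoImage_inv_ι V.ι W, Category.assoc, Category.assoc]

/-- A compact open neighbourhood on which the factorization exists. -/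
lemma FactorsLocally.exists_isCompact {P U S : Scheme.{u}} {p : P ⟶ S} {g : U ⟶ S}
    (hp : FactorsLocally p g) (y : P) :
    ∃ (W : P.Opens) (h : (W : Scheme.{u}) ⟶ U), y ∈ W ∧ IsCompact (W : Set P) ∧
      h ≫ g = W.ι ≫ p := by
  obtain ⟨W₀, h₀, hy, hh⟩ := hp y
  obtain ⟨_, ⟨W, hW, rfl⟩, hyW, hWW₀⟩ :=
    P.isBasis_affineOpens.exists_subset_of_mem_open hy W₀.2
  have hle : W ≤ W₀ := hWW₀
  refine ⟨W, P.homOfLE hle ≫ h₀, hyW, hW.isCompact, ?_⟩
  rw [Category.assoc, hh, ← Category.assoc, Scheme.homOfLE_ι]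

/-- `p` factors through `g` on a neighbourhood of `y`. -/
def FactorsAt {P U S : Scheme.{u}} (p : P ⟶ S) (g : U ⟶ S) (y : P) : Prop :=
  ∃ (W : P.Opens) (h : (W : Scheme.{u}) ⟶ U), y ∈ W ∧ h ≫ g = W.ι ≫ p

lemma factorsLocally_iff {P U S : Scheme.{u}} (p : P ⟶ S) (g : U ⟶ S) :
    FactorsLocally p g ↔ ∀ y, FactorsAt p g y := Iff.rfl

lemma FactorsAt.precomp {P P' U S : Scheme.{u}} {p : P ⟶ S} {g : U ⟶ S} (q : P' ⟶ P) {y : P'}
    (hp : FactorsAt p g (q y)) : FactorsAt (q ≫ p) g y := by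
  obtain ⟨W, h, hy, hh⟩ := hp
  refine ⟨q ⁻¹ᵁ W, (q ∣_ W) ≫ h, hy, ?_⟩
  rw [Category.assoc, hh, ← Category.assoc, morphismRestrict_ι, Category.assoc]

lemma FactorsAt.of_eq {P U S : Scheme.{u}} {p p' : P ⟶ S} {g : U ⟶ S} {y : P}
    (hp : FactorsAt p g y) (h : p = p') : FactorsAt p' g y := h ▸ hp

lemma isOpen_setOf_factorsAt {P U S : Scheme.{u}} (p : P ⟶ S) (g : U ⟶ S) :
    IsOpen {y : P | FactorsAt p g y} := by
  rw [isOpen_iff_forall_mem_open]
  rintro y ⟨W, h, hy, hh⟩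
  exact ⟨W, fun z hz => ⟨W, h, hz, hh⟩, W.2, hy⟩

/-- An affine open neighbourhood on which the factorization exists. -/
lemma FactorsAt.exists_isAffineOpen {P U S : Scheme.{u}} {p : P ⟶ S} {g : U ⟶ S} {y : P}
    (hp : FactorsAt p g y) :
    ∃ (W : P.Opens) (h : (W : Scheme.{u}) ⟶ U), y ∈ W ∧ IsAffineOpen W ∧ h ≫ g = W.ι ≫ p := by
  obtain ⟨W₀, h₀, hy, hh⟩ := hp
  obtain ⟨_, ⟨W, hW, rfl⟩, hyW, hWW₀⟩ :=
    P.isBasis_affineOpens.exists_subset_of_mem_open hy W₀.2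
  have hle : W ≤ W₀ := hWW₀
  refine ⟨W, P.homOfLE hle ≫ h₀, hyW, hW, ?_⟩
  rw [Category.assoc, hh, ← Category.assoc, Scheme.homOfLE_ι]

/-- Shrinking: an integral surjective cover of an open neighbourhood `V` of `x` which factors
locally through `g` near the fibre over `x` does so over a smaller affine neighbourhood. -/
lemma exists_shrink {X U S : Scheme.{u}} (τ : X ⟶ S) (g : U ⟶ S) (x : X) (V : X.Opens)
    (hxV : x ∈ V) {T : Scheme.{u}} (π : T ⟶ (V : Scheme.{u})) [IsIntegralHom π] [Surjective π]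
    (hgood : ∀ t : T, V.ι (π t) = x → FactorsAt (π ≫ V.ι ≫ τ) g t) :
    ∃ (V' : X.Opens) (T' : Scheme.{u}) (π' : T' ⟶ (V' : Scheme.{u})), x ∈ V' ∧ IsAffineOpen V' ∧
      IsIntegralHom π' ∧ Surjective π' ∧ FactorsLocally (π' ≫ V'.ι ≫ τ) g := by
  let G : Set T := {t | FactorsAt (π ≫ V.ι ≫ τ) g t}
  have hG : IsOpen G := isOpen_setOf_factorsAt _ _
  have hC : IsClosed (π '' Gᶜ) := π.isClosedMap _ hG.isClosed_compl
  let O₀ : (V : Scheme.{u}).Opens := ⟨(π '' Gᶜ)ᶜ, hC.isOpen_compl⟩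
  let O : X.Opens := V.ι ''ᵁ O₀
  have hxO : x ∈ O := by
    refine ⟨⟨x, hxV⟩, ?_, rfl⟩
    rintro ⟨t, ht, htx⟩
    apply ht
    apply hgood t
    rw [htx]
    rfl
  have hOV : O ≤ V := V.ι_image_le O₀
  have hex : ∃ V' : X.Opens, IsAffineOpen V' ∧ x ∈ V' ∧ V' ≤ O := by
    obtain ⟨_, ⟨V', hV', rfl⟩, hxV', hV'O⟩ :=
      X.isBasis_affineOpens.exists_subset_of_mem_open hxO O.2
    exact ⟨V', hV', hxV', hV'O⟩
  obtain ⟨V', hV', hxV', hV'O⟩ := hex
  have hV'V : V' ≤ V := fun z hz => hOV (hV'O hz)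
  refine ⟨V', pullback π (X.homOfLE hV'V), pullback.snd π (X.homOfLE hV'V), hxV', hV',
    inferInstance, MorphismProperty.pullback_snd (P := @Surjective) _ _ inferInstance, ?_⟩
  intro y
  have hcond : pullback.fst π (X.homOfLE hV'V) ≫ π ≫ V.ι ≫ τ =
      pullback.snd π (X.homOfLE hV'V) ≫ V'.ι ≫ τ := by
    rw [← Category.assoc, pullback.condition, Category.assoc, ← Category.assoc (X.homOfLE hV'V),
      Scheme.homOfLE_ι]
  refine (FactorsAt.precomp (pullback.fst π (X.homOfLE hV'V)) ?_).of_eq hcond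
  change pullback.fst π (X.homOfLE hV'V) y ∈ G
  by_contra hnot
  have h1 : π (pullback.fst π (X.homOfLE hV'V) y) ∈ π '' Gᶜ := ⟨_, hnot, rfl⟩
  have h2 : V.ι (π (pullback.fst π (X.homOfLE hV'V) y)) ∈ O := by
    have h3 : V.ι (π (pullback.fst π (X.homOfLE hV'V) y)) =
        V'.ι (pullback.snd π (X.homOfLE hV'V) y) := by
      rw [← Scheme.Hom.comp_apply, ← Scheme.Hom.comp_apply, ← Scheme.Hom.comp_apply,
        ← Category.assoc, pullback.condition, Category.assoc, Scheme.homOfLE_ι]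
    rw [h3]
    exact hV'O (pullback.snd π (X.homOfLE hV'V) y).2
  obtain ⟨z, hz, hzeq⟩ := h2
  have hzz : z = π (pullback.fst π (X.homOfLE hV'V) y) := V.ι.injective hzeq
  exact hz (hzz ▸ h1)

/-- A common integral surjective cover dominating finitely many. -/
lemma exists_common_cover {X : Scheme.{u}} {ι : Type*} [Finite ι] (P : ι → Scheme.{u})
    (ρ : ∀ i, P i ⟶ X) (hint : ∀ i, IsIntegralHom (ρ i)) (hsurj : ∀ i, Surjective (ρ i)) :
    ∃ (Q : Scheme.{u}) (q : Q ⟶ X) (pr : ∀ i, Q ⟶ P i), IsIntegralHom q ∧ Surjective q ∧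
      ∀ i, pr i ≫ ρ i = q := by
  classical
  haveI := Fintype.ofFinite ι
  suffices H : ∀ s : Finset ι, ∃ (Q : Scheme.{u}) (q : Q ⟶ X) (pr : ∀ i, i ∈ s → (Q ⟶ P i)),
      IsIntegralHom q ∧ Surjective q ∧ ∀ i (hi : i ∈ s), pr i hi ≫ ρ i = q by
    obtain ⟨Q, q, pr, h1, h2, h3⟩ := H Finset.univ
    exact ⟨Q, q, fun i => pr i (Finset.mem_univ i), h1, h2, fun i => h3 i _⟩
  intro s
  induction s using Finset.induction_on with
  | empty =>
    exact ⟨X, 𝟙 X, fun i hi => absurd hi (Finset.notMem_empty i), inferInstance, inferInstance,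
      fun i hi => absurd hi (Finset.notMem_empty i)⟩
  | insert a s ha ih =>
    obtain ⟨Q, q, pr, h1, h2, h3⟩ := ih
    haveI := h1
    haveI := h2
    haveI := hint a
    haveI := hsurj a
    refine ⟨pullback q (ρ a), pullback.fst q (ρ a) ≫ q,
      fun i hi => if h : i = a then h ▸ pullback.snd q (ρ a)
        else pullback.fst q (ρ a) ≫ pr i ((Finset.mem_insert.mp hi).resolve_left h),
      inferInstance, inferInstance, ?_⟩
    intro i hi
    by_cases h : i = a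
    · subst h
      simp only [dif_pos rfl]
      exact pullback.condition.symm
    · simp only [dif_neg h]
      rw [Category.assoc, h3]

/-- Local-to-global: integral surjective covers over the members of an open cover of a qcqs scheme,
each factoring Zariski-locally through `g`, are dominated by a global integral surjective cover
with the same property. -/
theorem exists_integral_cover_of_local {X U S : Scheme.{u}} [CompactSpace X]
    [QuasiSeparatedSpace X] (τ : X ⟶ S) (g : U ⟶ S)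
    (hloc : ∀ x : X, ∃ (V : X.Opens) (T : Scheme.{u}) (π : T ⟶ (V : Scheme.{u})), x ∈ V ∧
      IsAffineOpen V ∧ IsIntegralHom π ∧ Surjective π ∧ FactorsLocally (π ≫ V.ι ≫ τ) g) :
    ∃ (P : Scheme.{u}) (p : P ⟶ X), IsIntegralHom p ∧ Surjective p ∧
      FactorsLocally (p ≫ τ) g := by
  classical
  choose V T π hxV hVaff hπint hπsurj hfac using hloc
  obtain ⟨t, ht⟩ := isCompact_univ.elim_finite_subcover (fun x => (V x : Set X))
    (fun x => (V x).2) (fun x _ => Set.mem_iUnion.mpr ⟨x, hxV x⟩)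
  have hext : ∀ i : {x // x ∈ t}, ∃ (P : Scheme.{u}) (ρ : P ⟶ X) (j : T i.1 ⟶ P), Surjective ρ ∧
      IsIntegralHom ρ ∧ IsPullback j (π i.1) ρ (V i.1).ι := by
    intro i
    haveI : IsAffine (V i.1) := hVaff i.1
    haveI := hπint i.1
    haveI := hπsurj i.1
    exact Groth.Agent.S1377.result (V i.1) (π i.1)
  choose P ρ j hρsurj hρint hpb using hext
  obtain ⟨Q, q, pr, hqint, hqsurj, hpr⟩ := exists_common_cover P ρ hρint hρsurj
  refine ⟨Q, q, hqint, hqsurj, ?_⟩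
  apply factorsLocally_of_forall_opens
  intro y
  have hy : q y ∈ ⋃ x ∈ t, (V x : Set X) := ht (Set.mem_univ _)
  simp only [Set.mem_iUnion] at hy
  obtain ⟨x, hxt, hyx⟩ := hy
  let i : {x // x ∈ t} := ⟨x, hxt⟩
  refine ⟨q ⁻¹ᵁ (V x), hyx, ?_⟩
  have hw : ((q ⁻¹ᵁ (V x)).ι ≫ pr i) ≫ ρ i = (q ∣_ (V x)) ≫ (V x).ι := by
    rw [Category.assoc, hpr, morphismRestrict_ι]
  let ℓ : ((q ⁻¹ᵁ (V x) : Q.Opens) : Scheme.{u}) ⟶ T x := (hpb i).lift _ _ hw
  have hℓ : ℓ ≫ π x = q ∣_ (V x) := (hpb i).lift_snd _ _ hw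
  have heq : ℓ ≫ (π x ≫ (V x).ι ≫ τ) = (q ⁻¹ᵁ (V x)).ι ≫ q ≫ τ := by
    rw [← Category.assoc, hℓ, ← Category.assoc, morphismRestrict_ι, Category.assoc]
  exact ((hfac x).precomp ℓ).of_eq heq

end Groth.Agent.Lib.Helper1.FL
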