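import Groth.Agent.Lib.Helper1.IntLim2
import Groth.Agent.Lib.Helper1.AbsSeg

/-!
# Integral morphisms as limits of finite morphisms of finite presentation, III (helper1)
-/

set_option autoImplicit false
set_option linter.unusedSectionVars false
set_option linter.style.haveILetI false
universe u

namespace Groth.Agent.Lib.Helper1.IntLim

open AlgebraicGeometry CategoryTheory CategoryTheory.Limits TopologicalSpace Opposite
open Groth.Agent.Lib.Helper1.NA Groth.Agent.Lib.Helper1.Abs

set_option maxHeartbeats 1600000 in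
/-- An integral morphism over a qcqs base is a directed limit of finite morphisms of finite
presentation. -/
theorem integral_isLimit_finite_fp {X S : Scheme.{u}} (f : X ⟶ S) [IsIntegralHom f]
    [CompactSpace S] [QuasiSeparatedSpace S] :
    ∃ (I : Type u) (_ : Preorder I) (_ : IsDirected I (fun a b => a ≤ b)) (_ : Nonempty I)
      (D : Iᵒᵖ ⥤ Over S) (c : Limits.Cone D) (_ : Limits.IsLimit c),
      (∀ i, IsFinite (D.obj i).hom ∧ LocallyOfFinitePresentation (D.obj i).hom) ∧
      Nonempty (c.pt ≅ Over.mk f) := by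
  haveI hX : CompactSpace X := QuasiCompact.compactSpace_of_compactSpace f
  haveI hXq : QuasiSeparatedSpace X := quasiSeparatedSpace_of_quasiSeparated f
  obtain ⟨I, _, _, hne, D, s, c, hc, e, hcomm, hfp, haff, hπ, hcomp⟩ := exists_fp_limit' f
  have hp : IsAffineHom (e.hom ≫ f) := inferInstance
  obtain ⟨i₁, hi₁⟩ := exists_isAffineHom_strMap D s c hc (e.hom ≫ f) hcomm haff
    (fun i => (hfp i).2.1) (fun i => (hfp i).2.2)
  let D' : (Seg i₁)ᵒᵖ ⥤ Scheme.{u} := (segIncl i₁).op ⋙ D
  let s' : D' ⟶ (Functor.const (Seg i₁)ᵒᵖ).obj S :=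
    { app := fun k => strMap D s ((segIncl i₁).op.obj k)
      naturality := fun k l a => by
        change D.map ((segIncl i₁).op.map a) ≫ strMap D s _ = strMap D s _ ≫ 𝟙 S
        rw [map_strMap, Category.comp_id] }
  let c' : Cone D' := c.whisker (segIncl i₁).op
  have hc' : IsLimit c' := isLimitSeg i₁ c hc
  let p : c'.pt ⟶ S := e.hom ≫ f
  have hp' : ∀ k, coneLeg D' c' k ≫ strMap D' s' k = p := fun k => hcomm _
  have haffσ : ∀ k, IsAffineHom (strMap D' s' k) := fun k => hi₁ k.unop.1 k.unop.2
  have hlftσ : ∀ k, LocallyOfFiniteType (strMap D' s' k) := fun k => by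
    have := (hfp ((segIncl i₁).op.obj k)).1
    change LocallyOfFiniteType (s.app ((segIncl i₁).op.obj k))
    infer_instance
  have hint : IsIntegralHom p := by
    change IsIntegralHom (e.hom ≫ f); infer_instance
  haveI : CompactSpace c'.pt := QuasiCompact.compactSpace_of_compactSpace p
  refine ⟨Idx D' s' c', inferInstance, isDirected_idx D' s' c' p hp' haffσ hlftσ hint,
    nonempty_idx D' s' c' p hp' haffσ hlftσ hint, idxD D' s' c', idxCone D' s' c' p hp',
    isLimitIdxCone D' s' c' hc' p hp' haffσ hlftσ hint, fun P => ⟨P.unop.finite, ?_⟩, ?_⟩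
  · have h1 := P.unop.fp
    have h2 : LocallyOfFinitePresentation (strMap D' s' (op P.unop.i)) :=
      (hfp ((segIncl i₁).op.obj (op P.unop.i))).1
    change LocallyOfFinitePresentation (P.unop.J.subschemeι ≫ strMap D' s' (op P.unop.i))
    infer_instance
  · exact ⟨Over.isoMk (f := Over.mk p) (g := Over.mk f) e rfl⟩

end Groth.Agent.Lib.Helper1.IntLim
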