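import Mathlib
import Groth.Agent.Lib.Helper1.FL1
import Groth.Agent.Lib.Helper1.IntLim3

/-!
# Descending a local factorization from an integral cover to a finite finitely presented one
(helper1)
-/

set_option autoImplicit false

universe u

namespace Groth.Agent.Lib.Helper1.FL

open AlgebraicGeometry CategoryTheory Limits Opposite

/-- A local factorization through a morphism locally of finite presentation, on a limit of a
cofiltered system of qcqs schemes with affine transition maps, descends to a finite stage,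
locally. -/
lemma exists_stage_factorization {I : Type u} [SmallCategory I] [IsCofiltered I] {X U S : Scheme.{u}}
    (D : I ⥤ Scheme.{u}) (t : D ⟶ (Functor.const I).obj X) (c : Cone D) (hc : IsLimit c)
    [∀ {i j} (f : i ⟶ j), IsAffineHom (D.map f)] [∀ i, CompactSpace (D.obj i)]
    [∀ i, QuasiSeparatedSpace (D.obj i)] (τ : X ⟶ S) (g : U ⟶ S) [LocallyOfFinitePresentation g]
    (pc : c.pt ⟶ X) (hpc : ∀ i, c.π.app i ≫ t.app i = pc)
    (hfac : FactorsLocally (pc ≫ τ) g) (y : c.pt) :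
    ∃ (i : I) (V : (D.obj i).Opens) (h' : (V : Scheme.{u}) ⟶ U), c.π.app i y ∈ V ∧
      h' ≫ g = V.ι ≫ t.app i ≫ τ := by
  obtain ⟨W, h, hyW, hWc, hh⟩ := hfac.exists_isCompact y
  obtain ⟨i, V, hVc, rfl⟩ := exists_preimage_eq D c hc W hWc
  let Dv : Over i ⥤ Scheme.{u} := opensDiagram D i V
  let cv : Cone Dv := opensCone D c i V
  have hcv : IsLimit cv := isLimitOpensCone D c hc i V
  let tv : Dv ⟶ (Functor.const (Over i)).obj S :=
    { app := fun j => (D.map j.hom ⁻¹ᵁ V).ι ≫ t.app j.left ≫ τ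
      naturality := fun j k a => by
        change (D.map a.left).resLE _ _ _ ≫ (D.map k.hom ⁻¹ᵁ V).ι ≫ t.app k.left ≫ τ =
          ((D.map j.hom ⁻¹ᵁ V).ι ≫ t.app j.left ≫ τ) ≫ 𝟙 S
        rw [Category.comp_id, Scheme.Hom.resLE_comp_ι_assoc]
        congr 1
        have := t.naturality a.left
        simp only [Functor.const_obj_obj, Functor.const_obj_map, Category.comp_id] at this
        rw [← Category.assoc, this] }
  haveI : ∀ j, CompactSpace (Dv.obj j) := by
    intro j
    change CompactSpace ↥(D.map j.hom ⁻¹ᵁ V)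
    exact isCompact_iff_compactSpace.mp ((D.map j.hom).isCompact_preimage hVc)
  haveI : ∀ j, QuasiSeparatedSpace (Dv.obj j) := by
    intro j
    change QuasiSeparatedSpace ↥(D.map j.hom ⁻¹ᵁ V)
    exact quasiSeparatedSpace_of_quasiSeparated (D.map j.hom ⁻¹ᵁ V).ι
  have ha : cv.π ≫ tv = (Functor.const _).map (h ≫ g) := by
    ext j
    change (c.π.app j.left).resLE _ _ _ ≫ (D.map j.hom ⁻¹ᵁ V).ι ≫ t.app j.left ≫ τ = h ≫ g
    rw [Scheme.Hom.resLE_comp_ι_assoc, hh, ← Category.assoc (c.π.app j.left), hpc]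
  obtain ⟨j, g', hg'1, hg'2⟩ :=
    Scheme.exists_π_app_comp_eq_of_locallyOfFinitePresentation Dv tv g cv hcv h ha
  refine ⟨j.left, D.map j.hom ⁻¹ᵁ V, g', ?_, hg'2⟩
  change (c.π.app j.left ≫ D.map j.hom) y ∈ V
  rw [c.w]
  exact hyW

/-- An integral surjective cover of a qcqs scheme factoring Zariski-locally through a morphism
locally of finite presentation is dominated by... a finite, finitely presented surjective cover
with the same property. -/
theorem exists_finite_fp_cover {X U S P : Scheme.{u}} [CompactSpace X] [QuasiSeparatedSpace X]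
    (τ : X ⟶ S) (g : U ⟶ S) [LocallyOfFinitePresentation g] (p : P ⟶ X) [IsIntegralHom p]
    [Surjective p] (hp : FactorsLocally (p ≫ τ) g) :
    ∃ (P' : Scheme.{u}) (p' : P' ⟶ X), IsFinite p' ∧ LocallyOfFinitePresentation p' ∧
      Surjective p' ∧ FactorsLocally (p' ≫ τ) g := by
  classical
  obtain ⟨I, _, _, _, D, c, hc, hD, ⟨e⟩⟩ := IntLim.integral_isLimit_finite_fp p
  haveI : IsCofiltered Iᵒᵖ := inferInstance
  haveI : IsConnected Iᵒᵖ := IsCofiltered.isConnected Iᵒᵖ
  let D' : Iᵒᵖ ⥤ Scheme.{u} := D ⋙ Over.forget X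
  let c' : Cone D' := (Over.forget X).mapCone c
  have hc' : IsLimit c' := isLimitOfPreserves (Over.forget X) hc
  let t : D' ⟶ (Functor.const Iᵒᵖ).obj X :=
    { app := fun i => (D.obj i).hom
      naturality := fun i i' a => by
        change (D.map a).left ≫ (D.obj i').hom = (D.obj i).hom ≫ 𝟙 X
        refine Eq.trans ?_ (Category.comp_id _).symm
        exact Over.w (D.map a) }
  have htnat : ∀ {i i' : Iᵒᵖ} (a : i ⟶ i'), D'.map a ≫ t.app i' = t.app i := fun a =>
    Over.w (D.map a)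
  haveI hfin : ∀ i, IsFinite (D.obj i).hom := fun i => (hD i).1
  haveI hlfp : ∀ i, LocallyOfFinitePresentation (D.obj i).hom := fun i => (hD i).2
  haveI : ∀ {i i' : Iᵒᵖ} (a : i ⟶ i'), IsAffineHom (D'.map a) := by
    intro i i' a
    have hw : (D.map a).left ≫ (D.obj i').hom = (D.obj i).hom := Over.w (D.map a)
    haveI : IsAffineHom ((D.map a).left ≫ (D.obj i').hom) := by rw [hw]; infer_instance
    exact IsAffineHom.of_comp (D.map a).left (D.obj i').hom
  haveI : ∀ i, CompactSpace (D'.obj i) := fun i =>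
    (QuasiCompact.compactSpace_of_compactSpace (D.obj i).hom : CompactSpace ↥(D.obj i).left)
  haveI : ∀ i, QuasiSeparatedSpace (D'.obj i) := fun i =>
    (quasiSeparatedSpace_of_quasiSeparated (D.obj i).hom : QuasiSeparatedSpace ↥(D.obj i).left)
  let pc : c'.pt ⟶ X := c.pt.hom
  have hpc : ∀ i, c'.π.app i ≫ t.app i = pc := fun i => Over.w (c.π.app i)
  let eL : c'.pt ⟶ P := e.hom.left
  have hew : eL ≫ p = pc := Over.w e.hom
  have hew2 : eL ≫ p ≫ τ = pc ≫ τ := by
    rw [← Category.assoc]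
    exact congrArg (· ≫ τ) hew
  have hfac : FactorsLocally (pc ≫ τ) g := (hp.precomp eL).of_eq hew2
  haveI : IsIso eL := (inferInstance : IsIso ((Over.forget X).map e.hom))
  haveI : Surjective pc := by
    have h3 : Surjective (eL ≫ p) := inferInstance
    rwa [hew] at h3
  choose i V h' hyV hh' using
    fun y => exists_stage_factorization D' t c' hc' τ g pc hpc hfac y
  haveI : CompactSpace c'.pt := Scheme.compactSpace_of_isLimit D' c' hc'
  obtain ⟨s, hs⟩ := isCompact_univ.elim_finite_subcover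
    (fun y => ((c'.π.app (i y) ⁻¹ᵁ V y : c'.pt.Opens) : Set c'.pt))
    (fun y => (c'.π.app (i y) ⁻¹ᵁ V y).2) (fun y _ => Set.mem_iUnion.mpr ⟨y, hyV y⟩)
  obtain ⟨i₀, hi₀⟩ := IsCofiltered.inf_objs_exists (s.image i)
  have a : ∀ y, y ∈ s → (i₀ ⟶ i y) := fun y hy => (hi₀ (Finset.mem_image_of_mem i hy)).some
  let Vs : (D'.obj i₀).Opens := ⨆ y : s, D'.map (a y.1 y.2) ⁻¹ᵁ V y.1
  have hVs : c'.π.app i₀ ⁻¹ᵁ Vs = ⊤ := by
    rw [eq_top_iff]
    intro z _
    have hz : z ∈ ⋃ y ∈ s, ((c'.π.app (i y) ⁻¹ᵁ V y : c'.pt.Opens) : Set c'.pt) :=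
      hs (Set.mem_univ z)
    simp only [Set.mem_iUnion] at hz
    obtain ⟨y, hys, hzy⟩ := hz
    change c'.π.app i₀ z ∈ Vs
    refine TopologicalSpace.Opens.mem_iSup.mpr ⟨⟨y, hys⟩, ?_⟩
    change (c'.π.app i₀ ≫ D'.map (a y hys)) z ∈ V y
    rw [c'.w]
    exact hzy
  obtain ⟨j, b, hj⟩ := exists_map_eq_top D' c' hc' Vs hVs
  refine ⟨D'.obj j, t.app j, hfin j, hlfp j, ?_, ?_⟩
  · haveI : Surjective (c'.π.app j ≫ t.app j) := by
      rw [hpc]
      infer_instance
    exact Surjective.of_comp (c'.π.app j) (t.app j)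
  · intro z
    have hz : z ∈ D'.map b ⁻¹ᵁ Vs := by
      rw [hj]
      trivial
    obtain ⟨⟨y, hys⟩, hzy⟩ := TopologicalSpace.Opens.mem_iSup.mp hz
    let q : D'.obj j ⟶ D'.obj (i y) := D'.map b ≫ D'.map (a y hys)
    refine ⟨q ⁻¹ᵁ V y, (q ∣_ V y) ≫ h' y, hzy, ?_⟩
    rw [Category.assoc, hh' y, ← Category.assoc, morphismRestrict_ι, Category.assoc]
    congr 1
    rw [← Category.assoc]
    congr 1
    change (D'.map b ≫ D'.map (a y hys)) ≫ t.app (i y) = t.app j
    rw [Category.assoc, htnat, htnat]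

end Groth.Agent.Lib.Helper1.FL
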