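import Mathlib

/-!
# Ferrand pushouts (helper1), part 1: the fibre product of rings

`FibProd φ ψ = A ×_C B` for `φ : A →+* C`, `ψ : B →+* C`.
-/

set_option autoImplicit false
set_option linter.unusedSectionVars false
set_option linter.unusedVariables false
universe u

namespace Groth.Agent.Lib.Helper1.FP

variable {A B C : Type u} [CommRing A] [CommRing B] [CommRing C]

/-- The fibre product `A ×_C B` as a subring of `A × B`. -/
abbrev FibProd (φ : A →+* C) (ψ : B →+* C) : Subring (A × B) :=
  RingHom.eqLocus (φ.comp (RingHom.fst A B)) (ψ.comp (RingHom.snd A B))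

namespace FibProd

variable (φ : A →+* C) (ψ : B →+* C)

/-- first projection -/
def fst : FibProd φ ψ →+* A := (RingHom.fst A B).comp (Subring.subtype _)

/-- second projection -/
def snd : FibProd φ ψ →+* B := (RingHom.snd A B).comp (Subring.subtype _)

variable {φ ψ}

lemma condition_apply (x : FibProd φ ψ) : φ (fst φ ψ x) = ψ (snd φ ψ x) := x.2

lemma condition : φ.comp (fst φ ψ) = ψ.comp (snd φ ψ) := RingHom.ext condition_apply

/-- constructor -/
def mk (a : A) (b : B) (h : φ a = ψ b) : FibProd φ ψ := ⟨(a, b), h⟩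

@[simp] lemma fst_mk (a : A) (b : B) (h : φ a = ψ b) : fst φ ψ (mk a b h) = a := rfl
@[simp] lemma snd_mk (a : A) (b : B) (h : φ a = ψ b) : snd φ ψ (mk a b h) = b := rfl

lemma ext' {x y : FibProd φ ψ} (h1 : fst φ ψ x = fst φ ψ y) (h2 : snd φ ψ x = snd φ ψ y) :
    x = y := Subtype.ext (Prod.ext h1 h2)

/-- universal property -/
def lift {D : Type u} [CommRing D] (f : D →+* A) (g : D →+* B) (h : φ.comp f = ψ.comp g) :
    D →+* FibProd φ ψ :=
  (f.prod g).codRestrict _ (fun d => congr($h d))

@[simp] lemma fst_lift {D : Type u} [CommRing D] (f : D →+* A) (g : D →+* B)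
    (h : φ.comp f = ψ.comp g) (d : D) : fst φ ψ (lift f g h d) = f d := rfl
@[simp] lemma snd_lift {D : Type u} [CommRing D] (f : D →+* A) (g : D →+* B)
    (h : φ.comp f = ψ.comp g) (d : D) : snd φ ψ (lift f g h d) = g d := rfl

lemma fst_comp_lift {D : Type u} [CommRing D] (f : D →+* A) (g : D →+* B)
    (h : φ.comp f = ψ.comp g) : (fst φ ψ).comp (lift f g h) = f := rfl
lemma snd_comp_lift {D : Type u} [CommRing D] (f : D →+* A) (g : D →+* B)
    (h : φ.comp f = ψ.comp g) : (snd φ ψ).comp (lift f g h) = g := rfl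

lemma hom_ext {D : Type u} [CommRing D] {f g : D →+* FibProd φ ψ}
    (h1 : (fst φ ψ).comp f = (fst φ ψ).comp g) (h2 : (snd φ ψ).comp f = (snd φ ψ).comp g) :
    f = g := RingHom.ext fun d => ext' congr($h1 d) congr($h2 d)

lemma snd_surjective (hφ : Function.Surjective φ) : Function.Surjective (snd φ ψ) := by
  intro b
  obtain ⟨a, ha⟩ := hφ (ψ b)
  exact ⟨mk a b ha, rfl⟩

lemma fst_surjective (hψ : Function.Surjective ψ) : Function.Surjective (fst φ ψ) := by
  intro a
  obtain ⟨b, hb⟩ := hψ (φ a)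
  exact ⟨mk a b hb.symm, rfl⟩

/-- Joint surjectivity on spectra. -/
theorem exists_comap_eq (hφ : Function.Surjective φ) (q : Ideal (FibProd φ ψ)) [hq : q.IsPrime] :
    (∃ p : Ideal A, p.IsPrime ∧ p.comap (fst φ ψ) = q) ∨
      (∃ p : Ideal B, p.IsPrime ∧ p.comap (snd φ ψ) = q) := by
  by_cases hK : RingHom.ker (snd φ ψ) ≤ q
  · right
    have hsnd : Function.Surjective (snd φ ψ) := snd_surjective hφ
    refine ⟨q.map (snd φ ψ), Ideal.map_isPrime_of_surjective hsnd hK, ?_⟩
    rw [Ideal.comap_map_of_surjective _ hsnd]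
    exact sup_eq_left.mpr (by simpa [RingHom.ker] using hK)
  · left
    obtain ⟨e, heK, heq⟩ := SetLike.not_le_iff_exists.mp hK
    have he2 : snd φ ψ e = 0 := heK
    set e₁ := fst φ ψ e with he₁
    have hφe : φ e₁ = 0 := by rw [he₁, condition_apply, he2, map_zero]
    -- `(a e₁, 0)`
    let m : A → FibProd φ ψ := fun a => mk (a * e₁) 0 (by rw [map_mul, hφe, mul_zero, map_zero])
    have hm_mul : ∀ (r : FibProd φ ψ), m (fst φ ψ r) = r * e := by
      intro r
      refine ext' ?_ ?_
      · simp [m, he₁]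
      · simp [m, he2]
    have hm_add : ∀ a a', m (a + a') = m a + m a' := by
      intro a a'
      refine ext' ?_ ?_
      · simp [m, add_mul]
      · simp [m]
    have hm_smul : ∀ a a', m (a * a') * e = m a * m a' := by
      intro a a'
      refine ext' ?_ ?_
      · simp only [m, map_mul, fst_mk, ← he₁]; ring
      · simp [m, he2]
    have hm_mul' : ∀ (c a : A), ∃ r : FibProd φ ψ, m (c * a) * e = r * m a := by
      intro c a
      refine ⟨m c, ?_⟩
      rw [hm_smul]
    let p : Ideal A :=
      { carrier := {a | m a ∈ q}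
        add_mem' := fun {a a'} ha ha' => by
          change m (a + a') ∈ q
          rw [hm_add]; exact q.add_mem ha ha'
        zero_mem' := by
          change m 0 ∈ q
          have : m 0 = 0 := ext' (by simp [m]) (by simp [m])
          rw [this]; exact q.zero_mem
        smul_mem' := fun c {a} ha => by
          change m (c * a) ∈ q
          obtain ⟨r, hr⟩ := hm_mul' c a
          have : m (c * a) * e ∈ q := by rw [hr]; exact q.mul_mem_left _ ha
          exact (hq.mem_or_mem this).resolve_right heq }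
    have hp_mem : ∀ a, a ∈ p ↔ m a ∈ q := fun a => Iff.rfl
    have hcomap : p.comap (fst φ ψ) = q := by
      ext r
      rw [Ideal.mem_comap, hp_mem, hm_mul]
      constructor
      · intro h; exact (hq.mem_or_mem h).resolve_right heq
      · intro h; exact q.mul_mem_right _ h
    refine ⟨p, ⟨?_, ?_⟩, hcomap⟩
    · intro htop
      have h1 : (1 : A) ∈ p := htop ▸ Submodule.mem_top
      rw [hp_mem] at h1
      have : m 1 = e := by
        refine ext' (by simp [m, he₁]) (by simp [m, he2])
      rw [this] at h1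
      exact heq h1
    · intro a a' haa'
      rw [hp_mem] at haa'
      have : m a * m a' ∈ q := by rw [← hm_smul]; exact q.mul_mem_right _ haa'
      exact hq.mem_or_mem this

section Localization

variable {A' B' C' : Type u} [CommRing A'] [CommRing B'] [CommRing C']
  [Algebra A A'] [Algebra B B'] [Algebra C C'] (φ' : A' →+* C') (ψ' : B' →+* C')
  (hφ : φ'.comp (algebraMap A A') = (algebraMap C C').comp φ)
  (hψ : ψ'.comp (algebraMap B B') = (algebraMap C C').comp ψ)

/-- The restriction map between fibre products. -/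
def res : FibProd φ ψ →+* FibProd φ' ψ' :=
  lift ((algebraMap A A').comp (fst φ ψ)) ((algebraMap B B').comp (snd φ ψ)) (by
    rw [← RingHom.comp_assoc, hφ, ← RingHom.comp_assoc, hψ, RingHom.comp_assoc, RingHom.comp_assoc,
      condition])

@[simp] lemma fst_res (x : FibProd φ ψ) :
    fst φ' ψ' (res φ' ψ' hφ hψ x) = algebraMap A A' (fst φ ψ x) := rfl
@[simp] lemma snd_res (x : FibProd φ ψ) :
    snd φ' ψ' (res φ' ψ' hφ hψ x) = algebraMap B B' (snd φ ψ x) := rfl

/-- **Lemma L**: the fibre product of localizations is the localization of the fibre product. -/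
theorem isLocalization_away (a : A) (b : B) (hab : φ a = ψ b)
    [IsLocalization.Away a A'] [IsLocalization.Away b B'] [IsLocalization.Away (φ a) C'] :
    letI := (res φ' ψ' hφ hψ).toAlgebra
    IsLocalization.Away (mk a b hab) (FibProd φ' ψ') := by
  letI := (res φ' ψ' hφ hψ).toAlgebra
  have halg : ∀ x, algebraMap (FibProd φ ψ) (FibProd φ' ψ') x = res φ' ψ' hφ hψ x := fun _ => rfl
  have hφ' : ∀ x, φ' (algebraMap A A' x) = algebraMap C C' (φ x) := fun x => congr($hφ x)
  have hψ' : ∀ x, ψ' (algebraMap B B' x) = algebraMap C C' (ψ x) := fun x => congr($hψ x)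
  refine IsLocalization.Away.mk _ ?_ ?_ ?_
  · -- unit
    obtain ⟨ua, hua⟩ := IsLocalization.Away.algebraMap_isUnit (S := A') a
    obtain ⟨ub, hub⟩ := IsLocalization.Away.algebraMap_isUnit (S := B') b
    have hc : IsUnit (algebraMap C C' (φ a)) := IsLocalization.Away.algebraMap_isUnit (S := C') (φ a)
    have hinv : φ' (↑ua⁻¹ : A') = ψ' (↑ub⁻¹ : B') := by
      have h1 : φ' (↑ua⁻¹ : A') * algebraMap C C' (φ a) = 1 := by
        rw [← hφ', ← hua, ← map_mul, Units.inv_mul, map_one]
      have h2 : ψ' (↑ub⁻¹ : B') * algebraMap C C' (φ a) = 1 := by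
        rw [hab, ← hψ', ← hub, ← map_mul, Units.inv_mul, map_one]
      exact hc.mul_left_injective (h1.trans h2.symm)
    refine IsUnit.of_mul_eq_one (mk (↑ua⁻¹ : A') (↑ub⁻¹ : B') hinv) ?_
    refine ext' ?_ ?_
    · rw [map_mul, halg, fst_res, fst_mk, fst_mk, ← hua, Units.mul_inv, map_one]
    · rw [map_mul, halg, snd_res, snd_mk, snd_mk, ← hub, Units.mul_inv, map_one]
  · -- surjectivity
    intro z
    obtain ⟨n₁, a₀, h₁⟩ := IsLocalization.Away.surj a (fst φ' ψ' z)
    obtain ⟨n₂, b₀, h₂⟩ := IsLocalization.Away.surj b (snd φ' ψ' z)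
    have h₁' : fst φ' ψ' z * algebraMap A A' a ^ (n₁ + n₂) = algebraMap A A' (a₀ * a ^ n₂) := by
      rw [pow_add, ← mul_assoc, h₁, map_mul, map_pow]
    have h₂' : snd φ' ψ' z * algebraMap B B' b ^ (n₁ + n₂) = algebraMap B B' (b₀ * b ^ n₁) := by
      rw [pow_add, mul_comm (algebraMap B B' b ^ n₁), ← mul_assoc, h₂, map_mul, map_pow]
    have hC : algebraMap C C' (φ (a₀ * a ^ n₂)) = algebraMap C C' (ψ (b₀ * b ^ n₁)) := by
      rw [← hφ', ← hψ', ← h₁', ← h₂', map_mul, map_mul, map_pow, map_pow, hφ', hψ', hab,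
        condition_apply z]
    obtain ⟨m, hm⟩ := IsLocalization.Away.exists_of_eq (S := C') (φ a) hC
    refine ⟨n₁ + n₂ + m, mk (a ^ m * (a₀ * a ^ n₂)) (b ^ m * (b₀ * b ^ n₁)) ?_, ?_⟩
    · rw [map_mul, map_mul ψ, map_pow, map_pow ψ, ← hab]; exact hm
    · refine ext' ?_ ?_
      · rw [map_mul, map_pow, halg, halg, fst_res, fst_res, fst_mk, fst_mk, pow_add, ← mul_assoc,
          h₁', map_mul (algebraMap A A') (a ^ m), map_pow (algebraMap A A') a m]
        ring
      · rw [map_mul, map_pow, halg, halg, snd_res, snd_res, snd_mk, snd_mk, pow_add, ← mul_assoc,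
          h₂', map_mul (algebraMap B B') (b ^ m), map_pow (algebraMap B B') b m]
        ring
  · -- injectivity
    intro x y hxy
    rw [halg, halg] at hxy
    have h1 : algebraMap A A' (fst φ ψ x) = algebraMap A A' (fst φ ψ y) := by
      rw [← fst_res φ' ψ' hφ hψ, ← fst_res φ' ψ' hφ hψ, hxy]
    have h2 : algebraMap B B' (snd φ ψ x) = algebraMap B B' (snd φ ψ y) := by
      rw [← snd_res φ' ψ' hφ hψ, ← snd_res φ' ψ' hφ hψ, hxy]
    obtain ⟨n₁, hn₁⟩ := IsLocalization.Away.exists_of_eq (S := A') a h1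
    obtain ⟨n₂, hn₂⟩ := IsLocalization.Away.exists_of_eq (S := B') b h2
    refine ⟨n₁ + n₂, ext' ?_ ?_⟩
    · rw [map_mul, map_mul, map_pow, fst_mk, pow_add, mul_comm (a ^ n₁), mul_assoc, hn₁, mul_assoc]
    · rw [map_mul, map_mul, map_pow, snd_mk, pow_add, mul_assoc, hn₂, mul_assoc]

end Localization

end FibProd

end Groth.Agent.Lib.Helper1.FP
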