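import Mathlib.AlgebraicGeometry.Morphisms.IsIso
import Mathlib.AlgebraicGeometry.Morphisms.FinitePresentation
import Mathlib.AlgebraicGeometry.Morphisms.QuasiSeparated
import Mathlib.AlgebraicGeometry.Gluing
import Mathlib.AlgebraicGeometry.PullbackCarrier

/-!
# Gluing two pullback squares along an open (helper1)
-/

set_option autoImplicit false
set_option linter.unusedSectionVars false
set_option linter.style.haveILetI false
universe u

namespace Groth.Agent.Lib.Helper1.ObjDesc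

open AlgebraicGeometry CategoryTheory CategoryTheory.Limits MorphismProperty

/-- A commutative square is a pullback square if it is so over an open cover of the
bottom left corner. -/
theorem isPullback_of_openCover {X V C S : Scheme.{u}} (a : X ⟶ V) (f : X ⟶ C) (v : V ⟶ S)
    (p : C ⟶ S) (w : a ≫ v = f ≫ p) (𝒰 : V.OpenCover)
    (h : ∀ k, ∃ (Q : Scheme.{u}) (q₁ : Q ⟶ X) (q₂ : Q ⟶ 𝒰.X k),
      IsPullback q₁ q₂ a (𝒰.f k) ∧ IsPullback q₂ (q₁ ≫ f) (𝒰.f k ≫ v) p) :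
    IsPullback a f v p := by
  let φ : X ⟶ pullback v p := pullback.lift a f w
  suffices IsIso φ from
    IsPullback.of_iso_pullback ⟨w⟩ (asIso φ) (pullback.lift_fst _ _ _) (pullback.lift_snd _ _ _)
  let 𝒱 := 𝒰.pullback₁ (pullback.fst v p)
  change isomorphisms Scheme φ
  apply IsZariskiLocalAtTarget.of_openCover (P := isomorphisms Scheme) 𝒱
  intro k
  obtain ⟨Q, q₁, q₂, h1, h2⟩ := h k
  let r₁ := pullback.fst φ (𝒱.f k)
  let r₂ := pullback.snd φ (𝒱.f k)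
  let snd' := pullback.snd (pullback.fst v p) (𝒰.f k)
  have sqA : IsPullback r₁ r₂ φ (𝒱.f k) := IsPullback.of_hasPullback _ _
  have sqB : IsPullback (𝒱.f k) snd' (pullback.fst v p) (𝒰.f k) := IsPullback.of_hasPullback _ _
  have hφ : φ ≫ pullback.fst v p = a := pullback.lift_fst _ _ _
  have hφ2 : φ ≫ pullback.snd v p = f := pullback.lift_snd _ _ _
  have star : IsPullback r₁ (r₂ ≫ snd') a (𝒰.f k) := by
    have := sqA.flip.paste_horiz sqB.flip
    rw [hφ] at this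
    exact this.flip
  let e : pullback φ (𝒱.f k) ≅ Q := star.isoIsPullback _ _ h1
  have he1 : e.hom ≫ q₁ = r₁ := IsPullback.isoIsPullback_hom_fst _ _ star h1
  have he2 : e.hom ≫ q₂ = r₂ ≫ snd' := IsPullback.isoIsPullback_hom_snd _ _ star h1
  have sqI : IsPullback (r₂ ≫ snd') (r₁ ≫ f) (𝒰.f k ≫ v) p := by
    refine h2.of_iso e.symm (Iso.refl _) (Iso.refl _) (Iso.refl _) ?_ ?_ ?_ ?_
    · simp [← he2]
    · simp [← he1]
    · simp
    · simp
  have sqII : IsPullback snd' (𝒱.f k ≫ pullback.snd v p) (𝒰.f k ≫ v) p :=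
    sqB.flip.paste_vert (IsPullback.of_hasPullback v p)
  have hr₂ : r₂ = (sqI.isoIsPullback _ _ sqII).hom := by
    apply sqII.hom_ext
    · exact (IsPullback.isoIsPullback_hom_fst _ _ sqI sqII).symm
    · refine Eq.trans ?_ (IsPullback.isoIsPullback_hom_snd _ _ sqI sqII).symm
      have h3 : r₂ ≫ 𝒱.f k = r₁ ≫ φ := sqA.w.symm
      calc r₂ ≫ 𝒱.f k ≫ pullback.snd v p = (r₂ ≫ 𝒱.f k) ≫ pullback.snd v p :=
            (Category.assoc _ _ _).symm
        _ = (r₁ ≫ φ) ≫ pullback.snd v p := congrArg (· ≫ pullback.snd v p) h3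
        _ = r₁ ≫ f := by rw [Category.assoc, hφ2]
  change IsIso r₂
  rw [hr₂]
  infer_instance

end Groth.Agent.Lib.Helper1.ObjDesc

namespace Groth.Agent.Lib.Helper1.ObjDesc

open AlgebraicGeometry CategoryTheory CategoryTheory.Limits MorphismProperty

section Pushout

variable {W V₁ V₂ : Scheme.{u}} (w₁ : W ⟶ V₁) (w₂ : W ⟶ V₂) [IsOpenImmersion w₁]
  [IsOpenImmersion w₂]

instance isOpenImmersion_span_map {i j : WalkingSpan} (t : i ⟶ j) :
    IsOpenImmersion ((span w₁ w₂).map t) := by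
  cases t with
  | id => simp only [WidePushoutShape.hom_id, CategoryTheory.Functor.map_id]; infer_instance
  | init k =>
    cases k
    · show IsOpenImmersion w₁; infer_instance
    · show IsOpenImmersion w₂; infer_instance

instance hasPushout_of_isOpenImmersion : HasPushout w₁ w₂ :=
  inferInstanceAs (HasColimit (span w₁ w₂))

instance isOpenImmersion_pushout_inl : IsOpenImmersion (pushout.inl w₁ w₂) :=
  inferInstanceAs (IsOpenImmersion (colimit.ι (span w₁ w₂) WalkingSpan.left))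

instance isOpenImmersion_pushout_inr : IsOpenImmersion (pushout.inr w₁ w₂) :=
  inferInstanceAs (IsOpenImmersion (colimit.ι (span w₁ w₂) WalkingSpan.right))

lemma pushout_covers (x : ↥(pushout w₁ w₂)) :
    x ∈ Set.range (pushout.inl w₁ w₂) ∨ x ∈ Set.range (pushout.inr w₁ w₂) := by
  obtain ⟨i, xi, rfl⟩ := Scheme.IsLocallyDirected.ι_jointly_surjective (span w₁ w₂) x
  obtain (_ | _ | _) := i
  · left
    refine ⟨w₁ xi, ?_⟩
    have : w₁ ≫ pushout.inl w₁ w₂ = colimit.ι (span w₁ w₂) WalkingSpan.zero := by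
      have := colimit.w (span w₁ w₂) WalkingSpan.Hom.fst
      simpa using this
    rw [← this]; rfl
  · left; exact ⟨xi, rfl⟩
  · right; exact ⟨xi, rfl⟩

lemma inl_eq_inr_iff {y₁ : V₁} {y₂ : V₂} :
    pushout.inl w₁ w₂ y₁ = pushout.inr w₁ w₂ y₂ ↔ ∃ z : W, w₁ z = y₁ ∧ w₂ z = y₂ := by
  constructor
  · intro h
    obtain ⟨k, fi, fj, x, hx1, hx2⟩ :=
      (Scheme.IsLocallyDirected.ι_eq_ι_iff (F := span w₁ w₂) (i := WalkingSpan.left)
        (j := WalkingSpan.right) (xi := y₁) (xj := y₂)).mp h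
    obtain (_ | _ | _) := k
    · have hfi : (span w₁ w₂).map fi = w₁ := by
        rw [Subsingleton.elim fi WalkingSpan.Hom.fst]; rfl
      have hfj : (span w₁ w₂).map fj = w₂ := by
        rw [Subsingleton.elim fj WalkingSpan.Hom.snd]; rfl
      rw [hfi] at hx1
      rw [hfj] at hx2
      exact ⟨x, hx1, hx2⟩
    · cases fj
    · cases fi
  · rintro ⟨z, rfl, rfl⟩
    rw [← Scheme.Hom.comp_apply, ← Scheme.Hom.comp_apply, pushout.condition]

end Pushout

end Groth.Agent.Lib.Helper1.ObjDesc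

namespace Groth.Agent.Lib.Helper1.ObjDesc

open AlgebraicGeometry CategoryTheory CategoryTheory.Limits MorphismProperty TopologicalSpace

/-- A scheme covered by two quasi-separated opens with quasi-compact intersection is
quasi-separated. -/
theorem quasiSeparatedSpace_of_two_opens {V : Scheme.{u}} (U₁ U₂ : V.Opens) (hcov : U₁ ⊔ U₂ = ⊤)
    (h₁ : IsQuasiSeparated (U₁ : Set V)) (h₂ : IsQuasiSeparated (U₂ : Set V))
    (h₁₂ : IsCompact ((U₁ ⊓ U₂ : V.Opens) : Set V)) : QuasiSeparatedSpace V := by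
  let J := {A : V.affineOpens // A.1 ≤ U₁ ∨ A.1 ≤ U₂}
  have hmix : ∀ A B : V.Opens, IsCompact (A : Set V) → IsCompact (B : Set V) → A ≤ U₁ → B ≤ U₂ →
      IsCompact ((A : Set V) ∩ (B : Set V)) := by
    intro A B hA hB hA1 hB2
    have e : (A : Set V) ∩ B = ((A : Set V) ∩ (U₁ ⊓ U₂ : V.Opens)) ∩ ((B : Set V) ∩ (U₁ ⊓ U₂ : V.Opens)) := by
      ext x
      simp only [Set.mem_inter_iff, SetLike.mem_coe, Opens.coe_inf]
      constructor
      · rintro ⟨ha, hb⟩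
        exact ⟨⟨ha, hA1 ha, hB2 hb⟩, hb, hA1 ha, hB2 hb⟩
      · rintro ⟨⟨ha, -⟩, hb, -⟩
        exact ⟨ha, hb⟩
    rw [e]
    have c1 : IsCompact ((A : Set V) ∩ (U₁ ⊓ U₂ : V.Opens)) :=
      h₁ _ _ hA1 A.isOpen hA (by simp) (U₁ ⊓ U₂).isOpen h₁₂
    have c2 : IsCompact ((B : Set V) ∩ (U₁ ⊓ U₂ : V.Opens)) :=
      h₂ _ _ hB2 B.isOpen hB (by simp) (U₁ ⊓ U₂).isOpen h₁₂
    refine h₁ _ _ ?_ (A.isOpen.inter (U₁ ⊓ U₂).isOpen) c1 ?_ (B.isOpen.inter (U₁ ⊓ U₂).isOpen) c2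
    · intro x hx; exact hx.2.1
    · intro x hx; exact hx.2.1
  refine Scheme.quasiSeparatedSpace_of_isOpenCover (fun A : J => A.1.1) ?_ (fun A => A.1.2) ?_
  · rw [IsOpenCover, eq_top_iff]
    intro x _
    have hx : x ∈ U₁ ⊔ U₂ := by rw [hcov]; trivial
    rcases hx with hx | hx
    · obtain ⟨_, ⟨A, hA, rfl⟩, hxA, hAU⟩ :=
        V.isBasis_affineOpens.exists_subset_of_mem_open hx U₁.isOpen
      exact Opens.mem_iSup.mpr ⟨⟨⟨A, hA⟩, Or.inl hAU⟩, hxA⟩
    · obtain ⟨_, ⟨A, hA, rfl⟩, hxA, hAU⟩ :=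
        V.isBasis_affineOpens.exists_subset_of_mem_open hx U₂.isOpen
      exact Opens.mem_iSup.mpr ⟨⟨⟨A, hA⟩, Or.inr hAU⟩, hxA⟩
  · rintro ⟨A, hA | hA⟩ ⟨B, hB | hB⟩
    · exact h₁ _ _ hA A.1.isOpen A.2.isCompact hB B.1.isOpen B.2.isCompact
    · exact hmix _ _ A.2.isCompact B.2.isCompact hA hB
    · rw [Set.inter_comm]; exact hmix _ _ B.2.isCompact A.2.isCompact hB hA
    · exact h₂ _ _ hA A.1.isOpen A.2.isCompact hB B.1.isOpen B.2.isCompact

end Groth.Agent.Lib.Helper1.ObjDesc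

namespace Groth.Agent.Lib.Helper1.ObjDesc

open AlgebraicGeometry CategoryTheory CategoryTheory.Limits MorphismProperty TopologicalSpace

section TwoCover

variable {X U₁ U₂ : Scheme.{u}} (j₁ : U₁ ⟶ X) (j₂ : U₂ ⟶ X) [IsOpenImmersion j₁]
  [IsOpenImmersion j₂] (hcov : ∀ x : X, x ∈ Set.range j₁ ∨ x ∈ Set.range j₂)

/-- The two objects. -/
def twoObj (U₁ U₂ : Scheme.{u}) : WalkingPair → Scheme.{u}
  | .left => U₁
  | .right => U₂

/-- The two maps. -/
def twoMap : (k : WalkingPair) → twoObj U₁ U₂ k ⟶ X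
  | .left => j₁
  | .right => j₂

instance isOpenImmersion_twoMap {X U₁ U₂ : Scheme.{u}} (j₁ : U₁ ⟶ X) (j₂ : U₂ ⟶ X)
    [h₁ : IsOpenImmersion j₁] [h₂ : IsOpenImmersion j₂] (k : WalkingPair) :
    IsOpenImmersion (twoMap j₁ j₂ k) := by
  cases k
  · exact h₁
  · exact h₂

/-- The open cover given by two jointly surjective open immersions. -/
noncomputable def twoCover : X.OpenCover :=
  Scheme.Cover.mkOfCovers WalkingPair (twoObj U₁ U₂) (twoMap j₁ j₂)
    (fun x => by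
      rcases hcov x with ⟨y, hy⟩ | ⟨y, hy⟩
      · exact ⟨.left, y, hy⟩
      · exact ⟨.right, y, hy⟩)
    (fun k => inferInstanceAs (IsOpenImmersion (twoMap j₁ j₂ k)))

end TwoCover

end Groth.Agent.Lib.Helper1.ObjDesc

namespace Groth.Agent.Lib.Helper1.ObjDesc

open AlgebraicGeometry CategoryTheory CategoryTheory.Limits MorphismProperty TopologicalSpace

section Glue

variable {S C : Scheme.{u}} (p : C ⟶ S)
  {V₁ V₂ W' : Scheme.{u}} (v₁ : V₁ ⟶ S) (v₂ : V₂ ⟶ S) (w₁ : W' ⟶ V₁) (w₂ : W' ⟶ V₂)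
  [IsOpenImmersion w₁] [IsOpenImmersion w₂] (hw : w₁ ≫ v₁ = w₂ ≫ v₂)

lemma fst_eq_snd_of_mono {A B : Scheme.{u}} (j : A ⟶ B) [Mono j] :
    pullback.fst j j = pullback.snd j j :=
  (cancel_mono j).mp pullback.condition

/-- points of a pullback square of schemes -/
lemma exists_of_isPullback {P A B T : Scheme.{u}} {fst : P ⟶ A} {snd : P ⟶ B} {f : A ⟶ T}
    {g : B ⟶ T} (h : IsPullback fst snd f g) (a : A) (b : B) (hab : f a = g b) :
    ∃ t : P, fst t = a ∧ snd t = b := by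
  obtain ⟨t', h1, h2⟩ := Scheme.Pullback.exists_preimage_pullback a b hab
  refine ⟨h.isoPullback.inv t', ?_, ?_⟩
  · rw [← Scheme.Hom.comp_apply, h.isoPullback_inv_fst, h1]
  · rw [← Scheme.Hom.comp_apply, h.isoPullback_inv_snd, h2]

variable {X U₁ U₂ : Scheme.{u}} (f : X ⟶ C) (j₁ : U₁ ⟶ X) (j₂ : U₂ ⟶ X) [IsOpenImmersion j₁]
  [IsOpenImmersion j₂] (hcov : ∀ x : X, x ∈ Set.range j₁ ∨ x ∈ Set.range j₂)
  (g₁ : U₁ ⟶ V₁) (g₂ : U₂ ⟶ V₂)
  (gW : pullback j₁ j₂ ⟶ W')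

include hcov in
set_option backward.isDefEq.respectTransparency false in
theorem exists_isPullback_glue
    (sq₁ : IsPullback g₁ (j₁ ≫ f) v₁ p) (sq₂ : IsPullback g₂ (j₂ ≫ f) v₂ p)
    (sqW₁ : IsPullback gW (pullback.fst j₁ j₂) w₁ g₁)
    (sqW₂ : IsPullback gW (pullback.snd j₁ j₂) w₂ g₂) :
    ∃ g : X ⟶ pushout w₁ w₂, IsPullback g f (pushout.desc v₁ v₂ hw) p := by
  let inl := pushout.inl w₁ w₂
  let inr := pushout.inr w₁ w₂
  let 𝒰X := twoCover j₁ j₂ hcov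
  let m : ∀ k : WalkingPair, twoObj U₁ U₂ k ⟶ pushout w₁ w₂
    | .left => g₁ ≫ inl
    | .right => g₂ ≫ inr
  have key : pullback.fst j₁ j₂ ≫ g₁ ≫ inl = pullback.snd j₁ j₂ ≫ g₂ ≫ inr := by
    rw [← Category.assoc, ← sqW₁.w, ← Category.assoc, ← sqW₂.w, Category.assoc, Category.assoc,
      pushout.condition]
  have hm : ∀ x y : WalkingPair, pullback.fst (𝒰X.f x) (𝒰X.f y) ≫ m x =
      pullback.snd (𝒰X.f x) (𝒰X.f y) ≫ m y := by
    rintro (_ | _) (_ | _)
    · change pullback.fst j₁ j₁ ≫ _ = pullback.snd j₁ j₁ ≫ _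
      rw [fst_eq_snd_of_mono]
    · exact key
    · change pullback.fst j₂ j₁ ≫ g₂ ≫ inr = pullback.snd j₂ j₁ ≫ g₁ ≫ inl
      rw [← pullbackSymmetry_hom_comp_snd, ← pullbackSymmetry_hom_comp_fst j₂ j₁, Category.assoc,
        Category.assoc, key]
    · change pullback.fst j₂ j₂ ≫ _ = pullback.snd j₂ j₂ ≫ _
      rw [fst_eq_snd_of_mono]
  let g : X ⟶ pushout w₁ w₂ := 𝒰X.glueMorphisms m hm
  have hg₁ : j₁ ≫ g = g₁ ≫ inl := 𝒰X.ι_glueMorphisms m hm .left
  have hg₂ : j₂ ≫ g = g₂ ≫ inr := 𝒰X.ι_glueMorphisms m hm .right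
  have hv₁ : inl ≫ pushout.desc v₁ v₂ hw = v₁ := pushout.inl_desc _ _ _
  have hv₂ : inr ≫ pushout.desc v₁ v₂ hw = v₂ := pushout.inr_desc _ _ _
  have hcomm : g ≫ pushout.desc v₁ v₂ hw = f ≫ p := by
    apply 𝒰X.hom_ext
    rintro (_ | _)
    · change j₁ ≫ g ≫ _ = j₁ ≫ f ≫ p
      rw [reassoc_of% hg₁, hv₁, sq₁.w, Category.assoc]
    · change j₂ ≫ g ≫ _ = j₂ ≫ f ≫ p
      rw [reassoc_of% hg₂, hv₂, sq₂.w, Category.assoc]
  -- the preimages of the two pieces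
  have hpre₁ : g ⁻¹ᵁ inl.opensRange = j₁.opensRange := by
    ext x
    constructor
    · rintro ⟨y₁, hy₁⟩
      rcases hcov x with hx | ⟨u₂, rfl⟩
      · exact hx
      · have h1 : inl y₁ = inr (g₂ u₂) := by
          rw [hy₁, ← Scheme.Hom.comp_apply, hg₂]; rfl
        obtain ⟨z, hz1, hz2⟩ := (inl_eq_inr_iff w₁ w₂).mp h1
        obtain ⟨t, -, ht⟩ := exists_of_isPullback sqW₂ z u₂ hz2
        refine ⟨pullback.fst j₁ j₂ t, ?_⟩
        rw [← ht, ← Scheme.Hom.comp_apply, ← Scheme.Hom.comp_apply, pullback.condition]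
    · rintro ⟨u, rfl⟩
      exact ⟨g₁ u, by rw [← Scheme.Hom.comp_apply, ← Scheme.Hom.comp_apply, hg₁]⟩
  have hpre₂ : g ⁻¹ᵁ inr.opensRange = j₂.opensRange := by
    ext x
    constructor
    · rintro ⟨y₂, hy₂⟩
      rcases hcov x with ⟨u₁, rfl⟩ | hx
      · have h1 : inl (g₁ u₁) = inr y₂ := by
          have e : (j₁ ≫ g) u₁ = (g₁ ≫ inl) u₁ := by rw [hg₁]
          rw [hy₂]; exact e.symm
        obtain ⟨z, hz1, hz2⟩ := (inl_eq_inr_iff w₁ w₂).mp h1
        obtain ⟨t, -, ht⟩ := exists_of_isPullback sqW₁ z u₁ hz1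
        refine ⟨pullback.snd j₁ j₂ t, ?_⟩
        rw [← ht, ← Scheme.Hom.comp_apply, ← Scheme.Hom.comp_apply, pullback.condition]
      · exact hx
    · rintro ⟨u, rfl⟩
      exact ⟨g₂ u, by rw [← Scheme.Hom.comp_apply, ← Scheme.Hom.comp_apply, hg₂]⟩
  have P₁ : IsPullback j₁ g₁ g inl := (IsOpenImmersion.isPullback g₁ j₁ inl g hg₁ hpre₁).flip
  have P₂ : IsPullback j₂ g₂ g inr := (IsOpenImmersion.isPullback g₂ j₂ inr g hg₂ hpre₂).flip
  refine ⟨g, isPullback_of_openCover g f _ p hcomm (twoCover inl inr (pushout_covers w₁ w₂)) ?_⟩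
  rintro (_ | _)
  · refine ⟨U₁, j₁, g₁, P₁, ?_⟩
    change IsPullback g₁ (j₁ ≫ f) (inl ≫ pushout.desc v₁ v₂ hw) p
    rw [hv₁]; exact sq₁
  · refine ⟨U₂, j₂, g₂, P₂, ?_⟩
    change IsPullback g₂ (j₂ ≫ f) (inr ≫ pushout.desc v₁ v₂ hw) p
    rw [hv₂]; exact sq₂

end Glue

end Groth.Agent.Lib.Helper1.ObjDesc

namespace Groth.Agent.Lib.Helper1.ObjDesc

open AlgebraicGeometry CategoryTheory CategoryTheory.Limits MorphismProperty TopologicalSpace

section DescProps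

variable {S : Scheme.{u}}
  {V₁ V₂ W' : Scheme.{u}} (v₁ : V₁ ⟶ S) (v₂ : V₂ ⟶ S) (w₁ : W' ⟶ V₁) (w₂ : W' ⟶ V₂)
  [IsOpenImmersion w₁] [IsOpenImmersion w₂] (hw : w₁ ≫ v₁ = w₂ ≫ v₂)

theorem locallyOfFinitePresentation_desc [LocallyOfFinitePresentation v₁]
    [LocallyOfFinitePresentation v₂] :
    LocallyOfFinitePresentation (pushout.desc v₁ v₂ hw) := by
  apply IsZariskiLocalAtSource.of_openCover
    (twoCover (pushout.inl w₁ w₂) (pushout.inr w₁ w₂) (pushout_covers w₁ w₂))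
  rintro (_ | _)
  · change LocallyOfFinitePresentation (pushout.inl w₁ w₂ ≫ pushout.desc v₁ v₂ hw)
    rw [pushout.inl_desc]; infer_instance
  · change LocallyOfFinitePresentation (pushout.inr w₁ w₂ ≫ pushout.desc v₁ v₂ hw)
    rw [pushout.inr_desc]; infer_instance

theorem quasiCompact_desc [QuasiCompact v₁] [QuasiCompact v₂] :
    QuasiCompact (pushout.desc v₁ v₂ hw) := by
  constructor
  intro K hKo hKc
  have e : (pushout.desc v₁ v₂ hw) ⁻¹' K =
      (pushout.inl w₁ w₂) '' (v₁ ⁻¹' K) ∪ (pushout.inr w₁ w₂) '' (v₂ ⁻¹' K) := by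
    ext x
    simp only [Set.mem_preimage, Set.mem_union, Set.mem_image]
    constructor
    · intro hx
      rcases pushout_covers w₁ w₂ x with ⟨y, rfl⟩ | ⟨y, rfl⟩
      · left
        refine ⟨y, ?_, rfl⟩
        rwa [← Scheme.Hom.comp_apply, pushout.inl_desc] at hx
      · right
        refine ⟨y, ?_, rfl⟩
        rwa [← Scheme.Hom.comp_apply, pushout.inr_desc] at hx
    · rintro (⟨y, hy, rfl⟩ | ⟨y, hy, rfl⟩)
      · rwa [← Scheme.Hom.comp_apply, pushout.inl_desc]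
      · rwa [← Scheme.Hom.comp_apply, pushout.inr_desc]
  rw [e]
  exact ((QuasiCompact.isCompact_preimage (f := v₁) K hKo hKc).image
    (pushout.inl w₁ w₂).continuous).union
    ((QuasiCompact.isCompact_preimage (f := v₂) K hKo hKc).image (pushout.inr w₁ w₂).continuous)

theorem quasiSeparatedSpace_pushout [QuasiSeparatedSpace V₁] [QuasiSeparatedSpace V₂]
    [CompactSpace W'] : QuasiSeparatedSpace ↥(pushout w₁ w₂) := by
  refine quasiSeparatedSpace_of_two_opens (pushout.inl w₁ w₂).opensRange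
    (pushout.inr w₁ w₂).opensRange ?_ ?_ ?_ ?_
  · rw [eq_top_iff]
    intro x _
    rcases pushout_covers w₁ w₂ x with h | h
    · exact Or.inl h
    · exact Or.inr h
  · rw [Scheme.Hom.coe_opensRange, ← Set.image_univ]
    exact isQuasiSeparated_univ.image_of_isEmbedding
      (pushout.inl w₁ w₂).isOpenEmbedding.isEmbedding
  · rw [Scheme.Hom.coe_opensRange, ← Set.image_univ]
    exact isQuasiSeparated_univ.image_of_isEmbedding
      (pushout.inr w₁ w₂).isOpenEmbedding.isEmbedding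
  · have e : (((pushout.inl w₁ w₂).opensRange ⊓ (pushout.inr w₁ w₂).opensRange :
        (pushout w₁ w₂).Opens) : Set ↥(pushout w₁ w₂)) = Set.range (w₁ ≫ pushout.inl w₁ w₂) := by
      ext x
      simp only [Opens.coe_inf, Scheme.Hom.coe_opensRange, Set.mem_inter_iff, Set.mem_range]
      constructor
      · rintro ⟨⟨y₁, rfl⟩, ⟨y₂, hy₂⟩⟩
        obtain ⟨z, hz, -⟩ := (inl_eq_inr_iff w₁ w₂).mp hy₂.symm
        exact ⟨z, by rw [Scheme.Hom.comp_apply, hz]⟩
      · rintro ⟨z, rfl⟩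
        refine ⟨⟨w₁ z, rfl⟩, ⟨w₂ z, ?_⟩⟩
        rw [← Scheme.Hom.comp_apply, pushout.condition]
    rw [e]
    exact isCompact_range (w₁ ≫ pushout.inl w₁ w₂).continuous

end DescProps

end Groth.Agent.Lib.Helper1.ObjDesc
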