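import Groth.Agent.Lib.Helper1.FP9
import Groth.Agent.Lib.Helper1.ObjDescGlue

/-!
# Ferrand pushouts (helper1), part 10: properties of the pushout square
-/

set_option autoImplicit false
set_option linter.unusedSectionVars false
set_option linter.unusedVariables false
set_option linter.style.haveILetI false
universe u

noncomputable section

namespace Groth.Agent.Lib.Helper1.FP

open AlgebraicGeometry CategoryTheory CategoryTheory.Limits TopologicalSpace Opposite

/-- a target-local property can be checked on pullback squares over an open cover -/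
lemma of_forall_isPullback (Q : MorphismProperty Scheme.{u}) [IsZariskiLocalAtTarget Q]
    {X Y : Scheme.{u}} (f : X ⟶ Y) (𝒰 : Y.OpenCover)
    (h : ∀ k, ∃ (V : Scheme.{u}) (fst : V ⟶ X) (snd : V ⟶ 𝒰.X k),
      IsPullback fst snd f (𝒰.f k) ∧ Q snd) : Q f := by
  refine IsZariskiLocalAtTarget.of_openCover 𝒰 fun k => ?_
  obtain ⟨V, fst, snd, hpb, hQ⟩ := h k
  have e : hpb.isoPullback.hom ≫ pullback.snd f (𝒰.f k) = snd := hpb.isoPullback_hom_snd
  rw [← e] at hQ
  exact (Q.cancel_left_of_respectsIso _ _).mp hQ

variable {X Y Z : Scheme.{u}} {i : Z ⟶ X} {j : Z ⟶ Y} [IsClosedImmersion i]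

open Chart

variable (hc : Covering i j)

/-- the cover of `P` by all charts -/
def coverPall : (P i j).OpenCover := Scheme.IsLocallyDirected.openCover (F i j)

lemma isPullback_b (α : Chart i j) : IsPullback α.b α.V.ι (ι i j α) (toP₂ hc) :=
  IsOpenImmersion.isPullback _ _ _ _ (ι_toP₂ hc α) (by
    rw [toP₂_preimage hc α, Scheme.Opens.opensRange_ι])

lemma isPullback_a (α : Chart i j) : IsPullback α.a α.U.ι (ι i j α) (toP₁ hc) :=
  IsOpenImmersion.isPullback _ _ _ _ (ι_toP₁ hc α) (by
    rw [toP₁_preimage hc α, Scheme.Opens.opensRange_ι])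

/-- target-local properties of `Y → P` can be checked on charts -/
theorem toP₂_of_charts (Q : MorphismProperty Scheme.{u}) [IsZariskiLocalAtTarget Q]
    (h : ∀ α : Chart i j, Q α.b) : Q (toP₂ hc) :=
  of_forall_isPullback Q (toP₂ hc) (coverPall (i := i) (j := j)) fun α =>
    ⟨_, _, _, (isPullback_b hc α).flip, h α⟩

/-- target-local properties of `X → P` can be checked on charts -/
theorem toP₁_of_charts (Q : MorphismProperty Scheme.{u}) [IsZariskiLocalAtTarget Q]
    (h : ∀ α : Chart i j, Q α.a) : Q (toP₁ hc) :=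
  of_forall_isPullback Q (toP₁ hc) (coverPall (i := i) (j := j)) fun α =>
    ⟨_, _, _, (isPullback_a hc α).flip, h α⟩

instance Chart.isClosedImmersion_b (α : Chart i j) : IsClosedImmersion α.b := by
  have : IsClosedImmersion (Spec.map (CommRingCat.ofHom α.p₂)) :=
    IsClosedImmersion.spec_of_surjective _ (FibProd.snd_surjective α.φ_surjective)
  rw [Chart.b]
  infer_instance

/-- `Y → P` is a closed immersion -/
instance isClosedImmersion_toP₂ : IsClosedImmersion (toP₂ hc) :=
  toP₂_of_charts hc @IsClosedImmersion fun α => inferInstance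

/-- if `j` is a closed immersion then so is `X → P` -/
theorem isClosedImmersion_toP₁ [IsClosedImmersion j] : IsClosedImmersion (toP₁ hc) := by
  refine toP₁_of_charts hc @IsClosedImmersion fun α => ?_
  have hψ : Function.Surjective α.ψ := by
    intro c
    obtain ⟨b, hb⟩ := j.app_surjective α.V α.hV (Z.presheaf.map (homOfLE α.h.ge).op c)
    refine ⟨b, ?_⟩
    change (j.appLE α.V α.W α.W_le).hom b = c
    rw [Scheme.Hom.appLE]
    change (Z.presheaf.map (homOfLE α.W_le).op) ((j.app α.V) b) = c
    rw [hb, ← CommRingCat.comp_apply, ← Functor.map_comp]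
    have : (homOfLE α.h.ge).op ≫ (homOfLE α.W_le).op = 𝟙 (op α.W) := Subsingleton.elim _ _
    rw [this, CategoryTheory.Functor.map_id]
    rfl
  have : IsClosedImmersion (Spec.map (CommRingCat.ofHom α.p₁)) :=
    IsClosedImmersion.spec_of_surjective _ (FibProd.fst_surjective hψ)
  rw [Chart.a]
  infer_instance

end Groth.Agent.Lib.Helper1.FP
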