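import Groth.Agent.Lib.Helper1.FP10

/-!
# Ferrand pushouts (helper1), part 11: the pushout square is cartesian
-/

set_option autoImplicit false
set_option linter.unusedSectionVars false
set_option linter.unusedVariables false
set_option linter.style.haveILetI false
universe u

noncomputable section

namespace Groth.Agent.Lib.Helper1.FP

open AlgebraicGeometry CategoryTheory CategoryTheory.Limits TopologicalSpace Opposite

variable {X Y Z : Scheme.{u}} {i : Z ⟶ X} {j : Z ⟶ Y} [IsClosedImmersion i]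

open Chart

lemma Chart.isPullback_local (α : Chart i j) :
    IsPullback (i.resLE α.U α.W α.W_le') (j.resLE α.V α.W α.W_le) α.a α.b := by
  have h0 : IsPullback (Spec.map (CommRingCat.ofHom α.φ)) (Spec.map (CommRingCat.ofHom α.ψ))
      (Spec.map (CommRingCat.ofHom α.p₁)) (Spec.map (CommRingCat.ofHom α.p₂)) :=
    isPullback_SpecMap_of_isPushout _ _ _ _ (FibProd.isPushout α.φ_surjective)
  refine h0.of_iso α.hW.isoSpec.symm α.hU.isoSpec.symm α.hV.isoSpec.symm (Iso.refl _) ?_ ?_ ?_ ?_
  · have := resLE_isoSpec_hom i α.hU α.hW α.W_le'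
    simp only [Iso.symm_hom]
    rw [← cancel_mono α.hU.isoSpec.hom, Category.assoc, Category.assoc, Iso.inv_hom_id,
      Category.comp_id, this, Iso.inv_hom_id_assoc]
    rfl
  · have := resLE_isoSpec_hom j α.hV α.hW α.W_le
    simp only [Iso.symm_hom]
    rw [← cancel_mono α.hV.isoSpec.hom, Category.assoc, Category.assoc, Iso.inv_hom_id,
      Category.comp_id, this, Iso.inv_hom_id_assoc]
    rfl
  · simp [Chart.a]
  · simp [Chart.b]

variable (hc : Covering i j)

/-- **The pushout square is cartesian.** -/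
theorem isPullback_toP : IsPullback i j (toP₁ hc) (toP₂ hc) := by
  refine Groth.Agent.Lib.Helper1.ObjDesc.isPullback_of_openCover i j (toP₁ hc) (toP₂ hc)
    (toP_comm hc) (coverX hc) fun α => ?_
  change ∃ (Q : Scheme.{u}) (q₁ : Q ⟶ Z) (q₂ : Q ⟶ (α.U : Scheme.{u})),
    IsPullback q₁ q₂ i α.U.ι ∧ IsPullback q₂ (q₁ ≫ j) (α.U.ι ≫ toP₁ hc) (toP₂ hc)
  refine ⟨α.W, α.W.ι, i.resLE α.U α.W α.W_le', ?_, ?_⟩
  · have := (isPullback_morphismRestrict i α.U).flip
    rw [← Scheme.Hom.resLE_eq_morphismRestrict] at this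
    exact this
  · have h1 := (α.isPullback_local).paste_vert (isPullback_b hc α)
    rw [Scheme.Hom.resLE_comp_ι, ← ι_toP₁ hc α] at h1
    exact h1

end Groth.Agent.Lib.Helper1.FP
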