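import Groth.Agent.Lib.Helper1.FP11

/-!
# Ferrand pushouts (helper1), part 12: two closed immersions
-/

set_option autoImplicit false
set_option linter.unusedSectionVars false
set_option linter.unusedVariables false
set_option linter.style.haveILetI false
universe u

noncomputable section

namespace Groth.Agent.Lib.Helper1.FP

open AlgebraicGeometry CategoryTheory CategoryTheory.Limits TopologicalSpace Opposite

/-- charts away from the second closed subscheme -/
lemma exists_chart_of_not_mem_range' {X Y Z : Scheme.{u}} (i : Z ⟶ X) (j : Z ⟶ Y)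
    [IsClosedImmersion j] (y : Y) (hy : y ∉ Set.range ⇑j) : ∃ α : Chart i j, y ∈ α.V := by
  have hcl : IsClosed (Set.range ⇑j) := j.isClosedEmbedding.isClosed_range
  let O : Y.Opens := ⟨(Set.range ⇑j)ᶜ, hcl.isOpen_compl⟩
  obtain ⟨W, hW, hyW, hWO⟩ := exists_isAffineOpen_mem_and_subset (x := y) (U := O) hy
  refine ⟨⟨⊥, W, isAffineOpen_bot X, hW, ?_⟩, hyW⟩
  ext z
  constructor
  · intro hz
    exact absurd hz (by simp)
  · intro hz
    exact absurd ⟨z, rfl⟩ (hWO hz)

/-- adapted pairs around a point of `Z` for two closed immersions -/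
lemma exists_chart_of_closedImmersions {X Y Z : Scheme.{u}} (i : Z ⟶ X) (j : Z ⟶ Y)
    [IsClosedImmersion i] [IsClosedImmersion j] (z : Z) :
    ∃ α : Chart i j, i z ∈ α.U ∧ j z ∈ α.V := by
  obtain ⟨U₀, hU₀, hzU₀, -⟩ := exists_isAffineOpen_mem_and_subset (x := i z) (U := ⊤) trivial
  obtain ⟨V₀, hV₀, hzV₀, -⟩ := exists_isAffineOpen_mem_and_subset (x := j z) (U := ⊤) trivial
  have hU₀' : IsAffineOpen (i ⁻¹ᵁ U₀) := hU₀.preimage i
  have hV₀' : IsAffineOpen (j ⁻¹ᵁ V₀) := hV₀.preimage j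
  obtain ⟨f, g, hfg, hzf⟩ := exists_basicOpen_le_affine_inter hU₀' hV₀' z ⟨hzU₀, hzV₀⟩
  obtain ⟨f', rfl⟩ := i.app_surjective U₀ hU₀ f
  obtain ⟨g', rfl⟩ := j.app_surjective V₀ hV₀ g
  rw [← Scheme.preimage_basicOpen, ← Scheme.preimage_basicOpen] at hfg
  refine ⟨⟨X.basicOpen f', Y.basicOpen g', hU₀.basicOpen f', hV₀.basicOpen g', hfg⟩, ?_, ?_⟩
  · rw [← Scheme.preimage_basicOpen] at hzf
    exact hzf
  · rw [← Scheme.preimage_basicOpen, hfg] at hzf
    exact hzf

/-- the covering for two closed immersions -/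
theorem covering_of_closedImmersions {X Y Z : Scheme.{u}} (i : Z ⟶ X) (j : Z ⟶ Y)
    [IsClosedImmersion i] [IsClosedImmersion j] : Covering i j := by
  refine ⟨fun x => ?_, fun y => ?_⟩
  · by_cases hx : x ∈ Set.range ⇑i
    · obtain ⟨z, rfl⟩ := hx
      obtain ⟨α, hα, -⟩ := exists_chart_of_closedImmersions i j z
      exact ⟨α, hα⟩
    · exact exists_chart_of_not_mem_range i j x hx
  · by_cases hy : y ∈ Set.range ⇑j
    · obtain ⟨z, rfl⟩ := hy
      obtain ⟨α, -, hα⟩ := exists_chart_of_closedImmersions i j z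
      exact ⟨α, hα⟩
    · exact exists_chart_of_not_mem_range' i j y hy

end Groth.Agent.Lib.Helper1.FP
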