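import Groth.Agent.Lib.Helper1.FP12

/-!
# Ferrand pushouts (helper1), part 13: integrality and finiteness of `X → P`
-/

set_option autoImplicit false
set_option linter.unusedSectionVars false
set_option linter.unusedVariables false
set_option linter.style.haveILetI false
universe u

noncomputable section

namespace Groth.Agent.Lib.Helper1.FP

open AlgebraicGeometry CategoryTheory CategoryTheory.Limits TopologicalSpace Opposite

namespace FibProd

variable {A B C : Type u} [CommRing A] [CommRing B] [CommRing C] {φ : A →+* C} {ψ : B →+* C}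

/-- If `ψ` is finite then so is the first projection. -/
theorem fst_finite (hφ : Function.Surjective φ) (hψ : ψ.Finite) : (fst φ ψ).Finite := by
  classical
  letI algB : Algebra B C := ψ.toAlgebra
  letI algR : Algebra (FibProd φ ψ) A := (fst φ ψ).toAlgebra
  have hfin : Module.Finite B C := hψ
  obtain ⟨s, hs⟩ := hfin.fg_top
  let lift : C → A := Function.surjInv hφ
  have hlift : ∀ c, φ (lift c) = c := Function.surjInv_eq hφ
  let T : Finset A := insert 1 (s.image lift)
  have hsmul : ∀ (r : FibProd φ ψ) (a : A), r • a = fst φ ψ r * a := fun r a => rfl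
  have hker : ∀ e : A, φ e = 0 → e ∈ Submodule.span (FibProd φ ψ) (T : Set A) := by
    intro e he
    have h1 : (1 : A) ∈ Submodule.span (FibProd φ ψ) (T : Set A) :=
      Submodule.subset_span (by simp [T])
    have h2 := Submodule.smul_mem _ (mk e 0 (by rw [he, map_zero])) h1
    rw [hsmul, fst_mk, mul_one] at h2
    exact h2
  have key : ∀ c ∈ Submodule.span B (s : Set C), ∀ a : A, φ a = c →
      a ∈ Submodule.span (FibProd φ ψ) (T : Set A) := by
    intro c hc
    induction hc using Submodule.span_induction with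
    | mem c hc =>
      intro a ha
      have h1 : lift c ∈ Submodule.span (FibProd φ ψ) (T : Set A) :=
        Submodule.subset_span (by
          simp only [T, Finset.coe_insert, Finset.coe_image]
          exact Or.inr ⟨c, hc, rfl⟩)
      have h2 := hker (a - lift c) (by rw [map_sub, ha, hlift, sub_self])
      have := Submodule.add_mem _ h1 h2
      rwa [add_sub_cancel] at this
    | zero => intro a ha; exact hker a ha
    | add c₁ c₂ _ _ h₁ h₂ =>
      intro a ha
      have h1 := h₁ (lift c₁) (hlift c₁)
      have h2 := h₂ (a - lift c₁) (by rw [map_sub, ha, hlift, add_sub_cancel_left])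
      have := Submodule.add_mem _ h1 h2
      rwa [add_sub_cancel] at this
    | smul b c₁ _ h₁ =>
      intro a ha
      have h1 := h₁ (lift c₁) (hlift c₁)
      have hb : φ (lift (ψ b)) = ψ b := hlift _
      have h2 := Submodule.smul_mem _ (mk (lift (ψ b)) b hb) h1
      rw [hsmul, fst_mk] at h2
      have h3 := hker (a - lift (ψ b) * lift c₁) (by
        rw [map_sub, ha, map_mul, hlift, hlift]
        change b • c₁ - ψ b * c₁ = 0
        rw [Algebra.smul_def]; exact sub_self _)
      have := Submodule.add_mem _ h2 h3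
      rwa [add_sub_cancel] at this
  refine ⟨⟨T, ?_⟩⟩
  rw [eq_top_iff]
  intro a _
  exact key (φ a) (by rw [hs]; trivial) a rfl

end FibProd

variable {X Y Z : Scheme.{u}} {i : Z ⟶ X} {j : Z ⟶ Y} [IsClosedImmersion i]

open Chart

namespace Chart

variable (α : Chart i j)

lemma ψ_eq : α.ψ = (Z.presheaf.map (homOfLE α.W_le).op).hom.comp (j.app α.V).hom := rfl

lemma resW'_surjective : Function.Surjective (Z.presheaf.map (homOfLE α.W_le).op).hom := by
  intro c
  refine ⟨Z.presheaf.map (homOfLE α.h.ge).op c, ?_⟩
  change (Z.presheaf.map (homOfLE α.W_le).op) ((Z.presheaf.map (homOfLE α.h.ge).op) c) = c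
  rw [← CommRingCat.comp_apply, ← Functor.map_comp]
  have : (homOfLE α.h.ge).op ≫ (homOfLE α.W_le).op = 𝟙 (op α.W) := Subsingleton.elim _ _
  rw [this, CategoryTheory.Functor.map_id]
  rfl

lemma ψ_isIntegral [IsIntegralHom j] : α.ψ.IsIntegral := by
  rw [ψ_eq]
  exact RingHom.IsIntegral.trans _ _ (j.isIntegral_app α.V α.hV)
    (RingHom.isIntegral_of_surjective _ α.resW'_surjective)

lemma ψ_finite [IsFinite j] : α.ψ.Finite := by
  rw [ψ_eq]
  exact RingHom.Finite.comp (RingHom.Finite.of_surjective _ α.resW'_surjective)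
    (j.finite_app α.V α.hV)

end Chart

variable (hc : Covering i j)

/-- if `j` is integral then so is `X → P` -/
theorem isIntegralHom_toP₁ [IsIntegralHom j] : IsIntegralHom (toP₁ hc) := by
  refine toP₁_of_charts hc @IsIntegralHom fun α => ?_
  have : IsIntegralHom (Spec.map (CommRingCat.ofHom α.p₁)) :=
    IsIntegralHom.SpecMap_iff.mpr (FibProd.fst_isIntegral α.φ_surjective α.ψ_isIntegral)
  rw [Chart.a]
  infer_instance

/-- if `j` is finite then so is `X → P` -/
theorem isFinite_toP₁ [IsFinite j] : IsFinite (toP₁ hc) := by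
  refine toP₁_of_charts hc @IsFinite fun α => ?_
  have : IsFinite (Spec.map (CommRingCat.ofHom α.p₁)) :=
    (IsFinite.SpecMap_iff _).mpr (FibProd.fst_finite α.φ_surjective α.ψ_finite)
  rw [Chart.a]
  infer_instance

/-- transfer of the properties to any pushout -/
theorem properties_of_isPushout {P' : Scheme.{u}} (a' : X ⟶ P') (b' : Y ⟶ P')
    (hP : IsPushout i j a' b') :
    IsPullback i j a' b' ∧ IsClosedImmersion b' ∧
      (∀ (Q : MorphismProperty Scheme.{u}) [Q.RespectsIso], Q (toP₁ hc) → Q a') := by
  let e : P i j ≅ P' := (isPushout_toP hc).isoIsPushout _ _ hP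
  have e1 : toP₁ hc ≫ e.hom = a' := (isPushout_toP hc).inl_isoIsPushout_hom _ _ hP
  have e2 : toP₂ hc ≫ e.hom = b' := (isPushout_toP hc).inr_isoIsPushout_hom _ _ hP
  refine ⟨?_, ?_, ?_⟩
  · refine (isPullback_toP hc).of_iso (Iso.refl _) (Iso.refl _) (Iso.refl _) e ?_ ?_ ?_ ?_
    · simp
    · simp
    · simpa using e1
    · simpa using e2
  · rw [← e2]; infer_instance
  · intro Q _ hQ
    rw [← e1]
    exact (Q.cancel_right_of_respectsIso _ _).mpr hQ

end Groth.Agent.Lib.Helper1.FP
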