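import Groth.Agent.Lib.Helper1.FP13

/-!
# Ferrand pushouts (helper1), part 14: complement functions on integral fibres; extension of
sections from an affine open of an affine scheme
-/

set_option autoImplicit false
set_option linter.unusedSectionVars false
set_option linter.unusedVariables false
set_option linter.style.haveILetI false
universe u

noncomputable section

namespace Groth.Agent.Lib.Helper1.FP

open AlgebraicGeometry CategoryTheory CategoryTheory.Limits TopologicalSpace Opposite Polynomial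

section Alg

variable {B E : Type u} [CommRing B] [CommRing E] (ψ : B →+* E) (𝔭 : Ideal B) [𝔭.IsPrime] (x : E)

lemma exists_compl_elem_aux (d : ℕ) : ∀ (P : B[X]) (k : ℕ), P.natDegree ≤ d →
    (∃ n, P.coeff n ∉ 𝔭) → x ^ k * eval₂ ψ x P ∈ 𝔭.map ψ →
    ∃ w : E, ∀ q : Ideal E, q.IsPrime → q.comap ψ = 𝔭 → (w ∈ q ↔ x ∉ q) := by
  induction d with
  | zero =>
    intro P k hdeg ⟨n, hn⟩ hmem
    have hP : P = C (P.coeff 0) := Polynomial.eq_C_of_natDegree_le_zero hdeg
    have hn0 : n = 0 := by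
      by_contra hne
      apply hn
      rw [hP, Polynomial.coeff_C, if_neg hne]
      exact 𝔭.zero_mem
    subst hn0
    refine ⟨eval₂ ψ x P, fun q hq hqp => ?_⟩
    rw [hP, eval₂_C]
    have h1 : ψ (P.coeff 0) ∉ q := fun h => hn (hqp ▸ (Ideal.mem_comap.mpr h))
    constructor
    · intro h; exact absurd h h1
    · intro hx
      rw [hP, eval₂_C] at hmem
      have hle : 𝔭.map ψ ≤ q := Ideal.map_le_iff_le_comap.mpr hqp.ge
      have := hle hmem
      rcases hq.mem_or_mem this with h | h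
      · exact absurd (hq.mem_of_pow_mem _ h) hx
      · exact h
  | succ d ih =>
    intro P k hdeg ⟨n, hn⟩ hmem
    have hdecomp : eval₂ ψ x P = eval₂ ψ x P.divX * x + ψ (P.coeff 0) := by
      conv_lhs => rw [← Polynomial.divX_mul_X_add P]
      rw [eval₂_add, eval₂_mul, eval₂_X, eval₂_C]
    by_cases h0 : P.coeff 0 ∈ 𝔭
    · -- recurse
      have hn' : ∃ m, P.divX.coeff m ∉ 𝔭 := by
        rcases Nat.eq_zero_or_pos n with rfl | hpos
        · exact absurd h0 hn
        · refine ⟨n - 1, ?_⟩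
          rw [Polynomial.coeff_divX, Nat.sub_add_cancel hpos]
          exact hn
      have hdeg' : P.divX.natDegree ≤ d := by
        rw [Polynomial.natDegree_divX_eq_natDegree_tsub_one]
        omega
      have hmem' : x ^ (k + 1) * eval₂ ψ x P.divX ∈ 𝔭.map ψ := by
        have h1 : x ^ k * ψ (P.coeff 0) ∈ 𝔭.map ψ :=
          Ideal.mul_mem_left _ _ (Ideal.mem_map_of_mem ψ h0)
        have h2 : x ^ (k + 1) * eval₂ ψ x P.divX =
            x ^ k * eval₂ ψ x P - x ^ k * ψ (P.coeff 0) := by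
          rw [hdecomp]; ring
        rw [h2]
        exact Ideal.sub_mem _ hmem h1
      exact ih P.divX (k + 1) hdeg' hn' hmem'
    · refine ⟨eval₂ ψ x P, fun q hq hqp => ?_⟩
      have h1 : ψ (P.coeff 0) ∉ q := fun h => h0 (hqp ▸ (Ideal.mem_comap.mpr h))
      constructor
      · intro h hx
        apply h1
        rw [hdecomp] at h
        have h2 : eval₂ ψ x P.divX * x ∈ q := q.mul_mem_left _ hx
        exact (Ideal.add_mem_iff_right q h2).mp h
      · intro hx
        have hle : 𝔭.map ψ ≤ q := Ideal.map_le_iff_le_comap.mpr hqp.ge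
        have := hle hmem
        rcases hq.mem_or_mem this with h | h
        · exact absurd (hq.mem_of_pow_mem _ h) hx
        · exact h

/-- **Lemma W**: on the fibre of an integral ring map over a prime, the vanishing locus of a
function is the non-vanishing locus of another. -/
theorem exists_compl_elem (hψ : ψ.IsIntegral) :
    ∃ w : E, ∀ q : Ideal E, q.IsPrime → q.comap ψ = 𝔭 → (w ∈ q ↔ x ∉ q) := by
  obtain ⟨P, hPm, hP⟩ := hψ x
  refine exists_compl_elem_aux ψ 𝔭 x P.natDegree P 0 le_rfl ⟨P.natDegree, ?_⟩ ?_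
  · rw [Polynomial.coeff_natDegree, hPm.leadingCoeff]
    intro h1
    exact (Ideal.IsPrime.ne_top ‹_›) ((Ideal.eq_top_iff_one _).mpr h1)
  · rw [hP, mul_zero]; exact Ideal.zero_mem _

end Alg

/-- **(Ext)** sections on an affine open of an affine open extend after multiplication by a power
of a function whose non-vanishing locus lies in the smaller open. -/
theorem exists_extension {Z : Scheme.{u}} {T Z₁ : Z.Opens} (hT : IsAffineOpen T)
    (hZ₁ : IsAffineOpen Z₁) (hle : Z₁ ≤ T) (f : Γ(Z, T)) (hf : Z.basicOpen f ≤ Z₁)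
    (c : Γ(Z, Z₁)) :
    ∃ (N : ℕ) (c' : Γ(Z, T)), Z.presheaf.map (homOfLE hle).op c' =
      c * (Z.presheaf.map (homOfLE hle).op f) ^ N := by
  set D := Z.basicOpen f with hD
  have hDT : D ≤ T := Z.basicOpen_le f
  set f₁ := Z.presheaf.map (homOfLE hle).op f with hf₁
  have hD₁ : D = Z.basicOpen f₁ := by
    rw [hf₁, Scheme.basicOpen_res]; exact (inf_eq_right.mpr hf).symm
  letI alg1 : Algebra Γ(Z, T) Γ(Z, D) := (Z.presheaf.map (homOfLE hDT).op).hom.toAlgebra
  letI alg2 : Algebra Γ(Z, Z₁) Γ(Z, D) := (Z.presheaf.map (homOfLE hf).op).hom.toAlgebra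
  haveI loc1 : IsLocalization.Away f Γ(Z, D) :=
    hT.isLocalization_of_eq_basicOpen f (homOfLE hDT) rfl
  haveI loc2 : IsLocalization.Away f₁ Γ(Z, D) :=
    hZ₁.isLocalization_of_eq_basicOpen f₁ (homOfLE hf) hD₁
  have hres : ∀ t : Γ(Z, T), algebraMap Γ(Z, Z₁) Γ(Z, D) (Z.presheaf.map (homOfLE hle).op t) =
      algebraMap Γ(Z, T) Γ(Z, D) t := by
    intro t
    change (Z.presheaf.map (homOfLE hf).op) ((Z.presheaf.map (homOfLE hle).op) t) =
      (Z.presheaf.map (homOfLE hDT).op) t
    rw [← CommRingCat.comp_apply, ← Functor.map_comp]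
    rfl
  obtain ⟨M, c₀, hc₀⟩ := IsLocalization.Away.surj f (algebraMap Γ(Z, Z₁) Γ(Z, D) c)
  have h0 : algebraMap Γ(Z, Z₁) Γ(Z, D) (c * f₁ ^ M) =
      algebraMap Γ(Z, Z₁) Γ(Z, D) (Z.presheaf.map (homOfLE hle).op c₀) := by
    rw [map_mul, map_pow, hres, hres, hc₀]
  obtain ⟨n, hn⟩ := IsLocalization.Away.exists_of_eq (S := Γ(Z, D)) f₁ h0
  refine ⟨M + n, c₀ * f ^ n, ?_⟩
  rw [map_mul, map_pow, ← hf₁, mul_comm _ (f₁ ^ n), ← hn, pow_add]
  ring

end Groth.Agent.Lib.Helper1.FP
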