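import Groth.Agent.Lib.Helper1.FP14

/-!
# Ferrand pushouts (helper1), part 15: adapted affine opens for a closed immersion and an
integral morphism
-/

set_option autoImplicit false
set_option linter.unusedSectionVars false
set_option linter.unusedVariables false
set_option linter.style.haveILetI false
universe u

noncomputable section

namespace Groth.Agent.Lib.Helper1.FP

open AlgebraicGeometry CategoryTheory CategoryTheory.Limits TopologicalSpace Opposite

section LemmaB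

variable {Y Z : Scheme.{u}} (j : Z ⟶ Y) [IsIntegralHom j] {V' : Y.Opens} (hV' : IsAffineOpen V')
  {T : Z.Opens} (hT : IsAffineOpen T) (hle : j ⁻¹ᵁ V' ≤ T) (y : Y) (hy : y ∈ V')

include hV' in
lemma hZ₁ : IsAffineOpen (j ⁻¹ᵁ V') := hV'.preimage j

/-- membership in a basic open, via the prime ideal of the smaller affine open -/
lemma mem_basicOpen_iff_res (g : Γ(Z, T)) (z : Z) (hz : z ∈ j ⁻¹ᵁ V') :
    z ∈ Z.basicOpen g ↔ Z.presheaf.map (homOfLE hle).op g ∉
      ((hZ₁ j hV').primeIdealOf ⟨z, hz⟩).asIdeal := by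
  have h1 := mem_basicOpen_iff_isoSpec (hZ₁ j hV') (Z.presheaf.map (homOfLE hle).op g) ⟨z, hz⟩
  rw [Scheme.basicOpen_res] at h1
  change _ ↔ (hZ₁ j hV').isoSpec.hom ⟨z, hz⟩ ∈ PrimeSpectrum.basicOpen _
  rw [← h1]
  exact ⟨fun h => ⟨hz, h⟩, fun h => h.2⟩

include hy in
/-- **(W)** at the scheme level -/
lemma exists_compl_section (x : Γ(Z, j ⁻¹ᵁ V')) :
    ∃ w : Γ(Z, j ⁻¹ᵁ V'), ∀ (z : Z) (hz : z ∈ j ⁻¹ᵁ V'), j z = y →
      (w ∈ ((hZ₁ j hV').primeIdealOf ⟨z, hz⟩).asIdeal ↔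
        x ∉ ((hZ₁ j hV').primeIdealOf ⟨z, hz⟩).asIdeal) := by
  have hint : (j.app V').hom.IsIntegral := j.isIntegral_app V' hV'
  obtain ⟨w, hw⟩ := exists_compl_elem (j.app V').hom (hV'.primeIdealOf ⟨y, hy⟩).asIdeal x hint
  refine ⟨w, fun z hz hzy => ?_⟩
  apply hw _ ((hZ₁ j hV').primeIdealOf ⟨z, hz⟩).isPrime
  have := IsAffineOpen.comap_primeIdealOf_appLE (f := j) V' hV' (j ⁻¹ᵁ V') (hZ₁ j hV') le_rfl hz
  rw [← Scheme.Hom.app_eq_appLE] at this
  have h2 := congrArg PrimeSpectrum.asIdeal this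
  refine Eq.trans h2 ?_
  congr 2
  exact Subtype.ext hzy

include hy hV' hT hle in
lemma exists_section_of_finset
    (S : Finset {f : Γ(Z, T) // Z.basicOpen f ≤ j ⁻¹ᵁ V'}) :
    ∃ u : Γ(Z, T), Z.basicOpen u ≤ j ⁻¹ᵁ V' ∧ ∀ z, j z = y →
      (∃ f ∈ S, z ∈ Z.basicOpen f.1) → z ∈ Z.basicOpen u := by
  classical
  induction S using Finset.induction_on with
  | empty =>
    refine ⟨0, by rw [Scheme.basicOpen_zero]; exact bot_le, ?_⟩
    rintro z - ⟨f, hf, -⟩
    exact absurd hf (Finset.notMem_empty _)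
  | insert f₀ S hf₀ ih =>
    obtain ⟨uS, huS, huS'⟩ := ih
    obtain ⟨w, hw⟩ := exists_compl_section j hV' y hy (Z.presheaf.map (homOfLE hle).op uS)
    obtain ⟨N, c', hc'⟩ := exists_extension hT (hZ₁ j hV') hle f₀.1 f₀.2 w
    refine ⟨uS + c' * f₀.1, ?_, ?_⟩
    · refine (Z.basicOpen_add_le _ _).trans (sup_le huS ?_)
      rw [Scheme.basicOpen_mul]
      exact inf_le_right.trans f₀.2
    · intro z hzy hex
      have hz : z ∈ j ⁻¹ᵁ V' := by
        change j z ∈ V'; rw [hzy]; exact hy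
      rw [mem_basicOpen_iff_res j hV' hle _ z hz, map_add, map_mul, hc']
      set q := ((hZ₁ j hV').primeIdealOf ⟨z, hz⟩).asIdeal with hq
      have hqp : q.IsPrime := ((hZ₁ j hV').primeIdealOf ⟨z, hz⟩).isPrime
      have hwz := hw z hz hzy
      by_cases hx : Z.presheaf.map (homOfLE hle).op uS ∈ q
      · -- then `z ∈ D(f₀)`
        have hzf₀ : z ∈ Z.basicOpen f₀.1 := by
          obtain ⟨f, hf, hzf⟩ := hex
          rcases Finset.mem_insert.mp hf with rfl | hfS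
          · exact hzf
          · exfalso
            have := huS' z hzy ⟨f, hfS, hzf⟩
            rw [mem_basicOpen_iff_res j hV' hle _ z hz] at this
            exact this hx
        rw [mem_basicOpen_iff_res j hV' hle _ z hz] at hzf₀
        have hwq : w ∉ q := fun h => (hwz.mp h) hx
        intro hmem
        have h2 := (Ideal.add_mem_iff_right q hx).mp hmem
        rcases hqp.mem_or_mem h2 with h | h
        · rcases hqp.mem_or_mem h with h | h
          · exact hwq h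
          · exact hzf₀ (hqp.mem_of_pow_mem _ h)
        · exact hzf₀ h
      · have hwq : w ∈ q := hwz.mpr hx
        intro hmem
        have h1 : w * (Z.presheaf.map (homOfLE hle).op) f₀.1 ^ N *
            (Z.presheaf.map (homOfLE hle).op) f₀.1 ∈ q :=
          q.mul_mem_right _ (q.mul_mem_right _ hwq)
        exact hx ((Ideal.add_mem_iff_left q h1).mp hmem)

include hy hV' hT hle in
/-- **Lemma B** -/
theorem exists_section_fibre :
    ∃ u : Γ(Z, T), Z.basicOpen u ≤ j ⁻¹ᵁ V' ∧ ∀ z, j z = y → z ∈ Z.basicOpen u := by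
  have hcpt : IsCompact ((j ⁻¹ᵁ V' : Z.Opens) : Set Z) := (hZ₁ j hV').isCompact
  obtain ⟨S, hS⟩ := hcpt.elim_finite_subcover
    (fun f : {f : Γ(Z, T) // Z.basicOpen f ≤ j ⁻¹ᵁ V'} => (Z.basicOpen f.1 : Set Z))
    (fun f => (Z.basicOpen f.1).2) (by
      intro z hz
      obtain ⟨f, hf1, hf2⟩ := hT.exists_basicOpen_le (V := j ⁻¹ᵁ V') ⟨z, hz⟩ (hle hz)
      exact Set.mem_iUnion.mpr ⟨⟨f, hf1⟩, hf2⟩)
  obtain ⟨u, hu1, hu2⟩ := exists_section_of_finset j hV' hT hle y hy S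
  refine ⟨u, hu1, fun z hzy => hu2 z hzy ?_⟩
  have hz : z ∈ j ⁻¹ᵁ V' := by
    change j z ∈ V'; rw [hzy]; exact hy
  obtain ⟨f, hf⟩ := Set.mem_iUnion.mp (hS hz)
  obtain ⟨hfS, hzf⟩ := Set.mem_iUnion.mp hf
  exact ⟨f, hfS, hzf⟩

end LemmaB

end Groth.Agent.Lib.Helper1.FP
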