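import Groth.Agent.Lib.Helper1.FP16
import Groth.Agent.Lib.Helper1.AffThick

/-!
# Ferrand pushouts (helper1), part 17: thickenings and affine morphisms; joint surjectivity
-/

set_option autoImplicit false
set_option linter.unusedSectionVars false
set_option linter.unusedVariables false
set_option linter.style.haveILetI false
universe u

noncomputable section

namespace Groth.Agent.Lib.Helper1.FP

open AlgebraicGeometry CategoryTheory CategoryTheory.Limits TopologicalSpace Opposite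

/-- every point of the pushout comes from `X` or from `Y` -/
theorem toP_jointly_surjective {X Y Z : Scheme.{u}} {i : Z ⟶ X} {j : Z ⟶ Y} [IsClosedImmersion i]
    (hc : Covering i j) (p : P i j) : (∃ x, toP₁ hc x = p) ∨ (∃ y, toP₂ hc y = p) := by
  obtain ⟨α, q, rfl⟩ := ι_jointly_surjective p
  obtain ⟨x, rfl⟩ | ⟨y, rfl⟩ := α.exists_a_or_b q
  · exact Or.inl ⟨x.1, toP₁_apply hc α x⟩
  · exact Or.inr ⟨y.1, toP₂_apply hc α y⟩

/-- the covering for a thickening and an affine morphism -/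
theorem covering_of_thickening {X X' Y : Scheme.{u}} (t : X ⟶ X') [IsClosedImmersion t]
    (ht : Function.Surjective t) (f : X ⟶ Y) [IsAffineHom f] : Covering t f := by
  have key : ∀ y : Y, ∃ α : Chart t f, y ∈ α.V ∧ α.V = α.V := by
    intro y
    obtain ⟨V, hV, hyV, -⟩ := exists_isAffineOpen_mem_and_subset (x := y) (U := ⊤) trivial
    have h1 : IsAffineOpen (f ⁻¹ᵁ V) := hV.preimage f
    have h2 : t ⁻¹ᵁ (AffThick.img t ht (f ⁻¹ᵁ V)) = f ⁻¹ᵁ V := AffThick.preimage_img t ht _
    have h3 : IsAffineOpen (AffThick.img t ht (f ⁻¹ᵁ V)) :=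
      AffThick.isAffineOpen_of_preimage t ht _ (by rw [h2]; exact h1)
    exact ⟨⟨_, V, h3, hV, h2⟩, hyV, rfl⟩
  refine ⟨fun x' => ?_, fun y => ?_⟩
  · obtain ⟨x, rfl⟩ := ht x'
    obtain ⟨α, hα, -⟩ := key (f x)
    refine ⟨α, ?_⟩
    change x ∈ t ⁻¹ᵁ α.U
    rw [α.h]
    exact hα
  · obtain ⟨α, hα, -⟩ := key y
    exact ⟨α, hα⟩

/-- surjectivity of `Y → P` when `i` is surjective -/
theorem toP₂_surjective {X Y Z : Scheme.{u}} {i : Z ⟶ X} {j : Z ⟶ Y} [IsClosedImmersion i]
    (hc : Covering i j) (hi : Function.Surjective i) : Function.Surjective (toP₂ hc) := by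
  intro p
  obtain ⟨x, rfl⟩ | ⟨y, rfl⟩ := toP_jointly_surjective hc p
  · obtain ⟨z, rfl⟩ := hi x
    refine ⟨j z, ?_⟩
    have := congr($(toP_comm hc) z)
    rw [Scheme.Hom.comp_apply, Scheme.Hom.comp_apply] at this
    exact this.symm
  · exact ⟨y, rfl⟩

end Groth.Agent.Lib.Helper1.FP
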