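import Groth.Agent.Lib.Helper1.FP17

/-!
# Ferrand pushouts (helper1), part 18: finite type over a Noetherian base (Artin–Tate)
-/

set_option autoImplicit false
set_option linter.unusedSectionVars false
set_option linter.unusedVariables false
set_option linter.style.haveILetI false
universe u

noncomputable section

namespace Groth.Agent.Lib.Helper1.FP

open AlgebraicGeometry CategoryTheory CategoryTheory.Limits TopologicalSpace Opposite

namespace FibProd

variable {A B C : Type u} [CommRing A] [CommRing B] [CommRing C] {φ : A →+* C} {ψ : B →+* C}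

/-- Artin–Tate for the fibre product. -/
theorem lift_finiteType {D : Type u} [CommRing D] [IsNoetherianRing D] (ρA : D →+* A)
    (ρB : D →+* B) (h : φ.comp ρA = ψ.comp ρB) (hφ : Function.Surjective φ) (hψ : ψ.Finite)
    (hA : ρA.FiniteType) (hB : ρB.FiniteType) : (lift ρA ρB h).FiniteType := by
  letI algDA : Algebra D A := ρA.toAlgebra
  letI algDB : Algebra D B := ρB.toAlgebra
  letI algDR : Algebra D (FibProd φ ψ) := (lift ρA ρB h).toAlgebra
  letI algRA : Algebra (FibProd φ ψ) A := (fst φ ψ).toAlgebra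
  letI algRB : Algebra (FibProd φ ψ) B := (snd φ ψ).toAlgebra
  haveI towA : IsScalarTower D (FibProd φ ψ) A := IsScalarTower.of_algebraMap_eq fun d => rfl
  haveI towB : IsScalarTower D (FibProd φ ψ) B := IsScalarTower.of_algebraMap_eq fun d => rfl
  haveI tow : IsScalarTower D (FibProd φ ψ) (A × B) := IsScalarTower.of_algebraMap_eq fun d => rfl
  haveI ftA : Algebra.FiniteType D A := hA
  haveI ftB : Algebra.FiniteType D B := hB
  haveI finA : Module.Finite (FibProd φ ψ) A := fst_finite hφ hψ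
  haveI finB : Module.Finite (FibProd φ ψ) B :=
    RingHom.Finite.of_surjective _ (snd_surjective hφ)
  have hAC : (⊤ : Subalgebra D (A × B)).FG := (inferInstance : Algebra.FiniteType D (A × B)).out
  have hBC : (⊤ : Submodule (FibProd φ ψ) (A × B)).FG :=
    (inferInstance : Module.Finite (FibProd φ ψ) (A × B)).fg_top
  have hinj : Function.Injective (algebraMap (FibProd φ ψ) (A × B)) := by
    intro x y hxy
    exact Subtype.ext hxy
  exact ⟨fg_of_fg_of_fg D (FibProd φ ψ) (A × B) hAC hBC hinj⟩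

end FibProd

variable {X Y Z : Scheme.{u}} {i : Z ⟶ X} {j : Z ⟶ Y} [IsClosedImmersion i]

open Chart

section

variable {S : Scheme.{u}} [IsLocallyNoetherian S] {p : X ⟶ S} {q : Y ⟶ S} (w : i ≫ p = j ≫ q)
  [LocallyOfFiniteType p] [LocallyOfFiniteType q] [IsFinite j]

lemma locallyOfFiniteType_descα (α : Chart i j) (W : S.Opens) (hW : IsAffineOpen W)
    (hgU : α.U ≤ p ⁻¹ᵁ W) (hhV : α.V ≤ q ⁻¹ᵁ W) :
    LocallyOfFiniteType (descα w α W hW hgU hhV) := by
  haveI : IsNoetherianRing Γ(S, W) := IsLocallyNoetherian.component_noetherian ⟨W, hW⟩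
  have h1 : (p.appLE W α.U hgU).hom.FiniteType :=
    HasRingHomProperty.appLE (P := @LocallyOfFiniteType) p inferInstance ⟨W, hW⟩ ⟨α.U, α.hU⟩ hgU
  have h2 : (q.appLE W α.V hhV).hom.FiniteType :=
    HasRingHomProperty.appLE (P := @LocallyOfFiniteType) q inferInstance ⟨W, hW⟩ ⟨α.V, α.hV⟩ hhV
  have h3 : (ρ w α W hgU hhV).FiniteType :=
    FibProd.lift_finiteType _ _ _ α.φ_surjective α.ψ_finite h1 h2
  have h4 : LocallyOfFiniteType (Spec.map (CommRingCat.ofHom (ρ w α W hgU hhV))) :=
    (HasRingHomProperty.Spec_iff (P := @LocallyOfFiniteType)).mpr h3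
  rw [descα]
  infer_instance

/-- the induced map `P → S` is locally of finite type -/
theorem locallyOfFiniteType_descP : LocallyOfFiniteType (descP w) := by
  refine IsZariskiLocalAtSource.of_openCover (P := @LocallyOfFiniteType) (coverP w) fun α => ?_
  change LocallyOfFiniteType (ι i j α.1 ≫ descP w)
  rw [ι_descP w α.1 α.2]
  exact locallyOfFiniteType_descα w α.1 _ _ _ _

end

/-- any map out of any pushout is the transport of `descP` -/
theorem eq_descP_of_isPushout (hc : Covering i j) {P' : Scheme.{u}} (a' : X ⟶ P') (b' : Y ⟶ P')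
    (hP : IsPushout i j a' b') {S : Scheme.{u}} (r : P' ⟶ S) :
    ∃ (e : P i j ≅ P') (w : i ≫ (a' ≫ r) = j ≫ (b' ≫ r)),
      toP₁ hc ≫ e.hom = a' ∧ toP₂ hc ≫ e.hom = b' ∧ e.hom ≫ r = descP w := by
  let e : P i j ≅ P' := (isPushout_toP hc).isoIsPushout _ _ hP
  have e1 : toP₁ hc ≫ e.hom = a' := (isPushout_toP hc).inl_isoIsPushout_hom _ _ hP
  have e2 : toP₂ hc ≫ e.hom = b' := (isPushout_toP hc).inr_isoIsPushout_hom _ _ hP
  have w : i ≫ (a' ≫ r) = j ≫ (b' ≫ r) := by rw [← Category.assoc, hP.w, Category.assoc]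
  refine ⟨e, w, e1, e2, descP_uniq hc w _ ?_ ?_⟩
  · rw [← Category.assoc, e1]
  · rw [← Category.assoc, e2]

end Groth.Agent.Lib.Helper1.FP
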