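import Groth.Agent.Lib.Helper1.FP18

/-!
# Ferrand pushouts (helper1), part 19: properties descending along a jointly surjective pair
-/

set_option autoImplicit false
set_option linter.unusedSectionVars false
set_option linter.unusedVariables false
set_option linter.style.haveILetI false
universe u

noncomputable section

namespace Groth.Agent.Lib.Helper1.FP

open AlgebraicGeometry CategoryTheory CategoryTheory.Limits TopologicalSpace Opposite MorphismProperty

section Abstract

variable {X Y P S Q : Scheme.{u}} (a : X ⟶ P) (b : Y ⟶ P)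
  (hab : ∀ p : P, (∃ x, a x = p) ∨ (∃ y, b y = p))

include hab in
theorem quasiCompact_of_jointly_surjective (f : P ⟶ Q) [QuasiCompact (a ≫ f)]
    [QuasiCompact (b ≫ f)] : QuasiCompact f := by
  constructor
  intro U hU hUc
  have h1 := QuasiCompact.isCompact_preimage (f := a ≫ f) U hU hUc
  have h2 := QuasiCompact.isCompact_preimage (f := b ≫ f) U hU hUc
  have : (f ⁻¹' U : Set P) = a '' ((a ≫ f) ⁻¹' U) ∪ b '' ((b ≫ f) ⁻¹' U) := by
    ext p
    constructor
    · intro hp
      rcases hab p with ⟨x, rfl⟩ | ⟨y, rfl⟩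
      · exact Or.inl ⟨x, by simpa [Scheme.Hom.comp_apply] using hp, rfl⟩
      · exact Or.inr ⟨y, by simpa [Scheme.Hom.comp_apply] using hp, rfl⟩
    · rintro (⟨x, hx, rfl⟩ | ⟨y, hy, rfl⟩)
      · simpa [Scheme.Hom.comp_apply] using hx
      · simpa [Scheme.Hom.comp_apply] using hy
  rw [this]
  exact (h1.image a.continuous).union (h2.image b.continuous)

include hab in
theorem isClosed_range_of_jointly_surjective (f : P ⟶ Q) (h1 : IsClosed (Set.range ⇑(a ≫ f)))
    (h2 : IsClosed (Set.range ⇑(b ≫ f))) : IsClosed (Set.range ⇑f) := by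
  have : Set.range ⇑f = Set.range ⇑(a ≫ f) ∪ Set.range ⇑(b ≫ f) := by
    ext q
    constructor
    · rintro ⟨p, rfl⟩
      rcases hab p with ⟨x, rfl⟩ | ⟨y, rfl⟩
      · exact Or.inl ⟨x, by rw [Scheme.Hom.comp_apply]⟩
      · exact Or.inr ⟨y, by rw [Scheme.Hom.comp_apply]⟩
    · rintro (⟨x, rfl⟩ | ⟨y, rfl⟩)
      · exact ⟨a x, by rw [Scheme.Hom.comp_apply]⟩
      · exact ⟨b y, by rw [Scheme.Hom.comp_apply]⟩
  rw [this]
  exact h1.union h2

include hab in
theorem universallyClosed_of_jointly_surjective (r : P ⟶ S) [UniversallyClosed (a ≫ r)]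
    [UniversallyClosed (b ≫ r)] : UniversallyClosed r := by
  constructor
  intro P' S' fst g r' hpb
  -- `IsPullback r' fst g r`
  have hA : IsPullback (pullback.snd a fst ≫ r') (pullback.fst a fst) g (a ≫ r) :=
    (IsPullback.of_hasPullback a fst).flip.paste_horiz hpb
  have hB : IsPullback (pullback.snd b fst ≫ r') (pullback.fst b fst) g (b ≫ r) :=
    (IsPullback.of_hasPullback b fst).flip.paste_horiz hpb
  have cA : IsClosedMap ⇑(pullback.snd a fst ≫ r') :=
    (UniversallyClosed.universally_isClosedMap (f := a ≫ r)) _ _ _ hA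
  have cB : IsClosedMap ⇑(pullback.snd b fst ≫ r') :=
    (UniversallyClosed.universally_isClosedMap (f := b ≫ r)) _ _ _ hB
  intro C hC
  have : (r' '' C : Set S') = (pullback.snd a fst ≫ r') '' ((pullback.snd a fst) ⁻¹' C) ∪
      (pullback.snd b fst ≫ r') '' ((pullback.snd b fst) ⁻¹' C) := by
    ext s
    constructor
    · rintro ⟨p', hp', rfl⟩
      rcases hab (fst p') with ⟨x, hx⟩ | ⟨y, hy⟩
      · obtain ⟨z, hz1, hz2⟩ := Scheme.Pullback.exists_preimage_pullback (f := a) (g := fst) x p' hx
        refine Or.inl ⟨z, ?_, ?_⟩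
        · change pullback.snd a fst z ∈ C; rw [hz2]; exact hp'
        · rw [Scheme.Hom.comp_apply, hz2]
      · obtain ⟨z, hz1, hz2⟩ := Scheme.Pullback.exists_preimage_pullback (f := b) (g := fst) y p' hy
        refine Or.inr ⟨z, ?_, ?_⟩
        · change pullback.snd b fst z ∈ C; rw [hz2]; exact hp'
        · rw [Scheme.Hom.comp_apply, hz2]
    · rintro (⟨z, hz, rfl⟩ | ⟨z, hz, rfl⟩)
      · exact ⟨pullback.snd a fst z, hz, by rw [Scheme.Hom.comp_apply]⟩
      · exact ⟨pullback.snd b fst z, hz, by rw [Scheme.Hom.comp_apply]⟩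
  rw [this]
  exact (cA _ (hC.preimage (pullback.snd a fst).continuous)).union
    (cB _ (hC.preimage (pullback.snd b fst).continuous))

/-- the product map `X ×_S X → P ×_S P` -/
abbrev prodMap (r : P ⟶ S) : pullback (a ≫ r) (a ≫ r) ⟶ pullback r r :=
  pullback.map (a ≫ r) (a ≫ r) r r a a (𝟙 S) ((Category.comp_id _).trans rfl)
    ((Category.comp_id _).trans rfl)

lemma diagonal_prodMap (r : P ⟶ S) :
    pullback.diagonal (a ≫ r) ≫ prodMap a r = a ≫ pullback.diagonal r := by
  apply pullback.hom_ext
  · rw [Category.assoc, Category.assoc, pullback.lift_fst, pullback.diagonal_fst,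
      pullback.diagonal_fst_assoc, Category.comp_id]
  · rw [Category.assoc, Category.assoc, pullback.lift_snd, pullback.diagonal_snd,
      pullback.diagonal_snd_assoc, Category.comp_id]

include hab in
theorem isSeparated_of_jointly_surjective (r : P ⟶ S) [UniversallyClosed a] [UniversallyClosed b]
    [IsSeparated (a ≫ r)] [IsSeparated (b ≫ r)] : IsSeparated r := by
  constructor
  apply IsClosedImmersion.of_isPreimmersion
  refine isClosed_range_of_jointly_surjective a b hab (pullback.diagonal r) ?_ ?_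
  · rw [← diagonal_prodMap a r]
    have h1 : UniversallyClosed (prodMap a r) :=
      MorphismProperty.pullbackMap (P := @UniversallyClosed) ‹_› ‹_› rfl rfl
    have h2 : IsClosedMap ⇑(pullback.diagonal (a ≫ r) ≫ prodMap a r) := by
      have := (prodMap a r).isClosedMap.comp (pullback.diagonal (a ≫ r)).isClosedEmbedding.isClosedMap
      exact this
    exact h2.isClosed_range
  · rw [← diagonal_prodMap b r]
    have h1 : UniversallyClosed (prodMap b r) :=
      MorphismProperty.pullbackMap (P := @UniversallyClosed) ‹_› ‹_› rfl rfl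
    have h2 : IsClosedMap ⇑(pullback.diagonal (b ≫ r) ≫ prodMap b r) := by
      have := (prodMap b r).isClosedMap.comp (pullback.diagonal (b ≫ r)).isClosedEmbedding.isClosedMap
      exact this
    exact h2.isClosed_range

include hab in
theorem quasiSeparated_of_jointly_surjective (r : P ⟶ S) [QuasiCompact a] [QuasiCompact b]
    [QuasiSeparated (a ≫ r)] [QuasiSeparated (b ≫ r)] : QuasiSeparated r := by
  constructor
  have hA : QuasiCompact (prodMap a r) :=
    MorphismProperty.pullbackMap (P := @QuasiCompact) ‹_› ‹_› rfl rfl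
  have hB : QuasiCompact (prodMap b r) :=
    MorphismProperty.pullbackMap (P := @QuasiCompact) ‹_› ‹_› rfl rfl
  haveI : QuasiCompact (a ≫ pullback.diagonal r) := by
    rw [← diagonal_prodMap a r]; infer_instance
  haveI : QuasiCompact (b ≫ pullback.diagonal r) := by
    rw [← diagonal_prodMap b r]; infer_instance
  exact quasiCompact_of_jointly_surjective a b hab (pullback.diagonal r)

end Abstract

end Groth.Agent.Lib.Helper1.FP

namespace Groth.Agent.Lib.Helper1.FP

open AlgebraicGeometry CategoryTheory CategoryTheory.Limits TopologicalSpace Opposite MorphismProperty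

/-- joint surjectivity for an arbitrary pushout -/
theorem jointly_surjective_of_isPushout {X Y Z : Scheme.{u}} {i : Z ⟶ X} {j : Z ⟶ Y}
    [IsClosedImmersion i] (hc : Covering i j) {P' : Scheme.{u}} (a' : X ⟶ P') (b' : Y ⟶ P')
    (hP : IsPushout i j a' b') (p : P') : (∃ x, a' x = p) ∨ (∃ y, b' y = p) := by
  obtain ⟨e, -, e1, e2, -⟩ := eq_descP_of_isPushout hc a' b' hP (𝟙 P')
  have hp : e.hom (e.inv p) = p := by
    rw [← Scheme.Hom.comp_apply, Iso.inv_hom_id]; rfl
  rcases toP_jointly_surjective hc (e.inv p) with ⟨x, hx⟩ | ⟨y, hy⟩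
  · refine Or.inl ⟨x, ?_⟩
    rw [← e1, Scheme.Hom.comp_apply, hx, hp]
  · refine Or.inr ⟨y, ?_⟩
    rw [← e2, Scheme.Hom.comp_apply, hy, hp]

end Groth.Agent.Lib.Helper1.FP
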