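import Groth.Agent.Lib.Helper1.FP1

/-!
# Ferrand pushouts (helper1), part 2: more algebra of the fibre product

pushout square in `CommRingCat`, integrality, refinement lemma on spectra.
-/

set_option autoImplicit false
set_option linter.unusedSectionVars false
set_option linter.unusedVariables false
universe u

namespace Groth.Agent.Lib.Helper1.FP

open CategoryTheory CategoryTheory.Limits

variable {A B C : Type u} [CommRing A] [CommRing B] [CommRing C]

namespace FibProd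

variable {φ : A →+* C} {ψ : B →+* C}

/-- `C = A ⊗_{A ×_C B} B` when `φ` is surjective. -/
theorem isPushout (hφ : Function.Surjective φ) :
    IsPushout (CommRingCat.ofHom (fst φ ψ)) (CommRingCat.ofHom (snd φ ψ))
      (CommRingCat.ofHom φ) (CommRingCat.ofHom ψ) := by
  have hw : CommRingCat.ofHom (fst φ ψ) ≫ CommRingCat.ofHom φ =
      CommRingCat.ofHom (snd φ ψ) ≫ CommRingCat.ofHom ψ := by
    ext x; exact condition_apply x
  refine ⟨⟨hw⟩, ⟨PushoutCocone.IsColimit.mk _ (fun s => ?_) ?_ ?_ ?_⟩⟩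
  · -- desc
    have hs : (s.inl.hom).comp (fst φ ψ) = (s.inr.hom).comp (snd φ ψ) := by
      have := s.condition
      exact congrArg CommRingCat.Hom.hom this
    refine CommRingCat.ofHom (RingHom.liftOfSurjective φ hφ ⟨s.inl.hom, ?_⟩)
    intro a ha
    rw [RingHom.mem_ker] at ha ⊢
    have := congr($hs (mk a 0 (by rw [ha, map_zero])))
    simpa using this
  · intro s
    ext a
    exact RingHom.liftOfRightInverse_comp_apply φ (Function.surjInv hφ) (Function.rightInverse_surjInv hφ) _ a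
  · intro s
    ext b
    have hs : (s.inl.hom).comp (fst φ ψ) = (s.inr.hom).comp (snd φ ψ) :=
      congrArg CommRingCat.Hom.hom s.condition
    obtain ⟨a, ha⟩ := hφ (ψ b)
    have h1 := congr($hs (mk a b ha))
    simp only [RingHom.comp_apply, fst_mk, snd_mk] at h1
    change (RingHom.liftOfSurjective φ hφ _) (ψ b) = _
    rw [← ha]
    exact (RingHom.liftOfRightInverse_comp_apply φ (Function.surjInv hφ) (Function.rightInverse_surjInv hφ) _ a).trans h1
  · intro s m hm1 hm2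
    ext c
    obtain ⟨a, rfl⟩ := hφ c
    have := congr($hm1 a)
    refine Eq.trans ?_ (RingHom.liftOfRightInverse_comp_apply φ (Function.surjInv hφ) (Function.rightInverse_surjInv hφ) _ a).symm
    exact this

/-- If `ψ` is integral then so is the first projection. -/
theorem fst_isIntegral (hφ : Function.Surjective φ) (hψ : ψ.IsIntegral) :
    (fst φ ψ).IsIntegral := by
  intro a
  obtain ⟨p, hpm, hp⟩ := hψ (φ a)
  have hsnd : Function.Surjective (snd φ ψ) := snd_surjective hφ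
  have hpl : p ∈ Polynomial.lifts (snd φ ψ) :=
    (Polynomial.mem_lifts p).mpr (Polynomial.map_surjective _ hsnd p)
  obtain ⟨P₀, hP₀, hdeg, hP₀m⟩ := Polynomial.lifts_and_natDegree_eq_and_monic hpl hpm
  -- the value of `P₀` at `a`
  set a₁ := Polynomial.eval₂ (fst φ ψ) a P₀ with ha₁
  have hφa₁ : φ a₁ = 0 := by
    rw [ha₁, Polynomial.hom_eval₂, condition, ← Polynomial.eval₂_map, hP₀]
    exact hp
  let r : FibProd φ ψ := mk (a₁ * a) 0 (by rw [map_mul, hφa₁, zero_mul, map_zero])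
  refine ⟨P₀ * Polynomial.X - Polynomial.C r, ?_, ?_⟩
  · by_cases htriv : Nontrivial (FibProd φ ψ)
    · apply Polynomial.Monic.sub_of_left (hP₀m.mul Polynomial.monic_X)
      refine lt_of_le_of_lt Polynomial.degree_C_le ?_
      rw [Polynomial.degree_mul_X, Polynomial.degree_eq_natDegree hP₀m.ne_zero]
      exact_mod_cast Nat.succ_pos _
    · rw [not_nontrivial_iff_subsingleton] at htriv
      exact Subsingleton.elim _ _
  · rw [Polynomial.eval₂_sub, Polynomial.eval₂_mul, Polynomial.eval₂_X, Polynomial.eval₂_C, ← ha₁]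
    simp [r]

/-- **Refinement lemma**, part (i). -/
theorem exists_basicOpen_le_snd (hφ : Function.Surjective φ)
    (U' : Set (PrimeSpectrum A)) (hU' : IsOpen U') (V' : Set (PrimeSpectrum B)) (hV' : IsOpen V')
    (h : PrimeSpectrum.comap φ ⁻¹' U' = PrimeSpectrum.comap ψ ⁻¹' V')
    (y : PrimeSpectrum B) (hy : y ∈ V') :
    ∃ r : FibProd φ ψ, y ∈ PrimeSpectrum.basicOpen (snd φ ψ r) ∧
      (PrimeSpectrum.basicOpen (snd φ ψ r) : Set _) ⊆ V' ∧
      (PrimeSpectrum.basicOpen (fst φ ψ r) : Set _) ⊆ U' := by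
  obtain ⟨_, ⟨b₀, rfl⟩, hyb₀, hb₀V⟩ :=
    (TopologicalSpace.Opens.isBasis_iff_nbhd.mp PrimeSpectrum.isBasis_basic_opens)
      (show y ∈ (⟨V', hV'⟩ : TopologicalSpace.Opens (PrimeSpectrum B)) from hy)
  set 𝔞 := PrimeSpectrum.vanishingIdeal U'ᶜ with h𝔞
  have hzl : PrimeSpectrum.zeroLocus (𝔞 : Set A) = U'ᶜ := by
    rw [h𝔞, PrimeSpectrum.zeroLocus_vanishingIdeal_eq_closure]
    exact hU'.isClosed_compl.closure_eq
  have hsub : PrimeSpectrum.zeroLocus ((𝔞.map φ : Ideal C) : Set C) ⊆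
      PrimeSpectrum.zeroLocus {ψ b₀} := by
    intro z hz
    have hz1 : PrimeSpectrum.comap φ z ∈ PrimeSpectrum.zeroLocus (𝔞 : Set A) := by
      intro a ha
      exact hz (Ideal.mem_map_of_mem φ ha)
    rw [hzl] at hz1
    have hz2 : z ∉ PrimeSpectrum.comap ψ ⁻¹' V' := by
      rw [← h]; exact hz1
    rw [PrimeSpectrum.mem_zeroLocus, Set.singleton_subset_iff]
    by_contra hcon
    apply hz2
    apply hb₀V
    change PrimeSpectrum.comap ψ z ∈ PrimeSpectrum.basicOpen b₀
    rw [PrimeSpectrum.mem_basicOpen]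
    exact hcon
  rw [← PrimeSpectrum.zeroLocus_span {ψ b₀}, PrimeSpectrum.zeroLocus_subset_zeroLocus_iff,
    Ideal.span_le, Set.singleton_subset_iff] at hsub
  obtain ⟨n, hn⟩ := hsub
  obtain ⟨a₁, ha₁, ha₁n⟩ := (Ideal.mem_map_iff_of_surjective φ hφ).mp hn
  obtain ⟨a₂, ha₂⟩ := hφ (ψ b₀)
  refine ⟨mk (a₁ * a₂) (b₀ ^ (n + 1)) ?_, ?_, ?_, ?_⟩
  · rw [map_mul, ha₁n, ha₂, map_pow, pow_succ]
  · rw [snd_mk, PrimeSpectrum.basicOpen_pow _ _ (Nat.succ_pos n)]; exact hyb₀
  · rw [snd_mk, PrimeSpectrum.basicOpen_pow _ _ (Nat.succ_pos n)]; exact hb₀V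
  · intro x hx
    rw [fst_mk, PrimeSpectrum.basicOpen_mul] at hx
    have hx1 : a₁ ∉ x.asIdeal := (PrimeSpectrum.mem_basicOpen _ _).mp hx.1
    by_contra hxU
    have : x ∈ PrimeSpectrum.zeroLocus (𝔞 : Set A) := by rw [hzl]; exact hxU
    exact hx1 (this ha₁)

/-- **Refinement lemma**, part (ii). -/
theorem exists_basicOpen_le_fst (hφ : Function.Surjective φ)
    (U' : Set (PrimeSpectrum A)) (hU' : IsOpen U') (V' : Set (PrimeSpectrum B)) (hV' : IsOpen V')
    (h : PrimeSpectrum.comap φ ⁻¹' U' = PrimeSpectrum.comap ψ ⁻¹' V')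
    (x : PrimeSpectrum A) (hx : x ∈ U') :
    ∃ r : FibProd φ ψ, x ∈ PrimeSpectrum.basicOpen (fst φ ψ r) ∧
      (PrimeSpectrum.basicOpen (snd φ ψ r) : Set _) ⊆ V' ∧
      (PrimeSpectrum.basicOpen (fst φ ψ r) : Set _) ⊆ U' := by
  by_cases hI : RingHom.ker φ ≤ x.asIdeal
  · let z : PrimeSpectrum C := ⟨x.asIdeal.map φ, Ideal.map_isPrime_of_surjective hφ hI⟩
    have hzx : PrimeSpectrum.comap φ z = x := by
      ext1
      change (x.asIdeal.map φ).comap φ = x.asIdeal
      rw [Ideal.comap_map_of_surjective _ hφ]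
      exact sup_eq_left.mpr (by simpa [RingHom.ker] using hI)
    have hzV : PrimeSpectrum.comap ψ z ∈ V' := by
      have : z ∈ PrimeSpectrum.comap φ ⁻¹' U' := by
        change PrimeSpectrum.comap φ z ∈ U'; rw [hzx]; exact hx
      rw [h] at this; exact this
    obtain ⟨r, hr1, hr2, hr3⟩ := exists_basicOpen_le_snd hφ U' hU' V' hV' h _ hzV
    refine ⟨r, ?_, hr2, hr3⟩
    rw [PrimeSpectrum.mem_basicOpen] at hr1 ⊢
    rw [← hzx]
    intro hcon
    apply hr1
    change ψ (snd φ ψ r) ∈ z.asIdeal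
    rw [← condition_apply]
    exact hcon
  · obtain ⟨e₁, he₁, he₁x⟩ := SetLike.not_le_iff_exists.mp hI
    obtain ⟨_, ⟨a₀, rfl⟩, hxa₀, ha₀U⟩ :=
      (TopologicalSpace.Opens.isBasis_iff_nbhd.mp PrimeSpectrum.isBasis_basic_opens)
        (show x ∈ (⟨U', hU'⟩ : TopologicalSpace.Opens (PrimeSpectrum A)) from hx)
    refine ⟨mk (a₀ * e₁) 0 ?_, ?_, ?_, ?_⟩
    · rw [map_mul, (RingHom.mem_ker).mp he₁, mul_zero, map_zero]
    · rw [fst_mk, PrimeSpectrum.basicOpen_mul]
      exact ⟨hxa₀, (PrimeSpectrum.mem_basicOpen _ _).mpr he₁x⟩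
    · rw [snd_mk]
      intro y hy
      exact absurd (by simp) ((PrimeSpectrum.mem_basicOpen _ _).mp hy)
    · rw [fst_mk, PrimeSpectrum.basicOpen_mul]
      intro x' hx'
      exact ha₀U hx'.1

end FibProd

end Groth.Agent.Lib.Helper1.FP
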