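import Groth.Agent.Lib.Helper1.FP19

/-!
# Ferrand pushouts (helper1), part 20: finite sets of points in charts
-/

set_option autoImplicit false
set_option linter.unusedSectionVars false
set_option linter.unusedVariables false
set_option linter.style.haveILetI false
universe u

noncomputable section

namespace Groth.Agent.Lib.Helper1.FP

open AlgebraicGeometry CategoryTheory CategoryTheory.Limits TopologicalSpace Opposite

/-- **coset prime avoidance**: finitely many primes not containing `I` can be avoided by an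
element of the coset `t + I`. -/
theorem exists_add_notMem {R : Type*} [CommRing R] (I : Ideal R) (t : R) :
    ∀ (s : Finset (Ideal R)), (∀ p ∈ s, p.IsPrime ∧ ¬ I ≤ p) →
      ∃ h ∈ I, ∀ p ∈ s, t + h ∉ p := by
  intro s
  induction s using Finset.strongInduction with
  | H s ih =>
    intro hs
    rcases s.eq_empty_or_nonempty with rfl | hne
    · exact ⟨0, I.zero_mem, by simp⟩
    · obtain ⟨p, hp, hpmin⟩ := s.exists_minimal hne
      obtain ⟨h', hh'I, hh'⟩ := ih (s.erase p) (Finset.erase_ssubset hp)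
        (fun q hq => hs q (Finset.mem_of_mem_erase hq))
      haveI hpp : p.IsPrime := (hs p hp).1
      by_cases hcase : t + h' ∈ p
      · have hnot : ¬ (I * ∏ q ∈ s.erase p, q) ≤ p := by
          intro hle
          rcases (Ideal.IsPrime.mul_le hpp).mp hle with h1 | h1
          · exact (hs p hp).2 h1
          · obtain ⟨q, hq, hqp⟩ := (Ideal.IsPrime.prod_le hpp).mp h1
            have hqs : q ∈ s := Finset.mem_of_mem_erase hq
            have hpq : p ≤ q := hpmin hqs hqp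
            exact (Finset.ne_of_mem_erase hq) (le_antisymm hqp hpq)
        obtain ⟨u, hu, hup⟩ := SetLike.not_le_iff_exists.mp hnot
        have huI : u ∈ I := by
          have h1 : (I * ∏ q ∈ s.erase p, q) ≤ I := Ideal.mul_le_left
          exact h1 hu
        refine ⟨h' + u, I.add_mem hh'I huI, ?_⟩
        intro q hq hmem
        by_cases hqp : q = p
        · subst hqp
          apply hup
          have : u = (t + (h' + u)) - (t + h') := by ring
          rw [this]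
          exact q.sub_mem hmem hcase
        · have hq' : q ∈ s.erase p := Finset.mem_erase.mpr ⟨hqp, hq⟩
          have huq : u ∈ q := by
            have h1 : (I * ∏ q ∈ s.erase p, q) ≤ q :=
              Ideal.mul_le_right.trans ((Ideal.prod_le_inf).trans (Finset.inf_le hq'))
            exact h1 hu
          apply hh' q hq'
          have : t + h' = (t + (h' + u)) - u := by ring
          rw [this]
          exact q.sub_mem hmem huq
      · refine ⟨h', hh'I, ?_⟩
        intro q hq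
        by_cases hqp : q = p
        · subst hqp; exact hcase
        · exact hh' q (Finset.mem_erase.mpr ⟨hqp, hq⟩)

/-- scheme-level coset avoidance on an affine open -/
theorem exists_add_mem_basicOpen {X : Scheme.{u}} {U : X.Opens} (hU : IsAffineOpen U)
    (T : Set X) (hT : T.Finite) (hTU : T ⊆ U) (I : Ideal Γ(X, U)) (t : Γ(X, U))
    (hTI : ∀ x ∈ T, ∃ f ∈ I, x ∈ X.basicOpen f) :
    ∃ h ∈ I, ∀ x ∈ T, x ∈ X.basicOpen (t + h) := by
  classical
  let pr : X → Ideal Γ(X, U) := fun x =>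
    if hx : x ∈ U then (hU.isoSpec.hom ⟨x, hx⟩).asIdeal else ⊤
  let s : Finset (Ideal Γ(X, U)) := hT.toFinset.image pr
  have hpr : ∀ (x : X) (hx : x ∈ U) (f : Γ(X, U)), x ∈ X.basicOpen f ↔ f ∉ pr x := by
    intro x hx f
    have h1 := mem_basicOpen_iff_isoSpec hU f ⟨x, hx⟩
    have h2 : pr x = (hU.isoSpec.hom ⟨x, hx⟩).asIdeal := dif_pos hx
    rw [h2]
    exact h1.trans Iff.rfl
  obtain ⟨h, hhI, hh⟩ := exists_add_notMem I t s (by
    intro p hp
    obtain ⟨x, hx, rfl⟩ := Finset.mem_image.mp hp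
    have hx' := hT.mem_toFinset.mp hx
    have hxU := hTU hx'
    refine ⟨?_, fun hle => ?_⟩
    · have h2 : pr x = (hU.isoSpec.hom ⟨x, hxU⟩).asIdeal := dif_pos hxU
      rw [h2]
      exact (hU.isoSpec.hom ⟨x, hxU⟩).isPrime
    · obtain ⟨f, hfI, hxf⟩ := hTI x hx'
      exact (hpr x hxU f).mp hxf (hle hfI))
  refine ⟨h, hhI, fun x hx => ?_⟩
  have hxU := hTU hx
  exact (hpr x hxU _).mpr (hh (pr x) (Finset.mem_image.mpr ⟨x, hT.mem_toFinset.mpr hx, rfl⟩))

/-- a finite set of points of an affine open inside an open lies in a basic open inside it -/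
theorem exists_basicOpen_finite {X : Scheme.{u}} {U : X.Opens} (hU : IsAffineOpen U)
    (T : Set X) (hT : T.Finite) (hTU : T ⊆ U) (O : X.Opens) (hTO : T ⊆ O) :
    ∃ g : Γ(X, U), T ⊆ X.basicOpen g ∧ X.basicOpen g ≤ O := by
  let I : Ideal Γ(X, U) :=
    { carrier := {f | X.basicOpen f ≤ O}
      add_mem' := fun {a b} ha hb => (X.basicOpen_add_le a b).trans (sup_le ha hb)
      zero_mem' := by
        change X.basicOpen (0 : Γ(X, U)) ≤ O
        rw [Scheme.basicOpen_zero]; exact bot_le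
      smul_mem' := fun c {a} ha => by
        change X.basicOpen (c * a) ≤ O
        rw [Scheme.basicOpen_mul]
        exact inf_le_right.trans ha }
  obtain ⟨h, hhI, hh⟩ := exists_add_mem_basicOpen hU T hT hTU I 0 (by
    intro x hx
    obtain ⟨f, hf1, hf2⟩ := hU.exists_basicOpen_le (V := O) ⟨x, hTO hx⟩ (hTU hx)
    exact ⟨f, hf1, hf2⟩)
  refine ⟨h, fun x hx => ?_, hhI⟩
  have := hh x hx
  rwa [zero_add] at this

/-- shrinking an affine open around a finite set so that its preimage lies in a given open -/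
theorem exists_shrink {X Z : Scheme.{u}} (i : Z ⟶ X) [IsClosedImmersion i] {U : X.Opens}
    (hU : IsAffineOpen U) (T : Set X) (hT : T.Finite) (hTU : T ⊆ U) (Wz : Z.Opens)
    (hW : i ⁻¹' T ⊆ Wz) :
    ∃ g : Γ(X, U), T ⊆ X.basicOpen g ∧ i ⁻¹ᵁ (X.basicOpen g) ≤ Wz := by
  have hcl : IsClosed (i '' (Wz : Set Z)ᶜ) :=
    i.isClosedEmbedding.isClosedMap _ Wz.2.isClosed_compl
  let O : X.Opens := ⟨(i '' (Wz : Set Z)ᶜ)ᶜ, hcl.isOpen_compl⟩
  have hTO : T ⊆ O := by
    rintro x hx ⟨z, hz, rfl⟩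
    exact hz (hW hx)
  obtain ⟨g, hg1, hg2⟩ := exists_basicOpen_finite hU T hT hTU O hTO
  refine ⟨g, hg1, ?_⟩
  intro z hz
  by_contra hzW
  exact hg2 hz ⟨z, hzW, rfl⟩

/-- **finite sets in charts**: for two closed immersions, compatible finite sets of points lying
in affine opens lie in a common chart. -/
theorem exists_chart_of_finite {X Y Z : Scheme.{u}} (i : Z ⟶ X) (j : Z ⟶ Y)
    [IsClosedImmersion i] [IsClosedImmersion j] (T₁ : Set X) (T₂ : Set Y) (hT₁ : T₁.Finite)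
    (hT₂ : T₂.Finite) (hT : i ⁻¹' T₁ = j ⁻¹' T₂) (U₁ : X.Opens) (hU₁ : IsAffineOpen U₁)
    (hTU₁ : T₁ ⊆ U₁) (U₂ : Y.Opens) (hU₂ : IsAffineOpen U₂) (hTU₂ : T₂ ⊆ U₂) :
    ∃ α : Chart i j, T₁ ⊆ α.U ∧ T₂ ⊆ α.V := by
  -- Step 1
  obtain ⟨g₁, hg₁T, hg₁W⟩ := exists_shrink i hU₁ T₁ hT₁ hTU₁ (j ⁻¹ᵁ U₂) (by
    intro z hz
    have : z ∈ j ⁻¹' T₂ := hT ▸ hz
    exact hTU₂ this)
  have hU' : IsAffineOpen (X.basicOpen g₁) := hU₁.basicOpen g₁
  -- Step 2
  obtain ⟨g₂, hg₂T, hg₂W⟩ := exists_shrink j hU₂ T₂ hT₂ hTU₂ (i ⁻¹ᵁ (X.basicOpen g₁)) (by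
    intro z hz
    have : z ∈ i ⁻¹' T₁ := hT ▸ hz
    exact hg₁T this)
  have hV' : IsAffineOpen (Y.basicOpen g₂) := hU₂.basicOpen g₂
  -- Step 3
  obtain ⟨t, ht⟩ := i.app_surjective (X.basicOpen g₁) hU'
    (j.appLE U₂ (i ⁻¹ᵁ (X.basicOpen g₁)) hg₁W g₂)
  let I : Ideal Γ(X, X.basicOpen g₁) := RingHom.ker (i.app (X.basicOpen g₁)).hom
  obtain ⟨h, hhI, hh⟩ := exists_add_mem_basicOpen hU' (T₁ \ Set.range ⇑i)
    (hT₁.subset Set.sdiff_subset) (fun x hx => hg₁T hx.1) I t (by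
    rintro x ⟨hx, hxr⟩
    have hcl : IsClosed (Set.range ⇑i) := i.isClosedEmbedding.isClosed_range
    let O : X.Opens := ⟨(Set.range ⇑i)ᶜ, hcl.isOpen_compl⟩
    obtain ⟨f, hfO, hxf⟩ := hU'.exists_basicOpen_le (V := O) ⟨x, hxr⟩ (hg₁T hx)
    have hbot : Z.basicOpen ((i.app (X.basicOpen g₁)).hom f) = ⊥ := by
      rw [← Scheme.preimage_basicOpen]
      rw [eq_bot_iff]
      intro z hz
      exact absurd ⟨z, rfl⟩ (hfO hz)
    have hnil : IsNilpotent ((i.app (X.basicOpen g₁)).hom f) :=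
      (Scheme.isNilpotent_iff_basicOpen_eq_bot_of_isCompact
        (hU'.preimage i).isCompact _).mpr hbot
    obtain ⟨n, hn⟩ := hnil
    refine ⟨f ^ (n + 1), ?_, ?_⟩
    · change (i.app (X.basicOpen g₁)).hom (f ^ (n + 1)) = 0
      rw [map_pow, pow_succ, hn, zero_mul]
    · rw [X.basicOpen_pow f (Nat.succ_pos n)]; exact hxf)
  have hpre : i ⁻¹ᵁ (X.basicOpen (t + h)) = j ⁻¹ᵁ (Y.basicOpen g₂) := by
    have h0 : (i.app (X.basicOpen g₁)).hom h = 0 := hhI
    rw [Scheme.preimage_basicOpen]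
    have h1 : (i.app (X.basicOpen g₁)).hom (t + h) =
        j.appLE U₂ (i ⁻¹ᵁ (X.basicOpen g₁)) hg₁W g₂ := by
      rw [map_add, h0, add_zero]; exact ht
    change Z.basicOpen ((i.app (X.basicOpen g₁)).hom (t + h)) = _
    rw [h1, Scheme.basicOpen_appLE]
    exact inf_eq_right.mpr hg₂W
  refine ⟨⟨X.basicOpen (t + h), Y.basicOpen g₂, hU'.basicOpen _, hV', hpre⟩, ?_, hg₂T⟩
  intro x hx
  by_cases hxr : x ∈ Set.range ⇑i
  · obtain ⟨z, rfl⟩ := hxr
    change z ∈ i ⁻¹ᵁ (X.basicOpen (t + h))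
    rw [hpre]
    have : z ∈ j ⁻¹' T₂ := hT ▸ hx
    exact hg₂T this
  · exact hh x ⟨hx, hxr⟩

end Groth.Agent.Lib.Helper1.FP
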