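import Groth.Agent.Lib.Helper1.FP2

/-!
# Ferrand pushouts (helper1), part 3: adapted affine pairs ("charts")
-/

set_option autoImplicit false
set_option linter.unusedSectionVars false
set_option linter.unusedVariables false
universe u

noncomputable section

namespace Groth.Agent.Lib.Helper1.FP

open AlgebraicGeometry CategoryTheory CategoryTheory.Limits TopologicalSpace Opposite

variable {X Y Z : Scheme.{u}} (i : Z ⟶ X) (j : Z ⟶ Y)

/-- An adapted affine pair: affine opens of `X` and `Y` with the same preimage in `Z`. -/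
structure Chart where
  /-- the open of `X` -/
  U : X.Opens
  /-- the open of `Y` -/
  V : Y.Opens
  hU : IsAffineOpen U
  hV : IsAffineOpen V
  h : i ⁻¹ᵁ U = j ⁻¹ᵁ V

namespace Chart

variable {i j} [IsClosedImmersion i] (α β γ : Chart i j)

/-- the common preimage in `Z` -/
abbrev W : Z.Opens := i ⁻¹ᵁ α.U

lemma hW : IsAffineOpen α.W := α.hU.preimage i

lemma W_le : α.W ≤ j ⁻¹ᵁ α.V := α.h.le

lemma W_le' : α.W ≤ i ⁻¹ᵁ α.U := le_rfl

/-- `Γ(X, U) → Γ(Z, W)` -/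
def φ : Γ(X, α.U) →+* Γ(Z, α.W) := (i.appLE α.U α.W α.W_le').hom

/-- `Γ(Y, V) → Γ(Z, W)` -/
def ψ : Γ(Y, α.V) →+* Γ(Z, α.W) := (j.appLE α.V α.W α.W_le).hom

lemma φ_surjective : Function.Surjective α.φ := by
  have := i.app_surjective α.U α.hU
  rw [Scheme.Hom.app_eq_appLE] at this
  exact this

/-- the fibre product ring of the chart -/
abbrev R : Subring (Γ(X, α.U) × Γ(Y, α.V)) := FibProd α.φ α.ψ

/-- first projection -/
abbrev p₁ : α.R →+* Γ(X, α.U) := FibProd.fst α.φ α.ψ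

/-- second projection -/
abbrev p₂ : α.R →+* Γ(Y, α.V) := FibProd.snd α.φ α.ψ

/-- the affine scheme of the chart -/
abbrev spec : Scheme.{u} := Spec (CommRingCat.of α.R)

/-- `U → Spec R` -/
def a : (α.U : Scheme.{u}) ⟶ α.spec :=
  α.hU.isoSpec.hom ≫ Spec.map (CommRingCat.ofHom α.p₁)

/-- `V → Spec R` -/
def b : (α.V : Scheme.{u}) ⟶ α.spec :=
  α.hV.isoSpec.hom ≫ Spec.map (CommRingCat.ofHom α.p₂)

/-- `W → Spec R` -/
def c : (α.W : Scheme.{u}) ⟶ α.spec :=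
  α.hW.isoSpec.hom ≫ Spec.map (CommRingCat.ofHom (α.φ.comp α.p₁))

lemma c_eq : α.c = α.hW.isoSpec.hom ≫ Spec.map (CommRingCat.ofHom (α.ψ.comp α.p₂)) := by
  rw [c, FibProd.condition]

/-- joint surjectivity -/
theorem exists_a_or_b (q : α.spec) : (∃ x, α.a x = q) ∨ (∃ y, α.b y = q) := by
  obtain ⟨p, hp, hpq⟩ | ⟨p, hp, hpq⟩ :=
    FibProd.exists_comap_eq (ψ := α.ψ) α.φ_surjective (q : PrimeSpectrum α.R).asIdeal
  · left
    let P : Spec Γ(X, α.U) := (⟨p, hp⟩ : PrimeSpectrum Γ(X, α.U))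
    refine ⟨α.hU.isoSpec.inv P, ?_⟩
    have hP : α.hU.isoSpec.hom (α.hU.isoSpec.inv P) = P := by
      rw [← Scheme.Hom.comp_apply, Iso.inv_hom_id]; rfl
    rw [a, Scheme.Hom.comp_apply, hP]
    exact PrimeSpectrum.ext hpq
  · right
    let P : Spec Γ(Y, α.V) := (⟨p, hp⟩ : PrimeSpectrum Γ(Y, α.V))
    refine ⟨α.hV.isoSpec.inv P, ?_⟩
    have hP : α.hV.isoSpec.hom (α.hV.isoSpec.inv P) = P := by
      rw [← Scheme.Hom.comp_apply, Iso.inv_hom_id]; rfl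
    rw [b, Scheme.Hom.comp_apply, hP]
    exact PrimeSpectrum.ext hpq

section Res

variable {α β γ}

lemma W_mono (hU : α.U ≤ β.U) : α.W ≤ β.W := fun _ hx => hU hx

/-- restriction on `X` -/
def resU (hU : α.U ≤ β.U) : Γ(X, β.U) →+* Γ(X, α.U) := (X.presheaf.map (homOfLE hU).op).hom

/-- restriction on `Y` -/
def resV (hV : α.V ≤ β.V) : Γ(Y, β.V) →+* Γ(Y, α.V) := (Y.presheaf.map (homOfLE hV).op).hom

/-- restriction on `Z` -/
def resW (hU : α.U ≤ β.U) : Γ(Z, β.W) →+* Γ(Z, α.W) :=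
  (Z.presheaf.map (homOfLE (W_mono hU)).op).hom

lemma φ_resU (hU : α.U ≤ β.U) : α.φ.comp (resU hU) = (resW hU).comp β.φ := by
  have h1 : X.presheaf.map (homOfLE hU).op ≫ i.appLE α.U α.W α.W_le' =
      i.appLE β.U α.W ((W_mono hU).trans β.W_le') := Scheme.Hom.map_appLE ..
  have h2 : i.appLE β.U β.W β.W_le' ≫ Z.presheaf.map (homOfLE (W_mono hU)).op =
      i.appLE β.U α.W ((W_mono hU).trans β.W_le') := Scheme.Hom.appLE_map ..
  exact congrArg CommRingCat.Hom.hom (h1.trans h2.symm)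

lemma ψ_resV (hU : α.U ≤ β.U) (hV : α.V ≤ β.V) :
    α.ψ.comp (resV hV) = (resW hU).comp β.ψ := by
  have h1 : Y.presheaf.map (homOfLE hV).op ≫ j.appLE α.V α.W α.W_le =
      j.appLE β.V α.W ((W_mono hU).trans β.W_le) := Scheme.Hom.map_appLE ..
  have h2 : j.appLE β.V β.W β.W_le ≫ Z.presheaf.map (homOfLE (W_mono hU)).op =
      j.appLE β.V α.W ((W_mono hU).trans β.W_le) := Scheme.Hom.appLE_map ..
  exact congrArg CommRingCat.Hom.hom (h1.trans h2.symm)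

/-- restriction between the fibre product rings -/
def res (hU : α.U ≤ β.U) (hV : α.V ≤ β.V) : β.R →+* α.R :=
  FibProd.lift ((resU hU).comp β.p₁) ((resV hV).comp β.p₂) (by
    rw [← RingHom.comp_assoc, φ_resU hU, RingHom.comp_assoc, FibProd.condition,
      ← RingHom.comp_assoc, ← ψ_resV hU hV, RingHom.comp_assoc])

lemma p₁_res (hU : α.U ≤ β.U) (hV : α.V ≤ β.V) :
    α.p₁.comp (res hU hV) = (resU hU).comp β.p₁ := rfl

lemma p₂_res (hU : α.U ≤ β.U) (hV : α.V ≤ β.V) :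
    α.p₂.comp (res hU hV) = (resV hV).comp β.p₂ := rfl

lemma res_id : res (le_refl α.U) (le_refl α.V) = RingHom.id _ := by
  apply FibProd.hom_ext
  · rw [p₁_res]; ext x; simp [resU]
  · rw [p₂_res]; ext x; simp [resV]

lemma resU_comp (hU : α.U ≤ β.U) (hU' : β.U ≤ γ.U) :
    (resU hU).comp (resU hU') = resU (hU.trans hU') := by
  ext x
  simp only [resU, RingHom.comp_apply]
  rw [← CommRingCat.comp_apply, ← Functor.map_comp]
  rfl

lemma resV_comp (hV : α.V ≤ β.V) (hV' : β.V ≤ γ.V) :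
    (resV hV).comp (resV hV') = resV (hV.trans hV') := by
  ext x
  simp only [resV, RingHom.comp_apply]
  rw [← CommRingCat.comp_apply, ← Functor.map_comp]
  rfl

lemma res_comp (hU : α.U ≤ β.U) (hV : α.V ≤ β.V) (hU' : β.U ≤ γ.U) (hV' : β.V ≤ γ.V) :
    (res hU hV).comp (res hU' hV') = res (hU.trans hU') (hV.trans hV') := by
  apply FibProd.hom_ext
  · rw [← RingHom.comp_assoc, p₁_res, RingHom.comp_assoc, p₁_res, ← RingHom.comp_assoc, resU_comp,
      p₁_res]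
  · rw [← RingHom.comp_assoc, p₂_res, RingHom.comp_assoc, p₂_res, ← RingHom.comp_assoc, resV_comp,
      p₂_res]

/-- the transition map `Spec R_α → Spec R_β` -/
def tr (hU : α.U ≤ β.U) (hV : α.V ≤ β.V) : α.spec ⟶ β.spec :=
  Spec.map (CommRingCat.ofHom (res hU hV))

lemma tr_id : tr (le_refl α.U) (le_refl α.V) = 𝟙 α.spec := by
  rw [tr, res_id]
  exact Spec.map_id _

lemma tr_comp (hU : α.U ≤ β.U) (hV : α.V ≤ β.V) (hU' : β.U ≤ γ.U) (hV' : β.V ≤ γ.V) :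
    tr hU hV ≫ tr hU' hV' = tr (hU.trans hU') (hV.trans hV') := by
  rw [tr, tr, tr, ← Spec.map_comp, ← CommRingCat.ofHom_comp, res_comp]

lemma isoSpec_hom_resU (hU : α.U ≤ β.U) :
    α.hU.isoSpec.hom ≫ Spec.map (CommRingCat.ofHom (resU hU)) =
      X.homOfLE hU ≫ β.hU.isoSpec.hom := by
  rw [← cancel_mono β.hU.fromSpec, Category.assoc, Category.assoc, IsAffineOpen.isoSpec_hom_fromSpec,
    Scheme.homOfLE_ι]
  have : Spec.map (CommRingCat.ofHom (resU hU)) ≫ β.hU.fromSpec = α.hU.fromSpec :=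
    β.hU.map_fromSpec α.hU (homOfLE hU).op
  rw [this, IsAffineOpen.isoSpec_hom_fromSpec]

lemma isoSpec_hom_resV (hV : α.V ≤ β.V) :
    α.hV.isoSpec.hom ≫ Spec.map (CommRingCat.ofHom (resV hV)) =
      Y.homOfLE hV ≫ β.hV.isoSpec.hom := by
  rw [← cancel_mono β.hV.fromSpec, Category.assoc, Category.assoc, IsAffineOpen.isoSpec_hom_fromSpec,
    Scheme.homOfLE_ι]
  have : Spec.map (CommRingCat.ofHom (resV hV)) ≫ β.hV.fromSpec = α.hV.fromSpec :=
    β.hV.map_fromSpec α.hV (homOfLE hV).op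
  rw [this, IsAffineOpen.isoSpec_hom_fromSpec]

lemma a_tr (hU : α.U ≤ β.U) (hV : α.V ≤ β.V) :
    α.a ≫ tr hU hV = X.homOfLE hU ≫ β.a := by
  rw [a, a, tr, Category.assoc, ← Spec.map_comp, ← CommRingCat.ofHom_comp, p₁_res,
    CommRingCat.ofHom_comp, Spec.map_comp, ← Category.assoc, isoSpec_hom_resU, Category.assoc]

lemma b_tr (hU : α.U ≤ β.U) (hV : α.V ≤ β.V) :
    α.b ≫ tr hU hV = Y.homOfLE hV ≫ β.b := by
  rw [b, b, tr, Category.assoc, ← Spec.map_comp, ← CommRingCat.ofHom_comp, p₂_res,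
    CommRingCat.ofHom_comp, Spec.map_comp, ← Category.assoc, isoSpec_hom_resV, Category.assoc]

lemma homOfLE_apply_val (hU : α.U ≤ β.U) (x : α.U) : (X.homOfLE hU x).1 = x.1 := by
  have := congr($(X.homOfLE_ι hU) x)
  simpa using this

lemma tr_a_apply (hU : α.U ≤ β.U) (hV : α.V ≤ β.V) (x : α.U) :
    tr hU hV (α.a x) = β.a ⟨x.1, hU x.2⟩ := by
  have := congr($(a_tr hU hV) x)
  rw [Scheme.Hom.comp_apply, Scheme.Hom.comp_apply] at this
  rw [this]
  congr 1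
  exact Subtype.ext (homOfLE_apply_val hU x)

lemma homOfLE_apply_val' (hV : α.V ≤ β.V) (y : α.V) : (Y.homOfLE hV y).1 = y.1 := by
  have := congr($(Y.homOfLE_ι hV) y)
  simpa using this

lemma tr_b_apply (hU : α.U ≤ β.U) (hV : α.V ≤ β.V) (y : α.V) :
    tr hU hV (α.b y) = β.b ⟨y.1, hV y.2⟩ := by
  have := congr($(b_tr hU hV) y)
  rw [Scheme.Hom.comp_apply, Scheme.Hom.comp_apply] at this
  rw [this]
  congr 1
  exact Subtype.ext (homOfLE_apply_val' hV y)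

end Res

/-- the order relation on charts -/
structure Le (α β : Chart i j) : Prop where
  hU : α.U ≤ β.U
  hV : α.V ≤ β.V
  isOpenImmersion : IsOpenImmersion (tr hU hV)
  mem_U : ∀ x : β.U, β.a x ∈ Set.range ⇑(tr hU hV) → x.1 ∈ α.U
  mem_V : ∀ y : β.V, β.b y ∈ Set.range ⇑(tr hU hV) → y.1 ∈ α.V

lemma Le.refl : Le α α :=
  ⟨le_rfl, le_rfl, by rw [tr_id]; infer_instance, fun x _ => x.2, fun y _ => y.2⟩

variable {α β γ} in
lemma Le.trans (h1 : Le α β) (h2 : Le β γ) : Le α γ := by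
  have hoi1 := h1.isOpenImmersion
  have hoi2 := h2.isOpenImmersion
  refine ⟨h1.hU.trans h2.hU, h1.hV.trans h2.hV, ?_, ?_, ?_⟩
  · rw [← tr_comp h1.hU h1.hV h2.hU h2.hV]; infer_instance
  · rintro x ⟨q, hq⟩
    rw [← tr_comp h1.hU h1.hV h2.hU h2.hV, Scheme.Hom.comp_apply] at hq
    have hxβ : x.1 ∈ β.U := h2.mem_U x ⟨_, hq⟩
    have h3 : tr h2.hU h2.hV (β.a ⟨x.1, hxβ⟩) = γ.a x := tr_a_apply h2.hU h2.hV ⟨x.1, hxβ⟩
    have h4 : β.a ⟨x.1, hxβ⟩ = tr h1.hU h1.hV q :=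
      (tr h2.hU h2.hV).isOpenEmbedding.injective (h3.trans hq.symm)
    exact h1.mem_U ⟨x.1, hxβ⟩ ⟨q, h4.symm⟩
  · rintro y ⟨q, hq⟩
    rw [← tr_comp h1.hU h1.hV h2.hU h2.hV, Scheme.Hom.comp_apply] at hq
    have hyβ : y.1 ∈ β.V := h2.mem_V y ⟨_, hq⟩
    have h3 : tr h2.hU h2.hV (β.b ⟨y.1, hyβ⟩) = γ.b y := tr_b_apply h2.hU h2.hV ⟨y.1, hyβ⟩
    have h4 : β.b ⟨y.1, hyβ⟩ = tr h1.hU h1.hV q :=
      (tr h2.hU h2.hV).isOpenEmbedding.injective (h3.trans hq.symm)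
    exact h1.mem_V ⟨y.1, hyβ⟩ ⟨q, h4.symm⟩

instance : Preorder (Chart i j) where
  le := Le
  le_refl := Le.refl
  le_trans _ _ _ := Le.trans

lemma le_def : α ≤ β ↔ Le α β := Iff.rfl

end Chart

end Groth.Agent.Lib.Helper1.FP
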