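import Groth.Agent.Lib.Helper1.FP3

/-!
# Ferrand pushouts (helper1), part 4: basic charts are smaller; refinement
-/

set_option autoImplicit false
set_option linter.unusedSectionVars false
set_option linter.unusedVariables false
set_option linter.style.haveILetI false
universe u

noncomputable section

namespace Groth.Agent.Lib.Helper1.FP

open AlgebraicGeometry CategoryTheory CategoryTheory.Limits TopologicalSpace Opposite

variable {X Y Z : Scheme.{u}} {i : Z ⟶ X} {j : Z ⟶ Y} [IsClosedImmersion i]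

namespace Chart

variable {α β : Chart i j}

lemma φ_apply (x : Γ(X, β.U)) : β.φ x = (i.app β.U).hom x := by
  rw [φ, ← Scheme.Hom.app_eq_appLE]

/-- `a` at the level of points -/
lemma a_mem_basicOpen_iff (r : β.R) (x : β.U) :
    β.a x ∈ PrimeSpectrum.basicOpen r ↔ x.1 ∈ X.basicOpen (β.p₁ r) := by
  have h1 : β.hU.fromSpec (β.hU.isoSpec.hom x) = x.1 := by
    rw [← Scheme.Hom.comp_apply, IsAffineOpen.isoSpec_hom_fromSpec]; rfl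
  rw [← h1]
  change _ ↔ β.hU.isoSpec.hom x ∈ β.hU.fromSpec ⁻¹ᵁ X.basicOpen (β.p₁ r)
  rw [β.hU.fromSpec_preimage_basicOpen, a, Scheme.Hom.comp_apply]
  rfl

lemma b_mem_basicOpen_iff (r : β.R) (y : β.V) :
    β.b y ∈ PrimeSpectrum.basicOpen r ↔ y.1 ∈ Y.basicOpen (β.p₂ r) := by
  have h1 : β.hV.fromSpec (β.hV.isoSpec.hom y) = y.1 := by
    rw [← Scheme.Hom.comp_apply, IsAffineOpen.isoSpec_hom_fromSpec]; rfl
  rw [← h1]
  change _ ↔ β.hV.isoSpec.hom y ∈ β.hV.fromSpec ⁻¹ᵁ Y.basicOpen (β.p₂ r)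
  rw [β.hV.fromSpec_preimage_basicOpen, b, Scheme.Hom.comp_apply]
  rfl

/-- **(Basic)**: a chart cut out by an element of the fibre product ring is smaller. -/
theorem le_of_basicOpen (hU : α.U ≤ β.U) (hV : α.V ≤ β.V) (r : β.R)
    (h1 : α.U = X.basicOpen (β.p₁ r)) (h2 : α.V = Y.basicOpen (β.p₂ r)) :
    α ≤ β ∧ Set.range ⇑(tr hU hV) = (PrimeSpectrum.basicOpen r : Set (PrimeSpectrum β.R)) := by
  letI algA : Algebra Γ(X, β.U) Γ(X, α.U) := (resU hU).toAlgebra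
  letI algB : Algebra Γ(Y, β.V) Γ(Y, α.V) := (resV hV).toAlgebra
  letI algC : Algebra Γ(Z, β.W) Γ(Z, α.W) := (resW hU).toAlgebra
  haveI locA : IsLocalization.Away (β.p₁ r) Γ(X, α.U) :=
    β.hU.isLocalization_of_eq_basicOpen (β.p₁ r) (homOfLE hU) h1
  haveI locB : IsLocalization.Away (β.p₂ r) Γ(Y, α.V) :=
    β.hV.isLocalization_of_eq_basicOpen (β.p₂ r) (homOfLE hV) h2
  have hW : α.W = Z.basicOpen (β.φ (β.p₁ r)) := by
    rw [φ_apply, ← Scheme.preimage_basicOpen, ← h1]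
  haveI locC : IsLocalization.Away (β.φ (β.p₁ r)) Γ(Z, α.W) :=
    β.hW.isLocalization_of_eq_basicOpen (β.φ (β.p₁ r)) (homOfLE (W_mono hU)) hW
  have hφ : α.φ.comp (algebraMap Γ(X, β.U) Γ(X, α.U)) =
      (algebraMap Γ(Z, β.W) Γ(Z, α.W)).comp β.φ := φ_resU hU
  have hψ : α.ψ.comp (algebraMap Γ(Y, β.V) Γ(Y, α.V)) =
      (algebraMap Γ(Z, β.W) Γ(Z, α.W)).comp β.ψ := ψ_resV hU hV
  have key := FibProd.isLocalization_away α.φ α.ψ hφ hψ (β.p₁ r) (β.p₂ r)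
    (FibProd.condition_apply r)
  letI algR : Algebra β.R α.R := (res hU hV).toAlgebra
  haveI locR : IsLocalization.Away r α.R := key
  have hoi : IsOpenImmersion (tr hU hV) := IsOpenImmersion.of_isLocalization (S := α.R) r
  have hrange : Set.range ⇑(tr hU hV) = (PrimeSpectrum.basicOpen r : Set (PrimeSpectrum β.R)) :=
    PrimeSpectrum.localization_away_comap_range α.R r
  refine ⟨⟨hU, hV, hoi, ?_, ?_⟩, hrange⟩
  · intro x hx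
    rw [hrange] at hx
    rw [h1]
    exact (a_mem_basicOpen_iff r x).mp hx
  · intro y hy
    rw [hrange] at hy
    rw [h2]
    exact (b_mem_basicOpen_iff r y).mp hy

/-- the basic chart cut out by an element of the fibre product ring -/
def basic (β : Chart i j) (r : β.R) : Chart i j where
  U := X.basicOpen (β.p₁ r)
  V := Y.basicOpen (β.p₂ r)
  hU := β.hU.basicOpen _
  hV := β.hV.basicOpen _
  h := by
    have e1 : Z.basicOpen (β.φ (β.p₁ r)) = β.W ⊓ i ⁻¹ᵁ (X.basicOpen (β.p₁ r)) :=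
      Scheme.basicOpen_appLE i β.W β.U β.W_le' (β.p₁ r)
    have e2 : Z.basicOpen (β.ψ (β.p₂ r)) = β.W ⊓ j ⁻¹ᵁ (Y.basicOpen (β.p₂ r)) :=
      Scheme.basicOpen_appLE j β.W β.V β.W_le (β.p₂ r)
    have e3 : β.φ (β.p₁ r) = β.ψ (β.p₂ r) := FibProd.condition_apply r
    have l1 : i ⁻¹ᵁ (X.basicOpen (β.p₁ r)) ≤ β.W := fun z hz => X.basicOpen_le _ hz
    have l2 : j ⁻¹ᵁ (Y.basicOpen (β.p₂ r)) ≤ β.W := by
      intro z hz
      have : z ∈ j ⁻¹ᵁ β.V := Y.basicOpen_le _ hz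
      rw [← β.h] at this
      exact this
    rw [← inf_eq_right.mpr l1, ← inf_eq_right.mpr l2, ← e1, ← e2, e3]

lemma basic_le (β : Chart i j) (r : β.R) : β.basic r ≤ β :=
  (le_of_basicOpen (α := β.basic r) (X.basicOpen_le _) (Y.basicOpen_le _) r rfl rfl).1

lemma range_tr_basic (β : Chart i j) (r : β.R) :
    Set.range ⇑(tr (α := β.basic r) (β := β) (X.basicOpen_le _) (Y.basicOpen_le _)) =
      (PrimeSpectrum.basicOpen r : Set (PrimeSpectrum β.R)) :=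
  (le_of_basicOpen (α := β.basic r) (X.basicOpen_le _) (Y.basicOpen_le _) r rfl rfl).2

end Chart

/-- transport of inclusions along `fromSpec` -/
lemma basicOpen_le_of_subset_preimage {X : Scheme.{u}} {U : X.Opens} (hU : IsAffineOpen U)
    (f : Γ(X, U)) (O : X.Opens)
    (h : (PrimeSpectrum.basicOpen f : Set (PrimeSpectrum Γ(X, U))) ⊆ hU.fromSpec ⁻¹' (O : Set X)) :
    X.basicOpen f ≤ O := by
  intro x hx
  have hxU : x ∈ U := X.basicOpen_le _ hx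
  have h1 : hU.fromSpec (hU.isoSpec.hom ⟨x, hxU⟩) = x := by
    rw [← Scheme.Hom.comp_apply, IsAffineOpen.isoSpec_hom_fromSpec]; rfl
  have h2 : hU.isoSpec.hom ⟨x, hxU⟩ ∈ hU.fromSpec ⁻¹ᵁ X.basicOpen f := by
    change hU.fromSpec (hU.isoSpec.hom ⟨x, hxU⟩) ∈ X.basicOpen f
    rw [h1]; exact hx
  rw [hU.fromSpec_preimage_basicOpen] at h2
  have := h h2
  rw [Set.mem_preimage, h1] at this
  exact this

lemma mem_basicOpen_iff_isoSpec {X : Scheme.{u}} {U : X.Opens} (hU : IsAffineOpen U)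
    (f : Γ(X, U)) (x : U) :
    x.1 ∈ X.basicOpen f ↔ hU.isoSpec.hom x ∈ PrimeSpectrum.basicOpen f := by
  have h1 : hU.fromSpec (hU.isoSpec.hom x) = x.1 := by
    rw [← Scheme.Hom.comp_apply, IsAffineOpen.isoSpec_hom_fromSpec]; rfl
  rw [← hU.fromSpec_preimage_basicOpen]
  change _ ↔ hU.fromSpec (hU.isoSpec.hom x) ∈ X.basicOpen f
  rw [h1]

namespace Chart

/-- the compatibility of preimages on spectra -/
lemma preimage_comap_eq (β : Chart i j) (U' : X.Opens) (V' : Y.Opens)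
    (h : i ⁻¹ᵁ U' = j ⁻¹ᵁ V') :
    PrimeSpectrum.comap β.φ ⁻¹' (β.hU.fromSpec ⁻¹' (U' : Set X)) =
      PrimeSpectrum.comap β.ψ ⁻¹' (β.hV.fromSpec ⁻¹' (V' : Set Y)) := by
  ext z
  have e1 : β.hU.fromSpec (PrimeSpectrum.comap β.φ z) = i (β.hW.fromSpec z) := by
    have := congr($(IsAffineOpen.SpecMap_appLE_fromSpec i β.hU β.hW β.W_le') z)
    rw [Scheme.Hom.comp_apply, Scheme.Hom.comp_apply] at this
    exact this
  have e2 : β.hV.fromSpec (PrimeSpectrum.comap β.ψ z) = j (β.hW.fromSpec z) := by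
    have := congr($(IsAffineOpen.SpecMap_appLE_fromSpec j β.hV β.hW β.W_le) z)
    rw [Scheme.Hom.comp_apply, Scheme.Hom.comp_apply] at this
    exact this
  simp only [Set.mem_preimage]
  rw [e1, e2]
  change β.hW.fromSpec z ∈ i ⁻¹ᵁ U' ↔ β.hW.fromSpec z ∈ j ⁻¹ᵁ V'
  rw [h]

/-- **Refinement lemma** for charts. -/
theorem exists_basic_of_mem_U (β : Chart i j) (U' : X.Opens) (V' : Y.Opens)
    (h : i ⁻¹ᵁ U' = j ⁻¹ᵁ V') (x : X) (hx : x ∈ U') (hxβ : x ∈ β.U) :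
    ∃ r : β.R, x ∈ (β.basic r).U ∧ (β.basic r).U ≤ U' ∧ (β.basic r).V ≤ V' := by
  obtain ⟨r, hr1, hr2, hr3⟩ := FibProd.exists_basicOpen_le_fst (ψ := β.ψ) β.φ_surjective
    (β.hU.fromSpec ⁻¹' (U' : Set X)) (U'.2.preimage β.hU.fromSpec.continuous)
    (β.hV.fromSpec ⁻¹' (V' : Set Y)) (V'.2.preimage β.hV.fromSpec.continuous)
    (β.preimage_comap_eq U' V' h) (β.hU.isoSpec.hom ⟨x, hxβ⟩) (by
      have h1 : β.hU.fromSpec (β.hU.isoSpec.hom ⟨x, hxβ⟩) = x := by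
        rw [← Scheme.Hom.comp_apply, IsAffineOpen.isoSpec_hom_fromSpec]; rfl
      rw [Set.mem_preimage, h1]; exact hx)
  refine ⟨r, ?_, ?_, ?_⟩
  · exact (mem_basicOpen_iff_isoSpec β.hU _ ⟨x, hxβ⟩).mpr hr1
  · exact basicOpen_le_of_subset_preimage β.hU _ U' hr3
  · exact basicOpen_le_of_subset_preimage β.hV _ V' hr2

theorem exists_basic_of_mem_V (β : Chart i j) (U' : X.Opens) (V' : Y.Opens)
    (h : i ⁻¹ᵁ U' = j ⁻¹ᵁ V') (y : Y) (hy : y ∈ V') (hyβ : y ∈ β.V) :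
    ∃ r : β.R, y ∈ (β.basic r).V ∧ (β.basic r).U ≤ U' ∧ (β.basic r).V ≤ V' := by
  obtain ⟨r, hr1, hr2, hr3⟩ := FibProd.exists_basicOpen_le_snd (ψ := β.ψ) β.φ_surjective
    (β.hU.fromSpec ⁻¹' (U' : Set X)) (U'.2.preimage β.hU.fromSpec.continuous)
    (β.hV.fromSpec ⁻¹' (V' : Set Y)) (V'.2.preimage β.hV.fromSpec.continuous)
    (β.preimage_comap_eq U' V' h) (β.hV.isoSpec.hom ⟨y, hyβ⟩) (by
      have h1 : β.hV.fromSpec (β.hV.isoSpec.hom ⟨y, hyβ⟩) = y := by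
        rw [← Scheme.Hom.comp_apply, IsAffineOpen.isoSpec_hom_fromSpec]; rfl
      rw [Set.mem_preimage, h1]; exact hy)
  refine ⟨r, ?_, ?_, ?_⟩
  · exact (mem_basicOpen_iff_isoSpec β.hV _ ⟨y, hyβ⟩).mpr hr1
  · exact basicOpen_le_of_subset_preimage β.hU _ U' hr3
  · exact basicOpen_le_of_subset_preimage β.hV _ V' hr2

theorem exists_le_of_mem_U (β : Chart i j) (U' : X.Opens) (V' : Y.Opens)
    (h : i ⁻¹ᵁ U' = j ⁻¹ᵁ V') (x : X) (hx : x ∈ U') (hxβ : x ∈ β.U) :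
    ∃ α : Chart i j, α ≤ β ∧ x ∈ α.U ∧ α.U ≤ U' ∧ α.V ≤ V' := by
  obtain ⟨r, h1, h2, h3⟩ := β.exists_basic_of_mem_U U' V' h x hx hxβ
  exact ⟨β.basic r, β.basic_le r, h1, h2, h3⟩

theorem exists_le_of_mem_V (β : Chart i j) (U' : X.Opens) (V' : Y.Opens)
    (h : i ⁻¹ᵁ U' = j ⁻¹ᵁ V') (y : Y) (hy : y ∈ V') (hyβ : y ∈ β.V) :
    ∃ α : Chart i j, α ≤ β ∧ y ∈ α.V ∧ α.U ≤ U' ∧ α.V ≤ V' := by
  obtain ⟨r, h1, h2, h3⟩ := β.exists_basic_of_mem_V U' V' h y hy hyβ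
  exact ⟨β.basic r, β.basic_le r, h1, h2, h3⟩

/-- a basic chart of `β` contained in a chart `γ ⊆ β` is smaller than `γ` -/
theorem basic_le_of_le {β γ : Chart i j} (hU : γ.U ≤ β.U) (hV : γ.V ≤ β.V) (r : β.R)
    (h1 : (β.basic r).U ≤ γ.U) (h2 : (β.basic r).V ≤ γ.V) : β.basic r ≤ γ := by
  refine (le_of_basicOpen (α := β.basic r) (β := γ) h1 h2 (res hU hV r) ?_ ?_).1
  · change X.basicOpen (β.p₁ r) = X.basicOpen (X.presheaf.map (homOfLE hU).op (β.p₁ r))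
    rw [Scheme.basicOpen_res]
    exact (inf_eq_right.mpr h1).symm
  · change Y.basicOpen (β.p₂ r) = Y.basicOpen (Y.presheaf.map (homOfLE hV).op (β.p₂ r))
    rw [Scheme.basicOpen_res]
    exact (inf_eq_right.mpr h2).symm

variable {α β}

/-- **(Sub)** -/
theorem le_of_range_subset {γ κ : Chart i j} (hγ : γ ≤ κ) (hα : α ≤ κ)
    (h : Set.range ⇑(tr hγ.hU hγ.hV) ⊆ Set.range ⇑(tr hα.hU hα.hV)) : γ ≤ α := by
  have hoiα := hα.isOpenImmersion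
  have hoiγ := hγ.isOpenImmersion
  have hU : γ.U ≤ α.U := by
    intro x hx
    refine hα.mem_U ⟨x, hγ.hU hx⟩ (h ⟨γ.a ⟨x, hx⟩, ?_⟩)
    exact tr_a_apply hγ.hU hγ.hV ⟨x, hx⟩
  have hV : γ.V ≤ α.V := by
    intro y hy
    refine hα.mem_V ⟨y, hγ.hV hy⟩ (h ⟨γ.b ⟨y, hy⟩, ?_⟩)
    exact tr_b_apply hγ.hU hγ.hV ⟨y, hy⟩
  have hcomp : tr hU hV ≫ tr hα.hU hα.hV = tr hγ.hU hγ.hV := tr_comp hU hV hα.hU hα.hV
  refine ⟨hU, hV, ?_, ?_, ?_⟩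
  · have : IsOpenImmersion (tr hU hV ≫ tr hα.hU hα.hV) := by rw [hcomp]; exact hoiγ
    exact IsOpenImmersion.of_comp _ (tr hα.hU hα.hV)
  · rintro x ⟨q, hq⟩
    refine hγ.mem_U ⟨x.1, hα.hU x.2⟩ ⟨q, ?_⟩
    rw [← hcomp, Scheme.Hom.comp_apply, hq]
    exact tr_a_apply hα.hU hα.hV x
  · rintro y ⟨q, hq⟩
    refine hγ.mem_V ⟨y.1, hα.hV y.2⟩ ⟨q, ?_⟩
    rw [← hcomp, Scheme.Hom.comp_apply, hq]
    exact tr_b_apply hα.hU hα.hV y

/-- local directedness of the diagram of spectra -/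
theorem exists_le_le_of_tr_eq {κ : Chart i j} (hα : α ≤ κ) (hβ : β ≤ κ) (xα : α.spec) (xβ : β.spec)
    (h : tr hα.hU hα.hV xα = tr hβ.hU hβ.hV xβ) :
    ∃ (γ : Chart i j) (h1 : γ ≤ α) (h2 : γ ≤ β) (q : γ.spec),
      tr h1.hU h1.hV q = xα ∧ tr h2.hU h2.hV q = xβ := by
  have hoiα := hα.isOpenImmersion
  have hoiβ := hβ.isOpenImmersion
  let O : (κ.spec).Opens := (tr hα.hU hα.hV).opensRange ⊓ (tr hβ.hU hβ.hV).opensRange
  have hpO : tr hα.hU hα.hV xα ∈ O := ⟨⟨xα, rfl⟩, ⟨xβ, h.symm⟩⟩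
  obtain ⟨_, ⟨r, rfl⟩, hpr, hrO⟩ :=
    (TopologicalSpace.Opens.isBasis_iff_nbhd.mp PrimeSpectrum.isBasis_basic_opens) hpO
  have hγκ : κ.basic r ≤ κ := κ.basic_le r
  have hrange := κ.range_tr_basic r
  have h1 : κ.basic r ≤ α := le_of_range_subset hγκ hα (by
    rw [hrange]; exact fun q hq => (hrO hq).1)
  have h2 : κ.basic r ≤ β := le_of_range_subset hγκ hβ (by
    rw [hrange]; exact fun q hq => (hrO hq).2)
  have hpr' : tr hα.hU hα.hV xα ∈ Set.range ⇑(tr hγκ.hU hγκ.hV) := by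
    rw [hrange]; exact hpr
  obtain ⟨q, hq⟩ := hpr'
  refine ⟨κ.basic r, h1, h2, q, ?_, ?_⟩
  · apply (tr hα.hU hα.hV).isOpenEmbedding.injective
    rw [← Scheme.Hom.comp_apply, tr_comp]
    exact hq
  · apply (tr hβ.hU hβ.hV).isOpenEmbedding.injective
    rw [← Scheme.Hom.comp_apply, tr_comp, ← h]
    exact hq

/-- **(Ref-X)** -/
theorem exists_le_le_of_mem_U (α β : Chart i j) (x : X) (hxα : x ∈ α.U) (hxβ : x ∈ β.U) :
    ∃ γ : Chart i j, γ ≤ α ∧ γ ≤ β ∧ x ∈ γ.U := by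
  have h0 : i ⁻¹ᵁ (α.U ⊓ β.U) = j ⁻¹ᵁ (α.V ⊓ β.V) := by
    change i ⁻¹ᵁ α.U ⊓ i ⁻¹ᵁ β.U = j ⁻¹ᵁ α.V ⊓ j ⁻¹ᵁ β.V
    rw [α.h, β.h]
  obtain ⟨γ₁, hγ₁, hx₁, hU₁, hV₁⟩ :=
    α.exists_le_of_mem_U (α.U ⊓ β.U) (α.V ⊓ β.V) h0 x ⟨hxα, hxβ⟩ hxα
  obtain ⟨r, hx₂, hU₂, hV₂⟩ := β.exists_basic_of_mem_U γ₁.U γ₁.V γ₁.h x hx₁ hxβ
  have h3 : β.basic r ≤ γ₁ :=
    basic_le_of_le (hU₁.trans inf_le_right) (hV₁.trans inf_le_right) r hU₂ hV₂
  exact ⟨β.basic r, h3.trans hγ₁, β.basic_le r, hx₂⟩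

/-- **(Ref-Y)** -/
theorem exists_le_le_of_mem_V (α β : Chart i j) (y : Y) (hyα : y ∈ α.V) (hyβ : y ∈ β.V) :
    ∃ γ : Chart i j, γ ≤ α ∧ γ ≤ β ∧ y ∈ γ.V := by
  have h0 : i ⁻¹ᵁ (α.U ⊓ β.U) = j ⁻¹ᵁ (α.V ⊓ β.V) := by
    change i ⁻¹ᵁ α.U ⊓ i ⁻¹ᵁ β.U = j ⁻¹ᵁ α.V ⊓ j ⁻¹ᵁ β.V
    rw [α.h, β.h]
  obtain ⟨γ₁, hγ₁, hy₁, hU₁, hV₁⟩ :=
    α.exists_le_of_mem_V (α.U ⊓ β.U) (α.V ⊓ β.V) h0 y ⟨hyα, hyβ⟩ hyα
  obtain ⟨r, hy₂, hU₂, hV₂⟩ := β.exists_basic_of_mem_V γ₁.U γ₁.V γ₁.h y hy₁ hyβ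
  have h3 : β.basic r ≤ γ₁ :=
    basic_le_of_le (hU₁.trans inf_le_right) (hV₁.trans inf_le_right) r hU₂ hV₂
  exact ⟨β.basic r, h3.trans hγ₁, β.basic_le r, hy₂⟩

end Chart

end Groth.Agent.Lib.Helper1.FP
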