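import Groth.Agent.Lib.Helper1.FP4

/-!
# Ferrand pushouts (helper1), part 5: the glued scheme and the maps into it
-/

set_option autoImplicit false
set_option linter.unusedSectionVars false
set_option linter.unusedVariables false
set_option linter.style.haveILetI false
universe u

noncomputable section

namespace Groth.Agent.Lib.Helper1.FP

open AlgebraicGeometry CategoryTheory CategoryTheory.Limits TopologicalSpace Opposite

variable {X Y Z : Scheme.{u}} (i : Z ⟶ X) (j : Z ⟶ Y) [IsClosedImmersion i]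

open Chart

/-- the diagram of spectra -/
def F : Chart i j ⥤ Scheme.{u} where
  obj α := α.spec
  map f := tr (leOfHom f).hU (leOfHom f).hV
  map_id α := tr_id
  map_comp f g := (tr_comp _ _ _ _).symm

instance F_isOpenImmersion {α β : Chart i j} (f : α ⟶ β) : IsOpenImmersion ((F i j).map f) :=
  (leOfHom f).isOpenImmersion

instance F_isLocallyDirected : ((F i j) ⋙ Scheme.forget).IsLocallyDirected where
  cond {α β κ} fi fj xi xj h := by
    obtain ⟨γ, h1, h2, q, hq1, hq2⟩ :=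
      exists_le_le_of_tr_eq (leOfHom fi) (leOfHom fj) xi xj h
    exact ⟨γ, homOfLE h1, homOfLE h2, q, hq1, hq2⟩

/-- the glued scheme -/
def P : Scheme.{u} := colimit (F i j)

/-- the open immersions of the charts -/
def ι (α : Chart i j) : α.spec ⟶ P i j := colimit.ι (F i j) α

instance (α : Chart i j) : IsOpenImmersion (ι i j α) :=
  inferInstanceAs (IsOpenImmersion (colimit.ι (F i j) α))

variable {i j}

lemma tr_ι {α β : Chart i j} (h : α ≤ β) : tr h.hU h.hV ≫ ι i j β = ι i j α :=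
  colimit.w (F i j) (homOfLE h)

lemma ι_eq_ι_iff {α β : Chart i j} {xα : α.spec} {xβ : β.spec} :
    ι i j α xα = ι i j β xβ ↔ ∃ (γ : Chart i j) (h1 : γ ≤ α) (h2 : γ ≤ β) (q : γ.spec),
      tr h1.hU h1.hV q = xα ∧ tr h2.hU h2.hV q = xβ := by
  refine (Scheme.IsLocallyDirected.ι_eq_ι_iff (F i j)).trans ?_
  constructor
  · rintro ⟨γ, f1, f2, q, h1, h2⟩
    exact ⟨γ, leOfHom f1, leOfHom f2, q, h1, h2⟩
  · rintro ⟨γ, f1, f2, q, h1, h2⟩
    exact ⟨γ, homOfLE f1, homOfLE f2, q, h1, h2⟩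

lemma ι_jointly_surjective (p : P i j) : ∃ (α : Chart i j) (q : α.spec), ι i j α q = p :=
  Scheme.IsLocallyDirected.ι_jointly_surjective (F i j) p

variable (i j) in
/-- the covering hypothesis -/
structure Covering : Prop where
  hX : ∀ x : X, ∃ α : Chart i j, x ∈ α.U
  hY : ∀ y : Y, ∃ α : Chart i j, y ∈ α.V

variable (hc : Covering i j)

/-- the cover of `X` by the charts -/
def coverX : X.OpenCover :=
  X.openCoverOfIsOpenCover (fun α : Chart i j => α.U) (by
    rw [TopologicalSpace.IsOpenCover, eq_top_iff]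
    intro x _
    obtain ⟨α, hα⟩ := hc.hX x
    exact TopologicalSpace.Opens.mem_iSup.mpr ⟨α, hα⟩)

/-- the cover of `Y` by the charts -/
def coverY : Y.OpenCover :=
  Y.openCoverOfIsOpenCover (fun α : Chart i j => α.V) (by
    rw [TopologicalSpace.IsOpenCover, eq_top_iff]
    intro y _
    obtain ⟨α, hα⟩ := hc.hY y
    exact TopologicalSpace.Opens.mem_iSup.mpr ⟨α, hα⟩)

instance : Preorder (coverX hc).I₀ := inferInstanceAs (Preorder (Chart i j))
instance : Preorder (coverY hc).I₀ := inferInstanceAs (Preorder (Chart i j))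

omit hc in
lemma directedX (α β : Chart i j) (x : ↥(pullback (α.U.ι) (β.U.ι))) :
    ∃ (γ : Chart i j) (h1 : γ ≤ α) (h2 : γ ≤ β) (y : γ.U),
      pullback.lift (X.homOfLE h1.hU) (X.homOfLE h2.hU) (by simp) y = x := by
  have hxα : (pullback.fst (α.U.ι) (β.U.ι) ≫ α.U.ι) x ∈ α.U := by
    rw [Scheme.Hom.comp_apply]; exact (pullback.fst (α.U.ι) (β.U.ι) x).2
  have hxβ : (pullback.fst (α.U.ι) (β.U.ι) ≫ α.U.ι) x ∈ β.U := by
    rw [pullback.condition, Scheme.Hom.comp_apply]; exact (pullback.snd (α.U.ι) (β.U.ι) x).2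
  obtain ⟨γ, h1, h2, hxγ⟩ := exists_le_le_of_mem_U α β _ hxα hxβ
  refine ⟨γ, h1, h2, ⟨_, hxγ⟩, ?_⟩
  apply (pullback.fst (α.U.ι) (β.U.ι) ≫ α.U.ι).isOpenEmbedding.injective
  rw [← Scheme.Hom.comp_apply, pullback.lift_fst_assoc, Scheme.homOfLE_ι]
  rfl

omit hc in
lemma directedY (α β : Chart i j) (y : ↥(pullback (α.V.ι) (β.V.ι))) :
    ∃ (γ : Chart i j) (h1 : γ ≤ α) (h2 : γ ≤ β) (z : γ.V),
      pullback.lift (Y.homOfLE h1.hV) (Y.homOfLE h2.hV) (by simp) z = y := by
  have hyα : (pullback.fst (α.V.ι) (β.V.ι) ≫ α.V.ι) y ∈ α.V := by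
    rw [Scheme.Hom.comp_apply]; exact (pullback.fst (α.V.ι) (β.V.ι) y).2
  have hyβ : (pullback.fst (α.V.ι) (β.V.ι) ≫ α.V.ι) y ∈ β.V := by
    rw [pullback.condition, Scheme.Hom.comp_apply]; exact (pullback.snd (α.V.ι) (β.V.ι) y).2
  obtain ⟨γ, h1, h2, hyγ⟩ := exists_le_le_of_mem_V α β _ hyα hyβ
  refine ⟨γ, h1, h2, ⟨_, hyγ⟩, ?_⟩
  apply (pullback.fst (α.V.ι) (β.V.ι) ≫ α.V.ι).isOpenEmbedding.injective
  rw [← Scheme.Hom.comp_apply, pullback.lift_fst_assoc, Scheme.homOfLE_ι]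
  rfl

instance : (coverX hc).LocallyDirected where
  trans {α β} f := X.homOfLE (Chart.Le.hU (leOfHom f))
  trans_id α := Scheme.homOfLE_rfl _ _
  trans_comp f g := (Scheme.homOfLE_homOfLE _ _ _).symm
  w f := Scheme.homOfLE_ι _ _
  directed {α β} x := by
    obtain ⟨γ, h1, h2, y, hy⟩ := directedX α β x
    exact ⟨γ, homOfLE h1, homOfLE h2, y, hy⟩
  property_trans f := inferInstanceAs (IsOpenImmersion (X.homOfLE _))

instance : (coverY hc).LocallyDirected where
  trans {α β} f := Y.homOfLE (Chart.Le.hV (leOfHom f))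
  trans_id α := Scheme.homOfLE_rfl _ _
  trans_comp f g := (Scheme.homOfLE_homOfLE _ _ _).symm
  w f := Scheme.homOfLE_ι _ _
  directed {α β} y := by
    obtain ⟨γ, h1, h2, z, hz⟩ := directedY α β y
    exact ⟨γ, homOfLE h1, homOfLE h2, z, hz⟩
  property_trans f := inferInstanceAs (IsOpenImmersion (Y.homOfLE _))

omit hc in
lemma compatX {α β : Chart i j} (h : α ≤ β) :
    X.homOfLE h.hU ≫ β.a ≫ ι i j β = α.a ≫ ι i j α := by
  rw [← Category.assoc, ← a_tr h.hU h.hV, Category.assoc, tr_ι h]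

omit hc in
lemma compatY {α β : Chart i j} (h : α ≤ β) :
    Y.homOfLE h.hV ≫ β.b ≫ ι i j β = α.b ≫ ι i j α := by
  rw [← Category.assoc, ← b_tr h.hU h.hV, Category.assoc, tr_ι h]

/-- `X → P` -/
def toP₁ : X ⟶ P i j :=
  (coverX hc).glueMorphismsOfLocallyDirected (fun α : Chart i j => α.a ≫ ι i j α)
    (fun {α β} f => compatX (leOfHom f))

/-- `Y → P` -/
def toP₂ : Y ⟶ P i j :=
  (coverY hc).glueMorphismsOfLocallyDirected (fun α : Chart i j => α.b ≫ ι i j α)
    (fun {α β} f => compatY (leOfHom f))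

lemma ι_toP₁ (α : Chart i j) : α.U.ι ≫ toP₁ hc = α.a ≫ ι i j α :=
  (coverX hc).map_glueMorphismsOfLocallyDirected (fun α : Chart i j => α.a ≫ ι i j α)
    (fun {α β} f => compatX (leOfHom f)) α

lemma ι_toP₂ (α : Chart i j) : α.V.ι ≫ toP₂ hc = α.b ≫ ι i j α :=
  (coverY hc).map_glueMorphismsOfLocallyDirected (fun α : Chart i j => α.b ≫ ι i j α)
    (fun {α β} f => compatY (leOfHom f)) α

end Groth.Agent.Lib.Helper1.FP
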