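import Groth.Agent.Lib.Helper1.FP5

/-!
# Ferrand pushouts (helper1), part 6: the square commutes and is a pushout
-/

set_option autoImplicit false
set_option linter.unusedSectionVars false
set_option linter.unusedVariables false
set_option linter.style.haveILetI false
universe u

noncomputable section

namespace Groth.Agent.Lib.Helper1.FP

open AlgebraicGeometry CategoryTheory CategoryTheory.Limits TopologicalSpace Opposite

/-- naturality of `isoSpec` -/
lemma resLE_isoSpec_hom {Z X : Scheme.{u}} (f : Z ⟶ X) {U : X.Opens} {W : Z.Opens}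
    (hU : IsAffineOpen U) (hW : IsAffineOpen W) (e : W ≤ f ⁻¹ᵁ U) :
    f.resLE U W e ≫ hU.isoSpec.hom = hW.isoSpec.hom ≫ Spec.map (f.appLE U W e) := by
  rw [← cancel_mono hU.fromSpec, Category.assoc, Category.assoc, IsAffineOpen.isoSpec_hom_fromSpec,
    Scheme.Hom.resLE_comp_ι, IsAffineOpen.SpecMap_appLE_fromSpec f hU hW e,
    IsAffineOpen.isoSpec_hom_fromSpec_assoc]

lemma appLE_congr_hom {Z T : Scheme.{u}} {f f' : Z ⟶ T} (hf : f = f') (W : T.Opens)
    (V : Z.Opens) (e1 : V ≤ f ⁻¹ᵁ W) (e2 : V ≤ f' ⁻¹ᵁ W) :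
    f.appLE W V e1 = f'.appLE W V e2 := by
  subst hf; rfl

variable {X Y Z : Scheme.{u}} {i : Z ⟶ X} {j : Z ⟶ Y} [IsClosedImmersion i]

open Chart

namespace Chart

variable (α : Chart i j)

lemma resLE_a : i.resLE α.U α.W α.W_le' ≫ α.a = α.c := by
  rw [a, c, ← Category.assoc, resLE_isoSpec_hom i α.hU α.hW, Category.assoc, ← Spec.map_comp]
  rfl

lemma resLE_b : j.resLE α.V α.W α.W_le ≫ α.b = α.c := by
  rw [b, c_eq, ← Category.assoc, resLE_isoSpec_hom j α.hV α.hW, Category.assoc, ← Spec.map_comp]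
  rfl

end Chart

variable (hc : Covering i j)

/-- the square commutes -/
theorem toP_comm : i ≫ toP₁ hc = j ≫ toP₂ hc := by
  have hcov : TopologicalSpace.IsOpenCover (fun α : Chart i j => α.W) := by
    rw [TopologicalSpace.IsOpenCover, eq_top_iff]
    intro z _
    obtain ⟨α, hα⟩ := hc.hX (i z)
    exact TopologicalSpace.Opens.mem_iSup.mpr ⟨α, hα⟩
  refine Scheme.Cover.hom_ext (Z.openCoverOfIsOpenCover _ hcov) _ _ fun α => ?_
  change α.W.ι ≫ i ≫ toP₁ hc = α.W.ι ≫ j ≫ toP₂ hc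
  rw [← Scheme.Hom.resLE_comp_ι_assoc i α.W_le', ι_toP₁, ← Category.assoc, α.resLE_a,
    ← Scheme.Hom.resLE_comp_ι_assoc j α.W_le, ι_toP₂, ← Category.assoc, α.resLE_b]

lemma toP₁_apply (α : Chart i j) (x : α.U) : toP₁ hc x.1 = ι i j α (α.a x) := by
  have := congr($(ι_toP₁ hc α) x)
  rw [Scheme.Hom.comp_apply, Scheme.Hom.comp_apply] at this
  exact this

lemma toP₂_apply (α : Chart i j) (y : α.V) : toP₂ hc y.1 = ι i j α (α.b y) := by
  have := congr($(ι_toP₂ hc α) y)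
  rw [Scheme.Hom.comp_apply, Scheme.Hom.comp_apply] at this
  exact this

/-- the preimage of a chart of `P` in `X` -/
theorem toP₁_preimage (α : Chart i j) : toP₁ hc ⁻¹ᵁ (ι i j α).opensRange = α.U := by
  ext x
  constructor
  · rintro ⟨q, hq⟩
    obtain ⟨β, hβ⟩ := hc.hX x
    have h1 : toP₁ hc x = ι i j β (β.a ⟨x, hβ⟩) := toP₁_apply hc β ⟨x, hβ⟩
    rw [h1] at hq
    obtain ⟨γ, hγα, hγβ, q', hq1, hq2⟩ := ι_eq_ι_iff.mp hq
    exact hγα.hU (hγβ.mem_U ⟨x, hβ⟩ ⟨q', hq2⟩)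
  · intro hx
    exact ⟨α.a ⟨x, hx⟩, (toP₁_apply hc α ⟨x, hx⟩).symm⟩

/-- the preimage of a chart of `P` in `Y` -/
theorem toP₂_preimage (α : Chart i j) : toP₂ hc ⁻¹ᵁ (ι i j α).opensRange = α.V := by
  ext y
  constructor
  · rintro ⟨q, hq⟩
    obtain ⟨β, hβ⟩ := hc.hY y
    have h1 : toP₂ hc y = ι i j β (β.b ⟨y, hβ⟩) := toP₂_apply hc β ⟨y, hβ⟩
    rw [h1] at hq
    obtain ⟨γ, hγα, hγβ, q', hq1, hq2⟩ := ι_eq_ι_iff.mp hq
    exact hγα.hV (hγβ.mem_V ⟨y, hβ⟩ ⟨q', hq2⟩)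
  · intro hy
    exact ⟨α.b ⟨y, hy⟩, (toP₂_apply hc α ⟨y, hy⟩).symm⟩

/-- **Lemma U'**: uniqueness of maps out of a chart into a scheme, when the image lies in an
affine open. -/
theorem Chart.hom_ext_of_le (α : Chart i j) {T : Scheme.{u}} (W : T.Opens) (hW : IsAffineOpen W)
    (u u' : α.spec ⟶ T) (h1 : α.a ≫ u = α.a ≫ u') (h2 : α.b ≫ u = α.b ≫ u')
    (h3 : ∀ x, (α.a ≫ u) x ∈ W) (h4 : ∀ y, (α.b ≫ u) y ∈ W) : u = u' := by
  have hr : Set.range ⇑u ⊆ Set.range ⇑W.ι := by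
    rw [Scheme.Opens.range_ι]
    rintro _ ⟨q, rfl⟩
    obtain ⟨x, rfl⟩ | ⟨y, rfl⟩ := α.exists_a_or_b q
    · exact h3 x
    · exact h4 y
  have hr' : Set.range ⇑u' ⊆ Set.range ⇑W.ι := by
    rw [Scheme.Opens.range_ι]
    rintro _ ⟨q, rfl⟩
    obtain ⟨x, rfl⟩ | ⟨y, rfl⟩ := α.exists_a_or_b q
    · have := h3 x; rw [h1] at this; exact this
    · have := h4 y; rw [h2] at this; exact this
  let l := IsOpenImmersion.lift W.ι u hr
  let l' := IsOpenImmersion.lift W.ι u' hr'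
  have hl : l ≫ W.ι = u := IsOpenImmersion.lift_fac _ _ _
  have hl' : l' ≫ W.ι = u' := IsOpenImmersion.lift_fac _ _ _
  let m : Spec (CommRingCat.of α.R) ⟶ Spec Γ(T, W) := l ≫ hW.isoSpec.hom
  let m' : Spec (CommRingCat.of α.R) ⟶ Spec Γ(T, W) := l' ≫ hW.isoSpec.hom
  have hal : α.a ≫ l = α.a ≫ l' := by
    rw [← cancel_mono W.ι, Category.assoc, Category.assoc, hl, hl', h1]
  have hbl : α.b ≫ l = α.b ≫ l' := by
    rw [← cancel_mono W.ι, Category.assoc, Category.assoc, hl, hl', h2]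
  have ham : Spec.map (CommRingCat.ofHom α.p₁) ≫ m = Spec.map (CommRingCat.ofHom α.p₁) ≫ m' := by
    rw [← cancel_epi α.hU.isoSpec.hom]
    have := congr($hal ≫ hW.isoSpec.hom)
    simpa only [Chart.a, Category.assoc] using this
  have hbm : Spec.map (CommRingCat.ofHom α.p₂) ≫ m = Spec.map (CommRingCat.ofHom α.p₂) ≫ m' := by
    rw [← cancel_epi α.hV.isoSpec.hom]
    have := congr($hbl ≫ hW.isoSpec.hom)
    simpa only [Chart.b, Category.assoc] using this
  have hρ : Spec.preimage m = Spec.preimage m' := by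
    rw [← Spec.map_preimage m, ← Spec.map_preimage m', ← Spec.map_comp, ← Spec.map_comp] at ham hbm
    have e1 := Spec.map_injective ham
    have e2 := Spec.map_injective hbm
    ext1
    apply FibProd.hom_ext
    · exact congrArg CommRingCat.Hom.hom e1
    · exact congrArg CommRingCat.Hom.hom e2
  have hm : m = m' := by rw [← Spec.map_preimage m, ← Spec.map_preimage m', hρ]
  have hll : l = l' := by
    rw [← cancel_mono hW.isoSpec.hom]; exact hm
  rw [← hl, ← hl', hll]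

end Groth.Agent.Lib.Helper1.FP
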