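import Groth.Agent.Lib.Helper1.FP6

/-!
# Ferrand pushouts (helper1), part 7: the universal property
-/

set_option autoImplicit false
set_option linter.unusedSectionVars false
set_option linter.unusedVariables false
set_option linter.style.haveILetI false
universe u

noncomputable section

namespace Groth.Agent.Lib.Helper1.FP

open AlgebraicGeometry CategoryTheory CategoryTheory.Limits TopologicalSpace Opposite

variable {X Y Z : Scheme.{u}} {i : Z ⟶ X} {j : Z ⟶ Y} [IsClosedImmersion i]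

open Chart

section Desc

variable {T : Scheme.{u}} (g : X ⟶ T) (h : Y ⟶ T)

/-- charts mapping into an affine open of the target -/
def Good (α : Chart i j) : Prop :=
  ∃ W : T.Opens, IsAffineOpen W ∧ α.U ≤ g ⁻¹ᵁ W ∧ α.V ≤ h ⁻¹ᵁ W

variable {g h}

lemma Good.of_le {α β : Chart i j} (hαβ : α ≤ β) (hβ : Good g h β) : Good g h α := by
  obtain ⟨W, hW, h1, h2⟩ := hβ
  exact ⟨W, hW, hαβ.hU.trans h1, hαβ.hV.trans h2⟩

variable (w : i ≫ g = j ≫ h)

include w in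
lemma preimage_eq_of_comm (W : T.Opens) : i ⁻¹ᵁ (g ⁻¹ᵁ W) = j ⁻¹ᵁ (h ⁻¹ᵁ W) := by
  change (i ≫ g) ⁻¹ᵁ W = (j ≫ h) ⁻¹ᵁ W
  rw [w]

include w in
/-- good charts cover `X` -/
lemma exists_good_of_mem_U (β : Chart i j) (x : X) (hx : x ∈ β.U) :
    ∃ α : Chart i j, α ≤ β ∧ Good g h α ∧ x ∈ α.U := by
  obtain ⟨W, hW, hxW, -⟩ := exists_isAffineOpen_mem_and_subset (x := g x) (U := ⊤) trivial
  obtain ⟨α, hα, hxα, h1, h2⟩ :=
    β.exists_le_of_mem_U (g ⁻¹ᵁ W) (h ⁻¹ᵁ W) (preimage_eq_of_comm w W) x hxW hx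
  exact ⟨α, hα, ⟨W, hW, h1, h2⟩, hxα⟩

include w in
lemma exists_good_of_mem_V (β : Chart i j) (y : Y) (hy : y ∈ β.V) :
    ∃ α : Chart i j, α ≤ β ∧ Good g h α ∧ y ∈ α.V := by
  obtain ⟨W, hW, hyW, -⟩ := exists_isAffineOpen_mem_and_subset (x := h y) (U := ⊤) trivial
  obtain ⟨α, hα, hyα, h1, h2⟩ :=
    β.exists_le_of_mem_V (g ⁻¹ᵁ W) (h ⁻¹ᵁ W) (preimage_eq_of_comm w W) y hyW hy
  exact ⟨α, hα, ⟨W, hW, h1, h2⟩, hyα⟩

include w in
/-- the ring map `Γ(T, W) → R_α` -/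
def ρ (α : Chart i j) (W : T.Opens) (hgU : α.U ≤ g ⁻¹ᵁ W) (hhV : α.V ≤ h ⁻¹ᵁ W) :
    Γ(T, W) →+* α.R :=
  FibProd.lift (g.appLE W α.U hgU).hom (h.appLE W α.V hhV).hom (by
    have e1 : g.appLE W α.U hgU ≫ i.appLE α.U α.W α.W_le' =
        (i ≫ g).appLE W α.W (α.W_le'.trans ((Opens.map i.base).map (homOfLE hgU)).le) :=
      Scheme.Hom.appLE_comp_appLE ..
    have e2 : h.appLE W α.V hhV ≫ j.appLE α.V α.W α.W_le =
        (j ≫ h).appLE W α.W (α.W_le.trans ((Opens.map j.base).map (homOfLE hhV)).le) :=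
      Scheme.Hom.appLE_comp_appLE ..
    have e3 := appLE_congr_hom w W α.W
      (α.W_le'.trans ((Opens.map i.base).map (homOfLE hgU)).le)
      (α.W_le.trans ((Opens.map j.base).map (homOfLE hhV)).le)
    exact congrArg CommRingCat.Hom.hom (e1.trans (e3.trans e2.symm)))

/-- the map `Spec R_α → T` -/
def descα (α : Chart i j) (W : T.Opens) (hW : IsAffineOpen W) (hgU : α.U ≤ g ⁻¹ᵁ W)
    (hhV : α.V ≤ h ⁻¹ᵁ W) : α.spec ⟶ T :=
  Spec.map (CommRingCat.ofHom (ρ w α W hgU hhV)) ≫ hW.fromSpec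

lemma a_descα (α : Chart i j) (W : T.Opens) (hW : IsAffineOpen W) (hgU : α.U ≤ g ⁻¹ᵁ W)
    (hhV : α.V ≤ h ⁻¹ᵁ W) : α.a ≫ descα w α W hW hgU hhV = α.U.ι ≫ g := by
  have e : Spec.map (CommRingCat.ofHom α.p₁) ≫ Spec.map (CommRingCat.ofHom (ρ w α W hgU hhV)) =
      Spec.map (g.appLE W α.U hgU) := by
    rw [← Spec.map_comp]; rfl
  rw [a, descα, Category.assoc, ← Category.assoc (Spec.map _), e,
    IsAffineOpen.SpecMap_appLE_fromSpec g hW α.hU hgU, IsAffineOpen.isoSpec_hom_fromSpec_assoc]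

lemma b_descα (α : Chart i j) (W : T.Opens) (hW : IsAffineOpen W) (hgU : α.U ≤ g ⁻¹ᵁ W)
    (hhV : α.V ≤ h ⁻¹ᵁ W) : α.b ≫ descα w α W hW hgU hhV = α.V.ι ≫ h := by
  have e : Spec.map (CommRingCat.ofHom α.p₂) ≫ Spec.map (CommRingCat.ofHom (ρ w α W hgU hhV)) =
      Spec.map (h.appLE W α.V hhV) := by
    rw [← Spec.map_comp]; rfl
  rw [b, descα, Category.assoc, ← Category.assoc (Spec.map _), e,
    IsAffineOpen.SpecMap_appLE_fromSpec h hW α.hV hhV, IsAffineOpen.isoSpec_hom_fromSpec_assoc]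

/-- uniqueness of maps out of a good chart -/
lemma Good.hom_ext {α : Chart i j} (hα : Good g h α) (u u' : α.spec ⟶ T)
    (h1 : α.a ≫ u = α.U.ι ≫ g) (h2 : α.b ≫ u = α.V.ι ≫ h)
    (h1' : α.a ≫ u' = α.U.ι ≫ g) (h2' : α.b ≫ u' = α.V.ι ≫ h) : u = u' := by
  obtain ⟨W, hW, hgU, hhV⟩ := hα
  refine α.hom_ext_of_le W hW u u' (h1.trans h1'.symm) (h2.trans h2'.symm) ?_ ?_
  · intro x
    rw [h1, Scheme.Hom.comp_apply]
    exact hgU x.2
  · intro y
    rw [h2, Scheme.Hom.comp_apply]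
    exact hhV y.2

/-- the chosen map out of a good chart -/
def Good.desc {α : Chart i j} (hα : Good g h α) : α.spec ⟶ T :=
  descα w α hα.choose hα.choose_spec.1 hα.choose_spec.2.1 hα.choose_spec.2.2

lemma Good.a_desc {α : Chart i j} (hα : Good g h α) : α.a ≫ hα.desc w = α.U.ι ≫ g :=
  a_descα w α _ _ _ _

lemma Good.b_desc {α : Chart i j} (hα : Good g h α) : α.b ≫ hα.desc w = α.V.ι ≫ h :=
  b_descα w α _ _ _ _

lemma Good.tr_desc {α β : Chart i j} (hαβ : α ≤ β) (hα : Good g h α) (hβ : Good g h β) :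
    tr hαβ.hU hαβ.hV ≫ hβ.desc w = hα.desc w := by
  refine hα.hom_ext _ _ ?_ ?_ (hα.a_desc w) (hα.b_desc w)
  · rw [← Category.assoc, a_tr, Category.assoc, hβ.a_desc w, Scheme.homOfLE_ι_assoc]
  · rw [← Category.assoc, b_tr, Category.assoc, hβ.b_desc w, Scheme.homOfLE_ι_assoc]

end Desc

end Groth.Agent.Lib.Helper1.FP
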