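import Groth.Agent.Lib.Helper1.FP7

/-!
# Ferrand pushouts (helper1), part 8: the pushout square
-/

set_option autoImplicit false
set_option linter.unusedSectionVars false
set_option linter.unusedVariables false
set_option linter.style.haveILetI false
universe u

noncomputable section

namespace Groth.Agent.Lib.Helper1.FP

open AlgebraicGeometry CategoryTheory CategoryTheory.Limits TopologicalSpace Opposite

variable {X Y Z : Scheme.{u}} {i : Z ⟶ X} {j : Z ⟶ Y} [IsClosedImmersion i]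

open Chart

section Desc

variable (hc : Covering i j) {T : Scheme.{u}} {g : X ⟶ T} {h : Y ⟶ T} (w : i ≫ g = j ≫ h)

include w in
lemma exists_good_ι_eq (p : P i j) :
    ∃ (α : Chart i j) (_ : Good g h α) (q : α.spec), ι i j α q = p := by
  obtain ⟨β, q, rfl⟩ := ι_jointly_surjective p
  obtain ⟨x, rfl⟩ | ⟨y, rfl⟩ := β.exists_a_or_b q
  · obtain ⟨α, hαβ, hα, hxα⟩ := exists_good_of_mem_U w β x.1 x.2
    refine ⟨α, hα, α.a ⟨x.1, hxα⟩, ?_⟩
    rw [← tr_ι hαβ, Scheme.Hom.comp_apply, tr_a_apply]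
    rfl
  · obtain ⟨α, hαβ, hα, hyα⟩ := exists_good_of_mem_V w β y.1 y.2
    refine ⟨α, hα, α.b ⟨y.1, hyα⟩, ?_⟩
    rw [← tr_ι hαβ, Scheme.Hom.comp_apply, tr_b_apply]
    rfl

/-- the cover of `P` by good charts -/
def coverP : (P i j).OpenCover where
  I₀ := {α : Chart i j // Good g h α}
  X α := α.1.spec
  f α := ι i j α.1
  mem₀ := by
    rw [Scheme.presieve₀_mem_precoverage_iff]
    refine ⟨fun p => ?_, fun α => inferInstanceAs (IsOpenImmersion (ι i j α.1))⟩
    obtain ⟨α, hα, q, hq⟩ := exists_good_ι_eq w p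
    exact ⟨⟨α, hα⟩, q, hq⟩

instance : Preorder (coverP w).I₀ :=
  inferInstanceAs (Preorder {α : Chart i j // Good g h α})

lemma directedP (α β : {α : Chart i j // Good g h α})
    (x : ↥(pullback (ι i j α.1) (ι i j β.1))) :
    ∃ (γ : {α : Chart i j // Good g h α}) (h1 : γ.1 ≤ α.1) (h2 : γ.1 ≤ β.1) (q : γ.1.spec),
      pullback.lift (tr h1.hU h1.hV) (tr h2.hU h2.hV) (by rw [tr_ι h1, tr_ι h2]) q = x := by
  have hx : ι i j α.1 (pullback.fst (ι i j α.1) (ι i j β.1) x) =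
      ι i j β.1 (pullback.snd (ι i j α.1) (ι i j β.1) x) := by
    rw [← Scheme.Hom.comp_apply, ← Scheme.Hom.comp_apply, pullback.condition]
  obtain ⟨γ, h1, h2, q, hq1, hq2⟩ := ι_eq_ι_iff.mp hx
  refine ⟨⟨γ, Good.of_le h1 α.2⟩, h1, h2, q, ?_⟩
  apply (pullback.fst (ι i j α.1) (ι i j β.1)).isOpenEmbedding.injective
  rw [← Scheme.Hom.comp_apply, pullback.lift_fst]
  exact hq1

instance : (coverP w).LocallyDirected where
  trans {α β} f := tr (Chart.Le.hU (leOfHom f)) (Chart.Le.hV (leOfHom f))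
  trans_id α := tr_id
  trans_comp f g := (tr_comp _ _ _ _).symm
  w f := tr_ι (leOfHom f)
  directed {α β} x := by
    obtain ⟨γ, h1, h2, q, hq⟩ := directedP α β x
    exact ⟨γ, homOfLE h1, homOfLE h2, q, hq⟩
  property_trans f := Chart.Le.isOpenImmersion (leOfHom f)

/-- the induced map out of `P` -/
def descP : P i j ⟶ T :=
  (coverP w).glueMorphismsOfLocallyDirected
    (fun α : {α : Chart i j // Good g h α} => α.2.desc w)
    (fun {α β} f => Good.tr_desc w (leOfHom f) α.2 β.2)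

lemma ι_descP (α : Chart i j) (hα : Good g h α) : ι i j α ≫ descP w = hα.desc w :=
  (coverP w).map_glueMorphismsOfLocallyDirected
    (fun α : {α : Chart i j // Good g h α} => α.2.desc w)
    (fun {α β} f => Good.tr_desc w (leOfHom f) α.2 β.2) ⟨α, hα⟩

include hc in
lemma toP₁_descP : toP₁ hc ≫ descP w = g := by
  have hcov : TopologicalSpace.IsOpenCover (fun α : {α : Chart i j // Good g h α} => α.1.U) := by
    rw [TopologicalSpace.IsOpenCover, eq_top_iff]
    intro x _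
    obtain ⟨β, hβ⟩ := hc.hX x
    obtain ⟨α, -, hα, hxα⟩ := exists_good_of_mem_U w β x hβ
    exact TopologicalSpace.Opens.mem_iSup.mpr ⟨⟨α, hα⟩, hxα⟩
  refine Scheme.Cover.hom_ext (X.openCoverOfIsOpenCover _ hcov) _ _ fun α => ?_
  change α.1.U.ι ≫ toP₁ hc ≫ descP w = α.1.U.ι ≫ g
  rw [← Category.assoc, ι_toP₁, Category.assoc, ι_descP w α.1 α.2, α.2.a_desc w]

include hc in
lemma toP₂_descP : toP₂ hc ≫ descP w = h := by
  have hcov : TopologicalSpace.IsOpenCover (fun α : {α : Chart i j // Good g h α} => α.1.V) := by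
    rw [TopologicalSpace.IsOpenCover, eq_top_iff]
    intro y _
    obtain ⟨β, hβ⟩ := hc.hY y
    obtain ⟨α, -, hα, hyα⟩ := exists_good_of_mem_V w β y hβ
    exact TopologicalSpace.Opens.mem_iSup.mpr ⟨⟨α, hα⟩, hyα⟩
  refine Scheme.Cover.hom_ext (Y.openCoverOfIsOpenCover _ hcov) _ _ fun α => ?_
  change α.1.V.ι ≫ toP₂ hc ≫ descP w = α.1.V.ι ≫ h
  rw [← Category.assoc, ι_toP₂, Category.assoc, ι_descP w α.1 α.2, α.2.b_desc w]

include hc w in
lemma descP_uniq (m : P i j ⟶ T) (h1 : toP₁ hc ≫ m = g) (h2 : toP₂ hc ≫ m = h) :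
    m = descP w := by
  refine Scheme.Cover.hom_ext (coverP w) _ _ fun α => ?_
  change ι i j α.1 ≫ m = ι i j α.1 ≫ descP w
  rw [ι_descP w α.1 α.2]
  refine α.2.hom_ext _ _ ?_ ?_ (α.2.a_desc w) (α.2.b_desc w)
  · rw [← Category.assoc, ← ι_toP₁ hc, Category.assoc, h1]
  · rw [← Category.assoc, ← ι_toP₂ hc, Category.assoc, h2]

end Desc

/-- **The pushout square.** -/
theorem isPushout_toP (hc : Covering i j) : IsPushout i j (toP₁ hc) (toP₂ hc) := by
  refine ⟨⟨toP_comm hc⟩, ⟨PushoutCocone.IsColimit.mk _ (fun s => descP (g := s.inl) (h := s.inr)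
    s.condition) ?_ ?_ ?_⟩⟩
  · intro s; exact toP₁_descP hc s.condition
  · intro s; exact toP₂_descP hc s.condition
  · intro s m h1 h2; exact descP_uniq hc s.condition m h1 h2

end Groth.Agent.Lib.Helper1.FP
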