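import Groth.Agent.Lib.Helper1.FP8

/-!
# Ferrand pushouts (helper1), part 9: coverings in concrete situations
-/

set_option autoImplicit false
set_option linter.unusedSectionVars false
set_option linter.unusedVariables false
set_option linter.style.haveILetI false
universe u

noncomputable section

namespace Groth.Agent.Lib.Helper1.FP

open AlgebraicGeometry CategoryTheory CategoryTheory.Limits TopologicalSpace Opposite

/-- charts away from the closed subscheme -/
lemma exists_chart_of_not_mem_range {X Y Z : Scheme.{u}} (i : Z ⟶ X) (j : Z ⟶ Y)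
    [IsClosedImmersion i] (x : X) (hx : x ∉ Set.range ⇑i) : ∃ α : Chart i j, x ∈ α.U := by
  have hcl : IsClosed (Set.range ⇑i) := i.isClosedEmbedding.isClosed_range
  let O : X.Opens := ⟨(Set.range ⇑i)ᶜ, hcl.isOpen_compl⟩
  obtain ⟨W, hW, hxW, hWO⟩ := exists_isAffineOpen_mem_and_subset (x := x) (U := O) hx
  refine ⟨⟨W, ⊥, hW, isAffineOpen_bot Y, ?_⟩, hxW⟩
  ext z
  constructor
  · intro hz
    exact absurd ⟨z, rfl⟩ (hWO hz)
  · intro hz
    exact absurd hz (by simp)

/-- the covering in the situation of an affine-local standard hypothesis (S15943) -/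
theorem covering_of_hstd {X Y T Z : Scheme.{u}} (f : X ⟶ Y) (t : T ⟶ Y) (ξ : Z ⟶ T) (ι : Z ⟶ X)
    [IsAffineHom t] [IsClosedImmersion ι] (hsq : ι ≫ f = ξ ≫ t)
    (hstd : ∀ y : Y, ∃ U : Y.Opens, IsAffineOpen U ∧ y ∈ U ∧ ∃ V : X.Opens, IsAffineOpen V ∧
      V ≤ f ⁻¹ᵁ U ∧ ∀ z : Z, (ξ ≫ t).base z ∈ U → ι.base z ∈ V) :
    Covering ι ξ := by
  have key : ∀ y : T, ∃ α : Chart ι ξ, y ∈ α.V ∧ ∀ z : Z, ξ z = y → ι z ∈ α.U := by
    intro y
    obtain ⟨U, hU, hyU, V, hV, hVU, hz⟩ := hstd (t y)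
    refine ⟨⟨V, t ⁻¹ᵁ U, hV, hU.preimage t, ?_⟩, hyU, ?_⟩
    · ext z
      constructor
      · intro hz1
        have h1 : f (ι z) ∈ U := hVU hz1
        have h2 : (ι ≫ f) z = (ξ ≫ t) z := by rw [hsq]
        rw [Scheme.Hom.comp_apply, Scheme.Hom.comp_apply] at h2
        change t (ξ z) ∈ U
        rw [← h2]; exact h1
      · intro hz1
        exact hz z hz1
    · intro z hzy
      apply hz z
      change t (ξ z) ∈ U
      rw [hzy]; exact hyU
  refine ⟨fun x => ?_, fun y => ?_⟩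
  · by_cases hx : x ∈ Set.range ⇑ι
    · obtain ⟨z, rfl⟩ := hx
      obtain ⟨α, -, hα⟩ := key (ξ z)
      exact ⟨α, hα z rfl⟩
    · exact exists_chart_of_not_mem_range ι ξ x hx
  · obtain ⟨α, hα, -⟩ := key y
    exact ⟨α, hα⟩

end Groth.Agent.Lib.Helper1.FP
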