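import Groth.Agent.Lib.Helper1.FP20
import Mathlib.LinearAlgebra.TensorProduct.Prod
import Mathlib.LinearAlgebra.TensorProduct.RightExactness
import Mathlib.RingTheory.Flat.Basic

/-!
# Base change of Ferrand pushouts (helper1), part 1: tensoring a fibre product square
-/

set_option autoImplicit false
set_option linter.unusedSectionVars false
set_option linter.unusedVariables false
set_option linter.style.haveILetI false
universe u

noncomputable section

namespace Groth.Agent.Lib.Helper1.FP

open TensorProduct

namespace TensorSq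

variable {R A B C D : Type u} [CommRing R] [CommRing A] [CommRing B] [CommRing C] [CommRing D]
  [Algebra R A] [Algebra R B] [Algebra R C] [Algebra R D] (φ : A →ₐ[R] C) (ψ : B →ₐ[R] C)

/-- the diagonal map `R → A × B` -/
def ε : R →ₗ[R] A × B := (Algebra.linearMap R A).prod (Algebra.linearMap R B)

/-- the difference map `A × B → C` -/
def δ : A × B →ₗ[R] C := φ.toLinearMap.coprod (-ψ.toLinearMap)

lemma δ_apply (a : A) (b : B) : δ φ ψ (a, b) = φ a - ψ b := by
  simp [δ, sub_eq_add_neg]

lemma ε_apply (r : R) : ε (A := A) (B := B) r = (algebraMap R A r, algebraMap R B r) := rfl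

variable {φ ψ}

lemma exact (hex : ∀ a b, φ a = ψ b → ∃ r : R, algebraMap R A r = a ∧ algebraMap R B r = b) :
    Function.Exact (ε (R := R) (A := A) (B := B)) (δ φ ψ) := by
  rintro ⟨a, b⟩
  rw [δ_apply, sub_eq_zero]
  constructor
  · intro h
    obtain ⟨r, h1, h2⟩ := hex a b h
    exact ⟨r, by rw [ε_apply, h1, h2]⟩
  · rintro ⟨r, hr⟩
    rw [ε_apply] at hr
    have h1 : algebraMap R A r = a := congrArg Prod.fst hr
    have h2 : algebraMap R B r = b := congrArg Prod.snd hr
    rw [← h1, ← h2, AlgHom.commutes, AlgHom.commutes]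

lemma δ_surjective (hφ : Function.Surjective φ) : Function.Surjective (δ φ ψ) := by
  intro c
  obtain ⟨a, rfl⟩ := hφ c
  exact ⟨(a, 0), by rw [δ_apply, map_zero, sub_zero]⟩

variable (φ ψ) in
lemma lTensor_δ (z : D ⊗[R] (A × B)) :
    (δ φ ψ).lTensor D z =
      φ.toLinearMap.lTensor D (TensorProduct.prodRight R R D A B z).1 -
        ψ.toLinearMap.lTensor D (TensorProduct.prodRight R R D A B z).2 := by
  induction z with
  | zero => simp
  | tmul d x =>
    obtain ⟨a, b⟩ := x
    simp only [LinearMap.lTensor_tmul, TensorProduct.prodRight_tmul, δ_apply,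
      AlgHom.toLinearMap_apply, tmul_sub]
  | add x y hx hy =>
    simp only [map_add, Prod.fst_add, Prod.snd_add, hx, hy]
    abel

/-- surjectivity onto the fibre product after tensoring -/
theorem exists_of_eq
    (hex : ∀ a b, φ a = ψ b → ∃ r : R, algebraMap R A r = a ∧ algebraMap R B r = b)
    (hφ : Function.Surjective φ) (x : D ⊗[R] A) (y : D ⊗[R] B)
    (hxy : φ.toLinearMap.lTensor D x = ψ.toLinearMap.lTensor D y) :
    ∃ d : D, x = d ⊗ₜ[R] (1 : A) ∧ y = d ⊗ₜ[R] (1 : B) := by
  obtain ⟨z, hz⟩ := (TensorProduct.prodRight R R D A B).surjective (x, y)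
  have hδz : (δ φ ψ).lTensor D z = 0 := by
    rw [lTensor_δ, hz, sub_eq_zero]
    exact hxy
  have hE := lTensor_exact D (exact hex) (δ_surjective (ψ := ψ) hφ)
  obtain ⟨w, hw⟩ := (hE z).mp hδz
  refine ⟨TensorProduct.rid R D w, ?_, ?_⟩
  · have h1 : x = (TensorProduct.prodRight R R D A B z).1 := by rw [hz]
    rw [h1, ← hw]
    clear hw hz hδz h1
    induction w with
    | zero => simp
    | tmul d r =>
      simp only [LinearMap.lTensor_tmul, TensorProduct.prodRight_tmul, ε_apply,
        TensorProduct.rid_tmul]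
      rw [Algebra.algebraMap_eq_smul_one, TensorProduct.tmul_smul, TensorProduct.smul_tmul']
    | add x y hx hy => simp only [map_add, Prod.fst_add, hx, hy, add_tmul]
  · have h1 : y = (TensorProduct.prodRight R R D A B z).2 := by rw [hz]
    rw [h1, ← hw]
    clear hw hz hδz h1
    induction w with
    | zero => simp
    | tmul d r =>
      simp only [LinearMap.lTensor_tmul, TensorProduct.prodRight_tmul, ε_apply,
        TensorProduct.rid_tmul]
      rw [Algebra.algebraMap_eq_smul_one, TensorProduct.tmul_smul, TensorProduct.smul_tmul']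
    | add x y hx hy => simp only [map_add, Prod.snd_add, hx, hy, add_tmul]

/-- injectivity after tensoring with a flat module -/
theorem eq_zero_of_flat [Module.Flat R D]
    (hinj : ∀ r : R, algebraMap R A r = 0 → algebraMap R B r = 0 → r = 0) (d : D)
    (h1 : d ⊗ₜ[R] (1 : A) = 0) (h2 : d ⊗ₜ[R] (1 : B) = 0) : d = 0 := by
  have hε : Function.Injective (ε (R := R) (A := A) (B := B)) := by
    rw [injective_iff_map_eq_zero]
    intro r hr
    rw [ε_apply] at hr
    exact hinj r (congrArg Prod.fst hr) (congrArg Prod.snd hr)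
  have hinj' := Module.Flat.lTensor_preserves_injective_linearMap (M := D) _ hε
  have h3 : (ε (R := R) (A := A) (B := B)).lTensor D (d ⊗ₜ[R] (1 : R)) = 0 := by
    apply (TensorProduct.prodRight R R D A B).injective
    rw [LinearMap.lTensor_tmul, ε_apply, TensorProduct.prodRight_tmul, map_one, map_one, map_zero]
    exact Prod.ext h1 h2
  have h4 : d ⊗ₜ[R] (1 : R) = 0 := hinj' (by rw [h3, map_zero])
  have h5 := congrArg (TensorProduct.rid R D) h4
  rwa [TensorProduct.rid_tmul, one_smul, map_zero] at h5

end TensorSq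

end Groth.Agent.Lib.Helper1.FP
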