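import Groth.Agent.Lib.Helper1.FPB9

/-!
# Base change of Ferrand pushouts (helper1), part 10: the pinching situation
-/

set_option autoImplicit false
set_option linter.unusedSectionVars false
set_option linter.unusedVariables false
set_option linter.style.haveILetI false
universe u

noncomputable section

namespace Groth.Agent.Lib.Helper1.FP

open AlgebraicGeometry CategoryTheory CategoryTheory.Limits TopologicalSpace Opposite

/-- a flat surjective morphism is injective on sections -/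
lemma app_injective_of_flat_of_surjective {Z T : Scheme.{u}} (ξ : Z ⟶ T) [Flat ξ] [Surjective ξ]
    (V : T.Opens) : Function.Injective (ξ.app V).hom := by
  rw [injective_iff_map_eq_zero]
  intro s hs
  refine TopCat.Presheaf.section_ext T.sheaf V s 0 fun τ hτ => ?_
  obtain ⟨z, rfl⟩ := ξ.surjective τ
  have hinj : Function.Injective (ξ.stalkMap z).hom := by
    algebraize [(ξ.stalkMap z).hom]
    have : Module.FaithfullyFlat (T.presheaf.stalk (ξ z)) (Z.presheaf.stalk z) :=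
      @Module.FaithfullyFlat.of_flat_of_isLocalHom _ _ _ _ _ _ _
        (Flat.stalkMap ξ z) (ξ.toLRSHom.prop z)
    exact ‹RingHom.FaithfullyFlat _›.injective
  have h1 := Scheme.Hom.germ_stalkMap_apply ξ V z hτ s
  rw [hs, map_zero] at h1
  have h2 : (ξ.stalkMap z).hom ((T.presheaf.germ V (ξ z) hτ).hom 0) = 0 := by
    rw [map_zero, map_zero]
  exact hinj (h1.trans h2.symm)

lemma bijective_res_of_eq {Z : Scheme.{u}} {W₁ W₂ : Z.Opens} (h : W₂ = W₁) (hle : W₂ ≤ W₁) :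
    Function.Bijective (Z.presheaf.map (homOfLE hle).op).hom := by
  subst h
  have : Z.presheaf.map (homOfLE hle).op = 𝟙 _ := by
    rw [show homOfLE hle = 𝟙 _ from rfl, op_id, Z.presheaf.map_id]
  rw [this]
  exact Function.bijective_id

lemma S_le_of {X Y Z : Scheme.{u}} {i : Z ⟶ X} {j : Z ⟶ Y} [IsClosedImmersion i]
    {hc : Covering i j} (α : Chart i j) {B₀ : Scheme.{u}} (p₀ : P i j ⟶ B₀) (U : B₀.Opens)
    (h1 : α.U ≤ (toP₁ hc ≫ p₀) ⁻¹ᵁ U) (h2 : α.V ≤ (toP₂ hc ≫ p₀) ⁻¹ᵁ U) :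
    BC.S α ≤ p₀ ⁻¹ᵁ U := by
  rintro _ ⟨s, rfl⟩
  obtain ⟨x, rfl⟩ | ⟨y, rfl⟩ := α.exists_a_or_b s
  · have := toP₁_apply hc α x
    change p₀ (ι i j α (α.a x)) ∈ U
    rw [← this]
    exact h1 x.2
  · have := toP₂_apply hc α y
    change p₀ (ι i j α (α.b y)) ∈ U
    rw [← this]
    exact h2 y.2

section Hstd

variable {X Y T Z : Scheme.{u}} (f : X ⟶ Y) (t : T ⟶ Y) (ξ : Z ⟶ T) (ι : Z ⟶ X)
  [IsAffineHom t] [IsClosedImmersion ι] (hsq : ι ≫ f = ξ ≫ t)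
  (U : Y.Opens) (hU : IsAffineOpen U) (V : X.Opens) (hV : IsAffineOpen V) (hVU : V ≤ f ⁻¹ᵁ U)
  (hz : ∀ z : Z, (ξ ≫ t).base z ∈ U → ι.base z ∈ V)

include hsq hVU hz in
lemma hstd_preimage_eq : ι ⁻¹ᵁ V = ξ ⁻¹ᵁ (t ⁻¹ᵁ U) := by
  ext z
  constructor
  · intro hz1
    have h1 : f (ι z) ∈ U := hVU hz1
    have h2 : (ι ≫ f) z = (ξ ≫ t) z := by rw [hsq]
    rw [Scheme.Hom.comp_apply, Scheme.Hom.comp_apply] at h2
    change t (ξ z) ∈ U
    rw [← h2]; exact h1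
  · intro hz1
    exact hz z hz1

/-- the chart attached to the standard hypothesis -/
def hstdChart : Chart ι ξ :=
  ⟨V, t ⁻¹ᵁ U, hV, hU.preimage t, hstd_preimage_eq f t ξ ι hsq U V hVU hz⟩

variable (hc : Covering ι ξ) (p₀ : P ι ξ ⟶ Y) (hp₁ : toP₁ hc ≫ p₀ = f) (hp₂ : toP₂ hc ≫ p₀ = t)

include hp₁ hp₂ in
lemma hstd_S_le : BC.S (hstdChart f t ξ ι hsq U hU V hV hVU hz) ≤ p₀ ⁻¹ᵁ U := by
  refine S_le_of (hc := hc) _ p₀ U ?_ ?_
  · rw [hp₁]; exact hVU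
  · rw [hp₂]; exact le_rfl

include hp₁ hp₂ in
/-- the linear retraction in the pinching situation -/
theorem exists_retraction_hstd [Flat ξ] [Surjective ξ]
    (hvU : @Pinch.CokerProjective Γ(Y, U) Γ(Z, (ξ ≫ t) ⁻¹ᵁ U) Γ(T, t ⁻¹ᵁ U) _ _ _
      ((ξ ≫ t).app U).hom.toAlgebra (ξ.app (t ⁻¹ᵁ U)).hom) :
    ∃ r : Γ(X, V) →+ Γ(P ι ξ, BC.S (hstdChart f t ξ ι hsq U hU V hV hVU hz)),
      (∀ l a, r (((toP₁ hc).appLE (BC.S (hstdChart f t ξ ι hsq U hU V hV hVU hz)) V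
          (BC.U_le hc (hstdChart f t ξ ι hsq U hU V hV hVU hz))).hom
        ((p₀.appLE U (BC.S (hstdChart f t ξ ι hsq U hU V hV hVU hz))
          (hstd_S_le f t ξ ι hsq U hU V hV hVU hz hc p₀ hp₁ hp₂)).hom l) * a) =
        (p₀.appLE U (BC.S (hstdChart f t ξ ι hsq U hU V hV hVU hz))
          (hstd_S_le f t ξ ι hsq U hU V hV hVU hz hc p₀ hp₁ hp₂)).hom l * r a) ∧
      ∀ x, r (((toP₁ hc).appLE (BC.S (hstdChart f t ξ ι hsq U hU V hV hVU hz)) V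
        (BC.U_le hc (hstdChart f t ξ ι hsq U hU V hV hVU hz))).hom x) = x := by
  set α := hstdChart f t ξ ι hsq U hU V hV hVU hz with hα
  have hSU := hstd_S_le f t ξ ι hsq U hU V hV hVU hz hc p₀ hp₁ hp₂
  have hWeq : (ξ ≫ t) ⁻¹ᵁ U = α.W := (hstd_preimage_eq f t ξ ι hsq U V hVU hz).symm
  have hle : (ξ ≫ t) ⁻¹ᵁ U ≤ ι ⁻¹ᵁ V := hWeq.le
  have hκ := bijective_res_of_eq hWeq hle
  have hbij := BC.ρ_bijective hc α
  -- the maps
  have hφκ : ι.appLE V ((ξ ≫ t) ⁻¹ᵁ U) hle =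
      ι.appLE α.U α.W α.W_le' ≫ Z.presheaf.map (homOfLE hle).op :=
    (Scheme.Hom.appLE_map _ _ _).symm
  have hψκ : ξ.app (t ⁻¹ᵁ U) =
      ξ.appLE α.V α.W α.W_le ≫ Z.presheaf.map (homOfLE hle).op := by
    rw [Scheme.Hom.appLE_map, Scheme.Hom.app_eq_appLE]
    rfl
  refine TensorSq.exists_retraction (p₀.appLE U (BC.S α) hSU).hom
    ((toP₁ hc).appLE (BC.S α) V (BC.U_le hc α)).hom
    ((toP₂ hc).appLE (BC.S α) (t ⁻¹ᵁ U) (BC.V_le hc α)).hom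
    (ι.appLE V ((ξ ≫ t) ⁻¹ᵁ U) hle).hom (ξ.app (t ⁻¹ᵁ U)).hom ?_ ?_
    (app_injective_of_flat_of_surjective ξ _) ?_ ?_ ((ξ ≫ t).app U).hom ?_ hvU
  · -- commutation
    have := appLE_comp_eq (toP_comm hc) (BC.S α) V (t ⁻¹ᵁ U) ((ξ ≫ t) ⁻¹ᵁ U)
      (BC.U_le hc α) hle (BC.V_le hc α) le_rfl
    have h3 : ξ.appLE (t ⁻¹ᵁ U) ((ξ ≫ t) ⁻¹ᵁ U) le_rfl = ξ.app (t ⁻¹ᵁ U) :=
      (Scheme.Hom.app_eq_appLE ξ).symm
    rw [h3] at this
    exact congrArg CommRingCat.Hom.hom this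
  · -- surjectivity
    rw [hφκ]
    exact hκ.2.comp α.φ_surjective
  · -- fibre product: existence
    intro a b hab
    have hab' : α.φ a = α.ψ b := by
      apply hκ.1
      have h1 : (ι.appLE V ((ξ ≫ t) ⁻¹ᵁ U) hle).hom a =
          (Z.presheaf.map (homOfLE hle).op).hom (α.φ a) := congr($(hφκ).hom a)
      have h2 : (ξ.app (t ⁻¹ᵁ U)).hom b =
          (Z.presheaf.map (homOfLE hle).op).hom (α.ψ b) := congr($(hψκ).hom b)
      exact h1.symm.trans (hab.trans h2)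
    obtain ⟨r, hr⟩ := hbij.2 (FibProd.mk a b hab')
    exact ⟨r, congrArg (FibProd.fst α.φ α.ψ) hr, congrArg (FibProd.snd α.φ α.ψ) hr⟩
  · -- fibre product: injectivity
    intro r h1 h2
    apply hbij.1
    rw [map_zero]
    exact FibProd.ext' h1 h2
  · -- the algebra structure
    have h1 : (ξ ≫ t).app U = (ι ≫ toP₁ hc ≫ p₀).appLE U ((ξ ≫ t) ⁻¹ᵁ U) (by
        rw [hp₁, hsq]) := by
      rw [Scheme.Hom.app_eq_appLE]
      exact appLE_congr_hom (by rw [hp₁, hsq]) _ _ _ _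
    have h2 : (ι ≫ toP₁ hc ≫ p₀).appLE U ((ξ ≫ t) ⁻¹ᵁ U) (by rw [hp₁, hsq]) =
        p₀.appLE U (BC.S α) hSU ≫ (toP₁ hc).appLE (BC.S α) V (BC.U_le hc α) ≫
          ι.appLE V ((ξ ≫ t) ⁻¹ᵁ U) hle := by
      rw [Scheme.Hom.appLE_comp_appLE, Scheme.Hom.appLE_comp_appLE]
      exact appLE_congr_hom (Category.assoc _ _ _).symm _ _ _ _
    exact congrArg CommRingCat.Hom.hom (h1.trans h2)

end Hstd

end Groth.Agent.Lib.Helper1.FP
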