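import Groth.Agent.Lib.Helper1.FPB11
import Mathlib.RingTheory.Flat.Equalizer

/-!
# Base change of Ferrand pushouts (helper1), part 12: flat over the base (algebra)
-/

set_option autoImplicit false
set_option linter.unusedSectionVars false
set_option linter.unusedVariables false
set_option linter.style.haveILetI false
universe u

noncomputable section

namespace Groth.Agent.Lib.Helper1.FP

open TensorProduct CategoryTheory CategoryTheory.Limits

namespace TensorSq

/-- the kernel of a surjection of flat modules is flat -/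
theorem flat_of_exact {Λ K E C : Type u} [CommRing Λ] [AddCommGroup K] [AddCommGroup E]
    [AddCommGroup C] [Module Λ K] [Module Λ E] [Module Λ C] (ε : K →ₗ[Λ] E) (δ : E →ₗ[Λ] C)
    (hε : Function.Injective ε) (hδ : Function.Surjective δ) (hex : Function.Exact ε δ)
    [Module.Flat Λ E] [Module.Flat Λ C] : Module.Flat Λ K := by
  rw [Module.Flat.iff_rTensor_preserves_injective_linearMap]
  intro N N' _ _ _ _ u hu
  have h1 : Function.Injective (ε.lTensor N) :=
    LinearMap.lTensor_injective_of_exact_of_flat δ hδ ε hε hex N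
  have h2 : Function.Injective (u.rTensor E) :=
    Module.Flat.rTensor_preserves_injective_linearMap u hu
  have hcomm : (ε.lTensor N').comp (u.rTensor K) = (u.rTensor E).comp (ε.lTensor N) := by
    rw [LinearMap.lTensor_comp_rTensor, LinearMap.rTensor_comp_lTensor]
  rw [injective_iff_map_eq_zero]
  intro x hx
  apply h1
  apply h2
  have := congr($hcomm x)
  rw [LinearMap.comp_apply, LinearMap.comp_apply, hx, map_zero] at this
  rw [← this, map_zero, map_zero]

/-- a product of flat modules is flat -/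
theorem flat_prod {Λ M N : Type u} [CommRing Λ] [AddCommGroup M] [AddCommGroup N] [Module Λ M]
    [Module Λ N] [Module.Flat Λ M] [Module.Flat Λ N] : Module.Flat Λ (M × N) := by
  rw [Module.Flat.iff_rTensor_preserves_injective_linearMap]
  intro N₁ N₂ _ _ _ _ u hu
  have h1 : Function.Injective (u.rTensor M) :=
    Module.Flat.rTensor_preserves_injective_linearMap u hu
  have h2 : Function.Injective (u.rTensor N) :=
    Module.Flat.rTensor_preserves_injective_linearMap u hu
  have hcomm : ∀ x : N₁ ⊗[Λ] (M × N), TensorProduct.prodRight Λ Λ N₂ M N (u.rTensor (M × N) x) =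
      (u.rTensor M (TensorProduct.prodRight Λ Λ N₁ M N x).1,
        u.rTensor N (TensorProduct.prodRight Λ Λ N₁ M N x).2) := by
    intro x
    induction x with
    | zero => simp only [map_zero, Prod.fst_zero, Prod.snd_zero, Prod.mk_zero_zero]
    | tmul n m => rfl
    | add x y hx hy => simp only [map_add, hx, hy, Prod.mk_add_mk, Prod.fst_add, Prod.snd_add]
  rw [injective_iff_map_eq_zero]
  intro x hx
  apply (TensorProduct.prodRight Λ Λ N₁ M N).injective
  rw [map_zero]
  have h3 := hcomm x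
  rw [hx, map_zero] at h3
  have h4 : u.rTensor M (TensorProduct.prodRight Λ Λ N₁ M N x).1 = 0 :=
    (congrArg Prod.fst h3).symm
  have h5 : u.rTensor N (TensorProduct.prodRight Λ Λ N₁ M N x).2 = 0 :=
    (congrArg Prod.snd h3).symm
  exact Prod.ext (h1 (h4.trans (map_zero _).symm)) (h2 (h5.trans (map_zero _).symm))

section AlgHom

variable {Λ R A B C : Type u} [CommRing Λ] [CommRing R] [CommRing A] [CommRing B] [CommRing C]
  [Algebra Λ R] [Algebra Λ A] [Algebra Λ B] [Algebra Λ C]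
  (f₁ : R →ₐ[Λ] A) (f₂ : R →ₐ[Λ] B) (φ : A →ₐ[Λ] C) (ψ : B →ₐ[Λ] C)

/-- the diagonal map, linear over a base -/
def εΛ : R →ₗ[Λ] A × B := f₁.toLinearMap.prod f₂.toLinearMap

/-- the difference map, linear over a base -/
def δΛ : A × B →ₗ[Λ] C := φ.toLinearMap.coprod (-ψ.toLinearMap)

lemma δΛ_apply (a : A) (b : B) : δΛ φ ψ (a, b) = φ a - ψ b := by
  simp [δΛ, sub_eq_add_neg]

lemma εΛ_apply (r : R) : εΛ f₁ f₂ r = (f₁ r, f₂ r) := rfl

variable {f₁ f₂ φ ψ}

lemma εΛ_injective (hinj : ∀ r : R, f₁ r = 0 → f₂ r = 0 → r = 0) :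
    Function.Injective (εΛ f₁ f₂) := by
  rw [injective_iff_map_eq_zero]
  intro r hr
  rw [εΛ_apply] at hr
  exact hinj r (congrArg Prod.fst hr) (congrArg Prod.snd hr)

lemma δΛ_surjective (hφ : Function.Surjective φ) : Function.Surjective (δΛ φ ψ) := by
  intro c
  obtain ⟨a, rfl⟩ := hφ c
  exact ⟨(a, 0), by rw [δΛ_apply, map_zero, sub_zero]⟩

lemma exactΛ (hf : ∀ r, φ (f₁ r) = ψ (f₂ r))
    (hex : ∀ a b, φ a = ψ b → ∃ r : R, f₁ r = a ∧ f₂ r = b) :
    Function.Exact (εΛ f₁ f₂) (δΛ φ ψ) := by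
  rintro ⟨a, b⟩
  rw [δΛ_apply, sub_eq_zero]
  constructor
  · intro h
    obtain ⟨r, h1, h2⟩ := hex a b h
    exact ⟨r, by rw [εΛ_apply, h1, h2]⟩
  · rintro ⟨r, hr⟩
    rw [εΛ_apply] at hr
    have h1 : f₁ r = a := congrArg Prod.fst hr
    have h2 : f₂ r = b := congrArg Prod.snd hr
    rw [← h1, ← h2]; exact hf r

/-- the fibre product of flat algebras along a surjection onto a flat algebra is flat -/
theorem flat_of_fibProd (hf : ∀ r, φ (f₁ r) = ψ (f₂ r)) (hφ : Function.Surjective φ)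
    (hex : ∀ a b, φ a = ψ b → ∃ r : R, f₁ r = a ∧ f₂ r = b)
    (hinj : ∀ r : R, f₁ r = 0 → f₂ r = 0 → r = 0)
    [Module.Flat Λ A] [Module.Flat Λ B] [Module.Flat Λ C] : Module.Flat Λ R :=
  haveI : Module.Flat Λ (A × B) := flat_prod
  flat_of_exact (εΛ f₁ f₂) (δΛ φ ψ) (εΛ_injective hinj) (δΛ_surjective hφ) (exactΛ hf hex)

/-- tensoring the diagonal map stays injective when the cokernel is flat -/
theorem lTensor_εΛ_injective (hf : ∀ r, φ (f₁ r) = ψ (f₂ r)) (hφ : Function.Surjective φ)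
    (hex : ∀ a b, φ a = ψ b → ∃ r : R, f₁ r = a ∧ f₂ r = b)
    (hinj : ∀ r : R, f₁ r = 0 → f₂ r = 0 → r = 0) [Module.Flat Λ C]
    (M : Type u) [AddCommGroup M] [Module Λ M] :
    Function.Injective ((εΛ f₁ f₂).lTensor M) :=
  LinearMap.lTensor_injective_of_exact_of_flat (δΛ φ ψ) (δΛ_surjective hφ) (εΛ f₁ f₂)
    (εΛ_injective hinj) (exactΛ hf hex) M

end AlgHom

/-- base change over `Λ` of a fibre product square with flat corner stays injective
(abstract pushout form) -/
theorem injective_of_flat_coker {Λ Λ' R A B C D A' B' : Type u} [CommRing Λ] [CommRing Λ']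
    [CommRing R] [CommRing A] [CommRing B] [CommRing C] [CommRing D] [CommRing A'] [CommRing B']
    (lR : Λ →+* R) (l' : Λ →+* Λ') (f₁ : R →+* A) (f₂ : R →+* B) (φ : A →+* C) (ψ : B →+* C)
    (hf : φ.comp f₁ = ψ.comp f₂) (hφ : Function.Surjective φ)
    (hex : ∀ a b, φ a = ψ b → ∃ r : R, f₁ r = a ∧ f₂ r = b)
    (hinj : ∀ r : R, f₁ r = 0 → f₂ r = 0 → r = 0)
    (hflat : ((φ.comp f₁).comp lR).Flat)
    (uR : R →+* D) (vD : Λ' →+* D)
    (hD : IsPushout (CommRingCat.ofHom lR) (CommRingCat.ofHom l')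
      (CommRingCat.ofHom uR) (CommRingCat.ofHom vD))
    (uA : A →+* A') (vA : Λ' →+* A')
    (hA : IsPushout (CommRingCat.ofHom (f₁.comp lR)) (CommRingCat.ofHom l')
      (CommRingCat.ofHom uA) (CommRingCat.ofHom vA))
    (uB : B →+* B') (vB : Λ' →+* B')
    (hB : IsPushout (CommRingCat.ofHom (f₂.comp lR)) (CommRingCat.ofHom l')
      (CommRingCat.ofHom uB) (CommRingCat.ofHom vB))
    (dA : D →+* A') (dB : D →+* B') (h1 : dA.comp uR = uA.comp f₁) (h2 : dA.comp vD = vA)
    (h3 : dB.comp uR = uB.comp f₂) (h4 : dB.comp vD = vB) :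
    ∀ d : D, dA d = 0 → dB d = 0 → d = 0 := by
  letI : Algebra Λ R := lR.toAlgebra
  letI : Algebra Λ A := (f₁.comp lR).toAlgebra
  letI : Algebra Λ B := (f₂.comp lR).toAlgebra
  letI : Algebra Λ C := ((φ.comp f₁).comp lR).toAlgebra
  letI : Algebra Λ Λ' := l'.toAlgebra
  haveI : Module.Flat Λ C := hflat
  let f₁a : R →ₐ[Λ] A := { f₁ with commutes' := fun r => rfl }
  let f₂a : R →ₐ[Λ] B := { f₂ with commutes' := fun r => rfl }
  let φa : A →ₐ[Λ] C := { φ with commutes' := fun r => rfl }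
  let ψa : B →ₐ[Λ] C := { ψ with commutes' := fun r => (congr($hf (lR r))).symm }
  have hinjT := lTensor_εΛ_injective (f₁ := f₁a) (f₂ := f₂a) (φ := φa) (ψ := ψa)
    (fun r => congr($hf r)) hφ hex hinj Λ'
  let eD := tensorIso (R := Λ) (A := R) (D := Λ') uR vD hD
  let eA := tensorIso (R := Λ) (A := A) (D := Λ') uA vA hA
  let eB := tensorIso (R := Λ) (A := B) (D := Λ') uB vB hB
  have hcommA : ∀ y : Λ' ⊗[Λ] R, dA (eD.hom y) = eA.hom (f₁a.toLinearMap.lTensor Λ' y) := by
    intro y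
    induction y with
    | zero => simp
    | tmul l x =>
      rw [LinearMap.lTensor_tmul, tensorIso_tmul, tensorIso_tmul, map_mul]
      have e1 : dA (vD l) = vA l := congr($h2 l)
      have e2 : dA (uR x) = uA (f₁ x) := congr($h1 x)
      rw [e1, e2]; rfl
    | add x y hx hy => simp only [map_add, hx, hy]
  have hcommB : ∀ y : Λ' ⊗[Λ] R, dB (eD.hom y) = eB.hom (f₂a.toLinearMap.lTensor Λ' y) := by
    intro y
    induction y with
    | zero => simp
    | tmul l x =>
      rw [LinearMap.lTensor_tmul, tensorIso_tmul, tensorIso_tmul, map_mul]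
      have e1 : dB (vD l) = vB l := congr($h4 l)
      have e2 : dB (uR x) = uB (f₂ x) := congr($h3 x)
      rw [e1, e2]; rfl
    | add x y hx hy => simp only [map_add, hx, hy]
  have hprod : ∀ y : Λ' ⊗[Λ] R, TensorProduct.prodRight Λ Λ Λ' A B
      ((εΛ f₁a f₂a).lTensor Λ' y) =
      (f₁a.toLinearMap.lTensor Λ' y, f₂a.toLinearMap.lTensor Λ' y) := by
    intro y
    induction y with
    | zero => simp only [map_zero, Prod.mk_zero_zero]
    | tmul l x => rfl
    | add x y hx hy => simp only [map_add, hx, hy, Prod.mk_add_mk]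
  intro d hdA hdB
  obtain ⟨y, rfl⟩ := tensorIso_surjective (R := Λ) uR vD hD d
  change dA (eD.hom y) = 0 at hdA
  change dB (eD.hom y) = 0 at hdB
  rw [hcommA] at hdA
  rw [hcommB] at hdB
  have hA0 : f₁a.toLinearMap.lTensor Λ' y = 0 := by
    apply tensorIso_injective (R := Λ) uA vA hA
    rw [map_zero]; exact hdA
  have hB0 : f₂a.toLinearMap.lTensor Λ' y = 0 := by
    apply tensorIso_injective (R := Λ) uB vB hB
    rw [map_zero]; exact hdB
  have hy : y = 0 := by
    apply hinjT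
    apply (TensorProduct.prodRight Λ Λ Λ' A B).injective
    rw [hprod, hA0, hB0, map_zero, map_zero]
    rfl
  rw [hy, map_zero]

/-- flatness of the fibre product ring over a base (ring hom form) -/
theorem flat_fibProd {Λ R A B C : Type u} [CommRing Λ] [CommRing R] [CommRing A] [CommRing B]
    [CommRing C] (lR : Λ →+* R) (f₁ : R →+* A) (f₂ : R →+* B) (φ : A →+* C) (ψ : B →+* C)
    (hf : φ.comp f₁ = ψ.comp f₂) (hφ : Function.Surjective φ)
    (hex : ∀ a b, φ a = ψ b → ∃ r : R, f₁ r = a ∧ f₂ r = b)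
    (hinj : ∀ r : R, f₁ r = 0 → f₂ r = 0 → r = 0)
    (hA : (f₁.comp lR).Flat) (hB : (f₂.comp lR).Flat) (hC : ((φ.comp f₁).comp lR).Flat) :
    lR.Flat := by
  letI : Algebra Λ R := lR.toAlgebra
  letI : Algebra Λ A := (f₁.comp lR).toAlgebra
  letI : Algebra Λ B := (f₂.comp lR).toAlgebra
  letI : Algebra Λ C := ((φ.comp f₁).comp lR).toAlgebra
  haveI : Module.Flat Λ A := hA
  haveI : Module.Flat Λ B := hB
  haveI : Module.Flat Λ C := hC
  let f₁a : R →ₐ[Λ] A := { f₁ with commutes' := fun r => rfl }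
  let f₂a : R →ₐ[Λ] B := { f₂ with commutes' := fun r => rfl }
  let φa : A →ₐ[Λ] C := { φ with commutes' := fun r => rfl }
  let ψa : B →ₐ[Λ] C := { ψ with commutes' := fun r => (congr($hf (lR r))).symm }
  exact flat_of_fibProd (f₁ := f₁a) (f₂ := f₂a) (φ := φa) (ψ := ψa)
    (fun r => congr($hf r)) hφ hex hinj

end TensorSq

end Groth.Agent.Lib.Helper1.FP
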