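import Groth.Agent.Lib.Helper1.FPB12

/-!
# Base change of Ferrand pushouts (helper1), part 13: the glued subscheme flat over the base
-/

set_option autoImplicit false
set_option linter.unusedSectionVars false
set_option linter.unusedVariables false
set_option linter.style.haveILetI false
universe u

noncomputable section

namespace Groth.Agent.Lib.Helper1.FP

open AlgebraicGeometry CategoryTheory CategoryTheory.Limits TopologicalSpace Opposite

namespace BC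

variable {X Y Z : Scheme.{u}} {i : Z ⟶ X} {j : Z ⟶ Y} [IsClosedImmersion i]
  {hc : Covering i j} {F : Scheme.{u}} {q : F ⟶ P i j} (d : Data hc q)
  (α : Chart i j)

namespace Data

/-- the local condition when `Z` is flat over a base -/
theorem localCond_of_flat_base {B₀ Y' : Scheme.{u}} (p₀ : P i j ⟶ B₀) (g : Y' ⟶ B₀)
    (sF : F ⟶ Y') (HF : IsPullback q sF p₀ g) [Flat (i ≫ toP₁ hc ≫ p₀)]
    (U : B₀.Opens) (hU : IsAffineOpen U) (hSU : S α ≤ p₀ ⁻¹ᵁ U)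
    (U' : Y'.Opens) (hU' : IsAffineOpen U') (hU'U : U' ≤ g ⁻¹ᵁ U) :
    d.LocalCond α (q ⁻¹ᵁ S α ⊓ sF ⁻¹ᵁ U')
      (isAffineOpen_inf HF hU'U hSU hU hU' (hS α)) inf_le_left := by
  set O := q ⁻¹ᵁ S α ⊓ sF ⁻¹ᵁ U' with hOdef
  have hO : IsAffineOpen O := isAffineOpen_inf HF hU'U hSU hU hU' (hS α)
  refine ⟨?_, d.ρ_surjective α O hO inf_le_left⟩
  have hD := (isIso_pushoutSection_iff HF hU'U hSU rfl).mp
    (isIso_pushoutSection_of_isAffineOpen HF hU'U hSU rfl hU hU' (hS α))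
  -- the composite pullback squares
  have HXY : IsPullback d.pX (d.aF ≫ sF) (toP₁ hc ≫ p₀) g :=
    (d.HX.flip.paste_horiz HF.flip).flip
  have HYY : IsPullback d.pY (d.bF ≫ sF) (toP₂ hc ≫ p₀) g :=
    (d.HY.flip.paste_horiz HF.flip).flip
  have hUle : α.U ≤ (toP₁ hc ≫ p₀) ⁻¹ᵁ U := fun x hx => hSU (U_le hc α hx)
  have hVle : α.V ≤ (toP₂ hc ≫ p₀) ⁻¹ᵁ U := fun y hy => hSU (V_le hc α hy)
  have hβU : (d.chart α O hO inf_le_left).U = d.pX ⁻¹ᵁ α.U ⊓ (d.aF ≫ sF) ⁻¹ᵁ U' := by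
    ext x
    change (d.pX x ∈ α.U ∧ (q (d.aF x) ∈ S α ∧ sF (d.aF x) ∈ U')) ↔
      (d.pX x ∈ α.U ∧ sF (d.aF x) ∈ U')
    constructor
    · rintro ⟨h1, -, h3⟩; exact ⟨h1, h3⟩
    · rintro ⟨h1, h3⟩
      refine ⟨h1, ?_, h3⟩
      have : q (d.aF x) = toP₁ hc (d.pX x) := by
        rw [← Scheme.Hom.comp_apply, ← Scheme.Hom.comp_apply, d.HX.w]
      rw [this]
      exact U_le hc α h1
  have hβV : (d.chart α O hO inf_le_left).V = d.pY ⁻¹ᵁ α.V ⊓ (d.bF ≫ sF) ⁻¹ᵁ U' := by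
    ext y
    change (d.pY y ∈ α.V ∧ (q (d.bF y) ∈ S α ∧ sF (d.bF y) ∈ U')) ↔
      (d.pY y ∈ α.V ∧ sF (d.bF y) ∈ U')
    constructor
    · rintro ⟨h1, -, h3⟩; exact ⟨h1, h3⟩
    · rintro ⟨h1, h3⟩
      refine ⟨h1, ?_, h3⟩
      have : q (d.bF y) = toP₂ hc (d.pY y) := by
        rw [← Scheme.Hom.comp_apply, ← Scheme.Hom.comp_apply, d.HY.w]
      rw [this]
      exact V_le hc α h1
  have hA := (isIso_pushoutSection_iff HXY hU'U hUle hβU).mp
    (isIso_pushoutSection_of_isAffineOpen HXY hU'U hUle hβU hU hU' α.hU)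
  have hA' : (toP₁ hc ≫ p₀).appLE U α.U hUle =
      p₀.appLE U (S α) hSU ≫ (toP₁ hc).appLE (S α) α.U (U_le hc α) :=
    (appLE_comp_eq' rfl _ _ _ _ _ _).symm
  rw [hA'] at hA
  have hB := (isIso_pushoutSection_iff HYY hU'U hVle hβV).mp
    (isIso_pushoutSection_of_isAffineOpen HYY hU'U hVle hβV hU hU' α.hV)
  have hB' : (toP₂ hc ≫ p₀).appLE U α.V hVle =
      p₀.appLE U (S α) hSU ≫ (toP₂ hc).appLE (S α) α.V (V_le hc α) :=
    (appLE_comp_eq' rfl _ _ _ _ _ _).symm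
  rw [hB'] at hB
  have hbij := ρ_bijective hc α
  have hWle : α.W ≤ (i ≫ toP₁ hc ≫ p₀) ⁻¹ᵁ U := fun z hz => hUle hz
  have hflat : ((α.φ.comp ((toP₁ hc).appLE (S α) α.U (U_le hc α)).hom).comp
      (p₀.appLE U (S α) hSU).hom).Flat := by
    have h1 := Scheme.Hom.flat_appLE (i ≫ toP₁ hc ≫ p₀) hU α.hW hWle
    have h2 : (i ≫ toP₁ hc ≫ p₀).appLE U α.W hWle =
        p₀.appLE U (S α) hSU ≫ (toP₁ hc).appLE (S α) α.U (U_le hc α) ≫
          i.appLE α.U α.W α.W_le' := by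
      rw [Scheme.Hom.appLE_comp_appLE, Scheme.Hom.appLE_comp_appLE]
      exact appLE_congr_hom (Category.assoc _ _ _).symm _ _ _ _
    rw [h2] at h1
    exact h1
  have key := TensorSq.injective_of_flat_coker (p₀.appLE U (S α) hSU).hom (g.appLE U U' hU'U).hom
    ((toP₁ hc).appLE (S α) α.U (U_le hc α)).hom ((toP₂ hc).appLE (S α) α.V (V_le hc α)).hom
    α.φ α.ψ
    (congrArg CommRingCat.Hom.hom
      (appLE_comp_eq (toP_comm hc) (S α) α.U α.V α.W (U_le hc α) α.W_le' (V_le hc α) α.W_le))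
    α.φ_surjective
    (fun a b hab => by
      obtain ⟨r, hr⟩ := hbij.2 (FibProd.mk a b hab)
      exact ⟨r, congrArg (FibProd.fst α.φ α.ψ) hr, congrArg (FibProd.snd α.φ α.ψ) hr⟩)
    (fun r h1 h2 => by
      apply hbij.1
      rw [map_zero]
      exact FibProd.ext' h1 h2)
    hflat _ _ hD _ _ hA _ _ hB
    (d.aF.appLE O (d.chart α O hO inf_le_left).U inf_le_right).hom
    (d.bF.appLE O (d.chart α O hO inf_le_left).V inf_le_right).hom
    (congrArg CommRingCat.Hom.hom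
      (appLE_comp_eq d.HX.w.symm (S α) O α.U (d.chart α O hO inf_le_left).U
        inf_le_left inf_le_right (U_le hc α) inf_le_left))
    (congrArg CommRingCat.Hom.hom
      (appLE_comp_eq' rfl U' O (d.chart α O hO inf_le_left).U inf_le_right inf_le_right
        (hβU.le.trans inf_le_right)))
    (congrArg CommRingCat.Hom.hom
      (appLE_comp_eq d.HY.w.symm (S α) O α.V (d.chart α O hO inf_le_left).V
        inf_le_left inf_le_right (V_le hc α) inf_le_left))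
    (congrArg CommRingCat.Hom.hom
      (appLE_comp_eq' rfl U' O (d.chart α O hO inf_le_left).V inf_le_right inf_le_right
        (hβV.le.trans inf_le_right)))
  intro x y hxy
  have h0 : ρ d.w (d.chart α O hO inf_le_left) O inf_le_right inf_le_right (x - y) = 0 := by
    rw [map_sub, hxy, sub_self]
  have := key (x - y) (congrArg (FibProd.fst _ _) h0) (congrArg (FibProd.snd _ _) h0)
  exact sub_eq_zero.mp this

/-- **Base change of Ferrand pushouts when the glued subscheme is flat over the base.** -/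
theorem isPushout_of_flat_base {B₀ Y' : Scheme.{u}} (p₀ : P i j ⟶ B₀) (g : Y' ⟶ B₀)
    (sF : F ⟶ Y') (HF : IsPullback q sF p₀ g) [Flat (i ≫ toP₁ hc ≫ p₀)] :
    IsPushout d.iF d.jF d.aF d.bF := by
  apply isPushout
  intro f₀
  have w : i ≫ (toP₁ hc ≫ p₀) = j ≫ (toP₂ hc ≫ p₀) := by
    rw [← Category.assoc, toP_comm hc, Category.assoc]
  obtain ⟨α, ⟨W, hW, h1, h2⟩, s, hs⟩ := exists_good_ι_eq w (q f₀)
  have hqf : q f₀ ∈ S α := ⟨s, hs⟩
  have hSU : S α ≤ p₀ ⁻¹ᵁ W := S_le_of (hc := hc) α p₀ W h1 h2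
  have hgy : g (sF f₀) ∈ W := by
    have h3 : g (sF f₀) = p₀ (q f₀) := by
      rw [← Scheme.Hom.comp_apply, ← Scheme.Hom.comp_apply, HF.w]
    rw [h3]
    exact hSU hqf
  obtain ⟨U', hU', hy'U', hU'U⟩ := exists_isAffineOpen_mem_and_subset
    (x := sF f₀) (U := g ⁻¹ᵁ W) hgy
  exact ⟨α, q ⁻¹ᵁ S α ⊓ sF ⁻¹ᵁ U', _, inf_le_left, ⟨hqf, hy'U'⟩,
    d.localCond_of_flat_base α p₀ g sF HF W hW hSU U' hU' hU'U⟩

end Data

/-- flatness of the pushout over a base -/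
theorem flat_of_flat {B₀ : Scheme.{u}} (hc : Covering i j) (p₀ : P i j ⟶ B₀)
    [Flat (toP₁ hc ≫ p₀)] [Flat (toP₂ hc ≫ p₀)] [Flat (i ≫ toP₁ hc ≫ p₀)] : Flat p₀ := by
  rw [HasRingHomProperty.iff_exists_appLE (P := @Flat)
    (RingHom.Flat.stableUnderComposition.stableUnderCompositionWithLocalizationAway
      RingHom.Flat.holdsForLocalizationAway).left]
  intro π
  have w : i ≫ (toP₁ hc ≫ p₀) = j ≫ (toP₂ hc ≫ p₀) := by
    rw [← Category.assoc, toP_comm hc, Category.assoc]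
  obtain ⟨α, ⟨W, hW, h1, h2⟩, s, hs⟩ := exists_good_ι_eq w π
  have hSU : S α ≤ p₀ ⁻¹ᵁ W := S_le_of (hc := hc) α p₀ W h1 h2
  refine ⟨⟨W, hW⟩, ⟨S α, hS α⟩, ⟨s, hs⟩, hSU, ?_⟩
  have hbij := ρ_bijective hc α
  have hWle : α.W ≤ (i ≫ toP₁ hc ≫ p₀) ⁻¹ᵁ W := fun z hz => h1 hz
  refine TensorSq.flat_fibProd (p₀.appLE W (S α) hSU).hom
    ((toP₁ hc).appLE (S α) α.U (U_le hc α)).hom ((toP₂ hc).appLE (S α) α.V (V_le hc α)).hom
    α.φ α.ψ
    (congrArg CommRingCat.Hom.hom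
      (appLE_comp_eq (toP_comm hc) (S α) α.U α.V α.W (U_le hc α) α.W_le' (V_le hc α) α.W_le))
    α.φ_surjective
    (fun a b hab => by
      obtain ⟨r, hr⟩ := hbij.2 (FibProd.mk a b hab)
      exact ⟨r, congrArg (FibProd.fst α.φ α.ψ) hr, congrArg (FibProd.snd α.φ α.ψ) hr⟩)
    (fun r h1 h2 => by
      apply hbij.1
      rw [map_zero]
      exact FibProd.ext' h1 h2) ?_ ?_ ?_
  · have h3 := Scheme.Hom.flat_appLE (toP₁ hc ≫ p₀) hW α.hU h1
    have h4 : (toP₁ hc ≫ p₀).appLE W α.U h1 =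
        p₀.appLE W (S α) hSU ≫ (toP₁ hc).appLE (S α) α.U (U_le hc α) :=
      (appLE_comp_eq' rfl _ _ _ _ _ _).symm
    rw [h4] at h3
    exact h3
  · have h3 := Scheme.Hom.flat_appLE (toP₂ hc ≫ p₀) hW α.hV h2
    have h4 : (toP₂ hc ≫ p₀).appLE W α.V h2 =
        p₀.appLE W (S α) hSU ≫ (toP₂ hc).appLE (S α) α.V (V_le hc α) :=
      (appLE_comp_eq' rfl _ _ _ _ _ _).symm
    rw [h4] at h3
    exact h3
  · have h3 := Scheme.Hom.flat_appLE (i ≫ toP₁ hc ≫ p₀) hW α.hW hWle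
    have h4 : (i ≫ toP₁ hc ≫ p₀).appLE W α.W hWle =
        p₀.appLE W (S α) hSU ≫ (toP₁ hc).appLE (S α) α.U (U_le hc α) ≫
          i.appLE α.U α.W α.W_le' := by
      rw [Scheme.Hom.appLE_comp_appLE, Scheme.Hom.appLE_comp_appLE]
      exact appLE_congr_hom (Category.assoc _ _ _).symm _ _ _ _
    rw [h4] at h3
    exact h3

end BC

end Groth.Agent.Lib.Helper1.FP
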