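import Groth.Agent.Lib.Helper1.FPB13

/-!
# Base change of Ferrand pushouts (helper1), part 14: wrappers for arbitrary pushouts
-/

set_option autoImplicit false
set_option linter.unusedSectionVars false
set_option linter.unusedVariables false
set_option linter.style.haveILetI false
universe u

noncomputable section

namespace Groth.Agent.Lib.Helper1.FP

open AlgebraicGeometry CategoryTheory CategoryTheory.Limits TopologicalSpace Opposite

/-- the covering when a commutative square with affine legs is given -/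
theorem covering_of_affine_square {X Y Z P' : Scheme.{u}} (i : Z ⟶ X) (j : Z ⟶ Y)
    [IsClosedImmersion i] (a : X ⟶ P') (b : Y ⟶ P') [IsAffineHom a] [IsAffineHom b]
    (w : i ≫ a = j ≫ b) : Covering i j := by
  let key : ∀ V : P'.Opens, IsAffineOpen V → Chart i j := fun V hV =>
    ⟨a ⁻¹ᵁ V, b ⁻¹ᵁ V, hV.preimage a, hV.preimage b, by
      change (i ≫ a) ⁻¹ᵁ V = (j ≫ b) ⁻¹ᵁ V
      rw [w]⟩
  refine ⟨fun x => ?_, fun y => ?_⟩
  · obtain ⟨V, hV, hxV, -⟩ := exists_isAffineOpen_mem_and_subset (x := a x) (U := ⊤) trivial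
    exact ⟨key V hV, hxV⟩
  · obtain ⟨V, hV, hyV, -⟩ := exists_isAffineOpen_mem_and_subset (x := b y) (U := ⊤) trivial
    exact ⟨key V hV, hyV⟩

namespace BC

/-- `pullback.map` with identities sits in a pullback square -/
lemma isPullback_map_id {A B S S' : Scheme.{u}} (a : A ⟶ B) (p : B ⟶ S) (pa : A ⟶ S)
    (g : S' ⟶ S) (h1 : pa ≫ 𝟙 S = a ≫ p) (h2 : g ≫ 𝟙 S = 𝟙 S' ≫ g) :
    IsPullback (pullback.fst pa g) (pullback.map pa g p g a (𝟙 S') (𝟙 S) h1 h2) a
      (pullback.fst p g) := by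
  have hsnd : pullback.map pa g p g a (𝟙 S') (𝟙 S) h1 h2 ≫ pullback.snd p g =
      pullback.snd pa g := by
    rw [pullback.map, pullback.lift_snd, Category.comp_id]
  have hfst : pullback.map pa g p g a (𝟙 S') (𝟙 S) h1 h2 ≫ pullback.fst p g =
      pullback.fst pa g ≫ a := by
    rw [pullback.map, pullback.lift_fst]
  have hpa : a ≫ p = pa := by rw [← h1, Category.comp_id]
  have big : IsPullback (pullback.map pa g p g a (𝟙 S') (𝟙 S) h1 h2 ≫ pullback.snd p g)
      (pullback.fst pa g) g (a ≫ p) := by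
    rw [hsnd, hpa]
    exact (IsPullback.of_hasPullback pa g).flip
  exact (IsPullback.of_right big hfst (IsPullback.of_hasPullback p g).flip).flip

/-- base change of an arbitrary Ferrand pushout over a base over which the glued subscheme is
flat -/
theorem isPushout_of_flat_base {X Y Z : Scheme.{u}} {i : Z ⟶ X} {j : Z ⟶ Y}
    [IsClosedImmersion i] (hc : Covering i j) {P' : Scheme.{u}} {a' : X ⟶ P'} {b' : Y ⟶ P'}
    (hP : IsPushout i j a' b') {B₀ Y' : Scheme.{u}} (p : P' ⟶ B₀) [Flat (i ≫ a' ≫ p)]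
    (g : Y' ⟶ B₀) {F : Scheme.{u}} (q' : F ⟶ P') (sF : F ⟶ Y') (HF : IsPullback q' sF p g)
    {XF YF ZF : Scheme.{u}} {pX : XF ⟶ X} {aF : XF ⟶ F} (HX : IsPullback pX aF a' q')
    {pY : YF ⟶ Y} {bF : YF ⟶ F} (HY : IsPullback pY bF b' q')
    {pZ : ZF ⟶ Z} {cF : ZF ⟶ F} (HZ : IsPullback pZ cF (i ≫ a') q')
    {iF : ZF ⟶ XF} {jF : ZF ⟶ YF} (hi1 : iF ≫ pX = pZ ≫ i) (hi2 : iF ≫ aF = cF)
    (hj1 : jF ≫ pY = pZ ≫ j) (hj2 : jF ≫ bF = cF) :
    IsPushout iF jF aF bF := by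
  have e1 : toP₁ hc ≫ ((isPushout_toP hc).isoIsPushout _ _ hP).hom = a' :=
    (isPushout_toP hc).inl_isoIsPushout_hom _ _ hP
  have HF' : IsPullback (q' ≫ ((isPushout_toP hc).isoIsPushout _ _ hP).inv) sF
      (((isPushout_toP hc).isoIsPushout _ _ hP).hom ≫ p) g := by
    refine HF.of_iso (Iso.refl _) ((isPushout_toP hc).isoIsPushout _ _ hP).symm (Iso.refl _)
      (Iso.refl _) ?_ ?_ ?_ ?_
    · simp
    · simp
    · simp
    · simp
  haveI : Flat (i ≫ toP₁ hc ≫ ((isPushout_toP hc).isoIsPushout _ _ hP).hom ≫ p) := by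
    rw [← Category.assoc (toP₁ hc), e1]; infer_instance
  exact (Data.ofIsPushout hc hP q' HX HY HZ hi1 hi2 hj1 hj2).isPushout_of_flat_base
    (((isPushout_toP hc).isoIsPushout _ _ hP).hom ≫ p) g sF HF'

/-- flatness of an arbitrary Ferrand pushout over a base -/
theorem flat_of_isPushout {X Y Z : Scheme.{u}} {i : Z ⟶ X} {j : Z ⟶ Y}
    [IsClosedImmersion i] (hc : Covering i j) {P' : Scheme.{u}} {a' : X ⟶ P'} {b' : Y ⟶ P'}
    (hP : IsPushout i j a' b') {B₀ : Scheme.{u}} (p : P' ⟶ B₀) [Flat (a' ≫ p)] [Flat (b' ≫ p)]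
    [Flat (i ≫ a' ≫ p)] : Flat p := by
  have e1 : toP₁ hc ≫ ((isPushout_toP hc).isoIsPushout _ _ hP).hom = a' :=
    (isPushout_toP hc).inl_isoIsPushout_hom _ _ hP
  have e2 : toP₂ hc ≫ ((isPushout_toP hc).isoIsPushout _ _ hP).hom = b' :=
    (isPushout_toP hc).inr_isoIsPushout_hom _ _ hP
  haveI : Flat (toP₁ hc ≫ ((isPushout_toP hc).isoIsPushout _ _ hP).hom ≫ p) := by
    rw [← Category.assoc (toP₁ hc), e1]; infer_instance
  haveI : Flat (toP₂ hc ≫ ((isPushout_toP hc).isoIsPushout _ _ hP).hom ≫ p) := by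
    rw [← Category.assoc (toP₂ hc), e2]; infer_instance
  haveI : Flat (i ≫ toP₁ hc ≫ ((isPushout_toP hc).isoIsPushout _ _ hP).hom ≫ p) := by
    rw [← Category.assoc (toP₁ hc), e1]; infer_instance
  haveI := flat_of_flat hc (((isPushout_toP hc).isoIsPushout _ _ hP).hom ≫ p)
  have : p = ((isPushout_toP hc).isoIsPushout _ _ hP).inv ≫
      ((isPushout_toP hc).isoIsPushout _ _ hP).hom ≫ p := by
    rw [Iso.inv_hom_id_assoc]
  rw [this]
  infer_instance

end BC

end Groth.Agent.Lib.Helper1.FP
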