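import Groth.Agent.Lib.Helper1.FPB1
import Mathlib.Algebra.Category.Ring.Constructions

/-!
# Base change of Ferrand pushouts (helper1), part 2: abstract pushout squares of rings
-/

set_option autoImplicit false
set_option linter.unusedSectionVars false
set_option linter.unusedVariables false
set_option linter.style.haveILetI false
universe u

noncomputable section

namespace Groth.Agent.Lib.Helper1.FP

open TensorProduct CategoryTheory CategoryTheory.Limits

namespace TensorSq

section Iso

variable {R A D A' : Type u} [CommRing R] [CommRing A] [CommRing D] [CommRing A']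
  [Algebra R A] [Algebra R D] (uA : A →+* A') (dA : D →+* A')
  (hA : IsPushout (CommRingCat.ofHom (algebraMap R A)) (CommRingCat.ofHom (algebraMap R D))
    (CommRingCat.ofHom uA) (CommRingCat.ofHom dA))

/-- the comparison isomorphism from the tensor product to an abstract pushout -/
def tensorIso : CommRingCat.of (D ⊗[R] A) ≅ CommRingCat.of A' :=
  (CommRingCat.isPushout_tensorProduct R D A).isoIsPushout _ _ hA.flip

lemma tensorIso_tmul_one (d : D) : (tensorIso uA dA hA).hom (d ⊗ₜ[R] (1 : A)) = dA d := by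
  have := (CommRingCat.isPushout_tensorProduct R D A).inl_isoIsPushout_hom _ _ hA.flip
  exact congr($(this).hom d)

lemma tensorIso_one_tmul (a : A) : (tensorIso uA dA hA).hom ((1 : D) ⊗ₜ[R] a) = uA a := by
  have := (CommRingCat.isPushout_tensorProduct R D A).inr_isoIsPushout_hom _ _ hA.flip
  exact congr($(this).hom a)

lemma tensorIso_tmul (d : D) (a : A) :
    (tensorIso uA dA hA).hom (d ⊗ₜ[R] a) = dA d * uA a := by
  have h : d ⊗ₜ[R] a = (d ⊗ₜ[R] (1 : A)) * ((1 : D) ⊗ₜ[R] a) := by
    rw [Algebra.TensorProduct.tmul_mul_tmul, mul_one, one_mul]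
  rw [h, map_mul, tensorIso_tmul_one, tensorIso_one_tmul]

lemma tensorIso_injective : Function.Injective (tensorIso uA dA hA).hom :=
  (ConcreteCategory.bijective_of_isIso (tensorIso uA dA hA).hom).1

lemma tensorIso_surjective : Function.Surjective (tensorIso uA dA hA).hom :=
  (ConcreteCategory.bijective_of_isIso (tensorIso uA dA hA).hom).2

end Iso

variable {R A B C D A' B' C' : Type u} [CommRing R] [CommRing A] [CommRing B] [CommRing C]
  [CommRing D] [CommRing A'] [CommRing B'] [CommRing C']

/-- **Tensoring a fibre square**: abstract form. `R` is the fibre product of `φ` and `ψ`;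
`A', B', C'` are the base changes along `ρD : R → D`; then the map from `D` to the fibre product
of the base-changed maps is surjective, and injective if `D` is flat over `R`. -/
theorem fibProd_lift_surjective (φ : A →+* C) (ψ : B →+* C) (hφ : Function.Surjective φ)
    (f₁ : R →+* A) (f₂ : R →+* B) (hf : φ.comp f₁ = ψ.comp f₂)
    (hex : ∀ a b, φ a = ψ b → ∃ r : R, f₁ r = a ∧ f₂ r = b)
    (ρD : R →+* D)
    (uA : A →+* A') (dA : D →+* A')
    (hA : IsPushout (CommRingCat.ofHom f₁) (CommRingCat.ofHom ρD)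
      (CommRingCat.ofHom uA) (CommRingCat.ofHom dA))
    (uB : B →+* B') (dB : D →+* B')
    (hB : IsPushout (CommRingCat.ofHom f₂) (CommRingCat.ofHom ρD)
      (CommRingCat.ofHom uB) (CommRingCat.ofHom dB))
    (uC : C →+* C') (dC : D →+* C')
    (hC : IsPushout (CommRingCat.ofHom (φ.comp f₁)) (CommRingCat.ofHom ρD)
      (CommRingCat.ofHom uC) (CommRingCat.ofHom dC))
    (φ' : A' →+* C') (ψ' : B' →+* C')
    (h1 : φ'.comp uA = uC.comp φ) (h2 : φ'.comp dA = dC)
    (h3 : ψ'.comp uB = uC.comp ψ) (h4 : ψ'.comp dB = dC) :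
    Function.Surjective (FibProd.lift (φ := φ') (ψ := ψ') dA dB (h2.trans h4.symm)) := by
  letI : Algebra R A := f₁.toAlgebra
  letI : Algebra R B := f₂.toAlgebra
  letI : Algebra R C := (φ.comp f₁).toAlgebra
  letI : Algebra R D := ρD.toAlgebra
  let φa : A →ₐ[R] C := { φ with commutes' := fun r => rfl }
  let ψa : B →ₐ[R] C := { ψ with commutes' := fun r => (congr($hf r)).symm }
  let eA := tensorIso (R := R) uA dA hA
  let eB := tensorIso (R := R) uB dB hB
  let eC := tensorIso (R := R) uC dC hC
  have hφe : ∀ x : D ⊗[R] A, eC.hom (φa.toLinearMap.lTensor D x) = φ' (eA.hom x) := by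
    intro x
    induction x with
    | zero => simp
    | tmul d a =>
      rw [LinearMap.lTensor_tmul, tensorIso_tmul, tensorIso_tmul, map_mul]
      have e1 : φ' (dA d) = dC d := congr($h2 d)
      have e2 : φ' (uA a) = uC (φ a) := congr($h1 a)
      rw [e1, e2]; rfl
    | add x y hx hy => simp only [map_add, hx, hy]
  have hψe : ∀ y : D ⊗[R] B, eC.hom (ψa.toLinearMap.lTensor D y) = ψ' (eB.hom y) := by
    intro y
    induction y with
    | zero => simp
    | tmul d b =>
      rw [LinearMap.lTensor_tmul, tensorIso_tmul, tensorIso_tmul, map_mul]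
      have e1 : ψ' (dB d) = dC d := congr($h4 d)
      have e2 : ψ' (uB b) = uC (ψ b) := congr($h3 b)
      rw [e1, e2]; rfl
    | add x y hx hy => simp only [map_add, hx, hy]
  intro p
  obtain ⟨x, hx⟩ := tensorIso_surjective (R := R) uA dA hA (FibProd.fst φ' ψ' p)
  obtain ⟨y, hy⟩ := tensorIso_surjective (R := R) uB dB hB (FibProd.snd φ' ψ' p)
  have hxy : φa.toLinearMap.lTensor D x = ψa.toLinearMap.lTensor D y := by
    apply tensorIso_injective (R := R) uC dC hC
    change eC.hom _ = eC.hom _
    rw [hφe, hψe]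
    change φ' ((tensorIso uA dA hA).hom x) = ψ' ((tensorIso uB dB hB).hom y)
    rw [hx, hy]
    exact FibProd.condition_apply p
  obtain ⟨d, hd1, hd2⟩ := exists_of_eq (φ := φa) (ψ := ψa) hex hφ x y hxy
  refine ⟨d, FibProd.ext' ?_ ?_⟩
  · rw [FibProd.fst_lift, ← hx, hd1, tensorIso_tmul_one]
  · rw [FibProd.snd_lift, ← hy, hd2, tensorIso_tmul_one]

theorem fibProd_lift_injective (φ' : A' →+* C') (ψ' : B' →+* C')
    (f₁ : R →+* A) (f₂ : R →+* B)
    (hinj : ∀ r : R, f₁ r = 0 → f₂ r = 0 → r = 0)
    (ρD : R →+* D) (hflat : ρD.Flat)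
    (uA : A →+* A') (dA : D →+* A')
    (hA : IsPushout (CommRingCat.ofHom f₁) (CommRingCat.ofHom ρD)
      (CommRingCat.ofHom uA) (CommRingCat.ofHom dA))
    (uB : B →+* B') (dB : D →+* B')
    (hB : IsPushout (CommRingCat.ofHom f₂) (CommRingCat.ofHom ρD)
      (CommRingCat.ofHom uB) (CommRingCat.ofHom dB))
    (h24 : φ'.comp dA = ψ'.comp dB) :
    Function.Injective (FibProd.lift (φ := φ') (ψ := ψ') dA dB h24) := by
  letI : Algebra R A := f₁.toAlgebra
  letI : Algebra R B := f₂.toAlgebra
  letI : Algebra R D := ρD.toAlgebra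
  haveI : Module.Flat R D := hflat
  rw [injective_iff_map_eq_zero]
  intro d hd
  have hd1 : dA d = 0 := congrArg (FibProd.fst φ' ψ') hd
  have hd2 : dB d = 0 := congrArg (FibProd.snd φ' ψ') hd
  refine eq_zero_of_flat (R := R) (A := A) (B := B) hinj d ?_ ?_
  · apply tensorIso_injective (R := R) uA dA hA
    rw [tensorIso_tmul_one, hd1, map_zero]
  · apply tensorIso_injective (R := R) uB dB hB
    rw [tensorIso_tmul_one, hd2, map_zero]

end TensorSq

end Groth.Agent.Lib.Helper1.FP
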