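import Groth.Agent.Lib.Helper1.FPB2
import Mathlib.AlgebraicGeometry.Morphisms.Flat

/-!
# Base change of Ferrand pushouts (helper1), part 3: charts of the base change
-/

set_option autoImplicit false
set_option linter.unusedSectionVars false
set_option linter.unusedVariables false
set_option linter.style.haveILetI false
universe u

noncomputable section

namespace Groth.Agent.Lib.Helper1.FP

open AlgebraicGeometry CategoryTheory CategoryTheory.Limits TopologicalSpace Opposite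

namespace BC

variable {X Y Z : Scheme.{u}} {i : Z ⟶ X} {j : Z ⟶ Y} [IsClosedImmersion i]

/-- the affine open of `P` attached to a chart -/
abbrev S (α : Chart i j) : (P i j).Opens := (ι i j α).opensRange

lemma hS (α : Chart i j) : IsAffineOpen (S α) := isAffineOpen_opensRange _

variable (hc : Covering i j)

lemma U_le (α : Chart i j) : α.U ≤ toP₁ hc ⁻¹ᵁ S α := (toP₁_preimage hc α).ge

lemma V_le (α : Chart i j) : α.V ≤ toP₂ hc ⁻¹ᵁ S α := (toP₂_preimage hc α).ge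

/-- the sections of `P` over a chart are the fibre product ring -/
theorem ρ_bijective (α : Chart i j) :
    Function.Bijective (ρ (toP_comm hc) α (S α) (U_le hc α) (V_le hc α)) := by
  have h1 : descα (toP_comm hc) α (S α) (hS α) (U_le hc α) (V_le hc α) = ι i j α := by
    refine α.hom_ext_of_le (S α) (hS α) _ _ ?_ ?_ ?_ ?_
    · rw [a_descα, ι_toP₁]
    · rw [b_descα, ι_toP₂]
    · intro x
      rw [a_descα, Scheme.Hom.comp_apply]
      exact U_le hc α x.2
    · intro y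
      rw [b_descα, Scheme.Hom.comp_apply]
      exact V_le hc α y.2
  have hr : Set.range ⇑(ι i j α) = Set.range ⇑(hS α).fromSpec := by
    rw [IsAffineOpen.range_fromSpec]; rfl
  let e := IsOpenImmersion.isoOfRangeEq (ι i j α) (hS α).fromSpec hr
  have he : e.hom ≫ (hS α).fromSpec = ι i j α := IsOpenImmersion.isoOfRangeEq_hom_fac _ _ _
  have h2 : Spec.map (CommRingCat.ofHom (ρ (toP_comm hc) α (S α) (U_le hc α) (V_le hc α))) =
      e.hom := by
    rw [← cancel_mono (hS α).fromSpec, he, ← h1]; rfl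
  haveI : IsIso (Spec.map (CommRingCat.ofHom
      (ρ (toP_comm hc) α (S α) (U_le hc α) (V_le hc α)))) := by rw [h2]; infer_instance
  haveI : IsIso (CommRingCat.ofHom (ρ (toP_comm hc) α (S α) (U_le hc α) (V_le hc α))) := by
    have h3 : IsIso (Scheme.Spec.map (CommRingCat.ofHom
        (ρ (toP_comm hc) α (S α) (U_le hc α) (V_le hc α))).op) := ‹_›
    have : IsIso (CommRingCat.ofHom
        (ρ (toP_comm hc) α (S α) (U_le hc α) (V_le hc α))).op :=
      isIso_of_reflects_iso _ Scheme.Spec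
    exact isIso_of_op _
  exact ConcreteCategory.bijective_of_isIso
    (CommRingCat.ofHom (ρ (toP_comm hc) α (S α) (U_le hc α) (V_le hc α)))

/-- base change data: pullbacks of `X`, `Y`, `Z` along `q : F ⟶ P` -/
structure Data {F : Scheme.{u}} (q : F ⟶ P i j) where
  /-- base change of `X` -/
  XF : Scheme.{u}
  /-- base change of `Y` -/
  YF : Scheme.{u}
  /-- base change of `Z` -/
  ZF : Scheme.{u}
  /-- projection -/
  pX : XF ⟶ X
  /-- projection -/
  aF : XF ⟶ F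
  HX : IsPullback pX aF (toP₁ hc) q
  /-- projection -/
  pY : YF ⟶ Y
  /-- projection -/
  bF : YF ⟶ F
  HY : IsPullback pY bF (toP₂ hc) q
  /-- projection -/
  pZ : ZF ⟶ Z
  /-- projection -/
  cF : ZF ⟶ F
  HZ : IsPullback pZ cF (i ≫ toP₁ hc) q
  /-- base change of `i` -/
  iF : ZF ⟶ XF
  /-- base change of `j` -/
  jF : ZF ⟶ YF
  hi1 : iF ≫ pX = pZ ≫ i
  hi2 : iF ≫ aF = cF
  hj1 : jF ≫ pY = pZ ≫ j
  hj2 : jF ≫ bF = cF

namespace Data

variable {hc} {F : Scheme.{u}} {q : F ⟶ P i j} (d : Data hc q)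

lemma w : d.iF ≫ d.aF = d.jF ≫ d.bF := d.hi2.trans d.hj2.symm

lemma isPullback_iF : IsPullback d.iF d.pZ d.pX i := by
  have big : IsPullback (d.iF ≫ d.aF) d.pZ q (i ≫ toP₁ hc) := by
    rw [d.hi2]; exact d.HZ.flip
  exact IsPullback.of_right big d.hi1 d.HX.flip

instance : IsClosedImmersion d.iF :=
  MorphismProperty.of_isPullback (P := @IsClosedImmersion) d.isPullback_iF.flip inferInstance

lemma pX_iF_apply (z : d.ZF) : d.pX (d.iF z) = i (d.pZ z) := by
  rw [← Scheme.Hom.comp_apply, d.hi1, Scheme.Hom.comp_apply]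

lemma aF_iF_apply (z : d.ZF) : d.aF (d.iF z) = d.cF z := by
  rw [← Scheme.Hom.comp_apply, d.hi2]

lemma pY_jF_apply (z : d.ZF) : d.pY (d.jF z) = j (d.pZ z) := by
  rw [← Scheme.Hom.comp_apply, d.hj1, Scheme.Hom.comp_apply]

lemma bF_jF_apply (z : d.ZF) : d.bF (d.jF z) = d.cF z := by
  rw [← Scheme.Hom.comp_apply, d.hj2]

lemma isAffineOpen_inf {X₁ Y₁ S₁ T₁ : Scheme.{u}} {f : T₁ ⟶ S₁} {g : Y₁ ⟶ X₁} {iX : X₁ ⟶ S₁}
    {iY : Y₁ ⟶ T₁} (H : IsPullback g iY iX f) {US : S₁.Opens} {UT : T₁.Opens} {UX : X₁.Opens}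
    (hUST : UT ≤ f ⁻¹ᵁ US) (hUSX : UX ≤ iX ⁻¹ᵁ US) (hUS : IsAffineOpen US)
    (hUT : IsAffineOpen UT) (hUX : IsAffineOpen UX) :
    IsAffineOpen (g ⁻¹ᵁ UX ⊓ iY ⁻¹ᵁ UT) := by
  have : IsAffine _ := hUS
  have : IsAffine _ := hUT
  have : IsAffine _ := hUX
  exact .of_isIso (Scheme.Hom.isPullback_resLE H hUST hUSX rfl).isoPullback.hom

/-- the chart of the base change attached to a chart and an affine open of `F` -/
def chart (α : Chart i j) (O : F.Opens) (hO : IsAffineOpen O) (hOS : O ≤ q ⁻¹ᵁ S α) :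
    Chart d.iF d.jF where
  U := d.pX ⁻¹ᵁ α.U ⊓ d.aF ⁻¹ᵁ O
  V := d.pY ⁻¹ᵁ α.V ⊓ d.bF ⁻¹ᵁ O
  hU := isAffineOpen_inf d.HX hOS (U_le hc α) (hS α) hO α.hU
  hV := isAffineOpen_inf d.HY hOS (V_le hc α) (hS α) hO α.hV
  h := by
    ext z
    change (d.pX (d.iF z) ∈ α.U ∧ d.aF (d.iF z) ∈ O) ↔ (d.pY (d.jF z) ∈ α.V ∧ d.bF (d.jF z) ∈ O)
    rw [d.pX_iF_apply, d.aF_iF_apply, d.pY_jF_apply, d.bF_jF_apply]
    have : i (d.pZ z) ∈ α.U ↔ j (d.pZ z) ∈ α.V := by
      change d.pZ z ∈ i ⁻¹ᵁ α.U ↔ d.pZ z ∈ j ⁻¹ᵁ α.V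
      rw [α.h]
    rw [this]

end Data

end BC

end Groth.Agent.Lib.Helper1.FP
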