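import Groth.Agent.Lib.Helper1.FPB3

/-!
# Base change of Ferrand pushouts (helper1), part 4: the local condition
-/

set_option autoImplicit false
set_option linter.unusedSectionVars false
set_option linter.unusedVariables false
set_option linter.style.haveILetI false
universe u

noncomputable section

namespace Groth.Agent.Lib.Helper1.FP

open AlgebraicGeometry CategoryTheory CategoryTheory.Limits TopologicalSpace Opposite

lemma appLE_comp_eq {A B B' C : Scheme.{u}} {f : A ⟶ B} {g : B ⟶ C} {f' : A ⟶ B'} {g' : B' ⟶ C}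
    (hw : f ≫ g = f' ≫ g') (U : C.Opens) (V : B.Opens) (V' : B'.Opens) (W : A.Opens)
    (e₁ : V ≤ g ⁻¹ᵁ U) (e₂ : W ≤ f ⁻¹ᵁ V) (e₁' : V' ≤ g' ⁻¹ᵁ U) (e₂' : W ≤ f' ⁻¹ᵁ V') :
    g.appLE U V e₁ ≫ f.appLE V W e₂ = g'.appLE U V' e₁' ≫ f'.appLE V' W e₂' := by
  rw [Scheme.Hom.appLE_comp_appLE, Scheme.Hom.appLE_comp_appLE]
  exact appLE_congr_hom hw _ _ _ _

lemma appLE_comp_eq' {A B C : Scheme.{u}} {f : A ⟶ B} {g : B ⟶ C} {h : A ⟶ C}
    (hw : f ≫ g = h) (U : C.Opens) (V : B.Opens) (W : A.Opens)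
    (e₁ : V ≤ g ⁻¹ᵁ U) (e₂ : W ≤ f ⁻¹ᵁ V) (e₃ : W ≤ h ⁻¹ᵁ U) :
    g.appLE U V e₁ ≫ f.appLE V W e₂ = h.appLE U W e₃ := by
  rw [Scheme.Hom.appLE_comp_appLE]
  exact appLE_congr_hom hw _ _ _ _

namespace BC

variable {X Y Z : Scheme.{u}} {i : Z ⟶ X} {j : Z ⟶ Y} [IsClosedImmersion i]
  {hc : Covering i j} {F : Scheme.{u}} {q : F ⟶ P i j} (d : Data hc q)
  (α : Chart i j) (O : F.Opens) (hO : IsAffineOpen O) (hOS : O ≤ q ⁻¹ᵁ S α)

namespace Data

/-- the local condition: sections of `F` over `O` are the fibre product ring of the chart -/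
def LocalCond : Prop :=
  Function.Bijective (ρ d.w (d.chart α O hO hOS) O inf_le_right inf_le_right)

lemma W_le_S : α.W ≤ (i ≫ toP₁ hc) ⁻¹ᵁ S α := by
  intro z hz
  exact U_le hc α hz

lemma chart_W : (d.chart α O hO hOS).W = d.pZ ⁻¹ᵁ α.W ⊓ d.cF ⁻¹ᵁ O := by
  ext z
  change (d.pX (d.iF z) ∈ α.U ∧ d.aF (d.iF z) ∈ O) ↔ (i (d.pZ z) ∈ α.U ∧ d.cF z ∈ O)
  rw [d.pX_iF_apply, d.aF_iF_apply]

/-- surjectivity half of the local condition (always true) -/
theorem ρ_surjective :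
    Function.Surjective (ρ d.w (d.chart α O hO hOS) O inf_le_right inf_le_right) := by
  have hA := (isIso_pushoutSection_iff d.HX hOS (U_le hc α) rfl).mp
    (isIso_pushoutSection_of_isAffineOpen d.HX hOS (U_le hc α) rfl (hS α) hO α.hU)
  have hB := (isIso_pushoutSection_iff d.HY hOS (V_le hc α) rfl).mp
    (isIso_pushoutSection_of_isAffineOpen d.HY hOS (V_le hc α) rfl (hS α) hO α.hV)
  have hC := (isIso_pushoutSection_iff d.HZ hOS (W_le_S α) (d.chart_W α O hO hOS)).mp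
    (isIso_pushoutSection_of_isAffineOpen d.HZ hOS (W_le_S α) (d.chart_W α O hO hOS)
      (hS α) hO α.hW)
  have hC' : (i ≫ toP₁ hc).appLE (S α) α.W (W_le_S α) =
      (toP₁ hc).appLE (S α) α.U (U_le hc α) ≫ i.appLE α.U α.W α.W_le' :=
    (appLE_comp_eq' rfl _ _ _ _ _ _).symm
  rw [hC'] at hC
  have hbij := ρ_bijective hc α
  refine TensorSq.fibProd_lift_surjective α.φ α.ψ α.φ_surjective
    ((toP₁ hc).appLE (S α) α.U (U_le hc α)).hom ((toP₂ hc).appLE (S α) α.V (V_le hc α)).hom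
    (congrArg CommRingCat.Hom.hom
      (appLE_comp_eq (toP_comm hc) (S α) α.U α.V α.W (U_le hc α) α.W_le' (V_le hc α) α.W_le))
    ?_ (q.appLE (S α) O hOS).hom
    _ _ hA _ _ hB _ _ hC (d.chart α O hO hOS).φ (d.chart α O hO hOS).ψ ?_ ?_ ?_ ?_
  · intro a b hab
    obtain ⟨r, hr⟩ := hbij.2 (FibProd.mk a b hab)
    exact ⟨r, congrArg (FibProd.fst α.φ α.ψ) hr, congrArg (FibProd.snd α.φ α.ψ) hr⟩
  · exact congrArg CommRingCat.Hom.hom
      (appLE_comp_eq d.hi1 α.U (d.chart α O hO hOS).U α.W (d.chart α O hO hOS).W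
        inf_le_left (d.chart α O hO hOS).W_le' α.W_le'
        ((d.chart_W α O hO hOS).le.trans inf_le_left))
  · exact congrArg CommRingCat.Hom.hom
      (appLE_comp_eq' d.hi2 O (d.chart α O hO hOS).U (d.chart α O hO hOS).W
        inf_le_right (d.chart α O hO hOS).W_le' ((d.chart_W α O hO hOS).le.trans inf_le_right))
  · exact congrArg CommRingCat.Hom.hom
      (appLE_comp_eq d.hj1 α.V (d.chart α O hO hOS).V α.W (d.chart α O hO hOS).W
        inf_le_left (d.chart α O hO hOS).W_le α.W_le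
        ((d.chart_W α O hO hOS).le.trans inf_le_left))
  · exact congrArg CommRingCat.Hom.hom
      (appLE_comp_eq' d.hj2 O (d.chart α O hO hOS).V (d.chart α O hO hOS).W
        inf_le_right (d.chart α O hO hOS).W_le ((d.chart_W α O hO hOS).le.trans inf_le_right))

/-- the local condition holds when `q` is flat -/
theorem localCond_of_flat [Flat q] : d.LocalCond α O hO hOS := by
  refine ⟨?_, d.ρ_surjective α O hO hOS⟩
  have hA := (isIso_pushoutSection_iff d.HX hOS (U_le hc α) rfl).mp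
    (isIso_pushoutSection_of_isAffineOpen d.HX hOS (U_le hc α) rfl (hS α) hO α.hU)
  have hB := (isIso_pushoutSection_iff d.HY hOS (V_le hc α) rfl).mp
    (isIso_pushoutSection_of_isAffineOpen d.HY hOS (V_le hc α) rfl (hS α) hO α.hV)
  have hbij := ρ_bijective hc α
  refine TensorSq.fibProd_lift_injective (d.chart α O hO hOS).φ (d.chart α O hO hOS).ψ
    ((toP₁ hc).appLE (S α) α.U (U_le hc α)).hom ((toP₂ hc).appLE (S α) α.V (V_le hc α)).hom
    ?_ (q.appLE (S α) O hOS).hom (Scheme.Hom.flat_appLE q (hS α) hO hOS)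
    _ _ hA _ _ hB _
  intro r h1 h2
  apply hbij.1
  rw [map_zero]
  exact FibProd.ext' h1 h2

end Data

end BC

end Groth.Agent.Lib.Helper1.FP
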