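import Groth.Agent.Lib.Helper1.FPB4
import Mathlib.AlgebraicGeometry.Morphisms.IsIso

/-!
# Base change of Ferrand pushouts (helper1), part 5: the base change theorem
-/

set_option autoImplicit false
set_option linter.unusedSectionVars false
set_option linter.unusedVariables false
set_option linter.style.haveILetI false
universe u

noncomputable section

namespace Groth.Agent.Lib.Helper1.FP

open AlgebraicGeometry CategoryTheory CategoryTheory.Limits TopologicalSpace Opposite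

namespace BC

variable {X Y Z : Scheme.{u}} {i : Z ⟶ X} {j : Z ⟶ Y} [IsClosedImmersion i]
  {hc : Covering i j} {F : Scheme.{u}} {q : F ⟶ P i j} (d : Data hc q)

namespace Data

/-- the hypothesis: `F` is covered by affine opens mapping into charts, satisfying the local
condition -/
def Loc : Prop :=
  ∀ f : F, ∃ (α : Chart i j) (O : F.Opens) (hO : IsAffineOpen O) (hOS : O ≤ q ⁻¹ᵁ S α),
    f ∈ O ∧ d.LocalCond α O hO hOS

variable {d}

lemma pX_mem (α : Chart i j) (O : F.Opens) (hOS : O ≤ q ⁻¹ᵁ S α) (x : d.XF)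
    (hx : d.aF x ∈ O) : d.pX x ∈ α.U := by
  have h1 : toP₁ hc (d.pX x) = q (d.aF x) := by
    rw [← Scheme.Hom.comp_apply, ← Scheme.Hom.comp_apply, d.HX.w]
  have h2 : d.pX x ∈ toP₁ hc ⁻¹ᵁ S α := by
    change toP₁ hc (d.pX x) ∈ S α
    rw [h1]; exact hOS hx
  rwa [toP₁_preimage] at h2

lemma pY_mem (α : Chart i j) (O : F.Opens) (hOS : O ≤ q ⁻¹ᵁ S α) (y : d.YF)
    (hy : d.bF y ∈ O) : d.pY y ∈ α.V := by
  have h1 : toP₂ hc (d.pY y) = q (d.bF y) := by
    rw [← Scheme.Hom.comp_apply, ← Scheme.Hom.comp_apply, d.HY.w]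
  have h2 : d.pY y ∈ toP₂ hc ⁻¹ᵁ S α := by
    change toP₂ hc (d.pY y) ∈ S α
    rw [h1]; exact hOS hy
  rwa [toP₂_preimage] at h2

theorem covering (hloc : d.Loc) : Covering d.iF d.jF := by
  refine ⟨fun x => ?_, fun y => ?_⟩
  · obtain ⟨α, O, hO, hOS, hfO, -⟩ := hloc (d.aF x)
    exact ⟨d.chart α O hO hOS, pX_mem α O hOS x hfO, hfO⟩
  · obtain ⟨α, O, hO, hOS, hfO, -⟩ := hloc (d.bF y)
    exact ⟨d.chart α O hO hOS, pY_mem α O hOS y hfO, hfO⟩

/-- the comparison map -/
def m : P d.iF d.jF ⟶ F := descP (g := d.aF) (h := d.bF) d.w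

section

variable (hloc : d.Loc)

include hloc

lemma toP₁_m : toP₁ (covering hloc) ≫ m (d := d) = d.aF := toP₁_descP (covering hloc) d.w

lemma toP₂_m : toP₂ (covering hloc) ≫ m (d := d) = d.bF := toP₂_descP (covering hloc) d.w

lemma ι_m (α : Chart i j) (O : F.Opens) (hO : IsAffineOpen O) (hOS : O ≤ q ⁻¹ᵁ S α) :
    ι d.iF d.jF (d.chart α O hO hOS) ≫ m (d := d) =
      descα d.w (d.chart α O hO hOS) O hO inf_le_right inf_le_right := by
  symm
  refine (d.chart α O hO hOS).hom_ext_of_le O hO _ _ ?_ ?_ ?_ ?_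
  · rw [a_descα, ← Category.assoc, ← ι_toP₁ (covering hloc), Category.assoc, toP₁_m hloc]
  · rw [b_descα, ← Category.assoc, ← ι_toP₂ (covering hloc), Category.assoc, toP₂_m hloc]
  · intro x
    rw [a_descα, Scheme.Hom.comp_apply]
    exact x.2.2
  · intro y
    rw [b_descα, Scheme.Hom.comp_apply]
    exact y.2.2

lemma preimage_m (α : Chart i j) (O : F.Opens) (hO : IsAffineOpen O) (hOS : O ≤ q ⁻¹ᵁ S α) :
    (m (d := d)) ⁻¹ᵁ O = (ι d.iF d.jF (d.chart α O hO hOS)).opensRange := by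
  ext p
  constructor
  · intro hp
    change m (d := d) p ∈ O at hp
    rcases toP_jointly_surjective (covering hloc) p with ⟨x, rfl⟩ | ⟨y, rfl⟩
    · rw [← Scheme.Hom.comp_apply, toP₁_m hloc] at hp
      have hx : x ∈ (d.chart α O hO hOS).U := ⟨pX_mem α O hOS x hp, hp⟩
      exact ⟨(d.chart α O hO hOS).a ⟨x, hx⟩, (toP₁_apply (covering hloc) _ ⟨x, hx⟩).symm⟩
    · rw [← Scheme.Hom.comp_apply, toP₂_m hloc] at hp
      have hy : y ∈ (d.chart α O hO hOS).V := ⟨pY_mem α O hOS y hp, hp⟩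
      exact ⟨(d.chart α O hO hOS).b ⟨y, hy⟩, (toP₂_apply (covering hloc) _ ⟨y, hy⟩).symm⟩
  · rintro ⟨s, rfl⟩
    change m (d := d) (ι d.iF d.jF (d.chart α O hO hOS) s) ∈ O
    rw [← Scheme.Hom.comp_apply, ι_m hloc]
    obtain ⟨x, rfl⟩ | ⟨y, rfl⟩ := (d.chart α O hO hOS).exists_a_or_b s
    · rw [← Scheme.Hom.comp_apply, a_descα, Scheme.Hom.comp_apply]
      exact x.2.2
    · rw [← Scheme.Hom.comp_apply, b_descα, Scheme.Hom.comp_apply]
      exact y.2.2

theorem isIso_m : IsIso (m (d := d)) := by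
  have hloc' := hloc
  choose α O hO hOS hfO hbij using hloc'
  have hsup : iSup O = ⊤ := by
    rw [eq_top_iff]
    intro f _
    exact Opens.mem_iSup.mpr ⟨f, hfO f⟩
  refine (MorphismProperty.isomorphisms.iff (C := Scheme.{u}) _).mp
    (IsZariskiLocalAtTarget.of_iSup_eq_top (P := MorphismProperty.isomorphisms Scheme.{u})
      O hsup fun f => ?_)
  rw [MorphismProperty.isomorphisms.iff]
  set β := d.chart (α f) (O f) (hO f) (hOS f) with hβ
  -- the iso from the chart to the preimage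
  have hV : (m (d := d)) ⁻¹ᵁ (O f) = (ι d.iF d.jF β).opensRange :=
    preimage_m hloc (α f) (O f) (hO f) (hOS f)
  have hr : Set.range ⇑(ι d.iF d.jF β) = Set.range ⇑((m (d := d)) ⁻¹ᵁ (O f)).ι := by
    rw [Scheme.Opens.range_ι, hV]; rfl
  let k := IsOpenImmersion.isoOfRangeEq (ι d.iF d.jF β) ((m (d := d)) ⁻¹ᵁ (O f)).ι hr
  have hk : k.hom ≫ ((m (d := d)) ⁻¹ᵁ (O f)).ι = ι d.iF d.jF β :=
    IsOpenImmersion.isoOfRangeEq_hom_fac _ _ _
  -- the iso from the chart to `O`
  haveI h1 : IsIso (CommRingCat.ofHom (ρ d.w β (O f) inf_le_right inf_le_right)) :=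
    (ConcreteCategory.isIso_iff_bijective _).mpr (hbij f)
  let e' : β.spec ≅ (O f).toScheme :=
    asIso (Spec.map (CommRingCat.ofHom (ρ d.w β (O f) inf_le_right inf_le_right))) ≪≫
      (hO f).isoSpec.symm
  have he' : e'.hom ≫ (O f).ι = descα d.w β (O f) (hO f) inf_le_right inf_le_right := by
    simp only [e', Iso.trans_hom, asIso_hom, Iso.symm_hom, Category.assoc,
      IsAffineOpen.isoSpec_inv_ι]
    rfl
  have hcomp : k.hom ≫ (m (d := d) ∣_ (O f)) = e'.hom := by
    rw [← cancel_mono (O f).ι, Category.assoc, morphismRestrict_ι, ← Category.assoc, hk, he',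
      ι_m hloc]
  have : m (d := d) ∣_ (O f) = k.inv ≫ e'.hom := by
    rw [← hcomp, Iso.inv_hom_id_assoc]
  rw [this]
  infer_instance

end

/-- **Base change of Ferrand pushouts**: under the local condition, the base change of the
pushout square along `q : F ⟶ P` is a pushout square. -/
theorem isPushout (hloc : d.Loc) : IsPushout d.iF d.jF d.aF d.bF := by
  haveI := isIso_m hloc
  refine (isPushout_toP (covering hloc)).of_iso (Iso.refl _) (Iso.refl _) (Iso.refl _)
    (asIso (m (d := d))) ?_ ?_ ?_ ?_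
  · simp
  · simp
  · simpa using toP₁_m hloc
  · simpa using toP₂_m hloc

theorem isPushout_of_flat [Flat q] : IsPushout d.iF d.jF d.aF d.bF := by
  apply isPushout
  intro f
  obtain ⟨α, s, hs⟩ := ι_jointly_surjective (q f)
  have hqf : q f ∈ S α := ⟨s, hs⟩
  obtain ⟨O, hO, hfO, hOS⟩ := exists_isAffineOpen_mem_and_subset (x := f) (U := q ⁻¹ᵁ S α) hqf
  exact ⟨α, O, hO, hOS, hfO, d.localCond_of_flat α O hO hOS⟩

end Data

end BC

end Groth.Agent.Lib.Helper1.FP
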