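import Groth.Agent.Lib.Helper1.FPB5
import Mathlib.CategoryTheory.Comma.Over.Pullback
import Mathlib.CategoryTheory.Limits.Over

/-!
# Base change of Ferrand pushouts (helper1), part 6: arbitrary pushouts, over categories
-/

set_option autoImplicit false
set_option linter.unusedSectionVars false
set_option linter.unusedVariables false
set_option linter.style.haveILetI false
universe u

noncomputable section

namespace Groth.Agent.Lib.Helper1.FP

open AlgebraicGeometry CategoryTheory CategoryTheory.Limits TopologicalSpace Opposite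

namespace BC

/-- transport base change data from an arbitrary pushout to the constructed one -/
def Data.ofIsPushout {X Y Z : Scheme.{u}} {i : Z ⟶ X} {j : Z ⟶ Y}
    [IsClosedImmersion i] (hc : Covering i j) {P' : Scheme.{u}} {a' : X ⟶ P'} {b' : Y ⟶ P'}
    (hP : IsPushout i j a' b') {F : Scheme.{u}} (q' : F ⟶ P')
    {XF YF ZF : Scheme.{u}} {pX : XF ⟶ X} {aF : XF ⟶ F} (HX : IsPullback pX aF a' q')
    {pY : YF ⟶ Y} {bF : YF ⟶ F} (HY : IsPullback pY bF b' q')
    {pZ : ZF ⟶ Z} {cF : ZF ⟶ F} (HZ : IsPullback pZ cF (i ≫ a') q')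
    {iF : ZF ⟶ XF} {jF : ZF ⟶ YF} (hi1 : iF ≫ pX = pZ ≫ i) (hi2 : iF ≫ aF = cF)
    (hj1 : jF ≫ pY = pZ ≫ j) (hj2 : jF ≫ bF = cF) :
    Data hc (q' ≫ ((isPushout_toP hc).isoIsPushout _ _ hP).inv) where
  XF := XF
  YF := YF
  ZF := ZF
  pX := pX
  aF := aF
  HX := by
    have e1 : toP₁ hc ≫ ((isPushout_toP hc).isoIsPushout _ _ hP).hom = a' :=
      (isPushout_toP hc).inl_isoIsPushout_hom _ _ hP
    refine HX.of_iso (Iso.refl _) (Iso.refl _) (Iso.refl _)
      ((isPushout_toP hc).isoIsPushout _ _ hP).symm ?_ ?_ ?_ ?_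
    · simp
    · simp
    · rw [Iso.symm_hom, Iso.refl_hom, Category.id_comp]
      exact (Iso.comp_inv_eq _).mpr e1.symm
    · simp
  pY := pY
  bF := bF
  HY := by
    have e2 : toP₂ hc ≫ ((isPushout_toP hc).isoIsPushout _ _ hP).hom = b' :=
      (isPushout_toP hc).inr_isoIsPushout_hom _ _ hP
    refine HY.of_iso (Iso.refl _) (Iso.refl _) (Iso.refl _)
      ((isPushout_toP hc).isoIsPushout _ _ hP).symm ?_ ?_ ?_ ?_
    · simp
    · simp
    · rw [Iso.symm_hom, Iso.refl_hom, Category.id_comp]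
      exact (Iso.comp_inv_eq _).mpr e2.symm
    · simp
  pZ := pZ
  cF := cF
  HZ := by
    have e1 : toP₁ hc ≫ ((isPushout_toP hc).isoIsPushout _ _ hP).hom = a' :=
      (isPushout_toP hc).inl_isoIsPushout_hom _ _ hP
    refine HZ.of_iso (Iso.refl _) (Iso.refl _) (Iso.refl _)
      ((isPushout_toP hc).isoIsPushout _ _ hP).symm ?_ ?_ ?_ ?_
    · simp
    · simp
    · rw [Iso.symm_hom, Iso.refl_hom, Category.id_comp, Category.assoc]
      congr 1
      exact (Iso.comp_inv_eq _).mpr e1.symm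
    · simp
  iF := iF
  jF := jF
  hi1 := hi1
  hi2 := hi2
  hj1 := hj1
  hj2 := hj2

/-- **Flat base change of Ferrand pushouts**, for an arbitrary pushout. -/
theorem isPushout_of_flat {X Y Z : Scheme.{u}} {i : Z ⟶ X} {j : Z ⟶ Y}
    [IsClosedImmersion i] (hc : Covering i j) {P' : Scheme.{u}} {a' : X ⟶ P'} {b' : Y ⟶ P'}
    (hP : IsPushout i j a' b') {F : Scheme.{u}} (q' : F ⟶ P') [Flat q']
    {XF YF ZF : Scheme.{u}} {pX : XF ⟶ X} {aF : XF ⟶ F} (HX : IsPullback pX aF a' q')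
    {pY : YF ⟶ Y} {bF : YF ⟶ F} (HY : IsPullback pY bF b' q')
    {pZ : ZF ⟶ Z} {cF : ZF ⟶ F} (HZ : IsPullback pZ cF (i ≫ a') q')
    {iF : ZF ⟶ XF} {jF : ZF ⟶ YF} (hi1 : iF ≫ pX = pZ ≫ i) (hi2 : iF ≫ aF = cF)
    (hj1 : jF ≫ pY = pZ ≫ j) (hj2 : jF ≫ bF = cF) :
    IsPushout iF jF aF bF :=
  (Data.ofIsPushout hc hP q' HX HY HZ hi1 hi2 hj1 hj2).isPushout_of_flat

/-- the base change along `Over.pullback`, in the form of the statements -/
theorem isPushout_overPullback_of_flat {X Y Z : Scheme.{u}} {i : Z ⟶ X} {j : Z ⟶ Y}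
    [IsClosedImmersion i] (hc : Covering i j) {P' : Scheme.{u}} {a' : X ⟶ P'} {b' : Y ⟶ P'}
    (hP : IsPushout i j a' b') {F : Scheme.{u}} (q' : F ⟶ P') [Flat q'] :
    IsPushout ((Over.pullback q').map (Over.homMk i rfl : Over.mk (i ≫ a') ⟶ Over.mk a')).left
      ((Over.pullback q').map (Over.homMk j hP.w.symm : Over.mk (i ≫ a') ⟶ Over.mk b')).left
      ((Over.pullback q').obj (Over.mk a')).hom ((Over.pullback q').obj (Over.mk b')).hom := by
  refine isPushout_of_flat hc hP q' (pX := pullback.fst a' q') (pY := pullback.fst b' q')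
    (pZ := pullback.fst (i ≫ a') q') (cF := pullback.snd (i ≫ a') q')
    (IsPullback.of_hasPullback a' q') (IsPullback.of_hasPullback b' q')
    (IsPullback.of_hasPullback (i ≫ a') q') ?_ ?_ ?_ ?_
  · exact pullback.lift_fst _ _ _
  · exact pullback.lift_snd _ _ _
  · exact pullback.lift_fst _ _ _
  · exact pullback.lift_snd _ _ _

end BC

end Groth.Agent.Lib.Helper1.FP
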