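import Groth.Agent.Lib.Helper1.FPB6

/-!
# Base change of Ferrand pushouts (helper1), part 7: base change in over categories
-/

set_option autoImplicit false
set_option linter.unusedSectionVars false
set_option linter.unusedVariables false
set_option linter.style.haveILetI false
universe u

noncomputable section

namespace Groth.Agent.Lib.Helper1.FP

open AlgebraicGeometry CategoryTheory CategoryTheory.Limits TopologicalSpace Opposite

namespace BC

/-- the base change of a morphism over `S` sits in a pullback square -/
lemma isPullback_overPullback {S S' : Scheme.{u}} (g : S' ⟶ S) {A B : Over S} (φ : A ⟶ B) :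
    IsPullback (pullback.fst A.hom g) ((Over.pullback g).map φ).left φ.left
      (pullback.fst B.hom g) := by
  have hsnd : ((Over.pullback g).map φ).left ≫ pullback.snd B.hom g = pullback.snd A.hom g :=
    pullback.lift_snd _ _ _
  have hfst : ((Over.pullback g).map φ).left ≫ pullback.fst B.hom g =
      pullback.fst A.hom g ≫ φ.left := pullback.lift_fst _ _ _
  have big : IsPullback (((Over.pullback g).map φ).left ≫ pullback.snd B.hom g)
      (pullback.fst A.hom g) g (φ.left ≫ B.hom) := by
    rw [hsnd, Over.w φ]
    exact (IsPullback.of_hasPullback A.hom g).flip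
  exact (IsPullback.of_right big hfst (IsPullback.of_hasPullback B.hom g).flip).flip

/-- **Flat base change of pushouts of closed immersions in over categories.** -/
theorem isPushout_over_of_flat {S S' : Scheme.{u}} (g : S' ⟶ S) [Flat g]
    {Y X₁ X₂ X : Over S} (θ₁ : Y ⟶ X₁) (θ₂ : Y ⟶ X₂) [IsClosedImmersion θ₁.left]
    (hc : Covering θ₁.left θ₂.left)
    (φ₁ : X₁ ⟶ X) (φ₂ : X₂ ⟶ X) (hX : IsPushout θ₁ θ₂ φ₁ φ₂) :
    IsPushout ((Over.pullback g).map θ₁) ((Over.pullback g).map θ₂)
      ((Over.pullback g).map φ₁) ((Over.pullback g).map φ₂) := by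
  have hXl : IsPushout θ₁.left θ₂.left φ₁.left φ₂.left := hX.map (Over.forget S)
  have comm : (Over.pullback g).map θ₁ ≫ (Over.pullback g).map φ₁ =
      (Over.pullback g).map θ₂ ≫ (Over.pullback g).map φ₂ := by
    rw [← Functor.map_comp, ← Functor.map_comp, hX.w]
  refine IsPushout.of_map (Over.forget S') comm ?_
  change IsPushout ((Over.pullback g).map θ₁).left ((Over.pullback g).map θ₂).left
    ((Over.pullback g).map φ₁).left ((Over.pullback g).map φ₂).left
  haveI : Flat (pullback.fst X.hom g) := inferInstance
  refine isPushout_of_flat hc hXl (pullback.fst X.hom g)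
    (isPullback_overPullback g φ₁) (isPullback_overPullback g φ₂)
    (pZ := pullback.fst Y.hom g) (cF := ((Over.pullback g).map (θ₁ ≫ φ₁)).left) ?_ ?_ ?_ ?_ ?_
  · have := isPullback_overPullback g (θ₁ ≫ φ₁)
    rwa [Over.comp_left] at this
  · exact pullback.lift_fst _ _ _
  · rw [← Over.comp_left, ← Functor.map_comp]
  · exact pullback.lift_fst _ _ _
  · rw [← Over.comp_left, ← Functor.map_comp, hX.w]

end BC

end Groth.Agent.Lib.Helper1.FP
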