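import Groth.Agent.Lib.Helper1.FPB7
import Groth.Prelude.Def_W4c3jacimperfPinch
import Mathlib.Algebra.Module.Projective

/-!
# Base change of Ferrand pushouts (helper1), part 8: split injections and retractions (algebra)
-/

set_option autoImplicit false
set_option linter.unusedSectionVars false
set_option linter.unusedVariables false
set_option linter.style.haveILetI false
universe u

noncomputable section

namespace Groth.Agent.Lib.Helper1.FP

open TensorProduct CategoryTheory CategoryTheory.Limits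

namespace TensorSq

/-- base change of a split injection stays injective (abstract pushout form) -/
theorem injective_of_split {Λ Λ' R A D A' : Type u} [CommRing Λ] [CommRing Λ'] [CommRing R]
    [CommRing A] [CommRing D] [CommRing A']
    (lR : Λ →+* R) (l' : Λ →+* Λ') (f₁ : R →+* A)
    (uR : R →+* D) (vD : Λ' →+* D)
    (hD : IsPushout (CommRingCat.ofHom lR) (CommRingCat.ofHom l')
      (CommRingCat.ofHom uR) (CommRingCat.ofHom vD))
    (uA : A →+* A') (vA : Λ' →+* A')
    (hA : IsPushout (CommRingCat.ofHom (f₁.comp lR)) (CommRingCat.ofHom l')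
      (CommRingCat.ofHom uA) (CommRingCat.ofHom vA))
    (dA : D →+* A') (h1 : dA.comp uR = uA.comp f₁) (h2 : dA.comp vD = vA)
    (r : A →+ R) (hr1 : ∀ l a, r (f₁ (lR l) * a) = lR l * r a) (hr2 : ∀ x, r (f₁ x) = x) :
    Function.Injective dA := by
  letI : Algebra Λ R := lR.toAlgebra
  letI : Algebra Λ A := (f₁.comp lR).toAlgebra
  letI : Algebra Λ Λ' := l'.toAlgebra
  let f₁l : R →ₗ[Λ] A :=
    { toFun := f₁
      map_add' := map_add f₁
      map_smul' := fun l x => by
        change f₁ (lR l * x) = f₁ (lR l) * f₁ x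
        exact map_mul f₁ _ _ }
  let rl : A →ₗ[Λ] R :=
    { toFun := r
      map_add' := map_add r
      map_smul' := fun l a => hr1 l a }
  have hrf : rl ∘ₗ f₁l = LinearMap.id := LinearMap.ext fun x => hr2 x
  let eD := tensorIso (R := Λ) (A := R) (D := Λ') uR vD hD
  let eA := tensorIso (R := Λ) (A := A) (D := Λ') uA vA hA
  have hcomm : ∀ y : Λ' ⊗[Λ] R, dA (eD.hom y) = eA.hom (f₁l.lTensor Λ' y) := by
    intro y
    induction y with
    | zero => simp
    | tmul l x =>
      rw [LinearMap.lTensor_tmul, tensorIso_tmul, tensorIso_tmul, map_mul]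
      have e1 : dA (vD l) = vA l := congr($h2 l)
      have e2 : dA (uR x) = uA (f₁ x) := congr($h1 x)
      rw [e1, e2]; rfl
    | add x y hx hy => simp only [map_add, hx, hy]
  rw [injective_iff_map_eq_zero]
  intro x hx
  obtain ⟨y, rfl⟩ := tensorIso_surjective (R := Λ) uR vD hD x
  change dA (eD.hom y) = 0 at hx
  rw [hcomm] at hx
  have h3 : f₁l.lTensor Λ' y = 0 := by
    apply tensorIso_injective (R := Λ) uA vA hA
    rw [map_zero]; exact hx
  have h4 : y = (rl ∘ₗ f₁l).lTensor Λ' y := by rw [hrf, LinearMap.lTensor_id]; rfl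
  rw [h4, LinearMap.lTensor_comp, LinearMap.comp_apply, h3, map_zero, map_zero]

/-- a module-linear retraction of the first projection of a fibre product square, when the
cokernel of the second map is projective -/
theorem exists_retraction {Λ R A B C : Type u} [CommRing Λ] [CommRing R] [CommRing A]
    [CommRing B] [CommRing C]
    (lR : Λ →+* R) (f₁ : R →+* A) (f₂ : R →+* B) (φ : A →+* C) (ψ : B →+* C)
    (hf : φ.comp f₁ = ψ.comp f₂) (hφ : Function.Surjective φ) (hψ : Function.Injective ψ)
    (hex : ∀ a b, φ a = ψ b → ∃ r : R, f₁ r = a ∧ f₂ r = b)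
    (hinj : ∀ r : R, f₁ r = 0 → f₂ r = 0 → r = 0)
    (lC : Λ →+* C) (hlC : lC = (φ.comp f₁).comp lR)
    (hproj : @Pinch.CokerProjective Λ C B _ _ _ lC.toAlgebra ψ) :
    ∃ r : A →+ R, (∀ l a, r (f₁ (lR l) * a) = lR l * r a) ∧ ∀ x, r (f₁ x) = x := by
  letI : Algebra Λ C := lC.toAlgebra
  letI : Algebra Λ A := (f₁.comp lR).toAlgebra
  letI : Algebra Λ R := lR.toAlgebra
  have hf₁inj : Function.Injective f₁ := by
    rw [injective_iff_map_eq_zero]
    intro x hx
    refine hinj x hx (hψ ?_)
    have : ψ (f₂ x) = φ (f₁ x) := (congr($hf x)).symm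
    rw [this, hx, map_zero, map_zero]
  have hlCa : ∀ l : Λ, lC l = φ (f₁ (lR l)) := fun l => by rw [hlC]; rfl
  have hlCb : ∀ l : Λ, lC l = ψ (f₂ (lR l)) := fun l => by rw [hlCa]; exact congr($hf (lR l))
  -- the submodule spanned by the range is the range
  have hM : ∀ c ∈ Submodule.span Λ (Set.range ψ), c ∈ Set.range ψ := by
    intro c hc
    induction hc using Submodule.span_induction with
    | mem x hx => exact hx
    | zero => exact ⟨0, map_zero ψ⟩
    | add x y _ _ hx hy =>
      obtain ⟨b, rfl⟩ := hx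
      obtain ⟨b', rfl⟩ := hy
      exact ⟨b + b', map_add ψ _ _⟩
    | smul l x _ hx =>
      obtain ⟨b, rfl⟩ := hx
      refine ⟨f₂ (lR l) * b, ?_⟩
      rw [map_mul, ← hlCb]; rfl
  let φl : A →ₗ[Λ] C :=
    { toFun := φ
      map_add' := map_add φ
      map_smul' := fun l a => by
        change φ (f₁ (lR l) * a) = lC l * φ a
        rw [map_mul, hlCa] }
  let π : A →ₗ[Λ] (C ⧸ Submodule.span Λ (Set.range ψ)) :=
    (Submodule.span Λ (Set.range ψ)).mkQ ∘ₗ φl
  have hπ : Function.Surjective π :=
    (Submodule.mkQ_surjective _).comp hφ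
  haveI : Module.Projective Λ (C ⧸ Submodule.span Λ (Set.range ψ)) := hproj
  obtain ⟨σ, hσ⟩ := Module.projective_lifting_property π LinearMap.id hπ
  have hπσ : ∀ n, π (σ n) = n := fun n => congr($hσ n)
  have key : ∀ a : A, ∃ x : R, f₁ x = a - σ (π a) := by
    intro a
    have h0 : π (a - σ (π a)) = 0 := by rw [map_sub, hπσ, sub_self]
    have h1 : φ (a - σ (π a)) ∈ Submodule.span Λ (Set.range ψ) :=
      (Submodule.Quotient.mk_eq_zero _).mp h0
    obtain ⟨b, hb⟩ := hM _ h1
    obtain ⟨x, hx, -⟩ := hex _ b hb.symm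
    exact ⟨x, hx⟩
  choose r hr using key
  have hr0 : ∀ x, r (f₁ x) = x := by
    intro x
    apply hf₁inj
    rw [hr]
    have h0 : π (f₁ x) = 0 := by
      refine (Submodule.Quotient.mk_eq_zero _).mpr (Submodule.subset_span ⟨f₂ x, ?_⟩)
      exact (congr($hf x)).symm
    rw [h0, map_zero, sub_zero]
  refine ⟨AddMonoidHom.mk' r (fun a a' => ?_), fun l a => ?_, hr0⟩
  · apply hf₁inj
    rw [map_add, hr, hr, hr, map_add, map_add]
    abel
  · change r (f₁ (lR l) * a) = lR l * r a
    apply hf₁inj
    rw [map_mul, hr, hr]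
    have h1 : π (f₁ (lR l) * a) = l • π a := π.map_smul l a
    rw [h1, map_smul]
    change f₁ (lR l) * a - f₁ (lR l) * σ (π a) = _
    ring

end TensorSq

end Groth.Agent.Lib.Helper1.FP
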