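import Groth.Agent.Lib.Helper1.FPB8

/-!
# Base change of Ferrand pushouts (helper1), part 9: the local condition by splitting
-/

set_option autoImplicit false
set_option linter.unusedSectionVars false
set_option linter.unusedVariables false
set_option linter.style.haveILetI false
universe u

noncomputable section

namespace Groth.Agent.Lib.Helper1.FP

open AlgebraicGeometry CategoryTheory CategoryTheory.Limits TopologicalSpace Opposite

namespace BC

variable {X Y Z : Scheme.{u}} {i : Z ⟶ X} {j : Z ⟶ Y} [IsClosedImmersion i]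
  {hc : Covering i j} {F : Scheme.{u}} {q : F ⟶ P i j} (d : Data hc q)
  (α : Chart i j) (O : F.Opens) (hO : IsAffineOpen O) (hOS : O ≤ q ⁻¹ᵁ S α)

namespace Data

/-- the local condition follows from injectivity on the `X`-side -/
theorem localCond_of_injective
    (h : Function.Injective (d.aF.appLE O (d.chart α O hO hOS).U inf_le_right).hom) :
    d.LocalCond α O hO hOS := by
  refine ⟨?_, d.ρ_surjective α O hO hOS⟩
  intro x y hxy
  apply h
  exact congrArg (FibProd.fst _ _) hxy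

/-- the local condition for charts away from `Y` -/
theorem localCond_of_bot (hV : α.V = ⊥) : d.LocalCond α O hO hOS := by
  apply d.localCond_of_injective
  have hA := (isIso_pushoutSection_iff d.HX hOS (U_le hc α) rfl).mp
    (isIso_pushoutSection_of_isAffineOpen d.HX hOS (U_le hc α) rfl (hS α) hO α.hU)
  haveI h1 : Subsingleton Γ(Y, α.V) := by rw [hV]; infer_instance
  haveI h2 : Subsingleton Γ(Z, α.W) := by
    have : α.W = ⊥ := by
      change i ⁻¹ᵁ α.U = ⊥
      rw [α.h, hV]; rfl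
    rw [this]; infer_instance
  have hfst : Function.Bijective (FibProd.fst α.φ α.ψ) := by
    constructor
    · intro x y hxy
      exact FibProd.ext' hxy (Subsingleton.elim _ _)
    · intro a
      exact ⟨FibProd.mk a 0 (Subsingleton.elim _ _), rfl⟩
  have hf₁ : Function.Bijective ((toP₁ hc).appLE (S α) α.U (U_le hc α)).hom :=
    hfst.comp (ρ_bijective hc α)
  haveI : IsIso ((toP₁ hc).appLE (S α) α.U (U_le hc α)) :=
    (ConcreteCategory.isIso_iff_bijective _).mpr hf₁
  haveI h3 : IsIso (d.aF.appLE O (d.chart α O hO hOS).U inf_le_right) :=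
    hA.isIso_inr_of_isIso
  exact (ConcreteCategory.bijective_of_isIso
    (d.aF.appLE O (d.chart α O hO hOS).U inf_le_right)).1

/-- the local condition by a linear retraction over a base -/
theorem localCond_of_split {B₀ Y' : Scheme.{u}} (p₀ : P i j ⟶ B₀) (g : Y' ⟶ B₀) (sF : F ⟶ Y')
    (HF : IsPullback q sF p₀ g) (U : B₀.Opens) (hU : IsAffineOpen U) (hSU : S α ≤ p₀ ⁻¹ᵁ U)
    (U' : Y'.Opens) (hU' : IsAffineOpen U') (hU'U : U' ≤ g ⁻¹ᵁ U)
    (r : Γ(X, α.U) →+ Γ(P i j, S α))
    (hr1 : ∀ l a, r (((toP₁ hc).appLE (S α) α.U (U_le hc α)).hom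
      ((p₀.appLE U (S α) hSU).hom l) * a) = (p₀.appLE U (S α) hSU).hom l * r a)
    (hr2 : ∀ x, r (((toP₁ hc).appLE (S α) α.U (U_le hc α)).hom x) = x) :
    d.LocalCond α (q ⁻¹ᵁ S α ⊓ sF ⁻¹ᵁ U')
      (isAffineOpen_inf HF hU'U hSU hU hU' (hS α)) inf_le_left := by
  apply d.localCond_of_injective
  set O := q ⁻¹ᵁ S α ⊓ sF ⁻¹ᵁ U' with hOdef
  have hO : IsAffineOpen O := isAffineOpen_inf HF hU'U hSU hU hU' (hS α)
  have hD := (isIso_pushoutSection_iff HF hU'U hSU rfl).mp
    (isIso_pushoutSection_of_isAffineOpen HF hU'U hSU rfl hU hU' (hS α))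
  -- the composite pullback square
  have HXY : IsPullback d.pX (d.aF ≫ sF) (toP₁ hc ≫ p₀) g :=
    (d.HX.flip.paste_horiz HF.flip).flip
  have hUle : α.U ≤ (toP₁ hc ≫ p₀) ⁻¹ᵁ U := fun x hx => hSU (U_le hc α hx)
  have hβU : (d.chart α O hO inf_le_left).U = d.pX ⁻¹ᵁ α.U ⊓ (d.aF ≫ sF) ⁻¹ᵁ U' := by
    ext x
    change (d.pX x ∈ α.U ∧ (q (d.aF x) ∈ S α ∧ sF (d.aF x) ∈ U')) ↔
      (d.pX x ∈ α.U ∧ sF (d.aF x) ∈ U')
    constructor
    · rintro ⟨h1, -, h3⟩; exact ⟨h1, h3⟩
    · rintro ⟨h1, h3⟩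
      refine ⟨h1, ?_, h3⟩
      have : q (d.aF x) = toP₁ hc (d.pX x) := by
        rw [← Scheme.Hom.comp_apply, ← Scheme.Hom.comp_apply, d.HX.w]
      rw [this]
      exact U_le hc α h1
  have hA := (isIso_pushoutSection_iff HXY hU'U hUle hβU).mp
    (isIso_pushoutSection_of_isAffineOpen HXY hU'U hUle hβU hU hU' α.hU)
  have hA' : (toP₁ hc ≫ p₀).appLE U α.U hUle =
      p₀.appLE U (S α) hSU ≫ (toP₁ hc).appLE (S α) α.U (U_le hc α) :=
    (appLE_comp_eq' rfl _ _ _ _ _ _).symm
  rw [hA'] at hA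
  refine TensorSq.injective_of_split (p₀.appLE U (S α) hSU).hom (g.appLE U U' hU'U).hom
    ((toP₁ hc).appLE (S α) α.U (U_le hc α)).hom _ _ hD _ _ hA _ ?_ ?_ r hr1 hr2
  · exact congrArg CommRingCat.Hom.hom
      (appLE_comp_eq d.HX.w.symm (S α) O α.U (d.chart α O hO inf_le_left).U
        inf_le_left inf_le_right (U_le hc α) inf_le_left)
  · exact congrArg CommRingCat.Hom.hom
      (appLE_comp_eq' rfl U' O (d.chart α O hO inf_le_left).U inf_le_right inf_le_right
        (hβU.le.trans inf_le_right))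

end Data

end BC

end Groth.Agent.Lib.Helper1.FP
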