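import Mathlib
import Groth.Prelude.Def_Curv2
import Groth.Prelude.Def_EGA4b
import Groth.Agent.Lib.Helper1.FPS3
import Groth.Agent.Lib.Helper12.Normal

/-!
# Purely inseparable base change of a local ring is local (helper1)
-/

set_option autoImplicit false
set_option linter.style.haveILetI false
set_option linter.unusedSectionVars false
universe u

open CategoryTheory CategoryTheory.Limits AlgebraicGeometry TensorProduct

namespace Groth.Agent.Lib.Helper1.FPS

section pi

variable (k C k' : Type u) [Field k] [CommRing C] [IsLocalRing C] [Algebra k C] [Field k']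
  [Algebra k k'] [IsPurelyInseparable k k']

/-- for `k'/k` purely inseparable and `C` local, `C ⊗[k] k'` has a unique prime over the maximal
ideal of `C`, which is its unique maximal ideal. -/
theorem exists_unique_closedPoint :
    ∃ 𝔐 : PrimeSpectrum (C ⊗[k] k'),
      𝔐.comap (algebraMap C (C ⊗[k] k')) = IsLocalRing.closedPoint C ∧
      ∀ t : C ⊗[k] k', t ∉ 𝔐.asIdeal → IsUnit t := by
  have hhom := PrimeSpectrum.isHomeomorph_comap_of_isPurelyInseparable k k' C
  obtain ⟨𝔐, h𝔐⟩ := hhom.bijective.2 (IsLocalRing.closedPoint C)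
  refine ⟨𝔐, h𝔐, ?_⟩
  intro t ht
  by_contra hu
  obtain ⟨𝔑, h𝔑, ht𝔑⟩ := exists_max_ideal_of_mem_nonunits hu
  let N : PrimeSpectrum (C ⊗[k] k') := ⟨𝔑, h𝔑.isPrime⟩
  have hcl : IsClosed ({N} : Set (PrimeSpectrum (C ⊗[k] k'))) :=
    (PrimeSpectrum.isClosed_singleton_iff_isMaximal N).mpr h𝔑
  have hcl2 : IsClosed ((PrimeSpectrum.comap (algebraMap C (C ⊗[k] k'))) '' {N}) :=
    hhom.isClosedMap _ hcl
  rw [Set.image_singleton, PrimeSpectrum.isClosed_singleton_iff_isMaximal] at hcl2
  have h1 : (PrimeSpectrum.comap (algebraMap C (C ⊗[k] k')) N).asIdeal =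
      IsLocalRing.maximalIdeal C := IsLocalRing.eq_maximalIdeal hcl2
  have h2 : PrimeSpectrum.comap (algebraMap C (C ⊗[k] k')) N = IsLocalRing.closedPoint C :=
    PrimeSpectrum.ext h1
  have h3 : N = 𝔐 := hhom.bijective.1 (h2.trans h𝔐.symm)
  rw [← h3] at ht
  exact ht ht𝔑

/-- if the localizations of `C ⊗[k] k'` at the primes over the closed point of `C` are normal domains,
then `C ⊗[k] k'` is a normal ring (`k'/k` purely inseparable, `C` local). -/
theorem isNormalRing_tensor_of_purelyInseparable_local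
    (h : ∀ Q : PrimeSpectrum (C ⊗[k] k'),
      Q.comap (algebraMap C (C ⊗[k] k')) = IsLocalRing.closedPoint C →
      IsDomain (Localization.AtPrime Q.asIdeal) ∧ IsIntegrallyClosed (Localization.AtPrime Q.asIdeal)) :
    EGA4.IsNormalRing (C ⊗[k] k') := by
  obtain ⟨𝔐, h𝔐, hu⟩ := exists_unique_closedPoint k C k'
  obtain ⟨h1, h2⟩ := h 𝔐 h𝔐
  let e : (C ⊗[k] k') ≃ₐ[C ⊗[k] k'] Localization.AtPrime 𝔐.asIdeal :=
    IsLocalization.atUnits (C ⊗[k] k') 𝔐.asIdeal.primeCompl (fun t ht => hu t ht)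
  obtain ⟨h3, h4⟩ := normalPair_of_ringEquiv e.toRingEquiv ⟨h1, h2⟩
  exact Groth.Agent.Lib.Helper12.Normal.isNormalRing_of_domain _

end pi

end Groth.Agent.Lib.Helper1.FPS
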