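import Mathlib
import Groth.Prelude.Def_Curv2
import Groth.Prelude.Def_EGA4b
import Groth.Agent.Lib.Helper1.FPS4

/-!
# Local rings of `X_{k'}` at points over `x` versus `𝒪_{X,x} ⊗[k] k'` (helper1)
-/

set_option autoImplicit false
set_option linter.style.haveILetI false
set_option linter.unusedSectionVars false
universe u

open CategoryTheory CategoryTheory.Limits AlgebraicGeometry TensorProduct

attribute [local instance] Curv2.stalkAlgebra

namespace Groth.Agent.Lib.Helper1.FPS

section

variable (k : Type u) [Field k] (X : Scheme.{u}) [X.Over (Spec (CommRingCat.of k))] (x : X)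
  (k' : Type u) [Field k'] [Algebra k k']

theorem bc_exists_prime (x' : ↥(Curv2.bc k X k')) (hx : (Curv2.bcFst k X k').base x' = x) :
    ∃ Q : PrimeSpectrum ((X.presheaf.stalk x) ⊗[k] k'),
      Q.comap (Algebra.TensorProduct.includeLeftRingHom :
        (X.presheaf.stalk x) →+* (X.presheaf.stalk x) ⊗[k] k') =
        IsLocalRing.closedPoint (X.presheaf.stalk x) ∧
      Nonempty ((Curv2.bc k X k').presheaf.stalk x' ≃+* Localization.AtPrime Q.asIdeal) := by
  let iA : Spec (CommRingCat.of (X.presheaf.stalk x)) ⟶ X := X.fromSpecStalk x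
  haveI : Flat iA := Groth.Agent.Lib.Helper10.FibreProductStalk.flat_fromSpecStalk X x
  haveI : IsPreimmersion iA := inferInstanceAs (IsPreimmersion (X.fromSpecStalk x))
  have hA : Spec.map (CommRingCat.ofHom (algebraMap k (X.presheaf.stalk x))) =
      iA ≫ (X ↘ Spec (CommRingCat.of k)) := specMap_stalkMap k X x
  obtain ⟨Q, h1, -, h3⟩ := exists_prime_stalk_equiv
    (X ↘ Spec (CommRingCat.of k)) (Spec.map (CommRingCat.ofHom (algebraMap k k')))
    iA (𝟙 _) hA (Category.id_comp _).symm x'
    (IsLocalRing.closedPoint (X.presheaf.stalk x)) ((Curv2.bcSnd k X k').base x')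
    (Scheme.fromSpecStalk_closedPoint.trans hx.symm) rfl
  exact ⟨Q, h1, h3⟩

theorem bc_exists_point (Q : PrimeSpectrum ((X.presheaf.stalk x) ⊗[k] k'))
    (hQ : Q.comap (Algebra.TensorProduct.includeLeftRingHom :
        (X.presheaf.stalk x) →+* (X.presheaf.stalk x) ⊗[k] k') =
        IsLocalRing.closedPoint (X.presheaf.stalk x)) :
    ∃ x' : ↥(Curv2.bc k X k'), (Curv2.bcFst k X k').base x' = x ∧
      Nonempty ((Curv2.bc k X k').presheaf.stalk x' ≃+* Localization.AtPrime Q.asIdeal) := by
  let iA : Spec (CommRingCat.of (X.presheaf.stalk x)) ⟶ X := X.fromSpecStalk x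
  haveI : Flat iA := Groth.Agent.Lib.Helper10.FibreProductStalk.flat_fromSpecStalk X x
  haveI : IsPreimmersion iA := inferInstanceAs (IsPreimmersion (X.fromSpecStalk x))
  have hA : Spec.map (CommRingCat.ofHom (algebraMap k (X.presheaf.stalk x))) =
      iA ≫ (X ↘ Spec (CommRingCat.of k)) := specMap_stalkMap k X x
  obtain ⟨z, h1, -, h3⟩ := exists_point_stalk_equiv
    (X ↘ Spec (CommRingCat.of k)) (Spec.map (CommRingCat.ofHom (algebraMap k k')))
    iA (𝟙 _) hA (Category.id_comp _).symm Q
  refine ⟨z, ?_, h3⟩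
  rw [h1, hQ]
  exact Scheme.fromSpecStalk_closedPoint

end

end Groth.Agent.Lib.Helper1.FPS
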