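import Mathlib
import Groth.Prelude.Def_Curv2
import Groth.Prelude.Def_EGA4b
import Groth.Agent.Lib.Helper1.FPS5
import Groth.Agent.Lib.Helper24.GeomRedPI
import Groth.Agent.Lib.Helper6.GeomReduced

/-!
# Geometric reducedness at a point (helper1)
-/

set_option autoImplicit false
set_option linter.style.haveILetI false
set_option linter.unusedSectionVars false
universe u

open CategoryTheory CategoryTheory.Limits AlgebraicGeometry TensorProduct

attribute [local instance] Curv2.stalkAlgebra

namespace Groth.Agent.Lib.Helper1.FPS

section algebra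

variable (k C : Type u) [Field k] [CommRing C] [Algebra k C]

/-- `GeometricallyReduced (Spec C ⟶ Spec k)` implies that `C` is a geometrically reduced algebra. -/
theorem isGeometricallyReduced_of_geometricallyReduced
    (h : GeometricallyReduced (Spec.map (CommRingCat.ofHom (algebraMap k C)))) :
    Algebra.IsGeometricallyReduced k C := by
  rw [Algebra.isGeometricallyReduced_field_iff]
  have h1 : geometrically IsReduced (Spec.map (CommRingCat.ofHom (algebraMap k C))) :=
    (geometricallyReduced_iff _).mp h
  have h2 : IsReduced (pullback (Spec.map (CommRingCat.ofHom (algebraMap k C)))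
      (Spec.map (CommRingCat.ofHom (algebraMap k (AlgebraicClosure k))))) :=
    (geometrically_iff_of_commRing.mp h1) _ _ (IsPullback.of_hasPullback _ _)
  have h3 : IsReduced (Spec (CommRingCat.of (C ⊗[k] AlgebraicClosure k))) :=
    isReduced_of_isOpenImmersion (pullbackSpecIso k C (AlgebraicClosure k)).inv
  have h4 : _root_.IsReduced (C ⊗[k] AlgebraicClosure k) := (affine_isReduced_iff _).mp h3
  exact isReduced_of_injective (Algebra.TensorProduct.comm k (AlgebraicClosure k) C).toRingHom
    (Algebra.TensorProduct.comm k (AlgebraicClosure k) C).injective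

/-- **Lemma GR**: reduced after all finite purely inseparable extensions implies geometrically
reduced. -/
theorem isGeometricallyReduced_of_forall_purelyInseparable
    (h : ∀ (k' : Type u) [Field k'] [Algebra k k'], Module.Finite k k' → IsPurelyInseparable k k' →
      _root_.IsReduced (C ⊗[k] k')) : Algebra.IsGeometricallyReduced k C := by
  apply isGeometricallyReduced_of_geometricallyReduced
  apply Groth.Agent.Lib.Helper24.GeomRedPI.geometricallyReduced_of_forall_finite_pi
  intro k' _ _ hfin hpi
  have h1 : IsReduced (Spec (CommRingCat.of (C ⊗[k] k'))) :=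
    (affine_isReduced_iff _).mpr (h k' hfin hpi)
  exact isReduced_of_isOpenImmersion (pullbackSpecIso k C k').hom

theorem isReduced_tensor_field_of_isGeometricallyReduced [Algebra.IsGeometricallyReduced k C]
    (K : Type u) [Field K] [Algebra k K] : _root_.IsReduced (C ⊗[k] K) := by
  have h1 : _root_.IsReduced (AlgebraicClosure k ⊗[k] C) :=
    (Algebra.isGeometricallyReduced_field_iff k C).mp inferInstance
  have h2 : _root_.IsReduced (K ⊗[k] C) :=
    Groth.Agent.Lib.Helper6.isReduced_of_isReduced_algClosure h1 K
  exact isReduced_of_injective (Algebra.TensorProduct.comm k C K).toRingHom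
    (Algebra.TensorProduct.comm k C K).injective

theorem isReduced_tensor_of_isGeometricallyReduced [Algebra.IsGeometricallyReduced k C]
    (B : Type u) [CommRing B] [Algebra k B] [_root_.IsReduced B] : _root_.IsReduced (C ⊗[k] B) := by
  apply Groth.Agent.Lib.Helper6.isReduced_tensor_of_forall_residueField
  intro p _
  exact isReduced_tensor_field_of_isGeometricallyReduced k C p.ResidueField

end algebra

theorem isReduced_of_ringEquiv {R S : Type*} [CommRing R] [CommRing S] (e : R ≃+* S)
    [_root_.IsReduced S] : _root_.IsReduced R :=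
  isReduced_of_injective e.toRingHom e.injective

section point

variable (k : Type u) [Field k] (X : Scheme.{u}) [X.Over (Spec (CommRingCat.of k))] (x : X)

/-- general version of `bc_exists_prime`: points of `X_{k'}` over generisations of `x`. -/
theorem bc_exists_prime' (k' : Type u) [Field k'] [Algebra k k'] (x' : ↥(Curv2.bc k X k'))
    (hx : (Curv2.bcFst k X k').base x' ⤳ x) :
    ∃ Q : PrimeSpectrum ((X.presheaf.stalk x) ⊗[k] k'),
      Nonempty ((Curv2.bc k X k').presheaf.stalk x' ≃+* Localization.AtPrime Q.asIdeal) := by
  let iA : Spec (CommRingCat.of (X.presheaf.stalk x)) ⟶ X := X.fromSpecStalk x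
  haveI : Flat iA := Groth.Agent.Lib.Helper10.FibreProductStalk.flat_fromSpecStalk X x
  haveI : IsPreimmersion iA := inferInstanceAs (IsPreimmersion (X.fromSpecStalk x))
  have hA : Spec.map (CommRingCat.ofHom (algebraMap k (X.presheaf.stalk x))) =
      iA ≫ (X ↘ Spec (CommRingCat.of k)) := specMap_stalkMap k X x
  have hmem : (Curv2.bcFst k X k').base x' ∈ Set.range (X.fromSpecStalk x).base := by
    rw [Scheme.range_fromSpecStalk]
    exact hx
  obtain ⟨a, ha⟩ := hmem
  obtain ⟨Q, -, -, h3⟩ := exists_prime_stalk_equiv
    (X ↘ Spec (CommRingCat.of k)) (Spec.map (CommRingCat.ofHom (algebraMap k k')))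
    iA (𝟙 _) hA (Category.id_comp _).symm x' a ((Curv2.bcSnd k X k').base x') ha rfl
  exact ⟨Q, h3⟩

/-- if `X_{k'}` is reduced at all points over `x` for all finite purely inseparable `k'/k`, then
`𝒪_{X,x}` is geometrically reduced. -/
theorem isGeometricallyReduced_stalk_of_forall_purelyInseparable
    (h : ∀ (k' : Type u) [Field k'] [Algebra k k'] [FiniteDimensional k k']
      [IsPurelyInseparable k k'] (x' : ↥(Curv2.bc k X k')), (Curv2.bcFst k X k').base x' = x →
      _root_.IsReduced ((Curv2.bc k X k').presheaf.stalk x')) :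
    Algebra.IsGeometricallyReduced k (X.presheaf.stalk x) := by
  apply isGeometricallyReduced_of_forall_purelyInseparable
  intro k' _ _ hfin hpi
  haveI := hfin
  haveI := hpi
  obtain ⟨𝔐, h𝔐, hu⟩ := exists_unique_closedPoint k (X.presheaf.stalk x) k'
  obtain ⟨x', hx', ⟨e⟩⟩ := bc_exists_point k X x k' 𝔐 h𝔐
  haveI := h k' x' hx'
  let e' : ((X.presheaf.stalk x) ⊗[k] k') ≃ₐ[(X.presheaf.stalk x) ⊗[k] k']
      Localization.AtPrime 𝔐.asIdeal :=
    IsLocalization.atUnits _ 𝔐.asIdeal.primeCompl (fun t ht => hu t ht)
  exact isReduced_of_ringEquiv (e'.toRingEquiv.trans e.symm)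

/-- if `𝒪_{X,x}` is geometrically reduced, then `X_{k'}` is reduced at all points over
generisations of `x`. -/
theorem isReduced_stalk_of_isGeometricallyReduced
    [Algebra.IsGeometricallyReduced k (X.presheaf.stalk x)]
    (k' : Type u) [Field k'] [Algebra k k'] (x' : ↥(Curv2.bc k X k'))
    (hx : (Curv2.bcFst k X k').base x' ⤳ x) :
    _root_.IsReduced ((Curv2.bc k X k').presheaf.stalk x') := by
  obtain ⟨Q, ⟨e⟩⟩ := bc_exists_prime' k X x k' x' hx
  haveI := isReduced_tensor_field_of_isGeometricallyReduced k (X.presheaf.stalk x) k'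
  exact isReduced_of_ringEquiv e

end point

end Groth.Agent.Lib.Helper1.FPS
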