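import Groth.Agent.Lib.Helper1.FPB14
import Mathlib.Geometry.RingedSpace.LocallyRingedSpace.HasColimits

/-!
# Pushouts of sheafed spaces which are schemes (helper1)

A square of schemes which is a pushout of sheafed spaces is a pushout of schemes.
-/

set_option autoImplicit false
set_option linter.unusedSectionVars false
set_option linter.unusedVariables false
set_option linter.style.haveILetI false
universe u

noncomputable section

namespace Groth.Agent.Lib.Helper1.FP

open AlgebraicGeometry CategoryTheory CategoryTheory.Limits TopologicalSpace Opposite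

/-- the forgetful functor from schemes to sheafed spaces -/
abbrev Fsh : Scheme.{u} ⥤ SheafedSpace CommRingCat.{u} :=
  Scheme.forgetToLocallyRingedSpace ⋙ LocallyRingedSpace.forgetToSheafedSpace

/-- joint surjectivity for a pushout of sheafed spaces -/
lemma jointly_surjective_of_sheafedSpace {X Y Z P' : Scheme.{u}} (i : Z ⟶ X) (j : Z ⟶ Y)
    (a : X ⟶ P') (b : Y ⟶ P')
    (hpo : IsPushout (Fsh.map i) (Fsh.map j) (Fsh.map a) (Fsh.map b)) (p : P') :
    (∃ x, a x = p) ∨ (∃ y, b y = p) := by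
  have hT := hpo.map (SheafedSpace.forget CommRingCat.{u} ⋙ forget TopCat)
  obtain ⟨k, y, hy⟩ := Types.jointly_surjective_of_isColimit hT.isColimit p
  rcases k with _ | k
  · refine Or.inl ⟨i y, ?_⟩
    rw [← hy]
    have := hT.cocone.w WalkingSpan.Hom.fst
    exact (ConcreteCategory.congr_hom this y)
  · rcases k with _ | _
    · exact Or.inl ⟨y, hy⟩
    · exact Or.inr ⟨y, hy⟩

/-- locality of the second factor of a composite of presheafed spaces -/
lemma isLocalHom_stalkMap_of_comp_aux {X P W : PresheafedSpace CommRingCat.{u}} (α : X ⟶ P)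
    (β : P ⟶ W) (γ : X ⟶ W) (h : α ≫ β = γ) (x : X)
    (hγ : IsLocalHom (γ.stalkMap x).hom) : IsLocalHom (β.stalkMap (α.base x)).hom := by
  subst h
  have e : ((α ≫ β).stalkMap x) = β.stalkMap (α.base x) ≫ α.stalkMap x :=
    PresheafedSpace.stalkMap.comp α β x
  have e2 : ((α ≫ β).stalkMap x).hom =
      (α.stalkMap x).hom.comp (β.stalkMap (α.base x)).hom := by rw [e]; rfl
  have hl : IsLocalHom ((α.stalkMap x).hom.comp (β.stalkMap (α.base x)).hom) := by
    rw [← e2]; exact hγ
  exact isLocalHom_of_comp _ (α.stalkMap x).hom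

/-- a morphism of sheafed spaces out of a jointly covered scheme is local as soon as its
composites with the covering maps are local -/
lemma isLocalHom_stalkMap_of_comp {X P' W : Scheme.{u}} (a : X ⟶ P') (t : X ⟶ W)
    (m₀ : Fsh.obj P' ⟶ Fsh.obj W) (h : Fsh.map a ≫ m₀ = Fsh.map t) (x : X) :
    IsLocalHom (m₀.hom.stalkMap (a x)).hom := by
  have h' : (Fsh.map a).hom ≫ m₀.hom = (Fsh.map t).hom := congrArg InducedCategory.Hom.hom h
  exact isLocalHom_stalkMap_of_comp_aux (Fsh.map a).hom m₀.hom (Fsh.map t).hom h' x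
    (t.toLRSHom.prop x)

/-- **A square of schemes which is a pushout of sheafed spaces is a pushout of schemes.** -/
theorem isPushout_of_sheafedSpace {X Y Z P' : Scheme.{u}} (i : Z ⟶ X) (j : Z ⟶ Y)
    (a : X ⟶ P') (b : Y ⟶ P')
    (hpo : IsPushout (Fsh.map i) (Fsh.map j) (Fsh.map a) (Fsh.map b)) :
    IsPushout i j a b := by
  have w : i ≫ a = j ≫ b := Fsh.map_injective (by
    rw [Fsh.map_comp, Fsh.map_comp]; exact hpo.w)
  have key : ∀ s : PushoutCocone i j, ∃ m : P' ⟶ s.pt, a ≫ m = s.inl ∧ b ≫ m = s.inr := by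
    intro s
    have hc : Fsh.map i ≫ Fsh.map s.inl = Fsh.map j ≫ Fsh.map s.inr := by
      rw [← Fsh.map_comp, ← Fsh.map_comp, s.condition]
    let m₀ : Fsh.obj P' ⟶ Fsh.obj s.pt := hpo.desc (Fsh.map s.inl) (Fsh.map s.inr) hc
    have hm1 : Fsh.map a ≫ m₀ = Fsh.map s.inl := hpo.inl_desc _ _ _
    have hm2 : Fsh.map b ≫ m₀ = Fsh.map s.inr := hpo.inr_desc _ _ _
    have hloc : ∀ p : P'.toLocallyRingedSpace, IsLocalHom (m₀.hom.stalkMap p).hom := by
      intro p
      rcases jointly_surjective_of_sheafedSpace i j a b hpo p with ⟨x, rfl⟩ | ⟨y, rfl⟩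
      · exact isLocalHom_stalkMap_of_comp a s.inl m₀ hm1 x
      · exact isLocalHom_stalkMap_of_comp b s.inr m₀ hm2 y
    let m : P' ⟶ s.pt := ⟨LocallyRingedSpace.homMk m₀ hloc⟩
    have hm : Fsh.map m = m₀ := rfl
    refine ⟨m, Fsh.map_injective ?_, Fsh.map_injective ?_⟩
    · rw [Fsh.map_comp, hm, hm1]
    · rw [Fsh.map_comp, hm, hm2]
  refine ⟨⟨w⟩, ⟨PushoutCocone.IsColimit.mk _ (fun s => (key s).choose)
    (fun s => (key s).choose_spec.1) (fun s => (key s).choose_spec.2) ?_⟩⟩
  intro s m h1 h2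
  apply Fsh.map_injective
  apply hpo.hom_ext
  · rw [← Fsh.map_comp, ← Fsh.map_comp, h1, (key s).choose_spec.1]
  · rw [← Fsh.map_comp, ← Fsh.map_comp, h2, (key s).choose_spec.2]

end Groth.Agent.Lib.Helper1.FP
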