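import Groth.Agent.Lib.Helper1.FPS7
import Mathlib.AlgebraicGeometry.Morphisms.SchemeTheoreticallyDominant

/-!
# Sections of a Ferrand pushout are detected on the two pieces (helper1)
-/

set_option autoImplicit false
set_option linter.unusedSectionVars false
set_option linter.unusedVariables false
set_option linter.style.haveILetI false
universe u

noncomputable section

namespace Groth.Agent.Lib.Helper1.FP

open AlgebraicGeometry CategoryTheory CategoryTheory.Limits TopologicalSpace Opposite

variable {X Y Z : Scheme.{u}} {i : Z ⟶ X} {j : Z ⟶ Y} [IsClosedImmersion i]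

open Chart

/-- a global section of a chart vanishes if its pullbacks to `U` and `V` vanish -/
lemma Chart.eq_zero_of_appTop (α : Chart i j) (t : Γ(α.spec, ⊤))
    (h1 : α.a.appTop t = 0) (h2 : α.b.appTop t = 0) : t = 0 := by
  have hinj : Function.Injective (Scheme.ΓSpecIso (CommRingCat.of α.R)).hom :=
    (ConcreteCategory.bijective_of_isIso _).1
  apply hinj
  rw [map_zero]
  have key : ∀ {B : Type u} [CommRing B] (p : α.R →+* B) {W : Scheme.{u}}
      (e : W ≅ Spec (CommRingCat.of B)),
      (e.hom ≫ Spec.map (CommRingCat.ofHom p)).appTop t = 0 →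
      p ((Scheme.ΓSpecIso (CommRingCat.of α.R)).hom t) = 0 := by
    intro B _ p W e h
    rw [Scheme.Hom.comp_appTop, CommRingCat.comp_apply] at h
    haveI : IsIso e.hom.appTop := inferInstanceAs (IsIso (e.hom.app ⊤))
    have hinj' : Function.Injective e.hom.appTop :=
      (ConcreteCategory.bijective_of_isIso _).1
    have h' : (Spec.map (CommRingCat.ofHom p)).appTop t = 0 := hinj' (by rw [h, map_zero])
    have nat := Scheme.ΓSpecIso_naturality (CommRingCat.ofHom p)
    have := ConcreteCategory.congr_hom nat t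
    rw [CommRingCat.comp_apply, CommRingCat.comp_apply, h', map_zero] at this
    exact this.symm
  apply FibProd.ext'
  · rw [map_zero]; exact key α.p₁ α.hU.isoSpec h1
  · rw [map_zero]; exact key α.p₂ α.hV.isoSpec h2

/-- variant over an open which is equal to `⊤` -/
lemma Chart.eq_zero_of_app (α : Chart i j) (V' : α.spec.Opens) (hV' : V' = ⊤) (t : Γ(α.spec, V'))
    (h1 : α.a.app V' t = 0) (h2 : α.b.app V' t = 0) : t = 0 := by
  subst hV'
  exact α.eq_zero_of_appTop t h1 h2

variable (hc : Covering i j) {P' : Scheme.{u}} {a' : X ⟶ P'} {b' : Y ⟶ P'}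
  (hP : IsPushout i j a' b')

/-- the chart maps into an arbitrary pushout -/
def chartTo (α : Chart i j) : α.spec ⟶ P' :=
  ι i j α ≫ ((isPushout_toP hc).isoIsPushout _ _ hP).hom

instance (α : Chart i j) : IsOpenImmersion (chartTo hc hP α) := by
  unfold chartTo; infer_instance

lemma a_chartTo (α : Chart i j) : α.a ≫ chartTo hc hP α = α.U.ι ≫ a' := by
  rw [chartTo, ← Category.assoc, ← ι_toP₁ hc α, Category.assoc,
    (isPushout_toP hc).inl_isoIsPushout_hom _ _ hP]

lemma b_chartTo (α : Chart i j) : α.b ≫ chartTo hc hP α = α.V.ι ≫ b' := by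
  rw [chartTo, ← Category.assoc, ← ι_toP₂ hc α, Category.assoc,
    (isPushout_toP hc).inr_isoIsPushout_hom _ _ hP]

lemma chartTo_jointly_surjective (p : P') : ∃ α : Chart i j, p ∈ (chartTo hc hP α).opensRange := by
  obtain ⟨α, q, hq⟩ := ι_jointly_surjective (i := i) (j := j)
    (((isPushout_toP hc).isoIsPushout _ _ hP).inv p)
  refine ⟨α, q, ?_⟩
  change (ι i j α ≫ ((isPushout_toP hc).isoIsPushout _ _ hP).hom) q = p
  rw [Scheme.Hom.comp_apply, hq, ← Scheme.Hom.comp_apply, Iso.inv_hom_id]
  rfl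

/-- sections over a chart of a pushout vanish if their pullbacks vanish -/
lemma eq_zero_of_chart (α : Chart i j) (s : Γ(P', (chartTo hc hP α).opensRange))
    (h1 : a'.app _ s = 0) (h2 : b'.app _ s = 0) : s = 0 := by
  haveI : IsIso ((chartTo hc hP α).app (chartTo hc hP α).opensRange) := Scheme.Hom.isIso_app (chartTo hc hP α) _ le_rfl
  have hinj : Function.Injective ((chartTo hc hP α).app (chartTo hc hP α).opensRange) :=
    (ConcreteCategory.bijective_of_isIso _).1
  apply hinj
  rw [map_zero]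
  have e1 : (chartTo hc hP α).app (chartTo hc hP α).opensRange ≫ α.a.app ((chartTo hc hP α) ⁻¹ᵁ (chartTo hc hP α).opensRange) =
      a'.app (chartTo hc hP α).opensRange ≫ α.U.ι.app _ ≫ (α.U : Scheme.{u}).presheaf.map (eqToHom (by
        rw [← Scheme.Hom.comp_preimage, ← Scheme.Hom.comp_preimage, a_chartTo hc hP α])).op := by
    rw [← Scheme.Hom.comp_app, Scheme.Hom.congr_app (a_chartTo hc hP α), Scheme.Hom.comp_app]
    exact Category.assoc _ _ _
  have e2 : (chartTo hc hP α).app (chartTo hc hP α).opensRange ≫ α.b.app ((chartTo hc hP α) ⁻¹ᵁ (chartTo hc hP α).opensRange) =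
      b'.app (chartTo hc hP α).opensRange ≫ α.V.ι.app _ ≫ (α.V : Scheme.{u}).presheaf.map (eqToHom (by
        rw [← Scheme.Hom.comp_preimage, ← Scheme.Hom.comp_preimage, b_chartTo hc hP α])).op := by
    rw [← Scheme.Hom.comp_app, Scheme.Hom.congr_app (b_chartTo hc hP α), Scheme.Hom.comp_app]
    exact Category.assoc _ _ _
  refine α.eq_zero_of_app _ (by rw [Scheme.Hom.preimage_opensRange]) _ ?_ ?_
  · have := ConcreteCategory.congr_hom e1 s
    simp only [CommRingCat.comp_apply] at this
    rw [this, h1, map_zero, map_zero]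
  · have := ConcreteCategory.congr_hom e2 s
    simp only [CommRingCat.comp_apply] at this
    rw [this, h2, map_zero, map_zero]

include hc hP in
/-- the kernels of the two maps to a Ferrand pushout meet trivially -/
theorem ker_inf_ker_eq_bot [QuasiCompact a'] [QuasiCompact b'] : a'.ker ⊓ b'.ker = ⊥ := by
  refine Scheme.IdealSheafData.ext_of_iSup_eq_top
    (fun α : Chart i j => ⟨(chartTo hc hP α).opensRange, isAffineOpen_opensRange _⟩) ?_ ?_
  · rw [eq_top_iff]
    intro p _
    obtain ⟨α, hα⟩ := chartTo_jointly_surjective hc hP p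
    exact Opens.mem_iSup.mpr ⟨α, hα⟩
  · intro α
    rw [Scheme.IdealSheafData.ideal_inf, Pi.inf_apply, Scheme.Hom.ker_apply, Scheme.Hom.ker_apply,
      Scheme.IdealSheafData.ideal_bot, Pi.bot_apply, eq_bot_iff]
    intro s hs
    rw [Ideal.mem_inf, RingHom.mem_ker, RingHom.mem_ker] at hs
    exact eq_zero_of_chart hc hP α s hs.1 hs.2

include hc hP in
/-- **sections of a Ferrand pushout are detected on the two pieces** -/
theorem eq_zero_of_app_eq_zero [QuasiCompact a'] [QuasiCompact b'] (V : P'.Opens) (s : Γ(P', V))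
    (h1 : a'.app V s = 0) (h2 : b'.app V s = 0) : s = 0 := by
  wlog hV : IsAffineOpen V generalizing V; swap
  · have hs : s ∈ (a'.ker ⊓ b'.ker).ideal ⟨V, hV⟩ := by
      rw [Scheme.IdealSheafData.ideal_inf, Pi.inf_apply, Scheme.Hom.ker_apply,
        Scheme.Hom.ker_apply, Ideal.mem_inf, RingHom.mem_ker, RingHom.mem_ker]
      exact ⟨h1, h2⟩
    rw [ker_inf_ker_eq_bot hc hP] at hs
    simpa using hs
  refine P'.IsSheaf.section_ext fun x hx ↦ ?_
  obtain ⟨_, ⟨V', hV', rfl⟩, hxV, hVU : V' ≤ V⟩ :=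
    P'.isBasis_affineOpens.exists_subset_of_mem_open hx V.isOpen
  refine ⟨V', hVU, hxV, ?_⟩
  rw [map_zero]
  refine this V' _ ?_ ?_ hV'
  · rw [← ConcreteCategory.comp_apply, a'.naturality]
    simp [h1]
  · rw [← ConcreteCategory.comp_apply, b'.naturality]
    simp [h2]

include hc hP in
/-- if `j` is flat and surjective, a function on `X` descends to the pushout along `X → P'`:
`O_T(U) → O_{P'}(f⁻¹U)` is an isomorphism as soon as `O_T(U) → O_X((a' ≫ f)⁻¹U)` is. -/
theorem isIso_app_of_isIso_comp_app [QuasiCompact a'] [QuasiCompact b'] [Flat j] [Surjective j]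
    {T : Scheme.{u}} (f : P' ⟶ T) (U : T.Opens) (h : IsIso ((a' ≫ f).app U)) :
    IsIso (f.app U) := by
  have hcomp : ∀ x, (a' ≫ f).app U x = a'.app (f ⁻¹ᵁ U) (f.app U x) := fun x => rfl
  have hbij : Function.Bijective ((a' ≫ f).app U) := ConcreteCategory.bijective_of_isIso _
  rw [ConcreteCategory.isIso_iff_bijective]
  constructor
  · intro x y hxy
    apply hbij.1
    rw [hcomp, hcomp, hxy]
  · intro s
    obtain ⟨r, hr⟩ := hbij.2 (a'.app (f ⁻¹ᵁ U) s)
    refine ⟨r, ?_⟩
    have h1 := hcomp r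
    rw [hr] at h1
    -- the difference vanishes
    have hd1 : a'.app (f ⁻¹ᵁ U) (f.app U r - s) = 0 := by
      rw [map_sub, ← h1, sub_self]
    have hd2 : b'.app (f ⁻¹ᵁ U) (f.app U r - s) = 0 := by
      apply app_injective_of_flat_of_surjective j
      rw [map_zero]
      have e1 : b'.app (f ⁻¹ᵁ U) ≫ j.app (b' ⁻¹ᵁ f ⁻¹ᵁ U) =
          a'.app (f ⁻¹ᵁ U) ≫ i.app (a' ⁻¹ᵁ f ⁻¹ᵁ U) ≫ Z.presheaf.map (eqToHom (by
            rw [← Scheme.Hom.comp_preimage j b', ← Scheme.Hom.comp_preimage i a', hP.w])).op := by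
        rw [← Scheme.Hom.comp_app, Scheme.Hom.congr_app hP.w.symm, Scheme.Hom.comp_app]
        exact Category.assoc _ _ _
      have := ConcreteCategory.congr_hom e1 (f.app U r - s)
      simp only [CommRingCat.comp_apply] at this
      change (j.app (b' ⁻¹ᵁ f ⁻¹ᵁ U)) ((b'.app (f ⁻¹ᵁ U)) (f.app U r - s)) = 0
      rw [this, hd1, map_zero, map_zero]
    have := eq_zero_of_app_eq_zero hc hP (f ⁻¹ᵁ U) (f.app U r - s) hd1 hd2
    exact sub_eq_zero.mp this

end Groth.Agent.Lib.Helper1.FP
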