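import Groth.Agent.Lib.Helper1.FPS8

/-!
# Sections of a Ferrand pushout form a fibre product (helper1)

For a Ferrand pushout `P'` of `X ← Z → Y` and every open `V ⊆ P'`, the square of rings
`Γ(P', V) → Γ(X, a'⁻¹V), Γ(Y, b'⁻¹V) → Γ(Z, c⁻¹V)` is cartesian.
-/

set_option autoImplicit false
set_option linter.unusedSectionVars false
set_option linter.unusedVariables false
set_option linter.style.haveILetI false
universe u

noncomputable section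

namespace Groth.Agent.Lib.Helper1.FP

open AlgebraicGeometry CategoryTheory CategoryTheory.Limits TopologicalSpace Opposite

variable {X Y Z : Scheme.{u}} {i : Z ⟶ X} {j : Z ⟶ Y} [IsClosedImmersion i]
  (hc : Covering i j) {P' : Scheme.{u}} {a' : X ⟶ P'} {b' : Y ⟶ P'}
  (hP : IsPushout i j a' b')

include hP in
lemma preimage_le_of_isPushout (V : P'.Opens) : (i ≫ a') ⁻¹ᵁ V ≤ j ⁻¹ᵁ b' ⁻¹ᵁ V := by
  rw [← Scheme.Hom.comp_preimage, hP.w]

lemma resLE_congr_hom {A B : Scheme.{u}} {f g : A ⟶ B} (h : f = g) (U : B.Opens) (V : A.Opens)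
    (e : V ≤ f ⁻¹ᵁ U) (e' : V ≤ g ⁻¹ᵁ U) : f.resLE U V e = g.resLE U V e' := by
  subst h; rfl

include hc in
/-- the restriction of a Ferrand pushout to an open subset is a pushout -/
theorem isPushout_resLE (V : P'.Opens) :
    IsPushout (i.resLE (a' ⁻¹ᵁ V) ((i ≫ a') ⁻¹ᵁ V) (Scheme.Hom.comp_preimage i a' V).le)
      (j.resLE (b' ⁻¹ᵁ V) ((i ≫ a') ⁻¹ᵁ V) (preimage_le_of_isPushout hP V))
      (a'.resLE V (a' ⁻¹ᵁ V) le_rfl) (b'.resLE V (b' ⁻¹ᵁ V) le_rfl) := by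
  have HX : IsPullback (a' ⁻¹ᵁ V).ι (a'.resLE V (a' ⁻¹ᵁ V) le_rfl) a' V.ι := by
    rw [Scheme.Hom.resLE_eq_morphismRestrict]
    exact (isPullback_morphismRestrict a' V).flip
  have HY : IsPullback (b' ⁻¹ᵁ V).ι (b'.resLE V (b' ⁻¹ᵁ V) le_rfl) b' V.ι := by
    rw [Scheme.Hom.resLE_eq_morphismRestrict]
    exact (isPullback_morphismRestrict b' V).flip
  have HZ : IsPullback ((i ≫ a') ⁻¹ᵁ V).ι ((i ≫ a') ∣_ V) (i ≫ a') V.ι :=
    (isPullback_morphismRestrict (i ≫ a') V).flip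
  refine BC.isPushout_of_flat hc hP V.ι HX HY HZ ?_ ?_ ?_ ?_
  · exact Scheme.Hom.resLE_comp_ι _ _
  · rw [Scheme.Hom.resLE_comp_resLE]
    exact Scheme.Hom.resLE_eq_morphismRestrict _
  · exact Scheme.Hom.resLE_comp_ι _ _
  · rw [Scheme.Hom.resLE_comp_resLE, ← Scheme.Hom.resLE_eq_morphismRestrict]
    exact resLE_congr_hom hP.w.symm _ _ _ _

include hc in
/-- **sections of a Ferrand pushout form a fibre product of rings** -/
theorem isPullback_app [QuasiCompact a'] [QuasiCompact b'] (V : P'.Opens) :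
    IsPullback (a'.app V) (b'.app V) (i.appLE (a' ⁻¹ᵁ V) ((i ≫ a') ⁻¹ᵁ V) (Scheme.Hom.comp_preimage i a' V).le)
      (j.appLE (b' ⁻¹ᵁ V) ((i ≫ a') ⁻¹ᵁ V) (preimage_le_of_isPushout hP V)) := by
  have hw : a'.app V ≫ i.appLE (a' ⁻¹ᵁ V) ((i ≫ a') ⁻¹ᵁ V) (Scheme.Hom.comp_preimage i a' V).le =
      b'.app V ≫ j.appLE (b' ⁻¹ᵁ V) ((i ≫ a') ⁻¹ᵁ V) (preimage_le_of_isPushout hP V) := by
    rw [Scheme.Hom.app_eq_appLE, Scheme.Hom.app_eq_appLE]
    exact appLE_comp_eq hP.w V _ _ _ le_rfl _ le_rfl _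
  have hPV := isPushout_resLE hc hP V
  have key : ∀ s : PullbackCone (i.appLE (a' ⁻¹ᵁ V) ((i ≫ a') ⁻¹ᵁ V) (Scheme.Hom.comp_preimage i a' V).le)
      (j.appLE (b' ⁻¹ᵁ V) ((i ≫ a') ⁻¹ᵁ V) (preimage_le_of_isPushout hP V)),
      ∃ τ : s.pt ⟶ Γ(P', V), τ ≫ a'.app V = s.fst ∧ τ ≫ b'.app V = s.snd := by
    intro s
    let tx : (a' ⁻¹ᵁ V : Scheme.{u}) ⟶ Spec s.pt := (a' ⁻¹ᵁ V).toSpecΓ ≫ Spec.map s.fst
    let ty : (b' ⁻¹ᵁ V : Scheme.{u}) ⟶ Spec s.pt := (b' ⁻¹ᵁ V).toSpecΓ ≫ Spec.map s.snd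
    have hxy : i.resLE (a' ⁻¹ᵁ V) ((i ≫ a') ⁻¹ᵁ V) (Scheme.Hom.comp_preimage i a' V).le ≫ tx =
        j.resLE (b' ⁻¹ᵁ V) ((i ≫ a') ⁻¹ᵁ V) (preimage_le_of_isPushout hP V) ≫ ty := by
      simp only [tx, ty]
      rw [← Scheme.Opens.toSpecΓ_SpecMap_appLE_assoc, ← Scheme.Opens.toSpecΓ_SpecMap_appLE_assoc,
        ← Spec.map_comp, ← Spec.map_comp, s.condition]
    let t : (V : Scheme.{u}) ⟶ Spec s.pt := hPV.desc tx ty hxy
    have ht1 : a'.resLE V (a' ⁻¹ᵁ V) le_rfl ≫ t = tx := hPV.inl_desc _ _ _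
    have ht2 : b'.resLE V (b' ⁻¹ᵁ V) le_rfl ≫ t = ty := hPV.inr_desc _ _ _
    refine ⟨(Scheme.ΓSpecIso s.pt).inv ≫ t.appTop ≫ V.topIso.hom, ?_, ?_⟩
    · have h1 := congrArg Scheme.Hom.appTop ht1
      rw [Scheme.Hom.comp_appTop] at h1
      simp only [tx] at h1
      rw [Scheme.Hom.comp_appTop, Scheme.Opens.toSpecΓ_appTop] at h1
      have h2 : (a'.resLE V (a' ⁻¹ᵁ V) le_rfl).appTop =
          V.topIso.hom ≫ a'.appLE V (a' ⁻¹ᵁ V) le_rfl ≫ (a' ⁻¹ᵁ V).topIso.inv :=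
        Scheme.Hom.resLE_app_top _ _
      rw [h2] at h1
      have h3 := Scheme.ΓSpecIso_naturality s.fst
      rw [← cancel_mono (a' ⁻¹ᵁ V).topIso.inv, Scheme.Hom.app_eq_appLE]
      simp only [Category.assoc]
      rw [h1, ← Category.assoc, ← Category.assoc, Category.assoc _ _ (Scheme.ΓSpecIso _).hom, h3,
        Iso.inv_hom_id_assoc]
    · have h1 := congrArg Scheme.Hom.appTop ht2
      rw [Scheme.Hom.comp_appTop] at h1
      simp only [ty] at h1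
      rw [Scheme.Hom.comp_appTop, Scheme.Opens.toSpecΓ_appTop] at h1
      have h2 : (b'.resLE V (b' ⁻¹ᵁ V) le_rfl).appTop =
          V.topIso.hom ≫ b'.appLE V (b' ⁻¹ᵁ V) le_rfl ≫ (b' ⁻¹ᵁ V).topIso.inv :=
        Scheme.Hom.resLE_app_top _ _
      rw [h2] at h1
      have h3 := Scheme.ΓSpecIso_naturality s.snd
      rw [← cancel_mono (b' ⁻¹ᵁ V).topIso.inv, Scheme.Hom.app_eq_appLE]
      simp only [Category.assoc]
      rw [h1, ← Category.assoc, ← Category.assoc, Category.assoc _ _ (Scheme.ΓSpecIso _).hom, h3,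
        Iso.inv_hom_id_assoc]
  refine ⟨⟨hw⟩, ⟨PullbackCone.IsLimit.mk _ (fun s => (key s).choose)
    (fun s => (key s).choose_spec.1) (fun s => (key s).choose_spec.2) ?_⟩⟩
  intro s m h1 h2
  ext d
  have e1 : a'.app V (m d - (key s).choose d) = 0 := by
    rw [map_sub, sub_eq_zero, ← CommRingCat.comp_apply, ← CommRingCat.comp_apply, h1,
      (key s).choose_spec.1]
  have e2 : b'.app V (m d - (key s).choose d) = 0 := by
    rw [map_sub, sub_eq_zero, ← CommRingCat.comp_apply, ← CommRingCat.comp_apply, h2,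
      (key s).choose_spec.2]
  exact sub_eq_zero.mp (eq_zero_of_app_eq_zero hc hP V _ e1 e2)

end Groth.Agent.Lib.Helper1.FP
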