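import Groth.Agent.Lib.Helper1.FE3
import Groth.Agent.Lib.Helper1.FP1

/-!
# Base change of Ferrand pushouts along arbitrary morphisms (helper1), part 1: ring lemmas

For a morphism of fibre squares of rings `R = A ×_C B → R' = A' ×_{C'} B'` with
`C' = A' ⊗_A C = B' ⊗_B C` and `A → C` surjective: `A' = R' ⊗_R A`, `B' = R' ⊗_R B`
(no flatness needed), and `R → R'` is of finite type / quasi-finite if `A → A'`, `B → B'` are.
-/

set_option autoImplicit false
set_option linter.style.haveILetI false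
set_option linter.unusedSectionVars false
set_option linter.unusedVariables false
universe u

noncomputable section

namespace Groth.Agent.Lib.Helper1.FQ

open CategoryTheory CategoryTheory.Limits TensorProduct

/-- pushout along a surjection -/
theorem isPushout_of_surjective {R R' B B' : Type u} [CommRing R] [CommRing R'] [CommRing B]
    [CommRing B'] (ρ : R →+* R') (f : R →+* B) (f' : R' →+* B') (u : B →+* B')
    (hcomm : ∀ r, f' (ρ r) = u (f r)) (hf : Function.Surjective f) (hf' : Function.Surjective f')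
    (hker : RingHom.ker f' ≤ (RingHom.ker f).map ρ) :
    IsPushout (CommRingCat.ofHom ρ) (CommRingCat.ofHom f) (CommRingCat.ofHom f')
      (CommRingCat.ofHom u) := by
  have hw : CommRingCat.ofHom ρ ≫ CommRingCat.ofHom f' =
      CommRingCat.ofHom f ≫ CommRingCat.ofHom u := by
    ext r; exact hcomm r
  have hcond : ∀ (s : PushoutCocone (CommRingCat.ofHom ρ) (CommRingCat.ofHom f)) (k : R),
      s.inl.hom (ρ k) = s.inr.hom (f k) := fun s k =>
    congrArg (fun g => g.hom k) s.condition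
  have hle : ∀ (s : PushoutCocone (CommRingCat.ofHom ρ) (CommRingCat.ofHom f)),
      RingHom.ker f' ≤ RingHom.ker s.inl.hom := by
    intro s
    refine hker.trans ?_
    rw [Ideal.map_le_iff_le_comap]
    intro k hk
    rw [Ideal.mem_comap, RingHom.mem_ker, hcond s k, (RingHom.mem_ker).mp hk, map_zero]
  refine ⟨⟨hw⟩, ⟨PushoutCocone.IsColimit.mk _
    (fun s => CommRingCat.ofHom (f'.liftOfSurjective hf' ⟨s.inl.hom, hle s⟩)) ?_ ?_ ?_⟩⟩
  · intro s
    ext x
    exact f'.liftOfSurjective_comp_apply hf' ⟨s.inl.hom, hle s⟩ x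
  · intro s
    ext b
    obtain ⟨r, rfl⟩ := hf b
    change (f'.liftOfSurjective hf' ⟨s.inl.hom, hle s⟩) (u (f r)) = s.inr.hom (f r)
    rw [← hcomm, f'.liftOfSurjective_comp_apply hf' ⟨s.inl.hom, hle s⟩]
    exact hcond s r
  · intro s m h1 h2
    ext b'
    obtain ⟨r', rfl⟩ := hf' b'
    change m.hom (f' r') = (f'.liftOfSurjective hf' ⟨s.inl.hom, hle s⟩) (f' r')
    rw [f'.liftOfSurjective_comp_apply hf' ⟨s.inl.hom, hle s⟩]
    exact congrArg (fun g => g.hom r') h1

/-- a morphism of fibre squares of rings which is cocartesian over `C` -/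
structure Sq {R A B C R' A' B' C' : Type u} [CommRing R] [CommRing A] [CommRing B] [CommRing C]
    [CommRing R'] [CommRing A'] [CommRing B'] [CommRing C']
    (f₁ : R →+* A) (f₂ : R →+* B) (φ : A →+* C) (ψ : B →+* C)
    (f₁' : R' →+* A') (f₂' : R' →+* B') (φ' : A' →+* C') (ψ' : B' →+* C')
    (ρ : R →+* R') (uA : A →+* A') (uB : B →+* B') (uC : C →+* C') : Prop where
  hf : ∀ r, φ (f₁ r) = ψ (f₂ r)
  hex : ∀ a b, φ a = ψ b → ∃ r, f₁ r = a ∧ f₂ r = b
  hinj : ∀ r, f₁ r = 0 → f₂ r = 0 → r = 0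
  hf' : ∀ r, φ' (f₁' r) = ψ' (f₂' r)
  hex' : ∀ a b, φ' a = ψ' b → ∃ r, f₁' r = a ∧ f₂' r = b
  hinj' : ∀ r, f₁' r = 0 → f₂' r = 0 → r = 0
  h1 : ∀ r, f₁' (ρ r) = uA (f₁ r)
  h2 : ∀ r, f₂' (ρ r) = uB (f₂ r)
  h3 : ∀ a, φ' (uA a) = uC (φ a)
  h4 : ∀ b, ψ' (uB b) = uC (ψ b)
  hφ : Function.Surjective φ
  hpoA : IsPushout (CommRingCat.ofHom uA) (CommRingCat.ofHom φ) (CommRingCat.ofHom φ')
    (CommRingCat.ofHom uC)
  hpoB : IsPushout (CommRingCat.ofHom uB) (CommRingCat.ofHom ψ) (CommRingCat.ofHom ψ')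
    (CommRingCat.ofHom uC)

namespace Sq

variable {R A B C R' A' B' C' : Type u} [CommRing R] [CommRing A] [CommRing B] [CommRing C]
  [CommRing R'] [CommRing A'] [CommRing B'] [CommRing C']
  {f₁ : R →+* A} {f₂ : R →+* B} {φ : A →+* C} {ψ : B →+* C}
  {f₁' : R' →+* A'} {f₂' : R' →+* B'} {φ' : A' →+* C'} {ψ' : B' →+* C'}
  {ρ : R →+* R'} {uA : A →+* A'} {uB : B →+* B'} {uC : C →+* C'}
  (S : Sq f₁ f₂ φ ψ f₁' f₂' φ' ψ' ρ uA uB uC)

include S

lemma f₂_surjective : Function.Surjective f₂ := by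
  intro b
  obtain ⟨a, ha⟩ := S.hφ (ψ b)
  obtain ⟨r, -, hr⟩ := S.hex a b ha
  exact ⟨r, hr⟩

lemma φ'_surjective : Function.Surjective φ' := by
  letI : Algebra A A' := uA.toAlgebra
  letI : Algebra A C := φ.toAlgebra
  letI : Algebra A' C' := φ'.toAlgebra
  letI : Algebra C C' := uC.toAlgebra
  letI : Algebra A C' := (uC.comp φ).toAlgebra
  haveI : IsScalarTower A C C' := .of_algebraMap_eq' rfl
  haveI : IsScalarTower A A' C' := .of_algebraMap_eq' (RingHom.ext fun a => (S.h3 a).symm)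
  have h1 : Algebra.IsPushout A A' C C' := CommRingCat.isPushout_iff_isPushout.mp S.hpoA
  intro c'
  refine h1.out.inductionOn c' (fun c' => ∃ a', φ' a' = c') ⟨0, map_zero _⟩ ?_ ?_ ?_
  · intro c
    obtain ⟨a, rfl⟩ := S.hφ c
    exact ⟨uA a, S.h3 a⟩
  · rintro a' n ⟨x, rfl⟩
    exact ⟨a' * x, by rw [map_mul]; rfl⟩
  · rintro n₁ n₂ ⟨x, rfl⟩ ⟨y, rfl⟩
    exact ⟨x + y, map_add _ _ _⟩

lemma f₂'_surjective : Function.Surjective f₂' := by
  intro b'
  obtain ⟨a', ha'⟩ := S.φ'_surjective (ψ' b')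
  obtain ⟨r', -, hr'⟩ := S.hex' a' b' ha'
  exact ⟨r', hr'⟩

/-- induction principle: `A'` is spanned over `A` by the image of `R'` -/
lemma induction_top (P : A' → Prop) (hmem : ∀ s, P (f₁' s)) (h0 : P 0)
    (hadd : ∀ x y, P x → P y → P (x + y)) (hsmul : ∀ a x, P x → P (uA a * x)) :
    ∀ a', P a' := by
  letI : Algebra B B' := uB.toAlgebra
  letI : Algebra B C := ψ.toAlgebra
  letI : Algebra B' C' := ψ'.toAlgebra
  letI : Algebra C C' := uC.toAlgebra
  letI : Algebra B C' := (uC.comp ψ).toAlgebra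
  haveI : IsScalarTower B C C' := .of_algebraMap_eq' rfl
  haveI : IsScalarTower B B' C' := .of_algebraMap_eq' (RingHom.ext fun b => (S.h4 b).symm)
  have h1 : Algebra.IsPushout B B' C C' := CommRingCat.isPushout_iff_isPushout.mp S.hpoB
  have h2 : Algebra.IsPushout B C B' C' := h1.symm
  have key : ∀ c' : C', ∃ s', P s' ∧ φ' s' = c' := by
    intro c'
    refine h2.out.inductionOn c' (fun c' => ∃ s', P s' ∧ φ' s' = c') ⟨0, h0, map_zero _⟩ ?_ ?_ ?_
    · intro b'
      obtain ⟨a'', ha''⟩ := S.φ'_surjective (ψ' b')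
      obtain ⟨r', hr1, hr2⟩ := S.hex' a'' b' ha''
      exact ⟨f₁' r', hmem r', by rw [hr1]; exact ha''⟩
    · rintro c n ⟨s', hs', rfl⟩
      obtain ⟨a, rfl⟩ := S.hφ c
      refine ⟨uA a * s', hsmul a s' hs', ?_⟩
      rw [map_mul, S.h3]; rfl
    · rintro n₁ n₂ ⟨x, hx, rfl⟩ ⟨y, hy, rfl⟩
      exact ⟨x + y, hadd x y hx hy, map_add _ _ _⟩
  intro a'
  obtain ⟨s', hs', hs'2⟩ := key (φ' a')
  have hd : φ' (a' - s') = ψ' 0 := by rw [map_sub, hs'2, sub_self, map_zero]
  obtain ⟨r', hr1, -⟩ := S.hex' (a' - s') 0 hd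
  have : a' = s' + f₁' r' := by rw [hr1]; ring
  rw [this]
  exact hadd _ _ hs' (hmem r')

/-- the kernel of `A' → C'` is generated by the kernel of `R → B`, inside any subring `R₁` of `R'`
whose image spans `A'` -/
lemma lemmaK (R₁ : Subring R') (hρ : ∀ r, ρ r ∈ R₁)
    (hind : ∀ (P : A' → Prop), (∀ s ∈ R₁, P (f₁' s)) → P 0 → (∀ x y, P x → P y → P (x + y)) →
      (∀ a x, P x → P (uA a * x)) → ∀ a', P a')
    (x : A') (hx : φ' x = 0) :
    ∃ r' : R', r' ∈ R₁ ∧ r' ∈ (RingHom.ker f₂).map ρ ∧ f₁' r' = x ∧ f₂' r' = 0 := by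
  have claim1 : ∀ a' : A', ∀ a : A, φ a = 0 →
      ∃ r' : R', r' ∈ R₁ ∧ r' ∈ (RingHom.ker f₂).map ρ ∧ f₁' r' = uA a * a' ∧ f₂' r' = 0 := by
    refine hind _ ?_ ?_ ?_ ?_
    · intro s hs a ha
      obtain ⟨k, hk1, hk2⟩ := S.hex a 0 (by rw [ha, map_zero])
      refine ⟨ρ k * s, R₁.mul_mem (hρ k) hs,
        Ideal.mul_mem_right _ _ (Ideal.mem_map_of_mem ρ ((RingHom.mem_ker).mpr hk2)), ?_, ?_⟩
      · rw [map_mul, S.h1, hk1]
      · rw [map_mul, S.h2, hk2, map_zero, zero_mul]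
    · intro a ha
      exact ⟨0, R₁.zero_mem, Ideal.zero_mem _, by rw [map_zero, mul_zero], map_zero _⟩
    · intro x y hx hy a ha
      obtain ⟨r₁, h11, h12, h13, h14⟩ := hx a ha
      obtain ⟨r₂, h21, h22, h23, h24⟩ := hy a ha
      exact ⟨r₁ + r₂, R₁.add_mem h11 h21, Ideal.add_mem _ h12 h22,
        by rw [map_add, h13, h23, mul_add], by rw [map_add, h14, h24, add_zero]⟩
    · intro a₂ x hx a ha
      obtain ⟨r₁, h11, h12, h13, h14⟩ := hx (a * a₂) (by rw [map_mul, ha, zero_mul])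
      exact ⟨r₁, h11, h12, by rw [h13, map_mul]; ring, h14⟩
  have hx' : x ∈ (RingHom.ker φ).map uA := by
    rw [← FE.ker_eq_map_of_isPushout uA φ φ' uC S.hpoA S.hφ]
    exact (RingHom.mem_ker).mpr hx
  clear hx
  have main : ∀ a'₂ : A', ∃ r' : R', r' ∈ R₁ ∧ r' ∈ (RingHom.ker f₂).map ρ ∧
      f₁' r' = a'₂ * x ∧ f₂' r' = 0 := by
    change x ∈ Submodule.span A' (uA '' (RingHom.ker φ : Set A)) at hx'
    induction hx' using Submodule.span_induction with
    | mem y hy =>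
      obtain ⟨a, ha, rfl⟩ := hy
      intro a'₂
      obtain ⟨r', h1, h2, h3, h4⟩ := claim1 a'₂ a ((RingHom.mem_ker).mp ha)
      exact ⟨r', h1, h2, by rw [h3, mul_comm], h4⟩
    | zero =>
      intro a'₂
      exact ⟨0, R₁.zero_mem, Ideal.zero_mem _, by rw [map_zero, mul_zero], map_zero _⟩
    | add y z _ _ hy hz =>
      intro a'₂
      obtain ⟨r₁, h11, h12, h13, h14⟩ := hy a'₂
      obtain ⟨r₂, h21, h22, h23, h24⟩ := hz a'₂
      exact ⟨r₁ + r₂, R₁.add_mem h11 h21, Ideal.add_mem _ h12 h22,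
        by rw [map_add, h13, h23, mul_add], by rw [map_add, h14, h24, add_zero]⟩
    | smul a'₃ y _ hy =>
      intro a'₂
      obtain ⟨r₁, h11, h12, h13, h14⟩ := hy (a'₂ * a'₃)
      exact ⟨r₁, h11, h12, by rw [h13, smul_eq_mul, mul_assoc], h14⟩
  obtain ⟨r', h1, h2, h3, h4⟩ := main 1
  exact ⟨r', h1, h2, by rw [h3, one_mul], h4⟩

/-- `B' = R' ⊗_R B` -/
theorem isPushout_snd :
    IsPushout (CommRingCat.ofHom ρ) (CommRingCat.ofHom f₂) (CommRingCat.ofHom f₂')
      (CommRingCat.ofHom uB) := by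
  refine isPushout_of_surjective ρ f₂ f₂' uB S.h2 S.f₂_surjective S.f₂'_surjective ?_
  intro r' hr'
  have hr'' : f₂' r' = 0 := (RingHom.mem_ker).mp hr'
  have hx : φ' (f₁' r') = 0 := by rw [S.hf', hr'', map_zero]
  obtain ⟨r'', -, h2, h3, h4⟩ := S.lemmaK ⊤ (fun _ => Subring.mem_top _)
    (fun P hmem h0 hadd hsmul =>
      S.induction_top P (fun s => hmem s (Subring.mem_top _)) h0 hadd hsmul)
    (f₁' r') hx
  have : r' = r'' := by
    have := S.hinj' (r' - r'') (by rw [map_sub, h3, sub_self])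
      (by rw [map_sub, h4, hr'', sub_self])
    exact sub_eq_zero.mp this
  rw [this]; exact h2

/-- `A' = R' ⊗_R A` -/
theorem isPushout_fst :
    IsPushout (CommRingCat.ofHom ρ) (CommRingCat.ofHom f₁) (CommRingCat.ofHom f₁')
      (CommRingCat.ofHom uA) := by
  have hB := S.isPushout_snd
  have hC : IsPushout (CommRingCat.ofHom ρ) (CommRingCat.ofHom (ψ.comp f₂))
      (CommRingCat.ofHom (ψ'.comp f₂')) (CommRingCat.ofHom uC) := hB.paste_vert S.hpoB
  letI : Algebra R A := f₁.toAlgebra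
  letI : Algebra R R' := ρ.toAlgebra
  letI : Algebra A A' := uA.toAlgebra
  letI : Algebra R' A' := f₁'.toAlgebra
  letI : Algebra R A' := (uA.comp f₁).toAlgebra
  haveI : IsScalarTower R A A' := .of_algebraMap_eq' rfl
  haveI : IsScalarTower R R' A' := .of_algebraMap_eq' (RingHom.ext fun r => (S.h1 r).symm)
  letI : Algebra R C := (ψ.comp f₂).toAlgebra
  letI : Algebra R' C' := (ψ'.comp f₂').toAlgebra
  letI : Algebra C C' := uC.toAlgebra
  letI : Algebra R C' := (uC.comp (ψ.comp f₂)).toAlgebra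
  haveI : IsScalarTower R C C' := .of_algebraMap_eq' rfl
  haveI : IsScalarTower R R' C' := .of_algebraMap_eq' (RingHom.ext fun r => by
    change uC (ψ (f₂ r)) = ψ' (f₂' (ρ r))
    rw [S.h2, S.h4])
  have hCalg : Algebra.IsPushout R R' C C' := CommRingCat.isPushout_iff_isPushout.mp hC
  have hCalg' : Algebra.IsPushout R C R' C' := hCalg.symm
  let εC : C ⊗[R] R' ≃ₗ[C] C' := hCalg'.out.equiv
  have hεC : ∀ c s, εC (c ⊗ₜ s) = uC c * ψ' (f₂' s) := fun c s => hCalg'.out.equiv_tmul c s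
  let φL : A →ₗ[R] C :=
    { toFun := φ
      map_add' := map_add φ
      map_smul' := fun r a => by
        change φ (f₁ r * a) = ψ (f₂ r) * φ a
        rw [map_mul, S.hf] }
  have hφL : Function.Surjective φL := S.hφ
  let g : R' →ₗ[R] A' := (IsScalarTower.toAlgHom R R' A').toLinearMap
  let μ : A ⊗[R] R' →ₗ[A] A' := g.liftBaseChange A
  have hμ : ∀ a s, μ (a ⊗ₜ s) = uA a * f₁' s := fun a s => by
    simp only [μ, LinearMap.liftBaseChange_tmul]; rfl
  have hsurj : Function.Surjective μ := by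
    intro a'
    refine S.induction_top (fun a' => ∃ t, μ t = a') ?_ ⟨0, map_zero _⟩ ?_ ?_ a'
    · intro s; exact ⟨1 ⊗ₜ s, by rw [hμ, map_one, one_mul]⟩
    · rintro x y ⟨t₁, rfl⟩ ⟨t₂, rfl⟩; exact ⟨t₁ + t₂, map_add _ _ _⟩
    · rintro a x ⟨t, rfl⟩; exact ⟨a • t, by rw [map_smul]; rfl⟩
  have hcompat : ∀ ξ : A ⊗[R] R', εC (LinearMap.rTensor R' φL ξ) = φ' (μ ξ) := by
    intro ξ
    induction ξ using TensorProduct.induction_on with
    | zero => simp
    | tmul a s =>
      rw [LinearMap.rTensor_tmul, hμ, map_mul, S.h3, S.hf']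
      exact hεC (φ a) s
    | add x y hx hy => simp only [map_add, hx, hy]
  have hstep3 : ∀ ζ : (LinearMap.ker φL) ⊗[R] R', ∃ r' : R',
      LinearMap.rTensor R' (LinearMap.ker φL).subtype ζ = 1 ⊗ₜ r' ∧ f₂' r' = 0 := by
    intro ζ
    induction ζ using TensorProduct.induction_on with
    | zero => exact ⟨0, by rw [map_zero, TensorProduct.tmul_zero], map_zero _⟩
    | tmul x s =>
      have hx : φ x.1 = 0 := LinearMap.mem_ker.mp x.2
      obtain ⟨k, hk1, hk2⟩ := S.hex x.1 0 (by rw [hx, map_zero])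
      refine ⟨ρ k * s, ?_, by rw [map_mul, S.h2, hk2, map_zero, zero_mul]⟩
      rw [LinearMap.rTensor_tmul, Submodule.subtype_apply, ← hk1]
      have e1 : f₁ k = k • (1 : A) := by rw [Algebra.smul_def, mul_one]; rfl
      have e2 : ρ k * s = k • s := by rw [Algebra.smul_def]; rfl
      rw [e1, e2, TensorProduct.smul_tmul]
    | add x y hx hy =>
      obtain ⟨r₁, h11, h12⟩ := hx
      obtain ⟨r₂, h21, h22⟩ := hy
      exact ⟨r₁ + r₂, by rw [map_add, h11, h21, TensorProduct.tmul_add],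
        by rw [map_add, h12, h22, add_zero]⟩
  have hinj : Function.Injective μ := by
    rw [injective_iff_map_eq_zero]
    intro ξ hξ
    have h1 : LinearMap.rTensor R' φL ξ = 0 := by
      apply εC.injective
      rw [hcompat, hξ, map_zero, map_zero]
    have hex := rTensor_exact R' (LinearMap.exact_subtype_ker_map φL) hφL
    obtain ⟨ζ, rfl⟩ := (hex ξ).mp h1
    obtain ⟨r', hr1, hr2⟩ := hstep3 ζ
    rw [hr1] at hξ ⊢
    have h3 : f₁' r' = 0 := by rw [hμ, map_one, one_mul] at hξ; exact hξ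
    rw [S.hinj' r' h3 hr2, TensorProduct.tmul_zero]
  have hbc : IsBaseChange A g :=
    IsBaseChange.of_equiv (LinearEquiv.ofBijective μ ⟨hinj, hsurj⟩) (fun x => by
      change μ (1 ⊗ₜ x) = g x
      rw [hμ, map_one, one_mul]; rfl)
  haveI : Algebra.IsPushout R A R' A' := ⟨hbc⟩
  haveI : Algebra.IsPushout R R' A A' := Algebra.IsPushout.symm inferInstance
  exact CommRingCat.isPushout_iff_isPushout.mpr inferInstance

/-- `R → R'` is of finite type if `A → A'` and `B → B'` are -/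
theorem finiteType (hA : uA.FiniteType) (hB : uB.FiniteType) : ρ.FiniteType := by
  classical
  letI : Algebra R R' := ρ.toAlgebra
  letI : Algebra A A' := uA.toAlgebra
  letI : Algebra B B' := uB.toAlgebra
  obtain ⟨sA, hsA⟩ := (show Algebra.FiniteType A A' from hA).out
  obtain ⟨sB, hsB⟩ := (show Algebra.FiniteType B B' from hB).out
  have hspanfin : ∀ a' : A', ∃ t : Finset R', a' ∈ Submodule.span A (f₁' '' (t : Set R')) := by
    refine S.induction_top _ ?_ ?_ ?_ ?_
    · intro s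
      exact ⟨{s}, Submodule.subset_span ⟨s, by simp, rfl⟩⟩
    · exact ⟨∅, Submodule.zero_mem _⟩
    · rintro x y ⟨t₁, h₁⟩ ⟨t₂, h₂⟩
      refine ⟨t₁ ∪ t₂, Submodule.add_mem _ ?_ ?_⟩
      · exact Submodule.span_mono (Set.image_mono (by simp)) h₁
      · exact Submodule.span_mono (Set.image_mono (by simp)) h₂
    · rintro a x ⟨t, ht⟩
      refine ⟨t, ?_⟩
      have : uA a * x = a • x := by rw [Algebra.smul_def]; rfl
      rw [this]
      exact Submodule.smul_mem _ a ht
  choose tA htA using hspanfin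
  choose gB hgB using S.f₂'_surjective
  let T : Finset R' := sA.biUnion tA ∪ sB.image gB
  let R₁ : Subalgebra R R' := Algebra.adjoin R (T : Set R')
  have hρ : ∀ r, ρ r ∈ R₁.toSubring := fun r => R₁.algebraMap_mem r
  have hi : ∀ b' : B', ∃ r₁ ∈ R₁, f₂' r₁ = b' := by
    intro b'
    have hb' : b' ∈ Algebra.adjoin B (sB : Set B') := by rw [hsB]; exact Algebra.mem_top
    induction hb' using Algebra.adjoin_induction with
    | mem y hy =>
      exact ⟨gB y, Algebra.subset_adjoin (by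
        simp only [T, Finset.coe_union, Finset.coe_image]
        exact Or.inr ⟨y, hy, rfl⟩), hgB y⟩
    | algebraMap b =>
      obtain ⟨r, rfl⟩ := S.f₂_surjective b
      exact ⟨ρ r, R₁.algebraMap_mem r, S.h2 r⟩
    | add x y _ _ hx hy =>
      obtain ⟨r₁, h1, rfl⟩ := hx
      obtain ⟨r₂, h2, rfl⟩ := hy
      exact ⟨r₁ + r₂, R₁.add_mem h1 h2, map_add _ _ _⟩
    | mul x y _ _ hx hy =>
      obtain ⟨r₁, h1, rfl⟩ := hx
      obtain ⟨r₂, h2, rfl⟩ := hy
      exact ⟨r₁ * r₂, R₁.mul_mem h1 h2, map_mul _ _ _⟩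
  let M₁ : Submodule A A' := Submodule.span A (f₁' '' (R₁ : Set R'))
  have hmul : M₁ * M₁ ≤ M₁ := by
    rw [Submodule.span_mul_span]
    refine Submodule.span_mono ?_
    rintro _ ⟨_, ⟨s, hs, rfl⟩, _, ⟨t, ht, rfl⟩, rfl⟩
    exact ⟨s * t, R₁.mul_mem hs ht, map_mul _ _ _⟩
  have hM₁ : ∀ a' : A', a' ∈ M₁ := by
    intro a'
    have ha' : a' ∈ Algebra.adjoin A (sA : Set A') := by rw [hsA]; exact Algebra.mem_top
    induction ha' using Algebra.adjoin_induction with
    | mem x hx =>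
      refine Submodule.span_mono (Set.image_mono ?_) (htA x)
      intro s hs
      exact Algebra.subset_adjoin (by
        simp only [T, Finset.coe_union, Finset.coe_biUnion]
        exact Or.inl (Set.mem_iUnion₂.mpr ⟨x, hx, hs⟩))
    | algebraMap a =>
      have : algebraMap A A' a = a • f₁' 1 := by rw [Algebra.smul_def, map_one, mul_one]
      rw [this]
      exact Submodule.smul_mem _ a (Submodule.subset_span ⟨1, R₁.one_mem, rfl⟩)
    | add x y _ _ hx hy => exact Submodule.add_mem _ hx hy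
    | mul x y _ _ hx hy => exact hmul (Submodule.mul_mem_mul hx hy)
  have hind : ∀ (P : A' → Prop), (∀ s ∈ R₁.toSubring, P (f₁' s)) → P 0 →
      (∀ x y, P x → P y → P (x + y)) → (∀ a x, P x → P (uA a * x)) → ∀ a', P a' := by
    intro P hmem h0 hadd hsmul a'
    have ha' := hM₁ a'
    induction ha' using Submodule.span_induction with
    | mem x hx => obtain ⟨s, hs, rfl⟩ := hx; exact hmem s hs
    | zero => exact h0
    | add x y _ _ hx hy => exact hadd x y hx hy
    | smul a x _ hx =>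
      have : a • x = uA a * x := by rw [Algebra.smul_def]; rfl
      rw [this]; exact hsmul a x hx
  refine ⟨⟨T, eq_top_iff.mpr fun r' _ => ?_⟩⟩
  obtain ⟨r₁, hr₁, hr₁'⟩ := hi (f₂' r')
  have hd2 : f₂' (r' - r₁) = 0 := by rw [map_sub, hr₁', sub_self]
  have hx : φ' (f₁' (r' - r₁)) = 0 := by rw [S.hf', hd2, map_zero]
  obtain ⟨r'', h1, -, h3, h4⟩ := S.lemmaK R₁.toSubring hρ hind _ hx
  have e1 : r' - r₁ = r'' := by
    have := S.hinj' (r' - r₁ - r'') (by rw [map_sub, h3, sub_self])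
      (by rw [map_sub, h4, hd2, sub_self])
    exact sub_eq_zero.mp this
  have e2 : r' = r₁ + r'' := by rw [← e1]; ring
  rw [e2]
  exact R₁.add_mem hr₁ h1

/-- primes of `R` come from `A` or from `B` -/
lemma exists_comap_eq (P : Ideal R) [P.IsPrime] :
    (∃ q : Ideal A, q.IsPrime ∧ q.comap f₁ = P) ∨ (∃ q : Ideal B, q.IsPrime ∧ q.comap f₂ = P) := by
  let g : R →+* FP.FibProd φ ψ := FP.FibProd.lift f₁ f₂ (RingHom.ext S.hf)
  have hg : Function.Bijective g := by
    constructor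
    · rw [injective_iff_map_eq_zero]
      intro r hr
      refine S.hinj r ?_ ?_
      · have := congrArg (FP.FibProd.fst φ ψ) hr
        simpa [g] using this
      · have := congrArg (FP.FibProd.snd φ ψ) hr
        simpa [g] using this
    · intro x
      obtain ⟨r, h1, h2⟩ := S.hex _ _ (FP.FibProd.condition_apply x)
      exact ⟨r, FP.FibProd.ext' h1 h2⟩
  let e := RingEquiv.ofBijective g hg
  have he : ∀ r, e.symm (g r) = r := fun r => e.symm_apply_apply r
  haveI : (P.comap (e.symm : FP.FibProd φ ψ →+* R)).IsPrime := Ideal.comap_isPrime _ _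
  obtain ⟨q, hq, hqP⟩ | ⟨q, hq, hqP⟩ := FP.FibProd.exists_comap_eq (ψ := ψ) S.hφ
    (P.comap (e.symm : FP.FibProd φ ψ →+* R))
  · left
    refine ⟨q, hq, ?_⟩
    ext r
    have h1 : r ∈ q.comap f₁ ↔ g r ∈ q.comap (FP.FibProd.fst φ ψ) := Iff.rfl
    rw [h1, hqP, Ideal.mem_comap]
    change e.symm (g r) ∈ P ↔ _
    rw [he]
  · right
    refine ⟨q, hq, ?_⟩
    ext r
    have h1 : r ∈ q.comap f₂ ↔ g r ∈ q.comap (FP.FibProd.snd φ ψ) := Iff.rfl
    rw [h1, hqP, Ideal.mem_comap]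
    change e.symm (g r) ∈ P ↔ _
    rw [he]

/-- `R → R'` is quasi-finite if it is of finite type and `A → A'`, `B → B'` are quasi-finite -/
theorem quasiFinite (hft : ρ.FiniteType) (hA : uA.QuasiFinite) (hB : uB.QuasiFinite) :
    ρ.QuasiFinite := by
  letI : Algebra R R' := ρ.toAlgebra
  letI : Algebra A A' := uA.toAlgebra
  letI : Algebra B B' := uB.toAlgebra
  haveI : Algebra.FiniteType R R' := hft
  haveI : Algebra.QuasiFinite A A' := hA
  haveI : Algebra.QuasiFinite B B' := hB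
  change Algebra.QuasiFinite R R'
  rw [Algebra.QuasiFinite.iff_finite_comap_preimage_singleton]
  intro P
  haveI := P.isPrime
  have hpbA := AlgebraicGeometry.isPullback_SpecMap_of_isPushout _ _ _ _ S.isPushout_fst
  have hpbB := AlgebraicGeometry.isPullback_SpecMap_of_isPushout _ _ _ _ S.isPushout_snd
  obtain ⟨q, hq, hqP⟩ | ⟨q, hq, hqP⟩ := S.exists_comap_eq P.asIdeal
  · let Q : PrimeSpectrum A := ⟨q, hq⟩
    have hfin := Algebra.QuasiFinite.finite_comap_preimage_singleton (R := A) (S := A') Q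
    refine (hfin.image (PrimeSpectrum.comap f₁')).subset ?_
    intro P' hP'
    have hP'' : PrimeSpectrum.comap ρ P' = P := hP'
    obtain ⟨z, hz1, hz2⟩ := AlgebraicGeometry.Scheme.exists_preimage_of_isPullback hpbA
      (P' : PrimeSpectrum R') (Q : PrimeSpectrum A) (by
        change PrimeSpectrum.comap ρ P' = PrimeSpectrum.comap f₁ Q
        rw [hP'']; exact PrimeSpectrum.ext hqP.symm)
    exact ⟨z, hz2, hz1⟩
  · let Q : PrimeSpectrum B := ⟨q, hq⟩
    have hfin := Algebra.QuasiFinite.finite_comap_preimage_singleton (R := B) (S := B') Q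
    refine (hfin.image (PrimeSpectrum.comap f₂')).subset ?_
    intro P' hP'
    have hP'' : PrimeSpectrum.comap ρ P' = P := hP'
    obtain ⟨z, hz1, hz2⟩ := AlgebraicGeometry.Scheme.exists_preimage_of_isPullback hpbB
      (P' : PrimeSpectrum R') (Q : PrimeSpectrum B) (by
        change PrimeSpectrum.comap ρ P' = PrimeSpectrum.comap f₂ Q
        rw [hP'']; exact PrimeSpectrum.ext hqP.symm)
    exact ⟨z, hz2, hz1⟩

end Sq

end Groth.Agent.Lib.Helper1.FQ
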