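import Groth.Agent.Lib.Helper1.FQ1
import Groth.Agent.Lib.Helper1.FE7
import Groth.Agent.Lib.Helper1.FP19

/-!
# Base change of Ferrand pushouts along arbitrary morphisms (helper1), part 2: adapted pairs of
charts and the glued morphism `P qU qV ⟶ P i j`
-/

set_option autoImplicit false
set_option linter.unusedSectionVars false
set_option linter.unusedVariables false
set_option linter.style.haveILetI false
universe u

noncomputable section

namespace Groth.Agent.Lib.Helper1.FP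

open AlgebraicGeometry CategoryTheory CategoryTheory.Limits TopologicalSpace Opposite

open Chart

namespace BCh

variable {X Y Z U₀ V₀ Q : Scheme.{u}} {i : Z ⟶ X} {j : Z ⟶ Y} [IsClosedImmersion i]
  {πU : U₀ ⟶ X} {πV : V₀ ⟶ Y} {qU : Q ⟶ U₀} {qV : Q ⟶ V₀} {qZ : Q ⟶ Z}
  [IsClosedImmersion qU]
  (hX : IsPullback qU qZ πU i) (hY : IsPullback qV qZ πV j)

include hX hY in
lemma preimage_comm (α : Chart i j) : qU ⁻¹ᵁ (πU ⁻¹ᵁ α.U) = qV ⁻¹ᵁ (πV ⁻¹ᵁ α.V) := by
  change (qU ≫ πU) ⁻¹ᵁ α.U = (qV ≫ πV) ⁻¹ᵁ α.V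
  rw [hX.w, hY.w]
  change qZ ⁻¹ᵁ (i ⁻¹ᵁ α.U) = qZ ⁻¹ᵁ (j ⁻¹ᵁ α.V)
  rw [α.h]

/-- a chart upstairs lying over a chart downstairs -/
structure Adapted (πU : U₀ ⟶ X) (πV : V₀ ⟶ Y) (α' : Chart qU qV) (α : Chart i j) : Prop where
  hU : α'.U ≤ πU ⁻¹ᵁ α.U
  hV : α'.V ≤ πV ⁻¹ᵁ α.V

variable {α' : Chart qU qV} {α : Chart i j}

include hX in
lemma Adapted.hW (had : Adapted πU πV α' α) : α'.W ≤ qZ ⁻¹ᵁ α.W := by
  have h2 : qU ⁻¹ᵁ (πU ⁻¹ᵁ α.U) = qZ ⁻¹ᵁ (i ⁻¹ᵁ α.U) := by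
    change (qU ≫ πU) ⁻¹ᵁ α.U = (qZ ≫ i) ⁻¹ᵁ α.U
    rw [hX.w]
  exact fun z hz => h2.le (had.hU hz)

/-- `Γ(X, U) → Γ(U₀, U')` -/
def uA (had : Adapted πU πV α' α) : Γ(X, α.U) →+* Γ(U₀, α'.U) :=
  (πU.appLE α.U α'.U had.hU).hom

/-- `Γ(Y, V) → Γ(V₀, V')` -/
def uB (had : Adapted πU πV α' α) : Γ(Y, α.V) →+* Γ(V₀, α'.V) :=
  (πV.appLE α.V α'.V had.hV).hom

/-- `Γ(Z, W) → Γ(Q, W')` -/
def uC (had : Adapted πU πV α' α) : Γ(Z, α.W) →+* Γ(Q, α'.W) :=
  (qZ.appLE α.W α'.W (had.hW hX)).hom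

lemma φ_uA (had : Adapted πU πV α' α) :
    α'.φ.comp (uA had) = (uC hX had).comp α.φ :=
  congrArg CommRingCat.Hom.hom
    (appLE_comp_eq hX.w α.U α'.U α.W α'.W had.hU α'.W_le' α.W_le' (had.hW hX))

include hY in
lemma ψ_uB (had : Adapted πU πV α' α) :
    α'.ψ.comp (uB had) = (uC hX had).comp α.ψ :=
  congrArg CommRingCat.Hom.hom
    (appLE_comp_eq hY.w α.V α'.V α.W α'.W had.hV α'.W_le α.W_le (had.hW hX))

/-- the map of fibre product rings -/
def ρR (had : Adapted πU πV α' α) : α.R →+* α'.R :=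
  FibProd.lift ((uA had).comp α.p₁) ((uB had).comp α.p₂) (by
    rw [← RingHom.comp_assoc, φ_uA hX had, ← RingHom.comp_assoc, ψ_uB hX hY had,
      RingHom.comp_assoc, RingHom.comp_assoc, FibProd.condition])

lemma p₁_ρR (had : Adapted πU πV α' α) :
    α'.p₁.comp (ρR hX hY had) = (uA had).comp α.p₁ := rfl

lemma p₂_ρR (had : Adapted πU πV α' α) :
    α'.p₂.comp (ρR hX hY had) = (uB had).comp α.p₂ := rfl

/-- the map `Spec R_{α'} → Spec R_α` -/
def tα (had : Adapted πU πV α' α) : α'.spec ⟶ α.spec :=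
  Spec.map (CommRingCat.ofHom (ρR hX hY had))

lemma a_tα (had : Adapted πU πV α' α) :
    α'.a ≫ tα hX hY had = πU.resLE α.U α'.U had.hU ≫ α.a := by
  rw [a, a, tα, Category.assoc, ← Spec.map_comp, ← CommRingCat.ofHom_comp, p₁_ρR,
    CommRingCat.ofHom_comp, Spec.map_comp, ← Category.assoc (πU.resLE _ _ _),
    resLE_isoSpec_hom πU α.hU α'.hU had.hU, Category.assoc]
  rfl

lemma b_tα (had : Adapted πU πV α' α) :
    α'.b ≫ tα hX hY had = πV.resLE α.V α'.V had.hV ≫ α.b := by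
  rw [b, b, tα, Category.assoc, ← Spec.map_comp, ← CommRingCat.ofHom_comp, p₂_ρR,
    CommRingCat.ofHom_comp, Spec.map_comp, ← Category.assoc (πV.resLE _ _ _),
    resLE_isoSpec_hom πV α.hV α'.hV had.hV, Category.assoc]
  rfl

/-- the pushout square of sections on the `X`-side -/
theorem isPushout_U (had : Adapted πU πV α' α) :
    IsPushout (CommRingCat.ofHom (uA had)) (CommRingCat.ofHom α.φ)
      (CommRingCat.ofHom α'.φ) (CommRingCat.ofHom (uC hX had)) := by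
  have hUY : α'.W = qU ⁻¹ᵁ α'.U ⊓ qZ ⁻¹ᵁ α.W := (inf_eq_left.mpr (had.hW hX)).symm
  exact (isIso_pushoutSection_iff hX (US := α.U) (UT := α.W) (UX := α'.U)
    α.W_le' had.hU hUY).mp
    (isIso_pushoutSection_of_isAffineOpen hX α.W_le' had.hU hUY α.hU α.hW α'.hU)

include hY in
/-- the pushout square of sections on the `Y`-side -/
theorem isPushout_V (had : Adapted πU πV α' α) :
    IsPushout (CommRingCat.ofHom (uB had)) (CommRingCat.ofHom α.ψ)
      (CommRingCat.ofHom α'.ψ) (CommRingCat.ofHom (uC hX had)) := by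
  have hUY : α'.W = qV ⁻¹ᵁ α'.V ⊓ qZ ⁻¹ᵁ α.W := by
    rw [← α'.h]
    exact (inf_eq_left.mpr (had.hW hX)).symm
  exact (isIso_pushoutSection_iff hY (US := α.V) (UT := α.W) (UX := α'.V)
    α.W_le had.hV hUY).mp
    (isIso_pushoutSection_of_isAffineOpen hY α.W_le had.hV hUY α.hV α.hW α'.hV)

/-- the morphism of fibre squares of rings attached to an adapted pair -/
theorem sq (had : Adapted πU πV α' α) :
    FQ.Sq α.p₁ α.p₂ α.φ α.ψ α'.p₁ α'.p₂ α'.φ α'.ψ (ρR hX hY had) (uA had) (uB had)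
      (uC hX had) where
  hf := FibProd.condition_apply
  hex := fun a b h => ⟨FibProd.mk a b h, rfl, rfl⟩
  hinj := FEt.fibProd_hinj α.φ α.ψ
  hf' := FibProd.condition_apply
  hex' := fun a b h => ⟨FibProd.mk a b h, rfl, rfl⟩
  hinj' := FEt.fibProd_hinj α'.φ α'.ψ
  h1 := fun r => rfl
  h2 := fun r => rfl
  h3 := fun a => congr($(φ_uA hX had) a)
  h4 := fun b => congr($(ψ_uB hX hY had) b)
  hφ := α.φ_surjective
  hpoA := isPushout_U hX had
  hpoB := isPushout_V hX hY had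

theorem isPullback_a_tα (had : Adapted πU πV α' α) :
    IsPullback α'.a (πU.resLE α.U α'.U had.hU) (tα hX hY had) α.a := by
  have hpo := (sq hX hY had).isPushout_fst
  have h1 := isPullback_SpecMap_of_isPushout _ _ _ _ hpo
  refine IsPullback.of_iso h1 α'.hU.isoSpec.symm (Iso.refl _) α.hU.isoSpec.symm
    (Iso.refl _) ?_ ?_ ?_ ?_
  · rw [Iso.refl_hom, Category.comp_id, Iso.symm_hom, Chart.a, Iso.inv_hom_id_assoc]
  · rw [Iso.symm_hom, Iso.symm_hom, Iso.comp_inv_eq, Category.assoc,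
      resLE_isoSpec_hom πU α.hU α'.hU had.hU, Iso.inv_hom_id_assoc]
    rfl
  · rw [Iso.refl_hom, Category.comp_id, Iso.refl_hom, Category.id_comp]
    rfl
  · rw [Iso.refl_hom, Category.comp_id, Iso.symm_hom, Chart.a, Iso.inv_hom_id_assoc]

theorem isPullback_b_tα (had : Adapted πU πV α' α) :
    IsPullback α'.b (πV.resLE α.V α'.V had.hV) (tα hX hY had) α.b := by
  have hpo := (sq hX hY had).isPushout_snd
  have h1 := isPullback_SpecMap_of_isPushout _ _ _ _ hpo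
  refine IsPullback.of_iso h1 α'.hV.isoSpec.symm (Iso.refl _) α.hV.isoSpec.symm
    (Iso.refl _) ?_ ?_ ?_ ?_
  · rw [Iso.refl_hom, Category.comp_id, Iso.symm_hom, Chart.b, Iso.inv_hom_id_assoc]
  · rw [Iso.symm_hom, Iso.symm_hom, Iso.comp_inv_eq, Category.assoc,
      resLE_isoSpec_hom πV α.hV α'.hV had.hV, Iso.inv_hom_id_assoc]
    rfl
  · rw [Iso.refl_hom, Category.comp_id, Iso.refl_hom, Category.id_comp]
    rfl
  · rw [Iso.refl_hom, Category.comp_id, Iso.symm_hom, Chart.b, Iso.inv_hom_id_assoc]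

theorem locallyOfFiniteType_tα [LocallyOfFiniteType πU] [LocallyOfFiniteType πV]
    (had : Adapted πU πV α' α) : LocallyOfFiniteType (tα hX hY had) := by
  rw [tα, HasRingHomProperty.Spec_iff (P := @LocallyOfFiniteType)]
  exact (sq hX hY had).finiteType (πU.finiteType_appLE α.hU α'.hU had.hU)
    (πV.finiteType_appLE α.hV α'.hV had.hV)

theorem locallyQuasiFinite_tα [LocallyOfFiniteType πU] [LocallyOfFiniteType πV]
    [LocallyQuasiFinite πU] [LocallyQuasiFinite πV]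
    (had : Adapted πU πV α' α) : LocallyQuasiFinite (tα hX hY had) := by
  rw [tα, HasRingHomProperty.Spec_iff (P := @LocallyQuasiFinite)]
  exact (sq hX hY had).quasiFinite
    ((sq hX hY had).finiteType (πU.finiteType_appLE α.hU α'.hU had.hU)
      (πV.finiteType_appLE α.hV α'.hV had.hV))
    (LocallyQuasiFinite.quasiFinite_appLE (f := πU) α.hU α'.hU had.hU)
    (LocallyQuasiFinite.quasiFinite_appLE (f := πV) α.hV α'.hV had.hV)

/-! ### The glued morphism -/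

variable (hc : Covering i j)

include hX hY in
lemma w_k : qU ≫ (πU ≫ toP₁ hc) = qV ≫ (πV ≫ toP₂ hc) := by
  rw [← Category.assoc, hX.w, ← Category.assoc, hY.w, Category.assoc, Category.assoc, toP_comm hc]

/-- the glued morphism -/
def k : P qU qV ⟶ P i j := descP (w_k hX hY hc)

variable (hc' : Covering qU qV)

lemma toP₁_k : toP₁ hc' ≫ k hX hY hc = πU ≫ toP₁ hc :=
  toP₁_descP hc' (w_k hX hY hc)

lemma toP₂_k : toP₂ hc' ≫ k hX hY hc = πV ≫ toP₂ hc :=
  toP₂_descP hc' (w_k hX hY hc)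

lemma good_ad (had : Adapted πU πV α' α) : Good (πU ≫ toP₁ hc) (πV ≫ toP₂ hc) α' := by
  refine ⟨BC.S α, BC.hS α, ?_, ?_⟩
  · refine had.hU.trans ?_
    change πU ⁻¹ᵁ α.U ≤ πU ⁻¹ᵁ (toP₁ hc ⁻¹ᵁ BC.S α)
    rw [toP₁_preimage hc α]
  · refine had.hV.trans ?_
    change πV ⁻¹ᵁ α.V ≤ πV ⁻¹ᵁ (toP₂ hc ⁻¹ᵁ BC.S α)
    rw [toP₂_preimage hc α]

lemma ι_k (had : Adapted πU πV α' α) :
    ι qU qV α' ≫ k hX hY hc = tα hX hY had ≫ ι i j α := by
  rw [k, ι_descP (w_k hX hY hc) α' (good_ad hc had)]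
  refine (good_ad hc had).hom_ext _ _ ((good_ad hc had).a_desc _)
    ((good_ad hc had).b_desc _) ?_ ?_
  · rw [← Category.assoc, a_tα, Category.assoc, ← ι_toP₁ hc α, ← Category.assoc,
      Scheme.Hom.resLE_comp_ι, Category.assoc]
  · rw [← Category.assoc, b_tα, Category.assoc, ← ι_toP₂ hc α, ← Category.assoc,
      Scheme.Hom.resLE_comp_ι, Category.assoc]

include hX hY hc hc' in
lemma exists_adapted (p : P qU qV) :
    ∃ (α' : Chart qU qV) (α : Chart i j) (_ : Adapted πU πV α' α) (q : α'.spec),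
      ι qU qV α' q = p := by
  obtain ⟨u, rfl⟩ | ⟨v, rfl⟩ := toP_jointly_surjective hc' p
  · obtain ⟨α, hα⟩ := hc.hX (πU u)
    obtain ⟨β', hβ'⟩ := hc'.hX u
    obtain ⟨r, hr1, hr2, hr3⟩ := β'.exists_basic_of_mem_U (πU ⁻¹ᵁ α.U) (πV ⁻¹ᵁ α.V)
      (preimage_comm hX hY α) u hα hβ'
    exact ⟨β'.basic r, α, ⟨hr2, hr3⟩, (β'.basic r).a ⟨u, hr1⟩,
      (toP₁_apply hc' (β'.basic r) ⟨u, hr1⟩).symm⟩
  · obtain ⟨α, hα⟩ := hc.hY (πV v)
    obtain ⟨β', hβ'⟩ := hc'.hY v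
    obtain ⟨r, hr1, hr2, hr3⟩ := β'.exists_basic_of_mem_V (πU ⁻¹ᵁ α.U) (πV ⁻¹ᵁ α.V)
      (preimage_comm hX hY α) v hα hβ'
    exact ⟨β'.basic r, α, ⟨hr2, hr3⟩, (β'.basic r).b ⟨v, hr1⟩,
      (toP₂_apply hc' (β'.basic r) ⟨v, hr1⟩).symm⟩

/-- the cover of `P qU qV` by the adapted charts -/
def coverAd : (P qU qV).OpenCover where
  I₀ := {p : Chart qU qV × Chart i j // Adapted πU πV p.1 p.2}
  X p := p.1.1.spec
  f p := ι qU qV p.1.1
  mem₀ := by
    rw [Scheme.presieve₀_mem_precoverage_iff]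
    refine ⟨fun p => ?_, fun p => inferInstanceAs (IsOpenImmersion (ι qU qV p.1.1))⟩
    obtain ⟨α', α, had, q, hq⟩ := exists_adapted hX hY hc hc' p
    exact ⟨⟨(α', α), had⟩, q, hq⟩

include hc' in
theorem locallyOfFiniteType_k [LocallyOfFiniteType πU] [LocallyOfFiniteType πV] :
    LocallyOfFiniteType (k hX hY hc) := by
  rw [IsZariskiLocalAtSource.iff_of_openCover (P := @LocallyOfFiniteType)
    (coverAd hX hY hc hc')]
  intro p
  change LocallyOfFiniteType (ι qU qV p.1.1 ≫ k hX hY hc)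
  rw [ι_k hX hY hc p.2]
  haveI := locallyOfFiniteType_tα hX hY p.2
  infer_instance

include hc' in
theorem locallyQuasiFinite_k [LocallyOfFiniteType πU] [LocallyOfFiniteType πV]
    [LocallyQuasiFinite πU] [LocallyQuasiFinite πV] :
    LocallyQuasiFinite (k hX hY hc) := by
  rw [IsZariskiLocalAtSource.iff_of_openCover (P := @LocallyQuasiFinite)
    (coverAd hX hY hc hc')]
  intro p
  change LocallyQuasiFinite (ι qU qV p.1.1 ≫ k hX hY hc)
  rw [ι_k hX hY hc p.2]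
  haveI := locallyQuasiFinite_tα hX hY p.2
  infer_instance

theorem isPullback_toP₁_k :
    IsPullback (toP₁ hc') πU (k hX hY hc) (toP₁ hc) := by
  refine Scheme.isPullback_of_openCover _ _ _ _ (coverAd hX hY hc hc') fun p => ?_
  have hbig : IsPullback p.1.1.a (p.1.1.U.ι ≫ πU)
      (ι qU qV p.1.1 ≫ k hX hY hc) (toP₁ hc) := by
    have h := (isPullback_a_tα hX hY p.2).paste_vert (isPullback_a hc p.1.2)
    rw [Scheme.Hom.resLE_comp_ι, ← ι_k hX hY hc p.2] at h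
    exact h
  let e := (isPullback_a hc' p.1.1).flip.isoPullback
  change IsPullback (pullback.snd (toP₁ hc') (ι qU qV p.1.1))
    (pullback.fst (toP₁ hc') (ι qU qV p.1.1) ≫ πU)
    (ι qU qV p.1.1 ≫ k hX hY hc) (toP₁ hc)
  refine IsPullback.of_iso hbig e (Iso.refl _) (Iso.refl _) (Iso.refl _) ?_ ?_ ?_ ?_
  · rw [Iso.refl_hom, Category.comp_id]
    exact ((isPullback_a hc' p.1.1).flip.isoPullback_hom_snd).symm
  · rw [Iso.refl_hom, Category.comp_id, ← Category.assoc]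
    rw [(isPullback_a hc' p.1.1).flip.isoPullback_hom_fst]
  · rw [Iso.refl_hom, Category.comp_id, Iso.refl_hom, Category.id_comp]
  · rw [Iso.refl_hom, Category.comp_id, Iso.refl_hom, Category.id_comp]

theorem isPullback_toP₂_k :
    IsPullback (toP₂ hc') πV (k hX hY hc) (toP₂ hc) := by
  refine Scheme.isPullback_of_openCover _ _ _ _ (coverAd hX hY hc hc') fun p => ?_
  have hbig : IsPullback p.1.1.b (p.1.1.V.ι ≫ πV)
      (ι qU qV p.1.1 ≫ k hX hY hc) (toP₂ hc) := by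
    have h := (isPullback_b_tα hX hY p.2).paste_vert (isPullback_b hc p.1.2)
    rw [Scheme.Hom.resLE_comp_ι, ← ι_k hX hY hc p.2] at h
    exact h
  let e := (isPullback_b hc' p.1.1).flip.isoPullback
  change IsPullback (pullback.snd (toP₂ hc') (ι qU qV p.1.1))
    (pullback.fst (toP₂ hc') (ι qU qV p.1.1) ≫ πV)
    (ι qU qV p.1.1 ≫ k hX hY hc) (toP₂ hc)
  refine IsPullback.of_iso hbig e (Iso.refl _) (Iso.refl _) (Iso.refl _) ?_ ?_ ?_ ?_
  · rw [Iso.refl_hom, Category.comp_id]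
    exact ((isPullback_b hc' p.1.1).flip.isoPullback_hom_snd).symm
  · rw [Iso.refl_hom, Category.comp_id, ← Category.assoc]
    rw [(isPullback_b hc' p.1.1).flip.isoPullback_hom_fst]
  · rw [Iso.refl_hom, Category.comp_id, Iso.refl_hom, Category.id_comp]
  · rw [Iso.refl_hom, Category.comp_id, Iso.refl_hom, Category.id_comp]

end BCh

namespace BCh

variable {X Y Z U₀ V₀ Q : Scheme.{u}} {i : Z ⟶ X} {j : Z ⟶ Y} [IsClosedImmersion i]
  {πU : U₀ ⟶ X} {πV : V₀ ⟶ Y} {qU : Q ⟶ U₀} {qV : Q ⟶ V₀} {qZ : Q ⟶ Z}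
  [IsClosedImmersion qU]
  (hX : IsPullback qU qZ πU i) (hY : IsPullback qV qZ πV j)
  (hc : Covering i j) (hc' : Covering qU qV)

include hc' in
theorem isSeparated_k [IsIntegralHom j] [IsIntegralHom qV] [IsSeparated πU] [IsSeparated πV] :
    IsSeparated (k hX hY hc) := by
  haveI h1 : IsIntegralHom (toP₁ hc') := isIntegralHom_toP₁ hc'
  haveI h2 : IsIntegralHom (toP₁ hc) := isIntegralHom_toP₁ hc
  haveI h3 : IsSeparated (toP₂ hc' ≫ k hX hY hc) := by
    rw [toP₂_k hX hY hc hc']; infer_instance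
  haveI h4 : IsSeparated (toP₁ hc' ≫ k hX hY hc) := by
    rw [toP₁_k hX hY hc hc']; infer_instance
  exact isSeparated_of_jointly_surjective (toP₁ hc') (toP₂ hc')
    (toP_jointly_surjective hc') (k hX hY hc)

end BCh

end Groth.Agent.Lib.Helper1.FP
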