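import Groth.Agent.Lib.Helper1.FP16
import Mathlib.AlgebraicGeometry.ZariskisMainTheorem

/-!
# Base change of Ferrand pushouts along arbitrary morphisms (helper1), part 3: affine
neighbourhoods of the fibres of the base-changed integral morphism, via Zariski's main theorem
-/

set_option autoImplicit false
set_option linter.unusedSectionVars false
set_option linter.unusedVariables false
set_option linter.style.haveILetI false
universe u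

noncomputable section

namespace Groth.Agent.Lib.Helper1.FQ

open AlgebraicGeometry CategoryTheory CategoryTheory.Limits TopologicalSpace Opposite

/-- **Lemma Ext'**: extension of functions up to a power, from a surjection of localizations -/
theorem exists_mul_pow_of_away {E C Ed Cd : Type u} [CommRing E] [CommRing C] [CommRing Ed]
    [CommRing Cd] [Algebra E Ed] [Algebra C Cd] (θ : E →+* C) (d : E) [IsLocalization.Away d Ed]
    [IsLocalization.Away (θ d) Cd] (θd : Ed →+* Cd)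
    (hcomm : ∀ x, θd (algebraMap E Ed x) = algebraMap C Cd (θ x))
    (hsurj : Function.Surjective θd) (w : C) : ∃ (n : ℕ) (c : E), θ c = w * θ d ^ n := by
  obtain ⟨e, he⟩ := hsurj (algebraMap C Cd w)
  obtain ⟨n, a, ha⟩ := IsLocalization.Away.surj d e
  have h1 : algebraMap C Cd (θ a) = θd e * θd (algebraMap E Ed d) ^ n := by
    rw [← hcomm, ← ha, map_mul, map_pow]
  have h0 : algebraMap C Cd (θ a) = algebraMap C Cd (w * θ d ^ n) := by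
    rw [h1, he, hcomm, map_mul, map_pow]
  obtain ⟨m, hm⟩ := IsLocalization.Away.exists_of_eq (S := Cd) (θ d) h0
  refine ⟨m + n, d ^ m * a, ?_⟩
  rw [map_mul, map_pow, hm, pow_add]
  ring

/-- **Lemma B'**: a function non-vanishing on a whole fibre of an integral ring map -/
theorem exists_avoid {E C B : Type u} [CommRing E] [CommRing C] [CommRing B] (θ : E →+* C)
    (ψ : B →+* C) (hψ : ψ.IsIntegral) (𝔭 : Ideal B) [𝔭.IsPrime] (J : Ideal E)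
    (H1 : ∀ q : Ideal C, q.IsPrime → ∃ d ∈ J, θ d ∉ q)
    (H2 : ∀ d ∈ J, ∀ w : C, ∃ (n : ℕ) (c : E), θ c = w * θ d ^ n) :
    ∃ u ∈ J, ∀ q : Ideal C, q.IsPrime → q.comap ψ = 𝔭 → θ u ∉ q := by
  classical
  have htop : Ideal.span (θ '' (J : Set E)) = ⊤ := by
    by_contra hne
    obtain ⟨m, hm, hle⟩ := Ideal.exists_le_maximal _ hne
    obtain ⟨d, hdJ, hd⟩ := H1 m hm.isPrime
    exact hd (hle (Ideal.subset_span ⟨d, hdJ, rfl⟩))
  obtain ⟨s, hsJ, hs⟩ := (Ideal.span_eq_top_iff_finite _).mp htop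
  have key : ∀ s : Finset C, (↑s : Set C) ⊆ θ '' (J : Set E) →
      ∃ u ∈ J, ∀ q : Ideal C, q.IsPrime → q.comap ψ = 𝔭 → (∃ x ∈ s, x ∉ q) → θ u ∉ q := by
    intro s
    induction s using Finset.induction_on with
    | empty =>
      intro _
      refine ⟨0, J.zero_mem, ?_⟩
      rintro q - - ⟨x, hx, -⟩
      exact absurd hx (Finset.notMem_empty _)
    | insert x₀ s hx₀ ih =>
      intro hsub
      obtain ⟨uS, huS, huS'⟩ := ih (fun x hx => hsub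
        (Finset.mem_coe.mpr (Finset.mem_insert_of_mem (Finset.mem_coe.mp hx))))
      obtain ⟨d₀, hd₀J, rfl⟩ := hsub (Finset.mem_coe.mpr (Finset.mem_insert_self x₀ s))
      obtain ⟨w, hw⟩ := FP.exists_compl_elem ψ 𝔭 (θ uS) hψ
      obtain ⟨n, c, hc⟩ := H2 d₀ hd₀J w
      refine ⟨uS + c * d₀, J.add_mem huS (J.mul_mem_left c hd₀J), ?_⟩
      intro q hq hqp hex
      have hwq := hw q hq hqp
      rw [map_add, map_mul, hc]
      by_cases hx : θ uS ∈ q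
      · have hd₀q : θ d₀ ∉ q := by
          obtain ⟨x, hx', hxq⟩ := hex
          rcases Finset.mem_insert.mp hx' with rfl | hxs
          · exact hxq
          · exact absurd hx (huS' q hq hqp ⟨x, hxs, hxq⟩)
        have hwnq : w ∉ q := fun h => (hwq.mp h) hx
        intro hmem
        have h2 := (Ideal.add_mem_iff_right q hx).mp hmem
        rcases hq.mem_or_mem h2 with h | h
        · rcases hq.mem_or_mem h with h | h
          · exact hwnq h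
          · exact hd₀q (hq.mem_of_pow_mem _ h)
        · exact hd₀q h
      · have hwq' : w ∈ q := hwq.mpr hx
        intro hmem
        have h1 : w * θ d₀ ^ n * θ d₀ ∈ q := q.mul_mem_right _ (q.mul_mem_right _ hwq')
        exact hx ((Ideal.add_mem_iff_left q h1).mp hmem)
  obtain ⟨u, huJ, hu⟩ := key s hsJ
  refine ⟨u, huJ, fun q hq hqp => hu q hq hqp ?_⟩
  by_contra hcon
  push_neg at hcon
  have hle : Ideal.span (↑s : Set C) ≤ q :=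
    Ideal.span_le.mpr (fun x hx => hcon x (Finset.mem_coe.mp hx))
  rw [hs] at hle
  exact hq.ne_top (top_le_iff.mp hle)

/-- the ideal of functions whose non-vanishing locus lies in the range of an open immersion -/
def rangeIdeal {Q N : Scheme.{u}} (ρ : Q ⟶ N) [IsOpenImmersion ρ] : Ideal Γ(N, ⊤) where
  carrier := {d | N.basicOpen d ≤ ρ.opensRange}
  add_mem' := fun {a b} ha hb => (N.basicOpen_add_le a b).trans (sup_le ha hb)
  zero_mem' := by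
    change N.basicOpen (0 : Γ(N, ⊤)) ≤ ρ.opensRange
    rw [Scheme.basicOpen_zero]; exact bot_le
  smul_mem' := fun c {d} hd => by
    change N.basicOpen (c * d) ≤ ρ.opensRange
    rw [Scheme.basicOpen_mul]
    exact inf_le_right.trans hd

lemma mem_rangeIdeal {Q N : Scheme.{u}} (ρ : Q ⟶ N) [IsOpenImmersion ρ] (d : Γ(N, ⊤)) :
    d ∈ rangeIdeal ρ ↔ N.basicOpen d ≤ ρ.opensRange := Iff.rfl

/-- **Lemma A'**: for `Z₁ → Q` a closed immersion, `Q → N` an open immersion into an affine scheme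
and `Z₁ → V₁` integral with `Z₁`, `V₁` affine, every fibre of `Z₁ → V₁` lies in a principal
open of `N` contained in the image of `Q`. -/
theorem exists_basicOpen_fibre {Z₁ V₁ N Q : Scheme.{u}} [IsAffine Z₁] [IsAffine V₁] [IsAffine N]
    (κ : Z₁ ⟶ Q) [IsClosedImmersion κ] (ρ : Q ⟶ N) [IsOpenImmersion ρ] (j₁ : Z₁ ⟶ V₁)
    [IsIntegralHom j₁] (v : V₁) :
    ∃ u : Γ(N, ⊤), N.basicOpen u ≤ ρ.opensRange ∧
      ∀ z : Z₁, j₁ z = v → ρ (κ z) ∈ N.basicOpen u := by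
  let θ : Γ(N, ⊤) →+* Γ(Z₁, ⊤) := (κ ≫ ρ).appTop.hom
  let ψ : Γ(V₁, ⊤) →+* Γ(Z₁, ⊤) := j₁.appTop.hom
  have hψ : ψ.IsIntegral := j₁.isIntegral_app ⊤ (isAffineOpen_top V₁)
  haveI hp : (V₁.toSpecΓ v).asIdeal.IsPrime := (V₁.toSpecΓ v).isPrime
  have hmem : ∀ (z : Z₁) (u : Γ(N, ⊤)),
      θ u ∉ (Z₁.toSpecΓ z).asIdeal ↔ ρ (κ z) ∈ N.basicOpen u := by
    intro z u
    have h1 : (κ ≫ ρ) ⁻¹ᵁ N.basicOpen u = Z₁.basicOpen (θ u) :=
      Scheme.preimage_basicOpen (κ ≫ ρ) u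
    have h2 : Z₁.toSpecΓ ⁻¹ᵁ PrimeSpectrum.basicOpen (θ u) = Z₁.basicOpen (θ u) :=
      Z₁.toSpecΓ_preimage_basicOpen (θ u)
    have h3 : ρ (κ z) ∈ N.basicOpen u ↔ z ∈ (κ ≫ ρ) ⁻¹ᵁ N.basicOpen u := by
      rw [← Scheme.Hom.comp_apply]; exact Iff.rfl
    rw [h3, h1, ← h2]
    exact Iff.rfl
  have H1 : ∀ q : Ideal Γ(Z₁, ⊤), q.IsPrime → ∃ d ∈ rangeIdeal ρ, θ d ∉ q := by
    intro q hq
    let z : Z₁ := Z₁.isoSpec.inv ⟨q, hq⟩
    have hz : Z₁.toSpecΓ z = ⟨q, hq⟩ := by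
      change Z₁.isoSpec.hom (Z₁.isoSpec.inv ⟨q, hq⟩) = _
      rw [← Scheme.Hom.comp_apply, Iso.inv_hom_id]; rfl
    have hn : ρ (κ z) ∈ ρ.opensRange := ⟨κ z, rfl⟩
    obtain ⟨d, hd1, hd2⟩ := (isAffineOpen_top N).exists_basicOpen_le (V := ρ.opensRange)
      ⟨ρ (κ z), hn⟩ trivial
    refine ⟨d, hd1, ?_⟩
    have := (hmem z d).mpr hd2
    rw [hz] at this
    exact this
  have H2 : ∀ d ∈ rangeIdeal ρ, ∀ w : Γ(Z₁, ⊤),
      ∃ (n : ℕ) (c : Γ(N, ⊤)), θ c = w * θ d ^ n := by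
    intro d hd w
    have hD : N.basicOpen d ≤ ρ.opensRange := hd
    have hDT : N.basicOpen d ≤ ⊤ := le_top
    have hWT : (κ ≫ ρ) ⁻¹ᵁ N.basicOpen d ≤ ⊤ := le_top
    have hW : (κ ≫ ρ) ⁻¹ᵁ N.basicOpen d = Z₁.basicOpen (θ d) :=
      Scheme.preimage_basicOpen (κ ≫ ρ) d
    letI alg1 : Algebra Γ(N, ⊤) Γ(N, N.basicOpen d) :=
      (N.presheaf.map (homOfLE hDT).op).hom.toAlgebra
    letI alg2 : Algebra Γ(Z₁, ⊤) Γ(Z₁, (κ ≫ ρ) ⁻¹ᵁ N.basicOpen d) :=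
      (Z₁.presheaf.map (homOfLE hWT).op).hom.toAlgebra
    haveI loc1 : IsLocalization.Away d Γ(N, N.basicOpen d) :=
      (isAffineOpen_top N).isLocalization_of_eq_basicOpen d (homOfLE hDT) rfl
    haveI loc2 : IsLocalization.Away (θ d) Γ(Z₁, (κ ≫ ρ) ⁻¹ᵁ N.basicOpen d) :=
      (isAffineOpen_top Z₁).isLocalization_of_eq_basicOpen (θ d) (homOfLE hWT) hW
    let θd : Γ(N, N.basicOpen d) →+* Γ(Z₁, (κ ≫ ρ) ⁻¹ᵁ N.basicOpen d) :=
      ((κ ≫ ρ).app (N.basicOpen d)).hom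
    have hcomm : ∀ x : Γ(N, ⊤), θd (algebraMap Γ(N, ⊤) Γ(N, N.basicOpen d) x) =
        algebraMap Γ(Z₁, ⊤) Γ(Z₁, (κ ≫ ρ) ⁻¹ᵁ N.basicOpen d) (θ x) := by
      intro x
      have e : N.presheaf.map (homOfLE hDT).op ≫ (κ ≫ ρ).app (N.basicOpen d) =
          (κ ≫ ρ).app ⊤ ≫ Z₁.presheaf.map (homOfLE hWT).op := by
        rw [Scheme.Hom.app_eq_appLE, Scheme.Hom.app_eq_appLE, Scheme.Hom.map_appLE,
          Scheme.Hom.appLE_map]
      exact congr($e x)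
    have hDaff : IsAffineOpen (ρ ⁻¹ᵁ N.basicOpen d) :=
      ((isAffineOpen_top N).basicOpen d).preimage_of_isOpenImmersion ρ hD
    have hsurj : Function.Surjective θd := by
      have e : (κ ≫ ρ).app (N.basicOpen d) =
          ρ.app (N.basicOpen d) ≫ κ.app (ρ ⁻¹ᵁ N.basicOpen d) :=
        Scheme.Hom.comp_app κ ρ (N.basicOpen d)
      haveI : IsIso (ρ.app (N.basicOpen d)) := ρ.isIso_app (N.basicOpen d) hD
      have h1 : Function.Surjective (ρ.app (N.basicOpen d)).hom :=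
        (ConcreteCategory.bijective_of_isIso (ρ.app (N.basicOpen d))).2
      have h2 : Function.Surjective (κ.app (ρ ⁻¹ᵁ N.basicOpen d)).hom :=
        κ.app_surjective _ hDaff
      intro c
      obtain ⟨b, hb⟩ := h2 c
      obtain ⟨a, ha⟩ := h1 b
      refine ⟨a, ?_⟩
      have e' := congr($e a)
      exact e'.trans ((congrArg (κ.app (ρ ⁻¹ᵁ N.basicOpen d)).hom ha).trans hb)
    exact exists_mul_pow_of_away θ d θd hcomm hsurj w
  obtain ⟨u, huJ, hu⟩ := exists_avoid θ ψ hψ (V₁.toSpecΓ v).asIdeal (rangeIdeal ρ) H1 H2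
  refine ⟨u, huJ, fun z hz => (hmem z u).mp (hu _ (Z₁.toSpecΓ z).isPrime ?_)⟩
  have h1 := congr($(Scheme.toSpecΓ_naturality j₁) z)
  rw [Scheme.Hom.comp_apply, Scheme.Hom.comp_apply, hz] at h1
  exact (congrArg PrimeSpectrum.asIdeal h1).symm

lemma isIntegralHom_resLE_of_eq {Z' Y' : Scheme.{u}} (j' : Z' ⟶ Y') [IsIntegralHom j']
    (V₁ : Y'.Opens) (Z₁ : Z'.Opens) (h : Z₁ = j' ⁻¹ᵁ V₁) :
    IsIntegralHom (j'.resLE V₁ Z₁ h.le) := by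
  subst h
  rw [Scheme.Hom.resLE_eq_morphismRestrict]
  infer_instance

/-- **Lemma A**: affine neighbourhoods of fibres -/
theorem exists_affine_fibre {X' Y' Z' : Scheme.{u}} (i' : Z' ⟶ X') [IsClosedImmersion i']
    (j' : Z' ⟶ Y') [IsIntegralHom j'] (Q₁ : X'.Opens) {N : Scheme.{u}} [IsAffine N]
    (ρ : (Q₁ : Scheme.{u}) ⟶ N) [IsOpenImmersion ρ] (V₁ : Y'.Opens) (hV₁ : IsAffineOpen V₁)
    (hZ : i' ⁻¹ᵁ Q₁ = j' ⁻¹ᵁ V₁) (y' : Y') (hy' : y' ∈ V₁) :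
    ∃ U' : X'.Opens, IsAffineOpen U' ∧ j' ⁻¹' {y'} ⊆ (i' ⁻¹ᵁ U' : Set Z') := by
  have hZ₁ : IsAffineOpen (i' ⁻¹ᵁ Q₁) := by rw [hZ]; exact hV₁.preimage j'
  haveI : IsAffine ↑(i' ⁻¹ᵁ Q₁) := hZ₁
  haveI : IsAffine ↑V₁ := hV₁
  let κ : (↑(i' ⁻¹ᵁ Q₁) : Scheme.{u}) ⟶ ↑Q₁ := i' ∣_ Q₁
  let j₁ : (↑(i' ⁻¹ᵁ Q₁) : Scheme.{u}) ⟶ ↑V₁ := j'.resLE V₁ (i' ⁻¹ᵁ Q₁) hZ.le
  haveI : IsIntegralHom j₁ := isIntegralHom_resLE_of_eq j' V₁ _ hZ
  haveI : IsClosedImmersion κ := inferInstanceAs (IsClosedImmersion (i' ∣_ Q₁))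
  obtain ⟨u, hu1, hu2⟩ := exists_basicOpen_fibre κ ρ j₁ ⟨y', hy'⟩
  have haff : IsAffineOpen (ρ ⁻¹ᵁ N.basicOpen u) :=
    ((isAffineOpen_top N).basicOpen u).preimage_of_isOpenImmersion ρ hu1
  refine ⟨Q₁.ι ''ᵁ (ρ ⁻¹ᵁ N.basicOpen u), haff.image_of_isOpenImmersion Q₁.ι, ?_⟩
  intro z' hz'
  have hz'' : j' z' = y' := hz'
  have hzV : z' ∈ j' ⁻¹ᵁ V₁ := by
    change j' z' ∈ V₁; rw [hz'']; exact hy'
  have hzQ : z' ∈ i' ⁻¹ᵁ Q₁ := hZ.ge hzV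
  have hj : j₁ ⟨z', hzQ⟩ = ⟨y', hy'⟩ := by
    apply Subtype.ext
    have := congr($(Scheme.Hom.resLE_comp_ι j' hZ.le) ⟨z', hzQ⟩)
    rw [Scheme.Hom.comp_apply, Scheme.Hom.comp_apply] at this
    exact this.trans hz''
  have h1 := hu2 ⟨z', hzQ⟩ hj
  refine ⟨κ ⟨z', hzQ⟩, h1, ?_⟩
  have := congr($(morphismRestrict_ι i' Q₁) ⟨z', hzQ⟩)
  rw [Scheme.Hom.comp_apply, Scheme.Hom.comp_apply] at this
  exact this

/-- **Zariski's main theorem**, in the form: a quasi-compact scheme which is separated, locally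
quasi-finite and locally of finite type over an affine scheme is an open subscheme of an affine
scheme. -/
theorem exists_openImmersion_affine {Q S : Scheme.{u}} (φ : Q ⟶ S) [IsAffine S] [CompactSpace Q]
    [IsSeparated φ] [LocallyQuasiFinite φ] [LocallyOfFiniteType φ] :
    ∃ (N : Scheme.{u}) (_ : IsAffine N) (ρ : Q ⟶ N), IsOpenImmersion ρ := by
  haveI : QuasiCompact φ := (HasAffineProperty.iff_of_isAffine (P := @QuasiCompact)).mpr ‹_›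
  haveI : IsAffine φ.normalization := isAffine_of_isAffineHom φ.fromNormalization
  exact ⟨φ.normalization, inferInstance, φ.toNormalization, inferInstance⟩

open _root_.Groth.Agent.Lib.Helper1.FP in
/-- the covering hypothesis is inherited by separated locally quasi-finite base changes -/
theorem covering_baseChange {X Y Z U₀ V₀ Q : Scheme.{u}} {i : Z ⟶ X} {j : Z ⟶ Y}
    [IsClosedImmersion i] {πU : U₀ ⟶ X} {πV : V₀ ⟶ Y} {qU : Q ⟶ U₀} {qV : Q ⟶ V₀} {qZ : Q ⟶ Z}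
    [IsClosedImmersion qU] [IsIntegralHom qV]
    [IsSeparated πU] [LocallyQuasiFinite πU] [LocallyOfFiniteType πU]
    (hX : IsPullback qU qZ πU i) (hY : IsPullback qV qZ πV j) (hc : Covering i j) :
    Covering qU qV := by
  refine covering_of_integral qU qV fun y' => ?_
  obtain ⟨α, hα⟩ := hc.hY (πV y')
  obtain ⟨V₁, hV₁, hyV₁, hV₁le⟩ :=
    exists_isAffineOpen_mem_and_subset (x := y') (U := πV ⁻¹ᵁ α.V) hα
  have hZ₁ : IsAffineOpen (qV ⁻¹ᵁ V₁) := hV₁.preimage qV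
  have hcomm : qU ⁻¹ᵁ (πU ⁻¹ᵁ α.U) = qV ⁻¹ᵁ (πV ⁻¹ᵁ α.V) := by
    change (qU ≫ πU) ⁻¹ᵁ α.U = (qV ≫ πV) ⁻¹ᵁ α.V
    rw [hX.w, hY.w]
    change qZ ⁻¹ᵁ (i ⁻¹ᵁ α.U) = qZ ⁻¹ᵁ (j ⁻¹ᵁ α.V)
    rw [α.h]
  have hZ₁le : qV ⁻¹ᵁ V₁ ≤ qU ⁻¹ᵁ (πU ⁻¹ᵁ α.U) := by
    rw [hcomm]
    exact fun z hz => hV₁le hz
  have hA : ∀ z : (qV ⁻¹ᵁ V₁ : Q.Opens), ∃ A : U₀.Opens, IsAffineOpen A ∧ qU z.1 ∈ A ∧
      (A : Set U₀) ⊆ (πU ⁻¹ᵁ α.U : U₀.Opens) := fun z =>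
    exists_isAffineOpen_mem_and_subset (x := qU z.1) (U := πU ⁻¹ᵁ α.U) (hZ₁le z.2)
  choose A hAaff hAmem hAle using hA
  obtain ⟨S, hS⟩ := hZ₁.isCompact.elim_finite_subcover
    (fun z : (qV ⁻¹ᵁ V₁ : Q.Opens) => ((qU ⁻¹ᵁ A z : Q.Opens) : Set Q))
    (fun z => (qU ⁻¹ᵁ A z).2)
    (fun z hz => Set.mem_iUnion.mpr ⟨⟨z, hz⟩, hAmem ⟨z, hz⟩⟩)
  let Q₀ : U₀.Opens := ⟨⋃ z ∈ S, (A z : Set U₀), isOpen_biUnion (fun z _ => (A z).2)⟩
  have hQ₀c : IsCompact (Q₀ : Set U₀) := S.isCompact_biUnion (fun z _ => (hAaff z).isCompact)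
  have hQ₀le : Q₀ ≤ πU ⁻¹ᵁ α.U := by
    intro x hx
    obtain ⟨z, hzS, hxz⟩ := Set.mem_iUnion₂.mp hx
    exact hAle z hxz
  have hZ₁Q₀ : qV ⁻¹ᵁ V₁ ≤ qU ⁻¹ᵁ Q₀ := by
    intro z hz
    obtain ⟨z₂, hz₂S, hzz₂⟩ := Set.mem_iUnion₂.mp (hS hz)
    exact Set.mem_iUnion₂.mpr ⟨z₂, hz₂S, hzz₂⟩
  -- the open complement of the image of the complement of `Z₁`
  have hcl : IsClosed (qU '' ((qV ⁻¹ᵁ V₁ : Q.Opens) : Set Q)ᶜ) :=
    qU.isClosedEmbedding.isClosedMap _ (qV ⁻¹ᵁ V₁).2.isClosed_compl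
  let O : U₀.Opens := ⟨(qU '' ((qV ⁻¹ᵁ V₁ : Q.Opens) : Set Q)ᶜ)ᶜ, hcl.isOpen_compl⟩
  have hZ : qU ⁻¹ᵁ (Q₀ ⊓ O) = qV ⁻¹ᵁ V₁ := by
    ext z
    constructor
    · rintro ⟨-, hzO⟩
      by_contra hz
      exact hzO ⟨z, hz, rfl⟩
    · intro hz
      refine ⟨hZ₁Q₀ hz, ?_⟩
      rintro ⟨z₂, hz₂, hzz₂⟩
      exact hz₂ ((qU.isClosedEmbedding.injective hzz₂) ▸ hz)
  -- Zariski's main theorem
  haveI : IsAffine ↑α.U := α.hU
  haveI : CompactSpace ↑Q₀ := isCompact_iff_compactSpace.mp hQ₀c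
  obtain ⟨N, hN, ρ₀, hρ₀⟩ := exists_openImmersion_affine (πU.resLE α.U Q₀ hQ₀le)
  haveI := hN
  haveI := hρ₀
  exact exists_affine_fibre qU qV (Q₀ ⊓ O) (U₀.homOfLE (inf_le_left : Q₀ ⊓ O ≤ Q₀) ≫ ρ₀)
    V₁ hV₁ hZ y' hyV₁

end Groth.Agent.Lib.Helper1.FQ
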