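import Groth.Agent.Lib.Helper1.FQ1

/-!
# Base change of Ferrand pushouts (helper1), part 4: gluing flatness, finite presentation and
unramifiedness over a ring `R` with two ideals `K_A ⊓ K_B = ⊥`

`R → A`, `R → B` surjective and jointly injective, `R'` an `R`-algebra with `A' = A ⊗_R R'`,
`B' = B ⊗_R R'`. Then `R'` is flat / flat and finitely presented / formally unramified over `R`
as soon as `A'` over `A` and `B'` over `B` are.
-/

set_option autoImplicit false
set_option linter.style.haveILetI false
set_option linter.unusedSectionVars false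
set_option linter.unusedVariables false
universe u

noncomputable section

namespace Groth.Agent.Lib.Helper1.FQ

open CategoryTheory CategoryTheory.Limits TensorProduct

/-- `N ↦ N ⊗[R] M` preserves injections of `A`-modules if `A ⊗[R] M` is `A`-flat -/
lemma rTensor_injective_of_flat_baseChange {R A : Type u} [CommRing R] [CommRing A] [Algebra R A]
    (M : Type u) [AddCommGroup M] [Module R M] [Module.Flat A (A ⊗[R] M)]
    {N₁ N₂ : Type u} [AddCommGroup N₁] [AddCommGroup N₂] [Module A N₁] [Module A N₂]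
    [Module R N₁] [Module R N₂] [IsScalarTower R A N₁] [IsScalarTower R A N₂]
    (f : N₁ →ₗ[A] N₂) (hf : Function.Injective f) :
    Function.Injective ((f.restrictScalars R).rTensor M) := by
  have h1 : Function.Injective (f.rTensor (A ⊗[R] M)) :=
    Module.Flat.rTensor_preserves_injective_linearMap f hf
  let e₁ := TensorProduct.AlgebraTensorModule.cancelBaseChange R A A N₁ M
  let e₂ := TensorProduct.AlgebraTensorModule.cancelBaseChange R A A N₂ M
  have hcomm : ∀ t, e₂ (f.rTensor (A ⊗[R] M) t) = (f.restrictScalars R).rTensor M (e₁ t) := by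
    intro t
    induction t using TensorProduct.induction_on with
    | zero => simp only [map_zero]
    | add x y hx hy => simp only [map_add, hx, hy]
    | tmul n t' =>
      induction t' using TensorProduct.induction_on with
      | zero => simp only [TensorProduct.tmul_zero, map_zero]
      | add x y hx hy => simp only [TensorProduct.tmul_add, map_add, hx, hy]
      | tmul a m =>
        simp only [e₁, e₂, LinearMap.rTensor_tmul,
          TensorProduct.AlgebraTensorModule.cancelBaseChange_tmul, LinearMap.coe_restrictScalars,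
          map_smul]
  intro x y hxy
  obtain ⟨x', rfl⟩ := e₁.surjective x
  obtain ⟨y', rfl⟩ := e₁.surjective y
  rw [← hcomm, ← hcomm] at hxy
  exact congrArg e₁ (h1 (e₂.injective hxy))

/-- if `1 ⊗ m = 0` in `A ⊗[R] M` with `R → A` surjective then `m ∈ K M` -/
lemma mem_ker_smul_top_of_tmul_eq_zero {R A : Type u} [CommRing R] [CommRing A] [Algebra R A]
    (hA : Function.Surjective (algebraMap R A)) {M : Type u} [AddCommGroup M] [Module R M]
    (m : M) (hm : (1 : A) ⊗ₜ[R] m = 0) :
    m ∈ (RingHom.ker (algebraMap R A)) • (⊤ : Submodule R M) := by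
  have hex : Function.Exact (Submodule.subtype (RingHom.ker (algebraMap R A)))
      (Algebra.linearMap R A) := by
    intro r
    constructor
    · intro hr
      exact ⟨⟨r, (RingHom.mem_ker (f := algebraMap R A)).mpr hr⟩, rfl⟩
    · rintro ⟨k, rfl⟩
      exact (RingHom.mem_ker (f := algebraMap R A)).mp k.2
  have hex' := rTensor_exact M hex hA
  have h1 : (Algebra.linearMap R A).rTensor M ((1 : R) ⊗ₜ[R] m) = 0 := by
    rw [LinearMap.rTensor_tmul]
    change (algebraMap R A 1) ⊗ₜ[R] m = 0
    rw [map_one, hm]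
  obtain ⟨ζ, hζ⟩ := (hex' _).mp h1
  have key : ∀ ζ : (RingHom.ker (algebraMap R A)) ⊗[R] M,
      TensorProduct.lid R M ((Submodule.subtype (RingHom.ker (algebraMap R A))).rTensor M ζ) ∈
        (RingHom.ker (algebraMap R A)) • (⊤ : Submodule R M) := by
    intro ζ
    induction ζ using TensorProduct.induction_on with
    | zero => simp only [map_zero]; exact Submodule.zero_mem _
    | tmul k m' =>
      rw [LinearMap.rTensor_tmul, TensorProduct.lid_tmul, Submodule.subtype_apply]
      exact Submodule.smul_mem_smul k.2 Submodule.mem_top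
    | add x y hx hy => simp only [map_add]; exact Submodule.add_mem _ hx hy
  have := key ζ
  rw [hζ, TensorProduct.lid_tmul, one_smul] at this
  exact this

lemma ker_mul_ker_eq_bot {R A B : Type u} [CommRing R] [CommRing A] [CommRing B]
    [Algebra R A] [Algebra R B]
    (hker : ∀ r : R, algebraMap R A r = 0 → algebraMap R B r = 0 → r = 0) :
    RingHom.ker (algebraMap R A) * RingHom.ker (algebraMap R B) = ⊥ := by
  rw [eq_bot_iff]
  refine Ideal.mul_le_inf.trans ?_
  intro r hr
  exact (Submodule.mem_bot R).mpr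
    (hker r ((RingHom.mem_ker).mp hr.1) ((RingHom.mem_ker).mp hr.2))

/-- flatness glues along `Spec A ∪ Spec B = Spec R` -/
theorem flat_of_flat_baseChange {R A B : Type u} [CommRing R] [CommRing A] [CommRing B]
    [Algebra R A] [Algebra R B]
    (hA : Function.Surjective (algebraMap R A)) (hB : Function.Surjective (algebraMap R B))
    (hker : ∀ r : R, algebraMap R A r = 0 → algebraMap R B r = 0 → r = 0)
    (M : Type u) [AddCommGroup M] [Module R M]
    [Module.Flat A (A ⊗[R] M)] [Module.Flat B (B ⊗[R] M)] : Module.Flat R M := by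
  rw [Module.Flat.iff_rTensor_injective']
  intro 𝔞
  let IA : Ideal A := 𝔞.map (algebraMap R A)
  let g : 𝔞 →ₗ[R] IA :=
    { toFun := fun r => ⟨algebraMap R A r.1, Ideal.mem_map_of_mem _ r.2⟩
      map_add' := fun x y => Subtype.ext (map_add (algebraMap R A) x.1 y.1)
      map_smul' := fun c x => Subtype.ext (by
        change algebraMap R A (c • x.1) = c • algebraMap R A x.1
        rw [smul_eq_mul, map_mul, Algebra.smul_def]) }
  have hg : Function.Surjective g := by
    rintro ⟨a, ha⟩
    obtain ⟨r, hr, rfl⟩ := (Ideal.mem_map_iff_of_surjective _ hA).mp ha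
    exact ⟨⟨r, hr⟩, rfl⟩
  let K : Submodule R 𝔞 := LinearMap.ker g
  have hexact : Function.Exact K.subtype g := LinearMap.exact_subtype_ker_map g
  have hex := rTensor_exact M hexact hg
  let JB : Ideal B := (𝔞 ⊓ RingHom.ker (algebraMap R A)).map (algebraMap R B)
  have hK : ∀ x : K, algebraMap R A x.1.1 = 0 := fun x => by
    have := LinearMap.mem_ker.mp x.2
    exact congrArg Subtype.val this
  let h : K →ₗ[R] JB :=
    { toFun := fun x => ⟨algebraMap R B x.1.1,
        Ideal.mem_map_of_mem _ ⟨x.1.2, (RingHom.mem_ker).mpr (hK x)⟩⟩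
      map_add' := fun x y => Subtype.ext (map_add (algebraMap R B) x.1.1 y.1.1)
      map_smul' := fun c x => Subtype.ext (by
        change algebraMap R B (c • x.1.1) = c • algebraMap R B x.1.1
        rw [smul_eq_mul, map_mul, Algebra.smul_def]) }
  have hh_inj : Function.Injective h := by
    rw [injective_iff_map_eq_zero]
    intro x hx
    have h0 : algebraMap R B x.1.1 = 0 := congrArg Subtype.val hx
    have : x.1.1 = 0 := hker _ (hK x) h0
    exact Subtype.ext (Subtype.ext this)
  have hh_surj : Function.Surjective h := by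
    rintro ⟨b, hb⟩
    obtain ⟨r, hr, rfl⟩ := (Ideal.mem_map_iff_of_surjective _ hB).mp hb
    refine ⟨⟨⟨r, hr.1⟩, ?_⟩, rfl⟩
    exact LinearMap.mem_ker.mpr (Subtype.ext ((RingHom.mem_ker).mp hr.2))
  let eh : K ≃ₗ[R] JB := LinearEquiv.ofBijective h ⟨hh_inj, hh_surj⟩
  rw [injective_iff_map_eq_zero]
  intro ξ hξ
  have hfA : (IA.subtype.restrictScalars R).comp g = (Algebra.linearMap R A).comp 𝔞.subtype :=
    LinearMap.ext fun x => rfl
  have h1 : g.rTensor M ξ = 0 := by
    apply rTensor_injective_of_flat_baseChange M IA.subtype IA.injective_subtype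
    rw [map_zero, ← LinearMap.rTensor_comp_apply, hfA, LinearMap.rTensor_comp_apply, hξ, map_zero]
  obtain ⟨ζ, rfl⟩ := (hex ξ).mp h1
  have hfB : (JB.subtype.restrictScalars R).comp h =
      (Algebra.linearMap R B).comp (𝔞.subtype.comp K.subtype) := LinearMap.ext fun x => rfl
  have h2 : h.rTensor M ζ = 0 := by
    apply rTensor_injective_of_flat_baseChange M JB.subtype JB.injective_subtype
    rw [map_zero, ← LinearMap.rTensor_comp_apply, hfB, LinearMap.rTensor_comp_apply,
      LinearMap.rTensor_comp_apply, hξ, map_zero]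
  have h3 : ζ = 0 := by
    have h4 : (eh.symm.toLinearMap.comp h) = LinearMap.id :=
      LinearMap.ext fun x => eh.symm_apply_apply x
    have h5 := congrArg (eh.symm.toLinearMap.rTensor M) h2
    rw [map_zero, ← LinearMap.rTensor_comp_apply, h4, LinearMap.rTensor_id,
      LinearMap.id_apply] at h5
    exact h5
  rw [h3, map_zero]

/-- consequence of flatness: `ker π ∩ K P ⊆ K · ker π` for a presentation `π : P ↠ R'` -/
lemma inf_map_C_le_mul {R R' : Type u} [CommRing R] [CommRing R'] [Algebra R R']
    [Module.Flat R R'] {n : ℕ}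
    (π : MvPolynomial (Fin n) R →ₐ[R] R') (hπ : Function.Surjective π) (K : Ideal R) :
    RingHom.ker π.toRingHom ⊓ K.map (MvPolynomial.C : R →+* MvPolynomial (Fin n) R) ≤
      K.map (MvPolynomial.C : R →+* MvPolynomial (Fin n) R) * RingHom.ker π.toRingHom := by
  let N : Submodule R (MvPolynomial (Fin n) R) := LinearMap.ker π.toLinearMap
  have hexact : Function.Exact N.subtype π.toLinearMap :=
    LinearMap.exact_subtype_ker_map π.toLinearMap
  have hex := lTensor_exact K hexact hπ
  let mP : K ⊗[R] (MvPolynomial (Fin n) R) →ₗ[R] (MvPolynomial (Fin n) R) :=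
    (TensorProduct.lid R (MvPolynomial (Fin n) R)).toLinearMap.comp
      (K.subtype.rTensor (MvPolynomial (Fin n) R))
  let mR : K ⊗[R] R' →ₗ[R] R' :=
    (TensorProduct.lid R R').toLinearMap.comp (K.subtype.rTensor R')
  have hmP : ∀ (k : K) (p : MvPolynomial (Fin n) R), mP (k ⊗ₜ p) = MvPolynomial.C k.1 * p :=
    fun k p => by
      simp only [mP, LinearMap.comp_apply, LinearMap.rTensor_tmul, Submodule.subtype_apply,
        LinearEquiv.coe_coe, TensorProduct.lid_tmul, MvPolynomial.C_mul']
  have hmR_inj : Function.Injective mR := by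
    have := Module.Flat.rTensor_preserves_injective_linearMap (M := R') K.subtype
      K.injective_subtype
    exact (TensorProduct.lid R R').injective.comp this
  have hcomm : ∀ t : K ⊗[R] (MvPolynomial (Fin n) R),
      π (mP t) = mR (π.toLinearMap.lTensor K t) := by
    intro t
    induction t using TensorProduct.induction_on with
    | zero => simp only [map_zero]
    | tmul k p =>
      simp only [mP, mR, LinearMap.comp_apply, LinearMap.rTensor_tmul, LinearMap.lTensor_tmul,
        Submodule.subtype_apply, LinearEquiv.coe_coe, TensorProduct.lid_tmul,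
        AlgHom.toLinearMap_apply, map_smul]
    | add x y hx hy => simp only [map_add, hx, hy]
  have hstep1 : ∀ z ∈ K.map (MvPolynomial.C : R →+* MvPolynomial (Fin n) R),
      ∀ p' : MvPolynomial (Fin n) R, ∃ t : K ⊗[R] (MvPolynomial (Fin n) R), mP t = p' * z := by
    intro z hz2
    change z ∈ Submodule.span (MvPolynomial (Fin n) R)
        ((MvPolynomial.C : R →+* MvPolynomial (Fin n) R) '' (K : Set R)) at hz2
    induction hz2 using Submodule.span_induction with
    | mem y hy =>
      obtain ⟨k, hk, rfl⟩ := hy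
      intro p'
      exact ⟨(⟨k, hk⟩ : K) ⊗ₜ p', by rw [hmP, mul_comm]⟩
    | zero => intro p'; exact ⟨0, by rw [map_zero, mul_zero]⟩
    | add y₁ y₂ _ _ hy₁ hy₂ =>
      intro p'
      obtain ⟨t₁, h₁⟩ := hy₁ p'
      obtain ⟨t₂, h₂⟩ := hy₂ p'
      exact ⟨t₁ + t₂, by rw [map_add, h₁, h₂, mul_add]⟩
    | smul a y _ hy =>
      intro p'
      obtain ⟨t, ht⟩ := hy (p' * a)
      exact ⟨t, by rw [ht, smul_eq_mul, mul_assoc]⟩
  have key : ∀ s : K ⊗[R] N, mP (N.subtype.lTensor K s) ∈
      K.map (MvPolynomial.C : R →+* MvPolynomial (Fin n) R) * RingHom.ker π.toRingHom := by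
    intro s
    induction s using TensorProduct.induction_on with
    | zero => simp only [map_zero]; exact Ideal.zero_mem _
    | tmul k x =>
      rw [LinearMap.lTensor_tmul, hmP, Submodule.subtype_apply]
      exact Ideal.mul_mem_mul (Ideal.mem_map_of_mem _ k.2)
        ((RingHom.mem_ker).mpr (LinearMap.mem_ker.mp x.2))
    | add x y hx hy => simp only [map_add]; exact Ideal.add_mem _ hx hy
  intro z hz
  obtain ⟨hz1, hz2⟩ := hz
  obtain ⟨t, ht⟩ := hstep1 z hz2 1
  rw [one_mul] at ht
  have h0 : mR (π.toLinearMap.lTensor K t) = 0 := by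
    rw [← hcomm, ht]; exact (RingHom.mem_ker).mp hz1
  have h0' : π.toLinearMap.lTensor K t = 0 := hmR_inj (by rw [h0, map_zero])
  obtain ⟨s, rfl⟩ := (hex t).mp h0'
  rw [← ht]; exact key s

lemma ideal_eq_of_le_sup_mul {S : Type u} [CommRing S] (𝔨 k₀ a b : Ideal S) (hk₀ : k₀ ≤ 𝔨)
    (hab : a * b = ⊥) (h1 : 𝔨 ≤ k₀ ⊔ a * 𝔨) (h2 : 𝔨 ≤ k₀ ⊔ b * 𝔨) : 𝔨 = k₀ := by
  refine le_antisymm ?_ hk₀
  calc 𝔨 ≤ k₀ ⊔ a * 𝔨 := h1
    _ ≤ k₀ ⊔ a * (k₀ ⊔ b * 𝔨) := sup_le_sup_left (Ideal.mul_mono_right h2) _
    _ = k₀ ⊔ (a * k₀ ⊔ a * b * 𝔨) := by rw [Ideal.mul_sup, mul_assoc]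
    _ ≤ k₀ := by
      rw [hab, Ideal.bot_mul, sup_bot_eq]
      exact sup_le le_rfl Ideal.mul_le_right

section Pushout

variable {R A B R' A' B' : Type u} [CommRing R] [CommRing A] [CommRing B] [CommRing R']
  [CommRing A'] [CommRing B']
  [Algebra R A] [Algebra R B] [Algebra R R'] [Algebra A A'] [Algebra B B'] [Algebra R' A']
  [Algebra R' B'] [Algebra R A'] [Algebra R B']
  [IsScalarTower R A A'] [IsScalarTower R R' A'] [IsScalarTower R B B'] [IsScalarTower R R' B']
  [Algebra.IsPushout R A R' A'] [Algebra.IsPushout R B R' B']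

omit [Algebra R B] [Algebra B B'] [Algebra R' B'] [Algebra R B'] [IsScalarTower R B B']
  [IsScalarTower R R' B'] [Algebra.IsPushout R B R' B'] in
/-- a finitely generated part of `ker π` generating it modulo `K_A` -/
lemma exists_fg_le_ker (hA : Function.Surjective (algebraMap R A))
    [Algebra.FinitePresentation A A'] {n : ℕ}
    (π : MvPolynomial (Fin n) R →ₐ[R] R') (hπ : Function.Surjective π) :
    ∃ 𝔨₀ : Ideal (MvPolynomial (Fin n) R), 𝔨₀.FG ∧ 𝔨₀ ≤ RingHom.ker π.toRingHom ∧
      RingHom.ker π.toRingHom ≤ 𝔨₀ ⊔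
        (RingHom.ker (algebraMap R A)).map (MvPolynomial.C : R →+* MvPolynomial (Fin n) R) := by
  classical
  let F : MvPolynomial (Fin n) R →+* MvPolynomial (Fin n) A := MvPolynomial.map (algebraMap R A)
  have hF : Function.Surjective F := MvPolynomial.map_surjective _ hA
  have hFC : ∀ r : R, F (MvPolynomial.C r) = MvPolynomial.C (algebraMap R A r) :=
    fun r => MvPolynomial.map_C _ r
  have hFX : ∀ i, F (MvPolynomial.X i) = MvPolynomial.X i := fun i => MvPolynomial.map_X _ i
  have hkerF : RingHom.ker F =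
      (RingHom.ker (algebraMap R A)).map (MvPolynomial.C : R →+* MvPolynomial (Fin n) R) :=
    MvPolynomial.ker_map _
  let πA : MvPolynomial (Fin n) A →ₐ[A] A' :=
    MvPolynomial.aeval (fun i => algebraMap R' A' (π (MvPolynomial.X i)))
  have hπAC : ∀ a : A, πA (MvPolynomial.C a) = algebraMap A A' a :=
    fun a => MvPolynomial.aeval_C _ a
  have hπAX : ∀ i, πA (MvPolynomial.X i) = algebraMap R' A' (π (MvPolynomial.X i)) :=
    fun i => MvPolynomial.aeval_X _ i
  have hπC : ∀ r : R, π (MvPolynomial.C r) = algebraMap R R' r := fun r => by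
    rw [← MvPolynomial.algebraMap_eq]; exact π.commutes r
  have hcomm : ∀ p : MvPolynomial (Fin n) R, πA (F p) = algebraMap R' A' (π p) := by
    have : (πA.toRingHom).comp F = (algebraMap R' A').comp π.toRingHom := by
      apply MvPolynomial.ringHom_ext
      · intro r
        change πA (F (MvPolynomial.C r)) = algebraMap R' A' (π (MvPolynomial.C r))
        rw [hFC, hπAC, hπC, ← IsScalarTower.algebraMap_apply, ← IsScalarTower.algebraMap_apply]
      · intro i
        change πA (F (MvPolynomial.X i)) = algebraMap R' A' (π (MvPolynomial.X i))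
        rw [hFX, hπAX]
    intro p; exact RingHom.congr_fun this p
  have hπA : Function.Surjective πA := by
    intro a'
    have hbc : IsBaseChange A (IsScalarTower.toAlgHom R R' A').toLinearMap :=
      (inferInstance : Algebra.IsPushout R A R' A').out
    refine hbc.inductionOn a' (fun a' => ∃ q, πA q = a') ⟨0, map_zero _⟩ ?_ ?_ ?_
    · intro r'
      obtain ⟨p, rfl⟩ := hπ r'
      exact ⟨F p, hcomm p⟩
    · rintro a x ⟨q, rfl⟩
      exact ⟨a • q, map_smul _ _ _⟩
    · rintro x y ⟨q₁, rfl⟩ ⟨q₂, rfl⟩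
      exact ⟨q₁ + q₂, map_add _ _ _⟩
  have hfg : (RingHom.ker πA.toRingHom).FG :=
    Algebra.FinitePresentation.ker_fG_of_surjective πA hπA
  have hlift : ∀ q : MvPolynomial (Fin n) A, πA q = 0 →
      ∃ p : MvPolynomial (Fin n) R, π p = 0 ∧ F p = q := by
    intro q hq
    obtain ⟨p₀, rfl⟩ := hF q
    have h1 : algebraMap R' A' (π p₀) = 0 := by rw [← hcomm, hq]
    have h2 : (1 : A) ⊗ₜ[R] (π p₀) = 0 := by
      apply (Algebra.IsPushout.equiv R A R' A').injective
      rw [Algebra.IsPushout.equiv_tmul, map_one, one_mul, h1, map_zero]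
    have h3 := mem_ker_smul_top_of_tmul_eq_zero hA (π p₀) h2
    have h4 : ∀ y ∈ (RingHom.ker (algebraMap R A)) • (⊤ : Submodule R R'),
        ∃ z : MvPolynomial (Fin n) R, π z = y ∧ F z = 0 := by
      intro y hy
      refine Submodule.smul_induction_on hy ?_ ?_
      · intro k hk r' _
        obtain ⟨p', rfl⟩ := hπ r'
        refine ⟨MvPolynomial.C k * p', ?_, ?_⟩
        · rw [MvPolynomial.C_mul', map_smul]
        · rw [map_mul, hFC, (RingHom.mem_ker).mp hk, map_zero, zero_mul]
      · rintro x y ⟨z₁, rfl, h₁⟩ ⟨z₂, rfl, h₂⟩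
        exact ⟨z₁ + z₂, map_add _ _ _, by rw [map_add, h₁, h₂, add_zero]⟩
    obtain ⟨z, hz1, hz2⟩ := h4 _ h3
    exact ⟨p₀ - z, by rw [map_sub, hz1, sub_self], by rw [map_sub, hz2, sub_zero]⟩
  obtain ⟨s, hs⟩ := hfg
  have hL : ∀ q : {q // q ∈ s}, ∃ p : MvPolynomial (Fin n) R, π p = 0 ∧ F p = q.1 := fun q =>
    hlift q.1 (by
      have : q.1 ∈ RingHom.ker πA.toRingHom := by rw [← hs]; exact Submodule.subset_span q.2
      exact (RingHom.mem_ker).mp this)
  choose lift h1 h2 using hL
  refine ⟨Ideal.span (Set.range lift), ?_, ?_, ?_⟩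
  · exact Submodule.fg_span (Set.finite_range lift)
  · rw [Ideal.span_le]
    rintro _ ⟨q, rfl⟩
    exact (RingHom.mem_ker).mpr (h1 q)
  · intro x hx
    have hx' : π x = 0 := (RingHom.mem_ker).mp hx
    have h3 : F x ∈ (Ideal.span (Set.range lift)).map F := by
      have h4 : F x ∈ RingHom.ker πA.toRingHom := (RingHom.mem_ker).mpr (by
        change πA (F x) = 0
        rw [hcomm, hx', map_zero])
      rw [← hs] at h4
      refine (Submodule.span_le.mpr ?_) h4
      intro q hq
      have hq' : q ∈ s := Finset.mem_coe.mp hq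
      have h6 : F (lift ⟨q, hq'⟩) ∈ (Ideal.span (Set.range lift)).map F :=
        Ideal.mem_map_of_mem F (Ideal.subset_span ⟨⟨q, hq'⟩, rfl⟩)
      have e : F (lift ⟨q, hq'⟩) = q := h2 ⟨q, hq'⟩
      rw [e] at h6
      exact h6
    have h5 : x ∈ ((Ideal.span (Set.range lift)).map F).comap F := h3
    rw [Ideal.comap_map_of_surjective F hF, ← RingHom.ker_eq_comap_bot, hkerF] at h5
    exact h5

/-- flatness glues (pushout form) -/
theorem flat_of_isPushout (hA : Function.Surjective (algebraMap R A))
    (hB : Function.Surjective (algebraMap R B))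
    (hker : ∀ r : R, algebraMap R A r = 0 → algebraMap R B r = 0 → r = 0)
    [Module.Flat A A'] [Module.Flat B B'] : Module.Flat R R' := by
  haveI : Module.Flat A (A ⊗[R] R') :=
    Module.Flat.of_linearEquiv (Algebra.IsPushout.equiv R A R' A').toLinearEquiv
  haveI : Module.Flat B (B ⊗[R] R') :=
    Module.Flat.of_linearEquiv (Algebra.IsPushout.equiv R B R' B').toLinearEquiv
  exact flat_of_flat_baseChange hA hB hker R'

/-- finite presentation glues, given flatness -/
theorem finitePresentation_of_isPushout (hA : Function.Surjective (algebraMap R A))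
    (hB : Function.Surjective (algebraMap R B))
    (hker : ∀ r : R, algebraMap R A r = 0 → algebraMap R B r = 0 → r = 0)
    [Module.Flat R R'] [Algebra.FiniteType R R']
    [Algebra.FinitePresentation A A'] [Algebra.FinitePresentation B B'] :
    Algebra.FinitePresentation R R' := by
  obtain ⟨n, π, hπ⟩ := Algebra.FiniteType.iff_quotient_mvPolynomial''.mp
    (inferInstance : Algebra.FiniteType R R')
  refine Algebra.FinitePresentation.of_surjective hπ ?_
  obtain ⟨kA, hkA1, hkA2, hkA3⟩ := exists_fg_le_ker (A := A) (A' := A') hA π hπ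
  obtain ⟨kB, hkB1, hkB2, hkB3⟩ := exists_fg_le_ker (A := B) (A' := B') hB π hπ
  have hab : (RingHom.ker (algebraMap R A)).map (MvPolynomial.C : R →+* MvPolynomial (Fin n) R) *
      (RingHom.ker (algebraMap R B)).map (MvPolynomial.C : R →+* MvPolynomial (Fin n) R) = ⊥ := by
    rw [← Ideal.map_mul, ker_mul_ker_eq_bot hker, Ideal.map_bot]
  have hfa := inf_map_C_le_mul π hπ (RingHom.ker (algebraMap R A))
  have hfb := inf_map_C_le_mul π hπ (RingHom.ker (algebraMap R B))
  have h1 : RingHom.ker π.toRingHom ≤ (kA ⊔ kB) ⊔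
      (RingHom.ker (algebraMap R A)).map (MvPolynomial.C : R →+* MvPolynomial (Fin n) R) *
        RingHom.ker π.toRingHom := by
    intro x hx
    obtain ⟨y, hy, z, hz, rfl⟩ := Submodule.mem_sup.mp (hkA3 hx)
    have hz' : z ∈ RingHom.ker π.toRingHom := by
      have : z = (y + z) - y := by ring
      rw [this]; exact Ideal.sub_mem _ hx (hkA2 hy)
    exact Submodule.add_mem_sup (Submodule.mem_sup_left hy) (hfa ⟨hz', hz⟩)
  have h2 : RingHom.ker π.toRingHom ≤ (kA ⊔ kB) ⊔
      (RingHom.ker (algebraMap R B)).map (MvPolynomial.C : R →+* MvPolynomial (Fin n) R) *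
        RingHom.ker π.toRingHom := by
    intro x hx
    obtain ⟨y, hy, z, hz, rfl⟩ := Submodule.mem_sup.mp (hkB3 hx)
    have hz' : z ∈ RingHom.ker π.toRingHom := by
      have : z = (y + z) - y := by ring
      rw [this]; exact Ideal.sub_mem _ hx (hkB2 hy)
    exact Submodule.add_mem_sup (Submodule.mem_sup_right hy) (hfb ⟨hz', hz⟩)
  have h4 := ideal_eq_of_le_sup_mul _ _ _ _ (sup_le hkA2 hkB2) hab h1 h2
  rw [h4]; exact Submodule.FG.sup hkA1 hkB1

/-- formal unramifiedness glues -/
theorem formallyUnramified_of_isPushout (hA : Function.Surjective (algebraMap R A))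
    (hB : Function.Surjective (algebraMap R B))
    (hker : ∀ r : R, algebraMap R A r = 0 → algebraMap R B r = 0 → r = 0)
    [Algebra.FormallyUnramified A A'] [Algebra.FormallyUnramified B B'] :
    Algebra.FormallyUnramified R R' := by
  have hΩA : ∀ ω : Ω[R'⁄R], ω ∈ (RingHom.ker (algebraMap R A)) • (⊤ : Submodule R Ω[R'⁄R]) :=
    fun ω => mem_ker_smul_top_of_tmul_eq_zero hA ω
      ((KaehlerDifferential.tensorKaehlerEquivBase R A R' A').injective (Subsingleton.elim _ _))
  have hΩB : ∀ ω : Ω[R'⁄R], ω ∈ (RingHom.ker (algebraMap R B)) • (⊤ : Submodule R Ω[R'⁄R]) :=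
    fun ω => mem_ker_smul_top_of_tmul_eq_zero hB ω
      ((KaehlerDifferential.tensorKaehlerEquivBase R B R' B').injective (Subsingleton.elim _ _))
  have h1 : (RingHom.ker (algebraMap R A)) • (⊤ : Submodule R Ω[R'⁄R]) = ⊤ :=
    eq_top_iff.mpr fun ω _ => hΩA ω
  have h2 : (RingHom.ker (algebraMap R B)) • (⊤ : Submodule R Ω[R'⁄R]) = ⊤ :=
    eq_top_iff.mpr fun ω _ => hΩB ω
  have h3 : (⊤ : Submodule R Ω[R'⁄R]) = ⊥ := by
    calc (⊤ : Submodule R Ω[R'⁄R])
        = (RingHom.ker (algebraMap R A)) • ((RingHom.ker (algebraMap R B)) •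
            (⊤ : Submodule R Ω[R'⁄R])) := by rw [h2, h1]
      _ = (RingHom.ker (algebraMap R A) * RingHom.ker (algebraMap R B)) •
            (⊤ : Submodule R Ω[R'⁄R]) := (Submodule.mul_smul _ _ _).symm
      _ = ⊥ := by rw [ker_mul_ker_eq_bot hker, Submodule.bot_smul]
  have h0 : ∀ x : Ω[R'⁄R], x = 0 := fun x => by
    have hx : x ∈ (⊤ : Submodule R Ω[R'⁄R]) := Submodule.mem_top
    rw [h3] at hx
    exact (Submodule.mem_bot R).mp hx
  exact ⟨⟨fun x y => by rw [h0 x, h0 y]⟩⟩

end Pushout

namespace Sq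

variable {R A B C R' A' B' C' : Type u} [CommRing R] [CommRing A] [CommRing B] [CommRing C]
  [CommRing R'] [CommRing A'] [CommRing B'] [CommRing C']
  {f₁ : R →+* A} {f₂ : R →+* B} {φ : A →+* C} {ψ : B →+* C}
  {f₁' : R' →+* A'} {f₂' : R' →+* B'} {φ' : A' →+* C'} {ψ' : B' →+* C'}
  {ρ : R →+* R'} {uA : A →+* A'} {uB : B →+* B'} {uC : C →+* C'}
  (S : Sq f₁ f₂ φ ψ f₁' f₂' φ' ψ' ρ uA uB uC)

include S

lemma f₁_surjective (hψ : Function.Surjective ψ) : Function.Surjective f₁ := by
  intro a
  obtain ⟨b, hb⟩ := hψ (φ a)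
  obtain ⟨r, hr, -⟩ := S.hex a b hb.symm
  exact ⟨r, hr⟩

/-- flatness, finite presentation (given flatness) and formal unramifiedness of `R → R'` follow
from those of `A → A'` and `B → B'` when both `A → C` and `B → C` are surjective -/
theorem glue (hψ : Function.Surjective ψ) :
    (uA.Flat → uB.Flat → ρ.Flat) ∧
    (uA.Flat → uB.Flat → uA.FinitePresentation → uB.FinitePresentation →
      ρ.FinitePresentation) ∧
    (uA.FormallyUnramified → uB.FormallyUnramified → ρ.FormallyUnramified) := by
  have hpA := S.isPushout_fst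
  have hpB := S.isPushout_snd
  have hft := fun (h1 : uA.FiniteType) (h2 : uB.FiniteType) => S.finiteType h1 h2
  letI : Algebra R A := f₁.toAlgebra
  letI : Algebra R B := f₂.toAlgebra
  letI : Algebra R R' := ρ.toAlgebra
  letI : Algebra A A' := uA.toAlgebra
  letI : Algebra B B' := uB.toAlgebra
  letI : Algebra R' A' := f₁'.toAlgebra
  letI : Algebra R' B' := f₂'.toAlgebra
  letI : Algebra R A' := (uA.comp f₁).toAlgebra
  letI : Algebra R B' := (uB.comp f₂).toAlgebra
  haveI : IsScalarTower R A A' := .of_algebraMap_eq' rfl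
  haveI : IsScalarTower R B B' := .of_algebraMap_eq' rfl
  haveI : IsScalarTower R R' A' := .of_algebraMap_eq' (RingHom.ext fun r => (S.h1 r).symm)
  haveI : IsScalarTower R R' B' := .of_algebraMap_eq' (RingHom.ext fun r => (S.h2 r).symm)
  have hA' : Algebra.IsPushout R R' A A' := CommRingCat.isPushout_iff_isPushout.mp hpA
  have hB' : Algebra.IsPushout R R' B B' := CommRingCat.isPushout_iff_isPushout.mp hpB
  haveI : Algebra.IsPushout R A R' A' := hA'.symm
  haveI : Algebra.IsPushout R B R' B' := hB'.symm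
  have hsA : Function.Surjective (algebraMap R A) := S.f₁_surjective hψ
  have hsB : Function.Surjective (algebraMap R B) := S.f₂_surjective
  have hker : ∀ r : R, algebraMap R A r = 0 → algebraMap R B r = 0 → r = 0 := S.hinj
  have hflat : uA.Flat → uB.Flat → ρ.Flat := by
    intro h1 h2
    haveI : Module.Flat A A' := h1
    haveI : Module.Flat B B' := h2
    exact flat_of_isPushout (R' := R') (A' := A') (B' := B') hsA hsB hker
  refine ⟨hflat, ?_, ?_⟩
  · intro h1 h2 h3 h4
    haveI : Module.Flat R R' := hflat h1 h2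
    haveI : Algebra.FiniteType R R' :=
      hft (RingHom.FiniteType.of_finitePresentation h3) (RingHom.FiniteType.of_finitePresentation h4)
    haveI : Algebra.FinitePresentation A A' := h3
    haveI : Algebra.FinitePresentation B B' := h4
    exact finitePresentation_of_isPushout (R' := R') (A' := A') (B' := B') hsA hsB hker
  · intro h1 h2
    haveI : Algebra.FormallyUnramified A A' := h1
    haveI : Algebra.FormallyUnramified B B' := h2
    exact formallyUnramified_of_isPushout (R' := R') (A' := A') (B' := B') hsA hsB hker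

end Sq

end Groth.Agent.Lib.Helper1.FQ
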