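import Groth.Agent.Lib.Helper1.FQ2
import Groth.Agent.Lib.Helper1.FQ4
import Groth.Agent.Lib.Helper1.FP12

/-!
# Base change of Ferrand pushouts (helper1), part 5: for two closed immersions, the glued morphism
`P qU qV ⟶ P i j` is flat / flat + lfp / smooth / étale iff both `πU`, `πV` are
-/

set_option autoImplicit false
set_option linter.unusedSectionVars false
set_option linter.unusedVariables false
set_option linter.style.haveILetI false
universe u

noncomputable section

namespace Groth.Agent.Lib.Helper1.FP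

open AlgebraicGeometry CategoryTheory CategoryTheory.Limits TopologicalSpace Opposite

lemma Chart.ψ_surjective {X Y Z : Scheme.{u}} {i : Z ⟶ X} {j : Z ⟶ Y} [IsClosedImmersion i]
    [IsClosedImmersion j] (α : Chart i j) : Function.Surjective α.ψ := by
  intro c
  obtain ⟨b, hb⟩ := j.app_surjective α.V α.hV (Z.presheaf.map (homOfLE α.h.ge).op c)
  refine ⟨b, ?_⟩
  change (j.app α.V ≫ Z.presheaf.map (homOfLE α.W_le).op) b = c
  rw [CommRingCat.comp_apply, hb, ← CommRingCat.comp_apply, ← Functor.map_comp]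
  have : ((homOfLE α.h.ge).op ≫ (homOfLE α.W_le).op : op α.W ⟶ op α.W) = 𝟙 _ :=
    Subsingleton.elim _ _
  rw [this, CategoryTheory.Functor.map_id]
  rfl

/-- for a morphism which is surjective on stalks, the maps of residue fields are isomorphisms -/
lemma isIso_residueFieldMap {X Y : Scheme.{u}} (f : X ⟶ Y) [SurjectiveOnStalks f] (x : X) :
    IsIso (f.residueFieldMap x) := by
  rw [ConcreteCategory.isIso_iff_bijective]
  constructor
  · exact (f.residueFieldMap x).hom.injective
  · intro z
    obtain ⟨s, rfl⟩ := X.residue_surjective x z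
    obtain ⟨t, rfl⟩ := f.stalkMap_surjective x s
    refine ⟨Y.residue (f x) t, ?_⟩
    exact congr($(Scheme.residue_residueFieldMap f x) t)

/-- the fibre of `h` over a point of the closed subscheme `X` is the fibre of the base change -/
lemma smooth_fiber_of_isPullback {X' P' X P : Scheme.{u}} (a : X ⟶ P) [IsClosedImmersion a]
    (a' : X' ⟶ P') (f : X' ⟶ X) (h : P' ⟶ P) (hpa : IsPullback a' f h a) [Smooth f] (x : X) :
    Smooth (h.fiberToSpecResidueField (a x)) := by
  haveI : IsIso (a.residueFieldMap x) := isIso_residueFieldMap a x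
  let u : Spec (P.residueField (a x)) ⟶ X :=
    inv (Spec.map (a.residueFieldMap x)) ≫ X.fromSpecResidueField x
  have hu : u ≫ a = P.fromSpecResidueField (a x) := by
    rw [Category.assoc, ← Scheme.Hom.SpecMap_residueFieldMap_fromSpecResidueField,
      IsIso.inv_hom_id_assoc]
  have hbig : IsPullback (pullback.fst f u ≫ a') (pullback.snd f u) h (u ≫ a) :=
    (IsPullback.of_hasPullback f u).paste_horiz hpa
  rw [hu] at hbig
  have e : h.fiberToSpecResidueField (a x) = hbig.isoPullback.inv ≫ pullback.snd f u :=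
    hbig.isoPullback_inv_snd.symm
  rw [e]
  haveI h1 : Smooth (pullback.snd f u) := inferInstance
  haveI h2 : Smooth hbig.isoPullback.inv := inferInstance
  exact MorphismProperty.comp_mem _ _ _ h2 h1

namespace BCh

variable {X Y Z U₀ V₀ Q : Scheme.{u}} {i : Z ⟶ X} {j : Z ⟶ Y} [IsClosedImmersion i]
  [IsClosedImmersion j]
  {πU : U₀ ⟶ X} {πV : V₀ ⟶ Y} {qU : Q ⟶ U₀} {qV : Q ⟶ V₀} {qZ : Q ⟶ Z}
  [IsClosedImmersion qU]
  (hX : IsPullback qU qZ πU i) (hY : IsPullback qV qZ πV j)
  {α' : Chart qU qV} {α : Chart i j}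

theorem flat_tα [Flat πU] [Flat πV] (had : Adapted πU πV α' α) : Flat (tα hX hY had) := by
  rw [tα, HasRingHomProperty.Spec_iff (P := @Flat)]
  exact ((sq hX hY had).glue α.ψ_surjective).1
    (HasRingHomProperty.appLE (P := @Flat) (f := πU) inferInstance ⟨α.U, α.hU⟩ ⟨α'.U, α'.hU⟩
      had.hU)
    (HasRingHomProperty.appLE (P := @Flat) (f := πV) inferInstance ⟨α.V, α.hV⟩ ⟨α'.V, α'.hV⟩
      had.hV)

theorem lfp_tα [Flat πU] [Flat πV] [LocallyOfFinitePresentation πU]
    [LocallyOfFinitePresentation πV] (had : Adapted πU πV α' α) :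
    LocallyOfFinitePresentation (tα hX hY had) := by
  rw [tα, HasRingHomProperty.Spec_iff (P := @LocallyOfFinitePresentation)]
  exact ((sq hX hY had).glue α.ψ_surjective).2.1
    (HasRingHomProperty.appLE (P := @Flat) (f := πU) inferInstance ⟨α.U, α.hU⟩ ⟨α'.U, α'.hU⟩
      had.hU)
    (HasRingHomProperty.appLE (P := @Flat) (f := πV) inferInstance ⟨α.V, α.hV⟩ ⟨α'.V, α'.hV⟩
      had.hV)
    (HasRingHomProperty.appLE (P := @LocallyOfFinitePresentation) (f := πU) inferInstance
      ⟨α.U, α.hU⟩ ⟨α'.U, α'.hU⟩ had.hU)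
    (HasRingHomProperty.appLE (P := @LocallyOfFinitePresentation) (f := πV) inferInstance
      ⟨α.V, α.hV⟩ ⟨α'.V, α'.hV⟩ had.hV)

theorem formallyUnramified_tα [FormallyUnramified πU] [FormallyUnramified πV]
    (had : Adapted πU πV α' α) : FormallyUnramified (tα hX hY had) := by
  rw [tα, HasRingHomProperty.Spec_iff (P := @FormallyUnramified)]
  exact ((sq hX hY had).glue α.ψ_surjective).2.2
    (HasRingHomProperty.appLE (P := @FormallyUnramified) (f := πU) inferInstance
      ⟨α.U, α.hU⟩ ⟨α'.U, α'.hU⟩ had.hU)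
    (HasRingHomProperty.appLE (P := @FormallyUnramified) (f := πV) inferInstance
      ⟨α.V, α.hV⟩ ⟨α'.V, α'.hV⟩ had.hV)

variable (hc : Covering i j) (hc' : Covering qU qV)

include hc' in
theorem flat_k [Flat πU] [Flat πV] : Flat (k hX hY hc) := by
  rw [IsZariskiLocalAtSource.iff_of_openCover (P := @Flat) (coverAd hX hY hc hc')]
  intro p
  change Flat (ι qU qV p.1.1 ≫ k hX hY hc)
  rw [ι_k hX hY hc p.2]
  exact MorphismProperty.comp_mem _ _ _ (flat_tα hX hY p.2) inferInstance

include hc' in
theorem lfp_k [Flat πU] [Flat πV] [LocallyOfFinitePresentation πU]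
    [LocallyOfFinitePresentation πV] : LocallyOfFinitePresentation (k hX hY hc) := by
  rw [IsZariskiLocalAtSource.iff_of_openCover (P := @LocallyOfFinitePresentation)
    (coverAd hX hY hc hc')]
  intro p
  change LocallyOfFinitePresentation (ι qU qV p.1.1 ≫ k hX hY hc)
  rw [ι_k hX hY hc p.2]
  exact MorphismProperty.comp_mem _ _ _ (lfp_tα hX hY p.2) inferInstance

include hc' in
theorem formallyUnramified_k [FormallyUnramified πU] [FormallyUnramified πV] :
    FormallyUnramified (k hX hY hc) := by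
  rw [IsZariskiLocalAtSource.iff_of_openCover (P := @FormallyUnramified)
    (coverAd hX hY hc hc')]
  intro p
  change FormallyUnramified (ι qU qV p.1.1 ≫ k hX hY hc)
  rw [ι_k hX hY hc p.2]
  exact MorphismProperty.comp_mem _ _ _ (formallyUnramified_tα hX hY p.2) inferInstance

include hc' in
theorem smooth_k [IsClosedImmersion qV] [Smooth πU] [Smooth πV] : Smooth (k hX hY hc) := by
  haveI : Flat (k hX hY hc) := flat_k hX hY hc hc'
  haveI : LocallyOfFinitePresentation (k hX hY hc) := lfp_k hX hY hc hc'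
  haveI : IsClosedImmersion (toP₁ hc) := isClosedImmersion_toP₁ hc
  refine Smooth.of_smooth_fiberToSpecResidueField _ fun y => ?_
  obtain ⟨x, rfl⟩ | ⟨x, rfl⟩ := toP_jointly_surjective hc y
  · exact smooth_fiber_of_isPullback (toP₁ hc) (toP₁ hc') πU _
      (isPullback_toP₁_k hX hY hc hc') x
  · exact smooth_fiber_of_isPullback (toP₂ hc) (toP₂ hc') πV _
      (isPullback_toP₂_k hX hY hc hc') x

include hc' in
/-- the five equivalences for the glued morphism of pushouts along two closed immersions -/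
theorem props_k [IsClosedImmersion qV] :
    (LocallyOfFiniteType (k hX hY hc) ↔ LocallyOfFiniteType πU ∧ LocallyOfFiniteType πV) ∧
    (Flat (k hX hY hc) ↔ Flat πU ∧ Flat πV) ∧
    ((Flat (k hX hY hc) ∧ LocallyOfFinitePresentation (k hX hY hc)) ↔
      (Flat πU ∧ LocallyOfFinitePresentation πU) ∧
        (Flat πV ∧ LocallyOfFinitePresentation πV)) ∧
    (Smooth (k hX hY hc) ↔ Smooth πU ∧ Smooth πV) ∧
    (Etale (k hX hY hc) ↔ Etale πU ∧ Etale πV) := by
  have h1 := isPullback_toP₁_k hX hY hc hc'
  have h2 := isPullback_toP₂_k hX hY hc hc'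
  refine ⟨⟨fun h => ⟨?_, ?_⟩, fun h => ?_⟩, ⟨fun h => ⟨?_, ?_⟩, fun h => ?_⟩,
    ⟨fun h => ⟨⟨?_, ?_⟩, ⟨?_, ?_⟩⟩, fun h => ?_⟩, ⟨fun h => ⟨?_, ?_⟩, fun h => ?_⟩,
    ⟨fun h => ⟨?_, ?_⟩, fun h => ?_⟩⟩
  · exact MorphismProperty.of_isPullback (P := @LocallyOfFiniteType) h1 h
  · exact MorphismProperty.of_isPullback (P := @LocallyOfFiniteType) h2 h
  · haveI := h.1
    haveI := h.2
    exact locallyOfFiniteType_k hX hY hc hc'
  · exact MorphismProperty.of_isPullback (P := @Flat) h1 h
  · exact MorphismProperty.of_isPullback (P := @Flat) h2 h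
  · haveI := h.1
    haveI := h.2
    exact flat_k hX hY hc hc'
  · exact MorphismProperty.of_isPullback (P := @Flat) h1 h.1
  · exact MorphismProperty.of_isPullback (P := @LocallyOfFinitePresentation) h1 h.2
  · exact MorphismProperty.of_isPullback (P := @Flat) h2 h.1
  · exact MorphismProperty.of_isPullback (P := @LocallyOfFinitePresentation) h2 h.2
  · haveI := h.1.1
    haveI := h.1.2
    haveI := h.2.1
    haveI := h.2.2
    exact ⟨flat_k hX hY hc hc', lfp_k hX hY hc hc'⟩
  · exact MorphismProperty.of_isPullback (P := @Smooth) h1 h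
  · exact MorphismProperty.of_isPullback (P := @Smooth) h2 h
  · haveI := h.1
    haveI := h.2
    exact smooth_k hX hY hc hc'
  · exact MorphismProperty.of_isPullback (P := @Etale) h1 h
  · exact MorphismProperty.of_isPullback (P := @Etale) h2 h
  · haveI := h.1
    haveI := h.2
    haveI : Flat (k hX hY hc) := flat_k hX hY hc hc'
    haveI : LocallyOfFinitePresentation (k hX hY hc) := lfp_k hX hY hc hc'
    haveI : FormallyUnramified (k hX hY hc) := formallyUnramified_k hX hY hc hc'
    exact Etale.of_formallyUnramified_of_flat _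

end BCh

end Groth.Agent.Lib.Helper1.FP
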