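import Mathlib
import Groth.Prelude.Def_FDesc
import Groth.Agent.Lib.Helper1.GeomIrrSep
import Groth.Agent.Lib.Helper15.GeomIrrSep

/-!
# Geometric connectedness from a point with primary residue field
-/

set_option autoImplicit false
set_option linter.style.haveILetI false
set_option linter.unusedSectionVars false

universe u

open TensorProduct CategoryTheory CategoryTheory.Limits AlgebraicGeometry

namespace Groth.Agent.Lib.Helper1.GeomConnPoint

/-- a continuous open closed map to a connected space with one nonempty preconnected fibre has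
connected source -/
theorem connectedSpace_of_fibre {Y X : Type*} [TopologicalSpace Y] [TopologicalSpace X]
    [ConnectedSpace X] (π : Y → X) (hopen : IsOpenMap π) (hclosed : IsClosedMap π) (x : X)
    (hne : (π ⁻¹' {x}).Nonempty) (hx : IsPreconnected (π ⁻¹' {x})) : ConnectedSpace Y := by
  obtain ⟨y₀, hy₀⟩ := hne
  haveI : Nonempty Y := ⟨y₀⟩
  have key : ∀ T : Set Y, IsClopen T → T.Nonempty → (T ∩ π ⁻¹' {x}).Nonempty := by
    intro T hT hTne
    have h1 : IsClopen (π '' T) := ⟨hclosed _ hT.1, hopen _ hT.2⟩
    have h2 : π '' T = Set.univ := by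
      rcases isClopen_iff.mp h1 with h | h
      · exact absurd (Set.image_eq_empty.mp h) hTne.ne_empty
      · exact h
    obtain ⟨t, ht, htx⟩ := h2.ge (Set.mem_univ x)
    exact ⟨t, ht, htx⟩
  suffices h : PreconnectedSpace Y from { toPreconnectedSpace := h, toNonempty := inferInstance }
  rw [preconnectedSpace_iff_clopen]
  intro T hT
  by_contra hcon
  push_neg at hcon
  obtain ⟨hT1, hT2⟩ := hcon
  have hTne : T.Nonempty := hT1
  have hTcne : Tᶜ.Nonempty := Set.nonempty_compl.mpr hT2
  obtain ⟨a, ha1, ha2⟩ := key T hT hTne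
  obtain ⟨b, hb1, hb2⟩ := key Tᶜ hT.compl hTcne
  obtain ⟨c, -, hc1, hc2⟩ := hx T Tᶜ hT.2 hT.compl.2 (by rw [Set.union_compl_self]; exact Set.subset_univ _)
    ⟨a, ha2, ha1⟩ ⟨b, hb2, hb1⟩
  exact hc2 hc1

variable {k : Type u} [Field k] {X : Scheme.{u}} (f : X ⟶ Spec (CommRingCat.of k))

/-- the fibre of `X_{k'} → X` over `x` is `Spec (k' ⊗ κ(x))` -/
theorem isIrreducible_fibre_iff (x : X) (φ : k →+* X.residueField x)
    (hφ : Spec.map (CommRingCat.ofHom φ) = X.fromSpecResidueField x ≫ f)
    (k' : Type u) [Field k'] [Algebra k k'] :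
    letI := φ.toAlgebra
    IsIrreducible ((pullback.fst f (Spec.map (CommRingCat.ofHom (algebraMap k k')))).base ⁻¹' {x}) ↔
      IrreducibleSpace (PrimeSpectrum (k' ⊗[k] X.residueField x)) := by
  letI := φ.toAlgebra
  let g : Spec (CommRingCat.of k') ⟶ Spec (CommRingCat.of k) :=
    Spec.map (CommRingCat.ofHom (algebraMap k k'))
  let π : pullback f g ⟶ X := pullback.fst f g
  have e0 : π.fiber x ≃ₜ (π.base ⁻¹' {x}) := π.fiberHomeo x
  have e1 : π.fiber x ≅ pullback (X.fromSpecResidueField x) (pullback.fst f g) :=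
    pullbackSymmetry _ _
  have e2 : pullback (X.fromSpecResidueField x) (pullback.fst f g) ≅
      pullback (X.fromSpecResidueField x ≫ f) g := pullbackRightPullbackFstIso f g _
  have e3 : pullback (X.fromSpecResidueField x ≫ f) g ≅
      Spec (CommRingCat.of (X.residueField x ⊗[k] k')) := by
    rw [← hφ]
    exact pullbackSpecIso k (X.residueField x) k'
  have e4 : PrimeSpectrum (X.residueField x ⊗[k] k') ≃ₜ PrimeSpectrum (k' ⊗[k] X.residueField x) :=
    PrimeSpectrum.homeomorphOfRingEquiv
      (Algebra.TensorProduct.comm k (X.residueField x) k').toRingEquiv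
  change IsIrreducible (π.base ⁻¹' {x}) ↔ _
  rw [isIrreducible_iff_irreducibleSpace, ← e0.irreducibleSpace_iff,
    (e1 ≪≫ e2 ≪≫ e3).hom.homeomorph.irreducibleSpace_iff]
  exact e4.irreducibleSpace_iff

/-- EGA IV 4.5.14 (connected case), elementwise form -/
theorem geometricallyConnected_of_point' [ConnectedSpace X] (x : X)
    (φ : k →+* X.residueField x)
    (hφ : Spec.map (CommRingCat.ofHom φ) = X.fromSpecResidueField x ≫ f)
    (H : letI := φ.toAlgebra
      ∀ α : X.residueField x, IsSeparable k α →
        α ∈ Set.range (algebraMap k (X.residueField x))) :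
    GeometricallyConnected f := by
  letI := φ.toAlgebra
  let L := SeparableClosure k
  let g : Spec (CommRingCat.of L) ⟶ Spec (CommRingCat.of k) :=
    Spec.map (CommRingCat.ofHom (algebraMap k L))
  have hirr : IsIrreducible ((pullback.fst f g).base ⁻¹' {x}) :=
    (isIrreducible_fibre_iff f x φ hφ L).mpr (Groth.Agent.Lib.Helper15.GeomIrrSep.backward H L)
  haveI : IsIntegralHom g := by
    rw [IsIntegralHom.SpecMap_iff]
    exact algebraMap_isIntegral_iff.mpr inferInstance
  haveI : ConnectedSpace ↥(pullback f g) :=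
    connectedSpace_of_fibre (pullback.fst f g).base (pullback.fst f g).isOpenMap
      (pullback.fst f g).isClosedMap x hirr.1 hirr.isConnected.isPreconnected
  exact Groth.Agent.Lib.Helper1.GeomIrrSep.geometricallyConnected_of_sepClosed f g

/-- EGA IV 4.5.14 (connected case) -/
theorem geometricallyConnected_of_point [ConnectedSpace X] (x : X)
    (hx : FBase.ResidueFieldProp f x (fun K _ _ => separableClosure k K = ⊥)) :
    GeometricallyConnected f := by
  obtain ⟨φ, hφ, hsep⟩ := hx
  refine geometricallyConnected_of_point' f x φ hφ ?_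
  letI := φ.toAlgebra
  intro α hα
  have h1 : α ∈ separableClosure k (X.residueField x) := mem_separableClosure_iff.mpr hα
  rw [hsep] at h1
  exact IntermediateField.mem_bot.mp h1

end Groth.Agent.Lib.Helper1.GeomConnPoint
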