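import Mathlib
import Groth.Prelude.Def_Curv2
import Groth.Agent.Lib.Helper1.FPS2
import Groth.Agent.Lib.Helper1.GeomIrrSep
import Groth.Agent.Lib.Helper15.GeomIrrSep

/-!
# Geometric irreducibility and the residue field of the generic point
-/

set_option autoImplicit false
set_option linter.style.haveILetI false
set_option linter.unusedSectionVars false

universe u

open TensorProduct CategoryTheory CategoryTheory.Limits AlgebraicGeometry

namespace Groth.Agent.Lib.Helper1.GeomIrrGeneric

attribute [local instance] Curv2.resAlgebra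

variable (k : Type u) [Field k] (X : Scheme.{u}) [X.Over (Spec (CommRingCat.of k))]

theorem specMap_resMap (x : X) :
    Spec.map (CommRingCat.ofHom (Curv2.resMap k X x)) =
      X.fromSpecResidueField x ≫ (X ↘ Spec (CommRingCat.of k)) := by
  have h1 := Groth.Agent.Lib.Helper1.FPS.specMap_stalkMap k X x
  have h2 : CommRingCat.ofHom (Curv2.resMap k X x) =
      CommRingCat.ofHom (Curv2.stalkMap k X x) ≫ X.residue x := rfl
  rw [h2, Spec.map_comp, h1, ← Category.assoc]
  rfl

/-- the fibre of `X_{k'} → X` over `x` is `Spec (k' ⊗ κ(x))` -/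
theorem isIrreducible_fibre_iff (x : X) (k' : Type u) [Field k'] [Algebra k k'] :
    IsIrreducible ((Curv2.bcFst k X k').base ⁻¹' {x}) ↔
      IrreducibleSpace (PrimeSpectrum (k' ⊗[k] X.residueField x)) := by
  let F := X ↘ Spec (CommRingCat.of k)
  let g : Spec (CommRingCat.of k') ⟶ Spec (CommRingCat.of k) :=
    Spec.map (CommRingCat.ofHom (algebraMap k k'))
  let π : Curv2.bc k X k' ⟶ X := Curv2.bcFst k X k'
  have e0 : π.fiber x ≃ₜ (π.base ⁻¹' {x}) := π.fiberHomeo x
  have e1 : π.fiber x ≅ pullback (X.fromSpecResidueField x) (pullback.fst F g) :=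
    pullbackSymmetry _ _
  have e2 : pullback (X.fromSpecResidueField x) (pullback.fst F g) ≅
      pullback (X.fromSpecResidueField x ≫ F) g := pullbackRightPullbackFstIso F g _
  have e3 : pullback (X.fromSpecResidueField x ≫ F) g ≅
      Spec (CommRingCat.of (X.residueField x ⊗[k] k')) := by
    rw [← specMap_resMap k X x]
    exact pullbackSpecIso k (X.residueField x) k'
  have e4 : PrimeSpectrum (X.residueField x ⊗[k] k') ≃ₜ PrimeSpectrum (k' ⊗[k] X.residueField x) :=
    PrimeSpectrum.homeomorphOfRingEquiv
      (Algebra.TensorProduct.comm k (X.residueField x) k').toRingEquiv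
  rw [isIrreducible_iff_irreducibleSpace, ← e0.irreducibleSpace_iff,
    (e1 ≪≫ e2 ≪≫ e3).hom.homeomorph.irreducibleSpace_iff]
  exact e4.irreducibleSpace_iff

variable [IrreducibleSpace X]

theorem irreducibleSpace_bc_of_fibre (k' : Type u) [Field k'] [Algebra k k']
    (h : IsIrreducible ((Curv2.bcFst k X k').base ⁻¹' {genericPoint X})) :
    IrreducibleSpace ↥(Curv2.bc k X k') := by
  haveI : UniversallyOpen (Curv2.bcFst k X k') :=
    inferInstanceAs (UniversallyOpen (pullback.fst (X ↘ Spec (CommRingCat.of k))
      (Spec.map (CommRingCat.ofHom (algebraMap k k')))))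
  have hopen : IsOpenMap (Curv2.bcFst k X k').base := (Curv2.bcFst k X k').isOpenMap
  have hdense : closure ((Curv2.bcFst k X k').base ⁻¹' {genericPoint X}) = Set.univ := by
    apply Set.eq_univ_of_univ_subset
    calc Set.univ = (Curv2.bcFst k X k').base ⁻¹' closure {genericPoint X} := by
          rw [genericPoint_closure, Set.preimage_univ]
      _ ⊆ closure ((Curv2.bcFst k X k').base ⁻¹' {genericPoint X}) :=
          hopen.preimage_closure_subset_closure_preimage
  rw [irreducibleSpace_def]
  have := h.closure
  rwa [hdense] at this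

theorem isIrreducible_fibre_of_irreducibleSpace (k' : Type u) [Field k'] [Algebra k k']
    [IrreducibleSpace ↥(Curv2.bc k X k')] :
    IsIrreducible ((Curv2.bcFst k X k').base ⁻¹' {genericPoint X}) := by
  haveI : Surjective (Spec.map (CommRingCat.ofHom (algebraMap k k'))) :=
    Groth.Agent.Lib.Helper1.GeomIrrSep.surjective_of_field _
  haveI : Surjective (Curv2.bcFst k X k') :=
    inferInstanceAs (Surjective (pullback.fst (X ↘ Spec (CommRingCat.of k))
      (Spec.map (CommRingCat.ofHom (algebraMap k k')))))
  -- the generic point of `X_{k'}` maps to the generic point of `X`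
  have hgen : (Curv2.bcFst k X k').base (genericPoint ↥(Curv2.bc k X k')) = genericPoint X := by
    symm
    apply (genericPoint_spec X).eq
    have h1 := (genericPoint_spec ↥(Curv2.bc k X k')).image (Curv2.bcFst k X k').continuous
    rw [Set.image_univ, (Curv2.bcFst k X k').surjective.range_eq, closure_univ] at h1
    exact h1
  rw [← isIrreducible_iff_closure]
  have hsub : closure ((Curv2.bcFst k X k').base ⁻¹' {genericPoint X}) = Set.univ := by
    apply Set.eq_univ_of_univ_subset
    rw [← genericPoint_closure (α := ↥(Curv2.bc k X k'))]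
    exact closure_mono (Set.singleton_subset_iff.mpr hgen)
  rw [hsub]
  exact IrreducibleSpace.isIrreducible_univ _

/-- Stacks 054Q-type criterion. -/
theorem geometricallyIrreducible_iff :
    GeometricallyIrreducible (X ↘ Spec (CommRingCat.of k)) ↔
      ∀ a : X.residueField (genericPoint X), IsSeparable k a →
        a ∈ Set.range (algebraMap k (X.residueField (genericPoint X))) := by
  constructor
  · intro h a ha
    refine Groth.Agent.Lib.Helper15.GeomIrrSep.forward (fun k' _ _ => ?_) a ha
    haveI : IrreducibleSpace ↥(Curv2.bc k X k') :=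
      GeometricallyIrreducible.geometrically_irreducibleSpace _ _ _ (IsPullback.of_hasPullback _ _)
    exact (isIrreducible_fibre_iff k X _ k').mp (isIrreducible_fibre_of_irreducibleSpace k X k')
  · intro H
    refine ⟨geometrically_iff_of_isClosedUnderIsomorphisms.mpr fun K _ y => ?_⟩
    letI : Algebra k K := (Spec.preimage y).hom.toAlgebra
    have hy : y = Spec.map (CommRingCat.ofHom (algebraMap k K)) := (Spec.map_preimage y).symm
    rw [hy]
    exact irreducibleSpace_bc_of_fibre k X K ((isIrreducible_fibre_iff k X _ K).mpr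
      (Groth.Agent.Lib.Helper15.GeomIrrSep.backward H K))

end Groth.Agent.Lib.Helper1.GeomIrrGeneric
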