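import Mathlib

/-!
# Limits of affine schemes and one-point limits (helper1)
-/

set_option autoImplicit false
set_option linter.unusedSectionVars false
set_option linter.style.haveILetI false
universe u

namespace Groth.Agent.Lib.Helper1.FieldPt

open AlgebraicGeometry CategoryTheory CategoryTheory.Limits TopologicalSpace Opposite

/-- A small diagram of affine schemes has a limit in the category of schemes. -/
theorem hasLimit_of_isAffine {I : Type u} [SmallCategory I] (D : I ⥤ Scheme.{u})
    [∀ i, IsAffine (D.obj i)] : HasLimit D := by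
  let α : D ⟶ (D ⋙ Scheme.Γ.rightOp) ⋙ Scheme.Spec := D.whiskerLeft ΓSpec.adjunction.unit
  have (i : _) : IsIso (α.app i) := IsAffine.affine
  have : IsIso α := NatIso.isIso_of_isIso_app α
  haveI : HasLimit ((D ⋙ Scheme.Γ.rightOp) ⋙ Scheme.Spec) :=
    ⟨⟨⟨Scheme.Spec.mapCone (limit.cone (D ⋙ Scheme.Γ.rightOp)),
      isLimitOfPreserves Scheme.Spec (limit.isLimit (D ⋙ Scheme.Γ.rightOp))⟩⟩⟩
  exact hasLimit_of_iso (asIso α).symm

/-- A small connected diagram of affine schemes over `T` has a limit in `Over T`. -/
theorem hasLimit_over_of_isAffine {I : Type u} [SmallCategory I] [IsConnected I] {T : Scheme.{u}}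
    (D : I ⥤ Over T) [∀ i, IsAffine (D.obj i).left] : HasLimit D := by
  haveI : ∀ i, IsAffine ((D ⋙ Over.forget T).obj i) := fun i =>
    (inferInstance : IsAffine (D.obj i).left)
  haveI : HasLimit (D ⋙ Over.forget T) := hasLimit_of_isAffine _
  exact hasLimit_of_created D (Over.forget T)

end Groth.Agent.Lib.Helper1.FieldPt
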