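import Groth.Agent.Lib.Helper1.FieldPt1

/-!
# One-point limits and field points (helper1)
-/

set_option autoImplicit false
set_option linter.unusedSectionVars false
set_option linter.style.haveILetI false
universe u

namespace Groth.Agent.Lib.Helper1.FieldPt

open AlgebraicGeometry CategoryTheory CategoryTheory.Limits TopologicalSpace Opposite

/-- A nonempty affine scheme with at most one point receives a surjective closed immersion from
the spectrum of a field. -/
theorem exists_field_closedImmersion_surjective (L : Scheme.{u}) [IsAffine L] [Nonempty L]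
    [Subsingleton L] :
    ∃ (K : Type u) (_ : Field K) (q : Spec (CommRingCat.of K) ⟶ L),
      IsClosedImmersion q ∧ Surjective q := by
  let B : CommRingCat.{u} := Γ(L, ⊤)
  haveI : Nonempty (Spec B) := ⟨L.isoSpec.hom (Classical.arbitrary L)⟩
  haveI : Nontrivial B := (PrimeSpectrum.nonempty_iff_nontrivial).mp
    (‹Nonempty (Spec B)› : Nonempty (PrimeSpectrum B))
  obtain ⟨M, hM⟩ := Ideal.exists_maximal B
  letI : Field (B ⧸ M) := Ideal.Quotient.field M
  let q₀ : Spec (CommRingCat.of (B ⧸ M)) ⟶ Spec B :=
    Spec.map (CommRingCat.ofHom (Ideal.Quotient.mk M))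
  haveI : IsClosedImmersion q₀ :=
    IsClosedImmersion.spec_of_surjective _ Ideal.Quotient.mk_surjective
  refine ⟨B ⧸ M, inferInstance, q₀ ≫ L.isoSpec.inv, inferInstance, ⟨fun x => ?_⟩⟩
  haveI : Nonempty (Spec (CommRingCat.of (B ⧸ M))) :=
    (inferInstance : Nonempty (PrimeSpectrum (B ⧸ M)))
  exact ⟨Classical.arbitrary _, Subsingleton.elim _ _⟩

section

variable {I : Type u} [SmallCategory I] [IsCofiltered I] {T Z : Scheme.{u}} (D : I ⥤ Over T)
  (c : Cone D) (hc : IsLimit c)

include hc in
/-- If the members of a cofiltered system over `T` embed compatibly in `Z` and only one point of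
`Z` lies in all of them, the limit has at most one point. -/
theorem subsingleton_limit (ι : ∀ i, (D.obj i).left ⟶ Z) [∀ i, Mono (ι i)]
    (hι : ∀ {i j : I} (m : i ⟶ j), (D.map m).left ≫ ι j = ι i)
    (η : Z) (hη : ∀ x : Z, (∀ i, x ∈ Set.range (ι i)) → x = η) : Subsingleton c.pt.left := by
  haveI : IsConnected I := IsCofiltered.isConnected I
  let c' : Cone (D ⋙ Over.forget T) := (Over.forget T).mapCone c
  have hc' : IsLimit c' := isLimitOfPreserves (Over.forget T) hc
  let leg : ∀ i, c.pt.left ⟶ (D.obj i).left := fun i => (c.π.app i).left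
  have hleg : ∀ {i j : I} (m : i ⟶ j), leg i ≫ (D.map m).left = leg j := by
    intro i j m
    have := c.w m
    exact congrArg (fun k => k.left) this
  let i₀ : I := Classical.arbitrary I
  let φ : c.pt.left ⟶ Z := leg i₀ ≫ ι i₀
  have hφ : ∀ i, φ = leg i ≫ ι i := by
    intro i
    let k := IsCofiltered.min i₀ i
    have h1 : leg k ≫ (D.map (IsCofiltered.minToLeft i₀ i)).left = leg i₀ := hleg _
    have h2 : leg k ≫ (D.map (IsCofiltered.minToRight i₀ i)).left = leg i := hleg _
    change leg i₀ ≫ ι i₀ = leg i ≫ ι i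
    rw [← h1, ← h2, Category.assoc, Category.assoc, hι, hι]
  haveI : Mono φ := by
    constructor
    intro W a b hab
    refine hc'.hom_ext fun i => ?_
    change a ≫ leg i = b ≫ leg i
    rw [← cancel_mono (ι i), Category.assoc, Category.assoc, ← hφ i, hab]
  have hpt : ∀ x : c.pt.left, φ x = η := by
    intro x
    refine hη _ fun i => ⟨leg i x, ?_⟩
    rw [hφ i]
    rfl
  exact ⟨fun x y => φ.injective ((hpt x).trans (hpt y).symm)⟩

end

end Groth.Agent.Lib.Helper1.FieldPt
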