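import Groth.Agent.Lib.Helper1.FieldPt2

/-!
# Minimal points and the system of affine open neighbourhoods (helper1)
-/

set_option autoImplicit false
set_option linter.unusedSectionVars false
set_option linter.style.haveILetI false
universe u

namespace Groth.Agent.Lib.Helper1.FieldPt

open AlgebraicGeometry CategoryTheory CategoryTheory.Limits TopologicalSpace Opposite

/-- A nonempty scheme has a point without proper generalizations. -/
theorem exists_minimal_point (Z : Scheme.{u}) [Nonempty Z] :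
    ∃ η : Z, ∀ y : Z, y ⤳ η → y = η := by
  let z : Z := Classical.arbitrary Z
  obtain ⟨η, hη⟩ := QuasiSober.sober (isIrreducible_irreducibleComponent (x := z))
    (isClosed_irreducibleComponent (x := z))
  refine ⟨η, fun y hy => ?_⟩
  have h1 : closure {η} ⊆ closure {y} := specializes_iff_closure_subset.mp hy
  have h2 : closure ({η} : Set Z) = irreducibleComponent z := hη
  have h3 : closure ({y} : Set Z) = irreducibleComponent z :=
    (irreducibleComponent_property z).2.2 _ isIrreducible_singleton.closure.isPreirreducible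
      (h2 ▸ h1)
  exact (inseparable_iff_closure_eq.mpr (h3.trans h2.symm)).eq

/-- The affine open neighbourhoods of a point. -/
def AffNhd (Z : Scheme.{u}) (η : Z) : Type u := {V : Z.Opens // IsAffineOpen V ∧ η ∈ V}

instance (Z : Scheme.{u}) (η : Z) : Preorder (AffNhd Z η) :=
  inferInstanceAs (Preorder {V : Z.Opens // IsAffineOpen V ∧ η ∈ V})

theorem exists_affNhd_le {Z : Scheme.{u}} {η : Z} (U : Z.Opens) (hU : η ∈ U) :
    ∃ V : AffNhd Z η, V.1 ≤ U := by
  obtain ⟨_, ⟨V, hV, rfl⟩, hxV, hVU⟩ :=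
    Z.isBasis_affineOpens.exists_subset_of_mem_open hU U.2
  exact ⟨⟨V, hV, hxV⟩, hVU⟩

instance (Z : Scheme.{u}) (η : Z) : Nonempty (AffNhd Z η) := by
  obtain ⟨V, -⟩ := exists_affNhd_le (η := η) (⊤ : Z.Opens) trivial
  exact ⟨V⟩

instance (Z : Scheme.{u}) (η : Z) : IsDirected (AffNhd Z η) (· ≥ ·) := by
  constructor
  intro V W
  obtain ⟨U, hU⟩ := exists_affNhd_le (η := η) (V.1 ⊓ W.1) ⟨V.2.2, W.2.2⟩
  exact ⟨U, hU.trans inf_le_left, hU.trans inf_le_right⟩

instance (Z : Scheme.{u}) (η : Z) : IsCofiltered (AffNhd Z η) :=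
  isCofiltered_of_directed_ge_nonempty _

/-- The diagram of affine open neighbourhoods, over a base. -/
noncomputable def nhdDiag {Z T : Scheme.{u}} (a : Z ⟶ T) (η : Z) : AffNhd Z η ⥤ Over T where
  obj V := Over.mk (V.1.ι ≫ a)
  map {V W} m := Over.homMk (Z.homOfLE (leOfHom m)) (by simp)
  map_id V := by ext; simp
  map_comp m n := by ext; simp

lemma nhdDiag_obj_hom {Z T : Scheme.{u}} (a : Z ⟶ T) (η : Z) (V : AffNhd Z η) :
    ((nhdDiag a η).obj V).hom = V.1.ι ≫ a := rfl

lemma nhdDiag_map_left {Z T : Scheme.{u}} (a : Z ⟶ T) (η : Z) {V W : AffNhd Z η} (m : V ⟶ W) :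
    ((nhdDiag a η).map m).left = Z.homOfLE (leOfHom m) := rfl

/-- If a property of schemes over `T` holds for all affine open neighbourhoods of a minimal point
and passes to limits and along surjective closed immersions, it holds for the spectrum of a
field. -/
theorem exists_field_point {T Z : Scheme.{u}} (a : Z ⟶ T) (η : Z) (hmin : ∀ y : Z, y ⤳ η → y = η)
    (P : ∀ ⦃T' : Scheme.{u}⦄, (T' ⟶ T) → Prop)
    (h1 : ∀ ⦃T' T'' : Scheme.{u}⦄ (a : T' ⟶ T) (t : T'' ⟶ T') [IsClosedImmersion t] [Surjective t]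
      [CompactSpace T'] [QuasiSeparatedSpace T'] [CompactSpace T''] [QuasiSeparatedSpace T''],
      P (t ≫ a) ↔ P a)
    (h2 : ∀ ⦃I : Type u⦄ [SmallCategory I] [IsCofiltered I] (D : I ⥤ Over T) (c : Limits.Cone D)
      (_ : Limits.IsLimit c),
      (∀ (i j : I) (m : i ⟶ j), IsAffineHom (D.map m).left) →
      (∀ i, CompactSpace (D.obj i).left ∧ QuasiSeparatedSpace (D.obj i).left) →
      (∀ i, P (D.obj i).hom) → P c.pt.hom)
    (hV : ∀ V : AffNhd Z η, P (V.1.ι ≫ a)) :
    ∃ (K : Type u) (_ : Field K) (t : Spec (CommRingCat.of K) ⟶ T), P t := by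
  let D : AffNhd Z η ⥤ Over T := nhdDiag a η
  haveI haff : ∀ V, IsAffine (D.obj V).left := fun V => V.2.1
  haveI : IsConnected (AffNhd Z η) := IsCofiltered.isConnected _
  haveI : HasLimit D := hasLimit_over_of_isAffine D
  let c : Cone D := limit.cone D
  have hc : IsLimit c := limit.isLimit D
  have hP : P c.pt.hom := by
    refine h2 D c hc (fun V W m => ?_) (fun V => ⟨?_, ?_⟩) (fun V => hV V)
    · haveI := haff V
      haveI := haff W
      infer_instance
    · haveI := haff V
      infer_instance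
    · haveI := haff V
      infer_instance
  -- the limit is a one-point affine scheme
  let c' : Cone (D ⋙ Over.forget T) := (Over.forget T).mapCone c
  have hc' : IsLimit c' := isLimitOfPreserves (Over.forget T) hc
  haveI : ∀ V, IsAffine ((D ⋙ Over.forget T).obj V) := fun V => haff V
  haveI : IsAffine c.pt.left := Scheme.isAffine_of_isLimit c' hc'
  haveI : ∀ {V W : AffNhd Z η} (m : V ⟶ W), IsAffineHom ((D ⋙ Over.forget T).map m) := by
    intro V W m
    haveI := haff V
    haveI := haff W
    exact (inferInstance : IsAffineHom ((D.map m).left))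
  haveI : ∀ V, Nonempty ((D ⋙ Over.forget T).obj V) := fun V =>
    (⟨⟨η, V.2.2⟩⟩ : Nonempty ↥(V.1 : Scheme.{u}))
  haveI : ∀ V, CompactSpace ((D ⋙ Over.forget T).obj V) := fun V => by
    haveI := haff V
    exact (inferInstance : CompactSpace ↥(D.obj V).left)
  haveI : Nonempty c.pt.left := Scheme.nonempty_of_isLimit (D ⋙ Over.forget T) c' hc'
  let ι : ∀ V : AffNhd Z η, (D.obj V).left ⟶ Z := fun V => V.1.ι
  haveI : ∀ V, Mono (ι V) := fun V => (inferInstance : Mono V.1.ι)
  haveI : Subsingleton c.pt.left := by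
    refine subsingleton_limit D c hc ι (fun m => ?_) η (fun x hx => ?_)
    · exact Z.homOfLE_ι (leOfHom m)
    · refine hmin x ?_
      rw [specializes_iff_forall_open]
      intro U hU hηU
      obtain ⟨V, hVU⟩ := exists_affNhd_le (η := η) ⟨U, hU⟩ hηU
      obtain ⟨y, hy⟩ := hx V
      rw [← hy]
      exact hVU y.2
  obtain ⟨K, hK, q, hq1, hq2⟩ := exists_field_closedImmersion_surjective c.pt.left
  refine ⟨K, hK, q ≫ c.pt.hom, ?_⟩
  exact (h1 c.pt.hom q).mpr hP

end Groth.Agent.Lib.Helper1.FieldPt
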