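import Groth.Agent.Lib.Helper1.ISLim

/-!
# Limits of closed subschemes (helper1)

The closed subscheme cut out by the supremum of a family of ideal sheaves is the limit of the
closed subschemes of the family, in the category of schemes over the ambient scheme.
-/

set_option autoImplicit false
set_option linter.unusedSectionVars false
set_option linter.style.haveILetI false
universe u

namespace Groth.Agent.Lib.Helper1.NA

open AlgebraicGeometry CategoryTheory CategoryTheory.Limits TopologicalSpace Opposite
open Scheme.IdealSheafData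

section

variable {I : Type u} [Preorder I] {Y : Scheme.{u}} (J : I → Y.IdealSheafData) (hJ : Monotone J)

/-- The diagram of closed subschemes attached to a monotone family of ideal sheaves. -/
noncomputable def subDiag : Iᵒᵖ ⥤ Over Y := hJ.functor.op ⋙ subschemeFunctor Y

@[simp]
lemma subDiag_obj_hom (b : Iᵒᵖ) : ((subDiag J hJ).obj b).hom = (J b.unop).subschemeι := rfl

lemma subDiag_obj_left (b : Iᵒᵖ) : ((subDiag J hJ).obj b).left = (J b.unop).subscheme := rfl

lemma subDiag_map_left {b b' : Iᵒᵖ} (a : b ⟶ b') :
    ((subDiag J hJ).map a).left = inclusion (hJ (leOfHom a.unop)) := rfl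

/-- The cone over the diagram of closed subschemes with apex the subscheme of `K`. -/
noncomputable def subCone (K : Y.IdealSheafData) (hK : ∀ b, J b ≤ K) : Cone (subDiag J hJ) where
  pt := Over.mk K.subschemeι
  π :=
    { app := fun b => Over.homMk (inclusion (hK b.unop)) (inclusion_subschemeι _)
      naturality := fun b b' a => by
        ext
        change 𝟙 _ ≫ inclusion (hK b'.unop) = inclusion (hK b.unop) ≫ inclusion _
        rw [Category.id_comp, inclusion_comp] }

lemma iSup_le_ker (s : Cone (subDiag J hJ)) : (⨆ b, J b) ≤ s.pt.hom.ker := by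
  refine iSup_le fun b => ?_
  have h1 : (s.π.app (op b)).left ≫ (J b).subschemeι = s.pt.hom := Over.w (s.π.app (op b))
  let l : s.pt.left ⟶ (J b).subscheme := (s.π.app (op b)).left
  have h1' : l ≫ (J b).subschemeι = s.pt.hom := h1
  have h2 := Scheme.Hom.le_ker_comp l (J b).subschemeι
  rw [ker_subschemeι, h1'] at h2
  exact h2

/-- The lift to the subscheme of the supremum. -/
noncomputable def subLift (s : Cone (subDiag J hJ)) : s.pt.left ⟶ (⨆ b, J b).subscheme :=
  IsClosedImmersion.lift (⨆ b, J b).subschemeι s.pt.hom (by
    rw [ker_subschemeι]; exact iSup_le_ker J hJ s)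

lemma subLift_fac (s : Cone (subDiag J hJ)) :
    subLift J hJ s ≫ (⨆ b, J b).subschemeι = s.pt.hom :=
  IsClosedImmersion.lift_fac _ _ _

/-- The subscheme of the supremum is the limit. -/
noncomputable def isLimitSubCone : IsLimit (subCone J hJ (⨆ b, J b) (le_iSup J)) where
  lift s := Over.homMk (subLift J hJ s) (subLift_fac J hJ s)
  fac s b := by
    ext
    let l : s.pt.left ⟶ (J b.unop).subscheme := (s.π.app b).left
    have h1 : l ≫ (J b.unop).subschemeι = s.pt.hom := Over.w (s.π.app b)
    show subLift J hJ s ≫ inclusion (le_iSup J b.unop) = l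
    rw [← cancel_mono (J b.unop).subschemeι, Category.assoc, inclusion_subschemeι, subLift_fac,
      h1]
  uniq s m hm := by
    ext
    let l : s.pt.left ⟶ (⨆ b, J b).subscheme := m.left
    have h1 : l ≫ (⨆ b, J b).subschemeι = s.pt.hom := Over.w m
    show l = subLift J hJ s
    rw [← cancel_mono (⨆ b, J b).subschemeι, subLift_fac, h1]

end

/-- **A closed subscheme of a qcqs scheme is a directed intersection of closed subschemes of
finite presentation.** -/
theorem exists_closed_fp_family {X Y : Scheme.{u}} (ι : X ⟶ Y) [IsClosedImmersion ι]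
    [CompactSpace Y] [QuasiSeparatedSpace Y] :
    ∃ (I : Type u) (_ : Preorder I) (_ : IsDirected I (fun a b => a ≤ b)) (_ : Nonempty I)
      (J : I → Y.IdealSheafData) (_ : Monotone J),
      (⨆ b, J b) = ι.ker ∧ ∀ b, LocallyOfFinitePresentation (J b).subschemeι := by
  obtain ⟨P⟩ := nonempty_pres Y
  let c : Cone P.D := P.cone
  let K : c.pt.IdealSheafData := ι.ker
  refine ⟨P.J, inferInstance, inferInstance, inferInstance, fun b => Jb P.D c K b,
    fun b b' h => Jb_mono P.D c K h, iSup_Jb P.D c P.hlim P.haff K, fun b => ?_⟩
  let πb : Y ⟶ P.D.obj (op b) := coneLeg P.D c (op b)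
  let Kb : (P.D.obj (op b)).IdealSheafData := Scheme.IdealSheafData.map K πb
  have hN : IsLocallyNoetherian (P.D.obj (op b)) := (P.hft (op b)).isLocallyNoetherian
  have h1 : LocallyOfFinitePresentation Kb.subschemeι := lfp_of_lft_of_isLocallyNoetherian _
  have h2 : (Kb.comapIso πb).hom ≫ pullback.fst πb Kb.subschemeι = (Kb.comap πb).subschemeι :=
    Scheme.IdealSheafData.comapIso_hom_fst Kb πb
  change LocallyOfFinitePresentation (Kb.comap πb).subschemeι
  rw [← h2]
  infer_instance

end Groth.Agent.Lib.Helper1.NA
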