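import Groth.Agent.Lib.Helper1.FieldPt3
import Groth.Agent.Lib.Helper1.ISLim2

/-!
# A property descending through closed subschemes, opens and limits holds at a field point
(helper1)
-/

set_option autoImplicit false
set_option linter.unusedSectionVars false
set_option linter.style.haveILetI false
universe u

namespace Groth.Agent.Lib.Helper1.FieldPt

open AlgebraicGeometry CategoryTheory CategoryTheory.Limits TopologicalSpace Opposite
open Scheme.IdealSheafData
open Groth.Agent.Lib.Helper1.NA

lemma isClosedImmersion_inclusion {T : Scheme.{u}} {J J' : T.IdealSheafData} (h : J ≤ J') :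
    IsClosedImmersion (inclusion h) := by
  haveI : IsClosedImmersion (inclusion h ≫ J.subschemeι) := by
    rw [inclusion_subschemeι]; infer_instance
  exact IsClosedImmersion.of_comp (inclusion h) J.subschemeι

theorem exists_field_point_of_property (T : Scheme.{u}) [CompactSpace T] [QuasiSeparatedSpace T]
    [Nonempty T] (P : ∀ ⦃T' : Scheme.{u}⦄, (T' ⟶ T) → Prop)
    (h1 : ∀ ⦃T' T'' : Scheme.{u}⦄ (a : T' ⟶ T) (t : T'' ⟶ T') [IsClosedImmersion t] [Surjective t]
      [CompactSpace T'] [QuasiSeparatedSpace T'] [CompactSpace T''] [QuasiSeparatedSpace T''],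
      P (t ≫ a) ↔ P a)
    (h2 : ∀ ⦃I : Type u⦄ [SmallCategory I] [IsCofiltered I] (D : I ⥤ Over T) (c : Limits.Cone D)
      (_ : Limits.IsLimit c),
      (∀ (i j : I) (m : i ⟶ j), IsAffineHom (D.map m).left) →
      (∀ i, CompactSpace (D.obj i).left ∧ QuasiSeparatedSpace (D.obj i).left) →
      (∀ i, P (D.obj i).hom) → P c.pt.hom)
    (h3 : ∀ ⦃T' Z V : Scheme.{u}⦄ (a : T' ⟶ T) [CompactSpace T'] [QuasiSeparatedSpace T']
      (i : Z ⟶ T') [IsClosedImmersion i] (j : V ⟶ T') [IsOpenImmersion j] [CompactSpace V],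
      Set.range j = (Set.range i)ᶜ → P a → P (j ≫ a) ∨ P (i ≫ a))
    (hT : P (𝟙 T)) :
    ∃ (K : Type u) (_ : Field K) (t : Spec (CommRingCat.of K) ⟶ T), P t := by
  classical
  haveI hcs : ∀ J : T.IdealSheafData, CompactSpace J.subscheme := fun J =>
    QuasiCompact.compactSpace_of_compactSpace J.subschemeι
  haveI hqs : ∀ J : T.IdealSheafData, QuasiSeparatedSpace J.subscheme := fun J =>
    quasiSeparatedSpace_of_quasiSeparated J.subschemeι
  let 𝒮 : Set T.IdealSheafData := {J | (J.support : Set T).Nonempty ∧ P J.subschemeι}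
  have hbot : (⊥ : T.IdealSheafData) ∈ 𝒮 := by
    refine ⟨?_, ?_⟩
    · rw [support_bot]; exact Set.univ_nonempty
    · haveI : Surjective (⊥ : T.IdealSheafData).subschemeι := ⟨by
        rw [← Set.range_eq_univ, range_subschemeι, support_bot]; rfl⟩
      have := (h1 (𝟙 T) (⊥ : T.IdealSheafData).subschemeι).mpr hT
      rwa [Category.comp_id] at this
  have ih : ∀ C ⊆ 𝒮, IsChain (· ≤ ·) C → ∀ y ∈ C, ∃ ub ∈ 𝒮, ∀ z ∈ C, z ≤ ub := by
    intro C hC hchain y hy
    let I : Type u := ↥C
    let J : I → T.IdealSheafData := Subtype.val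
    have hJ : Monotone J := fun _ _ h => h
    haveI : Nonempty I := ⟨⟨y, hy⟩⟩
    haveI : IsDirected I (· ≤ ·) := ⟨fun b b' => by
      rcases hchain.total b.2 b'.2 with h | h
      · exact ⟨b', h, le_rfl⟩
      · exact ⟨b, le_rfl, h⟩⟩
    refine ⟨⨆ b, J b, ⟨?_, ?_⟩, fun z hz => le_iSup J ⟨z, hz⟩⟩
    · rw [support_iSup, Closeds.coe_iInf]
      refine IsCompact.nonempty_iInter_of_directed_nonempty_isCompact_isClosed _ ?_
        (fun b => (hC b.2).1) (fun b => (J b).support.isClosed.isCompact)
        (fun b => (J b).support.isClosed)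
      intro b b'
      obtain ⟨k, hk, hk'⟩ := directed_of (· ≤ ·) b b'
      exact ⟨k, support_antitone (hJ hk), support_antitone (hJ hk')⟩
    · haveI : IsFiltered I := isFiltered_of_directed_le_nonempty I
      haveI : IsCofiltered Iᵒᵖ := inferInstance
      refine h2 (subDiag J hJ) (subCone J hJ (⨆ b, J b) (le_iSup J)) (isLimitSubCone J hJ)
        (fun b b' e => ?_) (fun b => ⟨hcs _, hqs _⟩) (fun b => (hC b.unop.2).2)
      haveI := isClosedImmersion_inclusion (hJ (leOfHom e.unop))
      exact (inferInstance : IsAffineHom (inclusion (hJ (leOfHom e.unop))))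
  obtain ⟨m, -, hm⟩ := zorn_le_nonempty₀ 𝒮 ih ⊥ hbot
  · -- the minimal closed subscheme
    have hmS : m ∈ 𝒮 := hm.prop
    let Z : Scheme.{u} := m.subscheme
    let a : Z ⟶ T := m.subschemeι
    have hra : Set.range a = (m.support : Set T) := range_subschemeι m
    have hinj : Function.Injective a := a.isClosedEmbedding.injective
    haveI : Nonempty Z := by
      obtain ⟨x, hx⟩ := hmS.1
      rw [← hra] at hx
      obtain ⟨z, -⟩ := hx
      exact ⟨z⟩
    obtain ⟨η, hmin⟩ := exists_minimal_point Z
    refine exists_field_point a η hmin P h1 h2 (fun V => ?_)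
    haveI : IsAffine (V.1 : Scheme.{u}) := V.2.1
    by_cases hVt : (V.1 : Set Z) = Set.univ
    · haveI : Epi V.1.ι.base := by
        rw [TopCat.epi_iff_surjective]
        intro x
        exact ⟨⟨x, (show x ∈ (V.1 : Set Z) by rw [hVt]; trivial)⟩, rfl⟩
      haveI : IsIso V.1.ι := IsOpenImmersion.isIso V.1.ι
      exact (h1 a V.1.ι).mpr hmS.2
    · have hne : ((V.1 : Set Z)ᶜ).Nonempty := by
        rw [Set.nonempty_compl]; exact hVt
      let Cl : Closeds T := ⟨a '' (V.1 : Set Z)ᶜ,
        a.isClosedEmbedding.isClosedMap _ V.1.isOpen.isClosed_compl⟩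
      let J' : T.IdealSheafData := vanishingIdeal Cl
      have hJ's : (J'.support : Set T) = a '' (V.1 : Set Z)ᶜ := coe_support_vanishingIdeal Cl
      have hle : m ≤ J' := by
        rw [← le_support_iff_le_vanishingIdeal]
        intro x hx
        obtain ⟨z, -, rfl⟩ := hx
        change a z ∈ (m.support : Set T)
        rw [← hra]
        exact ⟨z, rfl⟩
      let i : J'.subscheme ⟶ Z := inclusion hle
      haveI : IsClosedImmersion i := isClosedImmersion_inclusion hle
      have hia : i ≫ a = J'.subschemeι := inclusion_subschemeι _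
      have hr : Set.range (i ≫ a) = a '' (V.1 : Set Z)ᶜ := by
        rw [hia, range_subschemeι, hJ's]
      have hri : Set.range i = (V.1 : Set Z)ᶜ := by
        ext x
        constructor
        · rintro ⟨w, rfl⟩
          have : a (i w) ∈ a '' (V.1 : Set Z)ᶜ := by
            rw [← hr]; exact ⟨w, rfl⟩
          obtain ⟨z, hz, hz'⟩ := this
          rwa [← hinj hz']
        · intro hx
          have : a x ∈ Set.range (i ≫ a) := by
            rw [hr]; exact ⟨x, hx, rfl⟩
          obtain ⟨w, hw⟩ := this
          exact ⟨w, hinj hw⟩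
      have hrange : Set.range V.1.ι = (Set.range i)ᶜ := by
        rw [hri, compl_compl, Scheme.Opens.range_ι]
      rcases h3 a i V.1.ι hrange hmS.2 with h | h
      · exact h
      · exfalso
        rw [hia] at h
        have hJ'S : J' ∈ 𝒮 := ⟨by rw [hJ's]; exact hne.image _, h⟩
        have hJ'm : J' ≤ m := hm.le_of_ge hJ'S hle
        have h4 : (m.support : Set T) ⊆ (J'.support : Set T) := support_antitone hJ'm
        have h5 : a η ∈ (m.support : Set T) := by rw [← hra]; exact ⟨η, rfl⟩
        have h6 := h4 h5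
        rw [hJ's] at h6
        obtain ⟨z, hz, hz'⟩ := h6
        rw [hinj hz'] at hz
        exact hz V.2.2

end Groth.Agent.Lib.Helper1.FieldPt
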