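import Groth.Agent.Lib.Helper1.FlatStage3
import Groth.Agent.Lib.Helper13.IntegralDescent
import Groth.Agent.Lib.Helper13.Stage
import Groth.Agent.Lib.Helper13.Rebase
import Groth.Agent.Lib.Helper13.Localize
import Groth.Prelude.Def_Mor2
import Mathlib.AlgebraicGeometry.Morphisms.FlatRank

/-!
# Finite locally free morphisms of degree `d` descend to a finite stage (helper1)
-/

set_option autoImplicit false
set_option linter.unusedSectionVars false
set_option linter.style.haveILetI false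
universe u

namespace Groth.Agent.Lib.Helper13.LimitDescent

open AlgebraicGeometry CategoryTheory CategoryTheory.Limits Groth.Agent.Lib.Helper5
  Groth.Agent.Lib.Helper13

variable {I : Type u} [SmallCategory I] [IsCofiltered I] {D : I ⥤ Scheme.{u}} {c : Cone D}
  (hc : IsLimit c) [∀ {i j} (f : i ⟶ j), IsAffineHom (D.map f)]
  {i₀ : I} [CompactSpace (D.obj i₀)] [QuasiSeparatedSpace (D.obj i₀)]
  {X₀ Y₀ : Scheme.{u}} {f₀ : X₀ ⟶ Y₀} {g₀ : Y₀ ⟶ D.obj i₀}
  [CompactSpace X₀] [QuasiSeparatedSpace X₀] [CompactSpace Y₀] [QuasiSeparatedSpace Y₀]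
  [LocallyOfFinitePresentation f₀]
  {X Y : Scheme.{u}} {f : X ⟶ Y} {g : Y ⟶ c.pt} {qY : Y ⟶ Y₀} {qX : X ⟶ X₀}

include hc in
set_option backward.isDefEq.respectTransparency false in
theorem exists_finLocFreeOfDeg_stage (hY : IsPullback qY g g₀ (c.π.app i₀))
    (hX : IsPullback qX f f₀ qY) (d : ℕ) (hf : Mor2.IsFinLocFreeOfDeg d f) :
    ∃ j : Over i₀, Mor2.IsFinLocFreeOfDeg d (fj D i₀ f₀ g₀ j) := by
  obtain ⟨⟨hfin, hflat, hlfp⟩, hrank⟩ := hf
  obtain ⟨j₁, h₁⟩ := stage_of_conclusion D i₀ f₀ g₀ @IsFinite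
    (exists_isFinite_descend hc hY hX)
  obtain ⟨j₂, h₂⟩ := exists_flat_stage hc hY hX
  let l := IsCofiltered.min j₁ j₂
  have h₁' : IsFinite (fj D i₀ f₀ g₀ l) :=
    MorphismProperty.of_isPullback (P := @IsFinite)
      (isPullback_map_fj D i₀ f₀ g₀ (IsCofiltered.minToLeft j₁ j₂)) h₁
  have h₂' : Flat (fj D i₀ f₀ g₀ l) :=
    MorphismProperty.of_isPullback (P := @Flat)
      (isPullback_map_fj D i₀ f₀ g₀ (IsCofiltered.minToRight j₁ j₂)) h₂
  have h₃' : LocallyOfFinitePresentation (fj D i₀ f₀ g₀ l) :=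
    MorphismProperty.of_isPullback (P := @LocallyOfFinitePresentation)
      (isPullback_Xj D i₀ f₀ g₀ l) inferInstance
  -- the open locus of rank `d`
  have hlc := Scheme.Hom.isLocallyConstant_finrank (fj D i₀ f₀ g₀ l)
  let U : (Yj D i₀ g₀ l).Opens := ⟨(fj D i₀ f₀ g₀ l).finrank ⁻¹' {d}, hlc.isOpen_fiber d⟩
  -- the diagram of the stages
  let DY := bcDiagram D i₀ g₀
  let cY := bcCone D c i₀ g₀
  let hcY : IsLimit cY := isLimitBcCone D c hc i₀ g₀
  have : ∀ j, CompactSpace (DY.obj j) := fun j => compactSpace_Yj D i₀ g₀ j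
  have hcπ : ∀ j, cY.π.app j = (isoY hY).inv ≫ πY hY j := fun j => by
    rw [πY, Iso.inv_hom_id_assoc]
  have hU : cY.π.app l ⁻¹ᵁ U = ⊤ := by
    ext z
    simp only [TopologicalSpace.Opens.coe_top, Set.mem_univ, iff_true]
    change (fj D i₀ f₀ g₀ l).finrank (cY.π.app l z) = d
    rw [hcπ l, Scheme.Hom.comp_apply]
    have h := Scheme.Hom.finrank_of_isPullback _ _ _ _ (isPullback_πX hY hX l)
      ((isoY hY).inv z)
    exact h.symm.trans (hrank _)
  obtain ⟨j, ψ, hj⟩ := exists_map_eq_top DY cY hcY U hU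
  refine ⟨j, ⟨?_, ?_, ?_⟩, fun y => ?_⟩
  · exact MorphismProperty.of_isPullback (P := @IsFinite) (isPullback_map_fj D i₀ f₀ g₀ ψ) h₁'
  · exact MorphismProperty.of_isPullback (P := @Flat) (isPullback_map_fj D i₀ f₀ g₀ ψ) h₂'
  · exact MorphismProperty.of_isPullback (P := @LocallyOfFinitePresentation)
      (isPullback_Xj D i₀ f₀ g₀ j) inferInstance
  · have h := Scheme.Hom.finrank_of_isPullback _ _ _ _ (isPullback_map_fj D i₀ f₀ g₀ ψ) y
    have hy : y ∈ DY.map ψ ⁻¹ᵁ U := by rw [hj]; trivial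
    exact h.trans hy

end Groth.Agent.Lib.Helper13.LimitDescent
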