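import Mathlib
import Groth.Agent.Helper19.FittLib6
import Groth.Agent.Lib.Helper1.ExtOnePres

/-!
# Fitting ideals of a module with a two-term free resolution (helper1)

For `0 → R^m --σ--> R^n --g--> M → 0` exact, `Fitt_i(M)` is the ideal of `(n-i)`-minors of `σ` and
`Fitt_j(Ext¹(M, R))` is the ideal of `(m-j)`-minors of `σ`.
-/

universe u

open CategoryTheory Abelian

namespace Groth.Agent.Lib.Helper1.FittCI

open Groth.Agent.Helper19.FittLib

section Abstract
variable {R : Type u} [CommRing R] {M : Type u} [AddCommGroup M] [Module R M] {m n : ℕ}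
  (σ : (Fin m → R) →ₗ[R] (Fin n → R)) (g : (Fin n → R) →ₗ[R] M)

include σ g in
theorem ideal_eq_detIdeal (hg : Function.Surjective g) (hex : Function.Exact σ g) (i : ℕ) :
    Fitt.ideal R M i = detIdeal (LinearMap.toMatrix' σ) (n - i) := by
  rw [← ideal_congr (hex.linearEquivOfSurjective hg) i, ideal_coker]

theorem ideal_ext_eq_detIdeal (hσ : Function.Injective σ) (hg : Function.Surjective g)
    (hex : Function.Exact σ g) (j : ℕ) :
    Fitt.ideal R (Ext.{u} (ModuleCat.of R M) (ModuleCat.of R R) 1) j =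
      detIdeal (LinearMap.toMatrix' σ) (m - j) := by
  have hker : LinearMap.ker g = LinearMap.range σ := hex.linearMap_ker_eq
  let σ' : (Fin m → R) ≃ₗ[R] LinearMap.ker g :=
    (LinearEquiv.ofInjective σ hσ).trans (LinearEquiv.ofEq _ _ hker.symm)
  have hσ' : ∀ x, ((σ' x : LinearMap.ker g) : Fin n → R) = σ x := fun x => rfl
  let Ψ : (LinearMap.ker g →ₗ[R] R) ≃ₗ[R] Module.Dual R (Fin m → R) :=
    LinearEquiv.congrLeft R R σ'.symm
  have hΨ : ∀ (f : LinearMap.ker g →ₗ[R] R) (x : Fin m → R), Ψ f x = f (σ' x) := fun f x => rfl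
  have hmap : (LinearMap.range (ExtOnePres.res g R)).map (Ψ : _ →ₗ[R] _) =
      LinearMap.range σ.dualMap := by
    ext f
    constructor
    · rintro ⟨_, ⟨ψ, rfl⟩, rfl⟩
      refine ⟨ψ, ?_⟩
      ext x
      rfl
    · rintro ⟨ψ, rfl⟩
      refine ⟨_, ⟨ψ, rfl⟩, ?_⟩
      ext x
      rfl
  let e1 : ((LinearMap.ker g →ₗ[R] R) ⧸ LinearMap.range (ExtOnePres.res g R)) ≃ₗ[R]
      (Module.Dual R (Fin m → R) ⧸ LinearMap.range σ.dualMap) :=
    Submodule.Quotient.equiv _ _ Ψ hmap
  rw [← ideal_congr (ExtOnePres.equiv g hg (N := R)) j, ideal_congr e1 j, ideal_dualCoker]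

end Abstract

end Groth.Agent.Lib.Helper1.FittCI
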