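import Mathlib
import Groth.Agent.Lib.Helper1.FittCI
import Groth.Agent.Lib.Helper1.CotTGeneric
import Groth.Agent.Lib.Helper12.QuasiReg2

/-!
# Conormal module of a complete intersection; injectivity of the conormal map (helper1)
-/

universe u v w

open CategoryTheory Abelian

namespace Groth.Agent.Lib.Helper1.FittCI

open Groth.Agent.Helper19.FittLib

section Dim

/-- a regular sequence in a Noetherian ring has length at most the Krull dimension -/
theorem length_le_ringKrullDim_of_isRegular {R : Type*} [CommRing R] [IsNoetherianRing R]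
    (rs : List R) (reg : RingTheory.Sequence.IsRegular R rs) :
    (rs.length : WithBot ℕ∞) ≤ ringKrullDim R := by
  have hne : Ideal.ofList rs ≠ ⊤ := by
    intro h
    apply reg.2
    rw [h]
    simp
  obtain ⟨m, hm, hle⟩ := Ideal.exists_le_maximal _ hne
  have hmp : m.IsPrime := hm.isPrime
  let S := Localization.AtPrime m
  have reg' : RingTheory.Sequence.IsRegular S (rs.map (algebraMap R S)) :=
    reg.1.isRegular_of_isLocalization_of_mem S m (fun r hr => hle (Ideal.subset_span hr))
  have h1 := ringKrullDim_add_length_eq_ringKrullDim_of_isRegular _ reg'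
  rw [List.length_map] at h1
  have hne' : Ideal.ofList (rs.map (algebraMap R S)) ≠ ⊤ := by
    intro h
    apply reg'.2
    rw [h]
    simp
  have : Nontrivial (S ⧸ Ideal.ofList (rs.map (algebraMap R S))) :=
    Ideal.Quotient.nontrivial_iff.mpr hne'
  have h2 : (0 : WithBot ℕ∞) ≤ ringKrullDim (S ⧸ Ideal.ofList (rs.map (algebraMap R S))) :=
    ringKrullDim_nonneg_of_nontrivial
  have h3 : ringKrullDim S ≤ ringKrullDim R := by
    rw [IsLocalization.AtPrime.ringKrullDim_eq_height m S]
    exact Ideal.height_le_ringKrullDim_of_ne_top hmp.ne_top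
  calc (rs.length : WithBot ℕ∞) = 0 + rs.length := by rw [zero_add]
    _ ≤ ringKrullDim (S ⧸ Ideal.ofList (rs.map (algebraMap R S))) + rs.length := by gcongr
    _ = ringKrullDim S := h1
    _ ≤ ringKrullDim R := h3

theorem le_of_isRegular_mvPolynomial {k : Type*} [Field k] {r c : ℕ}
    (a : Fin c → MvPolynomial (Fin r) k)
    (ha : RingTheory.Sequence.IsRegular (MvPolynomial (Fin r) k) (List.ofFn a)) : c ≤ r := by
  have h := length_le_ringKrullDim_of_isRegular _ ha
  rw [List.length_ofFn, MvPolynomial.ringKrullDim_of_isNoetherianRing, ringKrullDim_eq_zero_of_field,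
    zero_add, Nat.card_fin] at h
  exact_mod_cast h

end Dim

section Basis
variable {k : Type u} {B : Type v} [CommRing k] [CommRing B] [Algebra k B]
  (P : Algebra.Extension.{w} k B) {c : ℕ} (a : Fin c → P.Ring)

/-- the classes of a regular sequence generating the kernel form a basis of the conormal module -/
theorem cotangent_basis (hspan : Ideal.span (Set.range a) = P.ker)
    (hreg : RingTheory.Sequence.IsWeaklyRegular P.Ring (List.ofFn a)) :
    ∃ b : Module.Basis (Fin c) B P.Cotangent, ∀ j, ∃ h : a j ∈ P.ker,
      b j = Algebra.Extension.Cotangent.mk ⟨a j, h⟩ := by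
  classical
  have hmem : ∀ j, a j ∈ P.ker := fun j => hspan ▸ Ideal.subset_span ⟨j, rfl⟩
  let f : Fin c → P.ker := fun j => ⟨a j, hmem j⟩
  have hqr := Groth.Agent.Lib.Helper12.QR.isQuasiRegular_of_isWeaklyRegular c a hreg
  obtain ⟨hli, -⟩ := Groth.Agent.Lib.Helper12.QR.cotangent_basis_of_isQuasiRegular P.ker f hqr hspan
  rw [Fintype.linearIndependent_iff] at hli
  have hsm : ∀ (p : P.Ring) (x : P.Cotangent), algebraMap P.Ring B p • x = p • x :=
    fun p x => algebraMap_smul B p x
  have hLI : LinearIndependent B (fun j => Algebra.Extension.Cotangent.mk (f j)) := by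
    rw [Fintype.linearIndependent_iff]
    intro g hg j
    choose p hp using fun j => P.algebraMap_surjective (g j)
    have h1 : ∑ i, g i • Algebra.Extension.Cotangent.mk (f i) =
        Algebra.Extension.Cotangent.mk (∑ i, p i • f i) := by
      rw [map_sum]
      refine Finset.sum_congr rfl fun i _ => ?_
      rw [map_smul, ← hp i, hsm]
    rw [h1, Algebra.Extension.Cotangent.mk_eq_zero_iff] at hg
    have h2 := hli (fun i => Ideal.Quotient.mk P.ker (p i)) (by
      rw [Groth.Agent.Lib.Helper12.QR.sum_smul_toCotangent, Ideal.toCotangent_eq_zero]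
      exact hg) j
    rw [← hp j]
    have h3 : p j ∈ P.ker := Ideal.Quotient.eq_zero_iff_mem.mp h2
    exact (RingHom.mem_ker).mp h3
  have hsp : ⊤ ≤ Submodule.span B (Set.range fun j => Algebra.Extension.Cotangent.mk (f j)) := by
    rintro x -
    obtain ⟨y, rfl⟩ := Algebra.Extension.Cotangent.mk_surjective x
    have hy : (y : P.Ring) ∈ Ideal.span (Set.range a) := by rw [hspan]; exact y.2
    obtain ⟨q, hq⟩ := Ideal.mem_span_range_iff_exists_fun.1 hy
    have : y = ∑ i, q i • f i := by
      ext
      simp [f, hq]
    rw [this, map_sum]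
    refine Submodule.sum_mem _ fun i _ => ?_
    rw [map_smul, ← hsm]
    exact Submodule.smul_mem _ _ (Submodule.subset_span ⟨i, rfl⟩)
  refine ⟨Module.Basis.mk hLI hsp, fun j => ⟨hmem j, ?_⟩⟩
  rw [Module.Basis.mk_apply]

end Basis

section Inj
variable {k : Type u} {B : Type v} [Field k] [PerfectField k] [CommRing B] [Algebra k B]
  [Algebra.FiniteType k B] [IsReduced B] {ι : Type w} (G : Algebra.Generators k B ι)
  {κ : Type*}

/-- for a reduced algebra of finite type over a perfect field whose conormal module (for some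
presentation) is free, the conormal map `I/I² → B ⊗ Ω_P` is injective -/
theorem cotangentComplex_injective (b : Module.Basis κ B G.toExtension.Cotangent) :
    Function.Injective G.toExtension.cotangentComplex := by
  rw [injective_iff_map_eq_zero]
  intro x hx
  have hx' : x ∈ LinearMap.ker G.toExtension.cotangentComplex := hx
  apply b.repr.injective
  rw [map_zero]
  ext j
  rw [Finsupp.zero_apply]
  have hmem : b.repr x j ∈ sInf (minimalPrimes B) := by
    rw [Submodule.mem_sInf]
    intro (𝔭 : Ideal B) h𝔭
    have hp : Ideal.IsPrime 𝔭 := h𝔭.1.1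
    have hsm := Groth.Agent.Lib.Helper1.CotTGeneric.formallySmooth_atPrime_of_mem_minimalPrimes
      (k := k) 𝔭 h𝔭
    have hss : Subsingleton (Algebra.H1Cotangent k (Localization.AtPrime 𝔭)) :=
      Algebra.FormallySmooth.subsingleton_h1Cotangent
    let y : G.toExtension.H1Cotangent := ⟨x, hx'⟩
    have h1 : Algebra.H1Cotangent.map k k B (Localization.AtPrime 𝔭) (G.equivH1Cotangent y) =
        Algebra.H1Cotangent.map k k B (Localization.AtPrime 𝔭) 0 := Subsingleton.elim _ _
    rw [IsLocalizedModule.eq_iff_exists 𝔭.primeCompl] at h1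
    obtain ⟨s, hs⟩ := h1
    rw [smul_zero, Submonoid.smul_def, ← map_smul, LinearEquiv.map_eq_zero_iff] at hs
    have h2 : (s : B) • x = 0 := congrArg Subtype.val hs
    have h3 : (s : B) * b.repr x j = 0 := by
      rw [← smul_eq_mul, ← Finsupp.smul_apply, ← map_smul, h2, map_zero, Finsupp.zero_apply]
    have h4 : (s : B) * b.repr x j ∈ 𝔭 := by rw [h3]; exact 𝔭.zero_mem
    exact (hp.mem_or_mem h4).resolve_left s.2
  have h0 : sInf (minimalPrimes B) = (⊥ : Ideal B) := by
    change sInf ((⊥ : Ideal B).minimalPrimes) = ⊥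
    rw [Ideal.sInf_minimalPrimes]
    exact nilradical_eq_zero B
  rw [h0] at hmem
  exact hmem

end Inj

end Groth.Agent.Lib.Helper1.FittCI
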