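import Mathlib.RingTheory.Flat.Basic
import Mathlib.RingTheory.Artinian.Ring
import Mathlib.RingTheory.LocalRing.MaximalIdeal.Basic
import Mathlib.RingTheory.Ideal.Quotient.Operations
import Mathlib.RingTheory.TensorProduct.Basic
import Mathlib.LinearAlgebra.TensorProduct.Tower
import Mathlib.LinearAlgebra.TensorProduct.RightExactness

/-!
# Flat lifts of ideals along a small thickening of the base (helper1)

For an ideal `J` of `C'` and a `C'`-module `M`, `mu J M : M ⊗ J → M` is the multiplication map; it is injective for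
`M` flat, natural in `M`, and for a `C'`-algebra `A'` its image is `J A'`.

* `rTensor_eq_zero_of_mu_mem`: if `A' ⧸ I'` is flat, `π : A' → B` kills `I'` and `mu z ∈ I'`, then `(π ⊗ J) z = 0`.
-/

universe u

namespace Groth.Agent.Lib.Helper1.FlatLift

open TensorProduct

section Mu

variable {C' : Type*} [CommRing C'] (J : Ideal C') (M : Type*) [AddCommGroup M] [Module C' M]

/-- The multiplication map `M ⊗ J → M`. -/
noncomputable def mu : M ⊗[C'] ↥J →ₗ[C'] M :=
  (TensorProduct.rid C' M).toLinearMap ∘ₗ (LinearMap.lTensor M (Submodule.subtype J))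

lemma mu_apply (z : M ⊗[C'] ↥J) :
    mu J M z = TensorProduct.rid C' M (LinearMap.lTensor M (Submodule.subtype J) z) := rfl

@[simp] lemma mu_tmul (m : M) (j : ↥J) : mu J M (m ⊗ₜ j) = (j : C') • m := by
  simp [mu]

lemma mu_injective [Module.Flat C' M] : Function.Injective (mu J M) :=
  (TensorProduct.rid C' M).injective.comp
    (Module.Flat.lTensor_preserves_injective_linearMap _ Subtype.val_injective)

variable {M} in
lemma mu_natural {M' : Type*} [AddCommGroup M'] [Module C' M'] (f : M →ₗ[C'] M') (z : M ⊗[C'] ↥J) :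
    mu J M' (f.rTensor ↥J z) = f (mu J M z) := by
  induction z using TensorProduct.induction_on with
  | zero => simp
  | tmul m j => simp
  | add x y hx hy => rw [map_add, map_add, hx, hy, map_add, map_add]

end Mu

section Alg

variable {C' : Type*} [CommRing C'] (J : Ideal C') (A' : Type*) [CommRing A'] [Algebra C' A']

lemma mu_mem (z : A' ⊗[C'] ↥J) : mu J A' z ∈ J.map (algebraMap C' A') := by
  induction z using TensorProduct.induction_on with
  | zero => simp
  | tmul a j =>
    rw [mu_tmul, Algebra.smul_def]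
    exact Ideal.mul_mem_right _ _ (Ideal.mem_map_of_mem _ j.2)
  | add x y hx hy => rw [map_add]; exact Ideal.add_mem _ hx hy

lemma mu_smul (a : A') (z : A' ⊗[C'] ↥J) : mu J A' (a • z) = a * mu J A' z := by
  induction z using TensorProduct.induction_on with
  | zero => simp
  | tmul b j =>
    rw [TensorProduct.smul_tmul', mu_tmul, mu_tmul, smul_eq_mul, mul_smul_comm]
  | add x y hx hy => rw [smul_add, map_add, map_add, hx, hy, mul_add]

lemma exists_mu_eq (x : A') (hx : x ∈ J.map (algebraMap C' A')) : ∃ z : A' ⊗[C'] ↥J, mu J A' z = x := by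
  refine Submodule.span_induction (p := fun x _ => ∃ z : A' ⊗[C'] ↥J, mu J A' z = x) ?_ ?_ ?_ ?_ hx
  · rintro _ ⟨j, hj, rfl⟩
    exact ⟨(1 : A') ⊗ₜ ⟨j, hj⟩, by rw [mu_tmul, Algebra.smul_def, mul_one]⟩
  · exact ⟨0, map_zero _⟩
  · rintro x y _ _ ⟨z, rfl⟩ ⟨w, rfl⟩
    exact ⟨z + w, map_add _ _ _⟩
  · rintro a x _ ⟨z, rfl⟩
    exact ⟨a • z, by rw [mu_smul, smul_eq_mul]⟩

variable {A'} in
/-- `π ⊗ J` is `A'`-linear. -/
lemma rTensor_smul {B : Type*} [CommRing B] [Algebra C' B] [Algebra A' B] [IsScalarTower C' A' B]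
    (a : A') (z : A' ⊗[C'] ↥J) :
    (IsScalarTower.toAlgHom C' A' B).toLinearMap.rTensor ↥J (a • z) =
      a • (IsScalarTower.toAlgHom C' A' B).toLinearMap.rTensor ↥J z := by
  induction z using TensorProduct.induction_on with
  | zero => simp
  | tmul b j =>
    rw [TensorProduct.smul_tmul', LinearMap.rTensor_tmul, LinearMap.rTensor_tmul,
      TensorProduct.smul_tmul']
    congr 1
    change algebraMap A' B (a • b) = a • algebraMap A' B b
    rw [smul_eq_mul, map_mul, Algebra.smul_def]
  | add x y hx hy => rw [smul_add, map_add, map_add, hx, hy, smul_add]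

variable {A'} in
/-- If `A' ⧸ I'` is flat over `C'`, `π` kills `I'` and `mu z ∈ I'`, then `(π ⊗ J) z = 0`. -/
lemma rTensor_eq_zero_of_mu_mem {B : Type*} [CommRing B] [Algebra C' B] (π : A' →ₐ[C'] B)
    (I' : Ideal A') [Module.Flat C' (A' ⧸ I')] (hπ : ∀ a ∈ I', π a = 0) (z : A' ⊗[C'] ↥J)
    (hz : mu J A' z ∈ I') : π.toLinearMap.rTensor ↥J z = 0 := by
  have h1 : mu J (A' ⧸ I') ((Ideal.Quotient.mkₐ C' I').toLinearMap.rTensor ↥J z) = 0 := by
    rw [mu_natural]
    exact Ideal.Quotient.eq_zero_iff_mem.2 hz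
  have h2 : (Ideal.Quotient.mkₐ C' I').toLinearMap.rTensor ↥J z = 0 :=
    mu_injective J _ (h1.trans (map_zero _).symm)
  have h3 : π.toLinearMap =
      (Ideal.Quotient.liftₐ I' π hπ).toLinearMap ∘ₗ (Ideal.Quotient.mkₐ C' I').toLinearMap := by
    ext a
    simp
  rw [h3, LinearMap.rTensor_comp, LinearMap.comp_apply, h2, map_zero]

end Alg

end Groth.Agent.Lib.Helper1.FlatLift
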