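import Groth.Agent.Lib.Helper1.FlatLift
import Groth.Agent.Lib.Helper9.FlatCrit

/-!
# Flat lifts of ideals, part 2: flatness of a quotient over a square-zero thickening (helper1)

* `smul_tensor_eq_zero`, `mu_tmul_eq_zero`: consequences of `J * J = ⊥` in `M ⊗ J`;
* `eq_zero_of_rTensor_eq_zero`: a linear map on `A' ⊗ J` killing `ker π ⊗ J` kills `ker (π ⊗ J)`;
* `flat_quotient_of_sq_zero`: the nilpotent local criterion for `A' ⧸ K`;
* `flat_baseChange_quotient`: `(C' ⧸ J) ⊗ (A' ⧸ K)` is flat over `C' ⧸ J` when `(A' ⧸ J A') ⧸ I` is and `K` reduces to `I`.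
-/

universe u

namespace Groth.Agent.Lib.Helper1.FlatLift

open TensorProduct

section Sq

variable {C' : Type*} [CommRing C'] (J : Ideal C') (hJ2 : J * J = ⊥)
variable (M : Type*) [AddCommGroup M] [Module C' M]

include hJ2

lemma mul_eq_zero_of_sq (j j' : ↥J) : (j : C') * (j' : C') = 0 := by
  have : (j : C') * (j' : C') ∈ J * J := Ideal.mul_mem_mul j.2 j'.2
  rw [hJ2] at this
  exact this

lemma smul_tensor_eq_zero (j : ↥J) (w : M ⊗[C'] ↥J) : (j : C') • w = 0 := by
  induction w using TensorProduct.induction_on with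
  | zero => simp
  | tmul m j' =>
    rw [← TensorProduct.tmul_smul]
    have : (j : C') • j' = 0 := Subtype.ext (by
      rw [Submodule.coe_smul, smul_eq_mul, mul_eq_zero_of_sq J hJ2]; rfl)
    rw [this, TensorProduct.tmul_zero]
  | add x y hx hy => rw [smul_add, hx, hy, add_zero]

lemma mu_tmul_eq_zero (w : M ⊗[C'] ↥J) (j : ↥J) : (mu J M w) ⊗ₜ[C'] j = 0 := by
  induction w using TensorProduct.induction_on with
  | zero => simp
  | tmul m j' =>
    rw [mu_tmul, TensorProduct.smul_tmul]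
    have : (j' : C') • j = 0 := Subtype.ext (by
      rw [Submodule.coe_smul, smul_eq_mul, mul_eq_zero_of_sq J hJ2]; rfl)
    rw [this, TensorProduct.tmul_zero]
  | add x y hx hy => rw [map_add, TensorProduct.add_tmul, hx, hy, add_zero]

end Sq

section Ker

variable {C' : Type*} [CommRing C'] (J : Ideal C') {A' : Type*} [CommRing A'] [Algebra C' A']
  {B : Type*} [CommRing B] [Algebra C' B] {N : Type*} [AddCommGroup N] [Module C' N]

/-- A linear map on `A' ⊗ J` killing `ker π ⊗ J` kills `ker (π ⊗ J)`. -/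
lemma eq_zero_of_rTensor_eq_zero (π : A' →ₐ[C'] B) (hπ : Function.Surjective π)
    (L : A' ⊗[C'] ↥J →ₗ[C'] N) (hL : ∀ a, π a = 0 → ∀ j : ↥J, L (a ⊗ₜ j) = 0)
    (v : A' ⊗[C'] ↥J) (hv : π.toLinearMap.rTensor ↥J v = 0) : L v = 0 := by
  have hex : Function.Exact (LinearMap.ker π.toLinearMap).subtype π.toLinearMap :=
    LinearMap.exact_subtype_ker_map _
  have h2 := rTensor_exact ↥J hex hπ
  obtain ⟨t, rfl⟩ := (h2 v).1 hv
  induction t using TensorProduct.induction_on with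
  | zero => simp
  | tmul a j =>
    rw [LinearMap.rTensor_tmul]
    exact hL a.1 a.2 j
  | add x y hx hy =>
    rw [map_add, map_add] at hv ⊢
    rw [hx ((h2 _).2 ⟨x, rfl⟩), hy ((h2 _).2 ⟨y, rfl⟩), add_zero]

end Ker

section Crit

variable {C' : Type u} [CommRing C'] (J : Ideal C') (hJ2 : J * J = ⊥) {A' : Type u} [CommRing A'] [Algebra C' A']

include hJ2 in
/-- The nilpotent local criterion of flatness for a quotient `A' ⧸ K` over a square-zero thickening. -/
theorem flat_quotient_of_sq_zero (K : Ideal A')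
    [Module.Flat (C' ⧸ J) ((C' ⧸ J) ⊗[C'] (A' ⧸ K))]
    (hb : ∀ z : A' ⊗[C'] ↥J, mu J A' z ∈ K →
      (Ideal.Quotient.mkₐ C' K).toLinearMap.rTensor ↥J z = 0) : Module.Flat C' (A' ⧸ K) := by
  have hmu : Function.Injective (mu J (A' ⧸ K)) := by
    rw [injective_iff_map_eq_zero]
    intro w hw
    obtain ⟨z, rfl⟩ := LinearMap.rTensor_surjective ↥J
      (g := (Ideal.Quotient.mkₐ C' K).toLinearMap) (Ideal.Quotient.mkₐ_surjective C' K) w
    rw [mu_natural] at hw
    exact hb z (Ideal.Quotient.eq_zero_iff_mem.1 hw)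
  have hcomp : ∀ x : ↥J ⊗[C'] (A' ⧸ K),
      TensorProduct.lid C' (A' ⧸ K) (J.subtype.rTensor (A' ⧸ K) x) =
        mu J (A' ⧸ K) (TensorProduct.comm C' ↥J (A' ⧸ K) x) := by
    intro x
    induction x using TensorProduct.induction_on with
    | zero => simp
    | tmul j m => simp
    | add x y hx hy => rw [map_add, map_add, hx, hy, map_add, map_add]
  refine Groth.Agent.Lib.Helper9.flat_of_isNilpotent_of_rTensor_injective J
    ⟨2, by rw [pow_two, hJ2]; rfl⟩ ?_
  intro x y hxy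
  apply (TensorProduct.comm C' ↥J (A' ⧸ K)).injective
  apply hmu
  rw [← hcomp, ← hcomp, hxy]

/-- `(C' ⧸ J) ⊗ (A' ⧸ K)` is flat over `C' ⧸ J` when `(A' ⧸ J A') ⧸ I` is and `K` reduces to `I`. -/
theorem flat_baseChange_quotient (I : Ideal (A' ⧸ J.map (algebraMap C' A')))
    [Module.Flat (C' ⧸ J) ((A' ⧸ J.map (algebraMap C' A')) ⧸ I)] (K : Ideal A')
    (hK : K.map (Ideal.Quotient.mk (J.map (algebraMap C' A'))) = I) :
    Module.Flat (C' ⧸ J) ((C' ⧸ J) ⊗[C'] (A' ⧸ K)) := by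
  let π : A' →ₐ[C'] ((A' ⧸ J.map (algebraMap C' A')) ⧸ I) := IsScalarTower.toAlgHom C' A' _
  have hπ : ∀ a, π a = Ideal.Quotient.mk I (Ideal.Quotient.mk (J.map (algebraMap C' A')) a) := fun a => rfl
  have hπK : ∀ a ∈ K, π a = 0 := by
    intro a ha
    rw [hπ, Ideal.Quotient.eq_zero_iff_mem, ← hK]
    exact Ideal.mem_map_of_mem _ ha
  have hπsurj : Function.Surjective π := by
    intro b
    obtain ⟨b', rfl⟩ := Ideal.Quotient.mk_surjective b
    obtain ⟨a, rfl⟩ := Ideal.Quotient.mk_surjective b'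
    exact ⟨a, rfl⟩
  let g : A' ⧸ K →ₐ[C'] ((A' ⧸ J.map (algebraMap C' A')) ⧸ I) := Ideal.Quotient.liftₐ K π hπK
  have hg : ∀ a, g (Ideal.Quotient.mk K a) = π a := fun a => rfl
  let F : (C' ⧸ J) ⊗[C'] (A' ⧸ K) →ₗ[C' ⧸ J] ((A' ⧸ J.map (algebraMap C' A')) ⧸ I) :=
    LinearMap.liftBaseChange (C' ⧸ J) g.toLinearMap
  have hF : ∀ a, F ((1 : C' ⧸ J) ⊗ₜ Ideal.Quotient.mk K a) = π a := by
    intro a
    rw [LinearMap.liftBaseChange_tmul, one_smul]
    rfl
  have hrepr : ∀ x : (C' ⧸ J) ⊗[C'] (A' ⧸ K), ∃ a : A', x = (1 : C' ⧸ J) ⊗ₜ Ideal.Quotient.mk K a := by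
    intro x
    induction x using TensorProduct.induction_on with
    | zero => exact ⟨0, by rw [map_zero, TensorProduct.tmul_zero]⟩
    | tmul c m =>
      obtain ⟨c₀, rfl⟩ := Ideal.Quotient.mk_surjective c
      obtain ⟨a, rfl⟩ := Ideal.Quotient.mk_surjective m
      refine ⟨c₀ • a, ?_⟩
      have h1 : (Ideal.Quotient.mk J c₀ : C' ⧸ J) = c₀ • (1 : C' ⧸ J) := by
        rw [Algebra.smul_def, mul_one]; rfl
      rw [h1, TensorProduct.smul_tmul]
      rfl
    | add x y hx hy =>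
      obtain ⟨a, rfl⟩ := hx
      obtain ⟨b, rfl⟩ := hy
      exact ⟨a + b, by rw [map_add, TensorProduct.tmul_add]⟩
  have hzero : ∀ v : A' ⊗[C'] ↥J,
      ((1 : C' ⧸ J) ⊗ₜ[C'] Ideal.Quotient.mk K (mu J A' v) : (C' ⧸ J) ⊗[C'] (A' ⧸ K)) = 0 := by
    intro v
    induction v using TensorProduct.induction_on with
    | zero => rw [map_zero, map_zero, TensorProduct.tmul_zero]
    | tmul a j =>
      rw [mu_tmul]
      have h1 : Ideal.Quotient.mk K ((j : C') • a) = (j : C') • Ideal.Quotient.mk K a := rfl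
      rw [h1, ← TensorProduct.smul_tmul]
      have h2 : (j : C') • (1 : C' ⧸ J) = 0 := by
        rw [Algebra.smul_def, mul_one]
        exact Ideal.Quotient.eq_zero_iff_mem.2 j.2
      rw [h2, TensorProduct.zero_tmul]
    | add x y hx hy => rw [map_add, map_add, TensorProduct.tmul_add, hx, hy, add_zero]
  have hinj : Function.Injective F := by
    rw [injective_iff_map_eq_zero]
    intro x hx
    obtain ⟨a, rfl⟩ := hrepr x
    rw [hF, hπ, Ideal.Quotient.eq_zero_iff_mem, ← hK] at hx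
    obtain ⟨y, hy, hya⟩ := (Ideal.mem_map_iff_of_surjective _ Ideal.Quotient.mk_surjective).1 hx
    have hd : a - y ∈ J.map (algebraMap C' A') := Ideal.Quotient.eq.mp hya.symm
    obtain ⟨v, hv⟩ := exists_mu_eq J A' _ hd
    have ha : a = y + mu J A' v := by rw [hv]; ring
    rw [ha, map_add, Ideal.Quotient.eq_zero_iff_mem.2 hy, zero_add, hzero]
  have hsurj : Function.Surjective F := by
    intro b
    obtain ⟨a, rfl⟩ := hπsurj b
    exact ⟨_, hF a⟩
  exact Module.Flat.of_linearEquiv (LinearEquiv.ofBijective F ⟨hinj, hsurj⟩)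

end Crit

end Groth.Agent.Lib.Helper1.FlatLift
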