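import Groth.Agent.Lib.Helper13.SmoothDesc4
import Groth.Agent.Lib27.Flat.Limit

/-!
# Flatness descends to a finite stage of a cofiltered system of rings (helper1)

Port of helper27's `exists_stage_flat` (built on helper18's `exists_flat_level_global`) to
helper13's `SD.RingSys`.
-/

set_option autoImplicit false
set_option linter.style.haveILetI false
set_option linter.unusedSectionVars false

open Function MvPolynomial

universe u v w

namespace Groth.Agent.Lib.Helper1.FlatStage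

open Groth.Agent.Lib.Helper13.SD Groth.Agent.Lib.Helper18.Fl Groth.Agent.Lib27.BCPres

variable {J : Type v} [CategoryTheory.Category.{w} J] [CategoryTheory.IsCofiltered J]
  (S : RingSys.{u} J)

/-- a ring map from a finitely presented `ℤ`-algebra to the colimit lifts to a stage. -/
theorem exists_lift (T : Type*) [CommRing T] [Algebra.FinitePresentation ℤ T] (φ : T →+* S.A) :
    ∃ j, ∃ l : T →+* S.R j, (S.a j).comp l = φ := by
  classical
  obtain ⟨n, f, hf, s, hs⟩ := Algebra.FinitePresentation.out (R := ℤ) (A := T)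
  obtain ⟨i₀, τ, hτ⟩ := S.exists_lift_family (fun k : Fin n => φ (f (X k)))
  let ψ₀ : MvPolynomial (Fin n) ℤ →+* S.R i₀ := eval₂Hom (Int.castRingHom _) τ
  have hψ₀ : (S.a i₀).comp ψ₀ = φ.comp f.toRingHom := by
    refine MvPolynomial.ringHom_ext (fun z => ?_) (fun k => ?_)
    · simp
    · simp [ψ₀, hτ]
  have hker : ∀ p : (s : Set (MvPolynomial (Fin n) ℤ)), S.a i₀ (ψ₀ p.1) = 0 := by
    intro p
    have h1 : p.1 ∈ RingHom.ker f.toRingHom := by
      rw [← hs]; exact Ideal.subset_span p.2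
    have h2 := RingHom.congr_fun hψ₀ p.1
    rw [RingHom.comp_apply, RingHom.comp_apply, (RingHom.mem_ker).mp h1, map_zero] at h2
    exact h2
  obtain ⟨j, e, hj⟩ := S.exists_tr_eq_zero_family i₀
    (fun p : (s : Set (MvPolynomial (Fin n) ℤ)) => ψ₀ p.1) hker
  let ψ : MvPolynomial (Fin n) ℤ →+* S.R j := (S.tr e).comp ψ₀
  have hψker : RingHom.ker f.toRingHom ≤ RingHom.ker ψ := by
    rw [← hs, Ideal.span_le]
    intro p hp
    exact hj ⟨p, hp⟩
  have hfs : Function.Surjective f.toRingHom := hf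
  refine ⟨j, RingHom.liftOfSurjective f.toRingHom hfs ⟨ψ, hψker⟩, ?_⟩
  ext x
  obtain ⟨p, rfl⟩ := hfs x
  rw [RingHom.comp_apply, RingHom.liftOfSurjective_comp_apply]
  change S.a j (S.tr e (ψ₀ p)) = _
  rw [S.a_tr_apply]
  exact RingHom.congr_fun hψ₀ p

/-- finitely many polynomial identities holding over the colimit hold at a later stage. -/
lemma exists_stage_map_eq {σ : Type} {κ : Type*} [Finite κ] (i : J)
    (p q : κ → MvPolynomial σ (S.R i))
    (h : ∀ k, map (S.a i) (p k) = map (S.a i) (q k)) :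
    ∃ j, ∃ e : j ⟶ i, ∀ k, map (S.tr e) (p k) = map (S.tr e) (q k) := by
  classical
  obtain ⟨j, e, hj⟩ := (S.poly σ).exists_tr_eq_zero_family i (fun k => p k - q k) (fun k => by
    change map (S.a i) (p k - q k) = 0
    rw [map_sub, h k, sub_self])
  refine ⟨j, e, fun k => ?_⟩
  have := hj k
  change map (S.tr e) (p k - q k) = 0 at this
  rwa [map_sub, sub_eq_zero] at this

variable {A₀ : Type u} [CommRing A₀]
  (α : ∀ j, A₀ →+* S.R j) (hα : ∀ {l j : J} (e : l ⟶ j), (S.tr e).comp (α j) = α l)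
  (αA : A₀ →+* S.A) (hαA : ∀ j, (S.a j).comp (α j) = αA)

include hα hαA in
/-- Flatness of a presented module over the colimit descends to some stage. -/
theorem exists_stage_flat {n m r : ℕ} (g₀ : Fin m → Fin r → MvPolynomial (Fin n) A₀)
    (hflat : Module.Flat S.A ((Fin r → MvPolynomial (Fin n) S.A) ⧸
      Kspan (fun i => mapVec αA (g₀ i)))) :
    ∃ j, Module.Flat (S.R j) ((Fin r → MvPolynomial (Fin n) (S.R j)) ⧸
      Kspan (fun i => mapVec (α j) (g₀ i))) := by
  classical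
  obtain ⟨T, hTdef⟩ : ∃ T : Set S.A, T = ⋃ i, ⋃ k,
      ((mapVec αA (g₀ i) k).coeffs : Set S.A) := ⟨_, rfl⟩
  have hT : T.Finite := by
    rw [hTdef]
    exact Set.finite_iUnion fun i => Set.finite_iUnion fun j => Finset.finite_toSet _
  obtain ⟨S₀, hS₀def⟩ : ∃ S₀ : Subalgebra ℤ S.A, S₀ = Algebra.adjoin ℤ T := ⟨_, rfl⟩
  have hS₀ : S₀.FG := by rw [hS₀def]; exact Subalgebra.fg_def.2 ⟨T, hT, rfl⟩
  have hTS : T ⊆ S₀ := by rw [hS₀def]; exact Algebra.subset_adjoin
  have hgT : ∀ i k, ((mapVec αA (g₀ i) k).coeffs : Set S.A) ⊆ S₀ := fun i k x hx =>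
    hTS (by rw [hTdef]; exact Set.mem_iUnion.mpr ⟨i, Set.mem_iUnion.mpr ⟨k, hx⟩⟩)
  choose g₁ hg₁' using fun i k => exists_map_eq_of_coeffs_subset S₀ _ (hgT i k)
  have hg₁ : ∀ i, mapVec (inc S₀) (g₁ i) = mapVec αA (g₀ i) :=
    fun i => funext fun k => hg₁' i k
  haveI := hflat
  obtain ⟨S₂, h02, hS₂, hflat₂⟩ := exists_flat_level_global
    (fun i => mapVec αA (g₀ i)) S₀ hS₀ g₁ hg₁
  haveI : Algebra.FiniteType ℤ ↥S₂ := (Subalgebra.fg_iff_finiteType S₂).mp hS₂
  haveI : Algebra.FinitePresentation ℤ ↥S₂ := Algebra.FinitePresentation.of_finiteType.mp ‹_›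
  obtain ⟨j, l, hl⟩ := exists_lift S ↥S₂ (inc S₂)
  obtain ⟨j', e, hj'⟩ := exists_stage_map_eq S (κ := Fin m × Fin r) j
    (fun x => map l (map (incl h02) (g₁ x.1 x.2)))
    (fun x => map (α j) (g₀ x.1 x.2)) (by
      rintro ⟨i, k⟩
      change map _ (map l (map (incl h02) (g₁ i k))) = map _ (map (α j) (g₀ i k))
      rw [map_map, map_map, map_map, hl, inc_comp_incl, hαA j]
      exact hg₁' i k)
  letI : Algebra ↥S₂ (S.R j') := ((S.tr e).comp l).toAlgebra
  haveI := hflat₂
  have key := flat_pres_of_flat (R₀ := ↥S₂) (R₁ := S.R j') (fun i => mapVec (incl h02) (g₁ i))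
  refine ⟨j', ?_⟩
  have heq : (fun i => mapVec (algebraMap ↥S₂ (S.R j')) (mapVec (incl h02) (g₁ i))) =
      fun i => mapVec (α j') (g₀ i) := by
    funext i k
    change map ((S.tr e).comp l) (map (incl h02) (g₁ i k)) = map _ (g₀ i k)
    rw [← hα e, ← map_map, ← map_map (α j)]
    exact hj' (i, k)
  rw [heq] at key
  exact key

end Groth.Agent.Lib.Helper1.FlatStage
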