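import Groth.Agent.Lib.Helper1.FlatStage2
import Groth.Agent.Lib.Helper13.SmoothDesc7
import Mathlib.AlgebraicGeometry.Morphisms.Flat

/-!
# Flat morphisms descend to a finite stage (helper1; on helper13's LimitDescent framework)
-/

set_option autoImplicit false
set_option linter.unusedSectionVars false
set_option linter.style.haveILetI false
universe u

namespace Groth.Agent.Lib.Helper13.LimitDescent

open AlgebraicGeometry CategoryTheory CategoryTheory.Limits Groth.Agent.Lib.Helper5
  Groth.Agent.Lib.Helper13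

variable {I : Type u} [SmallCategory I] [IsCofiltered I] {D : I ⥤ Scheme.{u}} {c : Cone D}
  (hc : IsLimit c) [∀ {i j} (f : i ⟶ j), IsAffineHom (D.map f)]
  {i₀ : I} {X₀ Y₀ : Scheme.{u}} {f₀ : X₀ ⟶ Y₀} {g₀ : Y₀ ⟶ D.obj i₀}
  {X Y : Scheme.{u}} {f : X ⟶ Y} {g : Y ⟶ c.pt} {qY : Y ⟶ Y₀} {qX : X ⟶ X₀}

include hc in
set_option backward.isDefEq.respectTransparency false in
/-- Flat morphisms descend to a finite stage: the affine case. -/
theorem exists_flat_stage_of_isAffine (hY : IsPullback qY g g₀ (c.π.app i₀))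
    (hX : IsPullback qX f f₀ qY) [LocallyOfFinitePresentation f₀] [Flat f]
    [IsAffine Y₀] [IsAffine X₀] :
    ∃ j : Over i₀, Flat (fj D i₀ f₀ g₀ j) := by
  have hqY : IsAffineHom qY := by
    have := isAffineHom_π_app D c hc i₀
    exact MorphismProperty.of_isPullback hY.flip inferInstance
  have : IsAffine Y := isAffine_of_isAffineHom qY
  have hqX : IsAffineHom qX := MorphismProperty.of_isPullback hX.flip hqY
  have : IsAffine X := isAffine_of_isAffineHom qX
  have hfp : f₀.appTop.hom.FinitePresentation :=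
    (HasRingHomProperty.iff_of_isAffine (P := @LocallyOfFinitePresentation)).mp inferInstance
  have hsm : f.appTop.hom.Flat :=
    (HasRingHomProperty.iff_of_isAffine (P := @Flat)).mp inferInstance
  have hA := isPushout_appTop_of_isPullback hX
  obtain ⟨j, hj⟩ := Groth.Agent.Lib.Helper1.FlatStage.exists_flat_stage (ringSysY hc hY)
    (fun j => (pYj D i₀ g₀ j).appTop.hom)
    (fun {l j} e => by
      change ((bcDiagram D i₀ g₀).map e).appTop.hom.comp (pYj D i₀ g₀ j).appTop.hom =
        (pYj D i₀ g₀ l).appTop.hom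
      rw [← CommRingCat.hom_comp, ← Scheme.Hom.comp_appTop, bcDiagram_map_pYj])
    qY.appTop.hom
    (fun j => by
      change (πY hY j).appTop.hom.comp (pYj D i₀ g₀ j).appTop.hom = qY.appTop.hom
      rw [← CommRingCat.hom_comp, ← Scheme.Hom.comp_appTop, πY_pYj])
    f₀.appTop.hom hfp qX.appTop.hom f.appTop.hom hA hsm
  refine ⟨j, ?_⟩
  have : IsAffine (Yj D i₀ g₀ j) := isAffine_of_isAffineHom (pYj D i₀ g₀ j)
  have : IsAffine (Xj D i₀ f₀ g₀ j) := isAffine_of_isAffineHom (pYj D i₀ (f₀ ≫ g₀) j)
  rw [HasRingHomProperty.iff_of_isAffine (P := @Flat)]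
  exact hj (pXj D i₀ f₀ g₀ j).appTop.hom (fj D i₀ f₀ g₀ j).appTop.hom
    (isPushout_appTop_of_isPullback (isPullback_Xj D i₀ f₀ g₀ j))

include hc in
/-- Flat morphisms descend to a finite stage (`X₀` quasi-compact and `f₀` locally of finite
presentation). -/
theorem exists_flat_stage (hY : IsPullback qY g g₀ (c.π.app i₀))
    (hX : IsPullback qX f f₀ qY) [CompactSpace X₀] [LocallyOfFinitePresentation f₀] [Flat f] :
    ∃ j : Over i₀, Flat (fj D i₀ f₀ g₀ j) :=
  exists_stage_of_affineCase @Flat
    (fun a b _ ha => by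
      have : Flat a := ha
      exact inferInstanceAs (Flat (a ≫ b)))
    (by
      intro X₀ Y₀ _ _ f₀ g₀ _ X Y f g qY qX hY hX hf
      have : Flat f := hf
      exact exists_flat_stage_of_isAffine hc hY hX)
    f₀ g₀ hY hX inferInstance

end Groth.Agent.Lib.Helper13.LimitDescent
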