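import Mathlib
import Groth.Agent.Helper19.FittLib4
set_option autoImplicit false
universe u u' v v'

namespace Groth.Agent.Lib.Helper1.FrobFitt

open Groth.Agent.Helper19.FittLib

/-- Fitting ideals map into Fitting ideals along a surjective semilinear map. -/
lemma map_ideal_le_of_surjective {T : Type u} {R : Type u'} [CommRing T] [CommRing R] (σ : T →+* R)
    {N : Type v} {M : Type v'} [AddCommGroup N] [Module T N] [AddCommGroup M] [Module R M]
    (f : N →ₛₗ[σ] M) (hf : Function.Surjective f) (k : ℕ) :
    (Fitt.ideal T N k).map σ ≤ Fitt.ideal R M k := by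
  rw [Fitt.ideal, Ideal.map_span, Ideal.span_le]
  rintro _ ⟨_, ⟨n, x, a, hx, ha, rfl⟩, rfl⟩
  refine Ideal.subset_span ⟨n, f ∘ x, a.map σ, ?_, fun i hi => ?_, ?_⟩
  · rw [eq_top_iff]
    intro m hm
    clear hm
    obtain ⟨y, rfl⟩ := hf m
    have hy : y ∈ Submodule.span T (Set.range x) := hx ▸ Submodule.mem_top
    induction hy using Submodule.span_induction with
    | mem y hy =>
      obtain ⟨i, rfl⟩ := hy
      exact Submodule.subset_span ⟨i, rfl⟩
    | zero => rw [map_zero]; exact zero_mem _
    | add y y' _ _ h1 h2 => rw [map_add]; exact add_mem h1 h2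
    | smul t y _ h1 => rw [map_smulₛₗ]; exact Submodule.smul_mem _ _ h1
  · have := congrArg f (ha i hi)
    simpa [map_sum, map_smulₛₗ] using this
  · rw [RingHom.map_det]
    rfl

/-- A finitely generated ideal of a local ring of characteristic `p` that equals its Frobenius
power is `⊥` or `⊤`. -/
lemma eq_bot_or_eq_top_of_map_frobenius {R : Type u} [CommRing R] [IsLocalRing R] (p : ℕ)
    [Fact p.Prime] [CharP R p] (I : Ideal R) (hI : I.FG) (h : I = I.map (frobenius R p)) :
    I = ⊥ ∨ I = ⊤ := by
  by_cases htop : I = ⊤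
  · exact Or.inr htop
  left
  have hle : I ≤ IsLocalRing.maximalIdeal R := IsLocalRing.le_maximalIdeal htop
  have h2 : I.map (frobenius R p) ≤ IsLocalRing.maximalIdeal R • I := by
    rw [Ideal.map_le_iff_le_comap]
    intro a ha
    rw [Ideal.mem_comap, frobenius_def]
    have hp : p = (p - 1) + 1 := by
      have := (Fact.out : p.Prime).one_lt
      omega
    rw [hp, pow_succ, smul_eq_mul]
    refine Ideal.mul_mem_mul ?_ ha
    have h1 : 0 < p - 1 := by
      have := (Fact.out : p.Prime).one_lt
      omega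
    exact Ideal.pow_mem_of_mem _ (hle ha) _ h1
  refine Submodule.eq_bot_of_le_smul_of_le_jacobson_bot (IsLocalRing.maximalIdeal R) I hI ?_ ?_
  · calc I = I.map (frobenius R p) := h
      _ ≤ _ := h2
  · rw [IsLocalRing.jacobson_eq_maximalIdeal ⊥ bot_ne_top]

/-- A finite module over a local ring has a generating tuple all of whose relations have
coefficients in the maximal ideal. -/
lemma exists_minimal_gens (R : Type u) (M : Type v) [CommRing R] [IsLocalRing R] [AddCommGroup M]
    [Module R M] [Module.Finite R M] :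
    ∃ (n : ℕ) (x : Fin n → M), Submodule.span R (Set.range x) = ⊤ ∧
      ∀ z : Fin n → R, ∑ i, z i • x i = 0 → ∀ i, z i ∈ IsLocalRing.maximalIdeal R := by
  classical
  let P : ℕ → Prop := fun n => ∃ x : Fin n → M, Submodule.span R (Set.range x) = ⊤
  have hP : ∃ n, P n := Module.Finite.exists_fin (R := R) (M := M)
  obtain ⟨n, ⟨x, hx⟩, hmin⟩ : ∃ n, P n ∧ ∀ m < n, ¬ P m :=
    ⟨Nat.find hP, Nat.find_spec hP, fun m hm => Nat.find_min hP hm⟩
  refine ⟨n, x, hx, fun z hz j => ?_⟩
  by_contra hj
  have hu : IsUnit (z j) := by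
    by_contra hnu
    exact hj ((IsLocalRing.mem_maximalIdeal _).mpr hnu)
  cases n with
  | zero => exact j.elim0
  | succ m =>
    refine hmin m (Nat.lt_succ_self m) ⟨x ∘ j.succAbove, ?_⟩
    rw [eq_top_iff, ← hx, Submodule.span_le]
    rintro _ ⟨i, rfl⟩
    by_cases hij : i = j
    · subst hij
      rw [Fin.sum_univ_succAbove _ i] at hz
      have h1 : z i • x i = -∑ i', z (i.succAbove i') • x (i.succAbove i') :=
        eq_neg_of_add_eq_zero_left hz
      obtain ⟨u, hu⟩ := hu
      have h2 : x i = (↑u⁻¹ : R) • (z i • x i) := by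
        rw [← hu, smul_smul, Units.inv_mul, one_smul]
      rw [SetLike.mem_coe, h2, h1]
      refine Submodule.smul_mem _ _ (Submodule.neg_mem _ (Submodule.sum_mem _ fun i' _ => ?_))
      exact Submodule.smul_mem _ _ (Submodule.subset_span ⟨i', rfl⟩)
    · obtain ⟨i', rfl⟩ := Fin.exists_succAbove_eq hij
      exact Submodule.subset_span ⟨i', rfl⟩

/-- Over a local ring, a finite module all of whose Fitting ideals are `⊥` or `⊤` is free. -/
lemma free_of_ideal_eq_bot_or_top (R : Type u) (M : Type v) [CommRing R] [IsLocalRing R]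
    [AddCommGroup M] [Module R M] [Module.Finite R M]
    (h : ∀ k, Fitt.ideal R M k = ⊥ ∨ Fitt.ideal R M k = ⊤) : Module.Free R M := by
  classical
  obtain ⟨n, x, hx, hrel⟩ := exists_minimal_gens R M
  have hli : LinearIndependent R x := by
    refine linearIndependent_of_ideal_eq_bot x hx ?_
    by_cases hn : n = 0
    · exact Or.inl hn
    right
    rcases h (n - 1) with h0 | h1
    · exact h0
    exfalso
    rw [ideal_eq_Mn x hx, show n - (n - 1) = 1 by omega] at h1
    have hle : Mn R x 1 ≤ IsLocalRing.maximalIdeal R := by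
      rw [Mn, Ideal.span_le]
      rintro _ ⟨z, e, hz, rfl⟩
      rw [Matrix.det_fin_one, Matrix.of_apply]
      exact hrel (z 0) (hz 0) (e 0)
    rw [h1] at hle
    exact (IsLocalRing.maximalIdeal.isMaximal R).ne_top (top_le_iff.mp hle)
  exact Module.Free.of_basis (Module.Basis.mk hli (by rw [hx]))

end Groth.Agent.Lib.Helper1.FrobFitt
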