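import Mathlib
import Groth.Agent.Lib.Helper1.GalClosed
import Groth.Agent.Lib.Helper1.GenFibre
import Groth.Agent.Lib.Helper1.GalCount

/-!
# Finite levels: components of `X_Ω` are defined over a finite subextension (helper1)

Stacks 04KZ / 04PL / EGA IV 4.5.10-11 type results.
-/

set_option autoImplicit false
set_option linter.style.haveILetI false
set_option linter.unusedSectionVars false

universe u

open CategoryTheory CategoryTheory.Limits AlgebraicGeometry Topology

namespace Groth.Agent.Lib.Helper1.GalFinLevel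

open Groth.Agent.Lib.Helper1.GalScheme Groth.Agent.Lib.Helper1.GalLevel

theorem homeo_image_connectedComponent {A B : Type*} [TopologicalSpace A] [TopologicalSpace B]
    (e : A ≃ₜ B) (a : A) : e '' connectedComponent a = connectedComponent (e a) := by
  apply Set.Subset.antisymm
  · exact e.continuous.image_connectedComponent_subset a
  · intro b hb
    have h1 := e.symm.continuous.image_connectedComponent_subset (e a)
    rw [e.symm_apply_apply] at h1
    exact ⟨e.symm b, h1 ⟨b, hb, rfl⟩, e.apply_symm_apply b⟩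

variable (k : Type u) [Field k] (X : Scheme.{u}) [X.Over (Spec (CommRingCat.of k))]
  (Ω : Type u) [Field Ω] [Algebra k Ω]

attribute [local instance] mulAction

theorem generalizingMap_bcFst : GeneralizingMap (Curv2.bcFst k X Ω).base :=
  Flat.generalizingMap (pullback.fst (X ↘ Spec (CommRingCat.of k))
    (Spec.map (CommRingCat.ofHom (algebraMap k Ω))))

/-- finiteness of the set of irreducible components of `X_Ω` -/
theorem finite_irreducibleComponents (hfin : (irreducibleComponents ↥X).Finite)
    (hgen : ∀ Z ∈ irreducibleComponents ↥X, ∃ ξ : X, IsGenericPoint ξ Z ∧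
      Finite ((Curv2.bcFst k X Ω).base ⁻¹' {ξ})) :
    (irreducibleComponents ↥(Curv2.bc k X Ω)).Finite := by
  have hc : Continuous (Curv2.bcFst k X Ω).base := (Curv2.bcFst k X Ω).continuous
  have hg := generalizingMap_bcFst k X Ω
  have hsub : irreducibleComponents ↥(Curv2.bc k X Ω) ⊆ ⋃ Z ∈ irreducibleComponents ↥X,
      {T' : Set ↥(Curv2.bc k X Ω) | T' ∈ irreducibleComponents ↥(Curv2.bc k X Ω) ∧
        (Curv2.bcFst k X Ω).base '' T' ⊆ Z} := by
    intro T' hT'
    obtain ⟨Z, hZ, hs⟩ := exists_mem_irreducibleComponents_subset_of_isIrreducible _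
      (hT'.1.image _ hc.continuousOn)
    exact Set.mem_biUnion hZ ⟨hT', hs⟩
  refine (Set.Finite.biUnion hfin fun Z hZ => ?_).subset hsub
  obtain ⟨ξ, hξ, hF⟩ := hgen Z hZ
  exact GenFibre.finite_of_finite_fibre _ hc hg hZ hξ hF

/-- finiteness of the set of connected components of `X_Ω` -/
theorem finite_connectedComponents [Finite (_root_.ConnectedComponents ↥X)]
    (hpt : ∀ c : _root_.ConnectedComponents ↥X, ∃ x : X, _root_.ConnectedComponents.mk x = c ∧
      Finite ((Curv2.bcFst k X Ω).base ⁻¹' {x})) :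
    Finite (_root_.ConnectedComponents ↥(Curv2.bc k X Ω)) := by
  choose x hx hF using hpt
  let S : Set ↥(Curv2.bc k X Ω) := ⋃ c, (Curv2.bcFst k X Ω).base ⁻¹' {x c}
  have hS : S.Finite := Set.finite_iUnion fun c => Set.finite_coe_iff.mp (hF c)
  haveI : Finite S := Set.finite_coe_iff.mpr hS
  let ψ : S → _root_.ConnectedComponents ↥(Curv2.bc k X Ω) := fun y => ConnectedComponents.mk y.1
  apply Finite.of_surjective ψ
  intro C
  obtain ⟨y, rfl⟩ := ConnectedComponents.surjective_coe C
  have h1 := GalScheme.image_connectedComponent k X Ω y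
  let c : _root_.ConnectedComponents ↥X := ConnectedComponents.mk ((Curv2.bcFst k X Ω).base y)
  have h2 : x c ∈ connectedComponent ((Curv2.bcFst k X Ω).base y) := by
    have := hx c
    exact (ConnectedComponents.coe_eq_coe'.mp this)
  rw [← h1] at h2
  obtain ⟨y', hy', hy'x⟩ := h2
  refine ⟨⟨y', Set.mem_iUnion.mpr ⟨c, hy'x⟩⟩, ?_⟩
  exact ConnectedComponents.coe_eq_coe'.mpr hy'

variable [IsGalois k Ω]

/-- an irreducible component of `X_Ω` is stabilised by an open subgroup -/
theorem exists_stabilizes_irreducibleComponent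
    (hfin : (irreducibleComponents ↥(Curv2.bc k X Ω)).Finite)
    (C : Set ↥(Curv2.bc k X Ω)) (hC : C ∈ irreducibleComponents ↥(Curv2.bc k X Ω)) :
    ∃ E : IntermediateField k Ω, FiniteDimensional k ↥E ∧
      ∀ σ : Gal(Ω/k), (∀ a : Ω, a ∈ E → σ a = a) → (Curv2.galAct k X Ω σ).base '' C = C := by
  letI := continuousSMul k X Ω
  obtain ⟨η, hη⟩ := QuasiSober.sober hC.1 (isClosed_of_mem_irreducibleComponents C hC)
  let W : Set ↥(Curv2.bc k X Ω) := ⋃ C' ∈ irreducibleComponents ↥(Curv2.bc k X Ω) \ {C}, C'
  have hWc : IsClosed W := (hfin.subset Set.diff_subset).isClosed_biUnion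
    fun C' hC' => isClosed_of_mem_irreducibleComponents C' hC'.1
  have hηW : η ∉ W := by
    intro h
    obtain ⟨C', hC', hηC'⟩ := Set.mem_iUnion₂.mp h
    have h1 : C ⊆ C' := by
      rw [← hη.def]
      exact closure_minimal (Set.singleton_subset_iff.mpr hηC')
        (isClosed_of_mem_irreducibleComponents C' hC'.1)
    exact hC'.2 (Set.Subset.antisymm (hC.2 hC'.1.1 h1) h1)
  obtain ⟨V, hVo, hVc, hηV, hVW⟩ := (setup k X Ω).basis η Wᶜ hWc.isOpen_compl hηW
  obtain ⟨E, hE, hEV⟩ := exists_fixingSubgroup_stabilizes k X Ω V hVo hVc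
  refine ⟨E, hE, fun σ hσ => ?_⟩
  have hV := hEV σ hσ
  have h1 : η ∈ (Curv2.galAct k X Ω σ).base '' C := by
    rw [← hV] at hηV
    obtain ⟨v, hv, rfl⟩ := hηV
    refine ⟨v, ?_, rfl⟩
    by_contra hvC
    apply hVW hv
    refine Set.mem_iUnion₂.mpr ⟨irreducibleComponent v,
      ⟨irreducibleComponent_mem_irreducibleComponents v, fun h => hvC ?_⟩,
      mem_irreducibleComponent⟩
    have h' : irreducibleComponent v = C := h
    rw [← h']
    exact mem_irreducibleComponent
  let e := Scheme.homeoOfIso (galActIso k X Ω σ)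
  have h2 : IsIrreducible (e '' C) := hC.1.image e e.continuous.continuousOn
  have h3 : IsClosed (e '' C) := e.isClosedMap _ (isClosed_of_mem_irreducibleComponents C hC)
  have h4 : C ⊆ e '' C := by
    have h5 : closure {η} ⊆ e '' C := closure_minimal (Set.singleton_subset_iff.mpr h1) h3
    rwa [hη.def] at h5
  exact Set.Subset.antisymm (hC.2 h2 h4) h4

/-- a connected component of `X_Ω` is stabilised by an open subgroup -/
theorem exists_stabilizes_connectedComponent
    [Finite (_root_.ConnectedComponents ↥(Curv2.bc k X Ω))] (y : ↥(Curv2.bc k X Ω)) :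
    ∃ E : IntermediateField k Ω, FiniteDimensional k ↥E ∧
      ∀ σ : Gal(Ω/k), (∀ a : Ω, a ∈ E → σ a = a) →
        (Curv2.galAct k X Ω σ).base '' connectedComponent y = connectedComponent y := by
  letI := continuousSMul k X Ω
  have hopen : IsOpen (connectedComponent y) :=
    ConnectedComponents.discreteTopology_iff.mp inferInstance y
  obtain ⟨V, hVo, hVc, hyV, hVD⟩ := (setup k X Ω).basis y _ hopen mem_connectedComponent
  obtain ⟨E, hE, hEV⟩ := exists_fixingSubgroup_stabilizes k X Ω V hVo hVc
  refine ⟨E, hE, fun σ hσ => ?_⟩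
  have hV := hEV σ hσ
  rw [← hV] at hyV
  obtain ⟨v, hv, hvy⟩ := hyV
  let e := Scheme.homeoOfIso (galActIso k X Ω σ)
  have h1 : e '' connectedComponent v = connectedComponent (e v) :=
    homeo_image_connectedComponent e v
  have h2 : connectedComponent v = connectedComponent y := (connectedComponent_eq (hVD hv)).symm
  have h3 : e v = y := hvy
  rw [h2, h3] at h1
  exact h1

/-- common finite level for a finite family -/
theorem exists_common {ι : Type*} [Finite ι] (P : ι → Gal(Ω/k) → Prop)
    (h : ∀ i, ∃ E : IntermediateField k Ω, FiniteDimensional k ↥E ∧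
      ∀ σ : Gal(Ω/k), (∀ a : Ω, a ∈ E → σ a = a) → P i σ) :
    ∃ E : IntermediateField k Ω, FiniteDimensional k ↥E ∧
      ∀ σ : Gal(Ω/k), (∀ a : Ω, a ∈ E → σ a = a) → ∀ i, P i σ := by
  choose E hE hP using h
  refine ⟨⨆ i, E i, ?_, fun σ hσ i => hP i σ fun a ha => hσ a (le_iSup E i ha)⟩
  haveI := hE
  exact IntermediateField.finiteDimensional_iSup_of_finite

section descent

variable (E : IntermediateField k Ω)

attribute [local instance] overInst

theorem trans_eq : (trans k X E Ω).base =
    (Curv2.bcFst E (Curv2.bc k X E) Ω).base ∘ (Scheme.homeoOfIso (transIso k X E Ω)) := by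
  rw [← transIso_hom_fst]
  rfl

theorem trans_surjective : Function.Surjective (trans k X E Ω).base := by
  rw [trans_eq]
  exact (GeomIrrFinSep.surjective_fst (Curv2.bcSnd k X E) Ω).comp
    (Scheme.homeoOfIso (transIso k X E Ω)).surjective

theorem trans_generalizingMap : GeneralizingMap (trans k X E Ω).base := by
  rw [trans_eq]
  exact GeneralizingMap.comp
    (Scheme.homeoOfIso (transIso k X E Ω)).isOpenEmbedding.generalizingMap
    (generalizingMap_bcFst E (Curv2.bc k X E) Ω)

theorem restrictScalars_fix (σ : Gal(Ω/E)) (a : Ω) (ha : a ∈ E) :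
    (σ.restrictScalars k) a = a := by
  have := σ.commutes ⟨a, ha⟩
  exact this

/-- if `Gal(Ω/E)` stabilises all irreducible components of `X_Ω` then the irreducible components
of `X_E` have irreducible inverse images in `X_Ω` -/
theorem isIrreducible_trans_preimage
    (hstab : ∀ σ : Gal(Ω/k), (∀ a : Ω, a ∈ E → σ a = a) →
      ∀ C ∈ irreducibleComponents ↥(Curv2.bc k X Ω), (Curv2.galAct k X Ω σ).base '' C = C)
    (Z' : Set ↥(Curv2.bc k X E)) (hZ' : Z' ∈ irreducibleComponents ↥(Curv2.bc k X E)) :
    IsIrreducible ((trans k X E Ω).base ⁻¹' Z') := by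
  have hc : Continuous (trans k X E Ω).base := (trans k X E Ω).continuous
  have hg := trans_generalizingMap k X Ω E
  obtain ⟨ζ, hζ⟩ := QuasiSober.sober hZ'.1 (isClosed_of_mem_irreducibleComponents Z' hZ')
  obtain ⟨y, hy⟩ := trans_surjective k X Ω E ζ
  have hT₀ := irreducibleComponent_mem_irreducibleComponents y
  have hsub₀ := GenFibre.image_subset_of_mem _ hc hZ' hζ hT₀ mem_irreducibleComponent hy
  obtain ⟨η₀, hη₀⟩ := QuasiSober.sober hT₀.1
    (isClosed_of_mem_irreducibleComponents _ hT₀)
  have h0 := GenFibre.map_genericPoint_eq _ hc hg hZ' hζ hT₀ hsub₀ hη₀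
  have key : ∀ T' : Set ↥(Curv2.bc k X Ω), T' ∈ irreducibleComponents ↥(Curv2.bc k X Ω) →
      (trans k X E Ω).base '' T' ⊆ Z' → T' = irreducibleComponent y := by
    intro T' hT' hs'
    obtain ⟨η', hη'⟩ := QuasiSober.sober hT'.1 (isClosed_of_mem_irreducibleComponents _ hT')
    have h1 := GenFibre.map_genericPoint_eq _ hc hg hZ' hζ hT' hs' hη'
    obtain ⟨σ, hσ⟩ := exists_galAct_eq_of_trans_eq k X E Ω η₀ η' (h0.trans h1.symm)
    have h2 := hstab (σ.restrictScalars k) (restrictScalars_fix k Ω E σ) _ hT₀
    have h3 : η' ∈ irreducibleComponent y := by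
      rw [← h2, ← hσ]
      exact ⟨η₀, hη₀.mem, rfl⟩
    have h4 : T' ⊆ irreducibleComponent y := by
      rw [← hη'.def]
      exact closure_minimal (Set.singleton_subset_iff.mpr h3) isClosed_irreducibleComponent
    exact Set.Subset.antisymm h4 (hT'.2 hT₀.1 h4)
  have heq : (trans k X E Ω).base ⁻¹' Z' = irreducibleComponent y := by
    rw [GenFibre.preimage_eq_sUnion _ hc hg hZ' hζ]
    apply Set.Subset.antisymm
    · rintro z ⟨T', ⟨hT', hs'⟩, hz⟩
      rw [← key T' hT' hs']
      exact hz
    · intro z hz
      exact ⟨irreducibleComponent y, ⟨hT₀, hsub₀⟩, hz⟩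
  rw [heq]
  exact hT₀.1

/-- if `Gal(Ω/E)` stabilises all connected components of `X_Ω` then the connected components
of `X_E` have connected inverse images in `X_Ω` -/
theorem isConnected_trans_preimage
    (hstab : ∀ σ : Gal(Ω/k), (∀ a : Ω, a ∈ E → σ a = a) →
      ∀ y : ↥(Curv2.bc k X Ω),
        (Curv2.galAct k X Ω σ).base '' connectedComponent y = connectedComponent y)
    (x' : ↥(Curv2.bc k X E)) :
    _root_.IsConnected ((trans k X E Ω).base ⁻¹' connectedComponent x') := by
  obtain ⟨y, hy⟩ := trans_surjective k X Ω E x'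
  have himg := trans_image_connectedComponent k X E Ω
  have heq : (trans k X E Ω).base ⁻¹' connectedComponent x' = connectedComponent y := by
    apply Set.Subset.antisymm
    · intro y₂ hy₂
      have h1 : connectedComponent ((trans k X E Ω).base y₂) = connectedComponent x' :=
        connectedComponent_eq hy₂ |>.symm
      have h2 : x' ∈ (trans k X E Ω).base '' connectedComponent y₂ := by
        rw [himg y₂, h1]; exact mem_connectedComponent
      obtain ⟨y₃, hy₃, hy₃x⟩ := h2
      obtain ⟨σ, hσ⟩ := exists_galAct_eq_of_trans_eq k X E Ω y y₃ (hy.trans hy₃x.symm)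
      have h3 := hstab (σ.restrictScalars k) (restrictScalars_fix k Ω E σ) y
      have h4 : y₃ ∈ connectedComponent y := by
        rw [← h3, ← hσ]
        exact ⟨y, mem_connectedComponent, rfl⟩
      have h5 : connectedComponent y₂ = connectedComponent y₃ := connectedComponent_eq hy₃
      have h6 : connectedComponent y = connectedComponent y₃ := connectedComponent_eq h4
      rw [h6, ← h5]
      exact mem_connectedComponent
    · intro z hz
      have : (trans k X E Ω).base z ∈ (trans k X E Ω).base '' connectedComponent y := ⟨z, hz, rfl⟩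
      rw [himg y, hy] at this
      exact this
  rw [heq]
  exact isConnected_connectedComponent

/-- transport to `(X_E)_Ω` -/
theorem preimage_bcFst_eq (S : Set ↥(Curv2.bc k X E)) :
    (Curv2.bcFst E (Curv2.bc k X E) Ω).base ⁻¹' S =
      (Scheme.homeoOfIso (transIso k X E Ω)) '' ((trans k X E Ω).base ⁻¹' S) := by
  rw [trans_eq, Set.preimage_comp, Homeomorph.image_preimage]

end descent

end Groth.Agent.Lib.Helper1.GalFinLevel
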