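import Mathlib
import Groth.Agent.S1535
import Groth.Agent.Lib.Helper21.RegularLocal
import Groth.Agent.Lib.Helper1.ConnIrr
import Groth.Agent.Lib.Helper1.GeomConnPoint
import Groth.Agent.Lib.Helper1.GenRed
import Groth.Agent.Lib.Helper1.GeomIrrGeneric

/-!
# Geometric integrality from a smooth rational point
-/

set_option autoImplicit false
set_option linter.style.haveILetI false
set_option linter.unusedSectionVars false

universe u

open CategoryTheory CategoryTheory.Limits AlgebraicGeometry

namespace Groth.Agent.Lib.Helper1.GeomIntSmooth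

variable {k : Type u} [Field k]

/-- stalks of a scheme smooth over a field are domains -/
theorem isDomain_stalk_of_smooth {W : Scheme.{u}} (g : W ⟶ Spec (CommRingCat.of k)) [Smooth g]
    (w : W) : IsDomain (W.presheaf.stalk w) := by
  letI : W.Over (Spec (CommRingCat.of k)) := ⟨g⟩
  haveI : Smooth (W ↘ Spec (CommRingCat.of k)) := ‹Smooth g›
  haveI := Groth.Agent.S1535.result k W w
  exact Groth.Agent.Lib.Helper21.isDomain_of_isRegularLocalRing _

/-- a connected smooth `k`-scheme with a rational point is geometrically irreducible -/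
theorem geometricallyIrreducible_of_smooth_of_rational {W : Scheme.{u}}
    (g : W ⟶ Spec (CommRingCat.of k)) [Smooth g] [ConnectedSpace W] (x : W)
    (φ : k →+* W.residueField x)
    (hφ : Spec.map (CommRingCat.ofHom φ) = W.fromSpecResidueField x ≫ g)
    (hsurj : Function.Surjective φ) : GeometricallyIrreducible g := by
  haveI : GeometricallyConnected g := by
    refine Groth.Agent.Lib.Helper1.GeomConnPoint.geometricallyConnected_of_point' g x φ hφ ?_
    letI := φ.toAlgebra
    intro α _
    exact hsurj α
  refine ⟨geometrically_iff_of_isClosedUnderIsomorphisms.mpr fun K _ y => ?_⟩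
  haveI : ConnectedSpace ↥(pullback g y) :=
    GeometricallyConnected.geometrically_connectedSpace _ _ _ (IsPullback.of_hasPullback _ _)
  haveI : Smooth (pullback.snd g y) := inferInstance
  haveI : IsLocallyNoetherian (pullback g y) :=
    LocallyOfFiniteType.isLocallyNoetherian (pullback.snd g y)
  exact Groth.Agent.Lib.Helper1.ConnIrr.irreducibleSpace_of_connected _
    (fun w => isDomain_stalk_of_smooth (pullback.snd g y) w)

/-- geometric irreducibility can be checked on a dense open -/
theorem geometricallyIrreducible_of_dense_open {X : Scheme.{u}} (f : X ⟶ Spec (CommRingCat.of k))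
    (U : X.Opens) (hU : Dense (U : Set X)) [GeometricallyIrreducible (U.ι ≫ f)] :
    GeometricallyIrreducible f := by
  refine ⟨geometrically_iff_of_isClosedUnderIsomorphisms.mpr fun K _ y => ?_⟩
  haveI : IrreducibleSpace ↥(pullback (U.ι ≫ f) y) :=
    GeometricallyIrreducible.geometrically_irreducibleSpace y _ _ (IsPullback.of_hasPullback _ _)
  have h1 := Groth.Agent.Lib.Helper1.GeomIrrCover.isIrreducible_preimage_opens f y U
  have hopen : IsOpenMap (pullback.fst f y).base := (pullback.fst f y).isOpenMap
  have hdense : closure ((pullback.fst f y).base ⁻¹' (U : Set X)) = Set.univ := by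
    apply Set.eq_univ_of_univ_subset
    calc Set.univ = (pullback.fst f y).base ⁻¹' closure (U : Set X) := by
          rw [hU.closure_eq, Set.preimage_univ]
      _ ⊆ closure ((pullback.fst f y).base ⁻¹' (U : Set X)) :=
          hopen.preimage_closure_subset_closure_preimage
  rw [irreducibleSpace_def]
  have := h1.closure
  rwa [hdense] at this



open CategoryTheory CategoryTheory.Limits AlgebraicGeometry

variable (k : Type u) [Field k] (X : Scheme.{u}) [X.Over (Spec (CommRingCat.of k))]
  [LocallyOfFiniteType (X ↘ Spec (CommRingCat.of k))]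

/-- the smooth locus is smooth over the base -/
theorem smooth_smoothLocus :
    Smooth ((X ↘ Spec (CommRingCat.of k)).smoothLocus.ι ≫ (X ↘ Spec (CommRingCat.of k))) := by
  rw [← Scheme.Hom.smoothLocus_eq_top_iff, ← Scheme.Hom.preimage_smoothLocus_eq]
  exact Scheme.Opens.ι_preimage_self _

/-- local rings of `X_{k'}` at points over the smooth locus are regular -/
theorem isRegularLocalRing_stalk_bc (k' : Type u) [Field k'] [Algebra k k']
    (x' : ↥(Curv2.bc k X k'))
    (hx' : (Curv2.bcFst k X k').base x' ∈ (X ↘ Spec (CommRingCat.of k)).smoothLocus) :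
    IsRegularLocalRing ((Curv2.bc k X k').presheaf.stalk x') := by
  let f := X ↘ Spec (CommRingCat.of k)
  let U := f.smoothLocus
  let y : Spec (CommRingCat.of k') ⟶ Spec (CommRingCat.of k) :=
    Spec.map (CommRingCat.ofHom (algebraMap k k'))
  haveI : Smooth (U.ι ≫ f) := smooth_smoothLocus k X
  let j : pullback (U.ι ≫ f) y ⟶ pullback f y :=
    pullback.map (U.ι ≫ f) y f y U.ι (𝟙 _) (𝟙 _) (by simp) (by simp)
  haveI : IsOpenImmersion j :=
    MorphismProperty.pullbackMap (P := @IsOpenImmersion) (inferInstance : IsOpenImmersion U.ι)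
      (inferInstance : IsOpenImmersion (𝟙 (Spec (CommRingCat.of k')))) rfl (Category.id_comp _).symm
  have hmem : x' ∈ Set.range j.base := by
    rw [Groth.Agent.Lib.Helper1.GeomIrrCover.range_pullback_map_opens]
    exact hx'
  obtain ⟨u', rfl⟩ := hmem
  letI : (pullback (U.ι ≫ f) y).Over (Spec (CommRingCat.of k')) := ⟨pullback.snd _ _⟩
  haveI : Smooth (pullback (U.ι ≫ f) y ↘ Spec (CommRingCat.of k')) :=
    inferInstanceAs (Smooth (pullback.snd (U.ι ≫ f) y))
  have hreg := Groth.Agent.S1535.result k' (pullback (U.ι ≫ f) y) u'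
  have e : (pullback f y).presheaf.stalk (j.base u') ≃+* (pullback (U.ι ≫ f) y).presheaf.stalk u' :=
    (asIso (j.stalkMap u')).commRingCatIsoToRingEquiv
  exact IsRegularLocalRing.of_ringEquiv e.symm


theorem geometricallyIntegral_of_smooth_rational [IsIntegral X] (x : X)
    (hx : Function.Surjective (Curv2.resMap k X x))
    (hsm : x ∈ (X ↘ Spec (CommRingCat.of k)).smoothLocus) :
    GeometricallyIntegral (X ↘ Spec (CommRingCat.of k)) := by
  let f := X ↘ Spec (CommRingCat.of k)
  let U := f.smoothLocus
  have hξU : genericPoint X ∈ U := (genericPoint_specializes x).mem_open U.2 hsm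
  haveI hred : GeometricallyReduced f := by
    rw [geometricallyReduced_iff]
    intro K _ y Z fst snd hpb
    letI : Algebra k K := (Spec.preimage y).hom.toAlgebra
    have hy : y = Spec.map (CommRingCat.ofHom (algebraMap k K)) := (Spec.map_preimage y).symm
    rw [hy] at hpb
    haveI : IsReduced (Curv2.bc k X K) := by
      refine Groth.Agent.Lib.Helper1.GenRed.isReduced_bc_of_generic k X (fun η hη => ?_) K
      have hηξ : genericPoint X = η := hη _ (genericPoint_specializes η)
      intro k' _ _ x' hx'
      have hmem : (Curv2.bcFst k X k').base x' ∈ U := by rw [hx', ← hηξ]; exact hξU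
      haveI := isRegularLocalRing_stalk_bc k X k' x' hmem
      haveI := Groth.Agent.Lib.Helper21.isDomain_of_isRegularLocalRing
        ((Curv2.bc k X k').presheaf.stalk x')
      infer_instance
    exact isReduced_of_isOpenImmersion hpb.isoPullback.hom
  haveI hirr : GeometricallyIrreducible f := by
    haveI : Smooth (U.ι ≫ f) := smooth_smoothLocus k X
    haveI : Nonempty ↥U := ⟨⟨x, hsm⟩⟩
    haveI : Nonempty ↥(U : Scheme.{u}) := ⟨⟨x, hsm⟩⟩
    haveI : IrreducibleSpace ↥(U : Scheme.{u}) := U.ι.isOpenEmbedding.irreducibleSpace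
    haveI : ConnectedSpace ↥(U : Scheme.{u}) := inferInstance
    let xU : ↥U := ⟨x, hsm⟩
    let φU : k →+* (U : Scheme.{u}).residueField xU :=
      (U.ι.residueFieldMap xU).hom.comp (Curv2.resMap k X x)
    have hφU : Spec.map (CommRingCat.ofHom φU) =
        (U : Scheme.{u}).fromSpecResidueField xU ≫ (U.ι ≫ f) := by
      have h1 : CommRingCat.ofHom φU =
          CommRingCat.ofHom (Curv2.resMap k X x) ≫ U.ι.residueFieldMap xU := rfl
      rw [h1, Spec.map_comp, ← Category.assoc,
        ← Scheme.Hom.SpecMap_residueFieldMap_fromSpecResidueField, Category.assoc]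
      congr 1
      exact Groth.Agent.Lib.Helper1.GeomIrrGeneric.specMap_resMap k X x
    have hsurjU : Function.Surjective φU := by
      have h2 : Function.Bijective (U.ι.residueFieldMap xU).hom :=
        ConcreteCategory.bijective_of_isIso (U.ι.residueFieldMap xU)
      exact h2.surjective.comp hx
    haveI : GeometricallyIrreducible (U.ι ≫ f) :=
      geometricallyIrreducible_of_smooth_of_rational (U.ι ≫ f) xU φU hφU hsurjU
    exact geometricallyIrreducible_of_dense_open f U (U.2.dense ⟨x, hsm⟩)
  exact GeometricallyIntegral.of_geometricallyReduced_of_geometricallyIrreducible f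

end Groth.Agent.Lib.Helper1.GeomIntSmooth
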