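import Mathlib
import Groth.Agent.Lib.Helper1.GeomIrrGeneric

/-!
# Geometric irreducibility and irreducibility of `X ×_k X`
-/

set_option autoImplicit false
set_option linter.style.haveILetI false
set_option linter.unusedSectionVars false

open Polynomial TensorProduct

namespace Groth.Agent.Lib.Helper1.GeomIrrSquare

section C
universe u
variable {k K : Type u} [Field k] [Field K] [Algebra k K]

/-- variant of `Helper15.GeomIrrSep.forward` using only the test field `k[x]/(minpoly α)`
(proof copied from there). -/
theorem forward_adjoinRoot (α : K) (hα : IsSeparable k α)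
    (Hirr : IrreducibleSpace (PrimeSpectrum (AdjoinRoot (minpoly k α) ⊗[k] K))) :
    α ∈ Set.range (algebraMap k K) := by
  by_contra hnot
  set f := minpoly k α with hf
  have hint : IsIntegral k α := hα.isIntegral
  have hirr : Irreducible f := minpoly.irreducible hint
  have hmon : f.Monic := minpoly.monic hint
  haveI : Fact (Irreducible f) := ⟨hirr⟩
  have hdeg : 2 ≤ f.natDegree := by
    have h1 : f.natDegree ≠ 1 := fun h => hnot ((minpoly.natDegree_eq_one_iff).mp h)
    have h0 := hirr.natDegree_pos
    omega
  let k' := AdjoinRoot f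
  have hT := Hirr
  rw [PrimeSpectrum.irreducibleSpace_iff_isPrime_nilradical] at hT
  let Ω := AlgebraicClosure K
  set fK := f.map (algebraMap k K) with hfK
  set g := fK /ₘ (X - C α) with hg
  have hrootα : fK.IsRoot α := by
    rw [IsRoot.def, hfK, eval_map_algebraMap]; exact minpoly.aeval k α
  have hfg : (X - C α) * g = fK := mul_divByMonic_eq_iff_isRoot.mpr hrootα
  have hsepK : fK.Separable := Separable.map hα
  have hgα : g.eval α ≠ 0 := by
    have h1 := hsepK.eval₂_derivative_ne_zero (RingHom.id K) (x := α)
      (by rw [eval₂_id]; exact hrootα)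
    rw [eval₂_id, ← hfg, derivative_mul] at h1
    simpa using h1
  have hgdeg : g.natDegree ≠ 0 := by
    have h0 : g ≠ 0 := by rintro h; rw [h] at hgα; simp at hgα
    have h1 : fK.natDegree = 1 + g.natDegree := by
      rw [← hfg, natDegree_mul (X_sub_C_ne_zero α) h0, natDegree_X_sub_C]
    have h2 : fK.natDegree = f.natDegree := natDegree_map _
    omega
  obtain ⟨β, hβ⟩ : ∃ β : Ω, aeval β g = 0 :=
    IsAlgClosed.exists_aeval_eq_zero Ω g (fun h => hgdeg (natDegree_eq_zero_iff_degree_le_zero.mpr h.le))
  have hβα : β ≠ algebraMap K Ω α := by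
    rintro rfl
    rw [aeval_algebraMap_apply, coe_aeval_eq_eval] at hβ
    exact hgα ((algebraMap K Ω).injective (by rw [hβ, map_zero]))
  have hβf : aeval β f = 0 := by
    rw [← Polynomial.aeval_map_algebraMap K, ← hfK, ← hfg, map_mul, hβ, mul_zero]
  let T := k' ⊗[k] K
  let ι : K →+* T := (Algebra.TensorProduct.includeRight : K →ₐ[k] T).toRingHom
  let r : T := AdjoinRoot.root f ⊗ₜ 1
  let u : T := r - ι α
  let v : T := g.eval₂ ι r
  have huv : u * v = 0 := by
    have h1 : u * v = fK.eval₂ ι r := by
      rw [← hfg, eval₂_mul, eval₂_sub, eval₂_X, eval₂_C]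
    rw [h1, hfK, eval₂_map]
    have h2 : ι.comp (algebraMap k K) = algebraMap k T := by
      ext x
      show (1 : k') ⊗ₜ[k] (algebraMap k K x) = _
      rw [Algebra.TensorProduct.algebraMap_apply, Algebra.algebraMap_eq_smul_one,
        Algebra.algebraMap_eq_smul_one, TensorProduct.tmul_smul, TensorProduct.smul_tmul']
    rw [h2, ← aeval_def]
    have h3 : aeval r f = (Algebra.TensorProduct.includeLeft : k' →ₐ[k] T)
        (aeval (AdjoinRoot.root f) f) := by
      rw [← aeval_algHom_apply]; rfl
    rw [h3, AdjoinRoot.aeval_eq, AdjoinRoot.mk_self, map_zero]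
  have hmem : u * v ∈ nilradical T := by rw [huv]; exact zero_mem _
  rcases hT.mem_or_mem hmem with h | h
  · let φ₂ : T →ₐ[k] Ω := Algebra.TensorProduct.productMap
      (AdjoinRoot.liftAlgHom f (Algebra.ofId k Ω) β hβf) (IsScalarTower.toAlgHom k K Ω)
    have h1 : φ₂ u = β - algebraMap K Ω α := by
      show φ₂ (AdjoinRoot.root f ⊗ₜ[k] (1:K) - (1 : AdjoinRoot f) ⊗ₜ[k] α) = _
      rw [map_sub]
      show Algebra.TensorProduct.productMap _ _ _ - Algebra.TensorProduct.productMap _ _ _ = _
      rw [Algebra.TensorProduct.productMap_apply_tmul,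
        Algebra.TensorProduct.productMap_apply_tmul, AdjoinRoot.liftAlgHom_root]
      simp
    have hn : IsNilpotent (φ₂ u) := (mem_nilradical.mp h).map φ₂
    rw [h1] at hn
    exact sub_ne_zero.mpr hβα hn.eq_zero
  · have hαf : f.eval₂ (Algebra.ofId k K) α = 0 := minpoly.aeval k α
    let φ₁ : T →ₐ[k] K := Algebra.TensorProduct.productMap
      (AdjoinRoot.liftAlgHom f (Algebra.ofId k K) α hαf) (AlgHom.id k K)
    have h1 : φ₁ v = g.eval α := by
      show (φ₁ : T →+* K) (g.eval₂ ι r) = _
      rw [hom_eval₂]
      have h2 : (φ₁ : T →+* K).comp ι = RingHom.id K := by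
        ext x
        show Algebra.TensorProduct.productMap _ _ ((1 : AdjoinRoot f) ⊗ₜ[k] x) = x
        rw [Algebra.TensorProduct.productMap_apply_tmul]
        simp
      have h3 : (φ₁ : T →+* K) r = α := by
        show Algebra.TensorProduct.productMap _ _ (AdjoinRoot.root f ⊗ₜ[k] (1 : K)) = α
        rw [Algebra.TensorProduct.productMap_apply_tmul]
        simp
      rw [h2, h3, eval₂_id]
    have hn : IsNilpotent (φ₁ v) := (mem_nilradical.mp h).map φ₁
    rw [h1] at hn
    exact hgα hn.eq_zero

theorem mem_range_of_irreducibleSpace_tensor_self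
    (H : IrreducibleSpace (PrimeSpectrum (K ⊗[k] K))) (α : K) (hα : IsSeparable k α) :
    α ∈ Set.range (algebraMap k K) := by
  apply forward_adjoinRoot α hα
  haveI : Fact (Irreducible (minpoly k α)) := ⟨minpoly.irreducible hα.isIntegral⟩
  let φ : AdjoinRoot (minpoly k α) →ₐ[k] K :=
    AdjoinRoot.liftAlgHom (minpoly k α) (Algebra.ofId k K) α (minpoly.aeval k α)
  have hφ : Function.Injective φ := φ.toRingHom.injective
  have hinj : Function.Injective (Algebra.TensorProduct.map φ (AlgHom.id k K)) := by
    have h1 : Function.Injective (LinearMap.rTensor K φ.toLinearMap) :=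
      Module.Flat.rTensor_preserves_injective_linearMap (M := K) φ.toLinearMap hφ
    have h2 : ⇑(Algebra.TensorProduct.map φ (AlgHom.id k K)) =
        ⇑(LinearMap.rTensor K φ.toLinearMap) := by
      ext x
      induction x using TensorProduct.induction_on with
      | zero => simp
      | tmul a b => simp
      | add x y hx hy => simp [hx, hy]
    rw [h2]
    exact h1
  exact Groth.Agent.Lib.Helper6.irreducibleSpace_of_injective
    (Algebra.TensorProduct.map φ (AlgHom.id k K)).toRingHom hinj

end C

open CategoryTheory CategoryTheory.Limits AlgebraicGeometry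

universe u

theorem isIrreducible_preimage_genericPoint {Y X : Type*} [TopologicalSpace Y]
    [TopologicalSpace X] [QuasiSober Y] [IrreducibleSpace Y] [QuasiSober X] [IrreducibleSpace X]
    [T0Space X] (π : Y → X) (hc : Continuous π) (hs : Function.Surjective π) :
    IsIrreducible (π ⁻¹' {genericPoint X}) := by
  have hgen : π (genericPoint Y) = genericPoint X := by
    symm
    apply (genericPoint_spec X).eq
    have h1 := (genericPoint_spec Y).image hc
    rw [Set.image_univ, hs.range_eq, closure_univ] at h1
    exact h1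
  rw [← isIrreducible_iff_closure]
  have hsub : closure (π ⁻¹' {genericPoint X}) = Set.univ := by
    apply Set.eq_univ_of_univ_subset
    rw [← genericPoint_closure (α := Y)]
    exact closure_mono (Set.singleton_subset_iff.mpr hgen)
  rw [hsub]
  exact IrreducibleSpace.isIrreducible_univ _

attribute [local instance] Curv2.resAlgebra

variable (k : Type u) [Field k] (X : Scheme.{u}) [X.Over (Spec (CommRingCat.of k))]

theorem geometricallyIrreducible_of_irreducibleSpace_square
    [IrreducibleSpace ↥(pullback (X ↘ Spec (CommRingCat.of k)) (X ↘ Spec (CommRingCat.of k)))] :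
    GeometricallyIrreducible (X ↘ Spec (CommRingCat.of k)) := by
  let f := X ↘ Spec (CommRingCat.of k)
  obtain ⟨p₀⟩ : Nonempty ↥(pullback f f) := inferInstance
  haveI : Nonempty X := ⟨(pullback.fst f f).base p₀⟩
  haveI : Surjective f := ⟨fun s => ⟨(pullback.fst f f).base p₀, Subsingleton.elim _ _⟩⟩
  haveI : Surjective (pullback.fst f f) := inferInstance
  haveI : Surjective (pullback.snd f f) := inferInstance
  haveI : IrreducibleSpace X :=
    (pullback.fst f f).surjective.irreducibleSpace (pullback.fst f f).continuous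
  let ξ : X := genericPoint X
  have hfib : IsIrreducible ((pullback.snd f f).base ⁻¹' {ξ}) :=
    isIrreducible_preimage_genericPoint _ (pullback.snd f f).continuous (pullback.snd f f).surjective
  have e0 : (pullback.snd f f).fiber ξ ≃ₜ ((pullback.snd f f).base ⁻¹' {ξ}) :=
    (pullback.snd f f).fiberHomeo ξ
  have e1 : (pullback.snd f f).fiber ξ ≅ pullback f (X.fromSpecResidueField ξ ≫ f) :=
    pullbackLeftPullbackSndIso f f (X.fromSpecResidueField ξ)
  haveI h1 : IrreducibleSpace ↥(pullback f (X.fromSpecResidueField ξ ≫ f)) := by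
    rw [← e1.hom.homeomorph.irreducibleSpace_iff, e0.irreducibleSpace_iff,
      ← isIrreducible_iff_irreducibleSpace]
    exact hfib
  haveI h2 : IrreducibleSpace ↥(Curv2.bc k X (X.residueField ξ)) := by
    have := Groth.Agent.Lib.Helper1.GeomIrrGeneric.specMap_resMap k X ξ
    change IrreducibleSpace ↥(pullback f (Spec.map (CommRingCat.ofHom (Curv2.resMap k X ξ))))
    rw [this]
    exact h1
  have h3 := (Groth.Agent.Lib.Helper1.GeomIrrGeneric.isIrreducible_fibre_iff k X ξ
    (X.residueField ξ)).mp
    (Groth.Agent.Lib.Helper1.GeomIrrGeneric.isIrreducible_fibre_of_irreducibleSpace k X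
      (X.residueField ξ))
  exact (Groth.Agent.Lib.Helper1.GeomIrrGeneric.geometricallyIrreducible_iff k X).mpr
    (fun a ha => mem_range_of_irreducibleSpace_tensor_self h3 a ha)

theorem geometricallyIrreducible_iff_irreducibleSpace_square :
    GeometricallyIrreducible (X ↘ Spec (CommRingCat.of k)) ↔
      IrreducibleSpace ↥(pullback (X ↘ Spec (CommRingCat.of k)) (X ↘ Spec (CommRingCat.of k))) := by
  constructor
  · intro h
    haveI : IrreducibleSpace X :=
      GeometricallyIrreducible.irreducibleSpace_of_subsingleton (f := X ↘ Spec (CommRingCat.of k))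
    infer_instance
  · intro h
    exact geometricallyIrreducible_of_irreducibleSpace_square k X

end Groth.Agent.Lib.Helper1.GeomIrrSquare
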