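import Mathlib
import Groth.Prelude.Def_AlgGrp

/-!
# Group actions in cartesian monoidal categories: point-wise calculus and the shear isomorphism
-/
universe u
open CategoryTheory MonoidalCategory CartesianMonoidalCategory MonObj AlgebraicGeometry

namespace Groth.Agent.Lib.Helper1
namespace GrpAct

section
variable {C : Type*} [Category C] [CartesianMonoidalCategory C] {G X : C} [GrpObj G]
  (act : G ⊗ X ⟶ X) (one_act : (η[G] ▷ X) ≫ act = (λ_ X).hom)
  (mul_act : (μ[G] ▷ X) ≫ act = (α_ G G X).hom ≫ (G ◁ act) ≫ act)

include one_act in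
/-- `1 • x = x` on `T`-points. -/
theorem one_smul' {T : C} (x : T ⟶ X) : lift (1 : T ⟶ G) x ≫ act = x := by
  have : lift (1 : T ⟶ G) x = lift (toUnit T) x ≫ (η[G] ▷ X) := by
    rw [lift_whiskerRight, Hom.one_def]
  rw [this, Category.assoc, one_act]
  simp

include mul_act in
/-- `(g * h) • x = g • (h • x)` on `T`-points. -/
theorem mul_smul' {T : C} (g h : T ⟶ G) (x : T ⟶ X) :
    lift (g * h) x ≫ act = lift g (lift h x ≫ act) ≫ act := by
  have : lift (g * h) x = lift (lift g h) x ≫ (μ[G] ▷ X) := by
    rw [lift_whiskerRight, Hom.mul_def]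
  rw [this, Category.assoc, mul_act]
  simp

/-- precomposition: `t ≫ (g • x) = (t ≫ g) • (t ≫ x)`. -/
theorem comp_smul' {T T' : C} (t : T' ⟶ T) (g : T ⟶ G) (x : T ⟶ X) :
    t ≫ lift g x ≫ act = lift (t ≫ g) (t ≫ x) ≫ act := by
  rw [← Category.assoc, comp_lift]

include one_act mul_act in
/-- The shear map `(g, x) ↦ (g, g • x)` is an isomorphism. -/
theorem shear_isIso : IsIso (lift (fst G X) act) := by
  refine ⟨lift (fst G X) (lift (fst G X)⁻¹ (snd G X) ≫ act), ?_, ?_⟩
  · apply CartesianMonoidalCategory.hom_ext
    · simp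
    · rw [Category.assoc, lift_snd, Category.id_comp, ← Category.assoc, comp_lift, lift_snd,
        GrpObj.comp_inv, lift_fst]
      calc lift (fst G X)⁻¹ act ≫ act
          = lift (fst G X)⁻¹ (lift (fst G X) (snd G X) ≫ act) ≫ act := by simp
        _ = lift ((fst G X)⁻¹ * fst G X) (snd G X) ≫ act := (mul_smul' act mul_act _ _ _).symm
        _ = snd G X := by rw [inv_mul_cancel, one_smul' act one_act]
  · apply CartesianMonoidalCategory.hom_ext
    · simp
    · rw [Category.assoc, lift_snd, Category.id_comp,
        ← mul_smul' act mul_act, mul_inv_cancel, one_smul' act one_act]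
end

/-- The action morphism `G ×_S X ⟶ X` is (shear iso) ≫ (second projection); so it has every
base-change-stable property that `G ⟶ S` has. -/
theorem act_of_prop {S : Scheme.{u}} (G X : Over S) [GrpObj G] (a : AlgGrp.Action G X)
    (P : MorphismProperty Scheme.{u}) [P.IsStableUnderBaseChange]
    (h : P G.hom) : P a.act.left := by
  have hiso : IsIso (lift (fst G X) a.act) := shear_isIso a.act a.one_act a.mul_act
  have hiso' : IsIso (lift (fst G X) a.act).left := by
    have : IsIso ((Over.forget S).map (lift (fst G X) a.act)) := inferInstance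
    exact this
  have h1 : a.act.left = (lift (fst G X) a.act).left ≫ (snd G X).left := by
    rw [← Over.comp_left, lift_snd]
  rw [h1, P.cancel_left_of_respectsIso]
  exact P.pullback_snd _ _ h

/-- A group scheme over a field surjects onto the base. -/
theorem surjective_hom_of_field (k : Type u) [Field k] (G : Over (Spec (CommRingCat.of k)))
    [GrpObj G] : Surjective G.hom :=
  ⟨fun y => ⟨(η[G]).left.base y, Subsingleton.elim _ _⟩⟩

end GrpAct
end Groth.Agent.Lib.Helper1
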