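import Groth.Agent.Lib.Helper1.ISLim3
import Mathlib.AlgebraicGeometry.Morphisms.Finite

/-!
# Finite morphisms as limits of finite morphisms of finite presentation (helper1)
-/

set_option autoImplicit false
set_option linter.unusedSectionVars false
set_option linter.style.haveILetI false
universe u

namespace Groth.Agent.Lib.Helper1.NA

open AlgebraicGeometry CategoryTheory CategoryTheory.Limits TopologicalSpace Opposite
open Scheme.IdealSheafData

/-- Ring-level core: a quotient of a finite-type algebra which is integral is already integral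
modulo a small ideal from a directed family exhausting the kernel. -/
lemma exists_isIntegral_of_directed {R B C : Type u} [CommRing R] [CommRing B] [CommRing C]
    (φ : R →+* B) (hφ : φ.FiniteType) (q : B →+* C) (hq : (q.comp φ).IsIntegral)
    {I : Type u} [Preorder I] [IsDirected I (fun a b => a ≤ b)] [Nonempty I]
    (Jd : I → Ideal B) (hJd : Monotone Jd) (hK : ⨆ b, Jd b = RingHom.ker q) :
    ∃ b₀ : I, ∀ b, b₀ ≤ b → ∀ (Cb : Type u) [CommRing Cb] (qb : B →+* Cb),
      Function.Surjective qb → RingHom.ker qb = Jd b → (qb.comp φ).IsIntegral := by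
  classical
  obtain ⟨T, hT⟩ := exists_finset_of_finiteType φ hφ
  have h1 : ∀ x : B, ∃ (P : Polynomial R) (b : I), P.Monic ∧ Polynomial.eval₂ φ x P ∈ Jd b := by
    intro x
    obtain ⟨P, hP, hP0⟩ := hq (q x)
    have h2 : q (Polynomial.eval₂ φ x P) = 0 := by
      rw [Polynomial.hom_eval₂]; exact hP0
    have h3 : Polynomial.eval₂ φ x P ∈ ⨆ b, Jd b := by rw [hK]; exact h2
    obtain ⟨b, hb⟩ := (Submodule.mem_iSup_of_directed Jd hJd.directed_le).mp h3
    exact ⟨P, b, hP, hb⟩
  choose P bx hP hPx using h1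
  obtain ⟨b₀, hb₀⟩ := Finset.exists_le (T.image bx)
  refine ⟨b₀, fun b hb Cb _ qb hqb hker => ?_⟩
  letI := (qb.comp φ).toAlgebra
  let S : Subring B := (integralClosure R Cb).toSubring.comap qb
  have hS : S = ⊤ := by
    apply hT
    · rintro _ ⟨r, rfl⟩
      change qb (φ r) ∈ integralClosure R Cb
      exact (integralClosure R Cb).algebraMap_mem r
    · intro x hx
      change qb x ∈ integralClosure R Cb
      refine ⟨P x, hP x, ?_⟩
      have h4 : Polynomial.eval₂ φ x (P x) ∈ Jd b :=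
        hJd ((hb₀ _ (Finset.mem_image_of_mem _ hx)).trans hb) (hPx x)
      rw [← hker] at h4
      have h5 : qb (Polynomial.eval₂ φ x (P x)) = 0 := h4
      rw [Polynomial.hom_eval₂] at h5
      exact h5
  intro y
  obtain ⟨x, rfl⟩ := hqb y
  have : x ∈ S := by rw [hS]; trivial
  exact this

/-- Integrality of `app` transfers to the restriction. -/
lemma isIntegral_appTop_morphismRestrict {X Y : Scheme.{u}} (f : X ⟶ Y) (U : Y.Opens)
    (h : (f.app U).hom.IsIntegral) : ((f ∣_ U).app ⊤).hom.IsIntegral := by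
  have h0 : (f ∣_ U).app ⊤ = f.app (U.ι ''ᵁ ⊤) ≫
      X.presheaf.map (eqToHom (image_morphismRestrict_preimage f U ⊤)).op :=
    morphismRestrict_appTop f U
  let a : Γ(Y, U.ι ''ᵁ ⊤) ⟶ Γ(X, f ⁻¹ᵁ (U.ι ''ᵁ ⊤)) := f.app (U.ι ''ᵁ ⊤)
  let r : Γ(X, f ⁻¹ᵁ (U.ι ''ᵁ ⊤)) ⟶ Γ(X, (f ⁻¹ᵁ U).ι ''ᵁ ((f ∣_ U) ⁻¹ᵁ ⊤)) :=
    X.presheaf.map (eqToHom (image_morphismRestrict_preimage f U ⊤)).op
  have h2 : ((f ∣_ U).app ⊤).hom = RingHom.comp r.hom a.hom := congrArg CommRingCat.Hom.hom h0
  have h1 : ∀ (U' : Y.Opens) (_ : U' = U), (f.app U').hom.IsIntegral := by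
    rintro _ rfl; exact h
  have key : (RingHom.comp r.hom a.hom).IsIntegral := by
    refine RingHom.IsIntegral.trans _ _ (h1 _ (Scheme.Opens.ι_image_top _)) ?_
    exact RingHom.isIntegral_of_surjective _ (ConcreteCategory.bijective_of_isIso r).2
  rw [h2]
  exact key

/-- Affine variant of `exists_closedImmersion_fp`. -/
theorem exists_closedImmersion_fp_affine {X S : Scheme.{u}} (f : X ⟶ S) [LocallyOfFiniteType f]
    [IsAffineHom f] [CompactSpace S] [QuasiSeparatedSpace S] :
    ∃ (X' : Scheme.{u}) (f' : X' ⟶ S) (j : X ⟶ X'), LocallyOfFinitePresentation f' ∧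
      QuasiCompact f' ∧ QuasiSeparated f' ∧ IsAffineHom f' ∧ CompactSpace X' ∧
      QuasiSeparatedSpace X' ∧ IsClosedImmersion j ∧ j ≫ f' = f := by
  have hX : CompactSpace X := QuasiCompact.compactSpace_of_compactSpace f
  have hXq : QuasiSeparatedSpace X := quasiSeparatedSpace_of_quasiSeparated f
  obtain ⟨I, _, _, hne, D, s, c, hc, e, hcomm, hfp, haff, hπ, hcomp⟩ := exists_fp_limit' f
  have hne2 := hne
  obtain ⟨i₀⟩ := hne2
  have hlft : LocallyOfFiniteType (c.π.app (op i₀)) := by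
    have h0 : coneLeg D c (op i₀) ≫ strMap D s (op i₀) = e.hom ≫ f := hcomm _
    have h1 : LocallyOfFiniteType (coneLeg D c (op i₀) ≫ strMap D s (op i₀)) := by
      rw [h0]; infer_instance
    exact locallyOfFiniteType_of_comp (coneLeg D c (op i₀)) (strMap D s (op i₀))
  have := hcomp (op i₀)
  obtain ⟨j, hj, hci⟩ := exists_isClosedImmersion_π D c hc haff i₀
  have hp : IsAffineHom (e.hom ≫ f) := inferInstance
  obtain ⟨i₁, hi₁⟩ := exists_isAffineHom_strMap D s c hc (e.hom ≫ f) hcomm haff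
    (fun i => (hfp i).2.1) (fun i => (hfp i).2.2)
  obtain ⟨k, hk1, hk2⟩ := exists_ge_ge j i₁
  have hk := hci k hk1
  have h0 : coneLeg D c (op k) ≫ strMap D s (op k) = e.hom ≫ f := hcomm _
  have hqs : QuasiSeparated (strMap D s (op k)) := (hfp _).2.2
  refine ⟨D.obj (op k), strMap D s (op k), e.inv ≫ coneLeg D c (op k), (hfp _).1, (hfp _).2.1,
    (hfp _).2.2, hi₁ k hk2, hcomp _, quasiSeparatedSpace_of_quasiSeparated (strMap D s (op k)),
    inferInstance, ?_⟩
  rw [Category.assoc, h0, Iso.inv_hom_id_assoc]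

section

variable {X X'' S : Scheme.{u}} (f'' : X'' ⟶ S) (j'' : X ⟶ X'')

/-- **Finiteness at a finite level.** -/
theorem exists_isFinite_subscheme [IsAffineHom f''] [LocallyOfFiniteType f''] [CompactSpace S]
    [IsClosedImmersion j''] [IsIntegralHom (j'' ≫ f'')]
    {I : Type u} [Preorder I] [IsDirected I (fun a b => a ≤ b)] [Nonempty I]
    (J : I → X''.IdealSheafData) (hJ : Monotone J) (hsup : (⨆ b, J b) = j''.ker) :
    ∃ b₀ : I, ∀ b, b₀ ≤ b → IsFinite ((J b).subschemeι ≫ f'') := by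
  classical
  obtain ⟨m, U, hU, hcov⟩ := exists_fin_affine_cover S
  let V : Fin m → X''.affineOpens := fun l => ⟨f'' ⁻¹ᵁ U l, (hU l).preimage f''⟩
  have h1 : ∀ l : Fin m, ∃ b₀ : I, ∀ b, b₀ ≤ b →
      (((J b).subschemeι ≫ f'').app (U l)).hom.IsIntegral := by
    intro l
    have hφ : (f''.app (U l)).hom.FiniteType := by
      have := HasRingHomProperty.appLE @LocallyOfFiniteType f'' inferInstance ⟨U l, hU l⟩
        ⟨_, (V l).2⟩ le_rfl
      rwa [Scheme.Hom.appLE_eq_app] at this
    have hq : ((j''.app (V l).1).hom.comp (f''.app (U l)).hom).IsIntegral := by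
      exact IsIntegralHom.isIntegral_app (j'' ≫ f'') (U l) (hU l)
    have hK : ⨆ b, (J b).ideal (V l) = RingHom.ker (j''.app (V l).1).hom := by
      rw [← Scheme.Hom.ker_apply j'' (V l), ← hsup, Scheme.IdealSheafData.ideal_iSup, iSup_apply]
    obtain ⟨b₀, hb₀⟩ := exists_isIntegral_of_directed (f''.app (U l)).hom hφ
      (j''.app (V l).1).hom hq (fun b => (J b).ideal (V l)) (fun b b' h => hJ h (V l)) hK
    refine ⟨b₀, fun b hb => ?_⟩
    have := hb₀ b hb _ ((J b).subschemeι.app (V l).1).hom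
      ((J b).subschemeι_app_surjective (V l)) ((J b).ker_subschemeι_app (V l))
    exact this
  choose bl hbl using h1
  obtain ⟨b₀, hb₀⟩ := Finset.exists_le (Finset.univ.image bl)
  refine ⟨b₀, fun b hb => ?_⟩
  rw [IsFinite.iff_isIntegralHom_and_locallyOfFiniteType]
  refine ⟨?_, inferInstance⟩
  rw [HasAffineProperty.iff_of_iSup_eq_top (P := @IsIntegralHom)
    (fun l : Fin m => (⟨U l, hU l⟩ : S.affineOpens)) hcov]
  intro l
  have haf : IsAffineHom ((J b).subschemeι ≫ f'') := inferInstance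
  refine ⟨(hU l).preimage ((J b).subschemeι ≫ f''), ?_⟩
  exact isIntegral_appTop_morphismRestrict _ _
    (hbl l b ((hb₀ _ (Finset.mem_image_of_mem _ (Finset.mem_univ l))).trans hb))

end

end Groth.Agent.Lib.Helper1.NA
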