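import Groth.Agent.Lib.Helper1.NAImm
import Mathlib.AlgebraicGeometry.IdealSheaf.Functorial

/-!
# Ideal sheaves on a limit of schemes (helper1)

For `Y = lim Y_b` with affine transition maps and an ideal sheaf `K` on `Y`, the ideal sheaves
`J_b = π_b⁻¹ (π_b)_* K` form a directed family with supremum `K`.
-/

set_option autoImplicit false
set_option linter.unusedSectionVars false
set_option linter.style.haveILetI false
universe u

namespace Groth.Agent.Lib.Helper1.NA

open AlgebraicGeometry CategoryTheory CategoryTheory.Limits TopologicalSpace Opposite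
open Scheme.IdealSheafData

section

variable {I : Type u} [Preorder I] [IsDirected I (fun a b => a ≤ b)] [Nonempty I]
  (D : Iᵒᵖ ⥤ Scheme.{u}) (c : Cone D) (hc : IsLimit c)
  (haff : ∀ (i j : Iᵒᵖ) (a : i ⟶ j), IsAffineHom (D.map a))
  (K : c.pt.IdealSheafData)

/-- The approximating ideal sheaves. -/
noncomputable def Jb (b : I) : c.pt.IdealSheafData :=
  (K.map (coneLeg D c (op b))).comap (coneLeg D c (op b))

lemma Jb_le (b : I) : Jb D c K b ≤ K := comap_map_le _ _

lemma Jb_mono {b b' : I} (h : b ≤ b') : Jb D c K b ≤ Jb D c K b' := by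
  have hw : coneLeg D c (op b) = coneLeg D c (op b') ≫ D.map (homOfLE h).op :=
    (c.w (homOfLE h).op).symm
  unfold Jb
  rw [hw, Scheme.IdealSheafData.map_comp, Scheme.IdealSheafData.comap_comp]
  exact comap_mono _ (comap_map_le _ _)

include hc haff in
/-- Every section over the preimage of an affine open of a stage comes from a later stage. -/
lemma exists_appLE_eq (b : I) (V : (D.obj (op b)).Opens) (hV : IsAffineOpen V)
    (s : Γ(c.pt, coneLeg D c (op b) ⁻¹ᵁ V)) :
    ∃ (k : I) (hk : b ≤ k) (s' : Γ(D.obj (op k), D.map (homOfLE hk).op ⁻¹ᵁ V))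
      (e : coneLeg D c (op b) ⁻¹ᵁ V ≤ coneLeg D c (op k) ⁻¹ᵁ (D.map (homOfLE hk).op ⁻¹ᵁ V)),
      ((coneLeg D c (op k)).appLE _ _ e).hom s' = s := by
  have haff' : ∀ {i j : Iᵒᵖ} (a : i ⟶ j), IsAffineHom (D.map a) := fun a => haff _ _ a
  have hA : ∀ j : Over (op b), IsAffine ((opensDiagram D (op b) V).obj j) :=
    fun j => hV.preimage (D.map _)
  let W : c.pt.Opens := coneLeg D c (op b) ⁻¹ᵁ V
  obtain ⟨k, t, ht⟩ := exists_appTop_π_eq_of_isAffine_of_isLimit (opensDiagram D (op b) V)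
    (opensCone D c (op b) V) (isLimitOpensCone D c hc (op b) V) (W.topIso.inv.hom s)
  have hk : b ≤ k.left.unop := leOfHom k.hom.unop
  have hkh : k.hom = (homOfLE hk).op := Subsingleton.elim _ _
  let Vk : (D.obj (op k.left.unop)).Opens := D.map (homOfLE hk).op ⁻¹ᵁ V
  have e : W ≤ coneLeg D c (op k.left.unop) ⁻¹ᵁ Vk := by
    rw [← Scheme.Hom.comp_preimage]
    have : coneLeg D c (op k.left.unop) ≫ D.map (homOfLE hk).op = coneLeg D c (op b) :=
      c.w (homOfLE hk).op
    rw [this]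
  let t' : Γ((Vk : Scheme.{u}), ⊤) := t
  refine ⟨k.left.unop, hk, Vk.topIso.hom.hom t', e, ?_⟩
  have h1 : (coneLeg _ (opensCone D c (op b) V) k).appTop =
      Vk.topIso.hom ≫ (coneLeg D c (op k.left.unop)).appLE Vk W e ≫ W.topIso.inv :=
    Scheme.Hom.resLE_app_top (coneLeg D c (op k.left.unop)) (U := Vk) (V := W) e
  have h2 : (coneLeg _ (opensCone D c (op b) V) k).appTop.hom t' = W.topIso.inv.hom s := ht
  rw [h1] at h2
  have h2' : W.topIso.inv.hom (((coneLeg D c (op k.left.unop)).appLE Vk W e).hom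
      (Vk.topIso.hom.hom t')) = W.topIso.inv.hom s := h2
  have h3 := congrArg W.topIso.hom.hom h2'
  have h4 : ∀ x, W.topIso.hom.hom (W.topIso.inv.hom x) = x := fun x => by
    rw [← RingHom.comp_apply, ← CommRingCat.hom_comp, Iso.inv_hom_id]; rfl
  rw [h4, h4] at h3
  exact h3

/-- Membership in an ideal sheaf transfers along restriction between equal affine opens. -/
lemma mem_ideal_of_res {Y : Scheme.{u}} (J : Y.IdealSheafData) {W W' : Y.affineOpens}
    (h : W'.1 ≤ W.1) (x : Γ(Y, W.1)) (hx : x ∈ J.ideal W) :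
    (Y.presheaf.map (homOfLE h).op).hom x ∈ J.ideal W' := by
  rw [← J.map_ideal (U := W') (V := W) h]
  exact Ideal.mem_map_of_mem _ hx

include hc haff in
/-- **The ideal sheaf `K` is the supremum of the approximating ideal sheaves.** -/
theorem iSup_Jb : ⨆ b, Jb D c K b = K := by
  apply le_antisymm (iSup_le (Jb_le D c K))
  have haff' : ∀ {i j : Iᵒᵖ} (a : i ⟶ j), IsAffineHom (D.map a) := fun a => haff _ _ a
  have hπ : ∀ b, IsAffineHom (coneLeg D c (op b)) := fun b => isAffineHom_π_app D c hc (op b)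
  let U : (Σ b : I, (D.obj (op b)).affineOpens) → c.pt.affineOpens := fun p =>
    ⟨coneLeg D c (op p.1) ⁻¹ᵁ p.2.1, p.2.2.preimage _⟩
  refine Scheme.IdealSheafData.le_of_iSup_eq_top U ?_ ?_
  · rw [eq_top_iff]
    intro y _
    obtain ⟨b⟩ := ‹Nonempty I›
    obtain ⟨_, ⟨V, hV, rfl⟩, hyV, -⟩ := (D.obj (op b)).isBasis_affineOpens.exists_subset_of_mem_open
      (Set.mem_univ (coneLeg D c (op b) y)) isOpen_univ
    exact Opens.mem_iSup.mpr ⟨⟨b, ⟨V, hV⟩⟩, hyV⟩
  · rintro ⟨b, V⟩
    rw [Scheme.IdealSheafData.ideal_iSup, iSup_apply]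
    intro s hs
    obtain ⟨k, hk, s', e, hs'⟩ := exists_appLE_eq D c hc haff b V.1 V.2 s
    refine (le_iSup (fun k => (Jb D c K k).ideal (U ⟨b, V⟩)) k) ?_
    let Vk : (D.obj (op k)).affineOpens := ⟨D.map (homOfLE hk).op ⁻¹ᵁ V.1, V.2.preimage _⟩
    let W' : c.pt.affineOpens := ⟨coneLeg D c (op k) ⁻¹ᵁ Vk.1, Vk.2.preimage _⟩
    have hW'W : W'.1 ≤ (U ⟨b, V⟩).1 := by
      change coneLeg D c (op k) ⁻¹ᵁ (D.map (homOfLE hk).op ⁻¹ᵁ V.1) ≤ coneLeg D c (op b) ⁻¹ᵁ V.1
      rw [← Scheme.Hom.comp_preimage]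
      have : coneLeg D c (op k) ≫ D.map (homOfLE hk).op = coneLeg D c (op b) :=
        c.w (homOfLE hk).op
      rw [this]
    let s'' : Γ(c.pt, W'.1) := ((coneLeg D c (op k)).app Vk.1).hom s'
    have hs1 : s = (c.pt.presheaf.map (homOfLE e).op).hom s'' := hs'.symm
    have hs2 : s'' = (c.pt.presheaf.map (homOfLE hW'W).op).hom s := by
      rw [hs1, ← RingHom.comp_apply, ← CommRingCat.hom_comp, ← Functor.map_comp]
      have : (homOfLE e).op ≫ (homOfLE hW'W).op = 𝟙 _ := Subsingleton.elim _ _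
      rw [this, CategoryTheory.Functor.map_id]
      rfl
    -- `s''` lies in `K`
    have h1 : s'' ∈ K.ideal W' := by
      rw [hs2]
      exact mem_ideal_of_res K hW'W s hs
    -- `s'` lies in the pushforward
    have h2 : s' ∈ (K.map (coneLeg D c (op k))).ideal Vk := by
      rw [Scheme.IdealSheafData.ideal_map_of_isAffineHom]
      exact h1
    -- hence `s''` lies in `Jb k`
    have h3 : s'' ∈ (Jb D c K k).ideal W' := by
      have := Scheme.IdealSheafData.le_map_comap (K.map (coneLeg D c (op k))) (coneLeg D c (op k)) Vk h2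
      rw [Scheme.IdealSheafData.ideal_map_of_isAffineHom] at this
      exact this
    rw [hs1]
    exact mem_ideal_of_res (Jb D c K k) e s'' h3

end

end Groth.Agent.Lib.Helper1.NA
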