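import Groth.Agent.Lib.Helper1.ISLim2
import Mathlib.CategoryTheory.Limits.Constructions.Over.Connected

/-!
# Schemes of finite type as limits of schemes of finite presentation with closed immersions as
transition maps (helper1)
-/

set_option autoImplicit false
set_option linter.unusedSectionVars false
set_option linter.style.haveILetI false
universe u

namespace Groth.Agent.Lib.Helper1.NA

open AlgebraicGeometry CategoryTheory CategoryTheory.Limits TopologicalSpace Opposite
open Scheme.IdealSheafData

/-- Strengthened form of S2078: closed immersion into a qcqs scheme of finite presentation. -/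
theorem exists_closedImmersion_fp {X S : Scheme.{u}} (f : X ⟶ S) [LocallyOfFiniteType f]
    [CompactSpace X] [QuasiSeparatedSpace X] [QuasiSeparatedSpace S] :
    ∃ (X' : Scheme.{u}) (f' : X' ⟶ S) (j : X ⟶ X'), LocallyOfFinitePresentation f' ∧
      QuasiCompact f' ∧ QuasiSeparated f' ∧ CompactSpace X' ∧ QuasiSeparatedSpace X' ∧
      IsClosedImmersion j ∧ j ≫ f' = f := by
  obtain ⟨I, _, _, hne, D, s, c, hc, e, hcomm, hfp, haff, hπ, hcomp⟩ := exists_fp_limit' f
  have hne2 := hne
  obtain ⟨i₀⟩ := hne2
  have hlft : LocallyOfFiniteType (c.π.app (op i₀)) := by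
    have h0 : coneLeg D c (op i₀) ≫ strMap D s (op i₀) = e.hom ≫ f := hcomm _
    have h1 : LocallyOfFiniteType (coneLeg D c (op i₀) ≫ strMap D s (op i₀)) := by
      rw [h0]; infer_instance
    exact locallyOfFiniteType_of_comp (coneLeg D c (op i₀)) (strMap D s (op i₀))
  have := hcomp (op i₀)
  obtain ⟨j, hj, hci⟩ := exists_isClosedImmersion_π D c hc haff i₀
  have hk := hci j le_rfl
  have h0 : coneLeg D c (op j) ≫ strMap D s (op j) = e.hom ≫ f := hcomm _
  have hqs : QuasiSeparated (strMap D s (op j)) := (hfp _).2.2
  refine ⟨D.obj (op j), strMap D s (op j), e.inv ≫ coneLeg D c (op j), (hfp _).1, (hfp _).2.1,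
    (hfp _).2.2, hcomp _, quasiSeparatedSpace_of_quasiSeparated (strMap D s (op j)),
    inferInstance, ?_⟩
  rw [Category.assoc, h0, Iso.inv_hom_id_assoc]

/-- Pushing a limit cone in `Over X'` forward along `X' ⟶ S` gives a limit cone in `Over S`, for
connected index categories. -/
noncomputable def isLimitMapConeOverMap {J : Type u} [Category.{u} J] [IsConnected J]
    {X' S : Scheme.{u}} (f' : X' ⟶ S) {D : J ⥤ Over X'} (c : Cone D) (hc : IsLimit c) :
    IsLimit ((Over.map f').mapCone c) := by
  have h1 : IsLimit ((Over.forget X').mapCone c) := isLimitOfPreserves (Over.forget X') hc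
  have h2 : IsLimit ((Over.forget S).mapCone ((Over.map f').mapCone c)) := h1
  exact isLimitOfReflects (Over.forget S) h2

end Groth.Agent.Lib.Helper1.NA
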