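import Groth.Agent.Lib.Helper1.FSchNoeth

/-!
# Ideal sheaves of finite type: locality and stability under inverse image
-/

universe u

open CategoryTheory CategoryTheory.Limits AlgebraicGeometry

namespace Groth.Agent.Lib.Helper1

/-- Finite generation of the ideals of an ideal sheaf can be checked on an affine open cover. -/
theorem idealFT_of_iSup_eq_top {X : Scheme.{u}} (I : X.IdealSheafData) {ι : Type*}
    (U : ι → X.affineOpens) (hU : ⨆ i, (U i).1 = ⊤) (H : ∀ i, (I.ideal (U i)).FG) :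
    FSch.IdealFT I := by
  intro V
  have : ∀ x : V.1, ∃ (i : ι) (r : Γ(X, V.1)) (rU : Γ(X, U i)),
      X.basicOpen r = X.basicOpen rU ∧ x.1 ∈ X.basicOpen r := by
    intro ⟨x, hxV⟩
    obtain ⟨i, hi⟩ := TopologicalSpace.Opens.mem_iSup.mp (hU.ge (Set.mem_univ x))
    exact ⟨i, exists_basicOpen_le_affine_inter V.2 (U i).2 _ ⟨hxV, hi⟩⟩
  choose i r rU e hxr using this
  have hspan : Ideal.span (Set.range r) = ⊤ := by
    rw [← V.2.self_le_iSup_basicOpen_iff]
    exact fun x hxV ↦ TopologicalSpace.Opens.mem_iSup.mpr ⟨⟨_, _, rfl⟩, hxr ⟨x, hxV⟩⟩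
  apply Ideal.fg_of_localizationSpan (Set.range r) hspan
  rintro ⟨_, j, rfl⟩
  have inst := V.2.isLocalization_basicOpen (r j)
  -- the ideal on the basic open is finitely generated
  have hfgU : (I.ideal ⟨X.basicOpen (rU j), (U (i j)).2.basicOpen _⟩).FG := by
    rw [← I.map_ideal (U := ⟨X.basicOpen (rU j), (U (i j)).2.basicOpen _⟩) (V := U (i j))
      (X.basicOpen_le _)]
    exact (H _).map _
  have heq : (⟨X.basicOpen (r j), V.2.basicOpen _⟩ : X.affineOpens) =
      ⟨X.basicOpen (rU j), (U (i j)).2.basicOpen _⟩ := Subtype.ext (e j)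
  have hfgV : (I.ideal ⟨X.basicOpen (r j), V.2.basicOpen _⟩).FG := by rw [heq]; exact hfgU
  have hmap : (I.ideal V).map (algebraMap Γ(X, V.1) Γ(X, X.basicOpen (r j))) =
      I.ideal ⟨X.basicOpen (r j), V.2.basicOpen _⟩ :=
    I.map_ideal (U := ⟨X.basicOpen (r j), V.2.basicOpen _⟩) (V := V) (X.basicOpen_le (r j))
  let eq : Γ(X, X.basicOpen (r j)) ≃ₐ[Γ(X, V.1)] Localization.Away (r j) :=
    IsLocalization.algEquiv (Submonoid.powers (r j)) _ _
  have hcomp : (eq : Γ(X, X.basicOpen (r j)) →+* Localization.Away (r j)).comp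
      (algebraMap Γ(X, V.1) Γ(X, X.basicOpen (r j))) =
      algebraMap Γ(X, V.1) (Localization.Away (r j)) := by
    ext x
    exact eq.commutes x
  rw [← hcomp, ← Ideal.map_map, hmap]
  exact hfgV.map _

/-- The inverse image of an ideal sheaf of finite type is of finite type. -/
theorem idealFT_comap {X Y : Scheme.{u}} (I : Y.IdealSheafData) (hI : FSch.IdealFT I) (f : X ⟶ Y) :
    FSch.IdealFT (I.comap f) := by
  refine idealFT_of_iSup_eq_top (I.comap f)
    (fun i : {p : X.affineOpens × Y.affineOpens // p.1.1 ≤ f ⁻¹ᵁ p.2.1} => i.1.1)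
    (iSup_affineOpens_le_preimage f) ?_
  rintro ⟨⟨U, V⟩, e⟩
  rw [ideal_comap I f U V e]
  exact (hI V).map _

/-- On a locally Noetherian scheme every ideal sheaf is of finite type. -/
theorem idealFT_of_isLocallyNoetherian {X : Scheme.{u}} [IsLocallyNoetherian X]
    (I : X.IdealSheafData) : FSch.IdealFT I := by
  intro U
  have : IsNoetherianRing Γ(X, U.1) := IsLocallyNoetherian.component_noetherian U
  exact IsNoetherian.noetherian _

/-- An adic morphism to a locally Noetherian adic formal system with locally Noetherian level `0`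
has a locally Noetherian adic formal source. -/
theorem isLocNoethFormal_of_isAdicHom {𝔛 𝔖 : FSch.Sys.{u}} (f : 𝔛 ⟶ 𝔖) (h𝔖 : 𝔖.IsLocNoethFormal)
    (hf : FSch.IsAdicHom f) [IsLocallyNoetherian (𝔛.X 0)] : 𝔛.IsLocNoethFormal := by
  have hF := isFormal_of_isAdicHom f hf h𝔖.1
  have hA := isAdic_of_isAdicHom f hf h𝔖.1 h𝔖.2.1
  refine ⟨hF, hA, fun n => ?_⟩
  have hcl := (h𝔖.1 0).1
  have := h𝔖.2.2 1
  have hft : FSch.IdealFT (𝔛.ι 0).ker := by
    rw [ker_of_isPullback (hf 0)]
    exact idealFT_comap _ (idealFT_of_isLocallyNoetherian _) _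
  exact isLocallyNoetherian_level 𝔛 hF hA hft n

end Groth.Agent.Lib.Helper1
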