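import Groth.Agent.Lib.Helper1.ISFin
import Groth.Agent.Lib.Helper1.AbsImg

/-!
# Integral morphisms as limits of finite morphisms of finite presentation (helper1)
-/

set_option autoImplicit false
set_option linter.unusedSectionVars false
set_option linter.style.haveILetI false
universe u

namespace Groth.Agent.Lib.Helper1.IntLim

open AlgebraicGeometry CategoryTheory CategoryTheory.Limits TopologicalSpace Opposite
open Scheme.IdealSheafData
open Groth.Agent.Lib.Helper1.NA Groth.Agent.Lib.Helper1.Abs

section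

variable {X X'' S : Scheme.{u}} (f'' : X'' ⟶ S) (j'' : X ⟶ X'')

/-- **Finiteness at a finite level.** -/
theorem exists_isFinite_subscheme' [IsAffineHom f''] [LocallyOfFiniteType f''] [CompactSpace S]
    [QuasiCompact j''] [IsIntegralHom (j'' ≫ f'')]
    {I : Type u} [Preorder I] [IsDirected I (fun a b => a ≤ b)] [Nonempty I]
    (J : I → X''.IdealSheafData) (hJ : Monotone J) (hsup : (⨆ b, J b) = j''.ker) :
    ∃ b₀ : I, ∀ b, b₀ ≤ b → IsFinite ((J b).subschemeι ≫ f'') := by
  classical
  obtain ⟨m, U, hU, hcov⟩ := exists_fin_affine_cover S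
  let V : Fin m → X''.affineOpens := fun l => ⟨f'' ⁻¹ᵁ U l, (hU l).preimage f''⟩
  have h1 : ∀ l : Fin m, ∃ b₀ : I, ∀ b, b₀ ≤ b →
      (((J b).subschemeι ≫ f'').app (U l)).hom.IsIntegral := by
    intro l
    have hφ : (f''.app (U l)).hom.FiniteType := by
      have := HasRingHomProperty.appLE @LocallyOfFiniteType f'' inferInstance ⟨U l, hU l⟩
        ⟨_, (V l).2⟩ le_rfl
      rwa [Scheme.Hom.appLE_eq_app] at this
    have hq : ((j''.app (V l).1).hom.comp (f''.app (U l)).hom).IsIntegral := by
      exact IsIntegralHom.isIntegral_app (j'' ≫ f'') (U l) (hU l)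
    have hK : ⨆ b, (J b).ideal (V l) = RingHom.ker (j''.app (V l).1).hom := by
      rw [← Scheme.Hom.ker_apply j'' (V l), ← hsup, Scheme.IdealSheafData.ideal_iSup, iSup_apply]
    obtain ⟨b₀, hb₀⟩ := exists_isIntegral_of_directed (f''.app (U l)).hom hφ
      (j''.app (V l).1).hom hq (fun b => (J b).ideal (V l)) (fun b b' h => hJ h (V l)) hK
    refine ⟨b₀, fun b hb => ?_⟩
    have := hb₀ b hb _ ((J b).subschemeι.app (V l).1).hom
      ((J b).subschemeι_app_surjective (V l)) ((J b).ker_subschemeι_app (V l))
    exact this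
  choose bl hbl using h1
  obtain ⟨b₀, hb₀⟩ := Finset.exists_le (Finset.univ.image bl)
  refine ⟨b₀, fun b hb => ?_⟩
  rw [IsFinite.iff_isIntegralHom_and_locallyOfFiniteType]
  refine ⟨?_, inferInstance⟩
  rw [HasAffineProperty.iff_of_iSup_eq_top (P := @IsIntegralHom)
    (fun l : Fin m => (⟨U l, hU l⟩ : S.affineOpens)) hcov]
  intro l
  have haf : IsAffineHom ((J b).subschemeι ≫ f'') := inferInstance
  refine ⟨(hU l).preimage ((J b).subschemeι ≫ f''), ?_⟩
  exact isIntegral_appTop_morphismRestrict _ _
    (hbl l b ((hb₀ _ (Finset.mem_image_of_mem _ (Finset.mem_univ l))).trans hb))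

end

/-- The ideal sheaf of a closed immersion `g` defines a closed subscheme isomorphic to the source
of `g`. -/
lemma subschemeι_ker_eq {Z Y : Scheme.{u}} (g : Z ⟶ Y) [IsClosedImmersion g] :
    g.ker.subschemeι = inv g.toImage ≫ g := by
  rw [IsIso.eq_inv_comp]
  exact g.toImage_imageι

/-- Two closed subschemes of finite presentation are contained in a common closed subscheme of
finite presentation, inside any prescribed "kernel". -/
theorem exists_fp_ge {Y T : Scheme.{u}} (A A₂ : Y.IdealSheafData)
    (hA : LocallyOfFinitePresentation A.subschemeι)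
    (hA₂ : LocallyOfFinitePresentation A₂.subschemeι) (π : T ⟶ Y) (h1 : A ≤ π.ker)
    (h2 : A₂ ≤ π.ker) :
    ∃ A₃ : Y.IdealSheafData, A ≤ A₃ ∧ A₂ ≤ A₃ ∧ A₃ ≤ π.ker ∧
      LocallyOfFinitePresentation A₃.subschemeι := by
  let B : A.subscheme.IdealSheafData := A₂.comap A.subschemeι
  let g : B.subscheme ⟶ Y := B.subschemeι ≫ A.subschemeι
  have hBfp : LocallyOfFinitePresentation B.subschemeι := by
    have h := Scheme.IdealSheafData.comapIso_hom_fst A₂ A.subschemeι
    change LocallyOfFinitePresentation (A₂.comap A.subschemeι).subschemeι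
    rw [← h]
    infer_instance
  have hgfp : LocallyOfFinitePresentation g := inferInstance
  refine ⟨g.ker, ?_, ?_, ?_, ?_⟩
  · have := ker_le_ker_comp B.subschemeι A.subschemeι
    rwa [Scheme.IdealSheafData.ker_subschemeι] at this
  · change A₂ ≤ (B.subschemeι ≫ A.subschemeι).ker
    rw [← Scheme.IdealSheafData.map_ker, Scheme.IdealSheafData.ker_subschemeι]
    exact Scheme.IdealSheafData.le_map_comap (f := A.subschemeι) (J := A₂)
  · let j : T ⟶ A.subscheme := IsClosedImmersion.lift A.subschemeι π (by
      rw [Scheme.IdealSheafData.ker_subschemeι]; exact h1)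
    have hj : j ≫ A.subschemeι = π := IsClosedImmersion.lift_fac _ _ _
    have hBj : B ≤ j.ker := by
      change A₂.comap A.subschemeι ≤ j.ker
      rw [← Scheme.IdealSheafData.le_map_iff_comap_le, Scheme.IdealSheafData.map_ker, hj]
      exact h2
    let l : T ⟶ B.subscheme := IsClosedImmersion.lift B.subschemeι j (by
      rw [Scheme.IdealSheafData.ker_subschemeι]; exact hBj)
    have hl : l ≫ B.subschemeι = j := IsClosedImmersion.lift_fac _ _ _
    have hπ : π = l ≫ g := by
      change π = l ≫ B.subschemeι ≫ A.subschemeι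
      rw [← Category.assoc, hl, hj]
    rw [hπ]
    exact ker_le_ker_comp l g
  · rw [subschemeι_ker_eq g]
    infer_instance

/-- **Key step**: inside the kernel of an integral-over-the-base map to an affine scheme of finite
type, every closed subscheme of finite presentation contains one which is moreover finite over the
base. -/
theorem exists_finite_fp_ge {Y S T : Scheme.{u}} (σ : Y ⟶ S) [IsAffineHom σ]
    [LocallyOfFiniteType σ] [CompactSpace S] [QuasiSeparatedSpace S] (π : T ⟶ Y) [CompactSpace T]
    (hint : IsIntegralHom (π ≫ σ)) (A : Y.IdealSheafData)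
    (hAfp : LocallyOfFinitePresentation A.subschemeι) (hA : A ≤ π.ker) :
    ∃ J : Y.IdealSheafData, A ≤ J ∧ J ≤ π.ker ∧ LocallyOfFinitePresentation J.subschemeι ∧
      IsFinite (J.subschemeι ≫ σ) := by
  let f'' : A.subscheme ⟶ S := A.subschemeι ≫ σ
  haveI : IsAffineHom f'' := inferInstance
  haveI : LocallyOfFiniteType f'' := inferInstance
  haveI : CompactSpace A.subscheme := QuasiCompact.compactSpace_of_compactSpace f''
  haveI : QuasiSeparatedSpace A.subscheme := quasiSeparatedSpace_of_quasiSeparated f''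
  let j'' : T ⟶ A.subscheme := IsClosedImmersion.lift A.subschemeι π (by
    rw [Scheme.IdealSheafData.ker_subschemeι]; exact hA)
  have hj : j'' ≫ A.subschemeι = π := IsClosedImmersion.lift_fac _ _ _
  haveI : QuasiCompact j'' := inferInstance
  haveI : IsIntegralHom (j'' ≫ f'') := by
    change IsIntegralHom (j'' ≫ A.subschemeι ≫ σ)
    rw [← Category.assoc, hj]; exact hint
  obtain ⟨I', _, _, _, J', hJ'mono, hJ'sup, hJ'fp⟩ := exists_closed_fp_family (j''.ker).subschemeι
  rw [Scheme.IdealSheafData.ker_subschemeι] at hJ'sup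
  obtain ⟨b₀, hb₀⟩ := exists_isFinite_subscheme' f'' j'' J' hJ'mono hJ'sup
  have hfin := hb₀ b₀ le_rfl
  have hfp := hJ'fp b₀
  let g : (J' b₀).subscheme ⟶ Y := (J' b₀).subschemeι ≫ A.subschemeι
  have hgfp : LocallyOfFinitePresentation g := inferInstance
  refine ⟨g.ker, ?_, ?_, ?_, ?_⟩
  · have := ker_le_ker_comp (J' b₀).subschemeι A.subschemeι
    rwa [Scheme.IdealSheafData.ker_subschemeι] at this
  · have hle : J' b₀ ≤ j''.ker := by rw [← hJ'sup]; exact le_iSup J' b₀
    let l : T ⟶ (J' b₀).subscheme := IsClosedImmersion.lift (J' b₀).subschemeι j'' (by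
      rw [Scheme.IdealSheafData.ker_subschemeι]; exact hle)
    have hl : l ≫ (J' b₀).subschemeι = j'' := IsClosedImmersion.lift_fac _ _ _
    have hπ : π = l ≫ g := by
      change π = l ≫ (J' b₀).subschemeι ≫ A.subschemeι
      rw [← Category.assoc, hl, hj]
    rw [hπ]
    exact ker_le_ker_comp l g
  · rw [subschemeι_ker_eq g]
    infer_instance
  · rw [subschemeι_ker_eq g, Category.assoc]
    change IsFinite (inv g.toImage ≫ (J' b₀).subschemeι ≫ f'')
    infer_instance

end Groth.Agent.Lib.Helper1.IntLim
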