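import Groth.Agent.Lib.Helper1.NAFp2

/-!
# Restricting a limit presentation over an open of the base (helper1)
-/

set_option autoImplicit false
set_option linter.unusedSectionVars false
set_option linter.style.haveILetI false
universe u

namespace Groth.Agent.Lib.Helper1.NA

open AlgebraicGeometry CategoryTheory CategoryTheory.Limits TopologicalSpace Opposite

section

variable {I : Type u} [Preorder I] (D : Iᵒᵖ ⥤ Scheme.{u}) {X : Scheme.{u}}
  (s : D ⟶ (Functor.const Iᵒᵖ).obj X) (c : Cone D) (p : c.pt ⟶ X)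
  (hp : ∀ i, c.π.app i ≫ s.app i = p) (U : X.Opens)

/-- The structure maps, with the expected type. -/
abbrev strMap (i : Iᵒᵖ) : D.obj i ⟶ X := s.app i

lemma map_strMap {i i' : Iᵒᵖ} (a : i ⟶ i') : D.map a ≫ strMap D s i' = strMap D s i := by
  have := s.naturality a
  rw [this]
  exact Category.comp_id _

/-- The preimages of an open of the base. -/
def baseZo (i : Iᵒᵖ) : (D.obj i).Opens := strMap D s i ⁻¹ᵁ U

lemma baseZo_map (i i' : Iᵒᵖ) (a : i ⟶ i') : D.map a ⁻¹ᵁ baseZo D s U i' = baseZo D s U i := by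
  unfold baseZo
  rw [← Scheme.Hom.comp_preimage, map_strMap]

include hp in
lemma baseZo_π (i : Iᵒᵖ) : c.π.app i ⁻¹ᵁ baseZo D s U i = p ⁻¹ᵁ U := by
  unfold baseZo
  rw [← Scheme.Hom.comp_preimage]
  have : c.π.app i ≫ strMap D s i = p := hp i
  rw [this]

end

section affine

variable {I : Type u} [Preorder I] [IsDirected I (fun a b => a ≤ b)] [Nonempty I]
  (D : Iᵒᵖ ⥤ Scheme.{u}) {X : Scheme.{u}}
  (s : D ⟶ (Functor.const Iᵒᵖ).obj X) (c : Cone D) (hc : IsLimit c) (p : c.pt ⟶ X)
  (hp : ∀ i, c.π.app i ≫ s.app i = p)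
  (haff : ∀ (i j : Iᵒᵖ) (a : i ⟶ j), IsAffineHom (D.map a))
  (hqc : ∀ i, QuasiCompact (strMap D s i)) (hqs : ∀ i, QuasiSeparated (strMap D s i))

include hc hp haff hqc hqs in
/-- If the limit is affine over an affine open of the base, so are the late stages. -/
theorem exists_isAffineOpen_preimage [QuasiSeparatedSpace X] [IsAffineHom p] (U : X.Opens)
    (hU : IsAffineOpen U) :
    ∃ i₀ : I, ∀ i, i₀ ≤ i → IsAffineOpen (strMap D s (op i) ⁻¹ᵁ U) := by
  let Zo := baseZo D s U
  have hZo := baseZo_map D s U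
  have hZV := baseZo_π D s c p hp U
  let ZD := OpensFam.ZD D Zo hZo
  let cZ : Cone ZD := OpensFam.cZ D Zo hZo c (p ⁻¹ᵁ U) hZV
  have hcZ : IsLimit cZ := OpensFam.isLimit_cZ D Zo hZo c (p ⁻¹ᵁ U) hZV hc
  have hA : ∀ {i j : Iᵒᵖ} (a : i ⟶ j), IsAffineHom (ZD.map a) := fun {i j} a =>
    MorphismProperty.of_isPullback (P := @IsAffineHom)
      (OpensFam.isPullback_ζ D Zo hZo i j a).flip (haff _ _ a)
  have hC : ∀ i, CompactSpace (ZD.obj i) := fun i => by
    have := hqc i
    exact isCompact_iff_compactSpace.mp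
      (QuasiCompact.isCompact_preimage (f := strMap D s i) _ U.2 hU.isCompact)
  have hQ : ∀ i, QuasiSeparatedSpace (ZD.obj i) := fun i => by
    have := hqs i
    have : QuasiSeparatedSpace (D.obj i) := quasiSeparatedSpace_of_quasiSeparated (strMap D s i)
    exact (Zo i).ι.isOpenEmbedding.quasiSeparatedSpace
  have hpt : IsAffine cZ.pt := hU.preimage p
  obtain ⟨i₀, hi₀⟩ := Scheme.exists_isAffine_of_isLimit ZD cZ hcZ
  refine ⟨i₀.unop, fun i hi => ?_⟩
  have h1 : IsAffineOpen (Zo i₀) := hi₀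
  have h2 := hZo (op i) i₀ (homOfLE hi).op
  have := haff (op i) i₀ (homOfLE hi).op
  have h3 := h1.preimage (D.map (homOfLE hi).op)
  rw [h2] at h3
  exact h3

include hc hp haff hqc hqs in
/-- If the limit is affine over the base, so are the late stages. -/
theorem exists_isAffineHom_strMap [CompactSpace X] [QuasiSeparatedSpace X] [IsAffineHom p] :
    ∃ i₀ : I, ∀ i, i₀ ≤ i → IsAffineHom (strMap D s (op i)) := by
  classical
  obtain ⟨m, U, hU, hcov⟩ := exists_fin_affine_cover X
  have h := fun k => exists_isAffineOpen_preimage D s c hc p hp haff hqc hqs (U k) (hU k)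
  choose ik hik using h
  obtain ⟨i₀, hi₀⟩ := Finset.exists_le (Finset.univ.image ik)
  refine ⟨i₀, fun i hi => ?_⟩
  apply isAffineHom_of_forall_exists_isAffineOpen
  intro x
  have hx : x ∈ ⨆ k, U k := by rw [hcov]; trivial
  obtain ⟨k, hk⟩ := Opens.mem_iSup.mp hx
  exact ⟨U k, hk, hU k, hik k i
    ((hi₀ _ (Finset.mem_image_of_mem _ (Finset.mem_univ k))).trans hi)⟩

end affine

end Groth.Agent.Lib.Helper1.NA
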