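import Groth.Agent.Lib.Helper1.IntLim
import Groth.Agent.Lib.Helper1.NABase

/-!
# Integral morphisms as limits of finite morphisms of finite presentation, II (helper1)

The doubly-indexed system `(i, J)`: `i` a stage of a relative approximation `X = lim X_i`, and
`J` an ideal sheaf on `X_i` of finite presentation, contained in the kernel of `X ⟶ X_i`, with
`V(J)` finite over the base.
-/

set_option autoImplicit false
set_option linter.unusedSectionVars false
set_option linter.style.haveILetI false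
universe u

namespace Groth.Agent.Lib.Helper1.IntLim

open AlgebraicGeometry CategoryTheory CategoryTheory.Limits TopologicalSpace Opposite
open Scheme.IdealSheafData
open Groth.Agent.Lib.Helper1.NA Groth.Agent.Lib.Helper1.Abs

section IdxSys

variable {I : Type u} [Preorder I] (D : Iᵒᵖ ⥤ Scheme.{u}) {S : Scheme.{u}}
  (s : D ⟶ (Functor.const Iᵒᵖ).obj S) (c : Cone D)

/-- The transition maps of `D`. -/
abbrev trD {i k : I} (h : i ≤ k) : D.obj (op k) ⟶ D.obj (op i) := D.map (homOfLE h).op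

lemma trD_refl (i : I) : trD D (le_refl i) = 𝟙 _ := D.map_id _

lemma trD_trans {i k l : I} (h : i ≤ k) (h' : k ≤ l) : trD D h' ≫ trD D h = trD D (h.trans h') := by
  unfold trD
  rw [← D.map_comp]
  rfl

lemma coneLeg_trD {i k : I} (h : i ≤ k) : coneLeg D c (op k) ≫ trD D h = coneLeg D c (op i) :=
  c.w _

lemma trD_strMap {i k : I} (h : i ≤ k) : trD D h ≫ strMap D s (op i) = strMap D s (op k) :=
  map_strMap D s _

/-- The admissible ideals at level `i`. -/
def IdxAt (i : I) : Type u :=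
  {J : (D.obj (op i)).IdealSheafData // J ≤ (coneLeg D c (op i)).ker ∧
    LocallyOfFinitePresentation J.subschemeι ∧ IsFinite (J.subschemeι ≫ strMap D s (op i))}

/-- The index set of pairs `(i, J)`. -/
structure Idx where
  /-- the stage -/
  i : I
  /-- the ideal sheaf -/
  J : (D.obj (op i)).IdealSheafData
  J_le : J ≤ (coneLeg D c (op i)).ker
  fp : LocallyOfFinitePresentation J.subschemeι
  finite : IsFinite (J.subschemeι ≫ strMap D s (op i))

variable {D s c}

instance : Preorder (Idx D s c) where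
  le P Q := P.i ≤ Q.i ∧ ∀ h : P.i ≤ Q.i, P.J.comap (trD D h) ≤ Q.J
  le_refl P := ⟨le_refl _, fun h => by
    rw [trD_refl, Scheme.IdealSheafData.comap_id]⟩
  le_trans P Q R h1 h2 := ⟨h1.1.trans h2.1, fun h => by
    rw [← trD_trans D h1.1 h2.1, Scheme.IdealSheafData.comap_comp]
    exact (Scheme.IdealSheafData.comap_mono _ (h1.2 h1.1)).trans (h2.2 h2.1)⟩

lemma Idx.le_fst {P Q : Idx D s c} (h : P ≤ Q) : P.i ≤ Q.i := h.1

lemma Idx.le_map {P Q : Idx D s c} (h : P ≤ Q) : P.J ≤ Q.J.map (trD D h.1) :=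
  Scheme.IdealSheafData.le_map_iff_comap_le.mpr (h.2 h.1)

/-- The transition maps `V(J_Q) ⟶ V(J_P)` for `P ≤ Q`. -/
noncomputable def Idx.tr {P Q : Idx D s c} (h : P ≤ Q) : Q.J.subscheme ⟶ P.J.subscheme :=
  Scheme.IdealSheafData.subschemeMap Q.J P.J (trD D h.1) (Idx.le_map h)

@[reassoc]
lemma Idx.tr_ι {P Q : Idx D s c} (h : P ≤ Q) :
    Idx.tr h ≫ P.J.subschemeι = Q.J.subschemeι ≫ trD D h.1 :=
  Scheme.IdealSheafData.subschemeMap_subschemeι _ _ _ _

/-- The structure map `V(J_P) ⟶ S`. -/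
noncomputable abbrev Idx.str (P : Idx D s c) : P.J.subscheme ⟶ S :=
  P.J.subschemeι ≫ strMap D s (op P.i)

lemma Idx.tr_str {P Q : Idx D s c} (h : P ≤ Q) : Idx.tr h ≫ P.str = Q.str := by
  unfold Idx.str
  rw [Idx.tr_ι_assoc, trD_strMap]

lemma Idx.tr_refl (P : Idx D s c) (h : P ≤ P) : Idx.tr h = 𝟙 _ := by
  rw [← cancel_mono P.J.subschemeι, Idx.tr_ι, trD_refl, Category.comp_id, Category.id_comp]

lemma Idx.tr_trans {P Q R : Idx D s c} (h : P ≤ Q) (h' : Q ≤ R) (h'' : P ≤ R) :
    Idx.tr h' ≫ Idx.tr h = Idx.tr h'' := by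
  rw [← cancel_mono P.J.subschemeι, Category.assoc, Idx.tr_ι, Idx.tr_ι_assoc, Idx.tr_ι,
    trD_trans]

variable (D s c)

/-- The diagram of the `V(J)` over `S`. -/
noncomputable def idxD : (Idx D s c)ᵒᵖ ⥤ Over S where
  obj P := Over.mk P.unop.str
  map {P Q} a := Over.homMk (Idx.tr (leOfHom a.unop)) (Idx.tr_str _)
  map_id P := by
    apply Over.OverMorphism.ext
    simp only [Over.homMk_left, Over.id_left]
    exact Idx.tr_refl P.unop _
  map_comp {P Q R} a b := by
    apply Over.OverMorphism.ext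
    simp only [Over.homMk_left, Over.comp_left]
    exact (Idx.tr_trans (leOfHom b.unop) (leOfHom a.unop) _).symm

variable {D s c}

/-- The map from the limit to `V(J_P)`. -/
noncomputable def Idx.toV (P : Idx D s c) : c.pt ⟶ P.J.subscheme :=
  IsClosedImmersion.lift P.J.subschemeι (coneLeg D c (op P.i)) (by
    rw [Scheme.IdealSheafData.ker_subschemeι]; exact P.J_le)

@[reassoc]
lemma Idx.toV_ι (P : Idx D s c) : P.toV ≫ P.J.subschemeι = coneLeg D c (op P.i) :=
  IsClosedImmersion.lift_fac _ _ _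

lemma Idx.toV_tr {P Q : Idx D s c} (h : P ≤ Q) : Q.toV ≫ Idx.tr h = P.toV := by
  rw [← cancel_mono P.J.subschemeι, Category.assoc, Idx.tr_ι, Idx.toV_ι_assoc, Idx.toV_ι,
    coneLeg_trD]

variable (D s c) (p : c.pt ⟶ S) (hp : ∀ i, coneLeg D c i ≫ strMap D s i = p)

include hp in
lemma Idx.toV_str (P : Idx D s c) : P.toV ≫ P.str = p := by
  unfold Idx.str
  rw [Idx.toV_ι_assoc, hp]

/-- The cone over the diagram of the `V(J)` with point `c.pt`. -/
noncomputable def idxCone : Cone (idxD D s c) where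
  pt := Over.mk p
  π :=
    { app := fun P => Over.homMk P.unop.toV (Idx.toV_str D s c p hp P.unop)
      naturality := fun P Q a => by
        apply Over.OverMorphism.ext
        change 𝟙 _ ≫ Q.unop.toV = P.unop.toV ≫ Idx.tr (leOfHom a.unop)
        rw [Category.id_comp, Idx.toV_tr] }

end IdxSys

lemma fp_comap {X Y : Scheme.{u}} (f : X ⟶ Y) (J : Y.IdealSheafData)
    (h : LocallyOfFinitePresentation J.subschemeι) :
    LocallyOfFinitePresentation (J.comap f).subschemeι := by
  rw [← Scheme.IdealSheafData.comapIso_hom_fst J f]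
  infer_instance

section Directed

variable {I : Type u} [Preorder I] [IsDirected I (fun a b => a ≤ b)] [Nonempty I]
  (D : Iᵒᵖ ⥤ Scheme.{u}) {S : Scheme.{u}}
  (s : D ⟶ (Functor.const Iᵒᵖ).obj S) (c : Cone D) (hc : IsLimit c)
  (p : c.pt ⟶ S) (hp : ∀ i, coneLeg D c i ≫ strMap D s i = p)
  (haffσ : ∀ i, IsAffineHom (strMap D s i)) (hlftσ : ∀ i, LocallyOfFiniteType (strMap D s i))
  [CompactSpace S] [QuasiSeparatedSpace S] [CompactSpace c.pt] (hint : IsIntegralHom p)

include hp haffσ hlftσ hint in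
lemma exists_idxAt_ge (k : I) (A : (D.obj (op k)).IdealSheafData)
    (hAfp : LocallyOfFinitePresentation A.subschemeι) (hA : A ≤ (coneLeg D c (op k)).ker) :
    ∃ Q : IdxAt D s c k, A ≤ Q.1 := by
  haveI := haffσ (op k)
  haveI := hlftσ (op k)
  have hint' : IsIntegralHom (coneLeg D c (op k) ≫ strMap D s (op k)) := by rw [hp]; exact hint
  obtain ⟨J, h1, h2, h3, h4⟩ :=
    exists_finite_fp_ge (strMap D s (op k)) (coneLeg D c (op k)) hint' A hAfp hA
  exact ⟨⟨J, h2, h3, h4⟩, h1⟩

include hp haffσ hlftσ hint in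
lemma nonempty_idxAt (k : I) : Nonempty (IdxAt D s c k) := by
  obtain ⟨Q, -⟩ := exists_idxAt_ge D s c p hp haffσ hlftσ hint k ⊥ inferInstance bot_le
  exact ⟨Q⟩

include hp haffσ hlftσ hint in
lemma nonempty_idx : Nonempty (Idx D s c) := by
  obtain ⟨k⟩ := ‹Nonempty I›
  obtain ⟨Q⟩ := nonempty_idxAt D s c p hp haffσ hlftσ hint k
  exact ⟨⟨k, Q.1, Q.2.1, Q.2.2.1, Q.2.2.2⟩⟩

lemma comap_le_ker {i k : I} (h : i ≤ k) (J : (D.obj (op i)).IdealSheafData)
    (hJ : J ≤ (coneLeg D c (op i)).ker) : J.comap (trD D h) ≤ (coneLeg D c (op k)).ker := by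
  rw [← Scheme.IdealSheafData.le_map_iff_comap_le, Scheme.IdealSheafData.map_ker, coneLeg_trD]
  exact hJ

include hp haffσ hlftσ hint in
lemma isDirected_idx : IsDirected (Idx D s c) (fun a b => a ≤ b) := ⟨fun P Q => by
  obtain ⟨k, hPk, hQk⟩ := exists_ge_ge P.i Q.i
  obtain ⟨A₃, h1, h2, h3, h4⟩ := exists_fp_ge (P.J.comap (trD D hPk)) (Q.J.comap (trD D hQk))
    (fp_comap _ _ P.fp) (fp_comap _ _ Q.fp) (coneLeg D c (op k))
    (comap_le_ker D c hPk _ P.J_le) (comap_le_ker D c hQk _ Q.J_le)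
  obtain ⟨R, hR⟩ := exists_idxAt_ge D s c p hp haffσ hlftσ hint k A₃ h4 h3
  exact ⟨⟨k, R.1, R.2.1, R.2.2.1, R.2.2.2⟩, ⟨hPk, fun _ => h1.trans hR⟩,
    ⟨hQk, fun _ => h2.trans hR⟩⟩⟩

/-- A chosen index at each level. -/
noncomputable def pk (k : I) : Idx D s c :=
  ⟨k, (nonempty_idxAt D s c p hp haffσ hlftσ hint k).some.1,
    (nonempty_idxAt D s c p hp haffσ hlftσ hint k).some.2.1,
    (nonempty_idxAt D s c p hp haffσ hlftσ hint k).some.2.2.1,
    (nonempty_idxAt D s c p hp haffσ hlftσ hint k).some.2.2.2⟩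

lemma pk_le (k : I) : k ≤ (pk D s c p hp haffσ hlftσ hint k).i := le_refl k

section Lift

variable (t : Cone (idxD D s c ⋙ Over.forget S))

/-- The legs of a cone over the `V(J)`, with the expected type. -/
abbrev tLeg (P : Idx D s c) : t.pt ⟶ P.J.subscheme := t.π.app (op P)

lemma tLeg_tr {P Q : Idx D s c} (h : P ≤ Q) : tLeg D s c t Q ≫ Idx.tr h = tLeg D s c t P :=
  t.w (homOfLE h).op

/-- The map to stage `k` induced by the leg at an index `P` above `k`. -/
noncomputable def θ (P : Idx D s c) (k : I) (hk : k ≤ P.i) : t.pt ⟶ D.obj (op k) :=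
  tLeg D s c t P ≫ P.J.subschemeι ≫ trD D hk

lemma θ_eq_of_le {P Q : Idx D s c} (h : P ≤ Q) (k : I) (hk : k ≤ P.i) :
    θ D s c t Q k (hk.trans h.1) = θ D s c t P k hk := by
  unfold θ
  rw [← tLeg_tr D s c t h, Category.assoc, Idx.tr_ι_assoc, trD_trans]

include hp haffσ hlftσ hint in
lemma θ_indep (P P' : Idx D s c) (k : I) (hk : k ≤ P.i) (hk' : k ≤ P'.i) :
    θ D s c t P k hk = θ D s c t P' k hk' := by
  obtain ⟨Q, hPQ, hP'Q⟩ := (isDirected_idx D s c p hp haffσ hlftσ hint).directed P P'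
  rw [← θ_eq_of_le D s c t hPQ k hk, ← θ_eq_of_le D s c t hP'Q k hk']

lemma θ_trD (P : Idx D s c) {k l : I} (hk : k ≤ P.i) (h : l ≤ k) :
    θ D s c t P k hk ≫ trD D h = θ D s c t P l (h.trans hk) := by
  unfold θ
  rw [Category.assoc, Category.assoc, trD_trans]

/-- The induced maps to the stages. -/
noncomputable def τ (k : I) : t.pt ⟶ D.obj (op k) :=
  θ D s c t (pk D s c p hp haffσ hlftσ hint k) k (pk_le D s c p hp haffσ hlftσ hint k)

lemma τ_eq (P : Idx D s c) (k : I) (hk : k ≤ P.i) :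
    τ D s c p hp haffσ hlftσ hint t k = θ D s c t P k hk :=
  θ_indep D s c p hp haffσ hlftσ hint t _ _ _ _ _

/-- The induced cone over `D`. -/
noncomputable def tCone : Cone D where
  pt := t.pt
  π :=
    { app := fun k => τ D s c p hp haffσ hlftσ hint t k.unop
      naturality := fun k l a => by
        change 𝟙 _ ≫ τ D s c p hp haffσ hlftσ hint t l.unop =
          τ D s c p hp haffσ hlftσ hint t k.unop ≫ trD D (leOfHom a.unop)
        rw [Category.id_comp]
        unfold τ
        rw [θ_trD]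
        exact θ_indep D s c p hp haffσ hlftσ hint t _ _ _ _ _ }

end Lift

/-- The Scheme-level limit property. -/
noncomputable def isLimitForgetIdxCone :
    IsLimit ((Over.forget S).mapCone (idxCone D s c p hp)) where
  lift t := hc.lift (tCone D s c p hp haffσ hlftσ hint t)
  fac t P := by
    let l : t.pt ⟶ c.pt := hc.lift (tCone D s c p hp haffσ hlftσ hint t)
    have hl : ∀ k : I, l ≫ coneLeg D c (op k) = τ D s c p hp haffσ hlftσ hint t k := fun k =>
      hc.fac (tCone D s c p hp haffσ hlftσ hint t) (op k)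
    change l ≫ P.unop.toV = tLeg D s c t P.unop
    rw [← cancel_mono P.unop.J.subschemeι, Category.assoc, Idx.toV_ι, hl,
      τ_eq D s c p hp haffσ hlftσ hint t P.unop P.unop.i le_rfl]
    unfold θ
    rw [trD_refl, Category.comp_id]
  uniq t m hm := by
    let m' : t.pt ⟶ c.pt := m
    have hm' : ∀ P : Idx D s c, m' ≫ P.toV = tLeg D s c t P := fun P => hm (op P)
    change m' = hc.lift (tCone D s c p hp haffσ hlftσ hint t)
    refine hc.hom_ext fun k => ?_
    have h1 : hc.lift (tCone D s c p hp haffσ hlftσ hint t) ≫ c.π.app k =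
        τ D s c p hp haffσ hlftσ hint t k.unop :=
      hc.fac (tCone D s c p hp haffσ hlftσ hint t) k
    have h2 : m' ≫ coneLeg D c k = τ D s c p hp haffσ hlftσ hint t k.unop := by
      unfold τ θ
      rw [← hm', Category.assoc, Idx.toV_ι_assoc, coneLeg_trD]
    exact h2.trans h1.symm

/-- `X` over `S` is the limit of the `V(J)` over `S`. -/
noncomputable def isLimitIdxCone : IsLimit (idxCone D s c p hp) := by
  haveI := isDirected_idx D s c p hp haffσ hlftσ hint
  haveI := nonempty_idx D s c p hp haffσ hlftσ hint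
  haveI : IsConnected (Idx D s c)ᵒᵖ := IsCofiltered.isConnected _
  exact isLimitOfReflects (Over.forget S) (isLimitForgetIdxCone D s c hc p hp haffσ hlftσ hint)

end Directed

end Groth.Agent.Lib.Helper1.IntLim
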