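import Mathlib

/-!
# Local Noetherianity and base change along an essentially finite type field extension
-/

set_option autoImplicit false
set_option linter.style.haveILetI false
set_option linter.unusedSectionVars false

universe u

open TensorProduct CategoryTheory CategoryTheory.Limits AlgebraicGeometry

namespace Groth.Agent.Lib.Helper1.LocNoethBC

/-- Noetherianity descends along faithfully flat ring maps. -/
theorem isNoetherianRing_of_faithfullyFlat (R S : Type*) [CommRing R] [CommRing S] [Algebra R S]
    [Module.FaithfullyFlat R S] [IsNoetherianRing S] : IsNoetherianRing R := by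
  rw [isNoetherianRing_iff, isNoetherian_iff']
  have hmono : StrictMono (fun I : Ideal R => I.map (algebraMap R S)) := by
    intro I J hIJ
    refine lt_of_le_of_ne (Ideal.map_mono hIJ.le) ?_
    intro h
    have := congrArg (Ideal.comap (algebraMap R S)) h
    simp only [Ideal.comap_map_eq_self_of_faithfullyFlat] at this
    exact hIJ.ne this
  haveI : WellFoundedGT (Ideal S) := (isNoetherian_iff'.1 (inferInstance : IsNoetherianRing S))
  exact hmono.wellFoundedGT

theorem isNoetherianRing_tensor_iff (k R K : Type u) [Field k] [CommRing R] [Algebra k R]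
    [Field K] [Algebra k K] [Algebra.EssFiniteType k K] :
    IsNoetherianRing (R ⊗[k] K) ↔ IsNoetherianRing R := by
  constructor
  · intro h
    haveI : Module.FaithfullyFlat R (R ⊗[k] K) := inferInstance
    exact isNoetherianRing_of_faithfullyFlat R (R ⊗[k] K)
  · intro h
    exact Algebra.EssFiniteType.isNoetherianRing R (R ⊗[k] K)

variable {k K : Type u} [Field k] [Field K] [Algebra k K] [Algebra.EssFiniteType k K]

theorem isLocallyNoetherian_pullback_Spec_iff (R : CommRingCat.{u})
    (f : Spec R ⟶ Spec (CommRingCat.of k)) :
    IsLocallyNoetherian (pullback f (Spec.map (CommRingCat.ofHom (algebraMap k K)))) ↔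
      IsLocallyNoetherian (Spec R) := by
  letI : Algebra k R := (Spec.preimage f).hom.toAlgebra
  have hf : f = Spec.map (CommRingCat.ofHom (algebraMap k R)) := (Spec.map_preimage f).symm
  rw [hf]
  have e := pullbackSpecIso k R K
  rw [isLocallyNoetherian_Spec]
  constructor
  · intro h
    haveI : IsLocallyNoetherian (Spec (.of (R ⊗[k] K))) :=
      isLocallyNoetherian_of_isOpenImmersion e.inv
    have h2 : IsNoetherianRing (R ⊗[k] K) :=
      isLocallyNoetherian_Spec.mp (inferInstance : IsLocallyNoetherian (Spec (.of (R ⊗[k] K))))
    exact (isNoetherianRing_tensor_iff k R K).mp h2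
  · intro h
    have h2 : IsNoetherianRing (R ⊗[k] K) := (isNoetherianRing_tensor_iff k R K).mpr h
    haveI : IsLocallyNoetherian (Spec (.of (R ⊗[k] K))) := isLocallyNoetherian_Spec.mpr h2
    exact isLocallyNoetherian_of_isOpenImmersion e.hom

theorem isLocallyNoetherian_pullback_field_iff {X : Scheme.{u}}
    (f : X ⟶ Spec (CommRingCat.of k)) :
    IsLocallyNoetherian (pullback f (Spec.map (CommRingCat.ofHom (algebraMap k K)))) ↔
      IsLocallyNoetherian X := by
  rw [isLocallyNoetherian_iff_openCover (Scheme.Pullback.openCoverOfLeft X.affineCover f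
    (Spec.map (CommRingCat.ofHom (algebraMap k K)))), isLocallyNoetherian_iff_openCover X.affineCover]
  refine forall_congr' fun i => ?_
  exact isLocallyNoetherian_pullback_Spec_iff _ _

end Groth.Agent.Lib.Helper1.LocNoethBC
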