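import Mathlib
import Groth.Prelude.Def_ArtFun5
import Groth.Prelude.Def_ArtFun3
import Groth.Agent.Lib.Helper1.ArtFunArt
import Groth.Agent.Lib.Helper1.ArtFunFibre
import Groth.Agent.Lib.Helper1.ArtFunInduct

/-!
# Fitting idempotent of an endomorphism of an Artinian local algebra
-/
universe u v
open CategoryTheory

namespace Groth.Agent.Lib.Helper1.MV

open ArtFun ArtFun.Art Groth.Agent.Lib.Helper1.ArtFunLib

variable {Λ : Type u} {k : Type u} [CommRing Λ] [Field k] [Algebra Λ k]

/-- the underlying `Λ`-linear endomorphism -/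
noncomputable def lin {A : Art Λ k} (f : A ⟶ A) : A →ₗ[Λ] A := f.toAlgHom.toLinearMap

/-- iterates of an endomorphism -/
noncomputable def iter {A : Art Λ k} (f : A ⟶ A) : ℕ → (A ⟶ A)
  | 0 => 𝟙 A
  | (j + 1) => iter f j ≫ f

lemma iter_succ_apply {A : Art Λ k} (f : A ⟶ A) (j : ℕ) (a : A) : iter f (j + 1) a = f (iter f j a) := rfl

lemma iter_zero_apply {A : Art Λ k} (f : A ⟶ A) (a : A) : iter f 0 a = a := rfl

lemma lin_iter {A : Art Λ k} (f : A ⟶ A) (j : ℕ) (a : A) : (lin f ^ j) a = iter f j a := by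
  induction j generalizing a with
  | zero => rfl
  | succ j ih =>
    rw [pow_succ', Module.End.mul_apply, ih]
    rfl

lemma iter_map_zero {A : Art Λ k} (f : A ⟶ A) (j : ℕ) : iter f j (0 : A) = 0 :=
  map_zero (iter f j).toAlgHom

lemma iter_map_sub {A : Art Λ k} (f : A ⟶ A) (j : ℕ) (a b : A) : iter f j (a - b) = iter f j a - iter f j b :=
  map_sub (iter f j).toAlgHom a b

lemma iter_eq_zero_of_le {A : Art Λ k} (f : A ⟶ A) {i i' : ℕ} (h : i ≤ i') {x : A} (hx : iter f i x = 0) :
    iter f i' x = 0 := by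
  induction i', h using Nat.le_induction with
  | base => exact hx
  | succ m _ ih =>
    rw [iter_succ_apply, ih]
    exact map_zero f.toAlgHom

lemma iter_comm {A B : Art Λ k} (f : A ⟶ A) (g : B ⟶ B) (t : A ⟶ B) (h : f ≫ t = t ≫ g) (i : ℕ) (a : A) :
    t (iter f i a) = iter g i (t a) := by
  induction i with
  | zero => rfl
  | succ i ih =>
    rw [iter_succ_apply, iter_succ_apply, ← ih]
    have := congrArg (fun m : A ⟶ B => m (iter f i a)) h
    exact this

lemma map_iter_eq {F : Art Λ k ⥤ Type v} {A : Art Λ k} (f : A ⟶ A) (x : F.obj A) (hx : F.map f x = x) (j : ℕ) :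
    F.map (iter f j) x = x := by
  induction j with
  | zero => exact FunctorToTypes.map_id_apply F x
  | succ j ih =>
    change F.map (iter f j ≫ f) x = x
    rw [FunctorToTypes.map_comp_apply, ih, hx]

variable [IsNoetherianRing Λ] [Module.Finite Λ k]

/-- an element in all the ranges of the iterates and in the kernel of one of them vanishes -/
theorem fitting_unique {A : Art Λ k} (f : A ⟶ A) (x : A) (h1 : ∀ i, ∃ b, iter f i b = x)
    (h2 : ∃ i, iter f i x = 0) : x = 0 := by
  haveI : IsNoetherian Λ A := (isFiniteLength_iff_isNoetherian_isArtinian.1 (isFiniteLength_obj A)).1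
  haveI : IsArtinian Λ A := isArtinian_obj A
  have hd := ((lin f).isCompl_iSup_ker_pow_iInf_range_pow).disjoint
  rw [Submodule.disjoint_def] at hd
  apply hd x
  · obtain ⟨i, hi⟩ := h2
    apply (le_iSup (fun n => LinearMap.ker (lin f ^ n)) i)
    rw [LinearMap.mem_ker, lin_iter]
    exact hi
  · rw [Submodule.mem_iInf]
    intro i
    obtain ⟨b, hb⟩ := h1 i
    exact ⟨b, by rw [lin_iter]; exact hb⟩

/-- **Fitting idempotent**: an idempotent endomorphism whose image is the eventual image of `f` and whose kernel is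
the eventual kernel, and which fixes every element of `F` fixed by `f`. -/
theorem exists_fitting_idem (F : Art Λ k ⥤ Type v) {A : Art Λ k} (f : A ⟶ A) :
    ∃ e : A ⟶ A, (∀ x : F.obj A, F.map f x = x → F.map e x = x) ∧
      (∀ (a : A) (i : ℕ), ∃ b, iter f i b = e a) ∧
      (∀ a : A, ∃ i, iter f i (a - e a) = 0) := by
  haveI : IsNoetherian Λ A := (isFiniteLength_iff_isNoetherian_isArtinian.1 (isFiniteLength_obj A)).1
  haveI : IsArtinian Λ A := isArtinian_obj A
  obtain ⟨j, hj⟩ := Filter.eventually_atTop.mp ((lin f).eventually_isCompl_ker_pow_range_pow.and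
    (lin f).eventually_iInf_range_pow_eq)
  obtain ⟨hc, hr⟩ := hj j le_rfl
  set ψ : A ⟶ A := iter f j with hψdef
  have hψ : ∀ a, (lin f ^ j) a = ψ a := lin_iter f j
  have hdis : ∀ x : A, ψ x = 0 → (∃ y, ψ y = x) → x = 0 := by
    intro x hx hy
    have hd := hc.disjoint
    rw [Submodule.disjoint_def] at hd
    apply hd x
    · rw [LinearMap.mem_ker, hψ]; exact hx
    · obtain ⟨y, hy⟩ := hy
      exact ⟨y, by rw [hψ]; exact hy⟩
  have hcod : ∀ b : A, ∃ κ c : A, ψ κ = 0 ∧ b = κ + ψ c := by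
    intro b
    have hb : b ∈ LinearMap.ker (lin f ^ j) ⊔ LinearMap.range (lin f ^ j) := by
      rw [hc.sup_eq_top]; exact Submodule.mem_top
    obtain ⟨κ, hκ, t, ht, hkt⟩ := Submodule.mem_sup.1 hb
    obtain ⟨c, hc'⟩ := ht
    refine ⟨κ, c, ?_, ?_⟩
    · rw [← hψ]; exact hκ
    · rw [← hkt, ← hc', hψ]
  let K : Ideal A := RingHom.ker ψ.toAlgHom
  have hK : K ≤ IsLocalRing.maximalIdeal A := ker_le_maximalIdeal ψ
  let q : A ⟶ Art.quot A K hK := Art.quotMk A K hK
  let ψb : Art.quot A K hK ⟶ A := Art.quotFactor hK ψ le_rfl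
  have hqψ : q ≫ ψb = ψ := Art.quotMk_quotFactor hK ψ le_rfl
  have hqψ' : ∀ a : A, ψb (q a) = ψ a := fun a => rfl
  have hqs : Function.Surjective q := Art.quotMk_surjective A K hK
  have hq0 : ∀ a : A, q a = 0 ↔ ψ a = 0 := fun a => by
    rw [quotMk_eq_zero_iff A K hK a]
    exact RingHom.mem_ker
  let σ : Art.quot A K hK ⟶ Art.quot A K hK := ψb ≫ q
  have hσ : ∀ a : A, σ (q a) = q (ψ a) := fun a => rfl
  have hσbij : Function.Bijective σ := by
    constructor
    · have : Function.Injective σ.toAlgHom := by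
        rw [injective_iff_map_eq_zero]
        intro x hx
        obtain ⟨a, rfl⟩ := hqs x
        have h1 : q (ψ a) = 0 := hx
        rw [hq0] at h1
        have h2 : ψ a = 0 := hdis (ψ a) h1 ⟨a, rfl⟩
        exact (hq0 a).2 h2
      exact this
    · intro y
      obtain ⟨b, rfl⟩ := hqs y
      obtain ⟨κ, c, hκ, hb⟩ := hcod b
      refine ⟨q c, ?_⟩
      rw [hσ, hb]
      have : q (κ + ψ c) = q κ + q (ψ c) := map_add q.toAlgHom κ (ψ c)
      rw [this, (hq0 κ).2 hκ, zero_add]
  haveI : IsIso σ := isIso_of_bijective σ hσbij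
  have hσinv : ∀ y, σ (inv σ y) = y := fun y => by
    change (inv σ ≫ σ) y = y
    rw [IsIso.inv_hom_id]; rfl
  refine ⟨q ≫ inv σ ≫ ψb, ?_, ?_, ?_⟩
  · intro x hx
    have hψx : F.map ψ x = x := map_iter_eq f x hx j
    have hζ : F.map σ (F.map q x) = F.map q x := by
      change F.map (ψb ≫ q) (F.map q x) = F.map q x
      rw [FunctorToTypes.map_comp_apply, ← FunctorToTypes.map_comp_apply F q ψb, hqψ, hψx]
    have hζ' : F.map (inv σ) (F.map q x) = F.map q x := by
      have := map_inv_map F σ (F.map q x)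
      rw [hζ] at this
      exact this
    rw [FunctorToTypes.map_comp_apply, FunctorToTypes.map_comp_apply, hζ',
      ← FunctorToTypes.map_comp_apply F q ψb, hqψ, hψx]
  · intro a i
    obtain ⟨c, hc'⟩ := hqs (inv σ (q a))
    have h1 : (q ≫ inv σ ≫ ψb) a = ψ c := by
      change ψb (inv σ (q a)) = ψ c
      rw [← hc']
      rfl
    have h2 : ψ c ∈ ⨅ m, LinearMap.range (lin f ^ m) := by
      rw [hr]
      exact ⟨c, hψ c⟩
    rw [Submodule.mem_iInf] at h2
    obtain ⟨b, hb⟩ := h2 i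
    refine ⟨b, ?_⟩
    rw [h1, ← hb, lin_iter]
  · intro a
    refine ⟨j, ?_⟩
    change ψ (a - (q ≫ inv σ ≫ ψb) a) = 0
    rw [← hq0]
    have h1 : q (a - (q ≫ inv σ ≫ ψb) a) = q a - q ((q ≫ inv σ ≫ ψb) a) := map_sub q.toAlgHom _ _
    rw [h1]
    have h2 : q ((q ≫ inv σ ≫ ψb) a) = σ (inv σ (q a)) := rfl
    rw [h2, hσinv, sub_self]

end Groth.Agent.Lib.Helper1.MV
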