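import Mathlib
import Groth.Prelude.Def_W4sfdMinVersal
import Groth.Agent.Lib.Helper1.MV1
import Groth.Agent.Lib.Helper1.ArtFunMinVersal
import Groth.Agent.Lib.Helper1.ArtFunPSRing
import Groth.Agent.Lib.Helper1.ArtFunCotangent

/-!
# The idempotent attached to an endomorphism of a formal couple
-/
universe u v
open CategoryTheory

namespace Groth.Agent.Lib.Helper1.MV

open ArtFun ArtFun.Art Groth.Agent.Lib.Helper1.ArtFunLib

variable {Λ : Type u} {k : Type u} [CommRing Λ] [Field k] [Algebra Λ k]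
variable [IsNoetherianRing Λ] [Module.Finite Λ k]

/-- a map of coefficient rings which is surjective on `R/m²` is surjective -/
theorem surjective_of_truncMapOfHom_one {R' R : CRing Λ k} (φ : R'.carrier →ₐ[Λ] R.carrier)
    (hφ : R.res.comp φ = R'.res) (h1 : Function.Surjective (CRing.truncMapOfHom φ hφ 1)) :
    Function.Surjective φ := by
  haveI : IsPrecomplete (IsLocalRing.maximalIdeal R'.carrier) R'.carrier :=
    R'.isAdicComplete.toIsPrecomplete
  have tfae := surjective_tfae_cotangent R'.res R.res R'.res_surjective R.res_surjective φ hφ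
  apply (tfae.out 1 0).1
  apply le_antisymm
  · exact sup_le (map_maximalIdeal_le R'.res R.res R'.res_surjective R.res_surjective φ hφ)
      (Ideal.pow_le_self two_ne_zero)
  · intro y hy
    obtain ⟨x, hx⟩ := h1 (Ideal.Quotient.mk _ y)
    obtain ⟨a, rfl⟩ := Ideal.Quotient.mk_surjective x
    have h2 : Ideal.Quotient.mk (R.mpow 1) (φ a) = Ideal.Quotient.mk (R.mpow 1) y := hx
    rw [Ideal.Quotient.eq] at h2
    have ham : a ∈ IsLocalRing.maximalIdeal R'.carrier := by
      rw [CRing.mem_maximalIdeal_iff, ← CRing.res_comp_apply φ hφ]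
      have h3 : φ a = y + (φ a - y) := by ring
      rw [h3, map_add, (CRing.mem_maximalIdeal_iff R y).1 hy,
        (CRing.mem_maximalIdeal_iff R _).1 (CRing.mpow_le R 1 h2), add_zero]
    have h4 : y = φ a - (φ a - y) := by ring
    rw [h4]
    apply Ideal.sub_mem
    · exact Ideal.mem_sup_left (Ideal.mem_map_of_mem _ ham)
    · exact Ideal.mem_sup_right h2

/-- **the idempotent of an endomorphism of a formal couple** -/
theorem exists_idem_of_endo {F : Art Λ k ⥤ Type v} (R : CRing Λ k) (ξ : Family R.carrier R.res F)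
    (φ : R.carrier →ₐ[Λ] R.carrier) (hφ : R.res.comp φ = R.res)
    (hE : (ξ.along φ hφ).toFormalElt = ξ.toFormalElt) :
    ∃ (e : R.carrier →ₐ[Λ] R.carrier) (he : R.res.comp e = R.res),
      (ξ.along e he).toFormalElt = ξ.toFormalElt ∧ (∀ r, e (e r) = e r) ∧
      (Function.Injective e → Function.Surjective φ) := by
  classical
  let f : ∀ n, R.trunc n ⟶ R.trunc n := fun n => CRing.truncMapOfHom φ hφ n
  have hfx : ∀ n, F.map (f n) (ξ.toFormalElt.elt n) = ξ.toFormalElt.elt n := fun n =>
    congrArg (fun u : FormalElt F R => u.elt n) ((push_toFormalElt ξ φ hφ).trans hE)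
  choose e he1 he2 he3 using fun n => exists_fitting_idem F (f n)
  have hft : ∀ n, f (n + 1) ≫ R.truncMap n = R.truncMap n ≫ f n := fun n =>
    CRing.truncMapOfHom_truncMap φ hφ n
  -- compatibility
  have hcompat : ∀ n (a : R.trunc (n + 1)), R.truncMap n (e (n + 1) a) = e n (R.truncMap n a) := by
    intro n a
    rw [← sub_eq_zero]
    apply fitting_unique (f n)
    · intro i
      obtain ⟨b₁, hb₁⟩ := he2 (n + 1) a i
      obtain ⟨b₂, hb₂⟩ := he2 n (R.truncMap n a) i
      refine ⟨R.truncMap n b₁ - b₂, ?_⟩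
      rw [iter_map_sub, hb₂, ← iter_comm (f (n + 1)) (f n) (R.truncMap n) (hft n), hb₁]
    · obtain ⟨i₁, hi₁⟩ := he3 (n + 1) a
      obtain ⟨i₂, hi₂⟩ := he3 n (R.truncMap n a)
      refine ⟨max i₁ i₂, ?_⟩
      have hd : R.truncMap n (e (n + 1) a) - e n (R.truncMap n a) =
          (R.truncMap n a - e n (R.truncMap n a)) - R.truncMap n (a - e (n + 1) a) := by
        have : R.truncMap n (a - e (n + 1) a) = R.truncMap n a - R.truncMap n (e (n + 1) a) :=
          map_sub (R.truncMap n).toAlgHom _ _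
        rw [this]; ring
      rw [hd, iter_map_sub, iter_eq_zero_of_le (f n) (le_max_right i₁ i₂) hi₂,
        ← iter_comm (f (n + 1)) (f n) (R.truncMap n) (hft n),
        iter_eq_zero_of_le (f (n + 1)) (le_max_left i₁ i₂) hi₁, zero_sub, neg_eq_zero]
      exact map_zero (R.truncMap n).toAlgHom
  -- idempotency
  have hidem : ∀ n (a : R.trunc n), e n (e n a) = e n a := by
    intro n a
    symm
    rw [← sub_eq_zero]
    apply fitting_unique (f n)
    · intro i
      obtain ⟨b₁, hb₁⟩ := he2 n a i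
      obtain ⟨b₂, hb₂⟩ := he2 n (e n a) i
      exact ⟨b₁ - b₂, by rw [iter_map_sub, hb₁, hb₂]⟩
    · exact he3 n (e n a)
  -- the compatible system
  let ψ : ∀ n, HomSet R.carrier R.res (R.trunc n) := fun n => HomSet.map (e n) (R.truncHom n)
  have hψ : ∀ n, HomSet.map (R.truncMap n) (ψ (n + 1)) = ψ n := by
    intro n
    apply homSet_ext
    intro r
    change R.truncMap n (e (n + 1) ((R.truncHom (n + 1)).1 r)) = e n ((R.truncHom n).1 r)
    rw [hcompat]
    rfl
  obtain ⟨g, hg, hgn⟩ := exists_lift_of_compatible ψ hψ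
  have hgn' : ∀ n r, (R.truncHom n).1 (g r) = e n ((R.truncHom n).1 r) := fun n r =>
    congrArg (fun χ : R.carrier →ₐ[Λ] (R.trunc n) => χ r) (hgn n)
  have hgidem : ∀ r, g (g r) = g r := by
    intro r
    apply eq_of_truncHom_eq
    intro N
    rw [hgn', hgn', hidem]
  refine ⟨g, hg, ?_, hgidem, ?_⟩
  · apply FormalElt.ext'
    intro n
    change ξ.app _ ⟨(R.truncHom n).1.comp g, _⟩ = ξ.toFormalElt.elt n
    have h1 : (⟨(R.truncHom n).1.comp g, by rw [← AlgHom.comp_assoc, (R.truncHom n).2, hg]⟩ :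
        HomSet R.carrier R.res (R.trunc n)) = ψ n := Subtype.ext (hgn n)
    rw [h1]
    change ξ.app _ (HomSet.map (e n) (R.truncHom n)) = _
    rw [ξ.natural]
    exact he1 n _ (hfx n)
  · intro hinj
    have hgid : ∀ r, g r = r := fun r => hinj (hgidem r)
    apply surjective_of_truncMapOfHom_one φ hφ
    intro y
    obtain ⟨r, rfl⟩ := Ideal.Quotient.mk_surjective y
    have h1 : e 1 ((R.truncHom 1).1 r) = (R.truncHom 1).1 r := by
      rw [← hgn', hgid]
    obtain ⟨b, hb⟩ := he2 1 ((R.truncHom 1).1 r) 1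
    refine ⟨b, ?_⟩
    rw [h1] at hb
    exact hb

end Groth.Agent.Lib.Helper1.MV
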