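import Mathlib
import Groth.Prelude.Def_W4sfdMinVersal
import Groth.Agent.Lib.Helper1.MV2
import Groth.Agent.Lib.Helper1.ArtFunQuotRing

/-!
# Existence of a minimal versal quotient of a versal family
-/
universe u v
open CategoryTheory

namespace Groth.Agent.Lib.Helper1.MV

open ArtFun ArtFun.Art Groth.Agent.Lib.Helper1.ArtFunLib

variable {Λ : Type u} {k : Type u} [CommRing Λ] [Field k] [Algebra Λ k]

section Congr

variable {R : Type u} [CommRing R] [Algebra Λ R] {resR : R →ₐ[Λ] k} {F : Art Λ k ⥤ Type v}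

lemma isVersal_congr (ξ₁ ξ₂ : Family R resR F) (h : ∀ (A : Art Λ k) (φ : HomSet R resR A), ξ₁.app A φ = ξ₂.app A φ)
    (h1 : IsVersal ξ₁) : IsVersal ξ₂ := by
  intro B A μ hμ φ y hy
  obtain ⟨ψ, h2, h3⟩ := h1 μ hμ φ y (by rw [h]; exact hy)
  exact ⟨ψ, h2, by rw [← h]; exact h3⟩

end Congr

variable {F : Art Λ k ⥤ Type v}

lemma ker_le_maximalIdeal_of_res {R S : CRing Λ k} (e : R.carrier →ₐ[Λ] S.carrier) (he : S.res.comp e = R.res) :
    RingHom.ker e ≤ IsLocalRing.maximalIdeal R.carrier := by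
  intro x hx
  rw [CRing.mem_maximalIdeal_iff, ← CRing.res_comp_apply e he, RingHom.mem_ker.1 hx, map_zero]

variable [IsNoetherianRing Λ] [Module.Finite Λ k]

/-- the quotient by the kernel of an idempotent endomorphism of a versal couple is versal -/
theorem isVersal_along_quot_of_idem (R : CRing Λ k) (ξ : Family R.carrier R.res F) (hξ : IsVersal ξ)
    (e : R.carrier →ₐ[Λ] R.carrier) (he : R.res.comp e = R.res)
    (hE : (ξ.along e he).toFormalElt = ξ.toFormalElt) (hidem : ∀ r, e (e r) = e r)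
    (hK : RingHom.ker e ≤ IsLocalRing.maximalIdeal R.carrier) :
    IsVersal (ξ.along (quotCHom R (RingHom.ker e) hK) (quotCHom_res R _ hK)) := by
  intro B A μ hμ a b hb
  have hb' : F.map μ b = ξ.app A (quotCRestr R _ hK a) := hb
  obtain ⟨ℓ, hℓ1, hℓ2⟩ := hξ μ hμ (quotCRestr R _ hK a) b hb'
  let ℓ' : HomSet R.carrier R.res B := ⟨ℓ.1.comp e, by rw [← AlgHom.comp_assoc, ℓ.2, he]⟩
  have hkill : RingHom.ker e ≤ RingHom.ker ℓ'.1 := by
    intro x hx
    rw [RingHom.mem_ker] at hx ⊢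
    change ℓ.1 (e x) = 0
    rw [hx, map_zero]
  refine ⟨quotCDesc R _ hK ℓ' hkill, ?_, ?_⟩
  · apply homSet_ext
    intro x
    obtain ⟨r, rfl⟩ := quotCHom_surjective R _ hK x
    change μ (ℓ.1 (e r)) = a.1 (quotCHom R _ hK r)
    have h1 : μ (ℓ.1 (e r)) = a.1 (quotCHom R _ hK (e r)) :=
      congrArg (fun χ : HomSet R.carrier R.res A => χ.1 (e r)) hℓ1
    rw [h1]
    congr 1
    rw [← sub_eq_zero, ← map_sub, quotCHom_eq_zero_iff, RingHom.mem_ker, map_sub, hidem, sub_self]
  · change ξ.app B (quotCRestr R _ hK (quotCDesc R _ hK ℓ' hkill)) = b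
    rw [quotCRestr_quotCDesc]
    have h2 : ξ.app B ℓ' = (ξ.along e he).app B ℓ := rfl
    rw [h2, family_app_eq_of_toFormalElt_eq hE ℓ, hℓ2]

/-- **existence of a minimal versal quotient** -/
theorem exists_minimalVersal_quot (h0 : H0 F) (R : CRing Λ k) (ξ : Family R.carrier R.res F)
    (hξ : IsVersal ξ) :
    ∃ (S : CRing Λ k) (π : R.carrier →ₐ[Λ] S.carrier) (hπ : S.res.comp π = R.res),
      Function.Surjective π ∧ (ξ.along π hπ).IsMinimalVersal := by
  classical
  let P : Ideal R.carrier → Prop := fun J =>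
    ∃ (S : CRing Λ k) (π : R.carrier →ₐ[Λ] S.carrier) (hπ : S.res.comp π = R.res),
      Function.Surjective π ∧ RingHom.ker π = J ∧ IsVersal (ξ.along π hπ)
  have hP0 : P ⊥ := by
    refine ⟨R, AlgHom.id Λ R.carrier, AlgHom.comp_id _, Function.surjective_id, ?_, ?_⟩
    · rw [← RingHom.injective_iff_ker_eq_bot]
      exact Function.injective_id
    · exact isVersal_congr ξ _ (fun A φ => rfl) hξ
  obtain ⟨J₀, hJ₀, hmax⟩ := (set_has_maximal_iff_noetherian (R := R.carrier) (M := R.carrier)).2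
    inferInstance {J | P J} ⟨⊥, hP0⟩
  obtain ⟨S, π, hπ, hπs, hker, hver⟩ := hJ₀
  refine ⟨S, π, hπ, hπs, hver, ?_⟩
  intro R'' u f hf hpush
  set ξ' := ξ.along π hπ with hξ'
  obtain ⟨h, hh, hhη⟩ := exists_along_toFormalElt_eq_of_h0 h0 ξ' hver R'' u
  let φ : S.carrier →ₐ[Λ] S.carrier := f.comp h
  have hφ : S.res.comp φ = S.res := by
    change S.res.comp (f.comp h) = S.res
    rw [← AlgHom.comp_assoc, hf, hh]
  have hE : (ξ'.along φ hφ).toFormalElt = ξ'.toFormalElt := by
    have h1 : ξ'.along φ hφ = (ξ'.along h hh).along f hf := rfl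
    rw [h1, ← push_toFormalElt, hhη, hpush]
  obtain ⟨e, he, heE, hidem, hsurj⟩ := exists_idem_of_endo S ξ' φ hφ hE
  have hK : RingHom.ker e ≤ IsLocalRing.maximalIdeal S.carrier := ker_le_maximalIdeal_of_res e he
  have hverK := isVersal_along_quot_of_idem S ξ' hver e he heE hidem hK
  have hPK : P (Ideal.comap π (RingHom.ker e)) := by
    refine ⟨quotC S _ hK, (quotCHom S _ hK).comp π, ?_, ?_, ?_, ?_⟩
    · rw [← AlgHom.comp_assoc, quotCHom_res, hπ]
    · exact (quotCHom_surjective S _ hK).comp hπs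
    · ext x
      rw [RingHom.mem_ker, Ideal.mem_comap]
      change quotCHom S _ hK (π x) = 0 ↔ _
      rw [quotCHom_eq_zero_iff]
    · exact isVersal_congr _ _ (fun A ψ => rfl) hverK
  have hle : J₀ ≤ Ideal.comap π (RingHom.ker e) := by
    rw [← hker]
    intro x hx
    rw [Ideal.mem_comap, RingHom.mem_ker.1 hx]
    exact Ideal.zero_mem _
  have heq : Ideal.comap π (RingHom.ker e) = J₀ := by
    by_contra hne
    exact hmax _ hPK (lt_of_le_of_ne hle (Ne.symm hne))
  have hinj : Function.Injective e := by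
    rw [RingHom.injective_iff_ker_eq_bot, eq_bot_iff]
    intro x hx
    obtain ⟨r, rfl⟩ := hπs x
    have h1 : r ∈ Ideal.comap π (RingHom.ker e) := hx
    rw [heq, ← hker] at h1
    rw [RingHom.mem_ker.1 h1]
    exact Ideal.zero_mem _
  have hφs : Function.Surjective φ := hsurj hinj
  exact Function.Surjective.of_comp hφs

end Groth.Agent.Lib.Helper1.MV
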