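import Mathlib
import Groth.Prelude.Def_W4sfdMinVersal
import Groth.Agent.Lib.Helper1.MV3
import Groth.Agent.Lib.Helper1.ArtFunPSSmooth

/-!
# A versal family is a power series extension of a minimal versal family
-/
universe u v
open CategoryTheory

namespace Groth.Agent.Lib.Helper1.MV

open ArtFun ArtFun.Art Groth.Agent.Lib.Helper1.ArtFunLib

variable {Λ : Type u} {k : Type u} [CommRing Λ] [Field k] [Algebra Λ k]
variable {F : Art Λ k ⥤ Type v}
variable [IsNoetherianRing Λ] [Module.Finite Λ k]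

/-- if `g : R' → R` has a retraction and the family `ξ'` over `R'` becomes versal over `R`, then `h_R → h_{R'}` is smooth -/
theorem isVersal_self_along_of_retraction {R' R : CRing Λ k} (ξ' : Family R'.carrier R'.res F)
    (g : R'.carrier →ₐ[Λ] R.carrier) (hg : R.res.comp g = R'.res)
    (hver : IsVersal (ξ'.along g hg))
    (p : R.carrier →ₐ[Λ] R'.carrier) (hp : R'.res.comp p = R.res) (hpg : ∀ a, p (g a) = a) :
    IsVersal ((Family.self R'.carrier R'.res).along g hg) := by
  rw [isVersal_iff_isSmooth]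
  apply isSmooth_of_smallExt
  intro B A μ hμ
  rw [surjective_relCmp_iff]
  intro (φ : HomSet R.carrier R.res A) (y : HomSet R'.carrier R'.res B) hxy
  have hxy' : ∀ a : R'.carrier, φ.1 (g a) = μ (y.1 a) := fun a =>
    congrArg (fun χ : HomSet R'.carrier R'.res A => χ.1 a) hxy
  -- a first lift from versality
  have hb : F.map μ (ξ'.app B y) = (ξ'.along g hg).app A φ := by
    rw [← ξ'.natural]
    apply congrArg (ξ'.app A)
    apply homSet_ext
    intro a
    exact (hxy' a).symm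
  obtain ⟨ψ₀, hψ₀, -⟩ := hver μ hμ.1 φ (ξ'.app B y) hb
  have hψ₀' : ∀ r : R.carrier, μ (ψ₀.1 r) = φ.1 r := fun r =>
    congrArg (fun χ : HomSet R.carrier R.res A => χ.1 r) hψ₀
  -- facts on the kernel
  have hI : ∀ m ∈ IsLocalRing.maximalIdeal B, ∀ x : B, μ x = 0 → m * x = 0 := by
    intro m hm x hx
    have h1 : m * x ∈ IsLocalRing.maximalIdeal B * RingHom.ker μ.toAlgHom :=
      Ideal.mul_mem_mul hm (RingHom.mem_ker.2 hx)
    rw [hμ.2.2.2] at h1
    exact h1
  have hkm : ∀ x : B, μ x = 0 → x ∈ IsLocalRing.maximalIdeal B := fun x hx =>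
    ker_le_maximalIdeal μ (RingHom.mem_ker.2 hx)
  have hresψ₀ : ∀ r, B.res (ψ₀.1 r) = R.res r := fun r =>
    congrArg (fun χ : R.carrier →ₐ[Λ] k => χ r) ψ₀.2
  have hresy : ∀ a, B.res (y.1 a) = R'.res a := fun a =>
    congrArg (fun χ : R'.carrier →ₐ[Λ] k => χ a) y.2
  have hresg : ∀ a, R.res (g a) = R'.res a := fun a =>
    congrArg (fun χ : R'.carrier →ₐ[Λ] k => χ a) hg
  have hresp : ∀ r, R'.res (p r) = R.res r := fun r =>
    congrArg (fun χ : R.carrier →ₐ[Λ] k => χ r) hp
  -- the correction term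
  let D : R.carrier → B := fun r => y.1 (p r) - ψ₀.1 (g (p r))
  have hDμ : ∀ r, μ (D r) = 0 := by
    intro r
    change μ (y.1 (p r) - ψ₀.1 (g (p r))) = 0
    have : μ (y.1 (p r) - ψ₀.1 (g (p r))) = μ (y.1 (p r)) - μ (ψ₀.1 (g (p r))) :=
      map_sub μ.toAlgHom _ _
    rw [this, hψ₀', hxy', sub_self]
  have hDm : ∀ r, D r ∈ IsLocalRing.maximalIdeal B := fun r => hkm _ (hDμ r)
  have huw : ∀ r, ψ₀.1 r - ψ₀.1 (g (p r)) ∈ IsLocalRing.maximalIdeal B := by
    intro r
    rw [mem_maximalIdeal_iff, map_sub, hresψ₀, hresψ₀, hresg, hresp, sub_self]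
  let ψ : R.carrier →ₐ[Λ] B :=
    { toFun := fun r => ψ₀.1 r + D r
      map_one' := by
        change ψ₀.1 1 + (y.1 (p 1) - ψ₀.1 (g (p 1))) = 1
        rw [map_one, map_one, map_one, map_one, map_one]
        ring
      map_mul' := by
        intro r s
        change ψ₀.1 (r * s) + (y.1 (p (r * s)) - ψ₀.1 (g (p (r * s)))) =
          (ψ₀.1 r + (y.1 (p r) - ψ₀.1 (g (p r)))) * (ψ₀.1 s + (y.1 (p s) - ψ₀.1 (g (p s))))
        rw [map_mul, map_mul, map_mul, map_mul, map_mul]
        have h1 : (ψ₀.1 r - ψ₀.1 (g (p r))) * (y.1 (p s) - ψ₀.1 (g (p s))) = 0 := hI _ (huw r) _ (hDμ s)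
        have h2 : (ψ₀.1 s - ψ₀.1 (g (p s))) * (y.1 (p r) - ψ₀.1 (g (p r))) = 0 := hI _ (huw s) _ (hDμ r)
        have h3 : (y.1 (p r) - ψ₀.1 (g (p r))) * (y.1 (p s) - ψ₀.1 (g (p s))) = 0 := hI _ (hDm r) _ (hDμ s)
        linear_combination (-1 : B) * h1 - h2 - 0 * h3
      map_zero' := by
        change ψ₀.1 0 + (y.1 (p 0) - ψ₀.1 (g (p 0))) = 0
        rw [map_zero, map_zero, map_zero, map_zero, map_zero]
        ring
      map_add' := by
        intro r s
        change ψ₀.1 (r + s) + (y.1 (p (r + s)) - ψ₀.1 (g (p (r + s)))) =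
          (ψ₀.1 r + (y.1 (p r) - ψ₀.1 (g (p r)))) + (ψ₀.1 s + (y.1 (p s) - ψ₀.1 (g (p s))))
        rw [map_add, map_add, map_add, map_add, map_add]
        ring
      commutes' := by
        intro l
        change ψ₀.1 (algebraMap Λ R.carrier l) + (y.1 (p (algebraMap Λ R.carrier l)) -
          ψ₀.1 (g (p (algebraMap Λ R.carrier l)))) = algebraMap Λ B l
        rw [AlgHom.commutes, AlgHom.commutes, AlgHom.commutes, AlgHom.commutes, AlgHom.commutes]
        ring }
  have hψapp : ∀ r, ψ r = ψ₀.1 r + D r := fun r => rfl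
  have hψres : B.res.comp ψ = R.res := by
    apply AlgHom.ext
    intro r
    change B.res (ψ r) = R.res r
    rw [hψapp, map_add, hresψ₀, (mem_maximalIdeal_iff B _).1 (hDm r), add_zero]
  refine ⟨(⟨ψ, hψres⟩ : HomSet R.carrier R.res B), ?_, ?_⟩
  · apply homSet_ext
    intro r
    change μ (ψ r) = φ.1 r
    rw [hψapp]
    have : μ (ψ₀.1 r + D r) = μ (ψ₀.1 r) + μ (D r) := map_add μ.toAlgHom _ _
    rw [this, hDμ, add_zero, hψ₀']
  · apply homSet_ext
    intro a
    change ψ (g a) = y.1 a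
    rw [hψapp]
    change ψ₀.1 (g a) + (y.1 (p (g a)) - ψ₀.1 (g (p (g a)))) = y.1 a
    rw [hpg]
    ring

/-- **a versal family is a power series extension of a minimal versal family** -/
theorem exists_minimalVersal_powerSeries (h0 : H0 F) (V : VersalPair F) :
    ∃ (R' : CRing Λ k) (ξ' : Family R'.carrier R'.res F), ξ'.IsMinimalVersal ∧
      ∃ (g : R'.carrier →ₐ[Λ] V.ring.carrier) (hg : V.ring.res.comp g = R'.res)
        (n : ℕ) (e : V.ring.carrier ≃ₐ[Λ] MvPowerSeries (Fin n) R'.carrier),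
        (∀ a : R'.carrier, e (g a) = algebraMap R'.carrier (MvPowerSeries (Fin n) R'.carrier) a) ∧
        (ξ'.along g hg).toFormalElt = V.family.toFormalElt := by
  classical
  obtain ⟨S, π, hπ, hπs, hmin⟩ := exists_minimalVersal_quot h0 V.ring V.family V.versal
  set ξ' := V.family.along π hπ with hξ'
  obtain ⟨g, hg, hgη⟩ := exists_along_toFormalElt_eq_of_h0 h0 ξ' hmin.1 V.ring V.family.toFormalElt
  refine ⟨S, ξ', hmin, g, hg, ?_⟩
  -- the endomorphism `π ∘ g` of the minimal versal couple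
  let θ : S.carrier →ₐ[Λ] S.carrier := π.comp g
  have hθ : S.res.comp θ = S.res := by
    change S.res.comp (π.comp g) = S.res
    rw [← AlgHom.comp_assoc, hπ, hg]
  have hθs : Function.Surjective θ := by
    apply hmin.2 S ξ'.toFormalElt θ hθ
    rw [push_toFormalElt]
    have h1 : ξ'.along θ hθ = (ξ'.along g hg).along π hπ := rfl
    rw [h1, ← push_toFormalElt, hgη, push_toFormalElt]
  have hθi : Function.Injective θ :=
    injective_of_surjective_ringEnd ((θ : S.carrier →ₐ[Λ] S.carrier) : S.carrier →+* S.carrier) hθs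
  let θe : S.carrier ≃ₐ[Λ] S.carrier := AlgEquiv.ofBijective θ ⟨hθi, hθs⟩
  have hθe : ∀ x, θ (θe.symm x) = x := fun x => θe.apply_symm_apply x
  have hθe' : ∀ x, θe.symm (θ x) = x := fun x => θe.symm_apply_apply x
  let p : V.ring.carrier →ₐ[Λ] S.carrier := (θe.symm : S.carrier →ₐ[Λ] S.carrier).comp π
  have hp : S.res.comp p = V.ring.res := by
    apply AlgHom.ext
    intro r
    change S.res (θe.symm (π r)) = V.ring.res r
    have h1 : S.res (θ (θe.symm (π r))) = S.res (θe.symm (π r)) :=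
      congrArg (fun χ : S.carrier →ₐ[Λ] k => χ (θe.symm (π r))) hθ
    rw [← h1, hθe]
    exact congrArg (fun χ : V.ring.carrier →ₐ[Λ] k => χ r) hπ
  have hpg : ∀ a, p (g a) = a := fun a => hθe' a
  have hverg : IsVersal (ξ'.along g hg) :=
    isVersal_congr V.family _ (fun A φ => (family_app_eq_of_toFormalElt_eq hgη φ).symm) V.versal
  have hsm := isVersal_self_along_of_retraction ξ' g hg hverg p hp hpg
  obtain ⟨n, v, hvC, hvbij⟩ := exists_ps_bijective_of_isVersal_along g hg hsm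
  refine ⟨n, (AlgEquiv.ofBijective v hvbij).symm, ?_, hgη⟩
  intro a
  rw [AlgEquiv.symm_apply_eq, ← MvPowerSeries.c_eq_algebraMap]
  exact (hvC a).symm

end Groth.Agent.Lib.Helper1.MV
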