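import Mathlib.Algebra.Category.ModuleCat.Sheaf.Abelian
import Mathlib.Algebra.Category.ModuleCat.Sheaf.Limits
import Mathlib.Algebra.Homology.ShortComplex.ModuleCat
import Mathlib.Algebra.Homology.ShortComplex.ShortExact
import Mathlib.CategoryTheory.Sites.LocallySurjective
import Mathlib.CategoryTheory.Limits.Preserves.Shapes.Kernels

/-!
# Short exactness of a complex of sheaves of modules from sectionwise/local criteria (helper1)
-/

set_option linter.style.haveILetI false
set_option linter.unusedSectionVars false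

universe v v₁ u₁ u

open CategoryTheory CategoryTheory.Limits Opposite

namespace Groth.Agent.Lib.Helper1.MVS

variable {C : Type u₁} [Category.{v₁} C] {J : GrothendieckTopology C} {R : Sheaf J RingCat.{u}}

theorem mono_of_injective_app {M N : SheafOfModules.{v} R} (f : M ⟶ N)
    (h : ∀ E : Cᵒᵖ, Function.Injective (f.val.app E)) : Mono f := by
  constructor
  intro Z a b hab
  ext E z
  apply h E
  have := congrArg (fun k : Z ⟶ N => k.val.app E z) hab
  simpa using this

theorem isLimit_kernelFork_of_sect {M₁ M₂ M₃ : SheafOfModules.{v} R} (f : M₁ ⟶ M₂) (g : M₂ ⟶ M₃)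
    (w : f ≫ g = 0)
    (hinj : ∀ E : Cᵒᵖ, Function.Injective (f.val.app E))
    (hex : ∀ (E : Cᵒᵖ) (s : M₂.val.obj E), g.val.app E s = 0 →
      ∃ t : M₁.val.obj E, f.val.app E t = s) :
    Nonempty (IsLimit (KernelFork.ofι f w)) := by
  refine ⟨isLimitOfReflects (SheafOfModules.forget R) ?_⟩
  refine PresheafOfModules.evaluationJointlyReflectsLimits _ _ (fun E => ?_)
  let G : SheafOfModules.{v} R ⥤ ModuleCat.{v} (R.obj.obj E) := SheafOfModules.evaluation R E
  haveI : G.PreservesZeroMorphisms := by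
    dsimp only [G]; unfold SheafOfModules.evaluation; infer_instance
  change IsLimit (G.mapCone (KernelFork.ofι f w))
  refine (isLimitMapConeForkEquiv' G w).symm ?_
  let SC : ShortComplex (ModuleCat.{v} (R.obj.obj E)) :=
    ShortComplex.mk (G.map f) (G.map g) (by rw [← G.map_comp, w, G.map_zero])
  have hSC : SC.Exact := (ShortComplex.moduleCat_exact_iff SC).2 (fun s hs => hex E s hs)
  haveI : Mono SC.f := (ModuleCat.mono_iff_injective _).2 (hinj E)
  exact hSC.fIsKernel

theorem epi_of_locally_surjective {M N : SheafOfModules.{v} R} (g : M ⟶ N)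
    (h : ∀ (E : C) (s : N.val.obj (op E)), ∃ T ∈ J E, ∀ ⦃Y : C⦄ (a : Y ⟶ E), T a →
      ∃ t : M.val.obj (op Y), g.val.app (op Y) t = N.val.map a.op s) : Epi g := by
  haveI : Sheaf.IsLocallySurjective ((SheafOfModules.toSheaf R).map g) := by
    constructor
    intro E s
    obtain ⟨T, hT, hl⟩ := h E s
    refine J.superset_covering ?_ hT
    intro Y a ha
    obtain ⟨t, ht⟩ := hl a ha
    exact ⟨t, ht⟩
  haveI : Epi ((SheafOfModules.toSheaf R).map g) := Sheaf.epi_of_isLocallySurjective _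
  exact (SheafOfModules.toSheaf R).epi_of_epi_map this

theorem shortExact_of_sect [HasSheafify J AddCommGrpCat.{v}]
    [J.WEqualsLocallyBijective AddCommGrpCat.{v}] (S : ShortComplex (SheafOfModules.{v} R))
    (hinj : ∀ E : Cᵒᵖ, Function.Injective (S.f.val.app E))
    (hex : ∀ (E : Cᵒᵖ) (s : S.X₂.val.obj E), S.g.val.app E s = 0 →
      ∃ t : S.X₁.val.obj E, S.f.val.app E t = s)
    (hsurj : ∀ (E : C) (s : S.X₃.val.obj (op E)), ∃ T ∈ J E, ∀ ⦃Y : C⦄ (a : Y ⟶ E), T a →
      ∃ t : S.X₂.val.obj (op Y), S.g.val.app (op Y) t = S.X₃.val.map a.op s) :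
    S.ShortExact := by
  have h := (S.exact_and_mono_f_iff_f_is_kernel).2
    (isLimit_kernelFork_of_sect S.f S.g S.zero hinj hex)
  haveI := h.2
  haveI := epi_of_locally_surjective S.g hsurj
  exact ShortComplex.ShortExact.mk h.1

section Biprod

variable [HasSheafify J AddCommGrpCat.{v}] [J.WEqualsLocallyBijective AddCommGrpCat.{v}]
  {A B : SheafOfModules.{v} R}

theorem comp_app_apply {M N K : SheafOfModules.{v} R} (a : M ⟶ N) (b : N ⟶ K) (E : Cᵒᵖ)
    (s : M.val.obj E) : (a ≫ b).val.app E s = b.val.app E (a.val.app E s) := rfl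

theorem add_app_apply {M N : SheafOfModules.{v} R} (a b : M ⟶ N) (E : Cᵒᵖ)
    (s : M.val.obj E) : (a + b).val.app E s = a.val.app E s + b.val.app E s := rfl

theorem zero_app_apply {M N : SheafOfModules.{v} R} (E : Cᵒᵖ)
    (s : M.val.obj E) : (0 : M ⟶ N).val.app E s = 0 := rfl

theorem neg_app_apply {M N : SheafOfModules.{v} R} (a : M ⟶ N) (E : Cᵒᵖ)
    (s : M.val.obj E) : (-a).val.app E s = -(a.val.app E s) := by
  have h : (-a).val.app E s + a.val.app E s = 0 := by
    rw [← add_app_apply, neg_add_cancel, zero_app_apply]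
  exact eq_neg_of_add_eq_zero_left h

theorem biprod_sect_total (E : Cᵒᵖ) (x : (A ⊞ B).val.obj E) :
    x = (biprod.inl : A ⟶ A ⊞ B).val.app E ((biprod.fst : A ⊞ B ⟶ A).val.app E x) +
        (biprod.inr : B ⟶ A ⊞ B).val.app E ((biprod.snd : A ⊞ B ⟶ B).val.app E x) := by
  have h := congrArg (fun k : A ⊞ B ⟶ A ⊞ B => k.val.app E x) (biprod.total (X := A) (Y := B))
  simp only [add_app_apply, comp_app_apply] at h
  exact h.symm

theorem biprod_sect_ext (E : Cᵒᵖ) (x y : (A ⊞ B).val.obj E)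
    (h1 : (biprod.fst : A ⊞ B ⟶ A).val.app E x = (biprod.fst : A ⊞ B ⟶ A).val.app E y)
    (h2 : (biprod.snd : A ⊞ B ⟶ B).val.app E x = (biprod.snd : A ⊞ B ⟶ B).val.app E y) :
    x = y := by
  rw [biprod_sect_total E x, biprod_sect_total E y, h1, h2]

theorem biprod_lift_fst_app {M : SheafOfModules.{v} R} (a : M ⟶ A) (b : M ⟶ B) (E : Cᵒᵖ)
    (s : M.val.obj E) :
    (biprod.fst : A ⊞ B ⟶ A).val.app E ((biprod.lift a b).val.app E s) = a.val.app E s := by
  rw [← comp_app_apply, biprod.lift_fst]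

theorem biprod_lift_snd_app {M : SheafOfModules.{v} R} (a : M ⟶ A) (b : M ⟶ B) (E : Cᵒᵖ)
    (s : M.val.obj E) :
    (biprod.snd : A ⊞ B ⟶ B).val.app E ((biprod.lift a b).val.app E s) = b.val.app E s := by
  rw [← comp_app_apply, biprod.lift_snd]

theorem biprod_desc_app {N : SheafOfModules.{v} R} (a : A ⟶ N) (b : B ⟶ N) (E : Cᵒᵖ)
    (x : (A ⊞ B).val.obj E) :
    (biprod.desc a b).val.app E x =
      a.val.app E ((biprod.fst : A ⊞ B ⟶ A).val.app E x) +
        b.val.app E ((biprod.snd : A ⊞ B ⟶ B).val.app E x) := by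
  have h1 : ∀ y : A.val.obj E,
      (biprod.desc a b).val.app E ((biprod.inl : A ⟶ A ⊞ B).val.app E y) = a.val.app E y := by
    intro y
    rw [← comp_app_apply, biprod.inl_desc]
  have h2 : ∀ y : B.val.obj E,
      (biprod.desc a b).val.app E ((biprod.inr : B ⟶ A ⊞ B).val.app E y) = b.val.app E y := by
    intro y
    rw [← comp_app_apply, biprod.inr_desc]
  conv_lhs => rw [biprod_sect_total E x]
  rw [map_add, h1, h2]

theorem biprod_sect_exists (E : Cᵒᵖ) (a : A.val.obj E) (b : B.val.obj E) :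
    ∃ x : (A ⊞ B).val.obj E, (biprod.fst : A ⊞ B ⟶ A).val.app E x = a ∧
      (biprod.snd : A ⊞ B ⟶ B).val.app E x = b := by
  refine ⟨(biprod.inl : A ⟶ A ⊞ B).val.app E a + (biprod.inr : B ⟶ A ⊞ B).val.app E b, ?_, ?_⟩
  · have h1 : (biprod.fst : A ⊞ B ⟶ A).val.app E ((biprod.inl : A ⟶ A ⊞ B).val.app E a) = a := by
      rw [← comp_app_apply, biprod.inl_fst]; rfl
    have h2 : (biprod.fst : A ⊞ B ⟶ A).val.app E ((biprod.inr : B ⟶ A ⊞ B).val.app E b) = 0 := by
      rw [← comp_app_apply, biprod.inr_fst, zero_app_apply]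
    rw [map_add, h1, h2, add_zero]
  · have h1 : (biprod.snd : A ⊞ B ⟶ B).val.app E ((biprod.inl : A ⟶ A ⊞ B).val.app E a) = 0 := by
      rw [← comp_app_apply, biprod.inl_snd, zero_app_apply]
    have h2 : (biprod.snd : A ⊞ B ⟶ B).val.app E ((biprod.inr : B ⟶ A ⊞ B).val.app E b) = b := by
      rw [← comp_app_apply, biprod.inr_snd]; rfl
    rw [map_add, h1, h2, zero_add]

end Biprod

end Groth.Agent.Lib.Helper1.MVS
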