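import Mathlib.CategoryTheory.Limits.Shapes.BinaryProducts

/-!
# Morphism identities for products with a subterminal factor (helper1)

`U` is an object with at most one morphism from any object (an open subobject of the final object),
`P` is a product of `U` and `V` with projections `π₁`, `π₂`.
-/

set_option linter.unusedSectionVars false

universe v₁ u₁

open CategoryTheory CategoryTheory.Limits

namespace Groth.Agent.Lib.Helper1.MVS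

variable {𝒞 : Type u₁} [Category.{v₁} 𝒞] [HasBinaryProducts 𝒞]
  {U V P : 𝒞} {π₁ : P ⟶ U} {π₂ : P ⟶ V} (hP : IsLimit (BinaryFan.mk π₁ π₂))
  (hU : ∀ Z : 𝒞, Subsingleton (Z ⟶ U))

include hP in
theorem toP_ext {T : 𝒞} (a b : T ⟶ P) (h1 : a ≫ π₁ = b ≫ π₁) (h2 : a ≫ π₂ = b ≫ π₂) : a = b :=
  BinaryFan.IsLimit.hom_ext hP h1 h2

include hP hU in
theorem toP_ext' {T : 𝒞} (a b : T ⟶ P) (h2 : a ≫ π₂ = b ≫ π₂) : a = b :=
  toP_ext hP a b ((hU T).elim _ _) h2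

/-- the lift to `P` -/
noncomputable def pLift {T : 𝒞} (a : T ⟶ U) (b : T ⟶ V) : T ⟶ P :=
  (BinaryFan.IsLimit.lift' hP a b).1

@[reassoc (attr := simp)]
theorem pLift_fst {T : 𝒞} (a : T ⟶ U) (b : T ⟶ V) : pLift hP a b ≫ π₁ = a :=
  (BinaryFan.IsLimit.lift' hP a b).2.1

@[reassoc (attr := simp)]
theorem pLift_snd {T : 𝒞} (a : T ⟶ U) (b : T ⟶ V) : pLift hP a b ≫ π₂ = b :=
  (BinaryFan.IsLimit.lift' hP a b).2.2

include hP in
/-- (M1) -/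
theorem exists_toPW {T W : 𝒞} (a : T ⟶ U ⨯ W) (b : T ⟶ V ⨯ W)
    (h : a ≫ prod.snd = b ≫ prod.snd) :
    ∃ c : T ⟶ P ⨯ W, c ≫ prod.map π₁ (𝟙 W) = a ∧ c ≫ prod.map π₂ (𝟙 W) = b := by
  refine ⟨prod.lift (pLift hP (a ≫ prod.fst) (b ≫ prod.fst)) (a ≫ prod.snd), ?_, ?_⟩
  · ext <;> simp [prod.lift_fst, prod.lift_snd]
  · ext
    · simp [prod.lift_fst, prod.lift_snd]
    · simp [h, prod.lift_fst, prod.lift_snd]

include hU in
/-- (M2) -/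
theorem toUW_ext {T W : 𝒞} (a a' : T ⟶ U ⨯ W) (h : a ≫ prod.snd = a' ≫ prod.snd) : a = a' := by
  ext
  · exact (hU T).elim _ _
  · exact h

include hP hU in
/-- (M3) -/
theorem toPW_ext {T W : 𝒞} (b₁ b₂ : T ⟶ P ⨯ W)
    (h : b₁ ≫ prod.map π₂ (𝟙 W) = b₂ ≫ prod.map π₂ (𝟙 W)) : b₁ = b₂ := by
  have h1 := congrArg (fun k => k ≫ (prod.fst : V ⨯ W ⟶ V)) h
  have h2 := congrArg (fun k => k ≫ (prod.snd : V ⨯ W ⟶ W)) h
  simp only [Category.assoc, prod.map_fst, prod.map_snd, Category.comp_id] at h1 h2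
  ext
  · refine toP_ext' hP hU _ _ ?_
    simpa using h1
  · exact h2

include hP hU in
/-- (M4) -/
theorem exists_section_PUW (W : 𝒞) :
    ∃ ψ : V ⨯ (U ⨯ W) ⟶ P ⨯ (U ⨯ W), prod.map π₂ (𝟙 (U ⨯ W)) ≫ ψ = 𝟙 _ := by
  refine ⟨prod.lift (pLift hP (prod.snd ≫ prod.fst) prod.fst) prod.snd, ?_⟩
  refine toPW_ext hP hU _ _ ?_
  ext <;> simp [prod.lift_fst, prod.lift_snd]

/-- the map `θ : U ⨯ (V ⨯ W) ⟶ P ⨯ W` -/
noncomputable def theta (W : 𝒞) : U ⨯ (V ⨯ W) ⟶ P ⨯ W :=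
  prod.lift (pLift hP prod.fst (prod.snd ≫ prod.fst)) (prod.snd ≫ prod.snd)

include hP hU in
/-- (M5) -/
theorem theta_comp {T W : 𝒞} (b' : T ⟶ P ⨯ (V ⨯ W))
    (h : b' ≫ prod.snd ≫ prod.fst = b' ≫ prod.fst ≫ π₂) :
    b' ≫ prod.map π₁ (𝟙 (V ⨯ W)) ≫ theta hP W = b' ≫ prod.map (𝟙 P) prod.snd := by
  refine toPW_ext hP hU _ _ ?_
  ext
  · simp [theta, h, prod.lift_fst, prod.lift_snd]
  · simp [theta, prod.lift_fst, prod.lift_snd]

end Groth.Agent.Lib.Helper1.MVS
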