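import Groth.Agent.Lib.Helper1.ModEtBasic

/-!
# Gluing sections of a module on the small etale site along a two-element cover (helper1)
-/

set_option linter.style.haveILetI false
set_option linter.unusedSectionVars false
set_option backward.isDefEq.respectTransparency false

universe u

open CategoryTheory CategoryTheory.Limits AlgebraicGeometry Opposite AlgSp

namespace Groth.Agent.Lib.Helper1.MVS

open Groth.Agent.Lib.Helper1.ModEtBasic

variable {S : Scheme.{u}} {X : Sp S}

theorem sect_ext_two (M : ModEt X) {E A B : EtOver X} (iA : A ⟶ E) (iB : B ⟶ E)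
    (hcov : ∀ x : E.obj.left.left,
      x ∈ Set.range iA.hom.left.left ∨ x ∈ Set.range iB.hom.left.left)
    (s s' : sectModEt M E) (hA : M.val.map iA.op s = M.val.map iA.op s')
    (hB : M.val.map iB.op s = M.val.map iB.op s') : s = s' := by
  refine sect_ext_of_cover M (fun b : Bool => cond b A B)
    (fun b => Bool.rec (motive := fun b => cond b A B ⟶ E) iB iA b) (fun x => ?_) s s' ?_
  · rcases hcov x with h | h
    · exact ⟨true, h⟩
    · exact ⟨false, h⟩
  · intro b
    cases b
    · exact hB
    · exact hA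

theorem glue_two (M : ModEt X) {E A B : EtOver X} (iA : A ⟶ E) (iB : B ⟶ E)
    (hcov : ∀ x : E.obj.left.left,
      x ∈ Set.range iA.hom.left.left ∨ x ∈ Set.range iB.hom.left.left)
    (sA : sectModEt M A) (sB : sectModEt M B)
    (hAA : ∀ (T : EtOver X) (a a' : T ⟶ A), a ≫ iA = a' ≫ iA →
      M.val.map a.op sA = M.val.map a'.op sA)
    (hBB : ∀ (T : EtOver X) (b b' : T ⟶ B), b ≫ iB = b' ≫ iB →
      M.val.map b.op sB = M.val.map b'.op sB)
    (hAB : ∀ (T : EtOver X) (a : T ⟶ A) (b : T ⟶ B), a ≫ iA = b ≫ iB →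
      M.val.map a.op sA = M.val.map b.op sB) :
    ∃ s : sectModEt M E, M.val.map iA.op s = sA ∧ M.val.map iB.op s = sB := by
  have hsh := M.isSheaf
  rw [Presheaf.isSheaf_iff_isSheaf_forget (etTop X) _ (forget AddCommGrpCat),
    isSheaf_iff_isSheaf_of_type] at hsh
  let Y : Bool → EtOver X := fun b => cond b A B
  let g : ∀ b, Y b ⟶ E := fun b => Bool.rec (motive := fun b => cond b A B ⟶ E) iB iA b
  have hmem : Sieve.ofArrows Y g ∈ etTop X E := ofArrows_mem_etTop Y g (fun x => by
    rcases hcov x with h | h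
    · exact ⟨true, h⟩
    · exact ⟨false, h⟩)
  have hsf := (Presieve.isSheafFor_iff_generate _).2 (hsh _ hmem)
  rw [Presieve.isSheafFor_arrows_iff] at hsf
  obtain ⟨s, hs, -⟩ := hsf
    (fun b => Bool.rec (motive := fun b => sectModEt M (cond b A B)) sB sA b) (by
    intro i j Z gi gj hcomm
    cases i <;> cases j
    · exact hBB Z gi gj hcomm
    · exact (hAB Z gj gi hcomm.symm).symm
    · exact hAB Z gi gj hcomm
    · exact hAA Z gi gj hcomm)
  exact ⟨s, hs true, hs false⟩

end Groth.Agent.Lib.Helper1.MVS
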