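import Groth.Prelude.Def_W4SpPerfMV
import Groth.Agent.Lib.Helper1.MVS1
import Groth.Agent.Lib.Helper1.MVS2
import Groth.Agent.Lib.Helper1.MVS3

/-!
# The Mayer-Vietoris sequence of an elementary distinguished square: the sheaf-theoretic part
(helper1)
-/

set_option linter.style.haveILetI false
set_option linter.unusedSectionVars false
set_option backward.isDefEq.respectTransparency false

universe u

open CategoryTheory CategoryTheory.Limits AlgebraicGeometry Opposite AlgSp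

namespace Groth.Agent.Lib.Helper1.MVS

variable {S : Scheme.{u}} {X : Sp S}

/-- the geometric input -/
structure MVGeom (U V : EtOver X) : Prop where
  sub : ∀ Z : EtOver X, Subsingleton (Z ⟶ U)
  cov : ∀ (W : EtOver X) (τ : W.obj.left.left),
    τ ∈ Set.range (prod.snd : U ⨯ W ⟶ W).hom.left.left ∨
      τ ∈ Set.range (prod.snd : V ⨯ W ⟶ W).hom.left.left
  diag : ∀ (Z : EtOver X) (p q : Z ⟶ V), ∃ (D : EtOver X) (d : D ⟶ Z), d ≫ p = d ≫ q ∧
    ∀ z : Z.obj.left.left, z ∈ Set.range d.hom.left.left ∨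
      z ∈ Set.range (prod.snd : U ⨯ Z ⟶ Z).hom.left.left

/-- `j_{E,*}(F|_E)` -/
noncomputable abbrev AA (F : ModEt X) (E : EtOver X) : ModEt X :=
  (resModEt E ⋙ pushOnModEt E).obj F

theorem unit_app (U : EtOver X) (F : ModEt X) (W : EtOver X) (x : sectModEt F W) :
    ((resPushAdjEt U).unit.app F).val.app (op W) x = F.val.map (prod.snd : U ⨯ W ⟶ W).op x := by
  rw [← Over.forgetAdjStar_counit_app]
  rfl

theorem pushRes_app {U' U : EtOver X} (g : U' ⟶ U) (F : ModEt X) (W : EtOver X)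
    (x : sectModEt F (U ⨯ W)) :
    ((pushResNatTrans g).app F).val.app (op W) x = F.val.map (prod.map g (𝟙 W)).op x := rfl

theorem AA_map (E : EtOver X) (F : ModEt X) {Y W : EtOver X} (a : Y ⟶ W)
    (c : sectModEt F (E ⨯ W)) :
    (AA F E).val.map a.op c = F.val.map (prod.map (𝟙 E) a).op c := rfl

theorem map_comp_sect (F : ModEt X) {A B C : EtOver X} (a : A ⟶ B) (b : B ⟶ C)
    (s : sectModEt F C) : F.val.map (a ≫ b).op s = F.val.map a.op (F.val.map b.op s) := by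
  rw [op_comp, F.val.map_comp_apply]

theorem map_id_sect (F : ModEt X) {A : EtOver X} (s : sectModEt F A) :
    F.val.map (𝟙 A).op s = s := by
  rw [op_id, F.val.map_id]
  rfl

theorem nat_apply {M N : ModEt X} (g : M ⟶ N) {Y Y' : EtOver X} (a : Y ⟶ Y')
    (t : sectModEt M Y') :
    g.val.app (op Y) (M.val.map a.op t) = N.val.map a.op (g.val.app (op Y') t) :=
  PresheafOfModules.naturality_apply g.val a.op t

theorem comp_left_apply {A B C : EtOver X} (a : A ⟶ B) (b : B ⟶ C) (y : A.obj.left.left) :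
    (a ≫ b).hom.left.left y = b.hom.left.left (a.hom.left.left y) := rfl

theorem range_subset_of_comp {A B C : EtOver X} (a : A ⟶ B) (b : B ⟶ C) (c : A ⟶ C)
    (h : a ≫ b = c) (z : C.obj.left.left) (hz : z ∈ Set.range c.hom.left.left) :
    z ∈ Set.range b.hom.left.left := by
  obtain ⟨y, hy⟩ := hz
  refine ⟨a.hom.left.left y, ?_⟩
  rw [← hy, ← h, comp_left_apply]

section Main

variable (U V : EtOver X) (F : ModEt X)

noncomputable abbrev mvF : F ⟶ AA F U ⊞ AA F V :=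
  biprod.lift ((resPushAdjEt U).unit.app F) ((resPushAdjEt V).unit.app F)

noncomputable abbrev mvG : AA F U ⊞ AA F V ⟶ AA F (EtOver.prodObj U V) :=
  biprod.desc ((pushResNatTrans (EtOver.prodFst U V)).app F)
    (-((pushResNatTrans (EtOver.prodSnd U V)).app F))

/-- first component of a section of the direct sum -/
noncomputable def c1 {W : EtOver X} (x : sectModEt (AA F U ⊞ AA F V) W) : sectModEt F (U ⨯ W) :=
  (biprod.fst : AA F U ⊞ AA F V ⟶ AA F U).val.app (op W) x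

/-- second component of a section of the direct sum -/
noncomputable def c2 {W : EtOver X} (x : sectModEt (AA F U ⊞ AA F V) W) : sectModEt F (V ⨯ W) :=
  (biprod.snd : AA F U ⊞ AA F V ⟶ AA F V).val.app (op W) x

theorem c_ext {W : EtOver X} (x y : sectModEt (AA F U ⊞ AA F V) W)
    (h1 : c1 U V F x = c1 U V F y) (h2 : c2 U V F x = c2 U V F y) : x = y :=
  biprod_sect_ext (op W) x y h1 h2

theorem c_exists {W : EtOver X} (a : sectModEt F (U ⨯ W)) (b : sectModEt F (V ⨯ W)) :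
    ∃ x : sectModEt (AA F U ⊞ AA F V) W, c1 U V F x = a ∧ c2 U V F x = b :=
  biprod_sect_exists (A := AA F U) (B := AA F V) (op W) a b

theorem c1_mvF {W : EtOver X} (s : sectModEt F W) :
    c1 U V F ((mvF U V F).val.app (op W) s) = F.val.map (prod.snd : U ⨯ W ⟶ W).op s := by
  unfold c1
  rw [biprod_lift_fst_app]
  exact unit_app U F W s

theorem c2_mvF {W : EtOver X} (s : sectModEt F W) :
    c2 U V F ((mvF U V F).val.app (op W) s) = F.val.map (prod.snd : V ⨯ W ⟶ W).op s := by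
  unfold c2
  rw [biprod_lift_snd_app]
  exact unit_app V F W s

/-- restriction from `U ⨯ W` to `(U ×_X V) ⨯ W` -/
noncomputable def r1 {W : EtOver X} (a : sectModEt F (U ⨯ W)) :
    sectModEt F (EtOver.prodObj U V ⨯ W) :=
  F.val.map (prod.map (EtOver.prodFst U V) (𝟙 W)).op a

/-- restriction from `V ⨯ W` to `(U ×_X V) ⨯ W` -/
noncomputable def r2 {W : EtOver X} (b : sectModEt F (V ⨯ W)) :
    sectModEt F (EtOver.prodObj U V ⨯ W) :=
  F.val.map (prod.map (EtOver.prodSnd U V) (𝟙 W)).op b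

/-- restriction from `(U ×_X V) ⨯ W` to `(U ×_X V) ⨯ Y` -/
noncomputable def r3 {W Y : EtOver X} (a : Y ⟶ W) (c : sectModEt F (EtOver.prodObj U V ⨯ W)) :
    sectModEt F (EtOver.prodObj U V ⨯ Y) :=
  F.val.map (prod.map (𝟙 (EtOver.prodObj U V)) a).op c

theorem AA_map' {W Y : EtOver X} (a : Y ⟶ W) (c : sectModEt F (EtOver.prodObj U V ⨯ W)) :
    (AA F (EtOver.prodObj U V)).val.map a.op c = r3 U V F a c := rfl

theorem mvG_app {W : EtOver X} (x : sectModEt (AA F U ⊞ AA F V) W) :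
    (mvG U V F).val.app (op W) x = r1 U V F (c1 U V F x) - r2 U V F (c2 U V F x) := by
  rw [biprod_desc_app, neg_app_apply, ← sub_eq_add_neg]
  rfl

theorem r1_snd {W : EtOver X} (s : sectModEt F W) :
    r1 U V F (F.val.map (prod.snd : U ⨯ W ⟶ W).op s) =
      F.val.map (prod.snd : EtOver.prodObj U V ⨯ W ⟶ W).op s := by
  have h : prod.map (EtOver.prodFst U V) (𝟙 W) ≫ prod.snd = prod.snd := by simp
  unfold r1
  rw [← map_comp_sect, h]

theorem r2_snd {W : EtOver X} (s : sectModEt F W) :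
    r2 U V F (F.val.map (prod.snd : V ⨯ W ⟶ W).op s) =
      F.val.map (prod.snd : EtOver.prodObj U V ⨯ W ⟶ W).op s := by
  have h : prod.map (EtOver.prodSnd U V) (𝟙 W) ≫ prod.snd = prod.snd := by simp
  unfold r2
  rw [← map_comp_sect, h]

theorem mv_zero : mvF U V F ≫ mvG U V F = 0 := by
  ext W s
  induction W using Opposite.rec with
  | op W =>
    change (mvG U V F).val.app (op W) ((mvF U V F).val.app (op W) s) = 0
    rw [mvG_app, c1_mvF, c2_mvF, r1_snd, r2_snd, sub_self]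

variable (hg : MVGeom U V)

include hg in
theorem mv_inj (W : EtOver X) : Function.Injective ((mvF U V F).val.app (op W)) := by
  intro s s' h
  refine sect_ext_two F (prod.snd : U ⨯ W ⟶ W) (prod.snd : V ⨯ W ⟶ W) (hg.cov W) s s' ?_ ?_
  · rw [← c1_mvF U V F s, ← c1_mvF U V F s', h]
  · rw [← c2_mvF U V F s, ← c2_mvF U V F s', h]

theorem compat_UV {W : EtOver X} (a : sectModEt F (U ⨯ W)) (b : sectModEt F (V ⨯ W))
    (hab : r1 U V F a = r2 U V F b) {T : EtOver X} (α : T ⟶ U ⨯ W) (β : T ⟶ V ⨯ W)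
    (h : α ≫ prod.snd = β ≫ prod.snd) : F.val.map α.op a = F.val.map β.op b := by
  obtain ⟨c, hc1, hc2⟩ := exists_toPW (EtOver.prodIsLimit U V) α β h
  rw [← hc1, ← hc2, map_comp_sect, map_comp_sect]
  exact congrArg _ hab

include hg in
theorem mv_exact (W : EtOver X) (x : sectModEt (AA F U ⊞ AA F V) W)
    (hx : (mvG U V F).val.app (op W) x = 0) :
    ∃ s : sectModEt F W, (mvF U V F).val.app (op W) s = x := by
  rw [mvG_app, sub_eq_zero] at hx
  have hAA : ∀ (T : EtOver X) (a a' : T ⟶ U ⨯ W), a ≫ prod.snd = a' ≫ prod.snd →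
      F.val.map a.op (c1 U V F x) = F.val.map a'.op (c1 U V F x) := by
    intro T a a' h
    rw [toUW_ext hg.sub a a' h]
  have hAB : ∀ (T : EtOver X) (a : T ⟶ U ⨯ W) (b : T ⟶ V ⨯ W), a ≫ prod.snd = b ≫ prod.snd →
      F.val.map a.op (c1 U V F x) = F.val.map b.op (c2 U V F x) := by
    intro T a b h
    exact compat_UV U V F _ _ hx a b h
  have hBB : ∀ (T : EtOver X) (b₁ b₂ : T ⟶ V ⨯ W), b₁ ≫ prod.snd = b₂ ≫ prod.snd →
      F.val.map b₁.op (c2 U V F x) = F.val.map b₂.op (c2 U V F x) := by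
    intro T b₁ b₂ h
    obtain ⟨D, d, hd, hcovD⟩ := hg.diag T (b₁ ≫ prod.fst) (b₂ ≫ prod.fst)
    refine sect_ext_two F d (prod.snd : U ⨯ T ⟶ T) hcovD _ _ ?_ ?_
    · rw [← map_comp_sect, ← map_comp_sect]
      have hdb : d ≫ b₁ = d ≫ b₂ := by
        apply Limits.prod.hom_ext
        · simpa using hd
        · simp only [Category.assoc, h]
      rw [hdb]
    · rw [← map_comp_sect, ← map_comp_sect]
      have e1 := hAB _
        (prod.lift prod.fst (prod.snd ≫ b₁ ≫ prod.snd) : U ⨯ T ⟶ U ⨯ W) (prod.snd ≫ b₁)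
        (by simp [prod.lift_snd])
      have e2 := hAB _
        (prod.lift prod.fst (prod.snd ≫ b₂ ≫ prod.snd) : U ⨯ T ⟶ U ⨯ W) (prod.snd ≫ b₂)
        (by simp [prod.lift_snd])
      rw [← e1, ← e2, h]
  obtain ⟨s, hs1, hs2⟩ := glue_two F (prod.snd : U ⨯ W ⟶ W) (prod.snd : V ⨯ W ⟶ W) (hg.cov W)
    (c1 U V F x) (c2 U V F x) hAA hBB hAB
  exact ⟨s, c_ext U V F _ _ (by rw [c1_mvF, hs1]) (by rw [c2_mvF, hs2])⟩

include hg in
theorem mv_surj_U (W : EtOver X) (c : sectModEt F (EtOver.prodObj U V ⨯ W)) :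
    ∃ t : sectModEt (AA F U ⊞ AA F V) (U ⨯ W),
      (mvG U V F).val.app (op (U ⨯ W)) t =
        (AA F (EtOver.prodObj U V)).val.map (prod.snd : U ⨯ W ⟶ W).op c := by
  obtain ⟨ψ, hψ⟩ := exists_section_PUW (EtOver.prodIsLimit U V) hg.sub W
  obtain ⟨t, ht1, ht2⟩ := c_exists U V F (W := U ⨯ W) 0
    (F.val.map ψ.op (-(r3 U V F (prod.snd : U ⨯ W ⟶ W) c)))
  refine ⟨t, ?_⟩
  rw [mvG_app, ht1, ht2, AA_map']
  unfold r1 r2
  rw [map_zero, ← map_comp_sect, hψ, map_id_sect, zero_sub, neg_neg]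

theorem mv_cov_aux (W D : EtOver X) (d : D ⟶ V ⨯ (V ⨯ W))
    (hcovD : ∀ z : (V ⨯ (V ⨯ W)).obj.left.left, z ∈ Set.range d.hom.left.left ∨
      z ∈ Set.range (prod.snd : U ⨯ (V ⨯ (V ⨯ W)) ⟶ V ⨯ (V ⨯ W)).hom.left.left)
    (z : (V ⨯ (V ⨯ W)).obj.left.left) : z ∈ Set.range d.hom.left.left ∨
      z ∈ Set.range (prod.map (EtOver.prodSnd U V) (𝟙 (V ⨯ W))).hom.left.left := by
  rcases hcovD z with h | h
  · exact Or.inl h
  · right
    obtain ⟨κ, -, hκ⟩ := exists_toPW (EtOver.prodIsLimit U V)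
      (prod.lift prod.fst (prod.snd ≫ prod.snd) : U ⨯ (V ⨯ (V ⨯ W)) ⟶ U ⨯ (V ⨯ W))
      (prod.snd : U ⨯ (V ⨯ (V ⨯ W)) ⟶ V ⨯ (V ⨯ W)) (by simp [prod.lift_snd])
    exact range_subset_of_comp κ _ _ hκ z h

include hg in
theorem mv_key_aux (W D T : EtOver X) (d : D ⟶ V ⨯ (V ⨯ W))
    (hd : d ≫ prod.fst = d ≫ prod.snd ≫ prod.fst)
    (α : T ⟶ D) (β : T ⟶ EtOver.prodObj U V ⨯ (V ⨯ W))
    (h : α ≫ d = β ≫ prod.map (EtOver.prodSnd U V) (𝟙 (V ⨯ W))) :
    β ≫ prod.map (EtOver.prodFst U V) (𝟙 (V ⨯ W)) ≫ theta (EtOver.prodIsLimit U V) W =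
      β ≫ prod.map (𝟙 (EtOver.prodObj U V)) prod.snd := by
  have key : β ≫ prod.snd ≫ prod.fst = β ≫ prod.fst ≫ EtOver.prodSnd U V := by
    have h1 := congrArg (fun k => k ≫ (prod.fst : V ⨯ (V ⨯ W) ⟶ V)) h
    have h2 := congrArg (fun k => k ≫ (prod.snd : V ⨯ (V ⨯ W) ⟶ V ⨯ W) ≫
      (prod.fst : V ⨯ W ⟶ V)) h
    simp only [Category.assoc, prod.map_fst, prod.map_snd, prod.map_snd_assoc,
      Category.comp_id, Category.id_comp] at h1 h2
    rw [hd] at h1
    exact h2.symm.trans h1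
  exact theta_comp (EtOver.prodIsLimit U V) hg.sub β key

/-- pullback of a section along `θ` -/
noncomputable def thetaSect (W : EtOver X) (c : sectModEt F (EtOver.prodObj U V ⨯ W)) :
    sectModEt F (U ⨯ (V ⨯ W)) :=
  F.val.map (theta (EtOver.prodIsLimit U V) W).op c

/-- the section to be extended by zero -/
noncomputable def sigmaSect (W : EtOver X) (c : sectModEt F (EtOver.prodObj U V ⨯ W)) :
    sectModEt F (EtOver.prodObj U V ⨯ (V ⨯ W)) :=
  r1 U V F (W := V ⨯ W) (thetaSect U V F W c) - r3 U V F (prod.snd : V ⨯ W ⟶ W) c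

include hg in
theorem mv_glue_aux (W D : EtOver X) (d : D ⟶ V ⨯ (V ⨯ W))
    (hd : d ≫ prod.fst = d ≫ prod.snd ≫ prod.fst)
    (hcov' : ∀ z : (V ⨯ (V ⨯ W)).obj.left.left, z ∈ Set.range d.hom.left.left ∨
      z ∈ Set.range (prod.map (EtOver.prodSnd U V) (𝟙 (V ⨯ W))).hom.left.left)
    (c : sectModEt F (EtOver.prodObj U V ⨯ W)) :
    ∃ b : sectModEt F (V ⨯ (V ⨯ W)), r2 U V F (W := V ⨯ W) b = sigmaSect U V F W c := by
  have hP := EtOver.prodIsLimit U V
  have hAB : ∀ (T : EtOver X) (α : T ⟶ D) (β : T ⟶ EtOver.prodObj U V ⨯ (V ⨯ W)),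
      α ≫ d = β ≫ prod.map (EtOver.prodSnd U V) (𝟙 (V ⨯ W)) →
      F.val.map α.op (0 : sectModEt F D) = F.val.map β.op (sigmaSect U V F W c) := by
    intro T α β h
    have e := mv_key_aux U V hg W D T d hd α β h
    rw [map_zero]
    symm
    unfold sigmaSect
    rw [map_sub, sub_eq_zero]
    unfold r1 r3 thetaSect
    rw [← map_comp_sect, ← map_comp_sect, ← map_comp_sect, Category.assoc, e]
  obtain ⟨b, -, hb⟩ := glue_two F d (prod.map (EtOver.prodSnd U V) (𝟙 (V ⨯ W))) hcov' 0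
    (sigmaSect U V F W c)
    (by intro T a₁ a₂ _; rw [map_zero, map_zero])
    (by intro T b₁ b₂ h; rw [toPW_ext hP hg.sub b₁ b₂ h]) hAB
  exact ⟨b, hb⟩

include hg in
theorem mv_surj_V (W : EtOver X) (c : sectModEt F (EtOver.prodObj U V ⨯ W)) :
    ∃ t : sectModEt (AA F U ⊞ AA F V) (V ⨯ W),
      (mvG U V F).val.app (op (V ⨯ W)) t =
        (AA F (EtOver.prodObj U V)).val.map (prod.snd : V ⨯ W ⟶ W).op c := by
  obtain ⟨D, d, hd, hcovD⟩ := hg.diag (V ⨯ (V ⨯ W)) prod.fst (prod.snd ≫ prod.fst)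
  obtain ⟨b, hb⟩ := mv_glue_aux U V F hg W D d hd (mv_cov_aux U V W D d hcovD) c
  obtain ⟨t, ht1, ht2⟩ := c_exists U V F (W := V ⨯ W) (thetaSect U V F W c) b
  refine ⟨t, ?_⟩
  rw [mvG_app, ht1, ht2, AA_map', hb]
  unfold sigmaSect
  abel

theorem surj_restrict {W Y Y' : EtOver X} (p : Y' ⟶ W) (a' : Y ⟶ Y')
    (c : sectModEt (AA F (EtOver.prodObj U V)) W)
    (h : ∃ t : sectModEt (AA F U ⊞ AA F V) Y',
      (mvG U V F).val.app (op Y') t = (AA F (EtOver.prodObj U V)).val.map p.op c) :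
    ∃ t : sectModEt (AA F U ⊞ AA F V) Y,
      (mvG U V F).val.app (op Y) t = (AA F (EtOver.prodObj U V)).val.map (a' ≫ p).op c := by
  obtain ⟨t, ht⟩ := h
  refine ⟨(AA F U ⊞ AA F V).val.map a'.op t, ?_⟩
  rw [nat_apply, ht, ← map_comp_sect]

include hg in
theorem mv_shortExact :
    ∃ h : mvF U V F ≫ mvG U V F = 0, (ShortComplex.mk _ _ h).ShortExact := by
  refine ⟨mv_zero U V F, ?_⟩
  refine shortExact_of_sect _ ?_ ?_ ?_
  · intro E
    exact mv_inj U V F hg E.unop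
  · intro E s hs
    exact mv_exact U V F hg E.unop s hs
  · intro W c
    refine ⟨Sieve.ofArrows (fun b : Bool => cond b (U ⨯ W) (V ⨯ W))
      (fun b => Bool.rec (motive := fun b => cond b (U ⨯ W) (V ⨯ W) ⟶ W) prod.snd prod.snd b),
      ofArrows_mem_etTop _ _ (fun x => ?_), ?_⟩
    · rcases hg.cov W x with h | h
      · exact ⟨true, h⟩
      · exact ⟨false, h⟩
    · rintro Y a ⟨Y', a', _, ⟨b⟩, rfl⟩
      cases b
      · exact surj_restrict U V F (prod.snd : V ⨯ W ⟶ W) a' c (mv_surj_V U V F hg W c)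
      · exact surj_restrict U V F (prod.snd : U ⨯ W ⟶ W) a' c (mv_surj_U U V F hg W c)

end Main

end Groth.Agent.Lib.Helper1.MVS
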