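import Groth.Agent.Lib.Helper14.ElemDist
import Groth.Agent.Lib.Helper14.PushEt2
import Groth.Agent.Lib.Helper1.MVS5

/-!
# The geometric input of the Mayer-Vietoris sequence of an elementary distinguished square (helper1)
-/

set_option linter.style.haveILetI false
set_option linter.unusedSectionVars false
set_option backward.isDefEq.respectTransparency false

universe u

open CategoryTheory CategoryTheory.Limits AlgebraicGeometry Opposite AlgSp

namespace Groth.Agent.Lib.Helper1.MVS

open Groth.Agent.Lib.Helper14.AS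

variable {S : Scheme.{u}} {X : Sp S}

theorem isPullback_prodObj (E₁ E₂ : EtOver X) :
    IsPullback ((yon S).map (EtOver.prodFst E₁ E₂).hom.left)
      ((yon S).map (EtOver.prodSnd E₁ E₂).hom.left) E₁.obj.hom E₂.obj.hom := by
  have h := (E₂.property.1.isPullback E₁.obj.hom).flip
  rw [← Functor.relativelyRepresentable.map_fst'] at h
  exact h

theorem isPullback_prod (E₁ E₂ : EtOver X) :
    IsPullback ((yon S).map (prod.fst : E₁ ⨯ E₂ ⟶ E₁).hom.left)
      ((yon S).map (prod.snd : E₁ ⨯ E₂ ⟶ E₂).hom.left) E₁.obj.hom E₂.obj.hom := by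
  let e : E₁ ⨯ E₂ ≅ EtOver.prodObj E₁ E₂ :=
    IsLimit.conePointUniqueUpToIso (prodIsProd E₁ E₂) (EtOver.prodIsLimit E₁ E₂)
  have h1 : e.inv ≫ prod.fst = EtOver.prodFst E₁ E₂ :=
    IsLimit.conePointUniqueUpToIso_inv_comp (prodIsProd E₁ E₂) (EtOver.prodIsLimit E₁ E₂)
      ⟨WalkingPair.left⟩
  have h2 : e.inv ≫ prod.snd = EtOver.prodSnd E₁ E₂ :=
    IsLimit.conePointUniqueUpToIso_inv_comp (prodIsProd E₁ E₂) (EtOver.prodIsLimit E₁ E₂)
      ⟨WalkingPair.right⟩
  refine IsPullback.of_iso (isPullback_prodObj E₁ E₂)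
    ((yon S).mapIso ((EtOver.forget X).mapIso e.symm)) (Iso.refl _) (Iso.refl _) (Iso.refl _)
    ?_ ?_ ?_ ?_
  · rw [Iso.refl_hom, Category.comp_id, ← h1]
    simp only [Functor.mapIso_hom, Iso.symm_hom, ← Functor.map_comp]
    rfl
  · rw [Iso.refl_hom, Category.comp_id, ← h2]
    simp only [Functor.mapIso_hom, Iso.symm_hom, ← Functor.map_comp]
    rfl
  · simp
  · simp

theorem subsingleton_hom_of_mono (U : EtOver X) (hU : Mono U.obj.hom) (Z : EtOver X) :
    Subsingleton (Z ⟶ U) :=
  ⟨fun a b => EtOver.hom_ext _ _ ((yon S).map_injective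
    ((cancel_mono U.obj.hom).1 (by rw [EtOver.w a, EtOver.w b])))⟩

theorem cov_of_isElemDistSq (hX : IsAlgSpace X) (U V : EtOver X)
    (hsq : IsElemDistSq U.obj.hom V.obj.hom) (W : EtOver X) (τ : W.obj.left.left) :
    τ ∈ Set.range (prod.snd : U ⨯ W ⟶ W).hom.left.left ∨
      τ ∈ Set.range (prod.snd : V ⨯ W ⟶ W).hom.left.left := by
  have hjls := jls_of_isElemDistSq (IsAlgSpace.yon_obj V.obj.left) hX U.obj.hom V.obj.hom hsq
  rcases hjls.points (Points.ofPt W.obj.hom τ) with ⟨x, hx⟩ | ⟨x, hx⟩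
  · left
    obtain ⟨v, -, hv⟩ := exists_point_of_isPullback_yon' (isPullback_prod U W) x τ hx
    exact ⟨v, hv⟩
  · right
    obtain ⟨v, -, hv⟩ := exists_point_of_isPullback_yon' (isPullback_prod V W) x τ hx
    exact ⟨v, hv⟩

theorem diag_of_isElemDistSq (hX : IsAlgSpace X) (U V : EtOver X)
    (hsq : IsElemDistSq U.obj.hom V.obj.hom) (Z : EtOver X) (p q : Z ⟶ V) :
    ∃ (D : EtOver X) (d : D ⟶ Z), d ≫ p = d ≫ q ∧
      ∀ z : Z.obj.left.left, z ∈ Set.range d.hom.left.left ∨
        z ∈ Set.range (prod.snd : U ⨯ Z ⟶ Z).hom.left.left := by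
  have hV := IsAlgSpace.yon_obj V.obj.left
  have hf : IsEtaleMor V.obj.hom := hsq.2.1
  have hδ : RepWith @IsOpenImmersion (pullback.diagonal V.obj.hom) :=
    repWith_isOpenImmersion_diagonal_of_unramified hV hX V.obj.hom
      (locP_mono (fun _ _ g hg => by
        have : Etale g := hg
        exact ⟨inferInstance, inferInstance⟩) (locP_etale_of_isEtaleMor hf))
  let w : (yon S).obj Z.obj.left ⟶ pullback V.obj.hom V.obj.hom :=
    pullback.lift ((yon S).map p.hom.left) ((yon S).map q.hom.left)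
      (by rw [EtOver.w p, EtOver.w q])
  have sq := hδ.rep.isPullback w
  have ho : IsOpenImmersion (hδ.rep.snd w).left := hδ.property_snd w
  have hD : RepWith @Etale ((yon S).map (hδ.rep.snd w) ≫ Z.obj.hom) :=
    (repWith_isMultiplicative (S := S) @Etale).comp_mem _ _
      ((repWith_yon_map_iff @Etale _).2 (inferInstance : Etale (hδ.rep.snd w).left)) Z.property
  let D : EtOver X := EtOver.mk ((yon S).map (hδ.rep.snd w) ≫ Z.obj.hom) hD
  let d : D ⟶ Z := EtOver.homMk (hδ.rep.snd w) rfl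
  refine ⟨D, d, ?_, ?_⟩
  · apply EtOver.hom_ext
    apply (yon S).map_injective
    change (yon S).map ((hδ.rep.snd w) ≫ p.hom.left) = (yon S).map ((hδ.rep.snd w) ≫ q.hom.left)
    have e1 : (yon S).map p.hom.left = w ≫ pullback.fst _ _ := (pullback.lift_fst _ _ _).symm
    have e2 : (yon S).map q.hom.left = w ≫ pullback.snd _ _ := (pullback.lift_snd _ _ _).symm
    rw [Functor.map_comp, Functor.map_comp, e1, e2, ← Category.assoc, ← Category.assoc, ← sq.w,
      Category.assoc, Category.assoc, pullback.diagonal_fst, pullback.diagonal_snd]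
  · intro z
    rcases (jls_diagonal_of_isElemDistSq hV hX U.obj.hom V.obj.hom hsq).points
      (Points.ofPt w z) with ⟨x, hx⟩ | ⟨x, hx⟩
    · left
      obtain ⟨v, -, hv⟩ := exists_point_of_isPullback_yon' sq x z hx
      exact ⟨v, hv⟩
    · right
      have hw : w ≫ pullback.fst V.obj.hom V.obj.hom ≫ V.obj.hom = Z.obj.hom := by
        rw [← Category.assoc, pullback.lift_fst, EtOver.w p]
      have e : Points.map U.obj.hom (Points.map (pullback.snd _ _) x) =
          Points.ofPt Z.obj.hom z := by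
        rw [← Points.map_comp, ← pullback.condition, Points.map_comp, hx, Points.map_ofPt, hw]
      obtain ⟨v, -, hv⟩ := exists_point_of_isPullback_yon' (isPullback_prod U Z) _ z e
      exact ⟨v, hv⟩

theorem mvGeom_of_isElemDistSq (hX : IsAlgSpace X) (U V : EtOver X)
    (hsq : IsElemDistSq U.obj.hom V.obj.hom) : MVGeom U V where
  sub := subsingleton_hom_of_mono U (mono_of_repWith_openImm hsq.1)
  cov := cov_of_isElemDistSq hX U V hsq
  diag := diag_of_isElemDistSq hX U V hsq

end Groth.Agent.Lib.Helper1.MVS
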