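import Groth.Agent.S0485
import Groth.Prelude.Def_AlgSpOX

/-!
# Enough injectives for modules on the small etale site (helper1)

Transport of helper20's S0485 (small sites) along `ULiftHom.equiv`.
-/

set_option linter.style.haveILetI false
set_option linter.unusedSectionVars false
set_option backward.isDefEq.respectTransparency false

universe v

open CategoryTheory CategoryTheory.Limits Opposite

namespace Groth.Agent.Lib.Helper1.MVS

section General

variable {C : Type (v + 1)} [Category.{v} C] (J : GrothendieckTopology C)
  (R : Sheaf J RingCat.{v + 1})

/-- the topology on `ULiftHom C` -/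
abbrev liftTop : GrothendieckTopology (ULiftHom.{v + 1} C) :=
  (ULiftHom.equiv (C := C)).inverse.inducedTopology J

/-- the ring sheaf on `ULiftHom C` -/
noncomputable abbrev liftRing : Sheaf (liftTop J) RingCat.{v + 1} :=
  ((ULiftHom.equiv (C := C)).inverse.sheafPushforwardContinuous RingCat.{v + 1} (liftTop J) J).obj R

/-- the comparison of ring sheaves -/
noncomputable def liftPhi : R ⟶ ((ULiftHom.equiv (C := C)).functor.sheafPushforwardContinuous
    RingCat.{v + 1} J (liftTop J)).obj (liftRing J R) :=
  ⟨{ app := fun c => 𝟙 _
     naturality := by
      intro c c' f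
      rw [Category.comp_id, Category.id_comp]
      rfl }⟩

/-- modules over the lifted ring are equivalent to modules over `R` -/
noncomputable def liftEquiv :
    SheafOfModules.{v + 1} (liftRing J R) ≌ SheafOfModules.{v + 1} R :=
  SheafOfModules.pushforwardPushforwardEquivalence (ULiftHom.equiv (C := C)) (liftPhi J R) (𝟙 _)
    (by
      ext d : 2
      simp [liftPhi, ULiftHom.equiv]
      exact R.obj.map_id _)
    (by
      ext c : 2
      simp [liftPhi, ULiftHom.equiv]
      erw [Category.id_comp]
      exact R.obj.map_id c)

theorem enoughInjectives_sheafOfModules : EnoughInjectives (SheafOfModules.{v + 1} R) := by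
  haveI : EnoughInjectives (SheafOfModules.{v + 1} (liftRing J R)) :=
    Groth.Agent.S0485.result (liftTop J) (liftRing J R)
  exact EnoughInjectives.of_equivalence (liftEquiv J R).inverse

end General

universe u

open AlgebraicGeometry AlgSp in
theorem enoughInjectives_modEt {S : Scheme.{u}} (X : Sp S) : EnoughInjectives (ModEt X) :=
  enoughInjectives_sheafOfModules (etTop X) (OEtRing X)

end Groth.Agent.Lib.Helper1.MVS
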