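import Mathlib.CategoryTheory.Adjunction.Mates
import Mathlib.Algebra.Homology.ShortComplex.ShortExact
import Mathlib.CategoryTheory.Preadditive.Injective.Basic
import Mathlib.CategoryTheory.Abelian.Basic

/-!
# The dual (extension by zero) Mayer-Vietoris sequence from the direct image one (helper1)

Abstract form: if `0 → G → R_U G ⊕ R_V G → R_P G → 0` is short exact for every `G`, then the sequence
`0 → L_P F → L_U F ⊕ L_V F → F → 0` of left adjoints is short exact, in an abelian category with enough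
injectives.
-/

set_option linter.style.haveILetI false
set_option linter.unusedSectionVars false

universe v₁ u₁

open CategoryTheory CategoryTheory.Limits

namespace Groth.Agent.Lib.Helper1.MVS

theorem homEquiv_conj {C : Type*} [Category C] {D : Type*} [Category D]
    {L₁ L₂ : C ⥤ D} {R₁ R₂ : D ⥤ C} (adj₁ : L₁ ⊣ R₁) (adj₂ : L₂ ⊣ R₂)
    (ρ : R₁ ⟶ R₂) {F : C} {G : D} (a : L₁.obj F ⟶ G) :
    adj₂.homEquiv F G (((conjugateEquiv adj₁ adj₂).symm ρ).app F ≫ a) =
      adj₁.homEquiv F G a ≫ ρ.app G := by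
  rw [Adjunction.homEquiv_unit, Adjunction.homEquiv_unit, Functor.map_comp, ← Category.assoc,
    ← unit_conjugateEquiv_symm, Category.assoc, Category.assoc, ρ.naturality]

variable {𝒜 : Type u₁} [Category.{v₁} 𝒜] [Abelian 𝒜]

theorem shortExact_of_hom [EnoughInjectives 𝒜] (S : ShortComplex 𝒜)
    (h1 : ∀ (G : 𝒜) (φ φ' : S.X₃ ⟶ G), S.g ≫ φ = S.g ≫ φ' → φ = φ')
    (h2 : ∀ (G : 𝒜) (k : S.X₂ ⟶ G), S.f ≫ k = 0 → ∃ φ : S.X₃ ⟶ G, S.g ≫ φ = k)
    (h3 : ∀ (G : 𝒜) [Injective G] (i : S.X₁ ⟶ G), ∃ k : S.X₂ ⟶ G, S.f ≫ k = i) :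
    S.ShortExact := by
  haveI : Epi S.g := ⟨fun φ φ' h => h1 _ φ φ' h⟩
  haveI : Mono S.f := by
    obtain ⟨k, hk⟩ := h3 (Injective.under S.X₁) (Injective.ι S.X₁)
    exact mono_of_mono_fac hk
  have hcok : Nonempty (IsColimit (CokernelCofork.ofπ S.g S.zero)) :=
    ⟨CokernelCofork.IsColimit.ofπ' S.g S.zero (fun {A} k hk =>
      ⟨(h2 A k hk).choose, (h2 A k hk).choose_spec⟩)⟩
  exact ShortComplex.ShortExact.mk ((S.exact_and_epi_g_iff_g_is_cokernel).2 hcok).1

section Main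

variable [EnoughInjectives 𝒜] {LU LV LP RU RV RP : 𝒜 ⥤ 𝒜} [RU.Additive] [RV.Additive]
  [RP.Additive]
  (adjU : LU ⊣ RU) (adjV : LV ⊣ RV) (adjP : LP ⊣ RP)
  (ρ₁ : RU ⟶ RP) (ρ₂ : RV ⟶ RP) (ηU : ∀ G : 𝒜, G ⟶ RU.obj G) (ηV : ∀ G : 𝒜, G ⟶ RV.obj G)
  (εU : ∀ F : 𝒜, LU.obj F ⟶ F) (εV : ∀ F : 𝒜, LV.obj F ⟶ F)

theorem homEquiv_zero' {L R : 𝒜 ⥤ 𝒜} [R.Additive] (adj : L ⊣ R) (F G : 𝒜) :
    adj.homEquiv F G 0 = 0 := by
  rw [Adjunction.homEquiv_unit, Functor.map_zero, comp_zero]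

theorem key_formula (F G : 𝒜) (α : LU.obj F ⟶ G) (β : LV.obj F ⟶ G) :
    adjP.homEquiv F G (biprod.lift (((conjugateEquiv adjU adjP).symm ρ₁).app F)
      (-(((conjugateEquiv adjV adjP).symm ρ₂).app F)) ≫ biprod.desc α β) =
      biprod.lift (adjU.homEquiv F G α) (adjV.homEquiv F G β) ≫
        biprod.desc (ρ₁.app G) (-(ρ₂.app G)) := by
  rw [biprod.lift_desc, biprod.lift_desc, Preadditive.neg_comp, Preadditive.comp_neg,
    ← sub_eq_add_neg, ← sub_eq_add_neg, Adjunction.homEquiv_unit, Functor.map_sub,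
    Preadditive.comp_sub, ← Adjunction.homEquiv_unit, ← Adjunction.homEquiv_unit,
    homEquiv_conj, homEquiv_conj]

variable (hεU : ∀ (F G : 𝒜) (φ : F ⟶ G), adjU.homEquiv F G (εU F ≫ φ) = φ ≫ ηU G)
  (hεV : ∀ (F G : 𝒜) (φ : F ⟶ G), adjV.homEquiv F G (εV F ≫ φ) = φ ≫ ηV G)
  (hMV : ∀ G : 𝒜, ∃ h : biprod.lift (ηU G) (ηV G) ≫
      biprod.desc (ρ₁.app G) (-(ρ₂.app G)) = 0, (ShortComplex.mk _ _ h).ShortExact)

include hεU hεV hMV in
theorem shriek_shortExact (F : 𝒜) :
    ∃ h : biprod.lift (((conjugateEquiv adjU adjP).symm ρ₁).app F)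
        (-(((conjugateEquiv adjV adjP).symm ρ₂).app F)) ≫
        biprod.desc (εU F) (εV F) = 0, (ShortComplex.mk _ _ h).ShortExact := by
  have e1 : adjU.homEquiv F F (εU F) = ηU F := by
    have := hεU F F (𝟙 F)
    rwa [Category.comp_id, Category.id_comp] at this
  have e2 : adjV.homEquiv F F (εV F) = ηV F := by
    have := hεV F F (𝟙 F)
    rwa [Category.comp_id, Category.id_comp] at this
  have hzero : biprod.lift (((conjugateEquiv adjU adjP).symm ρ₁).app F)
        (-(((conjugateEquiv adjV adjP).symm ρ₂).app F)) ≫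
        biprod.desc (εU F) (εV F) = 0 := by
    apply (adjP.homEquiv F _).injective
    rw [key_formula, e1, e2, homEquiv_zero']
    exact (hMV F).choose
  refine ⟨hzero, shortExact_of_hom _ ?_ ?_ ?_⟩
  · intro G φ φ' h
    obtain ⟨hz, hse⟩ := hMV G
    haveI := hse.mono_f
    have hl : φ ≫ biprod.lift (ηU G) (ηV G) = φ' ≫ biprod.lift (ηU G) (ηV G) := by
      apply biprod.hom_ext
      · rw [Category.assoc, Category.assoc, biprod.lift_fst, ← hεU, ← hεU]
        congr 1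
        have := congrArg (fun k => biprod.inl ≫ k) h
        simpa using this
      · rw [Category.assoc, Category.assoc, biprod.lift_snd, ← hεV, ← hεV]
        congr 1
        have := congrArg (fun k => biprod.inr ≫ k) h
        simpa using this
    exact (cancel_mono (biprod.lift (ηU G) (ηV G))).1 hl
  · intro G k hk
    obtain ⟨hz, hse⟩ := hMV G
    haveI := hse.mono_f
    have hk' : k = biprod.desc (biprod.inl ≫ k) (biprod.inr ≫ k) := by
      apply biprod.hom_ext' <;> simp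
    have h0 : biprod.lift (adjU.homEquiv F G (biprod.inl ≫ k))
        (adjV.homEquiv F G (biprod.inr ≫ k)) ≫ biprod.desc (ρ₁.app G) (-(ρ₂.app G)) = 0 := by
      rw [← key_formula, ← hk']
      change adjP.homEquiv F G (_ ≫ k) = 0
      rw [show (ShortComplex.mk _ _ hzero).f ≫ k = 0 from hk, homEquiv_zero']
    obtain ⟨φ, hφ⟩ : ∃ φ : F ⟶ G, φ ≫ biprod.lift (ηU G) (ηV G) =
        biprod.lift (adjU.homEquiv F G (biprod.inl ≫ k)) (adjV.homEquiv F G (biprod.inr ≫ k)) :=
      ⟨hse.exact.lift _ h0, hse.exact.lift_f _ h0⟩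
    refine ⟨φ, ?_⟩
    change biprod.desc (εU F) (εV F) ≫ φ = k
    apply biprod.hom_ext'
    · rw [biprod.inl_desc_assoc]
      apply (adjU.homEquiv F G).injective
      rw [hεU]
      have := congrArg (fun m => m ≫ biprod.fst) hφ
      simpa using this
    · rw [biprod.inr_desc_assoc]
      apply (adjV.homEquiv F G).injective
      rw [hεV]
      have := congrArg (fun m => m ≫ biprod.snd) hφ
      simpa using this
  · intro G _ i
    obtain ⟨hz, hse⟩ := hMV G
    haveI := hse.mono_f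
    haveI : Mono (biprod.lift (ηU G) (ηV G)) := hse.mono_f
    have hr : biprod.lift (ηU G) (ηV G) ≫
        Injective.factorThru (𝟙 G) (biprod.lift (ηU G) (ηV G)) = 𝟙 _ :=
      Injective.comp_factorThru _ _
    let spl := ShortComplex.Splitting.ofExactOfRetraction _ hse.exact _ hr hse.epi_g
    have hsg : spl.s ≫ biprod.desc (ρ₁.app G) (-(ρ₂.app G)) = 𝟙 _ := spl.s_g
    refine ⟨biprod.desc ((adjU.homEquiv F G).symm (adjP.homEquiv F G i ≫ spl.s ≫ biprod.fst))
      ((adjV.homEquiv F G).symm (adjP.homEquiv F G i ≫ spl.s ≫ biprod.snd)), ?_⟩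
    apply (adjP.homEquiv F G).injective
    change adjP.homEquiv F G (biprod.lift _ _ ≫ biprod.desc _ _) = _
    rw [key_formula, Equiv.apply_symm_apply, Equiv.apply_symm_apply]
    have hl : biprod.lift (adjP.homEquiv F G i ≫ spl.s ≫ biprod.fst)
        (adjP.homEquiv F G i ≫ spl.s ≫ biprod.snd) = adjP.homEquiv F G i ≫ spl.s := by
      apply biprod.hom_ext <;> simp
    rw [hl, Category.assoc, hsg, Category.comp_id]

end Main

end Groth.Agent.Lib.Helper1.MVS
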