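import Groth.Agent.Lib.Helper1.MVS4
import Groth.Agent.Lib.Helper1.MVS6
import Groth.Agent.Lib.Helper1.MVS7

/-!
# The extension-by-zero Mayer-Vietoris sequence of an elementary distinguished square (helper1)
-/

set_option linter.style.haveILetI false
set_option linter.unusedSectionVars false
set_option backward.isDefEq.respectTransparency false

universe u

open CategoryTheory CategoryTheory.Limits AlgebraicGeometry Opposite AlgSp

namespace Groth.Agent.Lib.Helper1.MVS

theorem homEquiv_comp_counit {C D : Type*} [Category C] [Category D] {J : C ⥤ D} {Jstar : D ⥤ C}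
    {Jshr : D ⥤ C} (adj₁ : J ⊣ Jstar) (adj₂ : Jshr ⊣ J) {F G : C} (φ : F ⟶ G) :
    (adj₁.comp adj₂).homEquiv F G (adj₂.counit.app F ≫ φ) = φ ≫ adj₁.unit.app G := by
  rw [Adjunction.homEquiv_unit, Adjunction.comp_unit_app, Functor.comp_map, Category.assoc,
    ← Jstar.map_comp, J.map_comp, ← Category.assoc (adj₂.unit.app _),
    adj₂.right_triangle_components]
  have h : 𝟙 (J.obj F) ≫ J.map φ = J.map φ := Category.id_comp _
  rw [h]
  exact (adj₁.unit.naturality φ).symm

variable {S : Scheme.{u}}

theorem shriek_mv (X : AlgSp.Space S) (U V : EtOver X.obj)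
    (hsq : IsElemDistSq U.obj.hom V.obj.hom)
    [(resModEt U).IsRightAdjoint] [(resModEt V).IsRightAdjoint]
    [(resModEt (EtOver.prodObj U V)).IsRightAdjoint] (F : ModEt X.obj) :
    ∃ h : biprod.lift ((shriekResNatTrans (EtOver.prodFst U V)).app F)
          (-((shriekResNatTrans (EtOver.prodSnd U V)).app F)) ≫
        biprod.desc ((Adjunction.ofIsRightAdjoint (resModEt U)).counit.app F)
          ((Adjunction.ofIsRightAdjoint (resModEt V)).counit.app F) = 0,
      (ShortComplex.mk _ _ h).ShortExact := by
  haveI := enoughInjectives_modEt X.obj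
  exact shriek_shortExact (shriekResAdj U) (shriekResAdj V) (shriekResAdj (EtOver.prodObj U V))
    (pushResNatTrans (EtOver.prodFst U V)) (pushResNatTrans (EtOver.prodSnd U V))
    (fun G => (resPushAdjEt U).unit.app G) (fun G => (resPushAdjEt V).unit.app G)
    (fun F => (Adjunction.ofIsRightAdjoint (resModEt U)).counit.app F)
    (fun F => (Adjunction.ofIsRightAdjoint (resModEt V)).counit.app F)
    (fun F G φ => homEquiv_comp_counit _ _ φ) (fun F G φ => homEquiv_comp_counit _ _ φ)
    (fun G => mv_shortExact U V G (mvGeom_of_isElemDistSq X.property U V hsq)) F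

end Groth.Agent.Lib.Helper1.MVS
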