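import Groth.Prelude.Def_AlgSpModX

/-!
# Basics on sheaves of modules on the small etale site of an algebraic space (helper1)
-/

set_option linter.style.haveILetI false
set_option linter.unusedSectionVars false
set_option backward.isDefEq.respectTransparency false

universe u

open CategoryTheory CategoryTheory.Limits AlgebraicGeometry Opposite AlgSp

namespace Groth.Agent.Lib.Helper1.ModEtBasic

variable {S : Scheme.{u}} {X : Sp S}

/-! ### Points of an affine scheme and primes -/

theorem primeAtPt_eq_primeIdealOf (U : Scheme.{u}) [IsAffine U] (u : U) :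
    primeAtPt U u = ((isAffineOpen_top U).primeIdealOf ⟨u, trivial⟩).asIdeal := by
  rw [IsAffineOpen.primeIdealOf_eq_map_closedPoint]
  rfl

theorem exists_primeAtPt_eq (U : Scheme.{u}) [IsAffine U] (p : Ideal Γ(U, ⊤)) [hp : p.IsPrime] :
    ∃ u : U, primeAtPt U u = p := by
  have hU := isAffineOpen_top U
  let y : PrimeSpectrum Γ(U, ⊤) := ⟨p, hp⟩
  refine ⟨hU.fromSpec y, ?_⟩
  rw [primeAtPt_eq_primeIdealOf]
  have h : hU.primeIdealOf ⟨hU.fromSpec y, trivial⟩ = y := by
    apply (Scheme.Hom.isOpenEmbedding hU.fromSpec).injective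
    exact hU.fromSpec_primeIdealOf ⟨hU.fromSpec y, trivial⟩
  rw [h]

/-! ### Open subschemes of an object of the site as objects of the site -/

/-- The open subscheme `V` of the scheme of `E`, as an object of the small etale site. -/
noncomputable def openObj (E : EtOver X) (V : E.obj.left.left.Opens) : EtOver X :=
  (EtOver.ofChart E.obj.hom E.property).obj
    ⟨Over.mk V.ι, (inferInstance : Etale V.ι)⟩


/-- The inclusion `V ⟶ E` as a morphism of the site. -/
noncomputable def openHom (E : EtOver X) (V : E.obj.left.left.Opens) : openObj E V ⟶ E :=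
  EtOver.homMk (EtOver.homOfEtale _) rfl

@[simp] theorem openHom_left (E : EtOver X) (V : E.obj.left.left.Opens) :
    (openHom E V).hom.left.left = V.ι := rfl

theorem openObj_scheme (E : EtOver X) (V : E.obj.left.left.Opens) :
    (openObj E V).obj.left.left = V.toScheme := rfl

instance (E : EtOver X) (V : E.obj.left.left.affineOpens) :
    IsAffine (openObj E V.1).obj.left.left := V.2

/-! ### Separatedness of sections -/

theorem sect_ext_of_cover (M : ModEt X) {E : EtOver X} {ι : Type*} (Y : ι → EtOver X)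
    (g : ∀ i, Y i ⟶ E) (h : ∀ x : E.obj.left.left, ∃ i, x ∈ Set.range (g i).hom.left.left)
    (s s' : sectModEt M E) (hs : ∀ i, M.val.map (g i).op s = M.val.map (g i).op s') : s = s' := by
  have hsh := M.isSheaf
  rw [Presheaf.isSheaf_iff_isSheaf_forget (etTop X) _ (forget AddCommGrpCat),
    isSheaf_iff_isSheaf_of_type] at hsh
  have hsep := (hsh _ (ofArrows_mem_etTop Y g h)).isSeparatedFor
  refine hsep.ext ?_
  rintro Z f ⟨W, a, b, ⟨i⟩, rfl⟩
  change M.val.map (a ≫ g i).op s = M.val.map (a ≫ g i).op s'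
  rw [op_comp, M.val.map_comp_apply, M.val.map_comp_apply, hs i]

theorem sect_ext_of_affine (M : ModEt X) {E : EtOver X} (s s' : sectModEt M E)
    (hs : ∀ V : E.obj.left.left.affineOpens,
      M.val.map (openHom E V.1).op s = M.val.map (openHom E V.1).op s') : s = s' := by
  refine sect_ext_of_cover M (fun V : E.obj.left.left.affineOpens => openObj E V.1)
    (fun V => openHom E V.1) (fun x => ?_) s s' hs
  obtain ⟨_, ⟨V, hV, rfl⟩, hxV, -⟩ :=
    (E.obj.left.left.isBasis_affineOpens).exists_subset_of_mem_open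
    (Set.mem_univ x) isOpen_univ
  exact ⟨⟨V, hV⟩, ⟨x, hxV⟩, rfl⟩


/-! ### Zero modules -/

theorem sect_eq_zero_of_isZero (M : ModEt X) (hM : IsZero M) (E : EtOver X) (s : sectModEt M E) :
    s = 0 := by
  have h := (IsZero.iff_id_eq_zero M).1 hM
  have h2 := congrArg (fun f : M ⟶ M => f.val.app (op E) s) h
  have h3 : (0 : M ⟶ M).val = 0 := rfl
  simp only [SheafOfModules.id_val, h3] at h2
  exact h2

theorem isZero_of_sect (M : ModEt X) (h : ∀ (E : EtOver X) (s : sectModEt M E), s = 0) :
    IsZero M := by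
  rw [IsZero.iff_id_eq_zero]
  ext E s
  exact (h E.unop s).trans (h E.unop _).symm

theorem isZero_of_affine (M : ModEt X)
    (h : ∀ (E : EtOver X) [IsAffine E.obj.left.left] (s : sectModEt M E), s = 0) : IsZero M := by
  refine isZero_of_sect M fun E s => sect_ext_of_affine M s 0 fun V => ?_
  rw [h (openObj E V.1) (M.val.map (openHom E V.1).op s), map_zero]

/-! ### Annihilators and weakly associated points -/

theorem annSect_ne_top {M : ModEt X} {E : EtOver X} (s : sectModEt M E) (hs : s ≠ 0) :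
    annSect s ≠ ⊤ := by
  intro h
  have h1 : (1 : Γ(E.obj.left.left, ⊤)) ∈ annSect s := h ▸ Submodule.mem_top
  rw [mem_annSect_iff, map_one, one_smul] at h1
  exact hs h1

theorem annSect_zero {M : ModEt X} {E : EtOver X} : annSect (0 : sectModEt M E) = ⊤ := by
  rw [Ideal.eq_top_iff_one, mem_annSect_iff, smul_zero]

theorem exists_isWeakAssOn (M : ModEt X) (E : EtOver X) [IsAffine E.obj.left.left]
    (s : sectModEt M E) (hs : s ≠ 0) : ∃ u, IsWeakAssOn M E u := by
  obtain ⟨p, hp⟩ := Ideal.nonempty_minimalPrimes (annSect_ne_top s hs)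
  haveI := hp.1.1
  obtain ⟨u, hu⟩ := exists_primeAtPt_eq E.obj.left.left p
  exact ⟨u, s, hu ▸ hp⟩

theorem isZero_iff_weakAssEt (M : ModEt X) : IsZero M ↔ WeakAssEt M = ∅ := by
  constructor
  · intro hM
    rw [Set.eq_empty_iff_forall_notMem]
    rintro x ⟨E, hE, u, -, s, hs⟩
    rw [sect_eq_zero_of_isZero M hM E s, annSect_zero, Ideal.minimalPrimes_top] at hs
    exact hs
  · intro h
    refine isZero_of_affine M fun E _ s => ?_
    by_contra hs
    obtain ⟨u, hu⟩ := exists_isWeakAssOn M E s hs
    have : Points.ofPt E.obj.hom u ∈ WeakAssEt M := ⟨E, inferInstance, u, rfl, hu⟩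
    rw [h] at this
    exact this


/-! ### Left exactness on sections -/

theorem injective_app_of_mono {M N : ModEt X} (f : M ⟶ N) [Mono f] (E : EtOver X) :
    Function.Injective (f.val.app (op E)) := by
  have h : Mono ((SheafOfModules.evaluation (OEtRing X) (op E)).map f) := inferInstance
  exact (ModuleCat.mono_iff_injective _).1 h

theorem exact_app_of_shortExact (C : ShortComplex (ModEt X)) (hC : C.ShortExact) (E : EtOver X)
    (s : sectModEt C.X₂ E) (hs : C.g.val.app (op E) s = 0) :
    ∃ t : sectModEt C.X₁ E, C.f.val.app (op E) t = s := by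
  have := hC.mono_f
  haveI : (SheafOfModules.evaluation (OEtRing X) (op E)).Additive := by
    unfold SheafOfModules.evaluation; infer_instance
  have h : (C.map (SheafOfModules.evaluation (OEtRing X) (op E))).Exact :=
    hC.exact.map_of_mono_of_preservesKernel _ inferInstance inferInstance
  exact (ShortComplex.moduleCat_exact_iff _).1 h s hs

/-! ### Commutative algebra: weakly associated primes in a left exact sequence -/

section CA

variable {A : Type*} [CommRing A] {B : Type*} [Ring B] (φ : A →+* B)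
  {N₁ N₂ N₃ : Type*} [AddCommGroup N₁] [Module B N₁] [AddCommGroup N₂] [Module B N₂]
  [AddCommGroup N₃] [Module B N₃]

/-- The annihilator in `A` of an element of a `B`-module. -/
def annVia {N : Type*} [AddCommGroup N] [Module B N] (s : N) : Ideal A :=
  Ideal.comap φ (LinearMap.ker (LinearMap.toSpanSingleton B N s))

theorem mem_annVia {N : Type*} [AddCommGroup N] [Module B N] (s : N) (a : A) :
    a ∈ annVia φ s ↔ φ a • s = 0 := Iff.rfl

theorem annVia_map_of_injective (f : N₁ →ₗ[B] N₂) (hf : Function.Injective f) (t : N₁) :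
    annVia φ (f t) = annVia φ t := by
  ext a
  rw [mem_annVia, mem_annVia, ← map_smul, map_eq_zero_iff f hf]

theorem weakAss_of_exact (f : N₁ →ₗ[B] N₂) (g : N₂ →ₗ[B] N₃) (hf : Function.Injective f)
    (hfg : ∀ s, g s = 0 → ∃ t, f t = s) (s : N₂) (p : Ideal A)
    (hp : p ∈ (annVia φ s).minimalPrimes) :
    (∃ t : N₁, p ∈ (annVia φ t).minimalPrimes) ∨ (∃ t : N₃, p ∈ (annVia φ t).minimalPrimes) := by
  haveI := hp.1.1
  have hle : annVia φ s ≤ annVia φ (g s) := by
    intro a ha
    rw [mem_annVia] at ha ⊢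
    rw [← map_smul, ha, map_zero]
  by_cases hcase : annVia φ (g s) ≤ p
  · right
    exact ⟨g s, ⟨hp.1.1, hcase⟩, fun q hq hqp => hp.2 ⟨hq.1, hle.trans hq.2⟩ hqp⟩
  · left
    obtain ⟨a, ha, hap⟩ := Set.not_subset.1 hcase
    obtain ⟨t, ht⟩ := hfg (φ a • s) (by rw [map_smul]; exact ha)
    have key : ∀ b : A, b ∈ annVia φ t ↔ b * a ∈ annVia φ s := by
      intro b
      rw [← annVia_map_of_injective φ f hf t, ht, mem_annVia, mem_annVia, smul_smul, map_mul]
    refine ⟨t, ⟨hp.1.1, fun b hb => ?_⟩, fun q hq hqp => hp.2 ⟨hq.1, fun b hb => hq.2 ?_⟩ hqp⟩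
    · have := hp.1.2 ((key b).1 hb)
      exact (Ideal.IsPrime.mem_or_mem inferInstance this).resolve_right hap
    · exact (key b).2 (Ideal.mul_mem_right _ _ hb)

end CA

theorem annSect_eq_annVia {M : ModEt X} {E : EtOver X} (s : sectModEt M E) :
    annSect s = annVia (upΓ E) s := rfl

/-- Weakly associated points in a short exact sequence (chart level). -/
theorem isWeakAssOn_of_shortExact (C : ShortComplex (ModEt X)) (hC : C.ShortExact) (E : EtOver X)
    [IsAffine E.obj.left.left] (u : E.obj.left.left) (h : IsWeakAssOn C.X₂ E u) :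
    IsWeakAssOn C.X₁ E u ∨ IsWeakAssOn C.X₃ E u := by
  obtain ⟨s, hs⟩ := h
  have := hC.mono_f
  exact weakAss_of_exact (upΓ E) (C.f.val.app (op E)).hom (C.g.val.app (op E)).hom
    (injective_app_of_mono C.f E) (exact_app_of_shortExact C hC E) s _ hs

theorem isWeakAssOn_of_mono {M N : ModEt X} (f : M ⟶ N) [Mono f] (E : EtOver X)
    [IsAffine E.obj.left.left] (u : E.obj.left.left) (h : IsWeakAssOn M E u) :
    IsWeakAssOn N E u := by
  obtain ⟨s, hs⟩ := h
  refine ⟨f.val.app (op E) s, ?_⟩
  rw [annSect_eq_annVia] at hs ⊢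
  rw [show (f.val.app (op E)) s = (f.val.app (op E)).hom s from rfl,
    annVia_map_of_injective (upΓ E) (f.val.app (op E)).hom (injective_app_of_mono f E)]
  exact hs

theorem weakAssEt_shortExact (C : ShortComplex (ModEt X)) (hC : C.ShortExact) :
    WeakAssEt C.X₂ ⊆ WeakAssEt C.X₁ ∪ WeakAssEt C.X₃ ∧ WeakAssEt C.X₁ ⊆ WeakAssEt C.X₂ := by
  constructor
  · rintro x ⟨E, hE, u, hu, h⟩
    rcases isWeakAssOn_of_shortExact C hC E u h with h1 | h3
    · exact Or.inl ⟨E, hE, u, hu, h1⟩
    · exact Or.inr ⟨E, hE, u, hu, h3⟩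
  · rintro x ⟨E, hE, u, hu, h⟩
    have := hC.mono_f
    exact ⟨E, hE, u, hu, isWeakAssOn_of_mono C.f E u h⟩

end Groth.Agent.Lib.Helper1.ModEtBasic
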