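import Groth.Agent.Lib.Helper1.ModEtBasic
import Groth.Agent.Lib.Helper14.AlgSpPoints

/-!
# Weakly associated points and pushforward along an affine morphism (helper1)
-/

set_option linter.style.haveILetI false
set_option linter.unusedSectionVars false
set_option backward.isDefEq.respectTransparency false

universe u

open CategoryTheory CategoryTheory.Limits AlgebraicGeometry Opposite AlgSp

namespace Groth.Agent.Lib.Helper1.ModEtBasic

variable {S : Scheme.{u}}

/-! ### `primeAtPt` is functorial and injective on affines -/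

theorem primeAtPt_comap {U V : Scheme.{u}} (g : U ⟶ V) (u : U) :
    (primeAtPt U u).comap g.appTop.hom = primeAtPt V (g u) := by
  ext a
  unfold primeAtPt
  rw [Ideal.mem_comap, Ideal.mem_comap, Ideal.mem_comap]
  have h1 : g.stalkMap u (V.presheaf.germ ⊤ (g u) trivial a) =
      U.presheaf.germ ⊤ u trivial (g.appTop a) :=
    Scheme.Hom.germ_stalkMap_apply g ⊤ u trivial a
  have hloc : IsLocalHom (g.stalkMap u).hom := inferInstance
  have h2 : (IsLocalRing.maximalIdeal (U.presheaf.stalk u)).comap (g.stalkMap u).hom =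
      IsLocalRing.maximalIdeal (V.presheaf.stalk (g u)) :=
    ((IsLocalRing.local_hom_TFAE (g.stalkMap u).hom).out 0 4).1 hloc
  rw [← h2, Ideal.mem_comap]
  exact Eq.to_iff (congrArg (· ∈ IsLocalRing.maximalIdeal _) h1.symm)

theorem primeAtPt_injective (V : Scheme.{u}) [IsAffine V] : Function.Injective (primeAtPt V) := by
  intro v v' h
  rw [primeAtPt_eq_primeIdealOf, primeAtPt_eq_primeIdealOf] at h
  have hV := isAffineOpen_top V
  have h' : hV.primeIdealOf ⟨v, trivial⟩ = hV.primeIdealOf ⟨v', trivial⟩ := PrimeSpectrum.ext h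
  have := congrArg (fun y => hV.fromSpec y) h'
  simpa only [IsAffineOpen.fromSpec_primeIdealOf] using this

/-! ### Base change of affine objects along affine morphisms -/

variable {X Y : Sp S} {f : X ⟶ Y} (hf : Representable f)

theorem isAffine_bcObj (haff : IsAffineMor f) (E : EtOver Y) [hE : IsAffine E.obj.left.left] :
    IsAffine (EtOver.bcObj hf E).obj.left.left := by
  obtain ⟨W, i, fst, sq, hW⟩ := haff hE E.obj.hom
  have sq' := hf.isPullback E.obj.hom
  let e : (yon S).obj (hf.pullback E.obj.hom) ≅ (yon S).obj W := sq'.isoIsPullback _ _ sq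
  let e' : hf.pullback E.obj.hom ≅ W := (yon S).preimageIso e
  have : IsIso e'.hom.left := inferInstance
  exact IsAffine.of_isIso e'.hom.left


/-! ### Sections of a pushforward -/

/-- A section of `f_* M` over `E` as a section of `M` over the base change of `E`. -/
def pushSect (M : ModEt X) (E : EtOver Y) (s : sectModEt ((pushModEt hf).obj M) E) :
    sectModEt M (EtOver.bcObj hf E) := s

theorem mem_annSect_push (M : ModEt X) (E : EtOver Y) (s : sectModEt ((pushModEt hf).obj M) E)
    (a : Γ(E.obj.left.left, ⊤)) :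
    a ∈ annSect (M := (pushModEt hf).obj M) s ↔
      (EtOver.bcπ hf E).left.appTop.hom a ∈ annSect (pushSect hf M E s) := by
  rw [mem_annSect_iff, mem_annSect_iff]
  rfl

theorem annSect_push (M : ModEt X) (E : EtOver Y) (s : sectModEt ((pushModEt hf).obj M) E) :
    annSect (M := (pushModEt hf).obj M) s =
      (annSect (pushSect hf M E s)).comap (EtOver.bcπ hf E).left.appTop.hom := by
  ext a
  exact mem_annSect_push hf M E s a

/-- `S10818`: `WeakAss(f_* M) ⊆ f(WeakAss M)` for an affine morphism. -/
theorem weakAssEt_push_subset (haff : IsAffineMor f) (M : ModEt X) :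
    WeakAssEt ((pushModEt hf).obj M) ⊆ Points.map f '' WeakAssEt M := by
  rintro y ⟨E, hE, v, hv, s, hs⟩
  haveI : IsAffine (EtOver.bcObj hf E).obj.left.left := isAffine_bcObj hf haff E
  rw [annSect_push] at hs
  obtain ⟨q, hq, hqp⟩ := Ideal.exists_minimalPrimes_comap_eq _ _ hs
  haveI := hq.1.1
  obtain ⟨w, hw⟩ := exists_primeAtPt_eq (EtOver.bcObj hf E).obj.left.left q
  have hwv : (EtOver.bcπ hf E).left w = v := by
    apply primeAtPt_injective E.obj.left.left
    rw [← primeAtPt_comap, hw, hqp]
  refine ⟨Points.ofPt (EtOver.bcObj hf E).obj.hom w,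
    ⟨EtOver.bcObj hf E, inferInstance, w, rfl, pushSect hf M E s, hw ▸ hq⟩, ?_⟩
  rw [Points.map_ofPt, ← hv, ← hwv]
  have h1 : (EtOver.bcObj hf E).obj.hom ≫ f = (yon S).map (EtOver.bcπ hf E) ≫ E.obj.hom :=
    (EtOver.isPullback_bcObj hf E).w
  rw [h1]
  exact Groth.Agent.Lib.Helper14.AS.ofPt_yon_map_comp _ _ _

end Groth.Agent.Lib.Helper1.ModEtBasic
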