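import Groth.Agent.Lib.Helper1.ModEtBasic
import Groth.Agent.Lib.Helper14.AlgSpOnePt

/-!
# Weakly associated points of the structure sheaf on the small etale site (helper1)
-/

set_option linter.style.haveILetI false
set_option linter.unusedSectionVars false
set_option backward.isDefEq.respectTransparency false

universe u

open CategoryTheory CategoryTheory.Limits AlgebraicGeometry Opposite AlgSp

namespace Groth.Agent.Lib.Helper1.ModEtBasic

variable {S : Scheme.{u}} {X : Sp S}

/-! ### Commutative algebra -/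

/-- In a reduced ring, a prime minimal over the annihilator of an element is a minimal prime. -/
theorem mem_minimalPrimes_of_reduced {A : Type*} [CommRing A] [IsReduced A] (a : A) (I : Ideal A)
    (hI : ∀ b, b ∈ I ↔ b * a = 0) (p : Ideal A) (hp : p ∈ I.minimalPrimes) :
    p ∈ minimalPrimes A := by
  haveI := hp.1.1
  -- a prime `q ≤ p` not containing `a`
  have hdisj : Disjoint ((⊥ : Ideal A) : Set A) (p.primeCompl ⊔ Submonoid.powers a : Submonoid A) := by
    rw [Set.disjoint_left]
    rintro x hx hxS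
    rw [SetLike.mem_coe, Ideal.mem_bot] at hx
    subst hx
    obtain ⟨t, ht, z, ⟨n, rfl⟩, htz⟩ := Submonoid.mem_sup.1 hxS
    have h1 : (t * a) ^ n = 0 := by
      rcases Nat.eq_zero_or_pos n with hn | hn
      · subst hn
        simp only [pow_zero, mul_one] at htz
        exact absurd (htz ▸ p.zero_mem) ht
      · rw [mul_pow]
        obtain ⟨m, rfl⟩ : ∃ m, n = m + 1 := ⟨n - 1, by omega⟩
        rw [pow_succ t m, mul_assoc, htz, mul_zero]
    have h2 : t * a = 0 := IsReduced.eq_zero _ ⟨n, h1⟩
    exact ht (hp.1.2 ((hI t).2 h2))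
  obtain ⟨q, hq0, hqprime, hqS⟩ := Ideal.exists_le_prime_disjoint ⊥ _ hdisj
  have hqp : q ≤ p := by
    intro x hx
    by_contra hxp
    exact Set.disjoint_left.1 hqS hx (Submonoid.mem_sup_left hxp)
  have haq : a ∉ q := fun h =>
    Set.disjoint_left.1 hqS h (Submonoid.mem_sup_right (Submonoid.mem_powers a))
  obtain ⟨q', hq', hq'q⟩ := Ideal.exists_minimalPrimes_le (bot_le : ⊥ ≤ q)
  haveI := hq'.1.1
  have hIq' : I ≤ q' := by
    intro b hb
    have h0 : b * a ∈ q' := by rw [(hI b).1 hb]; exact q'.zero_mem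
    exact (Ideal.IsPrime.mem_or_mem inferInstance h0).resolve_right fun h => haq (hq'q h)
  have hpq' : p ≤ q' := hp.2 ⟨hq'.1.1, hIq'⟩ (hq'q.trans hqp)
  have : p = q' := le_antisymm hpq' (hq'q.trans hqp)
  rw [this]
  exact hq'

/-! ### Dimension zero stalks on affine schemes -/

theorem ringKrullDim_stalk_eq_zero_iff (U : Scheme.{u}) [IsAffine U] (u : U) :
    ringKrullDim (U.presheaf.stalk u) = 0 ↔ primeAtPt U u ∈ minimalPrimes Γ(U, ⊤) := by
  have hU := isAffineOpen_top U
  have hloc := hU.isLocalization_stalk ⟨u, trivial⟩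
  have h := @IsLocalization.AtPrime.ringKrullDim_eq_height _ _
    (hU.primeIdealOf ⟨u, trivial⟩).asIdeal _ (U.presheaf.stalk u) _
    (TopCat.Presheaf.algebra_section_stalk U.presheaf (U := ⊤) ⟨u, trivial⟩) hloc
  rw [h, ← primeAtPt_eq_primeIdealOf, ← Ideal.height_eq_zero_iff]
  exact WithBot.coe_eq_zero


/-! ### Sections of the structure sheaf -/

/-- The function underlying a section of `O_X`. -/
def unitDown (E : EtOver X) (s : sectModEt (unitModEt X) E) : Γ(E.obj.left.left, ⊤) :=
  ULift.down (show ULift.{u + 1} Γ(E.obj.left.left, ⊤) from s)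

/-- The unit section of `O_X`. -/
def unitOne (E : EtOver X) : sectModEt (unitModEt X) E :=
  show ULift.{u + 1} Γ(E.obj.left.left, ⊤) from ULift.up 1

theorem mem_annSect_unit (E : EtOver X) (s : sectModEt (unitModEt X) E)
    (a : Γ(E.obj.left.left, ⊤)) : a ∈ annSect s ↔ a * unitDown E s = 0 := by
  rw [mem_annSect_iff]
  constructor
  · intro h
    exact congrArg ULift.down (show (ULift.up a : ULift.{u + 1} Γ(E.obj.left.left, ⊤)) *
      (show ULift.{u + 1} Γ(E.obj.left.left, ⊤) from s) = 0 from h)
  · intro h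
    exact show (ULift.up a : ULift.{u + 1} Γ(E.obj.left.left, ⊤)) *
      (show ULift.{u + 1} Γ(E.obj.left.left, ⊤) from s) = 0 from ULift.ext _ _ h

theorem annSect_unitOne (E : EtOver X) : annSect (unitOne E) = ⊥ := by
  ext a
  rw [mem_annSect_unit, Ideal.mem_bot]
  change a * 1 = 0 ↔ _
  rw [mul_one]

/-- `S10805`: on a reduced space the weakly associated points of `O_X` are the points of
codimension 0. -/
theorem weakAssEt_unit_iff (hX : IsReducedSp X) (x : Points X) :
    x ∈ WeakAssEt (unitModEt X) ↔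
      HasAt (fun U u => ringKrullDim ↥(U.presheaf.stalk u) = 0) X x := by
  constructor
  · rintro ⟨E, hE, u, hu, s, hs⟩
    refine ⟨E.obj.left, E.obj.hom, u, E.property, hu, ?_⟩
    haveI : IsReduced E.obj.left.left :=
      Groth.Agent.Lib.Helper14.AS.isReduced_of_etale_chart hX E.obj.hom E.property
    change ringKrullDim ↥(E.obj.left.left.presheaf.stalk u) = 0
    rw [ringKrullDim_stalk_eq_zero_iff]
    exact mem_minimalPrimes_of_reduced (unitDown E s) _ (mem_annSect_unit E s) _ hs
  · rintro ⟨U, a, u, ha, hu, hdim⟩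
    obtain ⟨_, ⟨V, hV, rfl⟩, huV, -⟩ :=
      (U.left.isBasis_affineOpens).exists_subset_of_mem_open (Set.mem_univ u) isOpen_univ
    let E0 : EtOver X := EtOver.mk a ha
    let V' : E0.obj.left.left.affineOpens := ⟨V, hV⟩
    let E : EtOver X := openObj E0 V'.1
    let u' : E.obj.left.left := (⟨u, huV⟩ : Scheme.Opens.toScheme (X := U.left) V)
    haveI : IsAffine E.obj.left.left := V'.2
    refine ⟨E, inferInstance, u', ?_, unitOne E, ?_⟩
    · rw [← hu]
      exact Groth.Agent.Lib.Helper14.AS.ofPt_yon_map_comp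
        (EtOver.homOfEtale (U := U) ⟨Over.mk (Scheme.Opens.ι (X := U.left) V),
          (inferInstance : Etale (Scheme.Opens.ι (X := U.left) V))⟩) a u'
    · rw [annSect_unitOne]
      change primeAtPt E.obj.left.left u' ∈ minimalPrimes _
      rw [← ringKrullDim_stalk_eq_zero_iff, ← hdim]
      exact ringKrullDim_eq_of_ringEquiv
        (asIso ((Scheme.Opens.ι (X := U.left) V).stalkMap
          (⟨u, huV⟩ : Scheme.Opens.toScheme (X := U.left) V))).commRingCatIsoToRingEquiv.symm

end Groth.Agent.Lib.Helper1.ModEtBasic
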