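import Groth.Agent.Lib.Helper1.DenseLift
import Groth.Agent.Lib.Helper6.QCSpecializes
import Mathlib.AlgebraicGeometry.ZariskisMainTheorem
import Mathlib.AlgebraicGeometry.Morphisms.Immersion

/-!
# A quasi-compact lft mono with conditional valuative lifting is an immersion (helper1)
-/

set_option autoImplicit false
set_option linter.unusedSectionVars false
set_option linter.style.haveILetI false
universe u

namespace Groth.Agent.Lib.Helper1.MonoImm

open AlgebraicGeometry CategoryTheory CategoryTheory.Limits TopologicalSpace IsLocalRing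
  Groth.Agent.Lib.Helper1.MonoRS Groth.Agent.Lib.Helper1.RSLimit

variable {X Y : Scheme.{u}} (f : Y ⟶ X) [Mono f] [LocallyOfFiniteType f] [QuasiCompact f]

/-- Points of the normalization lying over the image of `f` are in `Y`. -/
lemma mem_range_toNormalization
    (hb : ∀ S : ValuativeCommSq f,
        (∃ l₀ : Spec (CommRingCat.of (IsLocalRing.ResidueField S.R)) ⟶ Y,
            l₀ ≫ f = Spec.map (CommRingCat.ofHom (IsLocalRing.residue S.R)) ≫ S.i₂) →
          S.commSq.HasLift)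
    (y : Y) (z : f.normalization) (hz : f.fromNormalization z = f y) :
    z ∈ Set.range f.toNormalization := by
  let j := f.toNormalization
  let ν := f.fromNormalization
  have hjν : j ≫ ν = f := f.toNormalization_fromNormalization
  haveI : IsOpenImmersion j := inferInstance
  obtain ⟨y₁, hy₁⟩ := Groth.Agent.Lib.Helper6.exists_specializes j z (by
    rw [j.denseRange.closure_eq]; trivial)
  obtain ⟨R, _, _, _, K, _, _, _, u, hu0, hu1⟩ :=
    exists_valuationRing_of_specializes (j y₁) z hy₁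
  let κ := IsLocalRing.ResidueField R
  let iK : Spec (CommRingCat.of K) ⟶ Spec (CommRingCat.of R) :=
    Spec.map (CommRingCat.ofHom (algebraMap R K))
  let iκ : Spec (CommRingCat.of κ) ⟶ Spec (CommRingCat.of R) :=
    Spec.map (CommRingCat.ofHom (IsLocalRing.residue R))
  have hK : iK (IsLocalRing.closedPoint K) = (⟨⊥, Ideal.isPrime_bot⟩ : PrimeSpectrum R) :=
    SpecMap_algebraMap_closedPoint R K
  have hκ : iκ (IsLocalRing.closedPoint κ) = IsLocalRing.closedPoint R :=
    IsLocalRing.PrimeSpectrum.comap_residue R _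
  obtain ⟨i₁, hi₁, -⟩ := exists_lift_field j K (iK ≫ u) y₁ (by
    rw [Scheme.Hom.comp_apply, hK, hu1])
  obtain ⟨l₀, hl₀, -⟩ := exists_lift_field f κ (iκ ≫ u ≫ ν) y (by
    rw [Scheme.Hom.comp_apply, Scheme.Hom.comp_apply, hκ, hu0]; exact hz.symm)
  let S : ValuativeCommSq f :=
    { R := R
      K := K
      i₁ := i₁
      i₂ := u ≫ ν
      commSq := ⟨by
        calc i₁ ≫ f = i₁ ≫ (j ≫ ν) := by rw [hjν]
          _ = (i₁ ≫ j) ≫ ν := (Category.assoc _ _ _).symm
          _ = (iK ≫ u) ≫ ν := by rw [hi₁]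
          _ = iK ≫ u ≫ ν := Category.assoc _ _ _⟩ }
  obtain ⟨⟨lift⟩⟩ := hb S ⟨l₀, hl₀⟩
  have hfl : iK ≫ lift.l = i₁ := lift.fac_left
  have hfr : lift.l ≫ f = u ≫ ν := lift.fac_right
  let S' : ValuativeCommSq ν :=
    { R := R
      K := K
      i₁ := i₁ ≫ j
      i₂ := u ≫ ν
      commSq := ⟨by rw [hi₁, Category.assoc]⟩ }
  let L₁ : S'.commSq.LiftStruct := ⟨u, hi₁.symm, rfl⟩
  let L₂ : S'.commSq.LiftStruct := ⟨lift.l ≫ j, by
    change iK ≫ lift.l ≫ j = i₁ ≫ j
    rw [← Category.assoc, hfl], by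
    change (lift.l ≫ j) ≫ ν = u ≫ ν
    rw [Category.assoc, hjν, hfr]⟩
  have hsub : Subsingleton S'.commSq.LiftStruct := IsSeparated.valuativeCriterion ν S'
  have h12 : L₁ = L₂ := Subsingleton.elim _ _
  have hu : u = lift.l ≫ j := congrArg CommSq.LiftStruct.l h12
  refine ⟨lift.l (closedPoint R), ?_⟩
  rw [← hu0, hu]; rfl

theorem isImmersion_of_valLift
    (hb : ∀ S : ValuativeCommSq f,
        (∃ l₀ : Spec (CommRingCat.of (IsLocalRing.ResidueField S.R)) ⟶ Y,
            l₀ ≫ f = Spec.map (CommRingCat.ofHom (IsLocalRing.residue S.R)) ≫ S.i₂) →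
          S.commSq.HasLift) : IsImmersion f := by
  let j := f.toNormalization
  let ν := f.fromNormalization
  have hjν : j ≫ ν = f := f.toNormalization_fromNormalization
  haveI : IsOpenImmersion j := inferInstance
  have hclosed : IsClosed (ν '' (Set.range j)ᶜ) :=
    ν.isClosedMap _ j.isOpenEmbedding.isOpen_range.isClosed_compl
  let X₀ : X.Opens := ⟨(ν '' (Set.range j)ᶜ)ᶜ, hclosed.isOpen_compl⟩
  have hrange : Set.range f ⊆ (X₀ : Set X) := by
    rintro _ ⟨y, rfl⟩ ⟨z, hz, hzy⟩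
    exact hz (mem_range_toNormalization f hb y z hzy)
  let f₀ : Y ⟶ X₀ := IsOpenImmersion.lift X₀.ι f (by rw [Scheme.Opens.range_ι]; exact hrange)
  have hf₀ : f₀ ≫ X₀.ι = f := IsOpenImmersion.lift_fac _ _ _
  let k : Y ⟶ pullback ν X₀.ι := pullback.lift j f₀ (by rw [hjν, hf₀])
  have hk1 : k ≫ pullback.fst ν X₀.ι = j := pullback.lift_fst _ _ _
  have hk2 : k ≫ pullback.snd ν X₀.ι = f₀ := pullback.lift_snd _ _ _
  haveI : IsOpenImmersion (k ≫ pullback.fst ν X₀.ι) := by rw [hk1]; infer_instance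
  haveI : IsOpenImmersion k := IsOpenImmersion.of_comp k (pullback.fst ν X₀.ι)
  haveI : Surjective k := by
    refine ⟨fun w => ?_⟩
    let z := pullback.fst ν X₀.ι w
    have hνz : ν z = X₀.ι (pullback.snd ν X₀.ι w) := by
      change (pullback.fst ν X₀.ι ≫ ν) w = (pullback.snd ν X₀.ι ≫ X₀.ι) w
      rw [pullback.condition]
    have hzmem : z ∈ Set.range j := by
      by_contra hcon
      have h1 : ν z ∈ ν '' (Set.range j)ᶜ := ⟨z, hcon, rfl⟩
      have h2 : ν z ∈ (X₀ : Set X) := by rw [hνz]; exact (pullback.snd ν X₀.ι w).2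
      exact h2 h1
    obtain ⟨y, hy⟩ := hzmem
    refine ⟨y, ?_⟩
    apply (pullback.fst ν X₀.ι).isOpenEmbedding.injective
    rw [← Scheme.Hom.comp_apply, hk1]; exact hy
  haveI : IsIso k := (isIso_iff_isOpenImmersion_and_surjective _).mpr ⟨inferInstance, inferInstance⟩
  haveI : IsIntegralHom (pullback.snd ν X₀.ι) :=
    MorphismProperty.pullback_snd (P := @IsIntegralHom) _ _ inferInstance
  haveI : IsIntegralHom f₀ := by rw [← hk2]; infer_instance
  haveI : LocallyOfFiniteType (f₀ ≫ X₀.ι) := by rw [hf₀]; infer_instance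
  haveI : LocallyOfFiniteType f₀ := locallyOfFiniteType_of_comp f₀ X₀.ι
  haveI : Mono (f₀ ≫ X₀.ι) := by rw [hf₀]; infer_instance
  haveI : Mono f₀ := mono_of_mono f₀ X₀.ι
  haveI : IsFinite f₀ := (IsFinite.iff_isIntegralHom_and_locallyOfFiniteType _).mpr ⟨‹_›, ‹_›⟩
  haveI : IsClosedImmersion f₀ := (IsClosedImmersion.iff_isFinite_and_mono _).mpr ⟨‹_›, ‹_›⟩
  rw [← hf₀]
  infer_instance

/-- Final form: DVR lifting + dense lifting for a lfp mono over a locally Noetherian base. -/
theorem isImmersion_of_dvrLift_denseLift [IsLocallyNoetherian X]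
    (hb : ∀ S : ValuativeCommSq f, IsDiscreteValuationRing S.R →
        (∃ l₀ : Spec (CommRingCat.of (IsLocalRing.ResidueField S.R)) ⟶ Y,
            l₀ ≫ f = Spec.map (CommRingCat.ofHom (IsLocalRing.residue S.R)) ≫ S.i₂) →
          S.commSq.HasLift) : IsImmersion f := by
  refine isImmersion_of_valLift f ?_
  rintro S ⟨l₀, hl₀⟩
  refine hasLift_of_RS f S ?_ l₀ hl₀
  refine RS_of_lft f ?_ S.i₂
  intro P X'' a p g' hsq hlft
  haveI := hlft
  exact RS_of_dvrLift f hb a p g' hsq

end Groth.Agent.Lib.Helper1.MonoImm
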