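import Groth.Agent.Lib.Helper1.RSLimit
import Groth.Agent.Lib.Helper21.DVRExt3
import Mathlib.AlgebraicGeometry.ValuativeCriterion
import Mathlib.AlgebraicGeometry.Morphisms.UniversallyInjective

/-!
# Monomorphisms: residue fields, lifting field points, DVR criterion for reflecting
specializations (helper1)
-/

set_option autoImplicit false
set_option linter.unusedSectionVars false
set_option linter.style.haveILetI false
universe u

namespace Groth.Agent.Lib.Helper1.MonoRS

open AlgebraicGeometry CategoryTheory CategoryTheory.Limits TensorProduct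
  Groth.Agent.Lib.Helper1.RSLimit

/-- In a tensor square over a field, `l ⊗ 1 = 1 ⊗ l` forces `l` to come from the base field. -/
lemma mem_range_of_tmul_eq {k L : Type u} [Field k] [CommRing L] [Nontrivial L] [Algebra k L]
    (l : L) (h : l ⊗ₜ[k] (1 : L) = (1 : L) ⊗ₜ[k] l) : ∃ c : k, algebraMap k L c = l := by
  have hinj : LinearMap.ker (Algebra.linearMap k L) = ⊥ := by
    rw [LinearMap.ker_eq_bot]
    exact (algebraMap k L).injective
  obtain ⟨r, hr⟩ := (Algebra.linearMap k L).exists_leftInverse_of_injective hinj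
  have hr1 : r 1 = 1 := by
    have := congr($hr 1)
    simpa using this
  let m : L ⊗[k] L →ₗ[k] L := (TensorProduct.rid k L).toLinearMap ∘ₗ TensorProduct.map LinearMap.id r
  have h1 : m (l ⊗ₜ[k] (1 : L)) = l := by simp [m, hr1]
  have h2 : m ((1 : L) ⊗ₜ[k] l) = algebraMap k L (r l) := by
    simp [m, Algebra.algebraMap_eq_smul_one]
  refine ⟨r l, ?_⟩
  rw [← h2, ← h, h1]

/-- A monomorphism of schemes induces isomorphisms on residue fields: surjectivity. -/
lemma residueFieldMap_surjective {P X' : Scheme.{u}} (p : P ⟶ X') [Mono p] (y : P) :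
    Function.Surjective (p.residueFieldMap y).hom := by
  let k : Type u := X'.residueField (p y)
  let L : Type u := P.residueField y
  let ψ : CommRingCat.of k ⟶ CommRingCat.of L := p.residueFieldMap y
  letI : Algebra k L := ψ.hom.toAlgebra
  let i₁ : CommRingCat.of L ⟶ CommRingCat.of (L ⊗[k] L) :=
    CommRingCat.ofHom (Algebra.TensorProduct.includeLeftRingHom)
  let i₂ : CommRingCat.of L ⟶ CommRingCat.of (L ⊗[k] L) :=
    CommRingCat.ofHom (Algebra.TensorProduct.includeRight (R := k) (A := L) (B := L)).toRingHom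
  have hψ : ψ ≫ i₁ = ψ ≫ i₂ := by
    ext x
    have := congr($(Algebra.TensorProduct.includeLeftRingHom_comp_algebraMap
      (R := k) (A := L) (B := L)) x)
    exact this
  have hsq : Spec.map ψ ≫ X'.fromSpecResidueField (p y) = P.fromSpecResidueField y ≫ p :=
    Scheme.Hom.SpecMap_residueFieldMap_fromSpecResidueField p y
  have h12 : Spec.map i₁ = Spec.map i₂ := by
    rw [← cancel_mono (P.fromSpecResidueField y), ← cancel_mono p]
    simp only [Category.assoc]
    rw [← hsq, ← Spec.map_comp_assoc, ← Spec.map_comp_assoc, hψ]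
  have h12' : i₁ = i₂ := Spec.map_injective h12
  intro l
  have hl : (l : L) ⊗ₜ[k] (1 : L) = (1 : L) ⊗ₜ[k] (l : L) := by
    have := congr(($h12').hom l)
    exact this
  obtain ⟨c, hc⟩ := mem_range_of_tmul_eq (k := k) (L := L) l hl
  exact ⟨c, hc⟩

/-- A monomorphism of schemes induces isomorphisms on residue fields. -/
lemma isIso_residueFieldMap {P X' : Scheme.{u}} (p : P ⟶ X') [Mono p] (y : P) :
    IsIso (p.residueFieldMap y) := by
  rw [ConcreteCategory.isIso_iff_bijective]
  exact ⟨(p.residueFieldMap y).hom.injective, residueFieldMap_surjective p y⟩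

/-- For a monomorphism `p`, the residue field point of `p y` lifts along `p`. -/
lemma exists_lift_residueField {P X' : Scheme.{u}} (p : P ⟶ X') [Mono p] (y : P) (x : X')
    (hx : p y = x) :
    ∃ l : Spec (X'.residueField x) ⟶ P, l ≫ p = X'.fromSpecResidueField x := by
  subst hx
  have := isIso_residueFieldMap p y
  refine ⟨Spec.map (inv (p.residueFieldMap y)) ≫ P.fromSpecResidueField y, ?_⟩
  rw [Category.assoc, ← Scheme.Hom.SpecMap_residueFieldMap_fromSpecResidueField,
    ← Spec.map_comp_assoc, IsIso.hom_inv_id, Spec.map_id, Category.id_comp]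

lemma injective_of_mono {P X' : Scheme.{u}} (p : P ⟶ X') [Mono p] : Function.Injective p :=
  Scheme.Hom.injective p

/-- For a monomorphism `p`, a field-valued point of the target through `p y` lifts. -/
lemma exists_lift_field {P X' : Scheme.{u}} (p : P ⟶ X') [Mono p] (K : Type u) [Field K]
    (v : Spec (CommRingCat.of K) ⟶ X') (y : P) (hy : p y = v (IsLocalRing.closedPoint K)) :
    ∃ l : Spec (CommRingCat.of K) ⟶ P, l ≫ p = v ∧ l (IsLocalRing.closedPoint K) = y := by
  obtain ⟨⟨x, φ⟩, rfl⟩ := (Scheme.SpecToEquivOfField K X').symm.surjective v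
  have hx : p y = x := by
    rw [hy]
    simp [Scheme.SpecToEquivOfField]
  obtain ⟨l, hl⟩ := exists_lift_residueField p y x hx
  refine ⟨Spec.map φ ≫ l, ?_, ?_⟩
  · rw [Category.assoc, hl]; rfl
  · apply injective_of_mono p
    rw [hy, ← Scheme.Hom.comp_apply, Category.assoc, hl]; rfl

/-- DVR lifting criterion: base change of a mono along a locally finite type map into a locally
Noetherian scheme reflects specializations. -/
theorem RS_of_dvrLift {X Y : Scheme.{u}} [IsLocallyNoetherian X] (f : Y ⟶ X) [Mono f]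
    (h : ∀ S : ValuativeCommSq f, IsDiscreteValuationRing S.R →
        (∃ l₀ : Spec (CommRingCat.of (IsLocalRing.ResidueField S.R)) ⟶ Y,
            l₀ ≫ f = Spec.map (CommRingCat.ofHom (IsLocalRing.residue S.R)) ≫ S.i₂) →
          S.commSq.HasLift)
    {P X' : Scheme.{u}} (a : P ⟶ Y) (p : P ⟶ X') (g : X' ⟶ X) (hsq : IsPullback a p f g)
    [LocallyOfFiniteType g] : RS p := by
  haveI : IsLocallyNoetherian X' := LocallyOfFiniteType.isLocallyNoetherian g
  haveI : Mono p := hsq.mono_snd_of_mono
  have hinj := injective_of_mono p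
  intro y₀ y₁ hy
  by_cases heq : p y₁ = p y₀
  · rw [hinj heq]
  obtain ⟨R, _, _, _, u, hu0, hu1⟩ :=
    Groth.Agent.Lib.Helper21.DVRExt.exists_dvr_of_specializes (p y₁) (p y₀) hy heq
  let K := FractionRing R
  let κ := IsLocalRing.ResidueField R
  let iK : Spec (CommRingCat.of K) ⟶ Spec (CommRingCat.of R) :=
    Spec.map (CommRingCat.ofHom (algebraMap R K))
  let iκ : Spec (CommRingCat.of κ) ⟶ Spec (CommRingCat.of R) :=
    Spec.map (CommRingCat.ofHom (IsLocalRing.residue R))
  have hK : iK (IsLocalRing.closedPoint K) = (⟨⊥, Ideal.isPrime_bot⟩ : PrimeSpectrum R) := by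
    apply PrimeSpectrum.ext
    change Ideal.comap (algebraMap R K) (IsLocalRing.maximalIdeal K) = ⊥
    rw [IsLocalRing.maximalIdeal_eq_bot, Ideal.comap_bot_of_injective _ (IsFractionRing.injective R K)]
  have hκ : iκ (IsLocalRing.closedPoint κ) = IsLocalRing.closedPoint R :=
    IsLocalRing.PrimeSpectrum.comap_residue R _
  obtain ⟨l, hl, hly⟩ := exists_lift_field p K (iK ≫ u) y₁ (by
    rw [Scheme.Hom.comp_apply, hK, hu1])
  obtain ⟨l₀, hl₀, -⟩ := exists_lift_field p κ (iκ ≫ u) y₀ (by
    rw [Scheme.Hom.comp_apply, hκ, hu0])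
  let S : ValuativeCommSq f :=
    { R := R
      K := K
      i₁ := l ≫ a
      i₂ := u ≫ g
      commSq := ⟨by
        rw [Category.assoc, hsq.w, ← Category.assoc, hl, Category.assoc]⟩ }
  have hS := h S ‹_› ⟨l₀ ≫ a, by
    rw [Category.assoc, hsq.w, ← Category.assoc, hl₀, Category.assoc]⟩
  obtain ⟨⟨lift⟩⟩ := hS
  have hfr : lift.l ≫ f = u ≫ g := lift.fac_right
  let w : Spec (CommRingCat.of R) ⟶ P := hsq.lift lift.l u hfr
  have hwp : w ≫ p = u := hsq.lift_snd _ _ _
  have h1 : w (⟨⊥, Ideal.isPrime_bot⟩ : PrimeSpectrum R) = y₁ := by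
    apply hinj
    rw [← Scheme.Hom.comp_apply, hwp, hu1]
  have h0 : w (IsLocalRing.closedPoint R) = y₀ := by
    apply hinj
    rw [← Scheme.Hom.comp_apply, hwp, hu0]
  have hsp : (⟨⊥, Ideal.isPrime_bot⟩ : PrimeSpectrum R) ⤳ IsLocalRing.closedPoint R :=
    IsLocalRing.specializes_closedPoint _
  have := hsp.map w.continuous
  rwa [h1, h0] at this

end Groth.Agent.Lib.Helper1.MonoRS
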