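import Groth.Agent.Lib.Helper1.MonoRS

/-!
# Valuative lifting for monomorphisms vs reflecting specializations (helper1)
-/

set_option autoImplicit false
set_option linter.unusedSectionVars false
set_option linter.style.haveILetI false
universe u

namespace Groth.Agent.Lib.Helper1.MonoRS

open AlgebraicGeometry CategoryTheory CategoryTheory.Limits TensorProduct IsLocalRing
  Groth.Agent.Lib.Helper1.RSLimit

lemma SpecMap_algebraMap_closedPoint (R K : Type u) [CommRing R] [IsDomain R] [Field K]
    [Algebra R K] [IsFractionRing R K] :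
    (Spec.map (CommRingCat.ofHom (algebraMap R K))) (IsLocalRing.closedPoint K) =
      (⟨⊥, Ideal.isPrime_bot⟩ : PrimeSpectrum R) := by
  apply PrimeSpectrum.ext
  change Ideal.comap (algebraMap R K) (IsLocalRing.maximalIdeal K) = ⊥
  rw [IsLocalRing.maximalIdeal_eq_bot, Ideal.comap_bot_of_injective _ (IsFractionRing.injective R K)]

/-- Any specialization in a scheme is witnessed by a valuation ring. -/
lemma exists_valuationRing_of_specializes {X' : Scheme.{u}} (x₁ x₀ : X') (h : x₁ ⤳ x₀) :
    ∃ (R : Type u) (_ : CommRing R) (_ : IsDomain R) (_ : ValuationRing R) (K : Type u)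
      (_ : Field K) (_ : Algebra R K) (_ : IsFractionRing R K)
      (u : Spec (CommRingCat.of R) ⟶ X'),
      u (IsLocalRing.closedPoint R) = x₀ ∧
        u (⟨⊥, Ideal.isPrime_bot⟩ : PrimeSpectrum R) = x₁ := by
  let φ₀ : X'.presheaf.stalk x₀ ⟶ X'.residueField x₁ :=
    X'.presheaf.stalkSpecializes h ≫ X'.residue x₁
  obtain ⟨A, hA, hA_local⟩ := exists_factor_valuationRing φ₀.hom
  let φA : X'.presheaf.stalk x₀ ⟶ .of A := CommRingCat.ofHom (φ₀.hom.codRestrict _ hA)
  refine ⟨A, inferInstance, inferInstance, inferInstance, X'.residueField x₁, inferInstance,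
    inferInstance, inferInstance, Spec.map φA ≫ X'.fromSpecStalk x₀, ?_, ?_⟩
  · rw [Scheme.Hom.comp_apply]
    have : Spec.map φA (closedPoint A) = closedPoint (X'.presheaf.stalk x₀) :=
      comap_closedPoint (S := A) (φ₀.hom.codRestrict A.toSubring hA)
    rw [this, X'.fromSpecStalk_closedPoint]
  · have w : X'.fromSpecResidueField x₁ =
        Spec.map (CommRingCat.ofHom (algebraMap A (X'.residueField x₁))) ≫
          Spec.map φA ≫ X'.fromSpecStalk x₀ := by
      rw [Scheme.fromSpecResidueField, ← Scheme.SpecMap_stalkSpecializes_fromSpecStalk h]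
      simp_rw [← Spec.map_comp_assoc]
      rfl
    rw [← SpecMap_algebraMap_closedPoint A (X'.residueField x₁), ← Scheme.Hom.comp_apply, ← w]
    exact Scheme.fromSpecResidueField_apply _ _

/-- Valuative lifting criterion (with residue lift) for a mono implies that every base change
reflects specializations. -/
theorem RS_of_valLift {X Y : Scheme.{u}} (f : Y ⟶ X) [Mono f]
    (h : ∀ S : ValuativeCommSq f,
        (∃ l₀ : Spec (CommRingCat.of (IsLocalRing.ResidueField S.R)) ⟶ Y,
            l₀ ≫ f = Spec.map (CommRingCat.ofHom (IsLocalRing.residue S.R)) ≫ S.i₂) →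
          S.commSq.HasLift)
    {P X' : Scheme.{u}} (a : P ⟶ Y) (p : P ⟶ X') (g : X' ⟶ X) (hsq : IsPullback a p f g) :
    RS p := by
  haveI : Mono p := hsq.mono_snd_of_mono
  have hinj := injective_of_mono p
  intro y₀ y₁ hy
  obtain ⟨R, _, _, _, K, _, _, _, u, hu0, hu1⟩ :=
    exists_valuationRing_of_specializes (p y₁) (p y₀) hy
  let κ := IsLocalRing.ResidueField R
  let iK : Spec (CommRingCat.of K) ⟶ Spec (CommRingCat.of R) :=
    Spec.map (CommRingCat.ofHom (algebraMap R K))
  let iκ : Spec (CommRingCat.of κ) ⟶ Spec (CommRingCat.of R) :=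
    Spec.map (CommRingCat.ofHom (IsLocalRing.residue R))
  have hK : iK (IsLocalRing.closedPoint K) = (⟨⊥, Ideal.isPrime_bot⟩ : PrimeSpectrum R) :=
    SpecMap_algebraMap_closedPoint R K
  have hκ : iκ (IsLocalRing.closedPoint κ) = IsLocalRing.closedPoint R :=
    IsLocalRing.PrimeSpectrum.comap_residue R _
  obtain ⟨l, hl, hly⟩ := exists_lift_field p K (iK ≫ u) y₁ (by
    rw [Scheme.Hom.comp_apply, hK, hu1])
  obtain ⟨l₀, hl₀, -⟩ := exists_lift_field p κ (iκ ≫ u) y₀ (by
    rw [Scheme.Hom.comp_apply, hκ, hu0])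
  let S : ValuativeCommSq f :=
    { R := R
      K := K
      i₁ := l ≫ a
      i₂ := u ≫ g
      commSq := ⟨by
        rw [Category.assoc, hsq.w, ← Category.assoc, hl, Category.assoc]⟩ }
  have hS := h S ⟨l₀ ≫ a, by
    rw [Category.assoc, hsq.w, ← Category.assoc, hl₀, Category.assoc]⟩
  obtain ⟨⟨lift⟩⟩ := hS
  have hfr : lift.l ≫ f = u ≫ g := lift.fac_right
  let w : Spec (CommRingCat.of R) ⟶ P := hsq.lift lift.l u hfr
  have hwp : w ≫ p = u := hsq.lift_snd _ _ _
  have h1 : w (⟨⊥, Ideal.isPrime_bot⟩ : PrimeSpectrum R) = y₁ := by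
    apply hinj
    rw [← Scheme.Hom.comp_apply, hwp, hu1]
  have h0 : w (IsLocalRing.closedPoint R) = y₀ := by
    apply hinj
    rw [← Scheme.Hom.comp_apply, hwp, hu0]
  have hsp : (⟨⊥, Ideal.isPrime_bot⟩ : PrimeSpectrum R) ⤳ IsLocalRing.closedPoint R :=
    IsLocalRing.specializes_closedPoint _
  have := hsp.map w.continuous
  rwa [h1, h0] at this

end Groth.Agent.Lib.Helper1.MonoRS
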