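import Groth.Agent.Lib.Helper1.MonoRS2

/-!
# Sections of monos over valuation rings from specializations (helper1)
-/

set_option autoImplicit false
set_option linter.unusedSectionVars false
set_option linter.style.haveILetI false
universe u

namespace Groth.Agent.Lib.Helper1.MonoRS

open AlgebraicGeometry CategoryTheory CategoryTheory.Limits TensorProduct IsLocalRing
  Groth.Agent.Lib.Helper1.RSLimit

/-- A mono to the spectrum of a valuation ring, with points over the generic and closed points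
specializing to one another, has a section. -/
theorem exists_section {A K : Type u} [CommRing A] [IsDomain A] [ValuationRing A] [Field K]
    [Algebra A K] [IsFractionRing A K]
    {P : Scheme.{u}} (p : P ⟶ Spec (CommRingCat.of A)) [Mono p] (y₀ y₁ : P) (hy : y₁ ⤳ y₀)
    (h1 : p y₁ = (⟨⊥, Ideal.isPrime_bot⟩ : PrimeSpectrum A)) (h0 : p y₀ = closedPoint A) :
    ∃ σ : Spec (CommRingCat.of A) ⟶ P, σ ≫ p = 𝟙 _ := by
  let C : CommRingCat.{u} := P.presheaf.stalk y₀
  obtain ⟨q, hq⟩ : ∃ q : Spec C, P.fromSpecStalk y₀ q = y₁ := by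
    have : y₁ ∈ Set.range (P.fromSpecStalk y₀) := by
      rw [Scheme.range_fromSpecStalk]; exact hy
    exact this
  let q' : PrimeSpectrum C := q
  let D : Type u := C ⧸ q'.asIdeal
  let mk : C ⟶ CommRingCat.of D := CommRingCat.ofHom (Ideal.Quotient.mk q'.asIdeal)
  have hmk : Function.Surjective mk.hom := Ideal.Quotient.mk_surjective
  let j : Spec (CommRingCat.of D) ⟶ Spec C := Spec.map mk
  haveI : IsClosedImmersion j := IsClosedImmersion.spec_of_surjective mk hmk
  let ψ : Spec (CommRingCat.of D) ⟶ Spec (CommRingCat.of A) := j ≫ P.fromSpecStalk y₀ ≫ p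
  haveI : Mono ψ := inferInstance
  obtain ⟨φ, hφ⟩ : ∃ φ : CommRingCat.of A ⟶ CommRingCat.of D, Spec.map φ = ψ :=
    ⟨Spec.preimage ψ, Spec.map_preimage ψ⟩
  -- generic point
  have hj1 : j (⟨⊥, Ideal.isPrime_bot⟩ : PrimeSpectrum D) = q := by
    apply PrimeSpectrum.ext
    change Ideal.comap (Ideal.Quotient.mk q'.asIdeal) ⊥ = q'.asIdeal
    rw [← RingHom.ker_eq_comap_bot, Ideal.mk_ker]
  have hψ1 : ψ (⟨⊥, Ideal.isPrime_bot⟩ : PrimeSpectrum D) =
      (⟨⊥, Ideal.isPrime_bot⟩ : PrimeSpectrum A) := by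
    simp only [ψ, Scheme.Hom.comp_apply]
    rw [hj1, hq, h1]
  have hφinj : Function.Injective φ.hom := by
    rw [RingHom.injective_iff_ker_eq_bot, RingHom.ker_eq_comap_bot]
    have := congr(($hφ (⟨⊥, Ideal.isPrime_bot⟩ : PrimeSpectrum D)).asIdeal)
    rw [hψ1] at this
    exact this
  -- closed point
  obtain ⟨z, hz⟩ : ∃ z : PrimeSpectrum D, j z = closedPoint C := by
    have : closedPoint C ∈ Set.range (PrimeSpectrum.comap (Ideal.Quotient.mk q'.asIdeal)) := by
      rw [_root_.range_comap_of_surjective _ _ Ideal.Quotient.mk_surjective, Ideal.mk_ker]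
      exact IsLocalRing.le_maximalIdeal q'.isPrime.ne_top
    exact this
  have hψ0 : ψ z = closedPoint A := by
    simp only [ψ, Scheme.Hom.comp_apply]
    rw [hz, Scheme.fromSpecStalk_closedPoint, h0]
  have hcomap : Ideal.comap φ.hom z.asIdeal = maximalIdeal A := by
    have := congr(($hφ z).asIdeal)
    rw [hψ0] at this
    exact this
  -- lift of the generic point
  let iK : Spec (CommRingCat.of K) ⟶ Spec (CommRingCat.of A) :=
    Spec.map (CommRingCat.ofHom (algebraMap A K))
  obtain ⟨l, hl, hlpt⟩ := exists_lift_field ψ K iK (⟨⊥, Ideal.isPrime_bot⟩ : PrimeSpectrum D) (by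
    rw [hψ1]; exact (SpecMap_algebraMap_closedPoint A K).symm)
  obtain ⟨lam, hlam⟩ : ∃ lam : CommRingCat.of D ⟶ CommRingCat.of K, Spec.map lam = l :=
    ⟨Spec.preimage l, Spec.map_preimage l⟩
  have hcomp : φ ≫ lam = CommRingCat.ofHom (algebraMap A K) := by
    apply Spec.map_injective
    rw [Spec.map_comp, hlam, hφ, hl]
  have hcomp' : ∀ a : A, lam.hom (φ.hom a) = algebraMap A K a := fun a => congr($hcomp a)
  have hlaminj : Function.Injective lam.hom := by
    rw [RingHom.injective_iff_ker_eq_bot, RingHom.ker_eq_comap_bot]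
    have := congr(($hlam (closedPoint K)).asIdeal)
    rw [hlpt] at this
    have h2 : (closedPoint K).asIdeal = ⊥ := IsLocalRing.maximalIdeal_eq_bot
    rw [← h2]
    exact this
  have hφsurj : Function.Surjective φ.hom := by
    intro d
    by_cases hd : d = 0
    · exact ⟨0, by rw [map_zero, hd]⟩
    have hld : lam.hom d ≠ 0 := fun h => hd (hlaminj (by rw [h, map_zero]))
    rcases ValuationRing.isInteger_or_isInteger A (lam.hom d) with ⟨a, ha⟩ | ⟨a, ha⟩
    · exact ⟨a, hlaminj (by rw [hcomp', ha])⟩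
    · have h3 : φ.hom a * d = 1 := by
        apply hlaminj
        rw [map_mul, hcomp', ha, map_one, inv_mul_cancel₀ hld]
      have hau : IsUnit a := by
        by_contra hna
        have : a ∈ maximalIdeal A := (IsLocalRing.mem_maximalIdeal a).mpr hna
        rw [← hcomap] at this
        have h4 : φ.hom a * d ∈ z.asIdeal := Ideal.mul_mem_right _ _ this
        rw [h3] at h4
        exact z.isPrime.ne_top ((Ideal.eq_top_iff_one _).mpr h4)
      obtain ⟨b, hb⟩ := hau.exists_left_inv
      refine ⟨b, ?_⟩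
      calc φ.hom b = φ.hom b * (φ.hom a * d) := by rw [h3, mul_one]
        _ = φ.hom (b * a) * d := by rw [map_mul, mul_assoc]
        _ = d := by rw [hb, map_one, one_mul]
  haveI : IsIso φ := by
    rw [ConcreteCategory.isIso_iff_bijective]
    exact ⟨hφinj, hφsurj⟩
  refine ⟨Spec.map (inv φ) ≫ j ≫ P.fromSpecStalk y₀, ?_⟩
  have : (Spec.map (inv φ) ≫ j ≫ P.fromSpecStalk y₀) ≫ p = Spec.map (inv φ) ≫ ψ := by
    simp only [ψ, Category.assoc]
  rw [this, ← hφ, ← Spec.map_comp, IsIso.hom_inv_id, Spec.map_id]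

/-- Reflecting specializations after base change to `Spec` of the valuation ring gives the
valuative lift, for a monomorphism. -/
theorem hasLift_of_RS {X Y : Scheme.{u}} (f : Y ⟶ X) [Mono f] (S : ValuativeCommSq f)
    (hRS : RS (pullback.snd f S.i₂))
    (l₀ : Spec (CommRingCat.of (IsLocalRing.ResidueField S.R)) ⟶ Y)
    (hl₀ : l₀ ≫ f = Spec.map (CommRingCat.ofHom (IsLocalRing.residue S.R)) ≫ S.i₂) :
    S.commSq.HasLift := by
  let p := pullback.snd f S.i₂
  let iK : Spec (CommRingCat.of S.K) ⟶ Spec (CommRingCat.of S.R) :=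
    Spec.map (CommRingCat.ofHom (algebraMap S.R S.K))
  let iκ : Spec (CommRingCat.of (IsLocalRing.ResidueField S.R)) ⟶ Spec (CommRingCat.of S.R) :=
    Spec.map (CommRingCat.ofHom (IsLocalRing.residue S.R))
  let kK : Spec (CommRingCat.of S.K) ⟶ pullback f S.i₂ := pullback.lift S.i₁ iK S.commSq.w
  let kκ : Spec (CommRingCat.of (IsLocalRing.ResidueField S.R)) ⟶ pullback f S.i₂ :=
    pullback.lift l₀ iκ hl₀
  let y₁ := kK (closedPoint S.K)
  let y₀ := kκ (closedPoint (IsLocalRing.ResidueField S.R))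
  have h1 : p y₁ = (⟨⊥, Ideal.isPrime_bot⟩ : PrimeSpectrum S.R) := by
    change p (kK _) = _
    rw [← Scheme.Hom.comp_apply, pullback.lift_snd]
    exact SpecMap_algebraMap_closedPoint S.R S.K
  have h0 : p y₀ = closedPoint S.R := by
    change p (kκ _) = _
    rw [← Scheme.Hom.comp_apply, pullback.lift_snd]
    exact IsLocalRing.PrimeSpectrum.comap_residue S.R _
  have hy : y₁ ⤳ y₀ := hRS y₀ y₁ (by
    rw [h1, h0]; exact IsLocalRing.specializes_closedPoint _)
  obtain ⟨σ, hσ⟩ := exists_section (K := S.K) p y₀ y₁ hy h1 h0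
  have hr : (σ ≫ pullback.fst f S.i₂) ≫ f = S.i₂ := by
    rw [Category.assoc, pullback.condition, ← Category.assoc, hσ, Category.id_comp]
  refine ⟨⟨{ l := σ ≫ pullback.fst f S.i₂, fac_left := ?_, fac_right := hr }⟩⟩
  rw [← cancel_mono f, Category.assoc, hr, S.commSq.w]

end Groth.Agent.Lib.Helper1.MonoRS
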