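import Mathlib.AlgebraicGeometry.AffineTransitionLimit

/-!
# A cone of schemes is a limit if it is so locally on a stage (helper1)
-/

set_option autoImplicit false
set_option linter.unusedSectionVars false
set_option linter.style.haveILetI false
universe u

namespace Groth.Agent.Lib.Helper1.NA

open AlgebraicGeometry CategoryTheory CategoryTheory.Limits TopologicalSpace

variable {K : Type u} [SmallCategory K] [IsCofiltered K] (D : K ⥤ Scheme.{u}) (c : Cone D)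
  (k₀ : K) {ι : Type u} (U : ι → (D.obj k₀).Opens) (hU : ⨆ a, U a = ⊤)
  (h : ∀ a, Nonempty (IsLimit (opensCone D c k₀ (U a))))

include hU h in
/-- Joint monicity of the projections, from the local limit property. -/
lemma hom_ext_of_local {T : Scheme.{u}} (f g : T ⟶ c.pt)
    (hfg : ∀ j : Over k₀, f ≫ c.π.app j.left = g ≫ c.π.app j.left) : f = g := by
  have h0 : f ≫ c.π.app k₀ = g ≫ c.π.app k₀ := hfg (Over.mk (𝟙 k₀))
  let TU : ι → T.Opens := fun a => (f ≫ c.π.app k₀) ⁻¹ᵁ U a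
  have hTU : IsOpenCover TU := by
    change ⨆ a, TU a = ⊤
    simp only [TU, ← Scheme.Hom.preimage_iSup, hU, Scheme.Hom.preimage_top]
  apply (T.openCoverOfIsOpenCover TU hTU).hom_ext
  intro (a : ι)
  change (TU a).ι ≫ f = (TU a).ι ≫ g
  obtain ⟨ha⟩ := h a
  have hf : TU a ≤ f ⁻¹ᵁ (c.π.app k₀ ⁻¹ᵁ U a) := le_of_eq (by
    simp only [TU, Scheme.Hom.comp_preimage])
  have hg : TU a ≤ g ⁻¹ᵁ (c.π.app k₀ ⁻¹ᵁ U a) := le_of_eq (by
    simp only [TU]
    rw [h0, Scheme.Hom.comp_preimage])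
  let f' := f.resLE _ _ hf
  let g' := g.resLE _ _ hg
  have hf' : f' ≫ (c.π.app k₀ ⁻¹ᵁ U a).ι = (TU a).ι ≫ f := Scheme.Hom.resLE_comp_ι _ _
  have hg' : g' ≫ (c.π.app k₀ ⁻¹ᵁ U a).ι = (TU a).ι ≫ g := Scheme.Hom.resLE_comp_ι _ _
  have key : f' = g' := by
    apply ha.hom_ext
    intro j
    apply (cancel_mono ((D.map j.hom ⁻¹ᵁ U a).ι)).mp
    change (f' ≫ (c.π.app j.left).resLE _ _ _) ≫ _ = (g' ≫ (c.π.app j.left).resLE _ _ _) ≫ _
    rw [Category.assoc, Category.assoc, Scheme.Hom.resLE_comp_ι, reassoc_of% hf',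
      reassoc_of% hg', hfg]
  rw [← hf', ← hg', key]

include hU h in
/-- A cone over a cofiltered diagram of schemes is a limit cone as soon as its restrictions over an
open cover of one stage are limit cones. -/
theorem nonempty_isLimit_of_local : Nonempty (IsLimit c) := by
  refine ⟨(Functor.Initial.isLimitWhiskerEquiv (Over.forget k₀) c) ?_⟩
  refine IsLimit.ofExistsUnique fun t => ?_
  let tπ : ∀ j : Over k₀, t.pt ⟶ D.obj j.left := fun j => t.π.app j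
  have htw : ∀ {j j' : Over k₀} (f : j ⟶ j'), tπ j ≫ D.map f.left = tπ j' := fun f => t.w f
  let p₀ : t.pt ⟶ D.obj k₀ := tπ (Over.mk (𝟙 k₀))
  have hp : ∀ j : Over k₀, tπ j ≫ D.map j.hom = p₀ := fun j => by
    have := htw (Over.homMk j.hom : j ⟶ Over.mk (𝟙 k₀))
    simpa using this
  let TU : ι → t.pt.Opens := fun a => p₀ ⁻¹ᵁ U a
  have hTU : IsOpenCover TU := by
    change ⨆ a, TU a = ⊤
    simp only [TU, ← Scheme.Hom.preimage_iSup, hU, Scheme.Hom.preimage_top]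
  have hle : ∀ a (j : Over k₀), TU a ≤ (tπ j) ⁻¹ᵁ (D.map j.hom ⁻¹ᵁ U a) := by
    intro a j
    rw [← Scheme.Hom.comp_preimage, hp]
  let ta : ∀ a, Cone (opensDiagram D k₀ (U a)) := fun a =>
    { pt := TU a
      π :=
        { app := fun j => (tπ j).resLE _ _ (hle a j)
          naturality := by
            intro j j' f
            apply (cancel_mono ((D.map j'.hom ⁻¹ᵁ U a).ι)).mp
            change (𝟙 _ ≫ (tπ j').resLE _ _ _) ≫ _ =
              ((tπ j).resLE _ _ _ ≫ (D.map f.left).resLE _ _ _) ≫ _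
            rw [Category.id_comp, Category.assoc, Scheme.Hom.resLE_comp_ι,
              Scheme.Hom.resLE_comp_ι, Scheme.Hom.resLE_comp_ι_assoc, htw] } }
  have ha : ∀ a, IsLimit (opensCone D c k₀ (U a)) := fun a => (h a).some
  let l : ∀ a, (TU a : Scheme.{u}) ⟶ c.pt := fun a =>
    (ha a).lift (ta a) ≫ (c.π.app k₀ ⁻¹ᵁ U a).ι
  have hl : ∀ a (j : Over k₀), l a ≫ c.π.app j.left = (TU a).ι ≫ tπ j := by
    intro a j
    have h1 := (ha a).fac (ta a) j
    have h2 : (opensCone D c k₀ (U a)).π.app j ≫ (D.map j.hom ⁻¹ᵁ U a).ι =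
        (c.π.app k₀ ⁻¹ᵁ U a).ι ≫ c.π.app j.left := Scheme.Hom.resLE_comp_ι _ _
    have h3 : (ta a).π.app j ≫ (D.map j.hom ⁻¹ᵁ U a).ι = (TU a).ι ≫ tπ j :=
      Scheme.Hom.resLE_comp_ι _ _
    calc l a ≫ c.π.app j.left
        = (ha a).lift (ta a) ≫ ((c.π.app k₀ ⁻¹ᵁ U a).ι ≫ c.π.app j.left) :=
          Category.assoc _ _ _
      _ = (ha a).lift (ta a) ≫ ((opensCone D c k₀ (U a)).π.app j ≫ (D.map j.hom ⁻¹ᵁ U a).ι) :=
          congrArg ((ha a).lift (ta a) ≫ ·) h2.symm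
      _ = ((ha a).lift (ta a) ≫ (opensCone D c k₀ (U a)).π.app j) ≫ (D.map j.hom ⁻¹ᵁ U a).ι :=
          (Category.assoc _ _ _).symm
      _ = (ta a).π.app j ≫ (D.map j.hom ⁻¹ᵁ U a).ι := congrArg (· ≫ (D.map j.hom ⁻¹ᵁ U a).ι) h1
      _ = (TU a).ι ≫ tπ j := h3
  let 𝒰 := t.pt.openCoverOfIsOpenCover TU hTU
  have hcompat : ∀ a b : ι, pullback.fst (𝒰.f a) (𝒰.f b) ≫ l a =
      pullback.snd (𝒰.f a) (𝒰.f b) ≫ l b := by
    intro a b
    apply hom_ext_of_local D c k₀ U hU (fun a => ⟨ha a⟩)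
    intro j
    have hcond : pullback.fst (𝒰.f a) (𝒰.f b) ≫ (TU a).ι =
        pullback.snd (𝒰.f a) (𝒰.f b) ≫ (TU b).ι := pullback.condition
    calc (pullback.fst (𝒰.f a) (𝒰.f b) ≫ l a) ≫ c.π.app j.left
        = pullback.fst (𝒰.f a) (𝒰.f b) ≫ (l a ≫ c.π.app j.left) := Category.assoc _ _ _
      _ = pullback.fst (𝒰.f a) (𝒰.f b) ≫ ((TU a).ι ≫ tπ j) :=
          congrArg (pullback.fst (𝒰.f a) (𝒰.f b) ≫ ·) (hl a j)
      _ = (pullback.fst (𝒰.f a) (𝒰.f b) ≫ (TU a).ι) ≫ tπ j := (Category.assoc _ _ _).symm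
      _ = (pullback.snd (𝒰.f a) (𝒰.f b) ≫ (TU b).ι) ≫ tπ j := congrArg (· ≫ tπ j) hcond
      _ = pullback.snd (𝒰.f a) (𝒰.f b) ≫ ((TU b).ι ≫ tπ j) := Category.assoc _ _ _
      _ = pullback.snd (𝒰.f a) (𝒰.f b) ≫ (l b ≫ c.π.app j.left) :=
          congrArg (pullback.snd (𝒰.f a) (𝒰.f b) ≫ ·) (hl b j).symm
      _ = (pullback.snd (𝒰.f a) (𝒰.f b) ≫ l b) ≫ c.π.app j.left := (Category.assoc _ _ _).symm
  let lift := 𝒰.glueMorphisms l hcompat
  have hfac : ∀ j : Over k₀, lift ≫ c.π.app j.left = tπ j := by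
    intro j
    apply 𝒰.hom_ext
    intro (a : ι)
    have h5 : (TU a).ι ≫ lift = l a := 𝒰.ι_glueMorphisms l hcompat a
    calc (TU a).ι ≫ lift ≫ c.π.app j.left = ((TU a).ι ≫ lift) ≫ c.π.app j.left :=
          (Category.assoc _ _ _).symm
      _ = l a ≫ c.π.app j.left := congrArg (· ≫ c.π.app j.left) h5
      _ = (TU a).ι ≫ tπ j := hl a j
  refine ⟨lift, fun j => hfac j, ?_⟩
  intro m hm
  apply hom_ext_of_local D c k₀ U hU (fun a => ⟨ha a⟩)
  intro j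
  exact (hm j).trans (hfac j).symm

end Groth.Agent.Lib.Helper1.NA
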