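import Groth.Agent.Lib.Helper1.NAFTZ
import Groth.Agent.Lib.Helper1.NALimLocal

/-!
# Extensions of a presentation along an open immersion (helper1)
-/

set_option autoImplicit false
set_option linter.unusedSectionVars false
set_option linter.style.haveILetI false
universe u

namespace Groth.Agent.Lib.Helper1.NA

open AlgebraicGeometry CategoryTheory CategoryTheory.Limits TopologicalSpace Opposite
  Groth.Agent.Lib.Helper1.ObjDesc

/-- An extension of the presentation `V = lim V_i` to a presentation `S = lim S_j` along an open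
immersion `v : V ⟶ S`. -/
structure Ext {I : Type u} [Preorder I] (DV : Iᵒᵖ ⥤ Scheme.{u}) (cV : Cone DV) {S : Scheme.{u}}
    (v : cV.pt ⟶ S) where
  J : Type u
  [preJ : Preorder J]
  [dirJ : IsDirected J (fun a b => a ≤ b)]
  [neJ : Nonempty J]
  DS : Jᵒᵖ ⥤ Scheme.{u}
  π : (Functor.const Jᵒᵖ).obj S ⟶ DS
  hlim : IsLimit (Cone.mk S π)
  α : J →o I
  u : ∀ j : J, DV.obj (op (α j)) ⟶ DS.obj (op j)
  hu : ∀ j, IsOpenImmersion (u j)
  haff : ∀ (j j' : Jᵒᵖ) (a : j ⟶ j'), IsAffineHom (DS.map a)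
  hft : ∀ j, FTZ (DS.obj j)
  pb_cone : ∀ j, IsPullback (cV.π.app (op (α j))) v (u j) (π.app (op j))
  pb_trans : ∀ (j j' : J) (h : j' ≤ j),
    IsPullback (DV.map (homOfLE (α.mono h)).op) (u j) (u j') (DS.map (homOfLE h).op)

attribute [instance] Ext.preJ Ext.dirJ Ext.neJ

/-- Range of the base change of an open immersion. -/
lemma opensRange_eq_of_isPullback {P A B T : Scheme.{u}} {fst : P ⟶ A} {snd : P ⟶ B} {f : A ⟶ T}
    {g : B ⟶ T} [IsOpenImmersion g] [IsOpenImmersion fst] (h : IsPullback fst snd f g) :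
    fst.opensRange = f ⁻¹ᵁ g.opensRange := by
  ext a
  constructor
  · rintro ⟨p, rfl⟩
    refine ⟨snd p, ?_⟩
    rw [← Scheme.Hom.comp_apply, ← Scheme.Hom.comp_apply, h.w]
  · rintro ⟨b, hb⟩
    obtain ⟨t, ht, -⟩ := exists_of_isPullback h a b hb.symm
    exact ⟨t, ht⟩

section model

variable {K : Type u} [SmallCategory K] [IsCofiltered K] (D : K ⥤ Scheme.{u}) (c : Cone D)
  (k₀ : K) (U : (D.obj k₀).Opens)

/-- A criterion for the restriction of a cone to an open of a stage to be a limit cone. -/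
theorem nonempty_isLimit_opensCone_of_model (E : Over k₀ ⥤ Scheme.{u}) (cE : Cone E)
    (hcE : IsLimit cE) (θ : E ⟶ Over.forget k₀ ⋙ D) [∀ j, IsOpenImmersion (θ.app j)]
    (hθ : ∀ j, (θ.app j).opensRange = D.map j.hom ⁻¹ᵁ U)
    (θ' : cE.pt ⟶ c.pt) [IsOpenImmersion θ'] (hθ' : θ'.opensRange = c.π.app k₀ ⁻¹ᵁ U)
    (hcomp : ∀ j : Over k₀, θ' ≫ c.π.app j.left = cE.π.app j ≫ θ.app j) :
    Nonempty (IsLimit (opensCone D c k₀ U)) := by
  let θj : ∀ j : Over k₀, E.obj j ⟶ D.obj j.left := fun j => θ.app j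
  have : ∀ j, IsOpenImmersion (θj j) := fun j => inferInstanceAs (IsOpenImmersion (θ.app j))
  let Uj : ∀ j : Over k₀, (D.obj j.left).Opens := fun j => D.map j.hom ⁻¹ᵁ U
  let cπ : ∀ k : K, c.pt ⟶ D.obj k := fun k => c.π.app k
  let UP : c.pt.Opens := cπ k₀ ⁻¹ᵁ U
  have hθj : ∀ j, Set.range (θj j) = Set.range (Uj j).ι := by
    intro j
    have := congrArg (fun W : (D.obj j.left).Opens => (W : Set (D.obj j.left))) (hθ j)
    rw [Scheme.Opens.range_ι]
    exact this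
  let ej : ∀ j : Over k₀, E.obj j ≅ (Uj j : Scheme.{u}) := fun j =>
    IsOpenImmersion.isoOfRangeEq (θj j) (Uj j).ι (hθj j)
  have hej : ∀ j, (ej j).hom ≫ (Uj j).ι = θj j := fun j =>
    IsOpenImmersion.isoOfRangeEq_hom_fac _ _ _
  -- typed versions of the maps of the restricted diagram and cone
  let dm : ∀ {j j' : Over k₀} (f : j ⟶ j'), (Uj j : Scheme.{u}) ⟶ (Uj j' : Scheme.{u}) :=
    fun {j j'} f => (opensDiagram D k₀ U).map f
  have hdm : ∀ {j j' : Over k₀} (f : j ⟶ j'), dm f ≫ (Uj j').ι = (Uj j).ι ≫ D.map f.left :=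
    fun f => Scheme.Hom.resLE_comp_ι _ _
  let cm : ∀ j : Over k₀, (UP : Scheme.{u}) ⟶ (Uj j : Scheme.{u}) :=
    fun j => (opensCone D c k₀ U).π.app j
  have hcm : ∀ j : Over k₀, cm j ≫ (Uj j).ι = UP.ι ≫ cπ j.left :=
    fun j => Scheme.Hom.resLE_comp_ι _ _
  have hnat : ∀ {j j' : Over k₀} (f : j ⟶ j'), E.map f ≫ θj j' = θj j ≫ D.map f.left :=
    fun f => θ.naturality f
  let e : E ≅ opensDiagram D k₀ U := NatIso.ofComponents ej (by
    intro j j' f
    apply (cancel_mono ((Uj j').ι)).mp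
    change (E.map f ≫ (ej j').hom) ≫ (Uj j').ι = ((ej j).hom ≫ dm f) ≫ (Uj j').ι
    rw [Category.assoc, Category.assoc, hej, hdm, reassoc_of% hej]
    exact hnat f)
  have hθ'' : Set.range θ' = Set.range UP.ι := by
    have := congrArg (fun W : c.pt.Opens => (W : Set c.pt)) hθ'
    rw [Scheme.Opens.range_ι]
    exact this
  let ept : cE.pt ≅ (UP : Scheme.{u}) := IsOpenImmersion.isoOfRangeEq θ' UP.ι hθ''
  have hept : ept.hom ≫ UP.ι = θ' := IsOpenImmersion.isoOfRangeEq_hom_fac _ _ _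
  have hcomp' : ∀ j : Over k₀, θ' ≫ cπ j.left = cE.π.app j ≫ θj j := hcomp
  refine ⟨IsLimit.ofIsoLimit ((IsLimit.postcomposeHomEquiv e cE).symm hcE) (Cones.ext ept ?_)⟩
  intro j
  apply (cancel_mono ((Uj j).ι)).mp
  change (cE.π.app j ≫ (ej j).hom) ≫ (Uj j).ι = (ept.hom ≫ cm j) ≫ (Uj j).ι
  rw [Category.assoc, Category.assoc, hej, hcm, reassoc_of% hept]
  exact (hcomp' j).symm

end model

end Groth.Agent.Lib.Helper1.NA
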