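import Groth.Agent.Lib.Helper1.NAStage2
import Groth.Agent.Lib.Helper1.NAExt

/-!
# Noetherian approximation: the glued diagram (helper1)
-/

set_option autoImplicit false
set_option linter.unusedSectionVars false
set_option linter.style.haveILetI false
universe u

namespace Groth.Agent.Lib.Helper1.NA

open AlgebraicGeometry CategoryTheory CategoryTheory.Limits TopologicalSpace Opposite
  Groth.Agent.Lib.Helper1.ObjDesc

namespace Core

variable {I : Type u} [Preorder I] [IsDirected I (fun a b => a ≤ b)] [Nonempty I] (C : Core I)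

/-- The glued stage `V_i ∪_{Z_i} Spec A_j`. -/
noncomputable abbrev DSobj (j : C.rdata.Idx) : Scheme.{u} := pushout (C.ζ.app (op j.i)) (C.ψ j)

/-- The open immersion `V_i ⟶ S_j`. -/
noncomputable abbrev inl (j : C.rdata.Idx) : C.DV.obj (op j.i) ⟶ C.DSobj j :=
  pushout.inl (C.ζ.app (op j.i)) (C.ψ j)

/-- The open immersion `Spec A_j ⟶ S_j`. -/
noncomputable abbrev inr (j : C.rdata.Idx) : C.SpecA j ⟶ C.DSobj j :=
  pushout.inr (C.ζ.app (op j.i)) (C.ψ j)

lemma DS_covers (j : C.rdata.Idx) (x : C.DSobj j) :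
    x ∈ Set.range (C.inl j) ∨ x ∈ Set.range (C.inr j) :=
  pushout_covers _ _ x

lemma exists_trans {j j' : C.rdata.Idx} (h : j ≤ j') :
    ∃ t : C.DSobj j' ⟶ C.DSobj j,
      C.inl j' ≫ t = C.DV.map (homOfLE h.fst).op ≫ C.inl j ∧
      C.inr j' ≫ t = C.tA h ≫ C.inr j ∧
      IsPullback (C.inl j') (C.DV.map (homOfLE h.fst).op) t (C.inl j) ∧
      IsPullback (C.inr j') (C.tA h) t (C.inr j) :=
  exists_glueMap (C.ζ.app (op j.i)) (C.ψ j) (C.inl j') (C.inr j') (C.DS_covers j')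
    (C.ζ.app (op j'.i)) (C.ψ j') (isPullback_inl_inr _ _) (C.DV.map (homOfLE h.fst).op) (C.tA h)
    (C.ZD.map (homOfLE h.fst).op) (C.hζpb _ _ _) (C.isPullback_ψ_tA h)

/-- The transition maps of the glued diagram. -/
noncomputable def DSmap {j j' : C.rdata.Idx} (h : j ≤ j') : C.DSobj j' ⟶ C.DSobj j :=
  (C.exists_trans h).choose

lemma inl_DSmap {j j' : C.rdata.Idx} (h : j ≤ j') :
    C.inl j' ≫ C.DSmap h = C.DV.map (homOfLE h.fst).op ≫ C.inl j :=
  (C.exists_trans h).choose_spec.1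

lemma inr_DSmap {j j' : C.rdata.Idx} (h : j ≤ j') :
    C.inr j' ≫ C.DSmap h = C.tA h ≫ C.inr j :=
  (C.exists_trans h).choose_spec.2.1

lemma isPullback_inl_DSmap {j j' : C.rdata.Idx} (h : j ≤ j') :
    IsPullback (C.inl j') (C.DV.map (homOfLE h.fst).op) (C.DSmap h) (C.inl j) :=
  (C.exists_trans h).choose_spec.2.2.1

lemma isPullback_inr_DSmap {j j' : C.rdata.Idx} (h : j ≤ j') :
    IsPullback (C.inr j') (C.tA h) (C.DSmap h) (C.inr j) :=
  (C.exists_trans h).choose_spec.2.2.2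

lemma DSmap_refl (j : C.rdata.Idx) : C.DSmap (le_refl j) = 𝟙 _ := by
  apply hom_ext_two (C.inl j) (C.inr j) (C.DS_covers j)
  · rw [inl_DSmap, Category.comp_id]
    have : (homOfLE (le_refl j : j ≤ j).fst).op = 𝟙 (op j.i) := rfl
    rw [this, C.DV.map_id, Category.id_comp]
  · rw [inr_DSmap, Category.comp_id, tA_refl, Category.id_comp]

lemma DSmap_trans {j j' j'' : C.rdata.Idx} (h : j ≤ j') (h' : j' ≤ j'') :
    C.DSmap (h.trans h') = C.DSmap h' ≫ C.DSmap h := by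
  apply hom_ext_two (C.inl j'') (C.inr j'') (C.DS_covers j'')
  · rw [inl_DSmap, reassoc_of% (C.inl_DSmap h'), inl_DSmap, ← Category.assoc, ← C.DV.map_comp]
    rfl
  · rw [inr_DSmap, reassoc_of% (C.inr_DSmap h'), inr_DSmap, ← Category.assoc, tA_trans]

/-- The glued diagram. -/
noncomputable def DS : (C.rdata.Idx)ᵒᵖ ⥤ Scheme.{u} where
  obj j := C.DSobj j.unop
  map {j j'} a := C.DSmap (leOfHom a.unop)
  map_id j := C.DSmap_refl j.unop
  map_comp {j j' j''} a b := C.DSmap_trans (leOfHom b.unop) (leOfHom a.unop)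

lemma exists_coneMap (j : C.rdata.Idx) :
    ∃ s : C.S ⟶ C.DSobj j,
      C.v ≫ s = C.cV.π.app (op j.i) ≫ C.inl j ∧
      C.w ≫ s = C.aW j ≫ C.inr j ∧
      IsPullback C.v (C.cV.π.app (op j.i)) s (C.inl j) ∧
      IsPullback C.w (C.aW j) s (C.inr j) :=
  exists_glueMap (C.ζ.app (op j.i)) (C.ψ j) C.v C.w C.hcov C.zV C.zW C.hpb
    (C.cV.π.app (op j.i)) (C.aW j) (C.cZ.π.app (op j.i)) (C.hzV _) (C.isPullback_ψ_aW j)

/-- The projections `S ⟶ S_j`. -/
noncomputable def sπ (j : C.rdata.Idx) : C.S ⟶ C.DSobj j := (C.exists_coneMap j).choose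

lemma v_sπ (j : C.rdata.Idx) : C.v ≫ C.sπ j = C.cV.π.app (op j.i) ≫ C.inl j :=
  (C.exists_coneMap j).choose_spec.1

lemma w_sπ (j : C.rdata.Idx) : C.w ≫ C.sπ j = C.aW j ≫ C.inr j :=
  (C.exists_coneMap j).choose_spec.2.1

lemma isPullback_v_sπ (j : C.rdata.Idx) :
    IsPullback C.v (C.cV.π.app (op j.i)) (C.sπ j) (C.inl j) :=
  (C.exists_coneMap j).choose_spec.2.2.1

lemma isPullback_w_sπ (j : C.rdata.Idx) : IsPullback C.w (C.aW j) (C.sπ j) (C.inr j) :=
  (C.exists_coneMap j).choose_spec.2.2.2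

lemma sπ_DSmap {j j' : C.rdata.Idx} (h : j ≤ j') : C.sπ j' ≫ C.DSmap h = C.sπ j := by
  apply hom_ext_two C.v C.w C.hcov
  · rw [reassoc_of% (C.v_sπ j'), inl_DSmap, v_sπ, ← Category.assoc]
    congr 1
    exact C.cV.w (homOfLE h.fst).op
  · rw [reassoc_of% (C.w_sπ j'), inr_DSmap, w_sπ, ← Category.assoc, aW_tA]

/-- The cone over the glued diagram with vertex `S`. -/
noncomputable def sπNat : (Functor.const (C.rdata.Idx)ᵒᵖ).obj C.S ⟶ C.DS where
  app j := C.sπ j.unop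
  naturality {j j'} a := by
    change 𝟙 _ ≫ C.sπ j'.unop = C.sπ j.unop ≫ C.DSmap (leOfHom a.unop)
    rw [Category.id_comp, sπ_DSmap]

end Core

end Groth.Agent.Lib.Helper1.NA
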