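import Groth.Agent.Lib.Helper1.NAExt

/-!
# Operations on extensions of presentations (helper1)
-/

set_option autoImplicit false
set_option linter.unusedSectionVars false
set_option linter.style.haveILetI false
universe u

namespace Groth.Agent.Lib.Helper1.NA

open AlgebraicGeometry CategoryTheory CategoryTheory.Limits TopologicalSpace Opposite

namespace Ext

variable {I : Type u} [Preorder I] {DV : Iᵒᵖ ⥤ Scheme.{u}} {cV : Cone DV}

/-- Transitivity of extensions. -/
noncomputable def trans {S₁ S₂ : Scheme.{u}} {v₁ : cV.pt ⟶ S₁} (E₁ : Ext DV cV v₁)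
    {v₂ : S₁ ⟶ S₂} (E₂ : Ext E₁.DS (Cone.mk S₁ E₁.π) v₂) : Ext DV cV (v₁ ≫ v₂) where
  J := E₂.J
  DS := E₂.DS
  π := E₂.π
  hlim := E₂.hlim
  α := E₁.α.comp E₂.α
  u j := E₁.u (E₂.α j) ≫ E₂.u j
  hu j := by
    have h1 := E₁.hu (E₂.α j)
    have h2 := E₂.hu j
    exact IsOpenImmersion.comp (E₁.u (E₂.α j)) (E₂.u j)
  haff := E₂.haff
  hft := E₂.hft
  pb_cone j := (E₁.pb_cone (E₂.α j)).paste_vert (E₂.pb_cone j)
  pb_trans j j' h := (E₁.pb_trans (E₂.α j) (E₂.α j') (E₂.α.mono h)).paste_vert (E₂.pb_trans j j' h)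

/-- Extensions can be pulled back along a monotone reindexing of the original presentation. -/
noncomputable def comap {I' : Type u} [Preorder I'] (β : I' →o I) {S : Scheme.{u}}
    {v : cV.pt ⟶ S}
    (E : Ext (β.monotone.functor.op ⋙ DV) (cV.whisker β.monotone.functor.op) v) :
    Ext DV cV v where
  J := E.J
  DS := E.DS
  π := E.π
  hlim := E.hlim
  α := β.comp E.α
  u j := E.u j
  hu := E.hu
  haff := E.haff
  hft := E.hft
  pb_cone j := E.pb_cone j
  pb_trans j j' h := E.pb_trans j j' h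

/-- The trivial extension along an isomorphism. -/
noncomputable def ofIso [IsDirected I (fun a b => a ≤ b)] [Nonempty I]
    (haff : ∀ (i i' : Iᵒᵖ) (a : i ⟶ i'), IsAffineHom (DV.map a)) (hft : ∀ i, FTZ (DV.obj i))
    (hcV : IsLimit cV) {S : Scheme.{u}} (v : cV.pt ⟶ S) [IsIso v] : Ext DV cV v where
  J := I
  DS := DV
  π :=
    { app := fun i => inv v ≫ cV.π.app i
      naturality := by
        intro i i' a
        change 𝟙 _ ≫ inv v ≫ cV.π.app i' = (inv v ≫ cV.π.app i) ≫ DV.map a
        rw [Category.id_comp, Category.assoc, cV.w] }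
  hlim := IsLimit.ofIsoLimit hcV (Cone.ext (asIso v) (fun i => by simp))
  α := ⟨fun j => j, fun _ _ h => h⟩
  u j := 𝟙 (DV.obj (op j))
  hu j := inferInstanceAs (IsOpenImmersion (𝟙 (DV.obj (op j))))
  haff := haff
  hft := hft
  pb_cone j := by
    have : IsPullback (cV.π.app (op j)) v (𝟙 (DV.obj (op j))) (inv v ≫ cV.π.app (op j)) :=
      IsPullback.of_vert_isIso ⟨by simp⟩
    exact this
  pb_trans j j' h := by
    have : IsPullback (DV.map (homOfLE h).op) (𝟙 (DV.obj (op j))) (𝟙 (DV.obj (op j')))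
        (DV.map (homOfLE h).op) := IsPullback.of_vert_isIso ⟨by simp⟩
    exact this

end Ext

end Groth.Agent.Lib.Helper1.NA
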