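import Groth.Agent.Lib.Helper1.ObjDescGlue
import Mathlib.AlgebraicGeometry.Morphisms.Affine

/-!
# Gluing maps into a pushout of open immersions (helper1), for Noetherian approximation
-/

set_option autoImplicit false
set_option linter.unusedSectionVars false
set_option linter.style.haveILetI false
universe u

namespace Groth.Agent.Lib.Helper1.NA

open AlgebraicGeometry CategoryTheory CategoryTheory.Limits MorphismProperty TopologicalSpace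
  Groth.Agent.Lib.Helper1.ObjDesc

section

variable {W V₁ V₂ : Scheme.{u}} (w₁ : W ⟶ V₁) (w₂ : W ⟶ V₂) [IsOpenImmersion w₁]
  [IsOpenImmersion w₂]

/-- The pushout square of two open immersions is also a pullback square. -/
lemma isPullback_inl_inr :
    IsPullback w₁ w₂ (pushout.inl w₁ w₂) (pushout.inr w₁ w₂) := by
  refine IsOpenImmersion.isPullback w₁ w₂ (pushout.inl w₁ w₂) (pushout.inr w₁ w₂)
    pushout.condition.symm ?_
  ext y₂
  constructor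
  · rintro ⟨y₁, hy₁⟩
    obtain ⟨z, -, hz⟩ := (inl_eq_inr_iff w₁ w₂).mp hy₁
    exact ⟨z, hz⟩
  · rintro ⟨z, rfl⟩
    exact ⟨w₁ z, (inl_eq_inr_iff w₁ w₂).mpr ⟨z, rfl, rfl⟩⟩

variable {X U₁ U₂ Q : Scheme.{u}} (j₁ : U₁ ⟶ X) (j₂ : U₂ ⟶ X) [IsOpenImmersion j₁]
  [IsOpenImmersion j₂] (hcov : ∀ x : X, x ∈ Set.range j₁ ∨ x ∈ Set.range j₂)

include hcov in
/-- Morphisms out of a scheme covered by two opens are determined on the two opens. -/
lemma hom_ext_two {Y : Scheme.{u}} {a b : X ⟶ Y} (h₁ : j₁ ≫ a = j₁ ≫ b) (h₂ : j₂ ≫ a = j₂ ≫ b) :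
    a = b := by
  apply (twoCover j₁ j₂ hcov).hom_ext
  rintro (_ | _)
  · exact h₁
  · exact h₂

variable (q₁ : Q ⟶ U₁) (q₂ : Q ⟶ U₂) (hQ : IsPullback q₁ q₂ j₁ j₂)
  (g₁ : U₁ ⟶ V₁) (g₂ : U₂ ⟶ V₂) (gW : Q ⟶ W)

include hcov hQ in
set_option backward.isDefEq.respectTransparency false in
theorem exists_glueMap (sqW₁ : IsPullback gW q₁ w₁ g₁) (sqW₂ : IsPullback gW q₂ w₂ g₂) :
    ∃ g : X ⟶ pushout w₁ w₂, j₁ ≫ g = g₁ ≫ pushout.inl w₁ w₂ ∧
      j₂ ≫ g = g₂ ≫ pushout.inr w₁ w₂ ∧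
      IsPullback j₁ g₁ g (pushout.inl w₁ w₂) ∧ IsPullback j₂ g₂ g (pushout.inr w₁ w₂) := by
  let inl := pushout.inl w₁ w₂
  let inr := pushout.inr w₁ w₂
  let 𝒰X := twoCover j₁ j₂ hcov
  let m : ∀ k : WalkingPair, twoObj U₁ U₂ k ⟶ pushout w₁ w₂
    | .left => g₁ ≫ inl
    | .right => g₂ ≫ inr
  have key0 : q₁ ≫ g₁ ≫ inl = q₂ ≫ g₂ ≫ inr := by
    rw [← Category.assoc, ← sqW₁.w, ← Category.assoc, ← sqW₂.w, Category.assoc, Category.assoc,
      pushout.condition]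
  have key : pullback.fst j₁ j₂ ≫ g₁ ≫ inl = pullback.snd j₁ j₂ ≫ g₂ ≫ inr := by
    have e1 := hQ.isoPullback_hom_fst
    have e2 := hQ.isoPullback_hom_snd
    rw [← cancel_epi hQ.isoPullback.hom, reassoc_of% e1, reassoc_of% e2]
    exact key0
  have hm : ∀ x y : WalkingPair, pullback.fst (𝒰X.f x) (𝒰X.f y) ≫ m x =
      pullback.snd (𝒰X.f x) (𝒰X.f y) ≫ m y := by
    rintro (_ | _) (_ | _)
    · change pullback.fst j₁ j₁ ≫ _ = pullback.snd j₁ j₁ ≫ _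
      rw [fst_eq_snd_of_mono]
    · exact key
    · change pullback.fst j₂ j₁ ≫ g₂ ≫ inr = pullback.snd j₂ j₁ ≫ g₁ ≫ inl
      rw [← pullbackSymmetry_hom_comp_snd, ← pullbackSymmetry_hom_comp_fst j₂ j₁, Category.assoc,
        Category.assoc, key]
    · change pullback.fst j₂ j₂ ≫ _ = pullback.snd j₂ j₂ ≫ _
      rw [fst_eq_snd_of_mono]
  let g : X ⟶ pushout w₁ w₂ := 𝒰X.glueMorphisms m hm
  have hg₁ : j₁ ≫ g = g₁ ≫ inl := 𝒰X.ι_glueMorphisms m hm .left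
  have hg₂ : j₂ ≫ g = g₂ ≫ inr := 𝒰X.ι_glueMorphisms m hm .right
  have hpre₁ : g ⁻¹ᵁ inl.opensRange = j₁.opensRange := by
    ext x
    constructor
    · rintro ⟨y₁, hy₁⟩
      rcases hcov x with hx | ⟨u₂, rfl⟩
      · exact hx
      · have h1 : inl y₁ = inr (g₂ u₂) := by
          rw [hy₁, ← Scheme.Hom.comp_apply, hg₂]; rfl
        obtain ⟨z, hz1, hz2⟩ := (inl_eq_inr_iff w₁ w₂).mp h1
        obtain ⟨t, -, ht⟩ := exists_of_isPullback sqW₂ z u₂ hz2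
        refine ⟨q₁ t, ?_⟩
        rw [← ht, ← Scheme.Hom.comp_apply, ← Scheme.Hom.comp_apply, hQ.w]
    · rintro ⟨u, rfl⟩
      exact ⟨g₁ u, by rw [← Scheme.Hom.comp_apply, ← Scheme.Hom.comp_apply, hg₁]⟩
  have hpre₂ : g ⁻¹ᵁ inr.opensRange = j₂.opensRange := by
    ext x
    constructor
    · rintro ⟨y₂, hy₂⟩
      rcases hcov x with ⟨u₁, rfl⟩ | hx
      · have h1 : inl (g₁ u₁) = inr y₂ := by
          have e : (j₁ ≫ g) u₁ = (g₁ ≫ inl) u₁ := by rw [hg₁]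
          rw [hy₂]; exact e.symm
        obtain ⟨z, hz1, hz2⟩ := (inl_eq_inr_iff w₁ w₂).mp h1
        obtain ⟨t, -, ht⟩ := exists_of_isPullback sqW₁ z u₁ hz1
        refine ⟨q₂ t, ?_⟩
        rw [← ht, ← Scheme.Hom.comp_apply, ← Scheme.Hom.comp_apply, hQ.w]
      · exact hx
    · rintro ⟨u, rfl⟩
      exact ⟨g₂ u, by rw [← Scheme.Hom.comp_apply, ← Scheme.Hom.comp_apply, hg₂]⟩
  have P₁ : IsPullback j₁ g₁ g inl := (IsOpenImmersion.isPullback g₁ j₁ inl g hg₁ hpre₁).flip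
  have P₂ : IsPullback j₂ g₂ g inr := (IsOpenImmersion.isPullback g₂ j₂ inr g hg₂ hpre₂).flip
  exact ⟨g, hg₁, hg₂, P₁, P₂⟩

/-- A morphism glued from two affine morphisms is affine. -/
theorem isAffineHom_of_glue {X' : Scheme.{u}} (g : X' ⟶ pushout w₁ w₂) {U₁' U₂' : Scheme.{u}}
    (j₁' : U₁' ⟶ X') (j₂' : U₂' ⟶ X') (g₁' : U₁' ⟶ V₁) (g₂' : U₂' ⟶ V₂)
    (P₁ : IsPullback j₁' g₁' g (pushout.inl w₁ w₂)) (P₂ : IsPullback j₂' g₂' g (pushout.inr w₁ w₂))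
    [IsAffineHom g₁'] [IsAffineHom g₂'] : IsAffineHom g := by
  apply IsZariskiLocalAtTarget.of_openCover (P := @IsAffineHom)
    (twoCover (pushout.inl w₁ w₂) (pushout.inr w₁ w₂) (pushout_covers w₁ w₂))
  rintro (_ | _)
  · change IsAffineHom (pullback.snd g (pushout.inl w₁ w₂))
    rw [← P₁.isoPullback_inv_snd]; infer_instance
  · change IsAffineHom (pullback.snd g (pushout.inr w₁ w₂))
    rw [← P₂.isoPullback_inv_snd]; infer_instance

end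

end Groth.Agent.Lib.Helper1.NA
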