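import Groth.Agent.Lib.Helper12.FTZS
import Groth.Agent.Lib.Helper1.NAGlue

/-!
# Schemes of finite type over `ℤ` (helper1), for Noetherian approximation
-/

set_option autoImplicit false
set_option linter.unusedSectionVars false
set_option linter.style.haveILetI false
universe u

namespace Groth.Agent.Lib.Helper1.NA

open AlgebraicGeometry CategoryTheory CategoryTheory.Limits MorphismProperty TopologicalSpace
  Groth.Agent.Lib.Helper1.ObjDesc

/-- Quasi-compact and locally of finite type over `ℤ`. -/
def FTZ (X : Scheme.{u}) : Prop :=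
  CompactSpace X ∧ LocallyOfFiniteType (IsTerminal.from specULiftZIsTerminal X)

lemma from_comp {X Y : Scheme.{u}} (f : X ⟶ Y) :
    f ≫ IsTerminal.from specULiftZIsTerminal Y = IsTerminal.from specULiftZIsTerminal X :=
  specULiftZIsTerminal.hom_ext _ _

instance : IsNoetherianRing (ULift.{u} ℤ) :=
  isNoetherianRing_of_ringEquiv ℤ (ULift.ringEquiv.symm : ℤ ≃+* ULift.{u} ℤ)

lemma isLocallyNoetherian_of_lft (X : Scheme.{u})
    [LocallyOfFiniteType (IsTerminal.from specULiftZIsTerminal X)] : IsLocallyNoetherian X :=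
  LocallyOfFiniteType.isLocallyNoetherian (IsTerminal.from specULiftZIsTerminal X)

lemma FTZ.isLocallyNoetherian {X : Scheme.{u}} (h : FTZ X) : IsLocallyNoetherian X :=
  have := h.2
  isLocallyNoetherian_of_lft X

lemma FTZ.quasiSeparatedSpace {X : Scheme.{u}} (h : FTZ X) : QuasiSeparatedSpace X :=
  have := h.isLocallyNoetherian
  inferInstance

lemma lft_of_isOpenImmersion {X Y : Scheme.{u}} (f : X ⟶ Y) [IsOpenImmersion f]
    [LocallyOfFiniteType (IsTerminal.from specULiftZIsTerminal Y)] :
    LocallyOfFiniteType (IsTerminal.from specULiftZIsTerminal X) := by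
  rw [← from_comp f]
  infer_instance

/-- Sections over an affine open of a scheme locally of finite type over `ℤ` form a finitely
generated ring. -/
lemma exists_finset_closure_eq_top (X : Scheme.{u})
    [LocallyOfFiniteType (IsTerminal.from specULiftZIsTerminal X)] {U : X.Opens}
    (hU : IsAffineOpen U) : ∃ T : Finset Γ(X, U), Subring.closure (T : Set Γ(X, U)) = ⊤ := by
  have h := Groth.Agent.Lib.Helper12.H12FTZ.finiteType_int_sections X hU
  obtain ⟨T, hT⟩ := h.out
  refine ⟨T, ?_⟩
  rw [Algebra.adjoin_int] at hT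
  rw [eq_top_iff]
  intro x _
  have hx : x ∈ subalgebraOfSubring (Subring.closure (T : Set Γ(X, U))) := by rw [hT]; trivial
  exact hx

/-- The spectrum of a finitely generated ring is of finite type over `ℤ`. -/
lemma FTZ_Spec_of_fg {R : Type u} [CommRing R] (A : Subring R)
    (hA : ∃ T : Finset R, Subring.closure (T : Set R) = A) :
    FTZ (Spec (CommRingCat.of A)) := by
  refine ⟨inferInstance, ?_⟩
  obtain ⟨φ, hφ⟩ := Spec.map_surjective
    (IsTerminal.from specULiftZIsTerminal (Spec (CommRingCat.of A)))
  rw [← hφ]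
  rw [HasRingHomProperty.Spec_iff (P := @LocallyOfFiniteType)]
  -- `A` is finitely generated as a ring
  obtain ⟨T, hT⟩ := hA
  algebraize [φ.hom]
  change Algebra.FiniteType (ULift.{u} ℤ) A
  classical
  refine ⟨⟨T.preimage Subtype.val Subtype.val_injective.injOn, ?_⟩⟩
  rw [eq_top_iff]
  rintro ⟨x, hx⟩ -
  have hx' : x ∈ Subring.closure (T : Set R) := by rw [hT]; exact hx
  induction hx' using Subring.closure_induction with
  | mem y hy =>
    apply Algebra.subset_adjoin
    simp only [Finset.coe_preimage, Set.mem_preimage, Finset.mem_coe]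
    exact hy
  | zero => exact Subalgebra.zero_mem _
  | one => exact Subalgebra.one_mem _
  | add y z hy hz ihy ihz =>
    have hy' : y ∈ A := by rw [← hT]; exact hy
    have hz' : z ∈ A := by rw [← hT]; exact hz
    exact Subalgebra.add_mem _ (ihy hy') (ihz hz')
  | neg y hy ihy =>
    have hy' : y ∈ A := by rw [← hT]; exact hy
    exact Subalgebra.neg_mem _ (ihy hy')
  | mul y z hy hz ihy ihz =>
    have hy' : y ∈ A := by rw [← hT]; exact hy
    have hz' : z ∈ A := by rw [← hT]; exact hz
    exact Subalgebra.mul_mem _ (ihy hy') (ihz hz')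

section pushout

variable {W V₁ V₂ : Scheme.{u}} (w₁ : W ⟶ V₁) (w₂ : W ⟶ V₂) [IsOpenImmersion w₁]
  [IsOpenImmersion w₂]

lemma FTZ_pushout (h₁ : FTZ V₁) (h₂ : FTZ V₂) : FTZ (pushout w₁ w₂) := by
  have := h₁.1
  have := h₂.1
  have := h₁.2
  have := h₂.2
  constructor
  · constructor
    have hcov : (Set.univ : Set ↥(pushout w₁ w₂)) =
        Set.range (pushout.inl w₁ w₂) ∪ Set.range (pushout.inr w₁ w₂) := by
      ext x
      simp only [Set.mem_univ, Set.mem_union, true_iff]
      exact pushout_covers w₁ w₂ x
    rw [hcov]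
    exact (isCompact_range (pushout.inl w₁ w₂).continuous).union
      (isCompact_range (pushout.inr w₁ w₂).continuous)
  · apply IsZariskiLocalAtSource.of_openCover (P := @LocallyOfFiniteType)
      (twoCover (pushout.inl w₁ w₂) (pushout.inr w₁ w₂) (pushout_covers w₁ w₂))
    rintro (_ | _)
    · change LocallyOfFiniteType (pushout.inl w₁ w₂ ≫ _)
      rw [from_comp]; infer_instance
    · change LocallyOfFiniteType (pushout.inr w₁ w₂ ≫ _)
      rw [from_comp]; infer_instance

end pushout

end Groth.Agent.Lib.Helper1.NA
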