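import Groth.Agent.Lib.Helper1.NAMor
import Mathlib.AlgebraicGeometry.Morphisms.Separated

/-!
# A qcqs scheme over a qcqs base as a limit of schemes of finite presentation (helper1)
-/

set_option autoImplicit false
set_option linter.unusedSectionVars false
set_option linter.style.haveILetI false
universe u

namespace Groth.Agent.Lib.Helper1.NA

open AlgebraicGeometry CategoryTheory CategoryTheory.Limits TopologicalSpace Opposite

namespace Tri

variable {X S : Scheme.{u}} {f : X ⟶ S} {PX : Pres X} {PS : Pres S}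

/-- `X_a ×_{S_b} S`. -/
noncomputable abbrev Xp (i : Tri f PX PS) : Scheme.{u} := pullback i.g (PS.π.app (op i.b))

/-- The transition maps. -/
noncomputable def XpMap {i i' : Tri f PX PS} (h : i ≤ i') : Xp i' ⟶ Xp i :=
  pullback.map i'.g (PS.π.app (op i'.b)) i.g (PS.π.app (op i.b)) (PX.tr (le_a h)) (𝟙 S)
    (PS.tr (le_b h)) (le_w h).symm (by rw [Pres.π_tr]; exact (Category.id_comp _).symm)

@[reassoc]
lemma XpMap_fst {i i' : Tri f PX PS} (h : i ≤ i') :
    XpMap h ≫ pullback.fst i.g (PS.π.app (op i.b)) =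
      pullback.fst i'.g (PS.π.app (op i'.b)) ≫ PX.tr (le_a h) :=
  pullback.lift_fst _ _ _

@[reassoc]
lemma XpMap_snd {i i' : Tri f PX PS} (h : i ≤ i') :
    XpMap h ≫ pullback.snd i.g (PS.π.app (op i.b)) = pullback.snd i'.g (PS.π.app (op i'.b)) := by
  unfold XpMap
  rw [pullback.lift_snd]
  exact Category.comp_id _

variable (f PX PS)

/-- The diagram of the `X_a ×_{S_b} S`. -/
noncomputable def DXp : (Tri f PX PS)ᵒᵖ ⥤ Scheme.{u} where
  obj i := Xp i.unop
  map {i i'} a := XpMap (leOfHom a.unop)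
  map_id i := by
    apply pullback.hom_ext
    · rw [XpMap_fst, Category.id_comp, Pres.tr_refl, Category.comp_id]
    · rw [XpMap_snd, Category.id_comp]
  map_comp {i i' i''} a b := by
    apply pullback.hom_ext
    · rw [XpMap_fst, Category.assoc, XpMap_fst, XpMap_fst_assoc, Pres.tr_tr]
    · rw [XpMap_snd, Category.assoc, XpMap_snd, XpMap_snd]

/-- The structure maps to `S`. -/
noncomputable def sS : DXp f PX PS ⟶ (Functor.const _).obj S where
  app i := pullback.snd i.unop.g (PS.π.app (op i.unop.b))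
  naturality {i i'} a := by
    change XpMap (leOfHom a.unop) ≫ pullback.snd _ _ = pullback.snd _ _ ≫ 𝟙 S
    rw [XpMap_snd, Category.comp_id]

/-- The projections `X ⟶ X_a ×_{S_b} S`. -/
noncomputable def toXp (i : Tri f PX PS) : X ⟶ Xp i :=
  pullback.lift (PX.π.app (op i.a)) f i.w

@[reassoc]
lemma toXp_fst (i : Tri f PX PS) :
    toXp f PX PS i ≫ pullback.fst i.g (PS.π.app (op i.b)) = PX.π.app (op i.a) :=
  pullback.lift_fst _ _ _

@[reassoc]
lemma toXp_snd (i : Tri f PX PS) :
    toXp f PX PS i ≫ pullback.snd i.g (PS.π.app (op i.b)) = f :=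
  pullback.lift_snd _ _ _

/-- The cone with vertex `X`. -/
noncomputable def cXp : Cone (DXp f PX PS) where
  pt := X
  π :=
    { app := fun i => toXp f PX PS i.unop
      naturality := by
        intro i i' a
        change 𝟙 X ≫ toXp f PX PS i'.unop = toXp f PX PS i.unop ≫ XpMap (leOfHom a.unop)
        rw [Category.id_comp]
        apply pullback.hom_ext
        · rw [toXp_fst, Category.assoc, XpMap_fst, toXp_fst_assoc, Pres.π_tr]
        · rw [toXp_snd, Category.assoc, XpMap_snd, toXp_snd] }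

/-- The universal property of `X` with respect to the `X_a ×_{S_b} S`. -/
theorem existsUnique_lift {T : Scheme.{u}} (τ : ∀ i : Tri f PX PS, T ⟶ Xp i)
    (hτ : ∀ {i i' : Tri f PX PS} (h : i ≤ i'), τ i' ≫ XpMap h = τ i) :
    ∃! m : T ⟶ X, ∀ i : Tri f PX PS, m ≫ toXp f PX PS i = τ i := by
  let fstp : ∀ i : Tri f PX PS, Xp i ⟶ PX.D.obj (op i.a) := fun i => pullback.fst _ _
  let sndp : ∀ i : Tri f PX PS, Xp i ⟶ S := fun i => pullback.snd _ _
  have hcond : ∀ i : Tri f PX PS, fstp i ≫ i.g = sndp i ≫ PS.π.app (op i.b) :=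
    fun i => pullback.condition
  have hmf : ∀ {i i' : Tri f PX PS} (h : i ≤ i'), XpMap h ≫ fstp i = fstp i' ≫ PX.tr (le_a h) :=
    fun h => XpMap_fst h
  have hms : ∀ {i i' : Tri f PX PS} (h : i ≤ i'), XpMap h ≫ sndp i = sndp i' :=
    fun h => XpMap_snd h
  have htf : ∀ i : Tri f PX PS, toXp f PX PS i ≫ fstp i = PX.π.app (op i.a) :=
    fun i => toXp_fst f PX PS i
  have hts : ∀ i : Tri f PX PS, toXp f PX PS i ≫ sndp i = f := fun i => toXp_snd f PX PS i
  -- the maps to `S` agree
  have hσ : ∀ i i' : Tri f PX PS, τ i ≫ sndp i = τ i' ≫ sndp i' := by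
    intro i i'
    have key : ∀ {j j' : Tri f PX PS} (h : j ≤ j'), τ j ≫ sndp j = τ j' ≫ sndp j' := by
      intro j j' h
      rw [← hτ h, Category.assoc, hms h]
    obtain ⟨k, hk, hk'⟩ := exists_ge_ge i i'
    rw [key hk, key hk']
  obtain ⟨m, hm⟩ := exists_liftX f PX PS (fun i => τ i ≫ fstp i) (by
    intro i i' h
    rw [Category.assoc, ← hmf h, ← Category.assoc, hτ h])
  have hmτ : ∀ i : Tri f PX PS, m ≫ toXp f PX PS i = τ i := by
    intro i
    apply pullback.hom_ext
    · change (m ≫ toXp f PX PS i) ≫ fstp i = τ i ≫ fstp i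
      rw [Category.assoc, htf, hm]
    · change (m ≫ toXp f PX PS i) ≫ sndp i = τ i ≫ sndp i
      rw [Category.assoc, hts]
      apply hom_ext_S f PX PS
      intro j
      rw [hσ i j, Category.assoc, Category.assoc, ← hcond j, ← j.w, ← Category.assoc, hm j,
        Category.assoc]
  refine ⟨m, hmτ, ?_⟩
  intro m' hm'
  apply hom_ext_X f PX PS
  intro i
  rw [← htf i, ← Category.assoc, ← Category.assoc, hm' i, hmτ i]

/-- The cone with vertex `X` is a limit cone. -/
theorem nonempty_isLimit_cXp : Nonempty (IsLimit (cXp f PX PS)) := by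
  refine ⟨IsLimit.ofExistsUnique fun t => ?_⟩
  let τ : ∀ i : Tri f PX PS, t.pt ⟶ Xp i := fun i => t.π.app (op i)
  have hτ : ∀ {i i' : Tri f PX PS} (h : i ≤ i'), τ i' ≫ XpMap h = τ i :=
    fun h => t.w (homOfLE h).op
  obtain ⟨m, hm, hu⟩ := existsUnique_lift f PX PS τ hτ
  exact ⟨m, fun i => hm i.unop, fun m' hm' => hu m' (fun i => hm' (op i))⟩

variable {f PX PS}

lemma lft_g (i : Tri f PX PS) : LocallyOfFiniteType i.g := by
  have : LocallyOfFiniteType (i.g ≫ IsTerminal.from specULiftZIsTerminal (PS.D.obj (op i.b))) := by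
    rw [from_comp]; infer_instance
  exact locallyOfFiniteType_of_comp i.g (IsTerminal.from specULiftZIsTerminal (PS.D.obj (op i.b)))

lemma lfp_g (i : Tri f PX PS) : LocallyOfFinitePresentation i.g :=
  have := lft_g i
  lfp_of_lft_of_isLocallyNoetherian i.g

lemma lfp_snd (i : Tri f PX PS) :
    LocallyOfFinitePresentation (pullback.snd i.g (PS.π.app (op i.b))) :=
  have := lfp_g i
  inferInstance

lemma quasiCompact_snd (i : Tri f PX PS) : QuasiCompact (pullback.snd i.g (PS.π.app (op i.b))) :=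
  inferInstance

lemma quasiSeparated_snd (i : Tri f PX PS) :
    QuasiSeparated (pullback.snd i.g (PS.π.app (op i.b))) :=
  inferInstance

lemma isAffineHom_fst (i : Tri f PX PS) : IsAffineHom (pullback.fst i.g (PS.π.app (op i.b))) := by
  have : IsAffineHom (PS.π.app (op i.b)) := isAffineHom_π_app PS.D PS.cone PS.hlim (op i.b)
  exact MorphismProperty.pullback_fst _ _ this

lemma isAffineHom_XpMap {i i' : Tri f PX PS} (h : i ≤ i') : IsAffineHom (XpMap h) := by
  have h1 := isAffineHom_fst i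
  have h2 := isAffineHom_fst i'
  have : IsAffineHom (XpMap h ≫ pullback.fst i.g (PS.π.app (op i.b))) := by
    rw [XpMap_fst]; infer_instance
  exact IsAffineHom.of_comp (XpMap h) (pullback.fst i.g (PS.π.app (op i.b)))

end Tri

end Groth.Agent.Lib.Helper1.NA
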