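import Groth.Agent.Lib.Helper1.NAFp

/-!
# A qcqs scheme over a quasi-separated base as a limit of schemes of finite presentation (helper1)
-/

set_option autoImplicit false
set_option linter.unusedSectionVars false
set_option linter.style.haveILetI false
universe u

namespace Groth.Agent.Lib.Helper1.NA

open AlgebraicGeometry CategoryTheory CategoryTheory.Limits TopologicalSpace Opposite

/-- The image of a quasi-compact scheme is contained in a quasi-compact open. -/
lemma exists_isCompact_opens_range_le {X S : Scheme.{u}} (f : X ⟶ S) [CompactSpace X] :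
    ∃ S' : S.Opens, IsCompact (S' : Set S) ∧ Set.range f ⊆ S' := by
  have hK := isCompact_range f.continuous
  obtain ⟨t, ht⟩ := hK.elim_finite_subcover (fun U : S.affineOpens => ((U : S.Opens) : Set S))
    (fun U => U.1.2) (by
      intro y _
      have hy : y ∈ (⨆ i : S.affineOpens, (i : S.Opens)) := by
        rw [iSup_affineOpens_eq_top]; trivial
      obtain ⟨U, hU⟩ := Opens.mem_iSup.mp hy
      exact Set.mem_iUnion.mpr ⟨U, hU⟩)
  refine ⟨⨆ i ∈ (t : Set S.affineOpens), (i : S.Opens), ?_, ?_⟩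
  · exact isCompact_iff_finite_and_eq_biUnion_affineOpens.mpr ⟨t, t.finite_toSet, rfl⟩
  · intro y hy
    obtain ⟨U, hU⟩ := Set.mem_iUnion.mp (ht hy)
    obtain ⟨hUt, hyU⟩ := Set.mem_iUnion.mp hU
    simp only [Opens.coe_iSup, Set.mem_iUnion]
    exact ⟨U, hUt, hyU⟩

/-- **Relative approximation**: `X` qcqs over a quasi-separated `S` is a directed limit of schemes
of finite presentation over `S` with affine transition maps. -/
theorem exists_fp_limit {X S : Scheme.{u}} (f : X ⟶ S) [CompactSpace X] [QuasiSeparatedSpace X]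
    [QuasiSeparatedSpace S] :
    ∃ (I : Type u) (_ : Preorder I) (_ : IsDirected I (fun a b => a ≤ b)) (_ : Nonempty I)
      (D : Iᵒᵖ ⥤ Scheme.{u}) (s : D ⟶ (Functor.const Iᵒᵖ).obj S) (c : Cone D) (_ : IsLimit c)
      (e : c.pt ≅ X),
      (∀ i, c.π.app i ≫ s.app i = e.hom ≫ f) ∧
      (∀ i, LocallyOfFinitePresentation (s.app i) ∧ QuasiCompact (s.app i) ∧
        QuasiSeparated (s.app i)) ∧
      (∀ (i j : Iᵒᵖ) (a : i ⟶ j), IsAffineHom (D.map a)) ∧
      (∀ i, IsAffineHom (c.π.app i)) := by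
  obtain ⟨S', hS'c, hS'⟩ := exists_isCompact_opens_range_le f
  have hC : CompactSpace (S' : Scheme.{u}) := isCompact_iff_compactSpace.mp hS'c
  have hQ : QuasiSeparatedSpace (S' : Scheme.{u}) := S'.ι.isOpenEmbedding.quasiSeparatedSpace
  let f' : X ⟶ (S' : Scheme.{u}) := IsOpenImmersion.lift S'.ι f (by
    rw [Scheme.Opens.range_ι]; exact hS')
  have hf' : f' ≫ S'.ι = f := IsOpenImmersion.lift_fac _ _ _
  obtain ⟨PX⟩ := nonempty_pres X
  obtain ⟨PS⟩ := nonempty_pres (S' : Scheme.{u})
  obtain ⟨hlim⟩ := Tri.nonempty_isLimit_cXp f' PX PS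
  have hι : QuasiCompact S'.ι := inferInstance
  let s : Tri.DXp f' PX PS ⟶ (Functor.const _).obj S :=
    { app := fun i => (Tri.sS f' PX PS).app i ≫ S'.ι
      naturality := by
        intro i i' a
        have := (Tri.sS f' PX PS).naturality a
        change (Tri.DXp f' PX PS).map a ≫ (Tri.sS f' PX PS).app i' ≫ S'.ι =
          ((Tri.sS f' PX PS).app i ≫ S'.ι) ≫ 𝟙 S
        rw [← Category.assoc, this, Category.comp_id]
        rfl }
  refine ⟨Tri f' PX PS, inferInstance, inferInstance, inferInstance, Tri.DXp f' PX PS, s,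
    Tri.cXp f' PX PS, hlim, Iso.refl X, ?_, ?_, ?_, ?_⟩
  · intro i
    change Tri.toXp f' PX PS i.unop ≫ pullback.snd _ _ ≫ S'.ι = 𝟙 X ≫ f
    rw [Tri.toXp_snd_assoc, hf', Category.id_comp]
  · intro i
    have h1 := Tri.lfp_snd i.unop
    have h2 := Tri.quasiCompact_snd i.unop
    have h3 := Tri.quasiSeparated_snd i.unop
    change LocallyOfFinitePresentation (pullback.snd _ _ ≫ S'.ι) ∧
      QuasiCompact (pullback.snd _ _ ≫ S'.ι) ∧ QuasiSeparated (pullback.snd _ _ ≫ S'.ι)
    exact ⟨inferInstance, inferInstance, inferInstance⟩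
  · intro i j a
    exact Tri.isAffineHom_XpMap (leOfHom a.unop)
  · intro i
    have : ∀ {i j : (Tri f' PX PS)ᵒᵖ} (a : i ⟶ j), IsAffineHom ((Tri.DXp f' PX PS).map a) :=
      fun a => Tri.isAffineHom_XpMap (leOfHom a.unop)
    exact isAffineHom_π_app (Tri.DXp f' PX PS) (Tri.cXp f' PX PS) hlim i

end Groth.Agent.Lib.Helper1.NA
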