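import Groth.Agent.Lib.Helper1.NARing
import Groth.Agent.Lib.Helper1.RSLimit

/-!
# The index set of the Noetherian approximation, at the level of rings (helper1)
-/

set_option autoImplicit false
set_option linter.unusedSectionVars false
set_option linter.style.haveILetI false
universe u

namespace Groth.Agent.Lib.Helper1.NA

open CategoryTheory CategoryTheory.Limits

/-- Ring-level data. -/
structure RData (I : Type u) [Preorder I] where
  R : Type u
  [instR : CommRing R]
  B : I → Type u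
  [instB : ∀ i, CommRing (B i)]
  BZ : Type u
  [instBZ : CommRing BZ]
  tr : ∀ {i i' : I}, i ≤ i' → (B i →+* B i')
  tr_refl : ∀ (i : I) (b : B i), tr (le_refl i) b = b
  tr_trans : ∀ {i i' i'' : I} (h : i ≤ i') (h' : i' ≤ i'') (b : B i),
    tr h' (tr h b) = tr (h.trans h') b
  res : R →+* BZ
  pi : ∀ i, B i →+* BZ
  pi_tr : ∀ {i i' : I} (h : i ≤ i') (b : B i), pi i' (tr h b) = pi i b
  n : ℕ
  f : Fin n → R
  g : ∀ i, Fin n → B i
  tr_g : ∀ {i i' : I} (h : i ≤ i') (k : Fin n), tr h (g i k) = g i' k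
  pi_g : ∀ i k, pi i (g i k) = res (f k)
  F : ∀ i, Finset (R × B i)
  F_sub : ∀ i, (↑(F i) : Set (R × B i)) ⊆ fibProd res (pi i)
  F_force : ∀ i k (A : Subring (R × B i)), (↑(F i) : Set (R × B i)) ⊆ A → (f k, g i k) ∈ A →
    StarCond (g i k) A
  surjZ : ∀ r : R, ∃ i, ∃ b : B i, pi i b = res r
  injZ : ∀ i (b : B i), pi i b = 0 → ∃ i', ∃ h : i ≤ i', tr h b = 0

attribute [instance] RData.instR RData.instB RData.instBZ

namespace RData

variable {I : Type u} [Preorder I] (D : RData I)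

/-- The transition map on products. -/
def ρ {i i' : I} (h : i ≤ i') : D.R × D.B i →+* D.R × D.B i' :=
  RingHom.prodMap (RingHom.id D.R) (D.tr h)

@[simp] lemma ρ_fst {i i' : I} (h : i ≤ i') (a : D.R × D.B i) : (D.ρ h a).1 = a.1 := rfl

@[simp] lemma ρ_snd {i i' : I} (h : i ≤ i') (a : D.R × D.B i) : (D.ρ h a).2 = D.tr h a.2 := rfl

lemma ρ_refl (i : I) (a : D.R × D.B i) : D.ρ (le_refl i) a = a :=
  Prod.ext rfl (D.tr_refl i a.2)

lemma ρ_trans {i i' i'' : I} (h : i ≤ i') (h' : i' ≤ i'') (a : D.R × D.B i) :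
    D.ρ h' (D.ρ h a) = D.ρ (h.trans h') a :=
  Prod.ext rfl (D.tr_trans h h' a.2)

lemma ρ_mem_fibProd {i i' : I} (h : i ≤ i') {a : D.R × D.B i}
    (ha : a ∈ fibProd D.res (D.pi i)) : D.ρ h a ∈ fibProd D.res (D.pi i') := by
  rw [mem_fibProd] at ha ⊢
  rw [ρ_fst, ρ_snd, D.pi_tr, ha]

lemma hk_mem_fibProd (i : I) (k : Fin D.n) : (D.f k, D.g i k) ∈ fibProd D.res (D.pi i) := by
  rw [mem_fibProd]
  exact (D.pi_g i k).symm

lemma ρ_hk {i i' : I} (h : i ≤ i') (k : Fin D.n) : D.ρ h (D.f k, D.g i k) = (D.f k, D.g i' k) :=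
  Prod.ext rfl (D.tr_g h k)

/-- The index set. -/
structure Idx where
  i : I
  A : Subring (D.R × D.B i)
  le : A ≤ fibProd D.res (D.pi i)
  fg : ∃ T : Finset (D.R × D.B i), Subring.closure (T : Set (D.R × D.B i)) = A
  mem : ∀ k, (D.f k, D.g i k) ∈ A
  star : ∀ k, StarCond (D.g i k) A

instance : Preorder D.Idx where
  le j j' := ∃ h : j.i ≤ j'.i, ∀ a ∈ j.A, D.ρ h a ∈ j'.A
  le_refl j := ⟨le_refl _, fun a ha => by rw [ρ_refl]; exact ha⟩
  le_trans j j' j'' h h' := ⟨h.fst.trans h'.fst, fun a ha => by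
    rw [← D.ρ_trans h.fst h'.fst]
    exact h'.snd _ (h.snd _ ha)⟩

lemma Idx.le_def {j j' : D.Idx} : j ≤ j' ↔ ∃ h : j.i ≤ j'.i, ∀ a ∈ j.A, D.ρ h a ∈ j'.A := Iff.rfl

open Classical in
/-- The finite generating set used by `mkIdx`. -/
noncomputable def gens (i : I) (T : Finset (D.R × D.B i)) : Finset (D.R × D.B i) :=
  T ∪ D.F i ∪ Finset.univ.image (fun k => (D.f k, D.g i k))

open Classical in
/-- Construct an index from a finite subset of the fibre product. -/
noncomputable def mkIdx (i : I) (T : Finset (D.R × D.B i))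
    (hT : (↑T : Set (D.R × D.B i)) ⊆ fibProd D.res (D.pi i)) : D.Idx where
  i := i
  A := Subring.closure (D.gens i T : Set (D.R × D.B i))
  le := by
    rw [Subring.closure_le]
    intro x hx
    simp only [gens, Finset.coe_union, Finset.coe_image, Finset.coe_univ, Set.image_univ,
      Set.mem_union, Set.mem_range] at hx
    rcases hx with (hx | hx) | ⟨k, rfl⟩
    · exact hT hx
    · exact D.F_sub i hx
    · exact D.hk_mem_fibProd i k
  fg := ⟨_, rfl⟩
  mem k := Subring.subset_closure (by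
    simp only [gens, Finset.coe_union, Finset.coe_image, Finset.coe_univ, Set.image_univ,
      Set.mem_union, Set.mem_range]
    exact Or.inr ⟨k, rfl⟩)
  star k := D.F_force i k _ (fun x hx => Subring.subset_closure (by
      simp only [gens, Finset.coe_union, Finset.coe_image, Finset.coe_univ, Set.image_univ,
        Set.mem_union, Set.mem_range]
      exact Or.inl (Or.inr hx)))
    (Subring.subset_closure (by
      simp only [gens, Finset.coe_union, Finset.coe_image, Finset.coe_univ, Set.image_univ,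
        Set.mem_union, Set.mem_range]
      exact Or.inr ⟨k, rfl⟩))

lemma subset_mkIdx (i : I) (T : Finset (D.R × D.B i))
    (hT : (↑T : Set (D.R × D.B i)) ⊆ fibProd D.res (D.pi i)) :
    ∀ x ∈ T, (x : D.R × D.B (D.mkIdx i T hT).i) ∈ (D.mkIdx i T hT).A := fun x hx =>
  Subring.subset_closure (by
    simp only [gens, Finset.coe_union, Finset.coe_image, Finset.coe_univ, Set.image_univ,
      Set.mem_union, Set.mem_range]
    exact Or.inl (Or.inl hx))

open Classical in
/-- An index above `j` at level `i` containing `T`. -/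
noncomputable def up (j : D.Idx) (i : I) (h : j.i ≤ i) (T : Finset (D.R × D.B i))
    (hT : (↑T : Set (D.R × D.B i)) ⊆ fibProd D.res (D.pi i)) : D.Idx :=
  D.mkIdx i (T ∪ j.fg.choose.image (D.ρ h)) (by
    intro x hx
    simp only [Finset.coe_union, Finset.coe_image, Set.mem_union, Set.mem_image] at hx
    rcases hx with hx | ⟨y, hy, rfl⟩
    · exact hT hx
    · apply D.ρ_mem_fibProd
      apply j.le
      rw [← j.fg.choose_spec]
      exact Subring.subset_closure hy)

lemma le_up (j : D.Idx) (i : I) (h : j.i ≤ i) (T : Finset (D.R × D.B i))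
    (hT : (↑T : Set (D.R × D.B i)) ⊆ fibProd D.res (D.pi i)) : j ≤ D.up j i h T hT := by
  classical
  refine ⟨h, ?_⟩
  intro a ha
  rw [← j.fg.choose_spec] at ha
  change a ∈ Subring.comap (D.ρ h) (D.up j i h T hT).A
  revert a
  change Subring.closure _ ≤ _
  rw [Subring.closure_le]
  intro y hy
  have key : D.ρ h y ∈ (D.up j i h T hT).A := by
    unfold up
    apply D.subset_mkIdx
    exact Finset.mem_union_right T (Finset.mem_image_of_mem (D.ρ h) hy)
  exact key

lemma subset_up (j : D.Idx) (i : I) (h : j.i ≤ i) (T : Finset (D.R × D.B i))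
    (hT : (↑T : Set (D.R × D.B i)) ⊆ fibProd D.res (D.pi i)) :
    ∀ x ∈ T, (x : D.R × D.B (D.up j i h T hT).i) ∈ (D.up j i h T hT).A := by
  classical
  intro x hx
  unfold up
  apply D.subset_mkIdx
  exact Finset.mem_union_left _ hx

@[simp] lemma up_i (j : D.Idx) (i : I) (h : j.i ≤ i) (T : Finset (D.R × D.B i))
    (hT : (↑T : Set (D.R × D.B i)) ⊆ fibProd D.res (D.pi i)) : (D.up j i h T hT).i = i := rfl

/-- Membership in `up` of images of elements of `j'.A`. -/
lemma le_up_of_gens (j j' : D.Idx) (i : I) (h : j.i ≤ i) (h' : j'.i ≤ i)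
    (T : Finset (D.R × D.B i))
    (hT : (↑T : Set (D.R × D.B i)) ⊆ fibProd D.res (D.pi i))
    (hsub : ∀ y ∈ j'.fg.choose, D.ρ h' y ∈ T) : j' ≤ D.up j i h T hT := by
  refine ⟨h', ?_⟩
  intro a ha
  rw [← j'.fg.choose_spec] at ha
  change a ∈ Subring.comap (D.ρ h') (D.up j i h T hT).A
  revert a
  change Subring.closure _ ≤ _
  rw [Subring.closure_le]
  intro y hy
  exact D.subset_up j i h T hT _ (hsub y hy)

variable [IsDirected I (fun a b => a ≤ b)]

instance : IsDirected D.Idx (fun a b => a ≤ b) where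
  directed j j' := by
    classical
    obtain ⟨i, h, h'⟩ := exists_ge_ge j.i j'.i
    refine ⟨D.up j i h (j'.fg.choose.image (D.ρ h')) ?_, D.le_up _ _ _ _ _,
      D.le_up_of_gens j j' i h h' _ _ ?_⟩
    · intro x hx
      simp only [Finset.coe_image, Set.mem_image] at hx
      obtain ⟨y, hy, rfl⟩ := hx
      apply D.ρ_mem_fibProd
      apply j'.le
      rw [← j'.fg.choose_spec]
      exact Subring.subset_closure hy
    · intro y hy
      exact Finset.mem_image_of_mem _ hy

instance [Nonempty I] : Nonempty D.Idx :=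
  ⟨D.mkIdx (Classical.arbitrary I) ∅ (by simp)⟩

/-- The projection to `I`. -/
def α : D.Idx →o I where
  toFun j := j.i
  monotone' _ _ h := h.fst

lemma exists_ge_α (j₀ : D.Idx) (i : I) : ∃ j : D.Idx, j₀ ≤ j ∧ i ≤ D.α j := by
  obtain ⟨i', h, h'⟩ := exists_ge_ge j₀.i i
  exact ⟨D.up j₀ i' h ∅ (by simp), D.le_up _ _ _ _ _, h'⟩

/-- The transition ring maps. -/
def transA {j j' : D.Idx} (h : j ≤ j') : j.A →+* j'.A :=
  RingHom.codRestrict ((D.ρ h.fst).comp j.A.subtype) j'.A (fun x => h.snd x.1 x.2)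

@[simp] lemma transA_coe {j j' : D.Idx} (h : j ≤ j') (a : j.A) :
    ((D.transA h a : j'.A) : D.R × D.B j'.i) = D.ρ h.fst a.1 := rfl

/-- The diagram of rings. -/
def RA : D.Idx ⥤ CommRingCat.{u} where
  obj j := CommRingCat.of j.A
  map {j j'} h := CommRingCat.ofHom (D.transA (leOfHom h))
  map_id j := by
    refine CommRingCat.hom_ext (RingHom.ext fun a => ?_)
    apply Subtype.ext
    exact D.ρ_refl _ _
  map_comp {j j' j''} h h' := by
    refine CommRingCat.hom_ext (RingHom.ext fun a => ?_)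
    apply Subtype.ext
    exact (D.ρ_trans (leOfHom h).fst (leOfHom h').fst a.1).symm

/-- The first projection `A_j → R`. -/
def fstA (j : D.Idx) : j.A →+* D.R := (RingHom.fst D.R (D.B j.i)).comp j.A.subtype

/-- The second projection `A_j → B_i`. -/
def sndA (j : D.Idx) : j.A →+* D.B j.i := (RingHom.snd D.R (D.B j.i)).comp j.A.subtype

@[simp] lemma fstA_apply (j : D.Idx) (a : j.A) : D.fstA j a = a.1.1 := rfl

@[simp] lemma sndA_apply (j : D.Idx) (a : j.A) : D.sndA j a = a.1.2 := rfl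

lemma fstA_transA {j j' : D.Idx} (h : j ≤ j') (a : j.A) : D.fstA j' (D.transA h a) = D.fstA j a :=
  rfl

lemma sndA_transA {j j' : D.Idx} (h : j ≤ j') (a : j.A) :
    D.sndA j' (D.transA h a) = D.tr h.fst (D.sndA j a) := rfl

lemma res_fstA (j : D.Idx) (a : j.A) : D.res (D.fstA j a) = D.pi j.i (D.sndA j a) :=
  (mem_fibProd _ _).mp (j.le a.2)

/-- The cocone with vertex `R`. -/
def cocone : Cocone D.RA where
  pt := CommRingCat.of D.R
  ι :=
    { app := fun j => CommRingCat.ofHom (D.fstA j)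
      naturality := by
        intro j j' h
        refine CommRingCat.hom_ext (RingHom.ext fun a => ?_)
        rfl }

theorem nonempty_isColimit_cocone [Nonempty I] : Nonempty (IsColimit D.cocone) := by
  classical
  refine RSLimit.isColimit_of_surj_inj D.RA D.cocone ?_ ?_
  · intro (r : D.R)
    obtain ⟨i, b, hb⟩ := D.surjZ r
    have hT : (↑({(r, b)} : Finset (D.R × D.B i)) : Set (D.R × D.B i)) ⊆
        fibProd D.res (D.pi i) := by
      intro x hx
      simp only [Finset.coe_singleton, Set.mem_singleton_iff] at hx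
      subst hx
      exact hb.symm
    refine ⟨D.mkIdx i {(r, b)} hT, ⟨(r, b), D.subset_mkIdx i _ hT _ (Finset.mem_singleton_self _)⟩, rfl⟩
  · intro j j' (a : j.A) (a' : j'.A) haa'
    have h1 : a.1.1 = a'.1.1 := haa'
    obtain ⟨j₀, hj, hj'⟩ := exists_ge_ge j j'
    let x : D.R × D.B j₀.i := D.ρ hj.fst a.1
    let x' : D.R × D.B j₀.i := D.ρ hj'.fst a'.1
    have hx : x ∈ j₀.A := hj.snd _ a.2
    have hx' : x' ∈ j₀.A := hj'.snd _ a'.2
    have hd : D.pi j₀.i (x.2 - x'.2) = 0 := by
      rw [map_sub, ← (mem_fibProd _ _).mp (j₀.le hx), ← (mem_fibProd _ _).mp (j₀.le hx')]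
      change D.res a.1.1 - D.res a'.1.1 = 0
      rw [h1, sub_self]
    obtain ⟨i'', h'', hz⟩ := D.injZ _ _ hd
    let j'' := D.up j₀ i'' h'' ∅ (by simp)
    have hj₀ : j₀ ≤ j'' := D.le_up _ _ _ _ _
    refine ⟨j'', homOfLE (hj.trans hj₀), homOfLE (hj'.trans hj₀), ?_⟩
    apply Subtype.ext
    change D.ρ (hj.trans hj₀).fst a.1 = D.ρ (hj'.trans hj₀).fst a'.1
    rw [← D.ρ_trans hj.fst hj₀.fst, ← D.ρ_trans hj'.fst hj₀.fst]
    apply Prod.ext
    · exact h1
    · change D.tr h'' x.2 = D.tr h'' x'.2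
      rw [← sub_eq_zero, ← map_sub]
      exact hz

end RData

end Groth.Agent.Lib.Helper1.NA
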