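import Groth.Agent.Lib.Helper1.NADiag
import Mathlib.CategoryTheory.Filtered.Final

/-!
# Noetherian approximation: the glued cone is a limit cone (helper1)
-/

set_option autoImplicit false
set_option linter.unusedSectionVars false
set_option linter.style.haveILetI false
universe u

namespace Groth.Agent.Lib.Helper1.NA

open AlgebraicGeometry CategoryTheory CategoryTheory.Limits TopologicalSpace Opposite
  Groth.Agent.Lib.Helper1.ObjDesc

namespace Core

variable {I : Type u} [Preorder I] [IsDirected I (fun a b => a ≤ b)] [Nonempty I] (C : Core I)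

/-- The functor `J ⥤ I` on opposite categories. -/
noncomputable def αop : (C.rdata.Idx)ᵒᵖ ⥤ Iᵒᵖ := (C.rdata.α.monotone.functor).op

instance : (C.αop).Initial := by
  have : (C.rdata.α.monotone.functor).Final := by
    rw [Monotone.final_functor_iff]
    intro i
    obtain ⟨j, -, hj⟩ := C.rdata.exists_ge_α (Classical.arbitrary _) i
    exact ⟨j, hj⟩
  unfold αop
  infer_instance

/-- The cone over the glued diagram. -/
noncomputable def cS : Cone C.DS := Cone.mk C.S C.sπNat

/-- The diagram of affine stages. -/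
noncomputable def SA : (C.rdata.Idx)ᵒᵖ ⥤ Scheme.{u} := C.rdata.RA.op ⋙ Scheme.Spec

/-- The cone over the affine stages with vertex `W`. -/
noncomputable def cA : Cone C.SA where
  pt := C.W
  π :=
    { app := fun j => C.aW j.unop
      naturality := by
        intro j j' a
        change 𝟙 _ ≫ C.aW j'.unop = C.aW j.unop ≫ C.tA (leOfHom a.unop)
        rw [Category.id_comp, aW_tA] }

lemma nonempty_isLimit_cA : Nonempty (IsLimit C.cA) := by
  obtain ⟨hc⟩ := C.rdata.nonempty_isColimit_cocone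
  have h1 : IsLimit (Scheme.Spec.mapCone C.rdata.cocone.op) := isLimitOfPreserves Scheme.Spec hc.op
  refine ⟨IsLimit.ofIsoLimit h1 (Cones.ext C.W.isoSpec.symm ?_)⟩
  intro j
  change Spec.map (CommRingCat.ofHom (C.rdata.fstA j.unop)) =
    C.W.isoSpec.inv ≫ C.W.toSpecΓ ≫ Spec.map (CommRingCat.ofHom (C.rdata.fstA j.unop))
  rw [← Scheme.isoSpec_hom, Iso.inv_hom_id_assoc]

lemma opensRange_inl_eq {j j' : C.rdata.Idx} (h : j ≤ j') :
    (C.inl j').opensRange = C.DSmap h ⁻¹ᵁ (C.inl j).opensRange :=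
  opensRange_eq_of_isPullback (C.isPullback_inl_DSmap h)

lemma opensRange_inr_eq {j j' : C.rdata.Idx} (h : j ≤ j') :
    (C.inr j').opensRange = C.DSmap h ⁻¹ᵁ (C.inr j).opensRange :=
  opensRange_eq_of_isPullback (C.isPullback_inr_DSmap h)

lemma opensRange_v_eq (j : C.rdata.Idx) :
    C.v.opensRange = C.sπ j ⁻¹ᵁ (C.inl j).opensRange :=
  opensRange_eq_of_isPullback (C.isPullback_v_sπ j)

lemma opensRange_w_eq (j : C.rdata.Idx) :
    C.w.opensRange = C.sπ j ⁻¹ᵁ (C.inr j).opensRange :=
  opensRange_eq_of_isPullback (C.isPullback_w_sπ j)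

lemma nonempty_isLimit_opens_inl (j₀ : C.rdata.Idx) :
    Nonempty (IsLimit (opensCone C.DS C.cS (op j₀) (C.inl j₀).opensRange)) := by
  let F : Over (op j₀) ⥤ Iᵒᵖ := Over.forget (op j₀) ⋙ C.αop
  let E : Over (op j₀) ⥤ Scheme.{u} := F ⋙ C.DV
  let cE : Cone E := C.cV.whisker F
  have hcE : IsLimit cE := (Functor.Initial.isLimitWhiskerEquiv F C.cV).symm C.hcV
  let θ : E ⟶ Over.forget (op j₀) ⋙ C.DS :=
    { app := fun j => C.inl j.left.unop
      naturality := by
        intro j j' f
        exact (C.inl_DSmap (leOfHom f.left.unop)).symm }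
  haveI : ∀ j, IsOpenImmersion (θ.app j) := fun j =>
    inferInstanceAs (IsOpenImmersion (C.inl j.left.unop))
  let v' : cE.pt ⟶ C.cS.pt := C.v
  haveI : IsOpenImmersion v' := C.hv
  refine nonempty_isLimit_opensCone_of_model C.DS C.cS (op j₀) _ E cE hcE θ ?_ v' ?_ ?_
  · intro j
    exact C.opensRange_inl_eq (leOfHom j.hom.unop)
  · exact C.opensRange_v_eq j₀
  · intro j
    exact C.v_sπ j.left.unop

lemma nonempty_isLimit_opens_inr (j₀ : C.rdata.Idx) :
    Nonempty (IsLimit (opensCone C.DS C.cS (op j₀) (C.inr j₀).opensRange)) := by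
  let F : Over (op j₀) ⥤ (C.rdata.Idx)ᵒᵖ := Over.forget (op j₀)
  let E : Over (op j₀) ⥤ Scheme.{u} := F ⋙ C.SA
  let cE : Cone E := C.cA.whisker F
  obtain ⟨hcA⟩ := C.nonempty_isLimit_cA
  have hcE : IsLimit cE := (Functor.Initial.isLimitWhiskerEquiv F C.cA).symm hcA
  let θ : E ⟶ Over.forget (op j₀) ⋙ C.DS :=
    { app := fun j => C.inr j.left.unop
      naturality := by
        intro j j' f
        exact (C.inr_DSmap (leOfHom f.left.unop)).symm }
  haveI : ∀ j, IsOpenImmersion (θ.app j) := fun j =>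
    inferInstanceAs (IsOpenImmersion (C.inr j.left.unop))
  let w' : cE.pt ⟶ C.cS.pt := C.w
  haveI : IsOpenImmersion w' := C.hw
  refine nonempty_isLimit_opensCone_of_model C.DS C.cS (op j₀) _ E cE hcE θ ?_ w' ?_ ?_
  · intro j
    exact C.opensRange_inr_eq (leOfHom j.hom.unop)
  · exact C.opensRange_w_eq j₀
  · intro j
    exact C.w_sπ j.left.unop

theorem nonempty_isLimit_cS : Nonempty (IsLimit C.cS) := by
  let j₀ : C.rdata.Idx := Classical.arbitrary _
  let U : ULift.{u} Bool → (C.DS.obj (op j₀)).Opens := fun b =>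
    if b.down then (C.inl j₀).opensRange else (C.inr j₀).opensRange
  refine nonempty_isLimit_of_local C.DS C.cS (op j₀) U ?_ ?_
  · rw [eq_top_iff]
    intro x _
    apply Opens.mem_iSup.mpr
    rcases C.DS_covers j₀ x with hx | hx
    · exact ⟨⟨true⟩, hx⟩
    · exact ⟨⟨false⟩, hx⟩
  · rintro ⟨b⟩
    cases b
    · exact C.nonempty_isLimit_opens_inr j₀
    · exact C.nonempty_isLimit_opens_inl j₀

lemma isAffineHom_DSmap {j j' : C.rdata.Idx} (h : j ≤ j') : IsAffineHom (C.DSmap h) :=
  isAffineHom_of_glue (C.ζ.app (op j.i)) (C.ψ j) (C.DSmap h) (C.inl j') (C.inr j')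
    (C.DV.map (homOfLE h.fst).op) (C.tA h) (C.isPullback_inl_DSmap h) (C.isPullback_inr_DSmap h)

/-- The extension of the presentation produced by the core construction. -/
noncomputable def ext : Ext C.DV C.cV C.v where
  J := C.rdata.Idx
  DS := C.DS
  π := C.sπNat
  hlim := C.nonempty_isLimit_cS.some
  α := C.rdata.α
  u j := C.inl j
  hu j := inferInstanceAs (IsOpenImmersion (pushout.inl (C.ζ.app (op j.i)) (C.ψ j)))
  haff j j' a := C.isAffineHom_DSmap (leOfHom a.unop)
  hft j := FTZ_pushout _ _ (C.hft _) (FTZ_Spec_of_fg _ j.unop.fg)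
  pb_cone j := (C.isPullback_v_sπ j).flip
  pb_trans j j' h := (C.isPullback_inl_DSmap h).flip

end Core

end Groth.Agent.Lib.Helper1.NA
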