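import Groth.Agent.Lib.Helper1.NAReduce3

/-!
# Noetherian approximation relative to a quasi-compact open (helper1)
-/

set_option autoImplicit false
set_option linter.unusedSectionVars false
set_option linter.style.haveILetI false
universe u

namespace Groth.Agent.Lib.Helper1.NA

open AlgebraicGeometry CategoryTheory CategoryTheory.Limits TopologicalSpace Opposite

/-- Induction on the number of affine opens needed to cover the complement. -/
theorem nonempty_ext_of_cover : ∀ (m : ℕ) {I : Type u} [Preorder I]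
    [IsDirected I (fun a b => a ≤ b)] [Nonempty I]
    (DV : Iᵒᵖ ⥤ Scheme.{u}) (_ : ∀ (i i' : Iᵒᵖ) (a : i ⟶ i'), IsAffineHom (DV.map a))
    (_ : ∀ i, FTZ (DV.obj i)) (cV : Cone DV) (_ : IsLimit cV)
    {S : Scheme.{u}} [QuasiSeparatedSpace S] (v : cV.pt ⟶ S) [IsOpenImmersion v]
    (U : Fin m → S.Opens) (_ : ∀ l, IsAffineOpen (U l))
    (_ : v.opensRange ⊔ ⨆ l, U l = ⊤), Nonempty (Ext DV cV v) := by
  intro m
  induction m with
  | zero =>
    intro I _ _ _ DV haff hft cV hcV S _ v _ U hU hcov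
    have h1 : v.opensRange = ⊤ := by
      rw [← hcov]
      have : ⨆ l, U l = ⊥ := by
        rw [eq_bot_iff]
        apply iSup_le
        intro l
        exact l.elim0
      rw [this, sup_bot_eq]
    have := isIso_of_isOpenImmersion_of_opensRange_eq_top v h1
    exact ⟨Ext.ofIso haff hft hcV v⟩
  | succ m ih =>
    intro I _ _ _ DV haff hft cV hcV S _ v _ U hU hcov
    let S' : S.Opens := v.opensRange ⊔ ⨆ l : Fin m, U (Fin.castSucc l)
    have hvS' : Set.range v ⊆ Set.range S'.ι := by
      rw [Scheme.Opens.range_ι]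
      intro x hx
      exact Or.inl hx
    let v' : cV.pt ⟶ (S' : Scheme.{u}) := IsOpenImmersion.lift S'.ι v hvS'
    have hv' : v' ≫ S'.ι = v := IsOpenImmersion.lift_fac _ _ _
    have : IsOpenImmersion v' := by
      have : IsOpenImmersion (v' ≫ S'.ι) := by rw [hv']; infer_instance
      exact IsOpenImmersion.of_comp _ S'.ι
    have hQ : QuasiSeparatedSpace (S' : Scheme.{u}) := S'.ι.isOpenEmbedding.quasiSeparatedSpace
    let U' : Fin m → (S' : Scheme.{u}).Opens := fun l => S'.ι ⁻¹ᵁ U (Fin.castSucc l)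
    have hU' : ∀ l, IsAffineOpen (U' l) := by
      intro l
      apply (hU (Fin.castSucc l)).preimage_of_isOpenImmersion S'.ι
      rw [Scheme.Opens.opensRange_ι]
      exact le_sup_of_le_right (le_iSup (fun l : Fin m => U (Fin.castSucc l)) l)
    have hcov' : v'.opensRange ⊔ ⨆ l, U' l = ⊤ := by
      rw [eq_top_iff]
      rintro x -
      have hx : S'.ι x ∈ S' := by
        have h0 : S'.ι x ∈ Set.range S'.ι := Set.mem_range_self x
        rw [Scheme.Opens.range_ι] at h0
        exact h0
      rcases hx with ⟨y, hy⟩ | hx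
      · left
        refine ⟨y, ?_⟩
        apply S'.ι.isOpenEmbedding.injective
        rw [← Scheme.Hom.comp_apply, hv']
        exact hy
      · right
        obtain ⟨l, hl⟩ := Opens.mem_iSup.mp hx
        exact Opens.mem_iSup.mpr ⟨l, hl⟩
    obtain ⟨E₁⟩ := ih DV haff hft cV hcV v' U' hU' hcov'
    have : IsAffine (U (Fin.last m) : Scheme.{u}) := hU (Fin.last m)
    have hcov'' : ∀ x : S, x ∈ Set.range S'.ι ∨ x ∈ Set.range (U (Fin.last m)).ι := by
      intro x
      rw [Scheme.Opens.range_ι, Scheme.Opens.range_ι]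
      have hx : x ∈ v.opensRange ⊔ ⨆ l, U l := by rw [hcov]; trivial
      rcases hx with hx | hx
      · exact Or.inl (Or.inl hx)
      · obtain ⟨l, hl⟩ := Opens.mem_iSup.mp hx
        induction l using Fin.lastCases with
        | last => exact Or.inr hl
        | cast l => exact Or.inl (Or.inr (Opens.mem_iSup.mpr ⟨l, hl⟩))
    obtain ⟨E₂⟩ := nonempty_ext_of_affine E₁.DS E₁.haff E₁.hft (Cone.mk (S' : Scheme.{u}) E₁.π)
      E₁.hlim (S := S) (W := (U (Fin.last m) : Scheme.{u})) S'.ι (U (Fin.last m)).ι hcov''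
    have E := E₁.trans E₂
    rw [hv'] at E
    exact ⟨E⟩

/-- A quasi-compact scheme has a finite affine open cover indexed by `Fin m`. -/
lemma exists_fin_affine_cover (S : Scheme.{u}) [CompactSpace S] :
    ∃ (m : ℕ) (U : Fin m → S.Opens), (∀ l, IsAffineOpen (U l)) ∧ ⨆ l, U l = ⊤ := by
  obtain ⟨s, hfin, hs⟩ := (isCompact_iff_finite_and_eq_biUnion_affineOpens (U := (⊤ : S.Opens))).mp
    isCompact_univ
  have : Finite s := hfin
  let e := (Finite.equivFin s).symm
  refine ⟨_, fun l => ((e l : s) : S.affineOpens).1, fun l => ((e l : s) : S.affineOpens).2, ?_⟩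
  rw [hs, iSup_subtype']
  exact (e.iSup_comp (g := fun x : s => ((x : S.affineOpens) : S.Opens)))

/-- **Noetherian approximation relative to a quasi-compact open.** -/
theorem nonempty_ext_of_qcqs {I : Type u} [Preorder I]
    [IsDirected I (fun a b => a ≤ b)] [Nonempty I]
    (DV : Iᵒᵖ ⥤ Scheme.{u}) (haff : ∀ (i i' : Iᵒᵖ) (a : i ⟶ i'), IsAffineHom (DV.map a))
    (hft : ∀ i, FTZ (DV.obj i)) (cV : Cone DV) (hcV : IsLimit cV)
    {S : Scheme.{u}} [CompactSpace S] [QuasiSeparatedSpace S] (v : cV.pt ⟶ S)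
    [IsOpenImmersion v] : Nonempty (Ext DV cV v) := by
  obtain ⟨m, U, hU, hcov⟩ := exists_fin_affine_cover S
  exact nonempty_ext_of_cover m DV haff hft cV hcV v U hU (by rw [hcov, sup_top_eq])

end Groth.Agent.Lib.Helper1.NA
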