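import Groth.Agent.Lib.Helper1.NAPres

/-!
# A morphism of qcqs schemes as a limit of morphisms of schemes of finite type over `ℤ` (helper1)
-/

set_option autoImplicit false
set_option linter.unusedSectionVars false
set_option linter.style.haveILetI false
universe u

namespace Groth.Agent.Lib.Helper1.NA

open AlgebraicGeometry CategoryTheory CategoryTheory.Limits TopologicalSpace Opposite

variable {X S : Scheme.{u}} (f : X ⟶ S) (PX : Pres X) (PS : Pres S)

/-- The index set of triples `(a, b, g : X_a ⟶ S_b)` compatible with `f`. -/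
structure Tri where
  a : PX.J
  b : PS.J
  g : PX.D.obj (op a) ⟶ PS.D.obj (op b)
  w : PX.π.app (op a) ≫ g = f ≫ PS.π.app (op b)

namespace Tri

variable {f PX PS}

instance : Preorder (Tri f PX PS) where
  le i i' := ∃ (ha : i.a ≤ i'.a) (hb : i.b ≤ i'.b), PX.tr ha ≫ i.g = i'.g ≫ PS.tr hb
  le_refl i := ⟨le_refl _, le_refl _, by rw [Pres.tr_refl, Pres.tr_refl, Category.id_comp,
    Category.comp_id]⟩
  le_trans i i' i'' h h' := by
    obtain ⟨ha, hb, hw⟩ := h
    obtain ⟨ha', hb', hw'⟩ := h'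
    refine ⟨ha.trans ha', hb.trans hb', ?_⟩
    rw [← Pres.tr_tr _ ha ha', ← Pres.tr_tr _ hb hb', Category.assoc, hw, ← Category.assoc, hw',
      Category.assoc]

lemma le_a {i i' : Tri f PX PS} (h : i ≤ i') : i.a ≤ i'.a := h.choose

lemma le_b {i i' : Tri f PX PS} (h : i ≤ i') : i.b ≤ i'.b := h.choose_spec.choose

lemma le_w {i i' : Tri f PX PS} (h : i ≤ i') :
    PX.tr (le_a h) ≫ i.g = i'.g ≫ PS.tr (le_b h) := h.choose_spec.choose_spec

variable (f PX PS)

lemma exists_b (b : PS.J) : ∃ i : Tri f PX PS, i.b = b := by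
  obtain ⟨a, g, hg⟩ := PX.exists_factor (PS.hft (op b)) (f ≫ PS.π.app (op b))
  exact ⟨⟨a, b, g, hg⟩, rfl⟩

/-- Moving a triple up in the first index. -/
noncomputable def upA (i : Tri f PX PS) {a' : PX.J} (h : i.a ≤ a') : Tri f PX PS where
  a := a'
  b := i.b
  g := PX.tr h ≫ i.g
  w := by rw [← Category.assoc, Pres.π_tr, i.w]

lemma le_upA (i : Tri f PX PS) {a' : PX.J} (h : i.a ≤ a') : i ≤ upA f PX PS i h :=
  ⟨h, le_refl _, by
    change PX.tr h ≫ i.g = (PX.tr h ≫ i.g) ≫ PS.tr (le_refl i.b)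
    rw [Pres.tr_refl, Category.comp_id]⟩

/-- Comparison of two triples whose second indices are comparable. -/
lemma exists_ge_of_le_b (i₁ i : Tri f PX PS) (hb : i₁.b ≤ i.b) :
    ∃ (a : PX.J) (h : i.a ≤ a), i₁ ≤ upA f PX PS i h := by
  have h0 : PX.π.app (op i₁.a) ≫ i₁.g = PX.π.app (op i.a) ≫ (i.g ≫ PS.tr hb) := by
    rw [i₁.w, ← Category.assoc, i.w, Category.assoc, Pres.π_tr]
  obtain ⟨a, h₁, h₂, hk⟩ := PX.exists_eq (PS.hft (op i₁.b)) i₁.g (i.g ≫ PS.tr hb) h0
  refine ⟨a, h₂, h₁, hb, ?_⟩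
  change PX.tr h₁ ≫ i₁.g = (PX.tr h₂ ≫ i.g) ≫ PS.tr hb
  rw [hk, Category.assoc]

instance : IsDirected (Tri f PX PS) (fun a b => a ≤ b) where
  directed i₁ i₂ := by
    obtain ⟨b, hb₁, hb₂⟩ := exists_ge_ge i₁.b i₂.b
    obtain ⟨i, rfl⟩ := exists_b f PX PS b
    obtain ⟨a₁, h₁, hle₁⟩ := exists_ge_of_le_b f PX PS i₁ i hb₁
    obtain ⟨a₂, h₂, hle₂⟩ := exists_ge_of_le_b f PX PS i₂ i hb₂
    obtain ⟨a, ha₁, ha₂⟩ := exists_ge_ge a₁ a₂
    refine ⟨upA f PX PS i (h₁.trans ha₁), ?_, ?_⟩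
    · refine hle₁.trans ⟨ha₁, le_refl _, ?_⟩
      change PX.tr ha₁ ≫ PX.tr h₁ ≫ i.g = (PX.tr (h₁.trans ha₁) ≫ i.g) ≫ PS.tr (le_refl _)
      rw [Pres.tr_refl, Category.comp_id, ← Category.assoc, Pres.tr_tr]
    · refine hle₂.trans ⟨ha₂, le_refl _, ?_⟩
      change PX.tr ha₂ ≫ PX.tr h₂ ≫ i.g = (PX.tr (h₁.trans ha₁) ≫ i.g) ≫ PS.tr (le_refl _)
      rw [Pres.tr_refl, Category.comp_id, ← Category.assoc, Pres.tr_tr]

instance : Nonempty (Tri f PX PS) := by
  obtain ⟨i, -⟩ := exists_b f PX PS (Classical.arbitrary _)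
  exact ⟨i⟩

/-- Projection to the first index. -/
def pA : Tri f PX PS →o PX.J := ⟨fun i => i.a, fun _ _ h => le_a h⟩

/-- Projection to the second index. -/
def pB : Tri f PX PS →o PS.J := ⟨fun i => i.b, fun _ _ h => le_b h⟩

instance : ((pA f PX PS).monotone.functor.op).Initial := by
  have : ((pA f PX PS).monotone.functor).Final := by
    rw [Monotone.final_functor_iff]
    intro a
    obtain ⟨i⟩ := (inferInstance : Nonempty (Tri f PX PS))
    obtain ⟨a', h, h'⟩ := exists_ge_ge i.a a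
    exact ⟨upA f PX PS i h, h'⟩
  infer_instance

instance : ((pB f PX PS).monotone.functor.op).Initial := by
  have : ((pB f PX PS).monotone.functor).Final := by
    rw [Monotone.final_functor_iff]
    intro b
    obtain ⟨i, rfl⟩ := exists_b f PX PS b
    exact ⟨i, le_refl _⟩
  infer_instance

/-- The diagram of sources. -/
noncomputable abbrev DX : (Tri f PX PS)ᵒᵖ ⥤ Scheme.{u} := (pA f PX PS).monotone.functor.op ⋙ PX.D

/-- The diagram of targets. -/
noncomputable abbrev DS : (Tri f PX PS)ᵒᵖ ⥤ Scheme.{u} := (pB f PX PS).monotone.functor.op ⋙ PS.D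

/-- The morphism of diagrams. -/
noncomputable def φ : DX f PX PS ⟶ DS f PX PS where
  app i := i.unop.g
  naturality {i i'} a := le_w (leOfHom a.unop)

/-- The cone over the sources. -/
noncomputable abbrev cX : Cone (DX f PX PS) := PX.cone.whisker (pA f PX PS).monotone.functor.op

/-- The cone over the targets. -/
noncomputable abbrev cS : Cone (DS f PX PS) := PS.cone.whisker (pB f PX PS).monotone.functor.op

/-- The cone over the sources is a limit cone. -/
noncomputable def hcX : IsLimit (cX f PX PS) :=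
  (Functor.Initial.isLimitWhiskerEquiv (pA f PX PS).monotone.functor.op PX.cone).symm PX.hlim

/-- The cone over the targets is a limit cone. -/
noncomputable def hcS : IsLimit (cS f PX PS) :=
  (Functor.Initial.isLimitWhiskerEquiv (pB f PX PS).monotone.functor.op PS.cone).symm PS.hlim

lemma hom_ext_X {T : Scheme.{u}} (m m' : T ⟶ X)
    (h : ∀ i : Tri f PX PS, m ≫ PX.π.app (op i.a) = m' ≫ PX.π.app (op i.a)) : m = m' :=
  (hcX f PX PS).hom_ext (fun i => h i.unop)

lemma hom_ext_S {T : Scheme.{u}} (m m' : T ⟶ S)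
    (h : ∀ i : Tri f PX PS, m ≫ PS.π.app (op i.b) = m' ≫ PS.π.app (op i.b)) : m = m' :=
  (hcS f PX PS).hom_ext (fun i => h i.unop)

lemma exists_liftX {T : Scheme.{u}} (τ : ∀ i : Tri f PX PS, T ⟶ PX.D.obj (op i.a))
    (hτ : ∀ {i i' : Tri f PX PS} (h : i ≤ i'), τ i' ≫ PX.tr (le_a h) = τ i) :
    ∃ m : T ⟶ X, ∀ i : Tri f PX PS, m ≫ PX.π.app (op i.a) = τ i := by
  let t : Cone (DX f PX PS) :=
    { pt := T
      π :=
        { app := fun i => τ i.unop
          naturality := by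
            intro i i' a
            have := hτ (leOfHom a.unop)
            change 𝟙 T ≫ τ i'.unop = τ i.unop ≫ PX.tr (le_a (leOfHom a.unop))
            rw [Category.id_comp, this] } }
  exact ⟨(hcX f PX PS).lift t, fun i => (hcX f PX PS).fac t (op i)⟩

end Tri

end Groth.Agent.Lib.Helper1.NA
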