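import Mathlib.AlgebraicGeometry.Morphisms.QuasiSeparated
import Mathlib.AlgebraicGeometry.AffineScheme
import Mathlib.AlgebraicGeometry.QuasiAffine

/-!
# Sections on an open subscheme of an affine scheme (helper1)
-/

set_option autoImplicit false
set_option linter.unusedSectionVars false
set_option linter.style.haveILetI false
universe u

namespace Groth.Agent.Lib.Helper1.NA

open AlgebraicGeometry CategoryTheory CategoryTheory.Limits TopologicalSpace Opposite

section toSpec

variable {X : Scheme.{u}} {A : Type u} [CommRing A]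

/-- The morphism `X ⟶ Spec A` attached to a ring map `A → Γ(X, ⊤)`. -/
noncomputable def toSpec (φ : A →+* Γ(X, ⊤)) : X ⟶ Spec (CommRingCat.of A) :=
  X.toSpecΓ ≫ Spec.map (CommRingCat.ofHom φ)

lemma comp_toSpec {Y : Scheme.{u}} (f : Y ⟶ X) (φ : A →+* Γ(X, ⊤)) :
    f ≫ toSpec φ = toSpec (f.appTop.hom.comp φ) := by
  unfold toSpec
  rw [← Category.assoc, Scheme.toSpecΓ_naturality, Category.assoc, ← Spec.map_comp]
  rfl

lemma toSpec_SpecMap {A' : Type u} [CommRing A'] (φ : A →+* Γ(X, ⊤)) (ψ : A' →+* A) :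
    toSpec φ ≫ Spec.map (CommRingCat.ofHom ψ) = toSpec (φ.comp ψ) := by
  unfold toSpec
  rw [Category.assoc, ← Spec.map_comp]
  rfl

lemma toSpec_preimage_basicOpen (φ : A →+* Γ(X, ⊤)) (a : A) :
    toSpec φ ⁻¹ᵁ (PrimeSpectrum.basicOpen a) = X.basicOpen (φ a) := by
  unfold toSpec
  rw [Scheme.Hom.comp_preimage]
  have : Spec.map (CommRingCat.ofHom φ) ⁻¹ᵁ PrimeSpectrum.basicOpen a =
      PrimeSpectrum.basicOpen (φ a) := rfl
  rw [this, Scheme.toSpecΓ_preimage_basicOpen]

end toSpec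

section

variable {Z W : Scheme.{u}} (j : Z ⟶ W) [IsOpenImmersion j] [IsAffine W] (f : Γ(W, ⊤))
  (hf : W.basicOpen f ≤ j.opensRange)

include hf in
lemma exists_pow_mul_eq_zero_of_appTop_eq_zero (r : Γ(W, ⊤)) (hr : j.appTop r = 0) :
    ∃ M : ℕ, f ^ M * r = 0 := by
  have := j.isIso_app _ hf
  have hinj : Function.Injective (j.app (W.basicOpen f)) :=
    ((ConcreteCategory.isIso_iff_bijective _).mp this).1
  have h0 : W.presheaf.map (homOfLE le_top).op r = (0 : Γ(W, W.basicOpen f)) := by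
    apply hinj
    rw [map_zero, ← CommRingCat.comp_apply, j.naturality, CommRingCat.comp_apply]
    change (Z.presheaf.map _) (j.appTop r) = 0
    rw [hr, map_zero]
  have hloc := (isAffineOpen_top W).isLocalization_basicOpen f
  have h1 : algebraMap Γ(W, ⊤) Γ(W, W.basicOpen f) r = 0 := h0
  obtain ⟨⟨_, M, rfl⟩, hM⟩ := (IsLocalization.map_eq_zero_iff (Submonoid.powers f) _ r).mp h1
  exact ⟨M, hM⟩

include hf in
lemma exists_appTop_eq_pow_mul [CompactSpace Z] [QuasiSeparatedSpace Z] (b : Γ(Z, ⊤)) :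
    ∃ (r : Γ(W, ⊤)) (M : ℕ), j.appTop r = (j.appTop f) ^ M * b := by
  have := j.isIso_app _ hf
  have hsurj : Function.Surjective (j.app (W.basicOpen f)) :=
    ((ConcreteCategory.isIso_iff_bijective _).mp this).2
  have hpre : j ⁻¹ᵁ W.basicOpen f = Z.basicOpen (j.appTop f) := Scheme.preimage_basicOpen_top j f
  obtain ⟨c, hc⟩ := hsurj (Z.presheaf.map (homOfLE le_top).op b)
  have hloc := (isAffineOpen_top W).isLocalization_basicOpen f
  obtain ⟨M, r, hr⟩ := IsLocalization.Away.surj f c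
  have key : ∀ (V : Z.Opens) (_ : V = Z.basicOpen (j.appTop f)) (x y : Γ(Z, ⊤)),
      Z.presheaf.map (homOfLE (le_top : V ≤ ⊤)).op x = Z.presheaf.map (homOfLE le_top).op y →
      ∃ n : ℕ, (j.appTop f) ^ n * x = (j.appTop f) ^ n * y := by
    rintro V rfl x y h
    exact exists_of_res_eq_of_qcqs_of_top h
  have hnat : ∀ x : Γ(W, ⊤), j.app (W.basicOpen f) (W.presheaf.map (homOfLE le_top).op x) =
      Z.presheaf.map (homOfLE (le_top : j ⁻¹ᵁ W.basicOpen f ≤ ⊤)).op (j.appTop x) := by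
    intro x
    rw [← CommRingCat.comp_apply, j.naturality, CommRingCat.comp_apply]
    rfl
  have h1 : Z.presheaf.map (homOfLE (le_top : j ⁻¹ᵁ W.basicOpen f ≤ ⊤)).op (j.appTop r) =
      Z.presheaf.map (homOfLE le_top).op ((j.appTop f) ^ M * b) := by
    rw [← hnat, map_mul, map_pow, ← hnat, ← hc]
    have hr' : c * (W.presheaf.map (homOfLE le_top).op f) ^ M =
        W.presheaf.map (homOfLE le_top).op r := hr
    rw [← hr', map_mul, map_pow, mul_comm]
  obtain ⟨n, hn⟩ := key _ hpre _ _ h1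
  refine ⟨f ^ n * r, n + M, ?_⟩
  rw [map_mul, map_pow, hn, pow_add, mul_assoc]

end

end Groth.Agent.Lib.Helper1.NA
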