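import Mathlib.AlgebraicGeometry.AffineTransitionLimit
import Mathlib.CategoryTheory.Filtered.Connected

/-!
# Equifibered families of opens in an inverse system of schemes (helper1)
-/

set_option autoImplicit false
set_option linter.unusedSectionVars false
set_option linter.style.haveILetI false
universe u

namespace Groth.Agent.Lib.Helper1.NA

open AlgebraicGeometry CategoryTheory CategoryTheory.Limits TopologicalSpace Opposite

namespace OpensFam

variable {I : Type u} [Preorder I] (DV : Iᵒᵖ ⥤ Scheme.{u})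
  (Zo : ∀ i : Iᵒᵖ, (DV.obj i).Opens)
  (hZo : ∀ (i i' : Iᵒᵖ) (a : i ⟶ i'), DV.map a ⁻¹ᵁ Zo i' = Zo i)

/-- The diagram of the opens. -/
noncomputable def ZD : Iᵒᵖ ⥤ Scheme.{u} where
  obj i := (Zo i : Scheme.{u})
  map {i i'} a := (DV.map a).resLE (Zo i') (Zo i) (le_of_eq (hZo i i' a).symm)
  map_id i := by
    apply (cancel_mono (Zo i).ι).mp
    rw [Scheme.Hom.resLE_comp_ι, Category.id_comp, DV.map_id, Category.comp_id]
  map_comp {i i' i''} a b := by
    apply (cancel_mono (Zo i'').ι).mp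
    rw [Scheme.Hom.resLE_comp_ι, Category.assoc, Scheme.Hom.resLE_comp_ι,
      Scheme.Hom.resLE_comp_ι_assoc, DV.map_comp]

/-- The inclusion of the diagram of opens. -/
noncomputable def ζ : ZD DV Zo hZo ⟶ DV where
  app i := (Zo i).ι
  naturality {i i'} a := Scheme.Hom.resLE_comp_ι _ _

instance (i : Iᵒᵖ) : IsOpenImmersion ((ζ DV Zo hZo).app i) :=
  inferInstanceAs (IsOpenImmersion (Zo i).ι)

lemma isPullback_ζ (i i' : Iᵒᵖ) (a : i ⟶ i') :
    IsPullback ((ZD DV Zo hZo).map a) ((ζ DV Zo hZo).app i) ((ζ DV Zo hZo).app i') (DV.map a) := by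
  refine IsOpenImmersion.isPullback _ (Zo i).ι (Zo i').ι _ (Scheme.Hom.resLE_comp_ι _ _).symm ?_
  rw [Scheme.Opens.opensRange_ι, Scheme.Opens.opensRange_ι]
  exact hZo i i' a

variable (cV : Cone DV) (ZV : cV.pt.Opens) (hZV : ∀ i : Iᵒᵖ, cV.π.app i ⁻¹ᵁ Zo i = ZV)

/-- The cone over the diagram of opens. -/
noncomputable def cZ : Cone (ZD DV Zo hZo) where
  pt := (ZV : Scheme.{u})
  π :=
    { app := fun i => (cV.π.app i).resLE (Zo i) ZV (le_of_eq (hZV i).symm)
      naturality := by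
        intro i i' a
        apply (cancel_mono (Zo i').ι).mp
        change (𝟙 _ ≫ (cV.π.app i').resLE (Zo i') ZV _) ≫ (Zo i').ι =
          ((cV.π.app i).resLE (Zo i) ZV _ ≫ (DV.map a).resLE (Zo i') (Zo i) _) ≫ (Zo i').ι
        rw [Category.id_comp, Scheme.Hom.resLE_comp_ι, Category.assoc, Scheme.Hom.resLE_comp_ι,
          Scheme.Hom.resLE_comp_ι_assoc]
        congr 1
        exact (cV.w a).symm }

lemma cZ_π_ι (i : Iᵒᵖ) :
    (cZ DV Zo hZo cV ZV hZV).π.app i ≫ (Zo i).ι = ZV.ι ≫ cV.π.app i :=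
  Scheme.Hom.resLE_comp_ι _ _

lemma isPullback_cZ (i : Iᵒᵖ) :
    IsPullback ((cZ DV Zo hZo cV ZV hZV).π.app i) ZV.ι ((ζ DV Zo hZo).app i) (cV.π.app i) := by
  refine IsOpenImmersion.isPullback _ ZV.ι (Zo i).ι _ (cZ_π_ι DV Zo hZo cV ZV hZV i).symm ?_
  rw [Scheme.Opens.opensRange_ι, Scheme.Opens.opensRange_ι]
  exact hZV i

variable [IsDirected I (fun a b => a ≤ b)] [Nonempty I]

/-- The cone over the diagram of opens is a limit cone. -/
noncomputable def isLimit_cZ (hcV : IsLimit cV) : IsLimit (cZ DV Zo hZo cV ZV hZV) :=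
  haveI : IsConnected Iᵒᵖ := IsCofiltered.isConnected _
  isLimitOfIsPullbackOfIsConnected (ζ DV Zo hZo) _ _
    { hom := ZV.ι
      w := fun i => (cZ_π_ι DV Zo hZo cV ZV hZV i).symm }
    (fun i => isPullback_cZ DV Zo hZo cV ZV hZV i) hcV

end OpensFam

end Groth.Agent.Lib.Helper1.NA
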