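import Groth.Agent.Lib.Helper1.NAMain

/-!
# Presentations of qcqs schemes as limits of schemes of finite type over `ℤ` (helper1)
-/

set_option autoImplicit false
set_option linter.unusedSectionVars false
set_option linter.style.haveILetI false
universe u

namespace Groth.Agent.Lib.Helper1.NA

open AlgebraicGeometry CategoryTheory CategoryTheory.Limits TopologicalSpace Opposite

/-- A presentation of `X` as a directed limit of schemes of finite type over `ℤ` with affine
transition maps. -/
structure Pres (X : Scheme.{u}) where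
  J : Type u
  [preJ : Preorder J]
  [dirJ : IsDirected J (fun a b => a ≤ b)]
  [neJ : Nonempty J]
  D : Jᵒᵖ ⥤ Scheme.{u}
  π : (Functor.const Jᵒᵖ).obj X ⟶ D
  hlim : IsLimit (Cone.mk X π)
  haff : ∀ (j j' : Jᵒᵖ) (a : j ⟶ j'), IsAffineHom (D.map a)
  hft : ∀ j, FTZ (D.obj j)

attribute [instance] Pres.preJ Pres.dirJ Pres.neJ

theorem nonempty_pres (X : Scheme.{u}) [CompactSpace X] [QuasiSeparatedSpace X] :
    Nonempty (Pres X) := by
  let DV : (PUnit.{u+1})ᵒᵖ ⥤ Scheme.{u} := (Functor.const _).obj (∅ : Scheme.{u})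
  let cV : Limits.Cone DV := { pt := (∅ : Scheme.{u}), π := 𝟙 _ }
  have hcV : Limits.IsLimit cV :=
    { lift := fun s => s.π.app (op PUnit.unit)
      fac := fun s j => by
        have : j = op PUnit.unit := rfl
        subst this
        exact Category.comp_id _
      uniq := fun s m hm => by
        have := hm (op PUnit.unit)
        rw [← this]
        exact (Category.comp_id _).symm }
  have haff : ∀ (i i' : (PUnit.{u+1})ᵒᵖ) (a : i ⟶ i'), IsAffineHom (DV.map a) := by
    intro i i' a
    change IsAffineHom (𝟙 (∅ : Scheme.{u}))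
    infer_instance
  have hft : ∀ i, FTZ (DV.obj i) := by
    intro i
    change FTZ (∅ : Scheme.{u})
    refine ⟨inferInstance, inferInstance⟩
  let v : cV.pt ⟶ X := Scheme.emptyTo X
  have hv : IsOpenImmersion v := by
    change IsOpenImmersion (Scheme.emptyTo X)
    infer_instance
  obtain ⟨E⟩ := nonempty_ext_of_qcqs DV haff hft cV hcV v
  exact ⟨{ J := E.J, D := E.DS, π := E.π, hlim := E.hlim, haff := E.haff, hft := E.hft }⟩

namespace Pres

variable {X : Scheme.{u}} (P : Pres X)

/-- The cone of the presentation. -/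
abbrev cone : Cone P.D := Cone.mk X P.π

instance isAffineHom_map {j j' : P.Jᵒᵖ} (a : j ⟶ j') : IsAffineHom (P.D.map a) := P.haff j j' a

instance compactSpace_obj (j : P.Jᵒᵖ) : CompactSpace (P.D.obj j) := (P.hft j).1

instance lft_obj (j : P.Jᵒᵖ) :
    LocallyOfFiniteType (IsTerminal.from specULiftZIsTerminal (P.D.obj j)) := (P.hft j).2

instance quasiSeparatedSpace_obj (j : P.Jᵒᵖ) : QuasiSeparatedSpace (P.D.obj j) :=
  (P.hft j).quasiSeparatedSpace

instance isLocallyNoetherian_obj (j : P.Jᵒᵖ) : IsLocallyNoetherian (P.D.obj j) :=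
  (P.hft j).isLocallyNoetherian

/-- The structure maps to `Spec ℤ`. -/
noncomputable def toZ : P.D ⟶ (Functor.const P.Jᵒᵖ).obj (Spec (CommRingCat.of (ULift.{u} ℤ))) where
  app j := IsTerminal.from specULiftZIsTerminal (P.D.obj j)
  naturality _ _ _ := specULiftZIsTerminal.hom_ext _ _

/-- The transition maps. -/
noncomputable abbrev tr {a a' : P.J} (h : a ≤ a') : P.D.obj (op a') ⟶ P.D.obj (op a) :=
  P.D.map (homOfLE h).op

lemma tr_tr {a a' a'' : P.J} (h : a ≤ a') (h' : a' ≤ a'') : P.tr h' ≫ P.tr h = P.tr (h.trans h') := by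
  unfold tr
  rw [← Functor.map_comp]
  rfl

lemma tr_refl (a : P.J) : P.tr (le_refl a) = 𝟙 _ := P.D.map_id _

lemma π_tr {a a' : P.J} (h : a ≤ a') : P.π.app (op a') ≫ P.tr h = P.π.app (op a) :=
  (Cone.mk X P.π).w (homOfLE h).op

end Pres

theorem lfp_of_lft_of_isLocallyNoetherian {X Y : Scheme.{u}} [IsLocallyNoetherian X] (f : Y ⟶ X)
    [hf : LocallyOfFiniteType f] : LocallyOfFinitePresentation f := by
  rw [HasRingHomProperty.iff_appLE (P := @LocallyOfFinitePresentation)]
  intro U V e
  have : IsNoetherianRing Γ(X, U.1) := IsLocallyNoetherian.component_noetherian U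
  exact RingHom.FinitePresentation.of_finiteType.1
    ((HasRingHomProperty.iff_appLE (P := @LocallyOfFiniteType)).1 hf U V e)

section factor

variable {X : Scheme.{u}} (P : Pres X) {T : Scheme.{u}} (hT : FTZ T)

include hT in
/-- A morphism from the limit to a scheme of finite type over `ℤ` factors through a stage. -/
theorem Pres.exists_factor (q : X ⟶ T) :
    ∃ (a : P.J) (g : P.D.obj (op a) ⟶ T), P.π.app (op a) ≫ g = q := by
  have := hT.2
  have : IsLocallyNoetherian (Spec (CommRingCat.of (ULift.{u} ℤ))) := inferInstance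
  have : LocallyOfFinitePresentation (IsTerminal.from specULiftZIsTerminal T) :=
    lfp_of_lft_of_isLocallyNoetherian _
  obtain ⟨i, g, hg, -⟩ := Scheme.exists_π_app_comp_eq_of_locallyOfFinitePresentation P.D P.toZ
    (IsTerminal.from specULiftZIsTerminal T) P.cone P.hlim q (by
      ext j
      exact specULiftZIsTerminal.hom_ext _ _)
  exact ⟨i.unop, g, hg⟩

include hT in
/-- Two morphisms from stages to a scheme of finite type over `ℤ` which agree on the limit agree
on a later stage. -/
theorem Pres.exists_eq {a₁ a₂ : P.J} (g₁ : P.D.obj (op a₁) ⟶ T) (g₂ : P.D.obj (op a₂) ⟶ T)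
    (h : P.π.app (op a₁) ≫ g₁ = P.π.app (op a₂) ≫ g₂) :
    ∃ (a : P.J) (h₁ : a₁ ≤ a) (h₂ : a₂ ≤ a), P.tr h₁ ≫ g₁ = P.tr h₂ ≫ g₂ := by
  have := hT.2
  obtain ⟨k, hik, hjk, hk⟩ := Scheme.exists_hom_hom_comp_eq_comp_of_locallyOfFiniteType P.D P.toZ
    (IsTerminal.from specULiftZIsTerminal T) P.cone P.hlim g₁
    (specULiftZIsTerminal.hom_ext _ _) g₂ (specULiftZIsTerminal.hom_ext _ _) h
  exact ⟨k.unop, leOfHom hik.unop, leOfHom hjk.unop, hk⟩

end factor

end Groth.Agent.Lib.Helper1.NA
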