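import Mathlib.CategoryTheory.Filtered.Final
import Mathlib.CategoryTheory.Limits.Final
import Mathlib.Order.Directed

/-!
# Upper sets of a directed preorder (helper1)
-/

set_option autoImplicit false
set_option linter.unusedSectionVars false
set_option linter.style.haveILetI false
universe u

namespace Groth.Agent.Lib.Helper1.NA

open CategoryTheory CategoryTheory.Limits Opposite

variable {I : Type u} [Preorder I] [IsDirected I (fun a b => a ≤ b)]

/-- The up-set `{i // i₀ ≤ i}`. -/
abbrev Up (i₀ : I) : Type u := {i : I // i₀ ≤ i}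

instance (i₀ : I) : IsDirected (Up i₀) (fun a b => a ≤ b) where
  directed a b := by
    obtain ⟨c, hac, hbc⟩ := exists_ge_ge a.1 b.1
    exact ⟨⟨c, a.2.trans hac⟩, hac, hbc⟩

instance (i₀ : I) : Nonempty (Up i₀) := ⟨⟨i₀, le_refl _⟩⟩

/-- The inclusion of the up-set. -/
def upIncl (i₀ : I) : Up i₀ →o I := ⟨Subtype.val, fun _ _ h => h⟩

/-- The inclusion functor on opposite categories. -/
abbrev upF (i₀ : I) : (Up i₀)ᵒᵖ ⥤ Iᵒᵖ := (upIncl i₀).monotone.functor.op

instance (i₀ : I) : (upF i₀).Initial := by
  have : ((upIncl i₀).monotone.functor).Final := by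
    rw [Monotone.final_functor_iff]
    intro i
    obtain ⟨c, hic, h0c⟩ := exists_ge_ge i i₀
    exact ⟨⟨c, h0c⟩, hic⟩
  infer_instance

end Groth.Agent.Lib.Helper1.NA
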