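import Groth.Agent.Lib.Helper1.NALimit
import Groth.Agent.Lib.Helper1.NAExt2
import Groth.Agent.Lib.Helper1.NAOpens
import Groth.Agent.Lib.Helper1.NAUp

/-!
# Noetherian approximation: reduction of the one-step extension to the core situation (helper1)
-/

set_option autoImplicit false
set_option linter.unusedSectionVars false
set_option linter.style.haveILetI false
universe u

namespace Groth.Agent.Lib.Helper1.NA

open AlgebraicGeometry CategoryTheory CategoryTheory.Limits TopologicalSpace Opposite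

section zW

variable {V S W : Scheme.{u}} (v : V ⟶ S) [IsOpenImmersion v] (w : W ⟶ S) [IsOpenImmersion w]
  (ZV : V.Opens) (hZVw : v ⁻¹ᵁ w.opensRange = ZV)

include hZVw in
lemma range_ι_v_subset : Set.range (ZV.ι ≫ v) ⊆ Set.range w := by
  rintro _ ⟨z, rfl⟩
  have hz : (ZV.ι z) ∈ v ⁻¹ᵁ w.opensRange := by rw [hZVw]; exact z.2
  exact hz

/-- The open immersion `V ∩ W ⟶ W`. -/
noncomputable def zWmap : (ZV : Scheme.{u}) ⟶ W :=
  IsOpenImmersion.lift w (ZV.ι ≫ v) (range_ι_v_subset v w ZV hZVw)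

@[reassoc]
lemma zWmap_w : zWmap v w ZV hZVw ≫ w = ZV.ι ≫ v := IsOpenImmersion.lift_fac _ _ _

instance : IsOpenImmersion (zWmap v w ZV hZVw) := by
  have : IsOpenImmersion (zWmap v w ZV hZVw ≫ w) := by rw [zWmap_w]; infer_instance
  exact IsOpenImmersion.of_comp _ w

lemma isPullback_zWmap : IsPullback ZV.ι (zWmap v w ZV hZVw) v w := by
  refine (IsOpenImmersion.isPullback (zWmap v w ZV hZVw) ZV.ι w v (zWmap_w v w ZV hZVw).symm ?_).flip
  rw [Scheme.Opens.opensRange_ι]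
  exact hZVw

end zW

section R2b

variable {I : Type u} [Preorder I] [IsDirected I (fun a b => a ≤ b)] [Nonempty I]
  (DV : Iᵒᵖ ⥤ Scheme.{u}) (haff : ∀ (i i' : Iᵒᵖ) (a : i ⟶ i'), IsAffineHom (DV.map a))
  (hft : ∀ i, FTZ (DV.obj i)) (cV : Cone DV) (hcV : IsLimit cV)
  {S W : Scheme.{u}} (v : cV.pt ⟶ S) [IsOpenImmersion v] [IsAffine W] (w : W ⟶ S)
  [IsOpenImmersion w] (hcov : ∀ x : S, x ∈ Set.range v ∨ x ∈ Set.range w)
  (Zo : ∀ i : Iᵒᵖ, (DV.obj i).Opens)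
  (hZo : ∀ (i i' : Iᵒᵖ) (a : i ⟶ i'), DV.map a ⁻¹ᵁ Zo i' = Zo i)
  (ZV : cV.pt.Opens) (hZV : ∀ i : Iᵒᵖ, cV.π.app i ⁻¹ᵁ Zo i = ZV)
  (hZVw : v ⁻¹ᵁ w.opensRange = ZV)

include haff hft hcV hcov in
theorem nonempty_ext_of_sections (i₂ : I) (n : ℕ) (f : Fin n → Γ(W, ⊤))
    (g₂ : Fin n → Γ((Zo (op i₂) : Scheme.{u}), ⊤))
    (h1 : (zWmap v w ZV hZVw).opensRange = ⨆ k, W.basicOpen (f k))
    (h2 : ∀ k, ((OpensFam.cZ DV Zo hZo cV ZV hZV).π.app (op i₂)).appTop (g₂ k) =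
      (zWmap v w ZV hZVw).appTop (f k))
    (h3 : ∀ k, IsAffineOpen ((Zo (op i₂) : Scheme.{u}).basicOpen (g₂ k)))
    (h4 : ⨆ k, (Zo (op i₂) : Scheme.{u}).basicOpen (g₂ k) = ⊤) :
    Nonempty (Ext DV cV v) := by
  let F := upF i₂
  let DV' : (Up i₂)ᵒᵖ ⥤ Scheme.{u} := F ⋙ DV
  let cV' : Cone DV' := cV.whisker F
  have hcV' : IsLimit cV' := (Functor.Initial.isLimitWhiskerEquiv F cV).symm hcV
  let Zo' : ∀ i : (Up i₂)ᵒᵖ, (DV'.obj i).Opens := fun i => Zo (F.obj i)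
  have hZo' : ∀ (i i' : (Up i₂)ᵒᵖ) (a : i ⟶ i'), DV'.map a ⁻¹ᵁ Zo' i' = Zo' i :=
    fun i i' a => hZo _ _ (F.map a)
  have hZV' : ∀ i : (Up i₂)ᵒᵖ, cV'.π.app i ⁻¹ᵁ Zo' i = ZV := fun i => hZV _
  let b₂ : Up i₂ := ⟨i₂, le_refl _⟩
  have hb : ∀ i : (Up i₂)ᵒᵖ, b₂ ≤ i.unop := fun i => i.unop.2
  -- the transition maps from level `i` down to level `i₂`
  let ZD' : (Up i₂)ᵒᵖ ⥤ Scheme.{u} := OpensFam.ZD DV' Zo' hZo'
  let cZ' : Cone ZD' := OpensFam.cZ DV' Zo' hZo' cV' ZV hZV'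
  let tm : ∀ i : (Up i₂)ᵒᵖ, ZD'.obj i ⟶ ZD'.obj (op b₂) := fun i =>
    ZD'.map (homOfLE (hb i)).op
  let g₂' : Fin n → Γ(ZD'.obj (op b₂), ⊤) := g₂
  have h3' : ∀ k, IsAffineOpen ((ZD'.obj (op b₂)).basicOpen (g₂' k)) := h3
  have h4' : ⨆ k, (ZD'.obj (op b₂)).basicOpen (g₂' k) = ⊤ := h4
  have htm : ∀ (i i' : (Up i₂)ᵒᵖ) (a : i ⟶ i'), ZD'.map a ≫ tm i' = tm i := by
    intro i i' a
    change ZD'.map a ≫ ZD'.map _ = ZD'.map _
    rw [← Functor.map_comp]
    rfl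
  have hπtm : ∀ i : (Up i₂)ᵒᵖ, cZ'.π.app i ≫ tm i = cZ'.π.app (op b₂) := by
    intro i
    exact cZ'.w (homOfLE (hb i)).op
  have h2' : ∀ k, (cZ'.π.app (op b₂)).appTop (g₂' k) = (zWmap v w ZV hZVw).appTop (f k) := h2
  have haff' : ∀ (i i' : (Up i₂)ᵒᵖ) (a : i ⟶ i'), IsAffineHom (DV'.map a) :=
    fun i i' a => haff _ _ (F.map a)
  have hafftm : ∀ i, IsAffineHom (tm i) := fun i =>
    MorphismProperty.of_isPullback (P := @IsAffineHom)
      (OpensFam.isPullback_ζ DV' Zo' hZo' i (op b₂) (homOfLE (hb i)).op).flip (haff' _ _ _)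
  have hzW' : IsOpenImmersion (zWmap v w ZV hZVw) := inferInstance
  have hbo : ∀ i k, (ZD'.obj i).basicOpen ((tm i).appTop (g₂' k)) =
      tm i ⁻¹ᵁ (ZD'.obj (op b₂)).basicOpen (g₂' k) :=
    fun i k => (Scheme.preimage_basicOpen_top _ _).symm
  let C : Core (Up i₂) :=
    { DV := DV'
      haff := haff'
      hft := fun i => hft _
      cV := cV'
      hcV := hcV'
      ZD := ZD'
      ζ := OpensFam.ζ DV' Zo' hZo'
      hζ := fun i => inferInstanceAs (IsOpenImmersion ((OpensFam.ζ DV' Zo' hZo').app i))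
      hζpb := OpensFam.isPullback_ζ DV' Zo' hZo'
      cZ := cZ'
      hcZ := OpensFam.isLimit_cZ DV' Zo' hZo' cV' ZV hZV' hcV'
      zV := ZV.ι
      hzV := OpensFam.isPullback_cZ DV' Zo' hZo' cV' ZV hZV'
      W := W
      hW := inferInstance
      zW := zWmap v w ZV hZVw
      hzW := hzW'
      S := S
      v := v
      w := w
      hv := inferInstance
      hw := inferInstance
      hpb := isPullback_zWmap v w ZV hZVw
      hcov := hcov
      n := n
      f := f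
      g := fun i k => (tm i).appTop (g₂' k)
      hg_map := by
        intro i i' a k
        have := congrArg (fun m => (Scheme.Hom.appTop m) (g₂' k)) (htm i i' a)
        exact this
      hg_π := by
        intro i k
        have := congrArg (fun m => (Scheme.Hom.appTop m) (g₂' k)) (hπtm i)
        exact this.trans (h2' k)
      hrange := h1
      haffg := by
        intro i k
        have h := hafftm i
        have := (h3' k).preimage (tm i)
        rw [← hbo] at this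
        exact this
      hcovg := by
        intro i
        have : ⨆ k, tm i ⁻¹ᵁ (ZD'.obj (op b₂)).basicOpen (g₂' k) = ⊤ := by
          rw [← Scheme.Hom.preimage_iSup, h4', Scheme.Hom.preimage_top]
        simp_rw [← hbo] at this
        exact this }
  exact ⟨Ext.comap (upIncl i₂) C.ext⟩

end R2b

end Groth.Agent.Lib.Helper1.NA
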