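import Groth.Agent.Lib.Helper1.NAReduce

/-!
# Noetherian approximation: existence of the sections needed for the core situation (helper1)
-/

set_option autoImplicit false
set_option linter.unusedSectionVars false
set_option linter.style.haveILetI false
universe u

namespace Groth.Agent.Lib.Helper1.NA

open AlgebraicGeometry CategoryTheory CategoryTheory.Limits TopologicalSpace Opposite

/-- A compact open of an affine scheme is a finite union of basic opens. -/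
lemma exists_fin_basicOpen {W : Scheme.{u}} [IsAffine W] (U : W.Opens)
    (hU : IsCompact (U : Set W)) :
    ∃ (n : ℕ) (f : Fin n → Γ(W, ⊤)), U = ⨆ k, W.basicOpen (f k) := by
  obtain ⟨Us, hsub, hfin, hsup⟩ := (isBasis_basicOpen W).exists_finite_of_isCompact hU
  have : Finite Us := hfin
  let e := (Finite.equivFin Us).symm
  have hr : ∀ x : Us, ∃ r : Γ(W, ⊤), W.basicOpen r = x.1 := fun x => hsub x.2
  choose r hr using hr
  refine ⟨_, fun k => r (e k), ?_⟩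
  rw [hsup, sSup_eq_iSup']
  simp_rw [hr]
  exact (e.iSup_comp (g := fun x : Us => (x : W.Opens))).symm

section R2a

variable {I : Type u} [Preorder I] [IsDirected I (fun a b => a ≤ b)] [Nonempty I]
  (DV : Iᵒᵖ ⥤ Scheme.{u}) (haff : ∀ (i i' : Iᵒᵖ) (a : i ⟶ i'), IsAffineHom (DV.map a))
  (hft : ∀ i, FTZ (DV.obj i)) (cV : Cone DV) (hcV : IsLimit cV)
  {S W : Scheme.{u}} (v : cV.pt ⟶ S) [IsOpenImmersion v] [IsAffine W] (w : W ⟶ S)
  [IsOpenImmersion w]
  (Zo : ∀ i : Iᵒᵖ, (DV.obj i).Opens)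
  (hZo : ∀ (i i' : Iᵒᵖ) (a : i ⟶ i'), DV.map a ⁻¹ᵁ Zo i' = Zo i)
  (hZoc : ∀ i, IsCompact (Zo i : Set (DV.obj i)))
  (ZV : cV.pt.Opens) (hZV : ∀ i : Iᵒᵖ, cV.π.app i ⁻¹ᵁ Zo i = ZV)
  (hZVw : v ⁻¹ᵁ w.opensRange = ZV)

include haff hft hcV hZoc in
theorem exists_sections :
    ∃ (i₂ : I) (n : ℕ) (f : Fin n → Γ(W, ⊤)) (g₂ : Fin n → Γ((Zo (op i₂) : Scheme.{u}), ⊤)),
      (zWmap v w ZV hZVw).opensRange = ⨆ k, W.basicOpen (f k) ∧
      (∀ k, ((OpensFam.cZ DV Zo hZo cV ZV hZV).π.app (op i₂)).appTop (g₂ k) =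
        (zWmap v w ZV hZVw).appTop (f k)) ∧
      (∀ k, IsAffineOpen ((Zo (op i₂) : Scheme.{u}).basicOpen (g₂ k))) ∧
      ⨆ k, (Zo (op i₂) : Scheme.{u}).basicOpen (g₂ k) = ⊤ := by
  classical
  let ZD := OpensFam.ZD DV Zo hZo
  let cZ : Cone ZD := OpensFam.cZ DV Zo hZo cV ZV hZV
  have hcZ : IsLimit cZ := OpensFam.isLimit_cZ DV Zo hZo cV ZV hZV hcV
  let zW : cZ.pt ⟶ W := zWmap v w ZV hZVw
  have hzW : IsOpenImmersion zW := inferInstanceAs (IsOpenImmersion (zWmap v w ZV hZVw))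
  -- instances
  have hA : ∀ {i j : Iᵒᵖ} (a : i ⟶ j), IsAffineHom (ZD.map a) := fun {i j} a =>
    MorphismProperty.of_isPullback (P := @IsAffineHom)
      (OpensFam.isPullback_ζ DV Zo hZo i j a).flip (haff _ _ a)
  have hC : ∀ i, CompactSpace (ZD.obj i) := fun i => isCompact_iff_compactSpace.mp (hZoc i)
  have hQ : ∀ i, QuasiSeparatedSpace (ZD.obj i) := fun i =>
    have := (hft i).quasiSeparatedSpace
    (Zo i).ι.isOpenEmbedding.quasiSeparatedSpace
  have hCZ : CompactSpace cZ.pt := Scheme.compactSpace_of_isLimit ZD cZ hcZ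
  -- transition maps
  let T : ∀ {i i' : I} (_ : i ≤ i'), ZD.obj (op i') ⟶ ZD.obj (op i) :=
    fun h => ZD.map (homOfLE h).op
  have hTT : ∀ {i i' i'' : I} (h : i ≤ i') (h' : i' ≤ i''), T h' ≫ T h = T (h.trans h') := by
    intro i i' i'' h h'
    change ZD.map _ ≫ ZD.map _ = ZD.map _
    rw [← Functor.map_comp]; rfl
  have hπT : ∀ {i i' : I} (h : i ≤ i'), cZ.π.app (op i') ≫ T h = cZ.π.app (op i) :=
    fun h => cZ.w (homOfLE h).op
  have hTaff : ∀ {i i' : I} (h : i ≤ i'), IsAffineHom (T h) := fun h => hA _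
  -- the elements `f`
  obtain ⟨n, f, hf⟩ := exists_fin_basicOpen zW.opensRange (isCompact_range zW.continuous)
  -- lifting to a finite level
  have hg : ∀ k, ∃ (i : Iᵒᵖ) (t : Γ(ZD.obj i, ⊤)), zW.appTop (f k) = (cZ.π.app i).appTop t :=
    fun k => exists_appTop_π_eq_of_isLimit ZD cZ hcZ (zW.appTop (f k))
  choose ik tk htk using hg
  obtain ⟨i₁, hi₁⟩ := Finset.exists_le (Finset.univ.image (fun k => (ik k).unop))
  have hle₁ : ∀ k, (ik k).unop ≤ i₁ :=
    fun k => hi₁ _ (Finset.mem_image_of_mem _ (Finset.mem_univ k))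
  let g₁ : Fin n → Γ(ZD.obj (op i₁), ⊤) := fun k => (T (hle₁ k)).appTop (tk k)
  have hg₁ : ∀ k, (cZ.π.app (op i₁)).appTop (g₁ k) = zW.appTop (f k) := by
    intro k
    rw [htk k]
    have := congrArg (fun m => (Scheme.Hom.appTop m) (tk k)) (hπT (hle₁ k))
    exact this
  -- the affine cover of the limit
  let U : Fin n → cZ.pt.Opens := fun k => cZ.pt.basicOpen (zW.appTop (f k))
  have hUpre : ∀ k, U k = zW ⁻¹ᵁ W.basicOpen (f k) :=
    fun k => (Scheme.preimage_basicOpen_top zW (f k)).symm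
  have hUcov : IsOpenCover U := by
    change ⨆ k, U k = ⊤
    simp_rw [hUpre]
    rw [← Scheme.Hom.preimage_iSup, ← hf]
    exact zW.preimage_opensRange
  have hUaff : ∀ k, IsAffineOpen (U k) := by
    intro k
    rw [hUpre]
    exact ((isAffineOpen_top W).basicOpen (f k)).preimage_of_isOpenImmersion zW
      (by rw [hf]; exact le_iSup (fun k => W.basicOpen (f k)) k)
  obtain ⟨ia, Va, hVcov, hVa⟩ :=
    Scheme.exists_isOpenCover_and_isAffine_of_finite ZD cZ hcZ U hUcov hUaff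
  obtain ⟨ib, h1b, hab⟩ := exists_ge_ge i₁ ia.unop
  let Va' : Fin n → (ZD.obj (op ia.unop)).Opens := Va
  have hVa' : ∀ k, IsAffineOpen (Va' k) ∧ U k = cZ.π.app (op ia.unop) ⁻¹ᵁ Va' k := hVa
  have hVcov' : ⨆ k, Va' k = ⊤ := hVcov
  let gb : Fin n → Γ(ZD.obj (op ib), ⊤) := fun k => (T h1b).appTop (g₁ k)
  have hgb : ∀ k, (cZ.π.app (op ib)).appTop (gb k) = zW.appTop (f k) := by
    intro k
    rw [← hg₁ k]
    have := congrArg (fun m => (Scheme.Hom.appTop m) (g₁ k)) (hπT h1b)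
    exact this
  have hk : ∀ k, ∃ (j : I) (hj : ib ≤ j), T hj ⁻¹ᵁ (T hab ⁻¹ᵁ Va' k) =
      T hj ⁻¹ᵁ ((ZD.obj (op ib)).basicOpen (gb k)) := by
    intro k
    have h1 : IsCompact ((T hab ⁻¹ᵁ Va' k : (ZD.obj (op ib)).Opens) : Set (ZD.obj (op ib))) := by
      have := hTaff hab
      exact ((hVa' k).1.preimage (T hab)).isCompact
    have h2 : IsCompact (((ZD.obj (op ib)).basicOpen (gb k) : (ZD.obj (op ib)).Opens) :
        Set (ZD.obj (op ib))) := isCompact_basicOpen _ isCompact_univ _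
    have h3 : cZ.π.app (op ib) ⁻¹ᵁ (T hab ⁻¹ᵁ Va' k) =
        cZ.π.app (op ib) ⁻¹ᵁ ((ZD.obj (op ib)).basicOpen (gb k)) := by
      rw [← Scheme.Hom.comp_preimage, hπT hab, ← (hVa' k).2, Scheme.preimage_basicOpen_top,
        hgb k]
      rfl
    obtain ⟨j, a, ha⟩ := exists_map_preimage_eq_map_preimage ZD cZ hcZ h1 h2 h3
    exact ⟨j.unop, leOfHom a.unop, ha⟩
  choose jk hjk hjk' using hk
  obtain ⟨i₂, hi₂⟩ := Finset.exists_le (insert ib (Finset.univ.image jk))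
  have hb2 : ib ≤ i₂ := hi₂ _ (Finset.mem_insert_self _ _)
  have hle₂ : ∀ k, jk k ≤ i₂ := fun k =>
    hi₂ _ (Finset.mem_insert_of_mem (Finset.mem_image_of_mem _ (Finset.mem_univ k)))
  let g₂ : Fin n → Γ(ZD.obj (op i₂), ⊤) := fun k => (T hb2).appTop (gb k)
  have hg₂ : ∀ k, (cZ.π.app (op i₂)).appTop (g₂ k) = zW.appTop (f k) := by
    intro k
    rw [← hgb k]
    have := congrArg (fun m => (Scheme.Hom.appTop m) (gb k)) (hπT hb2)
    exact this
  have key : ∀ k, (ZD.obj (op i₂)).basicOpen (g₂ k) = T (hab.trans hb2) ⁻¹ᵁ Va' k := by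
    intro k
    have e1 : (ZD.obj (op i₂)).basicOpen (g₂ k) =
        T hb2 ⁻¹ᵁ ((ZD.obj (op ib)).basicOpen (gb k)) :=
      (Scheme.preimage_basicOpen_top _ _).symm
    rw [e1, ← hTT (hjk k) (hle₂ k), Scheme.Hom.comp_preimage, ← hjk' k,
      ← Scheme.Hom.comp_preimage, ← Scheme.Hom.comp_preimage, hTT, hTT]
  refine ⟨i₂, n, f, g₂, hf, hg₂, ?_, ?_⟩
  · intro k
    have := hTaff (hab.trans hb2)
    have h := (hVa' k).1.preimage (T (hab.trans hb2))
    rw [← key k] at h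
    exact h
  · have : ⨆ k, T (hab.trans hb2) ⁻¹ᵁ Va' k = ⊤ := by
      rw [← Scheme.Hom.preimage_iSup, hVcov', Scheme.Hom.preimage_top]
    simp_rw [← key] at this
    exact this

end R2a

end Groth.Agent.Lib.Helper1.NA
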