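import Groth.Agent.Lib.Helper1.NAReduce2

/-!
# Noetherian approximation: adding one affine open (helper1)
-/

set_option autoImplicit false
set_option linter.unusedSectionVars false
set_option linter.style.haveILetI false
universe u

namespace Groth.Agent.Lib.Helper1.NA

open AlgebraicGeometry CategoryTheory CategoryTheory.Limits TopologicalSpace Opposite

section

variable {I : Type u} [Preorder I] [IsDirected I (fun a b => a ≤ b)] [Nonempty I]
  (DV : Iᵒᵖ ⥤ Scheme.{u}) (haff : ∀ (i i' : Iᵒᵖ) (a : i ⟶ i'), IsAffineHom (DV.map a))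
  (hft : ∀ i, FTZ (DV.obj i)) (cV : Cone DV) (hcV : IsLimit cV)
  {S W : Scheme.{u}} (v : cV.pt ⟶ S) [IsOpenImmersion v] [IsAffine W] (w : W ⟶ S)
  [IsOpenImmersion w] (hcov : ∀ x : S, x ∈ Set.range v ∨ x ∈ Set.range w)

include haff hft hcV hcov in
theorem nonempty_ext_of_family
    (Zo : ∀ i : Iᵒᵖ, (DV.obj i).Opens)
    (hZo : ∀ (i i' : Iᵒᵖ) (a : i ⟶ i'), DV.map a ⁻¹ᵁ Zo i' = Zo i)
    (hZoc : ∀ i, IsCompact (Zo i : Set (DV.obj i)))
    (ZV : cV.pt.Opens) (hZV : ∀ i : Iᵒᵖ, cV.π.app i ⁻¹ᵁ Zo i = ZV)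
    (hZVw : v ⁻¹ᵁ w.opensRange = ZV) : Nonempty (Ext DV cV v) := by
  obtain ⟨i₂, n, f, g₂, h1, h2, h3, h4⟩ :=
    exists_sections DV haff hft cV hcV v w Zo hZo hZoc ZV hZV hZVw
  exact nonempty_ext_of_sections DV haff hft cV hcV v w hcov Zo hZo ZV hZV hZVw i₂ n f g₂ h1 h2 h3 h4

include haff hft hcV hcov in
/-- The one-step extension: adding one affine open. -/
theorem nonempty_ext_of_affine [QuasiSeparatedSpace S] : Nonempty (Ext DV cV v) := by
  have hA : ∀ {i j : Iᵒᵖ} (a : i ⟶ j), IsAffineHom (DV.map a) := fun a => haff _ _ a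
  have hC : ∀ i, CompactSpace (DV.obj i) := fun i => (hft i).1
  have hCV : CompactSpace cV.pt := Scheme.compactSpace_of_isLimit DV cV hcV
  let ZV : cV.pt.Opens := v ⁻¹ᵁ w.opensRange
  have hZVc : IsCompact (ZV : Set cV.pt) := by
    have h1 : IsCompact (Set.range v ∩ Set.range w) :=
      QuasiSeparatedSpace.inter_isCompact _ _ v.opensRange.2 (isCompact_range v.continuous)
        w.opensRange.2 (isCompact_range w.continuous)
    have h2 := v.isOpenEmbedding.isInducing.isCompact_preimage' h1 Set.inter_subset_left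
    have h3 : (ZV : Set cV.pt) = v ⁻¹' (Set.range v ∩ Set.range w) := by
      ext x
      simp only [Set.mem_preimage, Set.mem_inter_iff, Set.mem_range, exists_apply_eq_apply,
        true_and]
      rfl
    rw [h3]
    exact h2
  obtain ⟨i₀, Z₀, hZ₀c, hZ₀⟩ := exists_preimage_eq DV cV hcV ZV hZVc
  let F := upF i₀.unop
  let DV' : (Up i₀.unop)ᵒᵖ ⥤ Scheme.{u} := F ⋙ DV
  let cV' : Cone DV' := cV.whisker F
  have hcV' : IsLimit cV' := (Functor.Initial.isLimitWhiskerEquiv F cV).symm hcV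
  let tm : ∀ i : (Up i₀.unop)ᵒᵖ, DV'.obj i ⟶ DV.obj i₀ := fun i =>
    DV.map (homOfLE i.unop.2).op
  let Zo' : ∀ i : (Up i₀.unop)ᵒᵖ, (DV'.obj i).Opens := fun i => tm i ⁻¹ᵁ Z₀
  have htm : ∀ (i i' : (Up i₀.unop)ᵒᵖ) (a : i ⟶ i'), DV'.map a ≫ tm i' = tm i := by
    intro i i' a
    change DV.map _ ≫ DV.map _ = DV.map _
    rw [← Functor.map_comp]
    rfl
  have hπtm : ∀ i : (Up i₀.unop)ᵒᵖ, cV'.π.app i ≫ tm i = cV.π.app i₀ := by
    intro i
    exact cV.w (homOfLE i.unop.2).op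
  have hZo' : ∀ (i i' : (Up i₀.unop)ᵒᵖ) (a : i ⟶ i'), DV'.map a ⁻¹ᵁ Zo' i' = Zo' i := by
    intro i i' a
    change DV'.map a ⁻¹ᵁ (tm i' ⁻¹ᵁ Z₀) = tm i ⁻¹ᵁ Z₀
    rw [← Scheme.Hom.comp_preimage, htm]
  have hZoc' : ∀ i, IsCompact (Zo' i : Set (DV'.obj i)) := by
    intro i
    have : IsAffineHom (tm i) := hA _
    exact QuasiCompact.isCompact_preimage (f := tm i) _ Z₀.2 hZ₀c
  have hZV' : ∀ i : (Up i₀.unop)ᵒᵖ, cV'.π.app i ⁻¹ᵁ Zo' i = ZV := by
    intro i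
    change cV'.π.app i ⁻¹ᵁ (tm i ⁻¹ᵁ Z₀) = ZV
    rw [← Scheme.Hom.comp_preimage, hπtm, hZ₀]
  obtain ⟨E⟩ := nonempty_ext_of_family DV' (fun i i' a => haff _ _ (F.map a)) (fun i => hft _)
    cV' hcV' v w hcov Zo' hZo' hZoc' ZV hZV' rfl
  exact ⟨Ext.comap (upIncl i₀.unop) E⟩

end

end Groth.Agent.Lib.Helper1.NA
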