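import Mathlib.RingTheory.Localization.Away.Basic
import Mathlib.Algebra.Ring.Subring.Basic
import Mathlib.RingTheory.FiniteType

/-!
# Ring-theoretic lemmas for Noetherian approximation (helper1)

`R → B ← Bi`, `f ∈ R`, `g ∈ Bi` with the same image in `B`.  A subring `A` of the fibre product
`R ×_B Bi` containing `h = (f, g)`.
-/

set_option autoImplicit false
set_option linter.unusedSectionVars false
set_option linter.style.haveILetI false
universe u

namespace Groth.Agent.Lib.Helper1.NA

/-- The fibre product `R ×_B Bi` as a subring of `R × Bi`. -/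
def fibProd {R B Bi : Type u} [CommRing R] [CommRing B] [CommRing Bi]
    (res : R →+* B) (pi : Bi →+* B) : Subring (R × Bi) :=
  RingHom.eqLocus (res.comp (RingHom.fst R Bi)) (pi.comp (RingHom.snd R Bi))

lemma mem_fibProd {R B Bi : Type u} [CommRing R] [CommRing B] [CommRing Bi]
    (res : R →+* B) (pi : Bi →+* B) {x : R × Bi} :
    x ∈ fibProd res pi ↔ res x.1 = pi x.2 := Iff.rfl

/-- `(*)`: every element of `Bi` is, up to a power of `g`, the second component of an element of
`A`. -/
def StarCond {R Bi : Type u} [CommRing R] [CommRing Bi] (g : Bi) (A : Subring (R × Bi)) : Prop :=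
  ∀ b : Bi, ∃ a ∈ A, ∃ M : ℕ, a.2 = g ^ M * b

/-- The algebra structure `A → Bi → Bg`. -/
@[reducible] def algAB {R Bi : Type u} [CommRing R] [CommRing Bi] (A : Subring (R × Bi))
    (Bg : Type u) [CommRing Bg] [Algebra Bi Bg] : Algebra A Bg :=
  ((algebraMap Bi Bg).comp ((RingHom.snd R Bi).comp A.subtype)).toAlgebra

variable {R B Bi : Type u} [CommRing R] [CommRing B] [CommRing Bi]
  {res : R →+* B} {pi : Bi →+* B}

/-- Under `(*)` and injectivity up to `f`-torsion of `res`, `Bg` is the localization of `A` at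
`h = (f, g)`. -/
theorem isLocalization_away_of_starCond (f : R) (g : Bi) (hfg : res f = pi g)
    (A : Subring (R × Bi)) (hA : A ≤ fibProd res pi) (hh : (f, g) ∈ A)
    (Bg : Type u) [CommRing Bg] [Algebra Bi Bg] [IsLocalization.Away g Bg]
    (H2 : ∀ r : R, res r = 0 → ∃ M : ℕ, f ^ M * r = 0)
    (hstar : StarCond g A) :
    letI := algAB A Bg
    IsLocalization.Away (⟨(f, g), hh⟩ : A) Bg := by
  letI := algAB A Bg
  have hmap : ∀ a : A, algebraMap A Bg a = algebraMap Bi Bg a.1.2 := fun a => rfl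
  refine IsLocalization.Away.mk _ ?_ ?_ ?_
  · rw [hmap]
    exact IsLocalization.Away.algebraMap_isUnit g
  · intro z
    obtain ⟨n, b, hb⟩ := IsLocalization.Away.surj g z
    obtain ⟨a, ha, M, haM⟩ := hstar b
    refine ⟨n + M, ⟨a, ha⟩, ?_⟩
    rw [hmap, hmap]
    change z * algebraMap Bi Bg g ^ (n + M) = algebraMap Bi Bg a.2
    rw [haM, map_mul, map_pow, ← hb, pow_add]
    ring
  · intro a a' haa'
    rw [hmap, hmap] at haa'
    obtain ⟨n, hn⟩ := IsLocalization.Away.exists_of_eq g haa'
    have hd : res (a.1.1 - a'.1.1) = pi (a.1.2 - a'.1.2) := by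
      rw [map_sub, map_sub, (mem_fibProd res pi).mp (hA a.2), (mem_fibProd res pi).mp (hA a'.2)]
    have h0 : res (f ^ n * (a.1.1 - a'.1.1)) = 0 := by
      rw [map_mul, map_pow, hfg, hd, ← map_pow, ← map_mul, mul_sub, hn, sub_self, map_zero]
    obtain ⟨M, hM⟩ := H2 _ h0
    refine ⟨M + n, ?_⟩
    apply Subtype.ext
    apply Prod.ext
    · change f ^ (M + n) * a.1.1 = f ^ (M + n) * a'.1.1
      rw [← sub_eq_zero, ← mul_sub, pow_add, mul_assoc]
      exact hM
    · change g ^ (M + n) * a.1.2 = g ^ (M + n) * a'.1.2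
      rw [pow_add, mul_assoc, mul_assoc, hn]

/-- Existence of a finite subset of the fibre product forcing `(*)`, when `Bg` is a finitely
generated ring. -/
theorem exists_finite_forcing_starCond (f : R) (g : Bi) (hfg : res f = pi g)
    (Bg : Type u) [CommRing Bg] [Algebra Bi Bg] [IsLocalization.Away g Bg]
    (H1 : ∀ b : B, ∃ (r : R) (M : ℕ), res r = res f ^ M * b)
    (T : Finset Bg) (hT : Subring.closure (T : Set Bg) = ⊤) :
    ∃ F : Finset (R × Bi), (↑F : Set (R × Bi)) ⊆ fibProd res pi ∧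
      ∀ A : Subring (R × Bi), (↑F : Set (R × Bi)) ⊆ A → (f, g) ∈ A → StarCond g A := by
  classical
  -- choose data for each generator
  have hgen : ∀ t : Bg, ∃ c : R × Bi, c ∈ fibProd res pi ∧
      ∃ N : ℕ, algebraMap Bi Bg c.2 = t * algebraMap Bi Bg g ^ N := by
    intro t
    obtain ⟨n, b, hb⟩ := IsLocalization.Away.surj g t
    obtain ⟨r, M, hr⟩ := H1 (pi b)
    refine ⟨(r, g ^ M * b), ?_, n + M, ?_⟩
    · rw [mem_fibProd]
      change res r = pi (g ^ M * b)
      rw [hr, map_mul, map_pow, hfg]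
    · change algebraMap Bi Bg (g ^ M * b) = _
      rw [map_mul, map_pow, ← hb, pow_add]
      ring
  choose c hc1 hc2 using hgen
  refine ⟨T.image c, ?_, ?_⟩
  · intro x hx
    simp only [Finset.coe_image, Set.mem_image, Finset.mem_coe] at hx
    obtain ⟨t, -, rfl⟩ := hx
    exact hc1 t
  · intro A hFA hhA
    have key : ∀ z : Bg, ∃ a ∈ A, ∃ N : ℕ, algebraMap Bi Bg a.2 = z * algebraMap Bi Bg g ^ N := by
      intro z
      have hz : z ∈ Subring.closure (T : Set Bg) := by rw [hT]; trivial
      induction hz using Subring.closure_induction with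
      | mem t ht =>
        refine ⟨c t, hFA ?_, hc2 t⟩
        simp only [Finset.coe_image, Set.mem_image, Finset.mem_coe]
        exact ⟨t, ht, rfl⟩
      | zero => exact ⟨0, A.zero_mem, 0, by simp⟩
      | one => exact ⟨1, A.one_mem, 0, by simp⟩
      | add x y _ _ hx hy =>
        obtain ⟨a, ha, N, hN⟩ := hx
        obtain ⟨a', ha', N', hN'⟩ := hy
        refine ⟨a * (f, g) ^ N' + a' * (f, g) ^ N,
          A.add_mem (A.mul_mem ha (A.pow_mem hhA _)) (A.mul_mem ha' (A.pow_mem hhA _)), N + N', ?_⟩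
        change algebraMap Bi Bg (a.2 * g ^ N' + a'.2 * g ^ N) = _
        rw [map_add, map_mul, map_mul, map_pow, map_pow, hN, hN', pow_add]
        ring
      | neg x _ hx =>
        obtain ⟨a, ha, N, hN⟩ := hx
        refine ⟨-a, A.neg_mem ha, N, ?_⟩
        change algebraMap Bi Bg (-a.2) = _
        rw [map_neg, hN]; ring
      | mul x y _ _ hx hy =>
        obtain ⟨a, ha, N, hN⟩ := hx
        obtain ⟨a', ha', N', hN'⟩ := hy
        refine ⟨a * a', A.mul_mem ha ha', N + N', ?_⟩
        change algebraMap Bi Bg (a.2 * a'.2) = _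
        rw [map_mul, hN, hN', pow_add]
        ring
    intro b
    obtain ⟨a, ha, N, hN⟩ := key (algebraMap Bi Bg b)
    have h1 : algebraMap Bi Bg a.2 = algebraMap Bi Bg (g ^ N * b) := by
      rw [hN, map_mul, map_pow]; ring
    obtain ⟨n, hn⟩ := IsLocalization.Away.exists_of_eq g h1
    refine ⟨(f, g) ^ n * a, A.mul_mem (A.pow_mem hhA _) ha, n + N, ?_⟩
    change g ^ n * a.2 = g ^ (n + N) * b
    rw [hn, pow_add, mul_assoc]

end Groth.Agent.Lib.Helper1.NA
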