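import Groth.Agent.Lib.Helper1.NAIdx
import Groth.Agent.Lib.Helper1.NAOpenAff
import Groth.Agent.Lib.Helper1.NAFTZ
import Groth.Agent.Lib.Helper1.NALimLocal

/-!
# The core gluing situation of Noetherian approximation: stages (helper1)
-/

set_option autoImplicit false
set_option linter.unusedSectionVars false
set_option linter.style.haveILetI false
universe u

namespace Groth.Agent.Lib.Helper1.NA

open AlgebraicGeometry CategoryTheory CategoryTheory.Limits TopologicalSpace Opposite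

/-- The core situation: `S = V ∪ W`, `W` affine, `V = lim V_i`, `Z = V ∩ W = lim Z_i`, with
`Z_i ⊆ V_i` an equifibered family of opens, and `Z = ⋃ D(f_k)`, `Z_i = ⋃ D(g_{i,k})`. -/
structure Core (I : Type u) [Preorder I] where
  DV : Iᵒᵖ ⥤ Scheme.{u}
  haff : ∀ (i i' : Iᵒᵖ) (a : i ⟶ i'), IsAffineHom (DV.map a)
  hft : ∀ i, FTZ (DV.obj i)
  cV : Cone DV
  hcV : IsLimit cV
  ZD : Iᵒᵖ ⥤ Scheme.{u}
  ζ : ZD ⟶ DV
  hζ : ∀ i, IsOpenImmersion (ζ.app i)
  hζpb : ∀ (i i' : Iᵒᵖ) (a : i ⟶ i'), IsPullback (ZD.map a) (ζ.app i) (ζ.app i') (DV.map a)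
  cZ : Cone ZD
  hcZ : IsLimit cZ
  zV : cZ.pt ⟶ cV.pt
  hzV : ∀ i, IsPullback (cZ.π.app i) zV (ζ.app i) (cV.π.app i)
  W : Scheme.{u}
  hW : IsAffine W
  zW : cZ.pt ⟶ W
  hzW : IsOpenImmersion zW
  S : Scheme.{u}
  v : cV.pt ⟶ S
  w : W ⟶ S
  hv : IsOpenImmersion v
  hw : IsOpenImmersion w
  hpb : IsPullback zV zW v w
  hcov : ∀ x : S, x ∈ Set.range v ∨ x ∈ Set.range w
  n : ℕ
  f : Fin n → Γ(W, ⊤)
  g : ∀ i : Iᵒᵖ, Fin n → Γ(ZD.obj i, ⊤)
  hg_map : ∀ (i i' : Iᵒᵖ) (a : i ⟶ i') (k : Fin n), (ZD.map a).appTop (g i' k) = g i k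
  hg_π : ∀ (i : Iᵒᵖ) (k : Fin n), (cZ.π.app i).appTop (g i k) = zW.appTop (f k)
  hrange : zW.opensRange = ⨆ k, W.basicOpen (f k)
  haffg : ∀ i k, IsAffineOpen ((ZD.obj i).basicOpen (g i k))
  hcovg : ∀ i, ⨆ k, (ZD.obj i).basicOpen (g i k) = ⊤

namespace Core

attribute [instance] Core.hW Core.hzW Core.hv Core.hw

variable {I : Type u} [Preorder I] (C : Core I)

instance isOpenImmersion_ζ (i : Iᵒᵖ) : IsOpenImmersion (C.ζ.app i) := C.hζ i

instance isAffineHom_DV_map {i i' : Iᵒᵖ} (a : i ⟶ i') : IsAffineHom (C.DV.map a) := C.haff i i' a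

instance isAffineHom_ZD_map {i i' : Iᵒᵖ} (a : i ⟶ i') : IsAffineHom (C.ZD.map a) :=
  MorphismProperty.of_isPullback (P := @IsAffineHom) (C.hζpb i i' a).flip inferInstance

instance compactSpace_DV (i : Iᵒᵖ) : CompactSpace (C.DV.obj i) := (C.hft i).1

instance lft_DV (i : Iᵒᵖ) :
    LocallyOfFiniteType (IsTerminal.from specULiftZIsTerminal (C.DV.obj i)) := (C.hft i).2

instance lft_ZD (i : Iᵒᵖ) :
    LocallyOfFiniteType (IsTerminal.from specULiftZIsTerminal (C.ZD.obj i)) :=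
  lft_of_isOpenImmersion (C.ζ.app i)

instance compactSpace_ZD (i : Iᵒᵖ) : CompactSpace (C.ZD.obj i) := by
  constructor
  have h := C.hcovg i
  have h2 : (Set.univ : Set (C.ZD.obj i)) =
      ⋃ k, (((C.ZD.obj i).basicOpen (C.g i k) : (C.ZD.obj i).Opens) : Set (C.ZD.obj i)) := by
    rw [← Opens.coe_iSup, h]; rfl
  rw [h2]
  exact isCompact_iUnion fun k => (C.haffg i k).isCompact

instance quasiSeparatedSpace_ZD (i : Iᵒᵖ) : QuasiSeparatedSpace (C.ZD.obj i) :=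
  have := isLocallyNoetherian_of_lft (C.ZD.obj i)
  inferInstance

instance quasiSeparatedSpace_DV (i : Iᵒᵖ) : QuasiSeparatedSpace (C.DV.obj i) :=
  have := isLocallyNoetherian_of_lft (C.DV.obj i)
  inferInstance

instance quasiSeparatedSpace_Z : QuasiSeparatedSpace C.cZ.pt :=
  C.zW.isOpenEmbedding.quasiSeparatedSpace

lemma basicOpen_le_range (k : Fin C.n) : C.W.basicOpen (C.f k) ≤ C.zW.opensRange := by
  rw [C.hrange]
  exact le_iSup (fun k => C.W.basicOpen (C.f k)) k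

variable [IsDirected I (fun a b => a ≤ b)] [Nonempty I]

instance compactSpace_Z : CompactSpace C.cZ.pt :=
  Scheme.compactSpace_of_isLimit C.ZD C.cZ C.hcZ

lemma hom_eq {i i' : Iᵒᵖ} (a : i ⟶ i') : a = (homOfLE (leOfHom a.unop)).op := rfl

lemma exists_F (i : I) : ∃ F : Finset (Γ(C.W, ⊤) × Γ(C.ZD.obj (op i), ⊤)),
    (↑F : Set (Γ(C.W, ⊤) × Γ(C.ZD.obj (op i), ⊤))) ⊆
      fibProd C.zW.appTop.hom (C.cZ.π.app (op i)).appTop.hom ∧
    ∀ (k : Fin C.n) (A : Subring (Γ(C.W, ⊤) × Γ(C.ZD.obj (op i), ⊤))),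
      (↑F : Set (Γ(C.W, ⊤) × Γ(C.ZD.obj (op i), ⊤))) ⊆ A → (C.f k, C.g (op i) k) ∈ A →
      StarCond (C.g (op i) k) A := by
  classical
  have h : ∀ k : Fin C.n, ∃ F : Finset (Γ(C.W, ⊤) × Γ(C.ZD.obj (op i), ⊤)),
      (↑F : Set (Γ(C.W, ⊤) × Γ(C.ZD.obj (op i), ⊤))) ⊆
        fibProd C.zW.appTop.hom (C.cZ.π.app (op i)).appTop.hom ∧
      ∀ (A : Subring (Γ(C.W, ⊤) × Γ(C.ZD.obj (op i), ⊤))),
        (↑F : Set (Γ(C.W, ⊤) × Γ(C.ZD.obj (op i), ⊤))) ⊆ A → (C.f k, C.g (op i) k) ∈ A →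
        StarCond (C.g (op i) k) A := by
    intro k
    have hloc := isLocalization_basicOpen_of_qcqs (X := C.ZD.obj (op i)) (U := ⊤) isCompact_univ
      isQuasiSeparated_univ (C.g (op i) k)
    obtain ⟨T, hT⟩ := exists_finset_closure_eq_top (C.ZD.obj (op i)) (C.haffg (op i) k)
    refine exists_finite_forcing_starCond (res := C.zW.appTop.hom)
      (pi := (C.cZ.π.app (op i)).appTop.hom) (C.f k) (C.g (op i) k) (C.hg_π (op i) k).symm
      Γ(C.ZD.obj (op i), (C.ZD.obj (op i)).basicOpen (C.g (op i) k)) ?_ T hT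
    intro b
    obtain ⟨r, M, hr⟩ := exists_appTop_eq_pow_mul C.zW (C.f k) (C.basicOpen_le_range k) b
    exact ⟨r, M, hr⟩
  choose F hF1 hF2 using h
  refine ⟨Finset.univ.biUnion F, ?_, ?_⟩
  · intro x hx
    simp only [Finset.coe_biUnion, Finset.coe_univ, Set.mem_univ, Set.iUnion_true,
      Set.mem_iUnion] at hx
    obtain ⟨k, hk⟩ := hx
    exact hF1 k hk
  · intro k A hFA hmem
    refine hF2 k A (fun x hx => hFA ?_) hmem
    simp only [Finset.coe_biUnion, Finset.coe_univ, Set.mem_univ, Set.iUnion_true,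
      Set.mem_iUnion]
    exact ⟨k, hx⟩

/-- The ring-level data. -/
@[reducible] noncomputable def rdata : RData I where
  R := Γ(C.W, ⊤)
  B i := Γ(C.ZD.obj (op i), ⊤)
  BZ := Γ(C.cZ.pt, ⊤)
  tr h := (C.ZD.map (homOfLE h).op).appTop.hom
  tr_refl i b := by
    have h1 : (homOfLE (le_refl i)).op = 𝟙 (op i) := rfl
    rw [h1, C.ZD.map_id]
    rfl
  tr_trans {i i' i''} h h' b := by
    have h1 : (homOfLE (h.trans h')).op = (homOfLE h').op ≫ (homOfLE h).op := rfl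
    rw [h1, C.ZD.map_comp, Scheme.Hom.comp_appTop]
    rfl
  res := C.zW.appTop.hom
  pi i := (C.cZ.π.app (op i)).appTop.hom
  pi_tr {i i'} h b := by
    have h1 := C.cZ.w (homOfLE h).op
    rw [← h1, Scheme.Hom.comp_appTop]
    rfl
  n := C.n
  f := C.f
  g i := C.g (op i)
  tr_g {i i'} h k := C.hg_map (op i') (op i) (homOfLE h).op k
  pi_g i k := C.hg_π (op i) k
  F i := (C.exists_F i).choose
  F_sub i := (C.exists_F i).choose_spec.1
  F_force i k A := (C.exists_F i).choose_spec.2 k A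
  surjZ r := by
    obtain ⟨i, t, ht⟩ := exists_appTop_π_eq_of_isLimit C.ZD C.cZ C.hcZ (C.zW.appTop r)
    exact ⟨i.unop, t, ht.symm⟩
  injZ i b hb := by
    obtain ⟨i', a, ha⟩ := exists_appTop_map_eq_zero_of_isLimit C.ZD C.cZ C.hcZ (i := op i) b hb
    exact ⟨i'.unop, leOfHom a.unop, ha⟩

end Core

end Groth.Agent.Lib.Helper1.NA
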