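import Groth.Agent.Lib.Helper1.NAStage

/-!
# Noetherian approximation: the affine stages `Spec A_j` (helper1)
-/

set_option autoImplicit false
set_option linter.unusedSectionVars false
set_option linter.style.haveILetI false
universe u

namespace Groth.Agent.Lib.Helper1.NA

open AlgebraicGeometry CategoryTheory CategoryTheory.Limits TopologicalSpace Opposite

namespace Core

variable {I : Type u} [Preorder I] [IsDirected I (fun a b => a ≤ b)] [Nonempty I] (C : Core I)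

/-- The affine stage. -/
noncomputable abbrev SpecA (j : C.rdata.Idx) : Scheme.{u} := Spec (CommRingCat.of j.A)

/-- `W ⟶ Spec A_j`. -/
noncomputable def aW (j : C.rdata.Idx) : C.W ⟶ C.SpecA j :=
  toSpec (X := C.W) (C.rdata.fstA j)

/-- `Z_i ⟶ Spec A_j`. -/
noncomputable def ψ (j : C.rdata.Idx) : C.ZD.obj (op j.i) ⟶ C.SpecA j :=
  toSpec (X := C.ZD.obj (op j.i)) (C.rdata.sndA j)

/-- The transition maps of the affine stages. -/
noncomputable def tA {j j' : C.rdata.Idx} (h : j ≤ j') : C.SpecA j' ⟶ C.SpecA j :=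
  Spec.map (CommRingCat.ofHom (C.rdata.transA h))

/-- The element `h_k = (f_k, g_k)` of `A_j`. -/
def hk (j : C.rdata.Idx) (k : Fin C.n) : j.A := ⟨(C.f k, C.g (op j.i) k), j.mem k⟩

/-- Basic opens of the affine stage. -/
def bo (j : C.rdata.Idx) (a : j.A) : (C.SpecA j).Opens := PrimeSpectrum.basicOpen a

lemma ψ_preimage (j : C.rdata.Idx) (a : j.A) :
    C.ψ j ⁻¹ᵁ (C.bo j a) = (C.ZD.obj (op j.i)).basicOpen (a.1.2) :=
  toSpec_preimage_basicOpen _ a

lemma aW_preimage (j : C.rdata.Idx) (a : j.A) :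
    C.aW j ⁻¹ᵁ (C.bo j a) = C.W.basicOpen (a.1.1) :=
  toSpec_preimage_basicOpen _ a

lemma tA_preimage {j j' : C.rdata.Idx} (h : j ≤ j') (a : j.A) :
    C.tA h ⁻¹ᵁ (C.bo j a) = C.bo j' (C.rdata.transA h a) := rfl

lemma transA_hk {j j' : C.rdata.Idx} (h : j ≤ j') (k : Fin C.n) :
    C.rdata.transA h (C.hk j k) = C.hk j' k :=
  Subtype.ext (C.rdata.ρ_hk h.fst k)

lemma aW_tA {j j' : C.rdata.Idx} (h : j ≤ j') : C.aW j' ≫ C.tA h = C.aW j :=
  toSpec_SpecMap _ _

lemma ψ_tA {j j' : C.rdata.Idx} (h : j ≤ j') :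
    C.ψ j' ≫ C.tA h = C.ZD.map (homOfLE h.fst).op ≫ C.ψ j := by
  unfold ψ tA
  rw [toSpec_SpecMap, comp_toSpec]
  rfl

lemma π_ψ (j : C.rdata.Idx) : C.cZ.π.app (op j.i) ≫ C.ψ j = C.zW ≫ C.aW j := by
  unfold ψ aW
  rw [comp_toSpec, comp_toSpec]
  congr 1
  ext a
  exact (C.rdata.res_fstA j a).symm

lemma tA_refl (j : C.rdata.Idx) : C.tA (le_refl j) = 𝟙 _ := by
  unfold tA
  have : CommRingCat.ofHom (C.rdata.transA (le_refl j)) = 𝟙 _ := C.rdata.RA.map_id j
  rw [this, Spec.map_id]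

lemma tA_trans {j j' j'' : C.rdata.Idx} (h : j ≤ j') (h' : j' ≤ j'') :
    C.tA (h.trans h') = C.tA h' ≫ C.tA h := by
  unfold tA
  have : CommRingCat.ofHom (C.rdata.transA (h.trans h')) =
      CommRingCat.ofHom (C.rdata.transA h) ≫ CommRingCat.ofHom (C.rdata.transA h') :=
    C.rdata.RA.map_comp (homOfLE h) (homOfLE h')
  rw [this, Spec.map_comp]

lemma isLocalization_hk (j : C.rdata.Idx) (k : Fin C.n) :
    letI := algAB j.A Γ(C.ZD.obj (op j.i), (C.ZD.obj (op j.i)).basicOpen (C.g (op j.i) k))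
    IsLocalization.Away (C.hk j k)
      Γ(C.ZD.obj (op j.i), (C.ZD.obj (op j.i)).basicOpen (C.g (op j.i) k)) := by
  have hloc := isLocalization_basicOpen_of_qcqs (X := C.ZD.obj (op j.i)) (U := ⊤) isCompact_univ
    isQuasiSeparated_univ (C.g (op j.i) k)
  exact isLocalization_away_of_starCond (res := C.zW.appTop.hom)
    (pi := (C.cZ.π.app (op j.i)).appTop.hom) (C.f k) (C.g (op j.i) k) (C.hg_π (op j.i) k).symm
    j.A j.le (j.mem k) _
    (fun r hr => exists_pow_mul_eq_zero_of_appTop_eq_zero C.zW (C.f k) (C.basicOpen_le_range k) r hr)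
    (j.star k)

/-- The restriction of `ψ` to `D(g_k)` is an open immersion with range `D(h_k)`. -/
lemma restrict_ψ (j : C.rdata.Idx) (k : Fin C.n) :
    IsOpenImmersion (((C.ZD.obj (op j.i)).basicOpen (C.g (op j.i) k)).ι ≫ C.ψ j) ∧
    Set.range (((C.ZD.obj (op j.i)).basicOpen (C.g (op j.i) k)).ι ≫ C.ψ j) =
      (PrimeSpectrum.basicOpen (C.hk j k) : Set (PrimeSpectrum j.A)) := by
  letI := algAB j.A Γ(C.ZD.obj (op j.i), (C.ZD.obj (op j.i)).basicOpen (C.g (op j.i) k))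
  have hloc := C.isLocalization_hk j k
  have h1 : IsOpenImmersion (Spec.map (CommRingCat.ofHom (algebraMap j.A
      Γ(C.ZD.obj (op j.i), (C.ZD.obj (op j.i)).basicOpen (C.g (op j.i) k))))) :=
    IsOpenImmersion.of_isLocalization (C.hk j k)
  have heq : ((C.ZD.obj (op j.i)).basicOpen (C.g (op j.i) k)).ι ≫ C.ψ j =
      (C.haffg (op j.i) k).isoSpec.hom ≫ Spec.map (CommRingCat.ofHom (algebraMap j.A
      Γ(C.ZD.obj (op j.i), (C.ZD.obj (op j.i)).basicOpen (C.g (op j.i) k)))) := by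
    unfold ψ toSpec
    rw [← Scheme.Opens.toSpecΓ_SpecMap_presheaf_map_top_assoc, ← Spec.map_comp]
    rfl
  rw [heq]
  refine ⟨inferInstance, ?_⟩
  have hsurj : Function.Surjective (C.haffg (op j.i) k).isoSpec.hom :=
    (C.haffg (op j.i) k).isoSpec.hom.homeomorph.surjective
  have hrange := PrimeSpectrum.localization_away_comap_range
    Γ(C.ZD.obj (op j.i), (C.ZD.obj (op j.i)).basicOpen (C.g (op j.i) k)) (C.hk j k)
  ext y
  constructor
  · rintro ⟨x, rfl⟩
    have : (PrimeSpectrum.comap (algebraMap j.A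
        Γ(C.ZD.obj (op j.i), (C.ZD.obj (op j.i)).basicOpen (C.g (op j.i) k))))
        ((C.haffg (op j.i) k).isoSpec.hom x) ∈
        (PrimeSpectrum.basicOpen (C.hk j k) : Set (PrimeSpectrum j.A)) := by
      rw [← hrange]; exact ⟨_, rfl⟩
    exact this
  · intro hy
    have hy' : y ∈ Set.range (PrimeSpectrum.comap (algebraMap j.A
        Γ(C.ZD.obj (op j.i), (C.ZD.obj (op j.i)).basicOpen (C.g (op j.i) k)))) := by
      rw [hrange]; exact hy
    obtain ⟨p, rfl⟩ := hy'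
    obtain ⟨x, rfl⟩ := hsurj p
    exact ⟨x, rfl⟩

instance isOpenImmersion_ψ (j : C.rdata.Idx) : IsOpenImmersion (C.ψ j) := by
  refine IsZariskiLocalAtTarget.of_forall_source_exists_preimage (P := @IsOpenImmersion) _
    fun x => ?_
  have hx : x ∈ (⨆ k, (C.ZD.obj (op j.i)).basicOpen (C.g (op j.i) k) :
      (C.ZD.obj (op j.i)).Opens) := by rw [C.hcovg]; trivial
  obtain ⟨k, hk⟩ := Opens.mem_iSup.mp hx
  refine ⟨C.bo j (C.hk j k), (C.ψ_preimage j (C.hk j k)).ge hk, ?_⟩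
  have := (C.restrict_ψ j k).1
  convert this <;> rw [ψ_preimage] <;> rfl

lemma opensRange_ψ (j : C.rdata.Idx) :
    (C.ψ j).opensRange = ⨆ k, C.bo j (C.hk j k) := by
  apply le_antisymm
  · rintro _ ⟨x, rfl⟩
    have hx : x ∈ (⨆ k, (C.ZD.obj (op j.i)).basicOpen (C.g (op j.i) k) :
        (C.ZD.obj (op j.i)).Opens) := by rw [C.hcovg]; trivial
    obtain ⟨k, hk⟩ := Opens.mem_iSup.mp hx
    apply Opens.mem_iSup.mpr
    exact ⟨k, (C.ψ_preimage j (C.hk j k)).ge hk⟩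
  · apply iSup_le
    intro k y hy
    have hy' : y ∈ Set.range (((C.ZD.obj (op j.i)).basicOpen (C.g (op j.i) k)).ι ≫ C.ψ j) := by
      rw [(C.restrict_ψ j k).2]; exact hy
    obtain ⟨x, rfl⟩ := hy'
    exact ⟨((C.ZD.obj (op j.i)).basicOpen (C.g (op j.i) k)).ι x, rfl⟩

lemma isPullback_ψ_aW (j : C.rdata.Idx) :
    IsPullback (C.cZ.π.app (op j.i)) C.zW (C.ψ j) (C.aW j) := by
  refine IsOpenImmersion.isPullback _ _ _ _ (C.π_ψ j).symm ?_
  rw [opensRange_ψ, Scheme.Hom.preimage_iSup, C.hrange]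
  congr 1
  funext k
  exact C.aW_preimage j (C.hk j k)

lemma isPullback_ψ_tA {j j' : C.rdata.Idx} (h : j ≤ j') :
    IsPullback (C.ZD.map (homOfLE h.fst).op) (C.ψ j') (C.ψ j) (C.tA h) := by
  refine IsOpenImmersion.isPullback _ _ _ _ (C.ψ_tA h) ?_
  rw [opensRange_ψ, opensRange_ψ, Scheme.Hom.preimage_iSup]
  congr 1
  funext k
  rw [tA_preimage, transA_hk]

end Core

end Groth.Agent.Lib.Helper1.NA
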