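import Groth.Statements.S15383
import Mathlib.RingTheory.LocalRing.Module

/-! # Uniqueness of norm maps: test objects `Spec O_{T,x}`. -/

set_option autoImplicit false

universe u

open CategoryTheory CategoryTheory.Limits AlgebraicGeometry Opposite

namespace Groth.Agent.Lib.Helper1.NM

/-- two global sections agreeing after pull-back to all `Spec O_{T,x}` are equal -/
theorem eq_of_fromSpecStalk_appTop {T : Scheme.{u}} (a b : Γ(T, ⊤))
    (h : ∀ x : T, (T.fromSpecStalk x).appTop a = (T.fromSpecStalk x).appTop b) : a = b := by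
  apply TopCat.Presheaf.section_ext T.sheaf ⊤ a b
  intro x hx
  have h1 := h x
  rw [Scheme.fromSpecStalk_appTop] at h1
  generalize_proofs p1 at h1
  have hmono : Function.Injective ((Scheme.ΓSpecIso (T.presheaf.stalk x)).inv ≫
      (Spec (T.presheaf.stalk x)).presheaf.map (homOfLE p1).op) := by
    have h0 : IsIso (homOfLE p1) := ⟨⟨homOfLE (le_of_eq rfl), Subsingleton.elim _ _, Subsingleton.elim _ _⟩⟩
    have h2 : IsIso ((Spec (T.presheaf.stalk x)).presheaf.map (homOfLE p1).op) := inferInstance
    exact (ConcreteCategory.bijective_of_isIso _).injective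
  exact hmono h1

end Groth.Agent.Lib.Helper1.NM

namespace Groth.Agent.Lib.Helper1.NM

theorem finite_free_pullback {X X' : Scheme.{u}} (f : X' ⟶ X) [IsFinite f] [Flat f] (T : Over X)
    [IsAffine T.left] [IsLocalRing Γ(T.left, ⊤)] :
    letI := (pullback.fst T.hom f).appTop.hom.toAlgebra
    Module.Finite Γ(T.left, ⊤) Γ(pullback T.hom f, ⊤) ∧ Module.Free Γ(T.left, ⊤) Γ(pullback T.hom f, ⊤) := by
  letI := (pullback.fst T.hom f).appTop.hom.toAlgebra
  have h1 : IsFinite (pullback.fst T.hom f) := inferInstance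
  have h2 : Flat (pullback.fst T.hom f) := inferInstance
  have h3 : IsAffine (pullback T.hom f) := isAffine_of_isAffineHom (pullback.fst T.hom f)
  have h4 := (HasAffineProperty.iff_of_isAffine (P := @IsFinite)).mp h1
  have h5 := (HasRingHomProperty.iff_of_isAffine (P := @Flat)).mp h2
  have h6 : Module.Finite Γ(T.left, ⊤) Γ(pullback T.hom f, ⊤) := h4.2
  have h7 : Module.Flat Γ(T.left, ⊤) Γ(pullback T.hom f, ⊤) := h5
  exact ⟨h6, Module.free_of_flat_of_isLocalRing⟩

end Groth.Agent.Lib.Helper1.NM
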