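import Mathlib.RingTheory.Norm.Basic
import Mathlib.RingTheory.IsTensorProduct
import Mathlib.LinearAlgebra.Charpoly.BaseChange
import Mathlib.RingTheory.Localization.Free
import Mathlib.RingTheory.Localization.BaseChange
import Mathlib.RingTheory.TensorProduct.Free
import Mathlib.Algebra.Category.Ring.Constructions

/-! # Norms and base change; freeness after inverting an element. -/

set_option autoImplicit false

universe u

open TensorProduct

namespace Groth.Agent.Lib.Helper1.NM

theorem norm_baseChange {R A B : Type*} [CommRing R] [CommRing A] [CommRing B] [Algebra R A]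
    [Algebra R B] [Module.Free R B] [Module.Finite R B] (b : B) :
    Algebra.norm A (1 ⊗ₜ[R] b : A ⊗[R] B) = algebraMap R A (Algebra.norm R b) := by
  rw [Algebra.norm_apply, ← Algebra.baseChange_lmul, LinearMap.det_baseChange, Algebra.norm_apply]

theorem norm_of_isPushout (R S R' S' : Type*) [CommRing R] [CommRing S] [CommRing R'] [CommRing S']
    [Algebra R S] [Algebra R R'] [Algebra S S'] [Algebra R' S'] [Algebra R S']
    [IsScalarTower R R' S'] [IsScalarTower R S S'] [Algebra.IsPushout R S R' S']
    [Module.Free R R'] [Module.Finite R R'] (b : R') :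
    Algebra.norm S (algebraMap R' S' b) = algebraMap R S (Algebra.norm R b) := by
  have h := Algebra.norm_eq_of_algEquiv (Algebra.IsPushout.equiv R S R' S') (1 ⊗ₜ[R] b)
  rw [Algebra.IsPushout.equiv_tmul, map_one, one_mul] at h
  rw [h, norm_baseChange]

theorem free_of_isPushout (R S R' S' : Type*) [CommRing R] [CommRing S] [CommRing R'] [CommRing S']
    [Algebra R S] [Algebra R R'] [Algebra S S'] [Algebra R' S'] [Algebra R S']
    [IsScalarTower R R' S'] [IsScalarTower R S S'] [Algebra.IsPushout R S R' S']
    [Module.Free S (S ⊗[R] R')] : Module.Free S S' :=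
  Module.Free.of_equiv (Algebra.IsPushout.equiv R S R' S').toLinearEquiv

theorem free_tensor_of_isUnit {A A'' : Type*} [CommRing A] [CommRing A''] [Algebra A A'']
    {B : Type*} [AddCommGroup B] [Module A B] (r : A) (hr : IsUnit (algebraMap A A'' r))
    [Module.Free (Localization.Away r) (LocalizedModule.Away r B)] :
    Module.Free A'' (A'' ⊗[A] B) := by
  letI : Algebra (Localization.Away r) A'' := (IsLocalization.Away.lift r hr).toAlgebra
  haveI : IsScalarTower A (Localization.Away r) A'' :=
    IsScalarTower.of_algebraMap_eq' (IsLocalization.Away.lift_comp r hr).symm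
  have e1 : Localization.Away r ⊗[A] B ≃ₗ[Localization.Away r] LocalizedModule.Away r B :=
    (IsLocalizedModule.isBaseChange (Submonoid.powers r) (Localization.Away r)
      (LocalizedModule.mkLinearMap (Submonoid.powers r) B)).equiv
  haveI : Module.Free (Localization.Away r) (Localization.Away r ⊗[A] B) := Module.Free.of_equiv e1.symm
  exact Module.Free.of_equiv
    (TensorProduct.AlgebraTensorModule.cancelBaseChange A (Localization.Away r) A'' A'' B)

end Groth.Agent.Lib.Helper1.NM
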