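import Groth.Agent.Lib.Helper1.NM2
import Mathlib.RingTheory.Flat.Rank

/-! # Pushout squares of commutative rings: norms, freeness. -/

set_option autoImplicit false

universe u

open TensorProduct CategoryTheory

namespace Groth.Agent.Lib.Helper1.NM

variable {R S T P : CommRingCat.{u}} {f : R ⟶ S} {g : R ⟶ T} {inl : S ⟶ P} {inr : T ⟶ P}

theorem norm_of_isPushout_cat (h : CategoryTheory.IsPushout f g inl inr)
    (hfree : letI := f.hom.toAlgebra; Module.Free R S)
    (hfin : letI := f.hom.toAlgebra; Module.Finite R S) (s : S) :
    letI := f.hom.toAlgebra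
    letI := inr.hom.toAlgebra
    Algebra.norm T (inl s) = g (Algebra.norm R s) := by
  algebraize [f.hom, g.hom, inl.hom, inr.hom, inl.hom.comp f.hom]
  have : IsScalarTower R T P := .of_algebraMap_eq' <| congr($(h.1.1).hom)
  have h1 : Algebra.IsPushout R S T P := CommRingCat.isPushout_iff_isPushout.mp h
  have h2 : Algebra.IsPushout R T S P := h1.symm
  exact norm_of_isPushout R T S P s

theorem free_finite_of_isPushout_cat (h : CategoryTheory.IsPushout f g inl inr)
    (hfree : letI := f.hom.toAlgebra; Module.Free R S)
    (hfin : letI := f.hom.toAlgebra; Module.Finite R S) :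
    letI := inr.hom.toAlgebra
    Module.Free T P ∧ Module.Finite T P := by
  algebraize [f.hom, g.hom, inl.hom, inr.hom, inl.hom.comp f.hom]
  have : IsScalarTower R T P := .of_algebraMap_eq' <| congr($(h.1.1).hom)
  have h1 : Algebra.IsPushout R S T P := CommRingCat.isPushout_iff_isPushout.mp h
  have h2 : Algebra.IsPushout R T S P := h1.symm
  have e := (Algebra.IsPushout.equiv R T S P).toLinearEquiv
  exact ⟨Module.Free.of_equiv e, Module.Finite.equiv e⟩

theorem free_of_isPushout_cat_of_isUnit (h : CategoryTheory.IsPushout f g inl inr) (r : R)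
    (hr : IsUnit (g r))
    (hloc : letI := f.hom.toAlgebra; Module.Free (Localization.Away r) (LocalizedModule.Away r S)) :
    letI := inr.hom.toAlgebra
    Module.Free T P := by
  algebraize [f.hom, g.hom, inl.hom, inr.hom, inl.hom.comp f.hom]
  have : IsScalarTower R T P := .of_algebraMap_eq' <| congr($(h.1.1).hom)
  have h1 : Algebra.IsPushout R S T P := CommRingCat.isPushout_iff_isPushout.mp h
  have h2 : Algebra.IsPushout R T S P := h1.symm
  haveI : Module.Free T (T ⊗[R] S) := free_tensor_of_isUnit (A := R) (A'' := T) (B := S) r hr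
  exact free_of_isPushout R T S P

end Groth.Agent.Lib.Helper1.NM
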