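import Groth.Agent.Lib.Helper1.NM1
import Groth.Agent.Lib.Helper1.NM3

/-! # Base change of the test objects of the norm map. -/

set_option autoImplicit false

universe u

open CategoryTheory CategoryTheory.Limits AlgebraicGeometry Opposite

namespace Groth.Agent.Lib.Helper1.NM

variable {X X' : Scheme.{u}} (f : X' ⟶ X)

theorem isPullback_pullbackMap {T' T : Over X} (g : T' ⟶ T) :
    IsPullback ((Over.pullback f).map g).left (pullback.fst T'.hom f) (pullback.fst T.hom f) g.left := by
  refine IsPullback.of_right (h₁₂ := pullback.snd T.hom f) (h₂₂ := T.hom) (v₁₃ := f) ?_ ?_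
    (IsPullback.of_hasPullback T.hom f).flip
  · have e1 : ((Over.pullback f).map g).left ≫ pullback.snd T.hom f = pullback.snd T'.hom f := by
      simp only [Over.pullback_map_left]
      exact pullback.lift_snd _ _ _
    have e2 : g.left ≫ T.hom = T'.hom := Over.w g
    rw [e1, e2]
    exact (IsPullback.of_hasPullback T'.hom f).flip
  · simp only [Over.pullback_map_left]
    exact pullback.lift_fst _ _ _

variable [IsFinite f]

theorem isPushout_appTop {T' T : Over X} [IsAffine T'.left] [IsAffine T.left] (g : T' ⟶ T) :
    IsPushout (pullback.fst T.hom f).appTop g.left.appTop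
      ((Over.pullback f).map g).left.appTop (pullback.fst T'.hom f).appTop :=
  isPushout_appTop_of_isPullback (isPullback_pullbackMap f g)

end Groth.Agent.Lib.Helper1.NM
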