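import Groth.Agent.Lib.Helper1.NM4
import Mathlib.AlgebraicGeometry.Morphisms.FinitePresentation
import Mathlib.RingTheory.Finiteness.ModuleFinitePresentation
import Mathlib.RingTheory.Spectrum.Prime.FreeLocus

/-! # Local freeness of the test objects of the norm map. -/

set_option autoImplicit false

universe u

open CategoryTheory CategoryTheory.Limits AlgebraicGeometry Opposite

namespace Groth.Agent.Lib.Helper1.NM

variable {X X' : Scheme.{u}} (f : X' ⟶ X) [IsFinite f] [Flat f]

/-- affine test objects with finite free algebra of functions -/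
def IsTest (T : Over X) : Prop :=
  IsAffine T.left ∧
    (letI := (pullback.fst T.hom f).appTop.hom.toAlgebra
     Module.Finite Γ(T.left, ⊤) Γ(pullback T.hom f, ⊤) ∧
       Module.Free Γ(T.left, ⊤) Γ(pullback T.hom f, ⊤))

theorem finite_pullback (T : Over X) [IsAffine T.left] :
    letI := (pullback.fst T.hom f).appTop.hom.toAlgebra
    Module.Finite Γ(T.left, ⊤) Γ(pullback T.hom f, ⊤) := by
  have h1 : IsFinite (pullback.fst T.hom f) := inferInstance
  exact ((HasAffineProperty.iff_of_isAffine (P := @IsFinite)).mp h1).2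

theorem flat_pullback (T : Over X) [IsAffine T.left] :
    letI := (pullback.fst T.hom f).appTop.hom.toAlgebra
    Module.Flat Γ(T.left, ⊤) Γ(pullback T.hom f, ⊤) := by
  have h2 : Flat (pullback.fst T.hom f) := inferInstance
  have h3 : IsAffine (pullback T.hom f) := isAffine_of_isAffineHom (pullback.fst T.hom f)
  exact (HasRingHomProperty.iff_of_isAffine (P := @Flat)).mp h2

theorem fp_pullback [LocallyOfFinitePresentation f] (T : Over X) [IsAffine T.left] :
    letI := (pullback.fst T.hom f).appTop.hom.toAlgebra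
    Module.FinitePresentation Γ(T.left, ⊤) Γ(pullback T.hom f, ⊤) := by
  letI := (pullback.fst T.hom f).appTop.hom.toAlgebra
  have h2 : LocallyOfFinitePresentation (pullback.fst T.hom f) := inferInstance
  have h3 : IsAffine (pullback T.hom f) := isAffine_of_isAffineHom (pullback.fst T.hom f)
  have h4 : Algebra.FinitePresentation Γ(T.left, ⊤) Γ(pullback T.hom f, ⊤) :=
    (HasRingHomProperty.iff_of_isAffine (P := @LocallyOfFinitePresentation)).mp h2
  haveI := finite_pullback f T
  exact Module.FinitePresentation.of_finite_of_finitePresentation _ _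

end Groth.Agent.Lib.Helper1.NM

namespace Groth.Agent.Lib.Helper1.NM

variable {X X' : Scheme.{u}} (f : X' ⟶ X) [IsFinite f] [Flat f]

theorem isUnit_ι_appTop_basicOpen {Y : Scheme.{u}} (r : Γ(Y, ⊤)) :
    IsUnit ((Y.basicOpen r).ι.appTop r) := by
  have h0 := Y.toLocallyRingedSpace.toRingedSpace.isUnit_res_basicOpen r
  have h2 : (Y.basicOpen r).ι ''ᵁ ⊤ ≤ Y.basicOpen r := le_of_eq (Y.basicOpen r).ι_image_top
  have h3 := h0.map (Y.presheaf.map (homOfLE h2).op).hom
  have e : (Y.basicOpen r).ι.appTop r = (Y.presheaf.map (homOfLE h2).op).hom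
      ((Y.presheaf.map (homOfLE (Y.basicOpen_le r)).op).hom r) := by
    rw [← CommRingCat.comp_apply, ← Functor.map_comp]
    rfl
  rw [e]
  exact h3

theorem exists_test_nhd [LocallyOfFinitePresentation f] (T : Over X) (x : T.left) :
    ∃ (W : Over X) (j : W ⟶ T), IsOpenImmersion j.left ∧ x ∈ Set.range j.left.base ∧ IsTest f W := by
  obtain ⟨_, ⟨V₀, hV₀, rfl⟩, hxV, -⟩ :=
    T.left.isBasis_affineOpens.exists_subset_of_mem_open (Set.mem_univ x) isOpen_univ
  let V : T.left.Opens := V₀
  have hV : IsAffineOpen V := hV₀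
  let TV : Over X := Over.mk (V.ι ≫ T.hom)
  haveI : IsAffine TV.left := hV
  letI := (pullback.fst TV.hom f).appTop.hom.toAlgebra
  haveI := finite_pullback f TV
  haveI := flat_pullback f TV
  haveI := fp_pullback f TV
  let x' : TV.left := ⟨x, hxV⟩
  let p : PrimeSpectrum Γ(TV.left, ⊤) := TV.left.toSpecΓ x'
  have hfreeloc : Module.Free (Localization.AtPrime p.asIdeal)
      (LocalizedModule p.asIdeal.primeCompl Γ(pullback TV.hom f, ⊤)) :=
    Module.free_of_flat_of_isLocalRing
  obtain ⟨r, hr, hrfree, -⟩ := Module.FinitePresentation.exists_free_localizedModule_powers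
    p.asIdeal.primeCompl
    (LocalizedModule.mkLinearMap p.asIdeal.primeCompl Γ(pullback TV.hom f, ⊤))
    (Localization.AtPrime p.asIdeal)
  let D : TV.left.Opens := TV.left.basicOpen r
  have hD : IsAffineOpen D := (isAffineOpen_top TV.left).basicOpen r
  let W : Over X := Over.mk (D.ι ≫ TV.hom)
  let g : W ⟶ TV := Over.homMk D.ι rfl
  let j : W ⟶ T := Over.homMk (D.ι ≫ V.ι) (Category.assoc _ _ _)
  have hx'D : x' ∈ D := by
    have h1 := TV.left.toSpecΓ_preimage_basicOpen r
    have h2 : x' ∈ TV.left.toSpecΓ ⁻¹ᵁ PrimeSpectrum.basicOpen r := hr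
    rw [h1] at h2
    exact h2
  haveI hWaff : IsAffine W.left := hD
  refine ⟨W, j, ?_, ⟨⟨x', hx'D⟩, rfl⟩, hWaff, finite_pullback f W, ?_⟩
  · change IsOpenImmersion (D.ι ≫ V.ι)
    infer_instance
  · exact free_of_isPushout_cat_of_isUnit (isPushout_appTop f g) r
      (isUnit_ι_appTop_basicOpen r) hrfree

end Groth.Agent.Lib.Helper1.NM
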