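import Groth.Agent.Lib.Helper1.NM5
import Mathlib.CategoryTheory.Sites.DenseSubsite.Basic

/-! # The test objects are cover-dense in the big fppf site. -/

set_option autoImplicit false

universe u

open CategoryTheory CategoryTheory.Limits AlgebraicGeometry Opposite

namespace Groth.Agent.Lib.Helper1.NM

variable {X X' : Scheme.{u}} (f : X' ⟶ X) [IsFinite f] [Flat f]

theorem coverByImage_mem [LocallyOfFinitePresentation f] (T : Over X) :
    Sieve.coverByImage (ObjectProperty.ι (IsTest f)) T ∈ QuotSh.J Scheme.fppfPrecoverage X T := by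
  choose W j hj hx hW using exists_test_nhd f T
  have hmemZ : Presieve.ofArrows W j ∈
      ((Scheme.zariskiPrecoverage.{u}).comap (Over.forget X)) T := by
    rw [Precoverage.mem_comap_iff, Presieve.map_ofArrows, Scheme.ofArrows_mem_precoverage_iff]
    exact ⟨fun x => ⟨x, hx x⟩, fun x => hj x⟩
  have hmem : Presieve.ofArrows W j ∈
      ((Scheme.fppfPrecoverage.{u}).comap (Over.forget X)) T := by
    rw [Precoverage.mem_comap_iff] at hmemZ ⊢
    exact Scheme.zariskiPrecoverage_le_fppfPrecoverage _ hmemZ
  have hJ : QuotSh.J Scheme.fppfPrecoverage X =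
      ((Scheme.fppfPrecoverage.{u}).comap (Over.forget X)).toGrothendieck :=
    over_toGrothendieck_eq_toGrothendieck_comap_forget _ X
  rw [hJ]
  refine GrothendieckTopology.superset_covering _ ?_ (Precoverage.generate_mem_toGrothendieck hmem)
  rw [Sieve.generate_le_iff]
  rintro _ _ ⟨x⟩
  exact ⟨⟨⟨W x, hW x⟩, 𝟙 _, j x, Category.id_comp _⟩⟩

instance isCoverDense_test [LocallyOfFinitePresentation f] :
    (ObjectProperty.ι (IsTest f)).IsCoverDense (QuotSh.J Scheme.fppfPrecoverage X) :=
  ⟨coverByImage_mem f⟩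

end Groth.Agent.Lib.Helper1.NM
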