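import Groth.Agent.Lib.Helper1.NM6
import Groth.Prelude.Def_GmPts

/-! # The norm on points over test objects, and its naturality. -/

set_option autoImplicit false

universe u

open CategoryTheory CategoryTheory.Limits AlgebraicGeometry Opposite MonoidalCategory CartesianMonoidalCategory MonObj

namespace Groth.Agent.Lib.Helper1.NM

variable {X X' : Scheme.{u}} (f : X' ⟶ X) [IsFinite f] [Flat f]

/-- the norm of a point of `𝔾_m` over `T ×_X X'` (meaningful when `T` is a test object) -/
noncomputable def normPtFun (T : Over X) (t' : (Over.pullback f).obj T ⟶ Red.Gm X') : T ⟶ Red.Gm X :=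
  letI := (pullback.fst T.hom f).appTop.hom.toAlgebra
  GmPts.ptOfUnit (Units.map
    (Algebra.norm Γ(T.left, ⊤) : Γ(pullback T.hom f, ⊤) →* Γ(T.left, ⊤)) (GmPts.unitOfPt t'))

theorem normPtFun_mul (T : Over X) (t s : (Over.pullback f).obj T ⟶ Red.Gm X') :
    normPtFun f T (t * s) = normPtFun f T t * normPtFun f T s := by
  unfold normPtFun
  rw [GmPts.unitOfPt_mul, map_mul, GmPts.ptOfUnit_mul]

theorem normPtFun_one (T : Over X) :
    normPtFun f T (1 : (Over.pullback f).obj T ⟶ Red.Gm X') = 1 := by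
  unfold normPtFun
  rw [GmPts.unitOfPt_one, map_one, GmPts.ptOfUnit_one]

theorem gmFn_normPtFun (T : Over X) (t' : (Over.pullback f).obj T ⟶ Red.Gm X') :
    letI := (pullback.fst T.hom f).appTop.hom.toAlgebra
    Red.gmFn (normPtFun f T t') =
      (Algebra.norm Γ(T.left, ⊤) : Γ(pullback T.hom f, ⊤) →* Γ(T.left, ⊤)) (Red.gmFn t') := by
  unfold normPtFun
  rw [GmPts.gmFn_ptOfUnit]
  rfl

theorem normPtFun_comp {T' T : Over X} (hT' : IsTest f T') (hT : IsTest f T) (g : T' ⟶ T)
    (t : (Over.pullback f).obj T ⟶ Red.Gm X') :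
    normPtFun f T' ((Over.pullback f).map g ≫ t) = g ≫ normPtFun f T t := by
  haveI := hT'.1
  haveI := hT.1
  apply GmPts.gmFn_injective
  dsimp only
  rw [GmPts.gmFn_comp, gmFn_normPtFun, gmFn_normPtFun, GmPts.gmFn_comp]
  exact norm_of_isPushout_cat (isPushout_appTop f g) hT.2.2 hT.2.1 (Red.gmFn t)

end Groth.Agent.Lib.Helper1.NM
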