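import Groth.Agent.Lib.Helper1.NM7

/-! # Existence of the norm map of a finite flat finitely presented morphism. -/

set_option autoImplicit false

universe u

open CategoryTheory CategoryTheory.Limits AlgebraicGeometry Opposite MonoidalCategory CartesianMonoidalCategory MonObj

namespace Groth.Agent.Lib.Helper1.NM

variable {X X' : Scheme.{u}} (f : X' ⟶ X) [IsFinite f] [Flat f]

/-- component of the norm over `T`, additively -/
noncomputable def normHom (T : Over X) :
    (CGrpSh3.pushGm Scheme.fppfPrecoverage f).obj.obj (op T) ⟶
      (CGrpSh2.Gm Scheme.fppfPrecoverage X).obj.obj (op T) :=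
  AddCommGrpCat.ofHom
    { toFun := fun x => ULift.up (Additive.ofMul (normPtFun f T (Additive.toMul x.down)))
      map_zero' := by
        apply ULift.ext
        change Additive.ofMul (normPtFun f T (1 : (Over.pullback f).obj T ⟶ Red.Gm X')) = 0
        rw [normPtFun_one]
        rfl
      map_add' := fun x y => by
        apply ULift.ext
        change Additive.ofMul (normPtFun f T (Additive.toMul x.down * Additive.toMul y.down)) =
          Additive.ofMul (normPtFun f T (Additive.toMul x.down)) +
            Additive.ofMul (normPtFun f T (Additive.toMul y.down))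
        rw [normPtFun_mul]
        rfl }

/-- the norm on the test objects, as a natural transformation -/
noncomputable def normNat :
    (ObjectProperty.ι (IsTest f)).op ⋙ (CGrpSh3.pushGm Scheme.fppfPrecoverage f).obj ⟶
      (ObjectProperty.ι (IsTest f)).op ⋙ (CGrpSh2.Gm Scheme.fppfPrecoverage X).obj where
  app W := normHom f W.unop.obj
  naturality W W' g := by
    apply AddCommGrpCat.hom_ext
    apply AddMonoidHom.ext
    intro x
    apply ULift.ext
    exact congrArg Additive.ofMul (normPtFun_comp f W'.unop.property W.unop.property g.unop.hom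
      (Additive.toMul x.down))

end Groth.Agent.Lib.Helper1.NM

namespace Groth.Agent.Lib.Helper1.NM

variable {X X' : Scheme.{u}} (f : X' ⟶ X) [IsFinite f] [Flat f] [LocallyOfFinitePresentation f]

/-- the norm map -/
noncomputable def normMap :
    CGrpSh3.pushGm Scheme.fppfPrecoverage f ⟶ CGrpSh2.Gm Scheme.fppfPrecoverage X :=
  ⟨Functor.IsCoverDense.sheafHom (G := ObjectProperty.ι (IsTest f)) (normNat f)⟩

theorem normMap_app (T : Over X) (hT : IsTest f T) :
    (normMap f).hom.app (op T) = normHom f T :=
  congrArg (fun a => a.app (op (⟨T, hT⟩ : ObjectProperty.FullSubcategory (IsTest f))))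
    (Functor.IsCoverDense.sheafHom_restrict_eq (G := ObjectProperty.ι (IsTest f)) (normNat f))

theorem isNormMap_normMap : CGrpSh3.IsNormMap Scheme.fppfPrecoverage f (normMap f) := by
  intro T haff inst hfin hfree halg t'
  obtain rfl : inst = (pullback.fst T.hom f).appTop.hom.toAlgebra :=
    Algebra.algebra_ext _ _ (fun a => halg a)
  have hT : IsTest f T := ⟨haff, hfin, hfree⟩
  rw [CGrpSh3.normPt_def, normMap_app f T hT]
  exact gmFn_normPtFun f T t'

end Groth.Agent.Lib.Helper1.NM
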