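import Mathlib.CategoryTheory.Comma.Over.Pullback
import Mathlib.CategoryTheory.Limits.Shapes.Pullback.IsPullback.Basic

/-!
# Injectivity part of the "Néron mapping property", formal manipulations
-/

namespace Groth.Agent.Lib.Helper1.NeronInj

open CategoryTheory Limits

universe v u
variable {C : Type u} [Category.{v} C] [HasPullbacks C]

/-- uniqueness of extensions along `p`. -/
def NMI {Y : C} (N Z : Over Y) {W : C} (p : W ⟶ Z.left) : Prop :=
  ∀ g₁ g₂ : Z.left ⟶ N.left, g₁ ≫ N.hom = Z.hom → g₂ ≫ N.hom = Z.hom → p ≫ g₁ = p ≫ g₂ → g₁ = g₂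

omit [HasPullbacks C] in
theorem nmi_precomp_iso {Y : C} (N Z : Over Y) {W W' : C} (e : W' ≅ W) (p : W ⟶ Z.left) :
    NMI N Z (e.hom ≫ p) ↔ NMI N Z p := by
  constructor
  · intro H g₁ g₂ h₁ h₂ h
    exact H g₁ g₂ h₁ h₂ (by rw [Category.assoc, Category.assoc, h])
  · intro H g₁ g₂ h₁ h₂ h
    refine H g₁ g₂ h₁ h₂ ?_
    rw [Category.assoc, Category.assoc] at h
    exact (cancel_epi e.hom).mp h

theorem injective_iff {X Y : C} (f : X ⟶ Y) (N Z : Over Y) :
    Function.Injective (fun g : Z ⟶ N => (Over.pullback f).map g) ↔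
      NMI N Z (pullback.fst Z.hom f) := by
  have hleft : ∀ g : Z ⟶ N, ((Over.pullback f).map g).left ≫ pullback.fst N.hom f =
      pullback.fst Z.hom f ≫ g.left := fun g => by
    exact pullback.lift_fst _ _ _
  have hright : ∀ g : Z ⟶ N, ((Over.pullback f).map g).left ≫ pullback.snd N.hom f =
      pullback.snd Z.hom f := fun g => by
    exact pullback.lift_snd _ _ _
  constructor
  · intro hinj g₁ g₂ h₁ h₂ h
    have : Over.homMk g₁ h₁ = (Over.homMk g₂ h₂ : Z ⟶ N) := by
      apply hinj
      apply Over.OverMorphism.ext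
      apply pullback.hom_ext
      · show ((Over.pullback f).map (Over.homMk g₁ h₁)).left ≫ _ =
          ((Over.pullback f).map (Over.homMk g₂ h₂)).left ≫ _
        rw [hleft, hleft]
        exact h
      · show ((Over.pullback f).map (Over.homMk g₁ h₁)).left ≫ _ =
          ((Over.pullback f).map (Over.homMk g₂ h₂)).left ≫ _
        rw [hright, hright]
    exact congrArg CommaMorphism.left this
  · intro H g g' hgg'
    have hgg2 : (Over.pullback f).map g = (Over.pullback f).map g' := hgg'
    have h1 : pullback.fst Z.hom f ≫ g.left = pullback.fst Z.hom f ≫ g'.left := by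
      rw [← hleft, ← hleft, hgg2]
    apply Over.OverMorphism.ext
    exact H g.left g'.left (Over.w g) (Over.w g') h1

theorem injective_iff_of_isPullback {X Y : C} (f : X ⟶ Y) (N Z : Over Y) {W : C}
    {p : W ⟶ Z.left} {q : W ⟶ X} (hsq : IsPullback p q Z.hom f) :
    Function.Injective (fun g : Z ⟶ N => (Over.pullback f).map g) ↔ NMI N Z p := by
  rw [injective_iff, ← nmi_precomp_iso N Z hsq.isoPullback (pullback.fst Z.hom f),
    IsPullback.isoPullback_hom_fst]

end Groth.Agent.Lib.Helper1.NeronInj
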