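import Groth.Agent.Lib.Helper1.NodeT3
import Groth.Agent.Lib.Helper1.AffDefFamily
import Groth.Agent.Lib.Helper1.AffDefDual
import Groth.Agent.Lib.Helper1.AffDefLift
import Groth.Agent.Lib.Helper1.AffDefTriv

/-!
# The deformation functor of the node `k[x,y]/(xy)` is not prorepresentable (helper1)
-/

universe u v
open CategoryTheory CategoryTheory.Limits AlgebraicGeometry ArtFun ArtFun.Art

namespace Groth.Agent.Lib.Helper1.Node

open Groth.Agent.Lib.Helper1.AffDef

section Criterion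

variable {k : Type u} [Field k] {F : Art k k ⥤ Type v}

/-- a criterion for non-prorepresentability -/
theorem not_isProrepresentable_of_fixed {A₂ A₁ : Art k k} (c : A₂ ⟶ A₂) (q : A₂ ⟶ A₁) (u : F.obj A₂)
    (h1 : F.map c u = u)
    (h2 : ∀ x : A₂, c x = x → q x = algebraMap k A₁ (A₂.res x))
    (h3 : ∀ v : F.obj (base k k), F.map q u ≠ F.map (ofBase A₁) v) : ¬ IsProrepresentable F := by
  rintro ⟨⟨R, ξ, huniv⟩⟩
  obtain ⟨ψ, rfl⟩ := (huniv A₂).2 u
  have e1 : HomSet.map c ψ = ψ := (huniv A₂).1 (by rw [ξ.natural, h1])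
  have e2 : ∀ r, c (ψ.1 r) = ψ.1 r := fun r => congrArg (fun φ => φ.1 r) e1
  let φ₀ : HomSet R.carrier R.res (base k k) := ⟨R.res, AlgHom.id_comp _⟩
  have e3 : HomSet.map q ψ = HomSet.map (ofBase A₁) φ₀ := by
    apply Subtype.ext
    apply AlgHom.ext
    intro r
    change q (ψ.1 r) = algebraMap k A₁ (R.res r)
    rw [h2 _ (e2 r)]
    congr 1
    exact congrArg (fun f => f r) ψ.2
  apply h3 (ξ.app _ φ₀)
  rw [← ξ.natural, e3, ξ.natural]

end Criterion

section Node

variable (k : Type u) [Field k]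

/-- `k[x,y]` -/
abbrev P : Type u := MvPolynomial (Fin 2) k
/-- `k[t]` -/
abbrev T : Type u := Polynomial k
/-- `xy` -/
noncomputable abbrev xy : P k := MvPolynomial.X 0 * MvPolynomial.X 1
/-- the node -/
abbrev B₀ : Type u := P k ⧸ Ideal.span {xy k}

/-- `k[t] → k[x,y]`, `t ↦ xy` -/
@[reducible] noncomputable def algTP : Algebra (T k) (P k) :=
  (Polynomial.aeval (xy k) : T k →ₐ[k] P k).toRingHom.toAlgebra

attribute [local instance] algTP

lemma algebraMap_TP_C (a : k) : algebraMap (T k) (P k) (Polynomial.C a) = MvPolynomial.C a := by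
  change Polynomial.aeval (xy k) (Polynomial.C a) = _
  rw [Polynomial.aeval_C]
  rfl

lemma algebraMap_TP_X : algebraMap (T k) (P k) Polynomial.X = xy k := by
  change Polynomial.aeval (xy k) Polynomial.X = _
  rw [Polynomial.aeval_X]

lemma algebraMap_TP_injective : Function.Injective (algebraMap (T k) (P k)) := by
  let l : P k →ₐ[k] T k := MvPolynomial.aeval ![Polynomial.X, 1]
  have h : l.comp (Polynomial.aeval (xy k) : T k →ₐ[k] P k) = AlgHom.id k (T k) := by
    apply Polynomial.algHom_ext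
    rw [AlgHom.comp_apply, Polynomial.aeval_X, AlgHom.id_apply, map_mul, MvPolynomial.aeval_X,
      MvPolynomial.aeval_X]
    simp
  intro x y hxy
  have := congrArg l hxy
  change l.comp (Polynomial.aeval (xy k) : T k →ₐ[k] P k) x = l.comp (Polynomial.aeval (xy k) : T k →ₐ[k] P k) y
    at this
  rw [h] at this
  exact this

instance flatTP : Module.Flat (T k) (P k) := by
  rw [Module.Flat.flat_iff_torsion_eq_bot_of_isBezout, Submodule.eq_bot_iff]
  intro p hp
  rw [Submodule.mem_torsion_iff] at hp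
  obtain ⟨a, ha⟩ := hp
  rw [Submonoid.smul_def, Algebra.smul_def] at ha
  rcases mul_eq_zero.1 ha with h | h
  · exfalso
    have : (a : T k) = 0 := algebraMap_TP_injective k (by rw [h, map_zero])
    exact nonZeroDivisors.coe_ne_zero a this
  · exact h

/-- `t ↦ 0` -/
noncomputable def ρ₀ : T k →+* k := Polynomial.evalRingHom 0

/-- the quotient map -/
noncomputable def π₀ : P k →+* B₀ k := Ideal.Quotient.mk _

lemma π₀_xy : π₀ k (xy k) = 0 := Ideal.Quotient.eq_zero_iff_mem.2 (Ideal.subset_span rfl)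

theorem hpo : IsPushout (CommRingCat.ofHom (ρ₀ k)) (CommRingCat.ofHom (algebraMap (T k) (P k)))
    (CommRingCat.ofHom (algebraMap k (B₀ k))) (CommRingCat.ofHom (π₀ k)) := by
  refine isPushout_of_surjective (ρ₀ k) (algebraMap (T k) (P k)) (algebraMap k (B₀ k)) (π₀ k) ?_ ?_
    Ideal.Quotient.mk_surjective ?_
  · have h : (π₀ k).comp (algebraMap (T k) (P k)) = (algebraMap k (B₀ k)).comp (ρ₀ k) := by
      apply Polynomial.ringHom_ext
      · intro a
        rw [RingHom.comp_apply, RingHom.comp_apply, algebraMap_TP_C]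
        change _ = algebraMap k (B₀ k) (Polynomial.eval 0 (Polynomial.C a))
        rw [Polynomial.eval_C]
        rfl
      · rw [RingHom.comp_apply, RingHom.comp_apply, algebraMap_TP_X, π₀_xy]
        change _ = algebraMap k (B₀ k) (Polynomial.eval 0 Polynomial.X)
        rw [Polynomial.eval_X, map_zero]
    exact fun t => RingHom.congr_fun h t
  · intro c
    exact ⟨Polynomial.C c, Polynomial.eval_C⟩
  · have : RingHom.ker (π₀ k) = Ideal.span {xy k} := Ideal.mk_ker
    rw [this, Ideal.span_le]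
    rintro _ rfl
    rw [← algebraMap_TP_X]
    refine Ideal.mem_map_of_mem _ ?_
    rw [RingHom.mem_ker]
    exact Polynomial.eval_X

variable {k}

/-- `t ↦ a` -/
noncomputable def α {A : Art k k} (a : A) : T k →+* A := (Polynomial.aeval a : T k →ₐ[k] A).toRingHom

lemma α_C {A : Art k k} (a : A) (c : k) : α a (Polynomial.C c) = algebraMap k A c := Polynomial.aeval_C a c
lemma α_X {A : Art k k} (a : A) : α a Polynomial.X = a := Polynomial.aeval_X a

lemma hα {A : Art k k} (a : A) (ha : A.res a = 0) : (A.res : A →+* k).comp (α a) = ρ₀ k := by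
  apply Polynomial.ringHom_ext
  · intro c
    rw [RingHom.comp_apply, α_C]
    change A.res (algebraMap k A c) = Polynomial.eval 0 (Polynomial.C c)
    rw [AlgHom.commutes, Polynomial.eval_C]
    rfl
  · rw [RingHom.comp_apply, α_X]
    change A.res a = Polynomial.eval 0 Polynomial.X
    rw [ha, Polynomial.eval_X]

/-- the deformation `xy = a` of the node -/
noncomputable def nodeDef {A : Art k k} (a : A) (ha : A.res a = 0) : AlgDef (B₀ k) A :=
  AlgDef.ofFamily (ρ₀ k) (π₀ k) (hpo k) (α a) (hα a ha)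

/-- the coordinate functions -/
noncomputable def nodeθ {A : Art k k} (a : A) (ha : A.res a = 0) : P k →+* (nodeDef a ha).B :=
  AlgDef.ofFamilyθ (ρ₀ k) (π₀ k) (hpo k) (α a) (hα a ha)

lemma nodeθ_xy {A : Art k k} (a : A) (ha : A.res a = 0) :
    nodeθ a ha (MvPolynomial.X 0) * nodeθ a ha (MvPolynomial.X 1) = algebraMap A (nodeDef a ha).B a := by
  rw [← map_mul]
  have := AlgDef.ofFamilyθ_algebraMap (ρ₀ k) (π₀ k) (hpo k) (α a) (hα a ha) Polynomial.X
  rw [algebraMap_TP_X, α_X] at this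
  exact this

lemma nodeθ_C {A : Art k k} (a : A) (ha : A.res a = 0) (c : k) :
    nodeθ a ha (MvPolynomial.C c) = algebraMap A (nodeDef a ha).B (algebraMap k A c) := by
  have := AlgDef.ofFamilyθ_algebraMap (ρ₀ k) (π₀ k) (hpo k) (α a) (hα a ha) (Polynomial.C c)
  rw [algebraMap_TP_C, α_C] at this
  exact this

lemma node_π_θ {A : Art k k} (a : A) (ha : A.res a = 0) (p : P k) :
    (nodeDef a ha).π (nodeθ a ha p) = π₀ k p :=
  AlgDef.ofFamily_π_θ (ρ₀ k) (π₀ k) (hpo k) (α a) (hα a ha) p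

/-- `xy = s` and `xy = s + s²` are isomorphic deformations over `k[s]/(s³)` -/
theorem map_c_nodeDef :
    (DefF k k (B₀ k)).map T3.c (nodeDef (A := T3.obj k) (T3.s : T3 k) rfl).cl =
      (nodeDef (A := T3.obj k) (T3.s : T3 k) rfl).cl := by
  let 𝔇 := nodeDef (A := T3.obj k) (T3.s : T3 k) rfl
  let θ := nodeθ (A := T3.obj k) (T3.s : T3 k) rfl
  let ι : T3.obj k →+* 𝔇.B := algebraMap (T3.obj k) 𝔇.B
  let u : T3.obj k := (1 + T3.s : T3 k)
  let ψ : P k →+* 𝔇.B := MvPolynomial.eval₂Hom (ι.comp (algebraMap k (T3.obj k)))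
    (fun i : Fin 2 => if i = 0 then ι u * θ (MvPolynomial.X 0) else θ (MvPolynomial.X 1))
  have hψC : ∀ a, ψ (MvPolynomial.C a) = ι (algebraMap k (T3.obj k) a) := fun a =>
    MvPolynomial.eval₂Hom_C _ _ a
  have hψ0 : ψ (MvPolynomial.X 0) = ι u * θ (MvPolynomial.X 0) := by
    change MvPolynomial.eval₂Hom _ _ (MvPolynomial.X 0) = _
    rw [MvPolynomial.eval₂Hom_X']
    rfl
  have hψ1 : ψ (MvPolynomial.X 1) = θ (MvPolynomial.X 1) := by
    change MvPolynomial.eval₂Hom _ _ (MvPolynomial.X 1) = _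
    rw [MvPolynomial.eval₂Hom_X']
    rfl
  have hψ : ∀ t, ψ (algebraMap (T k) (P k) t) = ι (T3.c (α (A := T3.obj k) (T3.s : T3 k) t)) := by
    have h : ψ.comp (algebraMap (T k) (P k)) =
        (ι.comp (T3.c : T3.obj k ⟶ T3.obj k).toAlgHom.toRingHom).comp (α (A := T3.obj k) (T3.s : T3 k)) := by
      apply Polynomial.ringHom_ext
      · intro a
        rw [RingHom.comp_apply, RingHom.comp_apply, algebraMap_TP_C, hψC, α_C]
        change _ = ι ((T3.c : T3.obj k ⟶ T3.obj k).toAlgHom (algebraMap k (T3.obj k) a))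
        rw [AlgHom.commutes]
      · rw [RingHom.comp_apply, RingHom.comp_apply, algebraMap_TP_X, map_mul, hψ0, hψ1, mul_assoc,
          nodeθ_xy, α_X, ← map_mul]
        change _ = ι ((T3.c : T3.obj k ⟶ T3.obj k) (T3.s : T3 k))
        rw [T3.c_s]
        congr 1
        have h3 : ((1 + T3.s) * T3.s : T3 k) = T3.s + T3.s * T3.s := by ring
        exact h3
    exact fun t => RingHom.congr_fun h t
  have hψπ : ∀ p, 𝔇.π (ψ p) = π₀ k p := by
    have h : 𝔇.π.comp ψ = π₀ k := by
      apply MvPolynomial.ringHom_ext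
      · intro a
        rw [RingHom.comp_apply, hψC, 𝔇.comm, AlgHom.commutes]
        rfl
      · intro i
        fin_cases i
        · change 𝔇.π (ψ (MvPolynomial.X 0)) = π₀ k (MvPolynomial.X 0)
          rw [hψ0, map_mul, 𝔇.comm, node_π_θ]
          have : (T3.obj k).res u = 1 := by
            change (1 + T3.s : T3 k).a = 1
            simp
          rw [this, map_one, one_mul]
        · change 𝔇.π (ψ (MvPolynomial.X 1)) = π₀ k (MvPolynomial.X 1)
          rw [hψ1, node_π_θ]
    exact fun p => RingHom.congr_fun h p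
  obtain ⟨φ, h1, h2, -⟩ := AlgDef.exists_hom_ofFamily (ρ₀ k) (π₀ k) (hpo k) (α (A := T3.obj k) (T3.s : T3 k))
    (hα (A := T3.obj k) (T3.s : T3 k) rfl) T3.c 𝔇 ψ hψ hψπ
  exact AlgDef.map_cl_of_hom T3.c 𝔇 𝔇 φ h1 h2

/-- truncation of `xy = s` to `k[ε]` is `xy = ε` -/
theorem map_q_nodeDef :
    (DefF k k (B₀ k)).map T3.q (nodeDef (A := T3.obj k) (T3.s : T3 k) rfl).cl =
      (nodeDef (A := dual k k) (eps : (dual k k : Art k k)) rfl).cl := by
  refine AlgDef.map_cl_ofFamily (ρ₀ k) (π₀ k) (hpo k) _ _ T3.q _ _ ?_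
  have h : ((T3.q : T3.obj k ⟶ dual k k).toAlgHom.toRingHom).comp (α (A := T3.obj k) (T3.s : T3 k)) =
      α (A := dual k k) (eps : (dual k k : Art k k)) := by
    apply Polynomial.ringHom_ext
    · intro a
      rw [RingHom.comp_apply, α_C, α_C]
      exact (T3.q : T3.obj k ⟶ dual k k).toAlgHom.commutes a
    · rw [RingHom.comp_apply, α_X, α_X]
      exact T3.q_s
  exact fun t => RingHom.congr_fun h t

/-- the first order deformation `xy = ε` has no section -/
theorem nodeDef_eps_no_section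
    (σ : B₀ k →+* (nodeDef (A := dual k k) (eps : (dual k k : Art k k)) rfl).B)
    (hσ : ∀ b, (nodeDef (A := dual k k) (eps : (dual k k : Art k k)) rfl).π (σ b) = b) : False := by
  let 𝔇 := nodeDef (A := dual k k) (eps : (dual k k : Art k k)) rfl
  let θ := nodeθ (A := dual k k) (eps : (dual k k : Art k k)) rfl
  let E : 𝔇.B := algebraMap (dual k k : Art k k) 𝔇.B eps
  have hE2 : E * E = 0 := by
    change algebraMap (dual k k : Art k k) 𝔇.B eps * algebraMap (dual k k : Art k k) 𝔇.B eps = 0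
    rw [← map_mul, eps_mul_eps, map_zero]
  have hxy : θ (MvPolynomial.X 0) * θ (MvPolynomial.X 1) = E := nodeθ_xy _ _
  have hdecomp : ∀ (i : Fin 2), ∃ a : 𝔇.B, σ (π₀ k (MvPolynomial.X i)) = θ (MvPolynomial.X i) + a * E := by
    intro i
    have h1 : σ (π₀ k (MvPolynomial.X i)) - θ (MvPolynomial.X i) ∈ RingHom.ker 𝔇.π := by
      rw [RingHom.mem_ker, map_sub, hσ, node_π_θ, sub_self]
    rw [𝔇.ker_eq, maximalIdeal_dual, Ideal.map_span, Set.image_singleton, Ideal.mem_span_singleton'] at h1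
    obtain ⟨a, ha⟩ := h1
    exact ⟨a, by rw [ha]; ring⟩
  obtain ⟨a, ha⟩ := hdecomp 0
  obtain ⟨b, hb⟩ := hdecomp 1
  have h0 : σ (π₀ k (MvPolynomial.X 0)) * σ (π₀ k (MvPolynomial.X 1)) = 0 := by
    rw [← map_mul, ← map_mul, π₀_xy, map_zero]
  let w : 𝔇.B := 1 + a * θ (MvPolynomial.X 1) + b * θ (MvPolynomial.X 0)
  have hw : (eps : (dual k k : Art k k)) • w = 0 := by
    rw [Algebra.smul_def]
    change E * w = 0
    have : E * w = (θ (MvPolynomial.X 0) + a * E) * (θ (MvPolynomial.X 1) + b * E) := by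
      change E * (1 + a * θ (MvPolynomial.X 1) + b * θ (MvPolynomial.X 0)) = _
      have e : (θ (MvPolynomial.X 0) + a * E) * (θ (MvPolynomial.X 1) + b * E) =
          θ (MvPolynomial.X 0) * θ (MvPolynomial.X 1) + E * (a * θ (MvPolynomial.X 1) + b * θ (MvPolynomial.X 0)) +
            a * b * (E * E) := by ring
      rw [e, hE2, hxy]
      ring
    rw [this, ← ha, ← hb, h0]
  have hmem := mem_of_smul_eq_zero_of_flat (IsLocalRing.maximalIdeal (dual k k : Art k k)) eps
    (fun x hx => mem_of_mul_eps x hx) w hw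
  rw [AlgDef.mem_smul_top_iff] at hmem
  change 𝔇.π (1 + a * θ (MvPolynomial.X 1) + b * θ (MvPolynomial.X 0)) = 0 at hmem
  rw [map_add, map_add, map_one, map_mul, map_mul, node_π_θ, node_π_θ] at hmem
  let ev : B₀ k →+* k := Ideal.Quotient.lift _ (MvPolynomial.eval₂Hom (RingHom.id k) (fun _ => (0 : k))) (by
    intro p hp
    rw [Ideal.mem_span_singleton'] at hp
    obtain ⟨c, rfl⟩ := hp
    rw [map_mul, map_mul, MvPolynomial.eval₂Hom_X', zero_mul, mul_zero])
  have hev : ∀ i, ev (π₀ k (MvPolynomial.X i)) = 0 := by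
    intro i
    change Ideal.Quotient.lift _ _ _ (Ideal.Quotient.mk _ (MvPolynomial.X i)) = 0
    rw [Ideal.Quotient.lift_mk, MvPolynomial.eval₂Hom_X']
  have := congrArg ev hmem
  rw [map_add, map_add, map_one, map_mul, map_mul, hev, hev, mul_zero, mul_zero, add_zero, add_zero,
    map_zero] at this
  exact one_ne_zero this

/-- the deformation functor of the node is not prorepresentable -/
theorem not_isProrepresentable_node : ¬ IsProrepresentable (DefF k k (B₀ k)) := by
  refine not_isProrepresentable_of_fixed T3.c T3.q (nodeDef (A := T3.obj k) (T3.s : T3 k) rfl).cl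
    map_c_nodeDef T3.q_of_c_eq ?_
  intro v hv
  rw [map_q_nodeDef] at hv
  obtain ⟨𝔅v, rfl⟩ := AlgDef.exists_cl v
  rw [AlgDef.map_cl_tensor] at hv
  obtain ⟨e, heA, heπ⟩ := AlgDef.exists_ringEquiv_of_cl_eq _ _ hv
  have hinj : Function.Injective 𝔅v.π := by
    rw [injective_iff_map_eq_zero]
    intro b hb
    have : b ∈ RingHom.ker 𝔅v.π := hb
    rw [𝔅v.ker_eq, AlgDef.maximalIdeal_base, Ideal.map_bot] at this
    exact this
  let e₀ : 𝔅v.B ≃+* B₀ k := RingEquiv.ofBijective 𝔅v.π ⟨hinj, 𝔅v.surj⟩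
  let σ : B₀ k →+* (nodeDef (A := dual k k) (eps : (dual k k : Art k k)) rfl).B :=
    (e.symm.toRingHom.comp (𝔅v.tensorθ (ofBase (dual k k)))).comp e₀.symm.toRingHom
  refine nodeDef_eps_no_section σ fun b => ?_
  change (nodeDef (A := dual k k) (eps : (dual k k : Art k k)) rfl).π
    (e.symm (𝔅v.tensorθ (ofBase (dual k k)) (e₀.symm b))) = b
  have h1 : ∀ z, (nodeDef (A := dual k k) (eps : (dual k k : Art k k)) rfl).π (e.symm z) =
      (𝔅v.tensor (ofBase (dual k k))).π z := by
    intro z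
    rw [← heπ, RingEquiv.apply_symm_apply]
  rw [h1, AlgDef.tensor_π_θ]
  exact e₀.apply_symm_apply b

end Node

end Groth.Agent.Lib.Helper1.Node
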