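import Mathlib
import Groth.Prelude.Def_ArtFun2

/-!
# The ring `k[s]/(s³)` as an explicit object of `Art k k` (helper1)
-/

universe u
open CategoryTheory ArtFun ArtFun.Art

namespace Groth.Agent.Lib.Helper1.Node

/-- `k[s]/(s³)`: `a + b s + d s²` -/
@[ext] structure T3 (k : Type u) where
  /-- constant coefficient -/
  a : k
  /-- coefficient of `s` -/
  b : k
  /-- coefficient of `s²` -/
  d : k

namespace T3

variable {k : Type u} [Field k]

instance : Zero (T3 k) := ⟨⟨0, 0, 0⟩⟩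
instance : One (T3 k) := ⟨⟨1, 0, 0⟩⟩
instance : Add (T3 k) := ⟨fun x y => ⟨x.a + y.a, x.b + y.b, x.d + y.d⟩⟩
instance : Neg (T3 k) := ⟨fun x => ⟨-x.a, -x.b, -x.d⟩⟩
instance : Sub (T3 k) := ⟨fun x y => ⟨x.a - y.a, x.b - y.b, x.d - y.d⟩⟩
instance : Mul (T3 k) := ⟨fun x y => ⟨x.a * y.a, x.a * y.b + x.b * y.a, x.a * y.d + x.b * y.b + x.d * y.a⟩⟩
instance : SMul ℕ (T3 k) := ⟨fun n x => ⟨n • x.a, n • x.b, n • x.d⟩⟩
instance : SMul ℤ (T3 k) := ⟨fun n x => ⟨n • x.a, n • x.b, n • x.d⟩⟩
instance : NatCast (T3 k) := ⟨fun n => ⟨n, 0, 0⟩⟩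
instance : IntCast (T3 k) := ⟨fun n => ⟨n, 0, 0⟩⟩

@[simp] lemma zero_a : (0 : T3 k).a = 0 := rfl
@[simp] lemma zero_b : (0 : T3 k).b = 0 := rfl
@[simp] lemma zero_d : (0 : T3 k).d = 0 := rfl
@[simp] lemma one_a : (1 : T3 k).a = 1 := rfl
@[simp] lemma one_b : (1 : T3 k).b = 0 := rfl
@[simp] lemma one_d : (1 : T3 k).d = 0 := rfl
@[simp] lemma add_a (x y : T3 k) : (x + y).a = x.a + y.a := rfl
@[simp] lemma add_b (x y : T3 k) : (x + y).b = x.b + y.b := rfl
@[simp] lemma add_d (x y : T3 k) : (x + y).d = x.d + y.d := rfl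
@[simp] lemma neg_a (x : T3 k) : (-x).a = -x.a := rfl
@[simp] lemma neg_b (x : T3 k) : (-x).b = -x.b := rfl
@[simp] lemma neg_d (x : T3 k) : (-x).d = -x.d := rfl
@[simp] lemma sub_a (x y : T3 k) : (x - y).a = x.a - y.a := rfl
@[simp] lemma sub_b (x y : T3 k) : (x - y).b = x.b - y.b := rfl
@[simp] lemma sub_d (x y : T3 k) : (x - y).d = x.d - y.d := rfl
@[simp] lemma mul_a (x y : T3 k) : (x * y).a = x.a * y.a := rfl
@[simp] lemma mul_b (x y : T3 k) : (x * y).b = x.a * y.b + x.b * y.a := rfl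
@[simp] lemma mul_d (x y : T3 k) : (x * y).d = x.a * y.d + x.b * y.b + x.d * y.a := rfl
@[simp] lemma nsmul_a (n : ℕ) (x : T3 k) : (n • x).a = n • x.a := rfl
@[simp] lemma nsmul_b (n : ℕ) (x : T3 k) : (n • x).b = n • x.b := rfl
@[simp] lemma nsmul_d (n : ℕ) (x : T3 k) : (n • x).d = n • x.d := rfl
@[simp] lemma zsmul_a (n : ℤ) (x : T3 k) : (n • x).a = n • x.a := rfl
@[simp] lemma zsmul_b (n : ℤ) (x : T3 k) : (n • x).b = n • x.b := rfl
@[simp] lemma zsmul_d (n : ℤ) (x : T3 k) : (n • x).d = n • x.d := rfl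
@[simp] lemma natCast_a (n : ℕ) : ((n : T3 k)).a = n := rfl
@[simp] lemma natCast_b (n : ℕ) : ((n : T3 k)).b = 0 := rfl
@[simp] lemma natCast_d (n : ℕ) : ((n : T3 k)).d = 0 := rfl
@[simp] lemma intCast_a (n : ℤ) : ((n : T3 k)).a = n := rfl
@[simp] lemma intCast_b (n : ℤ) : ((n : T3 k)).b = 0 := rfl
@[simp] lemma intCast_d (n : ℤ) : ((n : T3 k)).d = 0 := rfl

instance : CommRing (T3 k) where
  add_assoc x y z := by ext <;> simp [add_assoc]
  zero_add x := by ext <;> simp
  add_zero x := by ext <;> simp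
  add_comm x y := by ext <;> simp [add_comm]
  nsmul n x := n • x
  nsmul_zero x := by ext <;> simp
  nsmul_succ n x := by ext <;> simp [add_mul]
  zsmul n x := n • x
  zsmul_zero' x := by ext <;> simp
  zsmul_succ' n x := by ext <;> simp [add_mul]
  zsmul_neg' n x := by ext <;> simp [add_mul] <;> ring
  neg_add_cancel x := by ext <;> simp
  sub_eq_add_neg x y := by ext <;> simp [sub_eq_add_neg]
  left_distrib x y z := by ext <;> simp <;> ring
  right_distrib x y z := by ext <;> simp <;> ring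
  zero_mul x := by ext <;> simp
  mul_zero x := by ext <;> simp
  mul_assoc x y z := by ext <;> simp <;> ring
  one_mul x := by ext <;> simp
  mul_one x := by ext <;> simp
  mul_comm x y := by ext <;> simp <;> ring
  natCast_zero := by ext <;> simp
  natCast_succ n := by ext <;> simp
  intCast_ofNat n := by ext <;> simp
  intCast_negSucc n := by ext <;> simp

/-- the structure map `k → k[s]/(s³)` -/
def incl : k →+* T3 k where
  toFun c := ⟨c, 0, 0⟩
  map_one' := rfl
  map_mul' x y := by ext <;> simp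
  map_zero' := rfl
  map_add' x y := by ext <;> simp

instance : Algebra k (T3 k) := incl.toAlgebra

@[simp] lemma algebraMap_a (c : k) : (algebraMap k (T3 k) c).a = c := rfl
@[simp] lemma algebraMap_b (c : k) : (algebraMap k (T3 k) c).b = 0 := rfl
@[simp] lemma algebraMap_d (c : k) : (algebraMap k (T3 k) c).d = 0 := rfl
@[simp] lemma smul_a (c : k) (x : T3 k) : (c • x).a = c * x.a := by
  rw [Algebra.smul_def]; simp
@[simp] lemma smul_b (c : k) (x : T3 k) : (c • x).b = c * x.b := by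
  rw [Algebra.smul_def]; simp
@[simp] lemma smul_d (c : k) (x : T3 k) : (c • x).d = c * x.d := by
  rw [Algebra.smul_def]; simp

/-- the augmentation -/
def aug : T3 k →ₐ[k] k where
  toFun x := x.a
  map_one' := rfl
  map_mul' x y := rfl
  map_zero' := rfl
  map_add' x y := rfl
  commutes' c := rfl

/-- the element `s` -/
def s : T3 k := ⟨0, 1, 0⟩

@[simp] lemma s_a : (s : T3 k).a = 0 := rfl
@[simp] lemma s_b : (s : T3 k).b = 1 := rfl
@[simp] lemma s_d : (s : T3 k).d = 0 := rfl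

lemma isUnit_of_a_ne_zero (x : T3 k) (hx : x.a ≠ 0) : IsUnit x := by
  refine IsUnit.of_mul_eq_one ⟨x.a⁻¹, -x.b * x.a⁻¹ * x.a⁻¹, (x.b * x.b - x.a * x.d) * x.a⁻¹ * x.a⁻¹ * x.a⁻¹⟩ ?_
  ext
  · simp [hx]
  · simp only [mul_b, one_b]
    field_simp
    ring
  · simp only [mul_d, one_d]
    field_simp
    ring

instance : IsLocalRing (T3 k) := by
  haveI : Nontrivial (T3 k) := ⟨⟨0, 1, fun h => by
    have := congrArg T3.a h
    simp at this⟩⟩
  refine IsLocalRing.of_isUnit_or_isUnit_one_sub_self fun x => ?_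
  by_cases hx : x.a = 0
  · right
    apply isUnit_of_a_ne_zero
    simp [hx]
  · left
    exact isUnit_of_a_ne_zero x hx

/-- coordinates -/
def equivFun : T3 k ≃ₗ[k] (Fin 3 → k) where
  toFun x := ![x.a, x.b, x.d]
  map_add' x y := by
    ext i
    fin_cases i <;> simp
  map_smul' c x := by
    ext i
    fin_cases i <;> simp
  invFun f := ⟨f 0, f 1, f 2⟩
  left_inv x := by ext <;> simp
  right_inv f := by
    ext i
    fin_cases i <;> simp

instance : Module.Finite k (T3 k) := Module.Finite.equiv equivFun.symm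

instance : IsArtinianRing (T3 k) := IsArtinianRing.of_finite k (T3 k)

variable (k) in
/-- `k[s]/(s³)` as an object of `Art k k` -/
def obj : Art k k :=
  { carrier := T3 k
    res := aug
    res_surjective := fun c => ⟨algebraMap k (T3 k) c, rfl⟩ }

/-- the automorphism `s ↦ s + s²` -/
def cHom : T3 k →ₐ[k] T3 k where
  toFun x := ⟨x.a, x.b, x.b + x.d⟩
  map_one' := by ext <;> simp
  map_mul' x y := by ext <;> simp <;> ring
  map_zero' := by ext <;> simp
  map_add' x y := by ext <;> simp <;> ring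
  commutes' c := by ext <;> simp

/-- the automorphism `s ↦ s + s²` as a morphism -/
def c : obj k ⟶ obj k := ⟨cHom, AlgHom.ext fun _ => rfl⟩

/-- the truncation `k[s]/(s³) → k[ε]` -/
def qHom : T3 k →ₐ[k] DualNumber k where
  toFun x := TrivSqZeroExt.inl x.a + TrivSqZeroExt.inr x.b
  map_one' := by
    ext <;> simp
  map_mul' x y := by
    ext <;> simp
  map_zero' := by ext <;> simp
  map_add' x y := by
    ext <;> simp
  commutes' c := by
    rw [TrivSqZeroExt.algebraMap_eq_inl]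
    ext <;> simp

/-- the truncation as a morphism -/
def q : obj k ⟶ dual k k := ⟨qHom, AlgHom.ext fun x => by
  change TrivSqZeroExt.fst (TrivSqZeroExt.inl x.a + TrivSqZeroExt.inr x.b) = x.a
  simp⟩

lemma c_s : (c : obj k ⟶ obj k) (s : T3 k) = (s + s * s : T3 k) := by
  change (⟨0, 1, 1 + 0⟩ : T3 k) = (s + s * s : T3 k)
  ext <;> simp

lemma q_s : (q : obj k ⟶ dual k k) (s : T3 k) = (DualNumber.eps : DualNumber k) := by
  change TrivSqZeroExt.inl (0 : k) + TrivSqZeroExt.inr (1 : k) = _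
  ext <;> simp

lemma s_mem : (s : T3 k) ∈ IsLocalRing.maximalIdeal (obj k) := by
  exact (Art.mem_maximalIdeal_iff (obj k) s).2 rfl

/-- the fixed ring of `c` maps into `k` under `q` -/
lemma q_of_c_eq (x : obj k) (hx : (c : obj k ⟶ obj k) x = x) :
    (q : obj k ⟶ dual k k) x = algebraMap k (DualNumber k) ((obj k).res x) := by
  have h1 : (⟨x.a, x.b, x.b + x.d⟩ : T3 k) = x := hx
  have h2 : x.b + x.d = x.d := congrArg T3.d h1
  have h3 : x.b = 0 := by linear_combination h2
  change TrivSqZeroExt.inl x.a + TrivSqZeroExt.inr x.b = algebraMap k (DualNumber k) x.a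
  rw [h3, TrivSqZeroExt.algebraMap_eq_inl]
  ext <;> simp

end T3

end Groth.Agent.Lib.Helper1.Node
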