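import Mathlib
import Groth.Prelude.Def_EGA4b
import Groth.Agent.Lib.Helper12.Normal
import Groth.Agent.Lib.Helper12.Normal2
import Groth.Agent.Lib.Helper18.J2j
import Groth.Agent.Lib.Helper18.PMor4
import Groth.Agent.Lib.Helper18.FormFib
import Groth.Agent.Lib.Helper7.HopfLieEq
import Groth.Agent.Lib.Helper23.RegularHom

/-!
# Smooth algebras over normal rings are normal (no Noetherian hypothesis on the base) — helper1

* `normal_of_injective_of_normal`: a local ring `U` that injects into a Noetherian normal ring `V`
  and is integrally closed in it is an integrally closed domain.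
* `normal_localization_of_smooth_of_domain`, `isNormalRing_of_smooth_of_domain`,
  `isNormalRing_of_smooth`: smooth over normal is normal
  (via Mathlib's `TensorProduct.toIntegralClosure_bijective_of_smooth`).
-/

set_option autoImplicit false
set_option linter.style.haveILetI false
set_option linter.unusedSectionVars false
universe u

open TensorProduct Polynomial

namespace Groth.Agent.Lib.Helper1.NormalSmooth

open Groth.Agent.Lib.Helper12.Normal Groth.Agent.Lib.Helper12.Normal2

theorem idempotent_eq_zero_or_one_of_isLocalRing {U : Type*} [CommRing U] [IsLocalRing U] (e : U)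
    (he : IsIdempotentElem e) : e = 0 ∨ e = 1 := by
  have h0 : e * (1 - e) = 0 := by
    rw [mul_sub, mul_one, he.eq, sub_self]
  rcases IsLocalRing.isUnit_or_isUnit_one_sub_self e with h | h
  · right
    have := h.mul_right_eq_zero.mp h0
    exact (sub_eq_zero.mp this).symm
  · left
    exact h.mul_left_eq_zero.mp h0

/-- A local ring injecting into a Noetherian normal ring in which it is integrally closed is an
integrally closed domain. -/
theorem normal_of_injective_of_normal {U V : Type u} [CommRing U] [IsLocalRing U] [CommRing V]
    [Algebra U V] [IsNoetherianRing V] (hinj : Function.Injective (algebraMap U V))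
    (hV : EGA4.IsNormalRing V)
    (hic : ∀ v : V, IsIntegral U v → v ∈ (algebraMap U V).range) :
    IsDomain U ∧ IsIntegrallyClosed U := by
  haveI : Nontrivial V := hinj.nontrivial
  haveI hVd : IsDomain V := by
    apply Groth.Agent.Lib.Helper7.HopfLieEq.isDomain_of_connected
    · intro m hm
      haveI := hm.isPrime
      exact (hV m).1
    · intro e he
      have hint : IsIntegral U e := by
        refine ⟨X ^ 2 - X, monic_X_pow_sub (by rw [degree_X]; norm_num), ?_⟩
        simp only [eval₂_sub, eval₂_pow, eval₂_X]
        rw [pow_two, he.eq, sub_self]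
      obtain ⟨u, rfl⟩ := hic e hint
      have hu : IsIdempotentElem u := by
        apply hinj
        rw [map_mul]
        exact he.eq
      rcases idempotent_eq_zero_or_one_of_isLocalRing u hu with h | h
      · left; rw [h, map_zero]
      · right; rw [h, map_one]
  haveI hVic : IsIntegrallyClosed V := by
    apply IsIntegrallyClosed.of_localization_maximal
    intro p _ hp
    exact (hV p).2
  haveI hUd : IsDomain U := hinj.isDomain
  refine ⟨hUd, ?_⟩
  apply isIntegrallyClosed_of_scaleRoots
  intro a b p hb hp h
  have hb' : algebraMap U V b ≠ 0 := fun h0 => hb (hinj (by rw [h0, map_zero]))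
  have h' : ((p.map (algebraMap U V)).scaleRoots (algebraMap U V b)).eval (algebraMap U V a) = 0 := by
    rw [← map_scaleRoots _ _ _ (by rw [hp.leadingCoeff, map_one]; exact one_ne_zero), eval_map,
      eval₂_at_apply, h, map_zero]
  obtain ⟨v, hv⟩ := dvd_of_scaleRoots hb' (hp.map (algebraMap U V)) h'
  have hvint : IsIntegral U v := by
    refine ⟨p, hp, ?_⟩
    have h1 := scaleRoots_eval₂_mul (p := p) (algebraMap U V) v b
    rw [← hv, eval₂_at_apply, h, map_zero] at h1
    rcases mul_eq_zero.mp h1.symm with h3 | h3
    · exact absurd (eq_zero_of_pow_eq_zero h3) hb'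
    · exact h3
  obtain ⟨u, rfl⟩ := hic v hvint
  refine ⟨u, ?_⟩
  apply hinj
  rw [hv, map_mul]

section smooth

variable (R S : Type u) [CommRing R] [IsDomain R] [IsIntegrallyClosed R] [CommRing S] [Algebra R S]
  [Algebra.Smooth R S]

theorem isNormalRing_tensor_fractionRing : EGA4.IsNormalRing (S ⊗[R] FractionRing R) := by
  have h1 : IsRegularRing (FractionRing R ⊗[R] S) :=
    Groth.Agent.Lib.Helper23.RegularHom.isRegularRing_of_smooth (FractionRing R) _
  have h2 := Groth.Agent.Lib.Helper18.PMor.isNormalRing_of_isRegularRing h1
  exact Groth.Agent.Lib.Helper18.FormFib.isNormalRing_of_ringEquiv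
    (Algebra.TensorProduct.comm R (FractionRing R) S).toRingEquiv h2

include R in
theorem normal_localization_of_smooth_of_domain (P : Ideal S) [P.IsPrime] :
    IsDomain (Localization.AtPrime P) ∧ IsIntegrallyClosed (Localization.AtPrime P) := by
  have hinj : Function.Injective (algebraMap (Localization.AtPrime P)
      (Localization.AtPrime P ⊗[R] FractionRing R)) := by
    haveI : Module.Flat R (Localization.AtPrime P) := Module.Flat.trans R S _
    exact Algebra.TensorProduct.includeLeft_injective (S := Localization.AtPrime P)
      (IsFractionRing.injective R (FractionRing R))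
  letI alg : Algebra (S ⊗[R] FractionRing R) (Localization.AtPrime P ⊗[R] FractionRing R) :=
    (Algebra.TensorProduct.map (IsScalarTower.toAlgHom R S (Localization.AtPrime P))
      (AlgHom.id R (FractionRing R))).toRingHom.toAlgebra
  haveI : IsScalarTower S (S ⊗[R] FractionRing R) (Localization.AtPrime P ⊗[R] FractionRing R) :=
    @IsScalarTower.of_algebraMap_eq' S (S ⊗[R] FractionRing R)
      (Localization.AtPrime P ⊗[R] FractionRing R) _ _ _ _ _ _ (by
      ext x
      simp [RingHom.algebraMap_toAlgebra])
  have hloc : IsLocalization (Algebra.algebraMapSubmonoid (S ⊗[R] FractionRing R) P.primeCompl)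
      (Localization.AtPrime P ⊗[R] FractionRing R) :=
    IsLocalization.tensorProduct_tensorProduct R (FractionRing R) P.primeCompl
      (Localization.AtPrime P) (by ext; simp [RingHom.algebraMap_toAlgebra])
  haveI : IsNoetherianRing (S ⊗[R] FractionRing R) := by
    haveI : IsNoetherianRing (FractionRing R ⊗[R] S) :=
      Algebra.FiniteType.isNoetherianRing (FractionRing R) _
    exact isNoetherianRing_of_ringEquiv _
      (Algebra.TensorProduct.comm R (FractionRing R) S).toRingEquiv
  haveI : IsNoetherianRing (Localization.AtPrime P ⊗[R] FractionRing R) :=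
    IsLocalization.isNoetherianRing
      (Algebra.algebraMapSubmonoid (S ⊗[R] FractionRing R) P.primeCompl) _
      (inferInstance : IsNoetherianRing (S ⊗[R] FractionRing R))
  have hV : EGA4.IsNormalRing (Localization.AtPrime P ⊗[R] FractionRing R) := by
    have h1 := Groth.Agent.Lib.Helper18.J2.isNormalRing_localization
      (Algebra.algebraMapSubmonoid (S ⊗[R] FractionRing R) P.primeCompl)
      (isNormalRing_tensor_fractionRing R S)
    exact Groth.Agent.Lib.Helper18.FormFib.isNormalRing_of_ringEquiv
      (IsLocalization.algEquiv (Algebra.algebraMapSubmonoid (S ⊗[R] FractionRing R) P.primeCompl)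
        (Localization (Algebra.algebraMapSubmonoid (S ⊗[R] FractionRing R) P.primeCompl))
        (Localization.AtPrime P ⊗[R] FractionRing R)).toRingEquiv h1
  refine normal_of_injective_of_normal hinj hV ?_
  intro v hv
  have H := TensorProduct.toIntegralClosure_bijective_of_tower (R := R) (S := S)
    (T := Localization.AtPrime P) (B := FractionRing R)
    TensorProduct.toIntegralClosure_bijective_of_smooth
    (TensorProduct.toIntegralClosure_bijective_of_isLocalization (R := S)
      (S := Localization.AtPrime P) (B := S ⊗[R] FractionRing R) P.primeCompl)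
  obtain ⟨x, hx⟩ := H.2 ⟨v, hv⟩
  have hx' : v = Algebra.TensorProduct.map (AlgHom.id (Localization.AtPrime P) (Localization.AtPrime P))
      (integralClosure R (FractionRing R)).val x := by
    have := congrArg Subtype.val hx
    exact this.symm
  rw [hx']
  clear hx hx'
  induction x with
  | zero => exact ⟨0, by simp⟩
  | add x y hx hy =>
    obtain ⟨a, ha⟩ := hx
    obtain ⟨b, hb⟩ := hy
    exact ⟨a + b, by rw [map_add, map_add, ha, hb]⟩
  | tmul u c =>
    obtain ⟨c, hc⟩ := c
    have hc' : c ∈ (⊥ : Subalgebra R (FractionRing R)) := by
      rw [← IsIntegrallyClosed.integralClosure_eq_bot R (FractionRing R)]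
      exact hc
    obtain ⟨r, rfl⟩ := Algebra.mem_bot.mp hc'
    refine ⟨r • u, ?_⟩
    simp [Algebra.TensorProduct.algebraMap_apply, Algebra.smul_def]
    rw [← Algebra.smul_def, TensorProduct.smul_tmul, Algebra.smul_def, mul_one]

include R in
theorem isNormalRing_of_smooth_of_domain : EGA4.IsNormalRing S :=
  fun P _ => normal_localization_of_smooth_of_domain R S P

end smooth

attribute [local instance] Algebra.TensorProduct.rightAlgebra in
/-- A smooth algebra over a normal ring is a normal ring. -/
theorem isNormalRing_of_smooth (R S : Type u) [CommRing R] [CommRing S] [Algebra R S]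
    [Algebra.Smooth R S] (hR : EGA4.IsNormalRing R) : EGA4.IsNormalRing S := by
  apply isNormalRing_of_cover
  intro P hP
  haveI hp : (P.comap (algebraMap R S)).IsPrime := Ideal.comap_isPrime _ _
  obtain ⟨h1, h2⟩ := hR (P.comap (algebraMap R S))
  refine ⟨Localization.AtPrime (P.comap (algebraMap R S)) ⊗[R] S, inferInstance, inferInstance,
    Algebra.algebraMapSubmonoid S (P.comap (algebraMap R S)).primeCompl,
    IsLocalization.tensorRight (Localization.AtPrime (P.comap (algebraMap R S)))
      (P.comap (algebraMap R S)).primeCompl, ?_, ?_⟩
  · exact isNormalRing_of_smooth_of_domain (Localization.AtPrime (P.comap (algebraMap R S))) _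
  · rw [Set.disjoint_left]
    rintro x ⟨r, hr, rfl⟩ hx
    exact hr hx

end Groth.Agent.Lib.Helper1.NormalSmooth
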