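import Mathlib
import Groth.Prelude.Def_EGA4b
import Groth.Agent.Lib.Helper1.NormalSmooth
import Groth.Agent.Lib.Helper18.ICFlat
import Groth.Agent.Lib.Helper18.J2a
import Groth.Agent.Lib.Helper23.FieldSep

/-!
# Normal rings and separable field extensions (helper1)

* `isNormalRing_of_faithfullyFlat`: descent of normality along faithfully flat maps (no Noetherian
  hypotheses).
* `isNormalRing_of_directed`: a ring which is the directed union of normal rings is normal.
* `exists_smooth_isLocalization`: a finitely generated separable field extension is a localization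
  of a smooth algebra.
* `isNormalRing_tensor_of_essFiniteType`, `isNormalRing_tensor_of_isGeometricallyReduced`:
  base change of a normal ring along a separable field extension is normal (EGA IV 6.14.2).
-/

set_option autoImplicit false
set_option linter.style.haveILetI false
set_option linter.unusedSectionVars false
universe u

open TensorProduct

namespace Groth.Agent.Lib.Helper1.NormalField

open Groth.Agent.Lib.Helper12.Normal Groth.Agent.Lib.Helper12.Normal2
open Groth.Agent.Lib.Helper1.NormalSmooth

section descent

/-- descent of "integrally closed domain" along a flat map, at a prime (no Noetherian hypothesis). -/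
theorem normal_comap_of_flat (A B : Type u) [CommRing A] [CommRing B]
    [Algebra A B] [Module.Flat A B] (q : Ideal B) [q.IsPrime]
    [IsDomain (Localization.AtPrime q)] [IsIntegrallyClosed (Localization.AtPrime q)] :
    IsDomain (Localization.AtPrime (q.comap (algebraMap A B))) ∧
      IsIntegrallyClosed (Localization.AtPrime (q.comap (algebraMap A B))) := by
  have hlo : q.LiesOver (q.comap (algebraMap A B)) := ⟨rfl⟩
  let := Localization.AtPrime.algebraOfLiesOver (q.comap (algebraMap A B)) q
  have : IsLocalHom (algebraMap (Localization.AtPrime (q.comap (algebraMap A B)))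
      (Localization.AtPrime q)) :=
    Localization.isLocalHom_localRingHom (q.comap (algebraMap A B)) q (algebraMap A B)
      Ideal.LiesOver.over
  have : Module.FaithfullyFlat (Localization.AtPrime (q.comap (algebraMap A B)))
      (Localization.AtPrime q) := Module.FaithfullyFlat.of_flat_of_isLocalHom
  have hd := Groth.Agent.Lib.Helper18.ICFlat.isDomain_of_faithfullyFlat
    (Localization.AtPrime (q.comap (algebraMap A B))) (Localization.AtPrime q)
  exact ⟨hd, Groth.Agent.Lib.Helper18.ICFlat.isIntegrallyClosed_of_faithfullyFlat
    (Localization.AtPrime (q.comap (algebraMap A B))) (Localization.AtPrime q)⟩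

theorem normal_congr {R : Type u} [CommRing R] {p p' : Ideal R} [p.IsPrime] [p'.IsPrime]
    (h : p = p') : (IsDomain (Localization.AtPrime p) ∧
      IsIntegrallyClosed (Localization.AtPrime p)) →
      (IsDomain (Localization.AtPrime p') ∧ IsIntegrallyClosed (Localization.AtPrime p')) := by
  subst h
  exact id

theorem isNormalRing_of_faithfullyFlat (A B : Type u) [CommRing A] [CommRing B]
    [Algebra A B] [Module.FaithfullyFlat A B] (h : EGA4.IsNormalRing B) : EGA4.IsNormalRing A := by
  intro q _
  obtain ⟨Q, hQ⟩ := PrimeSpectrum.comap_surjective_of_faithfullyFlat (B := B) ⟨q, inferInstance⟩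
  have hQ' : Q.asIdeal.comap (algebraMap A B) = q := congrArg PrimeSpectrum.asIdeal hQ
  obtain ⟨h1, h2⟩ := h Q.asIdeal
  exact normal_congr hQ' (normal_comap_of_flat A B Q.asIdeal)

end descent

section union

variable {ι : Type u} [Preorder ι] [Nonempty ι] [IsDirected ι (· ≤ ·)] (G : ι → Type u)
  [∀ i, CommRing (G i)] (f : ∀ i j, i ≤ j → G i →+* G j) [DirectedSystem G fun i j h => f i j h]

theorem isNormalRing_of_directed (R : Type u) [CommRing R] (g : ∀ i, G i →+* R)
    (Hg : ∀ i j hij x, g j (f i j hij x) = g i x) (hinj : ∀ i, Function.Injective (g i))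
    (hsurj : ∀ r : R, ∃ i x, g i x = r) (hG : ∀ i, EGA4.IsNormalRing (G i)) :
    EGA4.IsNormalRing R := by
  have h1 : Function.Injective (Ring.DirectLimit.lift G (fun i j h => f i j h) R g Hg) :=
    Ring.DirectLimit.lift_injective (G := G) (f := fun i j h => f i j h) R g Hg hinj
  have h2 : Function.Surjective (Ring.DirectLimit.lift G (fun i j h => f i j h) R g Hg) := by
    intro r
    obtain ⟨i, x, rfl⟩ := hsurj r
    exact ⟨Ring.DirectLimit.of G (fun i j h => f i j h) i x, Ring.DirectLimit.lift_of _ _ _ _ _⟩
  exact Groth.Agent.Lib.Helper18.FormFib.isNormalRing_of_ringEquiv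
    (RingEquiv.ofBijective _ ⟨h1, h2⟩) (isNormalRing_directLimit G f hG)

end union

section atPrime

/-- if a normal ring `T` is a localization of `R` at a submonoid disjoint from the prime `P`, then
`R_P` is an integrally closed domain. -/
theorem normal_atPrime_of_isLocalization (R T : Type u) [CommRing R] [CommRing T] [Algebra R T]
    (M : Submonoid R) [hloc : IsLocalization M T] (hT : EGA4.IsNormalRing T)
    (P : Ideal R) [hP : P.IsPrime] (hd : Disjoint (M : Set R) P) :
    IsDomain (Localization.AtPrime P) ∧ IsIntegrallyClosed (Localization.AtPrime P) := by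
  have hq : (P.map (algebraMap R T)).IsPrime := IsLocalization.isPrime_of_isPrime_disjoint M T P hP hd
  have hc : (P.map (algebraMap R T)).comap (algebraMap R T) = P :=
    IsLocalization.under_map_of_isPrime_disjoint M T hP hd
  haveI hloc2 : IsLocalization.AtPrime (Localization.AtPrime (P.map (algebraMap R T)))
      ((P.map (algebraMap R T)).comap (algebraMap R T)) :=
    IsLocalization.isLocalization_isLocalization_atPrime_isLocalization M _ (P.map (algebraMap R T))
  have hloc3 : IsLocalization.AtPrime (Localization.AtPrime (P.map (algebraMap R T))) P := by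
    convert hloc2 using 1
    all_goals try exact hc.symm
  let e : Localization.AtPrime P ≃ₐ[R] Localization.AtPrime (P.map (algebraMap R T)) :=
    IsLocalization.algEquiv P.primeCompl _ _
  obtain ⟨h1, h2⟩ := hT (P.map (algebraMap R T))
  exact ⟨e.toMulEquiv.isDomain _, IsIntegrallyClosed.of_equiv e.symm.toRingEquiv⟩

end atPrime

section field

variable (k L : Type u) [Field k] [Field L] [Algebra k L]

/-- A finitely generated separable field extension is a localization of a smooth algebra. -/
theorem exists_smooth_isLocalization [Algebra.EssFiniteType k L]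
    [Algebra.IsGeometricallyReduced k L] :
    ∃ (D : Type u) (_ : CommRing D) (_ : Algebra k D) (_ : Algebra D L) (_ : IsScalarTower k D L)
      (M : Submonoid D), Algebra.Smooth k D ∧ IsLocalization M L := by
  let D₀ := Algebra.EssFiniteType.subalgebra k L
  have hM : Algebra.EssFiniteType.submonoid k L = nonZeroDivisors D₀ := by
    ext x
    rw [mem_nonZeroDivisors_iff_ne_zero]
    change IsUnit (algebraMap D₀ L x) ↔ _
    rw [isUnit_iff_ne_zero]
    constructor
    · intro h h0; exact h (by rw [h0, map_zero])
    · intro h h0
      exact h (Subtype.ext (by simpa using h0))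
  haveI : IsFractionRing D₀ L := by
    have := Algebra.EssFiniteType.isLocalization (R := k) (S := L)
    rw [hM] at this
    exact this
  obtain ⟨g, hg, hsm⟩ := Groth.Agent.Lib.Helper18.J2.exists_smooth_away k D₀ k L
  have hle : Submonoid.powers g ≤ nonZeroDivisors D₀ :=
    Submonoid.powers_le.mpr (mem_nonZeroDivisors_of_ne_zero hg)
  letI : Algebra (Localization.Away g) L :=
    IsLocalization.localizationAlgebraOfSubmonoidLe (Localization.Away g) L
      (Submonoid.powers g) (nonZeroDivisors D₀) hle
  haveI : IsScalarTower D₀ (Localization.Away g) L :=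
    IsLocalization.localization_isScalarTower_of_submonoid_le (Localization.Away g) L
      (Submonoid.powers g) (nonZeroDivisors D₀) hle
  haveI : IsScalarTower k (Localization.Away g) L := IsScalarTower.to₁₃₄ k D₀ _ _
  exact ⟨Localization.Away g, inferInstance, inferInstance, inferInstance, inferInstance, _, hsm,
    IsLocalization.isLocalization_of_submonoid_le (Localization.Away g) L
      (Submonoid.powers g) (nonZeroDivisors D₀) hle⟩

/-- a localization (in the `IsLocalization` sense) of a normal ring is normal -/
theorem isNormalRing_of_isLocalization {R T : Type u} [CommRing R] [CommRing T] [Algebra R T]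
    (M : Submonoid R) [IsLocalization M T] (hR : EGA4.IsNormalRing R) : EGA4.IsNormalRing T :=
  Groth.Agent.Lib.Helper18.FormFib.isNormalRing_of_ringEquiv
    (IsLocalization.algEquiv M (Localization M) T).toRingEquiv
    (Groth.Agent.Lib.Helper18.J2.isNormalRing_localization M hR)

/-- **EGA IV 6.14.2**, finitely generated case: base change of a normal ring along a finitely
generated separable field extension is normal. -/
theorem isNormalRing_tensor_of_essFiniteType [Algebra.EssFiniteType k L]
    [Algebra.IsGeometricallyReduced k L] (A : Type u) [CommRing A] [Algebra k A]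
    (hA : EGA4.IsNormalRing A) : EGA4.IsNormalRing (L ⊗[k] A) := by
  obtain ⟨D, _, _, _, _, M, hsm, hloc⟩ := exists_smooth_isLocalization k L
  have h1 : EGA4.IsNormalRing (A ⊗[k] D) := isNormalRing_of_smooth A (A ⊗[k] D) hA
  letI alg : Algebra (A ⊗[k] D) (A ⊗[k] L) :=
    (Algebra.TensorProduct.map (AlgHom.id A A) (IsScalarTower.toAlgHom k D L)).toRingHom.toAlgebra
  haveI : IsScalarTower A (A ⊗[k] D) (A ⊗[k] L) :=
    @IsScalarTower.of_algebraMap_eq' A (A ⊗[k] D) (A ⊗[k] L) _ _ _ _ _ _ (by
      ext x
      simp [RingHom.algebraMap_toAlgebra])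
  have hloc2 := IsLocalization.tensorProduct_tensorProduct_right k A M L
    (by ext; simp [RingHom.algebraMap_toAlgebra])
  have h2 : EGA4.IsNormalRing (A ⊗[k] L) :=
    @isNormalRing_of_isLocalization _ _ _ _ _ _ hloc2 h1
  exact Groth.Agent.Lib.Helper18.FormFib.isNormalRing_of_ringEquiv
    (Algebra.TensorProduct.comm k A L).toRingEquiv h2

section fg

variable (A : Type u) [CommRing A] [Algebra k A]

/-- the transition maps of the system of finitely generated subextensions -/
noncomputable def fgMap (s t : Finset L) (h : s ≤ t) :
    (IntermediateField.adjoin k (s : Set L)) ⊗[k] A →ₐ[k]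
      (IntermediateField.adjoin k (t : Set L)) ⊗[k] A :=
  Algebra.TensorProduct.map
    (IntermediateField.inclusion (IntermediateField.adjoin.mono k _ _ (Finset.coe_subset.mpr h)))
    (AlgHom.id k A)

noncomputable def fgIncl (s : Finset L) :
    (IntermediateField.adjoin k (s : Set L)) ⊗[k] A →ₐ[k] L ⊗[k] A :=
  Algebra.TensorProduct.map (IntermediateField.val _) (AlgHom.id k A)

theorem fgIncl_fgMap (s t : Finset L) (h : s ≤ t) (x) :
    fgIncl k L A t (fgMap k L A s t h x) = fgIncl k L A s x := by
  induction x with
  | zero => simp
  | add x y hx hy => rw [map_add, map_add, map_add, hx, hy]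
  | tmul x a => rfl

theorem fgIncl_injective (s : Finset L) : Function.Injective (fgIncl k L A s) :=
  Module.Flat.rTensor_preserves_injective_linearMap (M := A)
    (IntermediateField.val (IntermediateField.adjoin k (s : Set L))).toLinearMap
    Subtype.val_injective

theorem fgIncl_surjective (r : L ⊗[k] A) : ∃ s x, fgIncl k L A s x = r := by
  classical
  induction r with
  | zero => exact ⟨∅, 0, map_zero _⟩
  | tmul x a =>
    exact ⟨{x}, (⟨x, IntermediateField.subset_adjoin k _ (by simp)⟩ :
      IntermediateField.adjoin k (({x} : Finset L) : Set L)) ⊗ₜ[k] a, rfl⟩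
  | add x y hx hy =>
    obtain ⟨s, x', rfl⟩ := hx
    obtain ⟨t, y', rfl⟩ := hy
    refine ⟨s ∪ t, fgMap k L A s (s ∪ t) Finset.subset_union_left x' +
      fgMap k L A t (s ∪ t) Finset.subset_union_right y', ?_⟩
    rw [map_add, fgIncl_fgMap, fgIncl_fgMap]

instance : DirectedSystem (fun s : Finset L => (IntermediateField.adjoin k (s : Set L)) ⊗[k] A)
    (fun s t h => (fgMap k L A s t h : _ → _)) where
  map_self s x := by
    apply fgIncl_injective k L A s
    rw [fgIncl_fgMap]
  map_map _ _ v _ _ x := by
    apply fgIncl_injective k L A
    rw [fgIncl_fgMap, fgIncl_fgMap, fgIncl_fgMap]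

/-- If `K ⊗ A` is normal for all finitely generated subextensions `K` of `L/k`, then `L ⊗ A` is
normal. -/
theorem isNormalRing_tensor_of_forall_fg
    (h : ∀ s : Finset L, EGA4.IsNormalRing ((IntermediateField.adjoin k (s : Set L)) ⊗[k] A)) :
    EGA4.IsNormalRing (L ⊗[k] A) := by
  classical
  exact isNormalRing_of_directed
    (G := fun s : Finset L => (IntermediateField.adjoin k (s : Set L)) ⊗[k] A)
    (f := fun s t h => (fgMap k L A s t h).toRingHom)
    (L ⊗[k] A) (fun s => (fgIncl k L A s).toRingHom)
    (fun s t h x => fgIncl_fgMap k L A s t h x)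
    (fun s => fgIncl_injective k L A s)
    (fun r => fgIncl_surjective k L A r) h

/-- **EGA IV 6.14.2**: base change of a normal ring along a separable (geometrically reduced)
field extension is normal. -/
theorem isNormalRing_tensor_of_isGeometricallyReduced [Algebra.IsGeometricallyReduced k L]
    (hA : EGA4.IsNormalRing A) : EGA4.IsNormalRing (L ⊗[k] A) := by
  apply isNormalRing_tensor_of_forall_fg
  intro s
  haveI : Algebra.EssFiniteType k (IntermediateField.adjoin k (s : Set L)) :=
    IntermediateField.essFiniteType_iff.mpr (IntermediateField.fg_adjoin_finset s)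
  haveI : Algebra.IsGeometricallyReduced k (IntermediateField.adjoin k (s : Set L)) :=
    Algebra.IsGeometricallyReduced.of_injective
      (IntermediateField.val (IntermediateField.adjoin k (s : Set L))) Subtype.val_injective
  exact isNormalRing_tensor_of_essFiniteType k _ A hA

end fg

end field

end Groth.Agent.Lib.Helper1.NormalField
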