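import Mathlib
import Groth.Prelude.Def_EGA4b
import Groth.Agent.Lib.Helper1.NormalField

/-!
# Geometric normality and separable algebraic extensions (helper1)

* `exists_notMem_mul_eq_zero`: in a reduced algebra integral over a field, every element of a prime
  `n` is killed by an element outside `n`.
* `isLocalization_quotient`: hence `B ⧸ n` is the localization of `B` at `n`.
-/

set_option autoImplicit false
set_option linter.style.haveILetI false
set_option linter.unusedSectionVars false
universe u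

open TensorProduct Polynomial

namespace Groth.Agent.Lib.Helper1.NormalField

section absflat

variable (K : Type*) {B : Type*} [Field K] [CommRing B] [Algebra K B] [IsReduced B]
  [Algebra.IsIntegral K B]

theorem coeff_zero_eq_zero_of_aeval_mem (n : Ideal B) [n.IsPrime] {x : B} (hx : x ∈ n)
    (g : K[X]) (hg : aeval x g ∈ n) : g.coeff 0 = 0 := by
  have h1 : aeval (Ideal.Quotient.mk n x) g = 0 := by
    rw [← Ideal.Quotient.mkₐ_eq_mk K, aeval_algHom_apply, Ideal.Quotient.mkₐ_eq_mk,
      Ideal.Quotient.eq_zero_iff_mem]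
    exact hg
  rw [Ideal.Quotient.eq_zero_iff_mem.mpr hx] at h1
  rw [← coeff_zero_eq_aeval_zero' (A := B ⧸ n)] at h1
  haveI : Nontrivial (B ⧸ n) := Ideal.Quotient.nontrivial_iff.mpr ‹n.IsPrime›.ne_top
  exact (map_eq_zero_iff _ (algebraMap K (B ⧸ n)).injective).mp h1

include K in
theorem exists_notMem_mul_eq_zero (n : Ideal B) [n.IsPrime] {x : B} (hx : x ∈ n) :
    ∃ s ∉ n, s * x = 0 := by
  have hint : IsIntegral K x := Algebra.IsIntegral.isIntegral x
  have hf0 : aeval x (minpoly K x) = 0 := minpoly.aeval K x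
  have hc0 : (minpoly K x).coeff 0 = 0 :=
    coeff_zero_eq_zero_of_aeval_mem K n hx _ (by rw [hf0]; exact n.zero_mem)
  obtain ⟨g, hg⟩ := X_dvd_iff.mpr hc0
  refine ⟨aeval x g, ?_, ?_⟩
  · intro hs
    have hc1 : g.coeff 0 = 0 := coeff_zero_eq_zero_of_aeval_mem K n hx g hs
    obtain ⟨h, hh⟩ := X_dvd_iff.mpr hc1
    have h2 : (x * aeval x h) ^ 2 = 0 := by
      have : (x * aeval x h) ^ 2 = aeval x (minpoly K x) * aeval x h := by
        rw [hg, hh]
        simp only [map_mul, aeval_X]
        ring
      rw [this, hf0, zero_mul]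
    have h3 : x * aeval x h = 0 := by
      have := IsReduced.eq_zero _ (⟨2, h2⟩ : IsNilpotent (x * aeval x h))
      exact this
    have h4 : aeval x (X * h) = 0 := by rw [map_mul, aeval_X, h3]
    have h5 : minpoly K x ∣ X * h := minpoly.dvd K x h4
    have hne : minpoly K x ≠ 0 := minpoly.ne_zero hint
    have hh0 : h ≠ 0 := by
      rintro rfl
      apply hne
      rw [hg, hh]; simp
    have hXh : X * h ≠ 0 := mul_ne_zero X_ne_zero hh0
    have h6 := natDegree_le_of_dvd h5 hXh
    rw [hg, hh, natDegree_X_mul (mul_ne_zero X_ne_zero hh0), natDegree_X_mul hh0] at h6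
    omega
  · have : aeval x g * x = aeval x (minpoly K x) := by
      rw [hg, map_mul, aeval_X, mul_comm]
    rw [this, hf0]

include K in
/-- In a reduced algebra integral over a field, the quotient by a prime is the localization. -/
theorem isLocalization_quotient (n : Ideal B) [n.IsPrime] :
    IsLocalization.AtPrime (B ⧸ n) n := by
  haveI : IsDomain (B ⧸ n) := Ideal.Quotient.isDomain n
  haveI : Algebra.IsIntegral K (B ⧸ n) :=
    Algebra.IsIntegral.of_surjective (Ideal.Quotient.mkₐ K n) (Ideal.Quotient.mkₐ_surjective K n)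
  have hfld : IsField (B ⧸ n) := isField_of_isIntegral_of_isField' (R := K) (Field.toIsField K)
  refine ⟨fun s => ?_, fun z => ?_, fun {a b} h => ?_⟩
  · have hne : algebraMap B (B ⧸ n) s ≠ 0 := by
      rw [Ideal.Quotient.algebraMap_eq, Ne, Ideal.Quotient.eq_zero_iff_mem]
      exact s.2
    obtain ⟨y, hy⟩ := hfld.mul_inv_cancel hne
    exact IsUnit.of_mul_eq_one _ hy
  · obtain ⟨b, rfl⟩ := Ideal.Quotient.mk_surjective z
    exact ⟨⟨b, 1⟩, by simp⟩
  · rw [Ideal.Quotient.algebraMap_eq, Ideal.Quotient.eq] at h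
    obtain ⟨s, hs, hs0⟩ := exists_notMem_mul_eq_zero K n h
    refine ⟨⟨s, hs⟩, ?_⟩
    have : s * (a - b) = 0 := hs0
    rw [mul_sub, sub_eq_zero] at this
    exact this

end absflat

section tensorQuot

variable (K A B : Type u) [Field K] [CommRing A] [Algebra K A] [CommRing B] [Algebra K B]
  [IsReduced B] [Algebra.IsIntegral K B]

/-- `A ⊗ (B ⧸ n)` is a localization of `A ⊗ B`. -/
theorem isLocalization_tensor_quotient (n : Ideal B) [n.IsPrime] :
    letI : Algebra (A ⊗[K] B) (A ⊗[K] (B ⧸ n)) :=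
      (Algebra.TensorProduct.map (AlgHom.id A A) (Ideal.Quotient.mkₐ K n)).toRingHom.toAlgebra
    IsLocalization (n.primeCompl.map
      (Algebra.TensorProduct.includeRight (R := K) (A := A) (B := B))) (A ⊗[K] (B ⧸ n)) := by
  letI alg : Algebra (A ⊗[K] B) (A ⊗[K] (B ⧸ n)) :=
    (Algebra.TensorProduct.map (AlgHom.id A A) (Ideal.Quotient.mkₐ K n)).toRingHom.toAlgebra
  haveI : IsScalarTower A (A ⊗[K] B) (A ⊗[K] (B ⧸ n)) :=
    @IsScalarTower.of_algebraMap_eq' A (A ⊗[K] B) (A ⊗[K] (B ⧸ n)) _ _ _ _ _ _ (by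
      ext x
      simp [RingHom.algebraMap_toAlgebra])
  haveI := isLocalization_quotient K n
  exact IsLocalization.tensorProduct_tensorProduct_right K A n.primeCompl (B ⧸ n)
    (by ext; simp [RingHom.algebraMap_toAlgebra])

theorem isNormalRing_tensor_quotient (n : Ideal B) [n.IsPrime]
    (h : EGA4.IsNormalRing (A ⊗[K] B)) : EGA4.IsNormalRing (A ⊗[K] (B ⧸ n)) := by
  letI alg : Algebra (A ⊗[K] B) (A ⊗[K] (B ⧸ n)) :=
    (Algebra.TensorProduct.map (AlgHom.id A A) (Ideal.Quotient.mkₐ K n)).toRingHom.toAlgebra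
  exact @isNormalRing_of_isLocalization _ _ _ _ _ _ (isLocalization_tensor_quotient K A B n) h

theorem isNormalRing_tensor_of_forall_quotient
    (h : ∀ (n : Ideal B) [n.IsPrime], EGA4.IsNormalRing (A ⊗[K] (B ⧸ n))) :
    EGA4.IsNormalRing (A ⊗[K] B) := by
  apply Groth.Agent.Lib.Helper12.Normal.isNormalRing_of_cover
  intro P hP
  haveI hn : (P.comap (Algebra.TensorProduct.includeRight (R := K) (A := A) (B := B)).toRingHom).IsPrime :=
    Ideal.comap_isPrime _ _
  letI alg : Algebra (A ⊗[K] B) (A ⊗[K] (B ⧸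
      (P.comap (Algebra.TensorProduct.includeRight (R := K) (A := A) (B := B)).toRingHom))) :=
    (Algebra.TensorProduct.map (AlgHom.id A A) (Ideal.Quotient.mkₐ K _)).toRingHom.toAlgebra
  refine ⟨_, inferInstance, alg, _, isLocalization_tensor_quotient K A B _, h _, ?_⟩
  rw [Set.disjoint_left]
  rintro x ⟨s, hs, rfl⟩ hx
  exact hs hx

end tensorQuot

section sepAlg

variable (k : Type u) [Field k] (k' : Type u) [Field k'] [Algebra k k'] [Algebra.IsSeparable k k']
  (A : Type u) [CommRing A] [Algebra k' A] [Algebra k A] [IsScalarTower k k' A]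

include k in
theorem isGeometricallyReduced_of_isSeparable : Algebra.IsGeometricallyReduced k k' := by
  haveI : Algebra.FormallyEtale k k' := Algebra.FormallyEtale.of_isSeparable k k'
  exact (Groth.Agent.Lib.Helper23.FieldSep.formallySmooth_iff_isGeometricallyReduced k k').mp
    inferInstance

theorem isReduced_tensor_of_isSeparable (E : Type u) [Field E] [Algebra k E]
    [Algebra.IsAlgebraic k E] : IsReduced (k' ⊗[k] E) := by
  haveI := isGeometricallyReduced_of_isSeparable k k'
  haveI : IsReduced (E ⊗[k] k') := inferInstance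
  exact isReduced_of_injective (Algebra.TensorProduct.comm k k' E).toRingHom
    (Algebra.TensorProduct.comm k k' E).injective

/-- `A ⊗_{k'} (k' ⊗_k E) ≃ E ⊗_k A` -/
noncomputable def tensorEquiv (E : Type u) [CommRing E] [Algebra k E] :
    A ⊗[k'] (k' ⊗[k] E) ≃+* E ⊗[k] A :=
  (Algebra.TensorProduct.cancelBaseChange k k' k' A E).toRingEquiv.trans
    (Algebra.TensorProduct.comm k A E).toRingEquiv

theorem isGeomNormal_of_isSeparable_down (h : EGA4.IsGeomNormal k' A) : EGA4.IsGeomNormal k A := by
  intro L _ _ hfin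
  haveI := hfin
  haveI : IsReduced (k' ⊗[k] L) := isReduced_tensor_of_isSeparable k k' L
  haveI : Module.Finite k' (k' ⊗[k] L) := inferInstance
  haveI : Algebra.IsIntegral k' (k' ⊗[k] L) := Algebra.IsIntegral.of_finite k' _
  haveI : IsArtinianRing (k' ⊗[k] L) := IsArtinianRing.of_finite k' _
  have h1 : EGA4.IsNormalRing (A ⊗[k'] (k' ⊗[k] L)) := by
    apply isNormalRing_tensor_of_forall_quotient
    intro n hn
    haveI : n.IsMaximal := IsArtinianRing.isPrime_iff_isMaximal n |>.mp hn
    letI := Ideal.Quotient.field n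
    have h2 := h ((k' ⊗[k] L) ⧸ n) inferInstance
    exact Groth.Agent.Lib.Helper18.FormFib.isNormalRing_of_ringEquiv
      (Algebra.TensorProduct.comm k' _ A).toRingEquiv h2
  exact Groth.Agent.Lib.Helper18.FormFib.isNormalRing_of_ringEquiv (tensorEquiv k k' A L) h1

theorem isNormalRing_of_isSeparable_up_aux (h : EGA4.IsGeomNormal k A)
    (L' : Type u) [Field L'] [Algebra k' L'] [Algebra k L'] [IsScalarTower k k' L']
    (E : Type u) [Field E] [Algebra k E] [FiniteDimensional k E] (ι : E →ₐ[k] L')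
    (hφ : Function.Surjective
      (Algebra.TensorProduct.productLeftAlgHom (Algebra.ofId k' L') ι : k' ⊗[k] E →ₐ[k'] L')) :
    EGA4.IsNormalRing (L' ⊗[k'] A) := by
  haveI : IsReduced (k' ⊗[k] E) := isReduced_tensor_of_isSeparable k k' E
  haveI : Algebra.IsIntegral k' (k' ⊗[k] E) := Algebra.IsIntegral.of_finite k' _
  let φ : k' ⊗[k] E →ₐ[k'] L' :=
    Algebra.TensorProduct.productLeftAlgHom (Algebra.ofId k' L') ι
  haveI hn : (RingHom.ker φ.toRingHom).IsPrime := RingHom.ker_isPrime _
  have h1 : EGA4.IsNormalRing (A ⊗[k'] (k' ⊗[k] E)) :=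
    Groth.Agent.Lib.Helper18.FormFib.isNormalRing_of_ringEquiv (tensorEquiv k k' A E).symm
      (h E inferInstance)
  have h2 := isNormalRing_tensor_quotient k' A (k' ⊗[k] E) (RingHom.ker φ.toRingHom) h1
  let e : ((k' ⊗[k] E) ⧸ RingHom.ker φ.toRingHom) ≃ₐ[k'] L' :=
    Ideal.quotientKerAlgEquivOfSurjective hφ
  have h3 : EGA4.IsNormalRing (A ⊗[k'] L') :=
    Groth.Agent.Lib.Helper18.FormFib.isNormalRing_of_ringEquiv
      (Algebra.TensorProduct.congr (AlgEquiv.refl (R := k') (A₁ := A)) e).toRingEquiv h2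
  exact Groth.Agent.Lib.Helper18.FormFib.isNormalRing_of_ringEquiv
    (Algebra.TensorProduct.comm k' A L').toRingEquiv h3

theorem isGeomNormal_of_isSeparable_up (h : EGA4.IsGeomNormal k A) : EGA4.IsGeomNormal k' A := by
  classical
  intro L' _ _ hfin
  haveI := hfin
  letI : Algebra k L' := ((algebraMap k' L').comp (algebraMap k k')).toAlgebra
  haveI : IsScalarTower k k' L' := IsScalarTower.of_algebraMap_eq (fun _ => rfl)
  haveI : Algebra.IsAlgebraic k L' := Algebra.IsAlgebraic.trans k k' L'
  obtain ⟨s, hs⟩ := (Module.finite_def.mp hfin : (⊤ : Submodule k' L').FG)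
  haveI : FiniteDimensional k (IntermediateField.adjoin k (s : Set L')) :=
    IntermediateField.finiteDimensional_adjoin (fun x _ => (Algebra.IsIntegral.isIntegral x))
  refine isNormalRing_of_isSeparable_up_aux k k' A h L' (IntermediateField.adjoin k (s : Set L'))
    (IntermediateField.val _) ?_
  rw [← AlgHom.range_eq_top, eq_top_iff]
  intro x _
  have hx : x ∈ Submodule.span k' (s : Set L') := by rw [hs]; trivial
  have hle : Submodule.span k' (s : Set L') ≤ Subalgebra.toSubmodule
      (Algebra.TensorProduct.productLeftAlgHom (Algebra.ofId k' L')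
        (IntermediateField.val (IntermediateField.adjoin k (s : Set L')))).range := by
    rw [Submodule.span_le]
    intro y hy
    exact ⟨(1 : k') ⊗ₜ[k] (⟨y, IntermediateField.subset_adjoin k _ hy⟩ :
      IntermediateField.adjoin k (s : Set L')), by simp⟩
  exact hle hx

end sepAlg

end Groth.Agent.Lib.Helper1.NormalField
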