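import Mathlib
import Groth.Prelude.Def_EGA4b
import Groth.Agent.Lib.Helper1.NormalField2
import Groth.Agent.Lib.Helper18.PISep

/-!
# Geometric normality: purely inseparable and finitely generated extensions (helper1)

* `exists_finite_purelyInseparable_ess`: EGA IV 4.6.6 for essentially finite type algebras.
* `exists_separable_field`: for a finitely generated field extension `K/k` there are a finite purely
  inseparable `k'/k` and a field `L ⊇ k', K`, finitely generated and separable over `k'`.
* `isNormalRing_tensor_of_forall_purelyInseparable`: if `k' ⊗ S` is normal for all finite purely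
  inseparable `k'/k`, then `K ⊗ S` is normal for every finitely generated field extension `K/k`.
-/

set_option autoImplicit false
set_option linter.style.haveILetI false
set_option linter.unusedSectionVars false
universe u

open TensorProduct

namespace Groth.Agent.Lib.Helper1.NormalField

open Groth.Agent.Lib.Helper18.PISep

/-- **EGA IV 4.6.6**, essentially finite type version. -/
theorem exists_finite_purelyInseparable_ess (k : Type u) [Field k] (A : Type u) [CommRing A]
    [Algebra k A] [Algebra.EssFiniteType k A] :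
    ∃ (k' : Type u) (_ : Field k') (_ : Algebra k k'), FiniteDimensional k k' ∧
      IsPurelyInseparable k k' ∧
      Algebra.IsGeometricallyReduced k' ((k' ⊗[k] A) ⧸ nilradical (k' ⊗[k] A)) := by
  classical
  let L := AlgebraicClosure k
  let P : IntermediateField k L := perfectClosure k L
  haveI : PerfectField P := perfectClosure.perfectField k L
  haveI : Algebra.EssFiniteType P (P ⊗[k] A) := inferInstance
  haveI : IsNoetherianRing (P ⊗[k] A) := Algebra.EssFiniteType.isNoetherianRing P (P ⊗[k] A)
  obtain ⟨G, hG⟩ : (nilradical (P ⊗[k] A)).FG := IsNoetherian.noetherian _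
  obtain ⟨F, hFfin, hFG⟩ := exists_finite_intermediateField_finset (k := k) (L := P) (R := A) G
  haveI : Algebra.IsAlgebraic F P := Algebra.IsAlgebraic.tower_top (K := k) F
  refine ⟨F, inferInstance, inferInstance, hFfin, IsPurelyInseparable.tower_bot k F P, ?_⟩
  exact geomReduced_of_span k A F P G hG hFG

section piField

variable (k k' K : Type u) [Field k] [Field k'] [Field K] [Algebra k k'] [Algebra k K]
  [IsPurelyInseparable k k']

theorem exists_pow_eq_one_tmul (x : k' ⊗[k] K) : ∃ n > 0, ∃ a : K, x ^ n = 1 ⊗ₜ[k] a := by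
  obtain ⟨n, hn, a, ha⟩ := IsPurelyInseparable.exists_pow_mem_range_tensorProduct (k := k) (K := k')
    (R := K) (Algebra.TensorProduct.comm k k' K x)
  refine ⟨n, hn, a, ?_⟩
  apply (Algebra.TensorProduct.comm k k' K).injective
  rw [map_pow, ← ha]
  simp [Algebra.TensorProduct.algebraMap_apply]

theorem nilradical_isMaximal : (nilradical (k' ⊗[k] K)).IsMaximal := by
  rw [Ideal.isMaximal_iff]
  refine ⟨fun h => ?_, fun J x _ hx hxJ => ?_⟩
  · obtain ⟨n, hn⟩ := mem_nilradical.mp h
    rw [one_pow] at hn
    exact one_ne_zero hn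
  · obtain ⟨n, hn, a, ha⟩ := exists_pow_eq_one_tmul k k' K x
    have ha0 : a ≠ 0 := by
      rintro rfl
      apply hx
      rw [mem_nilradical]
      exact ⟨n, by rw [ha, TensorProduct.tmul_zero]⟩
    have h1 : x ^ n * ((1 : k') ⊗ₜ[k] a⁻¹) = 1 := by
      rw [ha, Algebra.TensorProduct.tmul_mul_tmul, mul_one, mul_inv_cancel₀ ha0]
      rfl
    rw [← h1]
    apply J.mul_mem_right
    obtain ⟨m, rfl⟩ : ∃ m, n = m + 1 := ⟨n - 1, by omega⟩
    rw [pow_succ]
    exact J.mul_mem_left _ hxJ

end piField

/-- For a finitely generated field extension `K/k` there are a finite purely inseparable extension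
`k'/k` and a field `L` containing `k'` and `K`, finitely generated and separable over `k'`. -/
theorem exists_separable_field (k K : Type u) [Field k] [Field K] [Algebra k K]
    [Algebra.EssFiniteType k K] :
    ∃ (k' : Type u) (_ : Field k') (_ : Algebra k k') (L : Type u) (_ : Field L) (_ : Algebra k' L)
      (_ : Algebra K L) (_ : Algebra k L) (_ : IsScalarTower k k' L) (_ : IsScalarTower k K L),
      FiniteDimensional k k' ∧ IsPurelyInseparable k k' ∧ Algebra.EssFiniteType k' L ∧
        Algebra.IsGeometricallyReduced k' L := by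
  obtain ⟨k', _, _, hfin, hpi, hgr⟩ := exists_finite_purelyInseparable_ess k K
  haveI := nilradical_isMaximal k k' K
  letI : Field ((k' ⊗[k] K) ⧸ nilradical (k' ⊗[k] K)) := Ideal.Quotient.field _
  letI algK : Algebra K ((k' ⊗[k] K) ⧸ nilradical (k' ⊗[k] K)) :=
    ((Ideal.Quotient.mk (nilradical (k' ⊗[k] K))).comp
      (Algebra.TensorProduct.includeRight : K →ₐ[k] k' ⊗[k] K).toRingHom).toAlgebra
  refine ⟨k', inferInstance, inferInstance, (k' ⊗[k] K) ⧸ nilradical (k' ⊗[k] K), inferInstance,
    inferInstance, algK, inferInstance, inferInstance, ?_, hfin, hpi, inferInstance, hgr⟩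
  refine IsScalarTower.of_algebraMap_eq (fun r => ?_)
  rw [RingHom.algebraMap_toAlgebra]
  simp only [RingHom.comp_apply, AlgHom.toRingHom_eq_coe, RingHom.coe_coe, AlgHom.commutes]
  rfl

/-- If `k' ⊗ S` is normal for all finite purely inseparable `k'/k`, then `K ⊗ S` is normal for
every finitely generated field extension `K/k` (EGA IV 6.7.7). -/
theorem isNormalRing_tensor_of_forall_purelyInseparable (k S : Type u) [Field k] [CommRing S]
    [Algebra k S]
    (h : ∀ (k' : Type u) [Field k'] [Algebra k k'], Module.Finite k k' → IsPurelyInseparable k k' →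
      EGA4.IsNormalRing (k' ⊗[k] S))
    (K : Type u) [Field K] [Algebra k K] [Algebra.EssFiniteType k K] :
    EGA4.IsNormalRing (K ⊗[k] S) := by
  obtain ⟨k', _, _, L, _, _, _, _, _, _, hfin, hpi, hess, hgr⟩ := exists_separable_field k K
  have h1 : EGA4.IsNormalRing (k' ⊗[k] S) := h k' hfin hpi
  have h2 : EGA4.IsNormalRing (L ⊗[k'] (k' ⊗[k] S)) :=
    isNormalRing_tensor_of_essFiniteType k' L _ h1
  have h3 : EGA4.IsNormalRing (L ⊗[k] S) :=
    Groth.Agent.Lib.Helper18.FormFib.isNormalRing_of_ringEquiv
      (Algebra.TensorProduct.cancelBaseChange k k' k' L S).toRingEquiv h2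
  have h4 : EGA4.IsNormalRing (L ⊗[K] (K ⊗[k] S)) :=
    Groth.Agent.Lib.Helper18.FormFib.isNormalRing_of_ringEquiv
      (Algebra.TensorProduct.cancelBaseChange k K K L S).symm.toRingEquiv h3
  have h5 : EGA4.IsNormalRing ((K ⊗[k] S) ⊗[K] L) :=
    Groth.Agent.Lib.Helper18.FormFib.isNormalRing_of_ringEquiv
      (Algebra.TensorProduct.comm K L (K ⊗[k] S)).toRingEquiv h4
  haveI : Module.FaithfullyFlat K L := inferInstance
  haveI : Module.FaithfullyFlat (K ⊗[k] S) ((K ⊗[k] S) ⊗[K] L) := inferInstance
  exact isNormalRing_of_faithfullyFlat (K ⊗[k] S) ((K ⊗[k] S) ⊗[K] L) h5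

/-- descent of normality of `E ⊗ S` to `F ⊗ S` for a field extension `E/F`. -/
theorem isNormalRing_tensor_of_tower (k F E S : Type u) [Field k] [Field F] [Field E] [CommRing S]
    [Algebra k S] [Algebra k F] [Algebra F E] [Algebra k E] [IsScalarTower k F E]
    (h : EGA4.IsNormalRing (E ⊗[k] S)) : EGA4.IsNormalRing (F ⊗[k] S) := by
  have h4 : EGA4.IsNormalRing (E ⊗[F] (F ⊗[k] S)) :=
    Groth.Agent.Lib.Helper18.FormFib.isNormalRing_of_ringEquiv
      (Algebra.TensorProduct.cancelBaseChange k F F E S).symm.toRingEquiv h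
  have h5 : EGA4.IsNormalRing ((F ⊗[k] S) ⊗[F] E) :=
    Groth.Agent.Lib.Helper18.FormFib.isNormalRing_of_ringEquiv
      (Algebra.TensorProduct.comm F E (F ⊗[k] S)).toRingEquiv h4
  haveI : Module.FaithfullyFlat F E := inferInstance
  haveI : Module.FaithfullyFlat (F ⊗[k] S) ((F ⊗[k] S) ⊗[F] E) := inferInstance
  exact isNormalRing_of_faithfullyFlat (F ⊗[k] S) ((F ⊗[k] S) ⊗[F] E) h5

/-- **EGA IV 6.7.7** for normality: geometric normality is insensitive to finitely generated base
field extensions. -/
theorem isGeomNormal_iff_baseChange (k S : Type u) [Field k] [CommRing S] [Algebra k S]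
    (K : Type u) [Field K] [Algebra k K] [Algebra.EssFiniteType k K] :
    EGA4.IsGeomNormal k S ↔ EGA4.IsGeomNormal K (K ⊗[k] S) := by
  constructor
  · intro h F _ _ hfin
    haveI := hfin
    letI : Algebra k F := ((algebraMap K F).comp (algebraMap k K)).toAlgebra
    haveI : IsScalarTower k K F := IsScalarTower.of_algebraMap_eq (fun _ => rfl)
    haveI : Algebra.EssFiniteType k F := Algebra.EssFiniteType.comp k K F
    have h1 : EGA4.IsNormalRing (F ⊗[k] S) :=
      isNormalRing_tensor_of_forall_purelyInseparable k S (fun k' _ _ hf _ => h k' hf) F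
    exact Groth.Agent.Lib.Helper18.FormFib.isNormalRing_of_ringEquiv
      (Algebra.TensorProduct.cancelBaseChange k K K F S).symm.toRingEquiv h1
  · intro h F _ _ hfin
    haveI := hfin
    obtain ⟨m, hm⟩ := Ideal.exists_maximal (K ⊗[k] F)
    letI : Field ((K ⊗[k] F) ⧸ m) := Ideal.Quotient.field m
    letI algF : Algebra F ((K ⊗[k] F) ⧸ m) :=
      ((Ideal.Quotient.mk m).comp
        (Algebra.TensorProduct.includeRight : F →ₐ[k] K ⊗[k] F).toRingHom).toAlgebra
    haveI : IsScalarTower k F ((K ⊗[k] F) ⧸ m) := by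
      refine IsScalarTower.of_algebraMap_eq (fun r => ?_)
      rw [RingHom.algebraMap_toAlgebra]
      simp only [RingHom.comp_apply, AlgHom.toRingHom_eq_coe, RingHom.coe_coe, AlgHom.commutes]
      rfl
    haveI : Module.Finite K ((K ⊗[k] F) ⧸ m) := inferInstance
    have h1 : EGA4.IsNormalRing (((K ⊗[k] F) ⧸ m) ⊗[K] (K ⊗[k] S)) := h _ inferInstance
    have h2 : EGA4.IsNormalRing (((K ⊗[k] F) ⧸ m) ⊗[k] S) :=
      Groth.Agent.Lib.Helper18.FormFib.isNormalRing_of_ringEquiv
        (Algebra.TensorProduct.cancelBaseChange k K K ((K ⊗[k] F) ⧸ m) S).toRingEquiv h1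
    exact isNormalRing_tensor_of_tower k F ((K ⊗[k] F) ⧸ m) S h2

/-- a geometrically normal algebra stays normal after an arbitrary field extension. -/
theorem isNormalRing_tensor_of_isGeomNormal_field (k T Ω : Type u) [Field k] [Field Ω]
    [Algebra k Ω] [CommRing T] [Algebra k T] (hT : EGA4.IsGeomNormal k T) :
    EGA4.IsNormalRing (Ω ⊗[k] T) := by
  apply isNormalRing_tensor_of_forall_fg
  intro s
  haveI : Algebra.EssFiniteType k (IntermediateField.adjoin k (s : Set Ω)) :=
    IntermediateField.essFiniteType_iff.mpr (IntermediateField.fg_adjoin_finset s)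
  exact isNormalRing_tensor_of_forall_purelyInseparable k T (fun k' _ _ hf _ => hT k' hf) _

/-- **EGA IV 6.14.1 over a field**, Noetherian case: normal ⊗ geometrically normal is normal. -/
theorem isNormalRing_tensor_of_isGeomNormal (k S T : Type u) [Field k] [CommRing S] [CommRing T]
    [Algebra k S] [Algebra k T] [IsNoetherianRing S] [IsNoetherianRing (S ⊗[k] T)]
    (hS : EGA4.IsNormalRing S) (hT : EGA4.IsGeomNormal k T) : EGA4.IsNormalRing (S ⊗[k] T) := by
  apply Groth.Agent.Lib.Helper18.PMor.isNormalRing_of_flat_of_fibres S (S ⊗[k] T) hS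
  intro p _
  have h1 : EGA4.IsNormalRing (p.ResidueField ⊗[k] T) :=
    isNormalRing_tensor_of_isGeomNormal_field k T p.ResidueField hT
  exact Groth.Agent.Lib.Helper18.FormFib.isNormalRing_of_ringEquiv
    (Algebra.TensorProduct.cancelBaseChange k S S p.ResidueField T).symm.toRingEquiv h1

end Groth.Agent.Lib.Helper1.NormalField
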