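import Mathlib
import Groth.Prelude.Def_EGA4b
import Groth.Agent.Lib.Helper1.NormalSmooth
import Groth.Agent.Lib.Helper1.NormalField
import Groth.Agent.Lib.Helper24.EtaleNormal

/-!
# Subrings integrally closed in a normal ring with finitely many minimal primes (helper1)

* `isDomain_of_connected'`: a ring with finitely many minimal primes, all of whose local rings are
  domains and without nontrivial idempotents, is a domain (no Noetherian hypothesis).
* `normal_of_injective_of_normal'`: a local ring injecting into a normal ring with finitely many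
  minimal primes, integrally closed in it, is an integrally closed domain.
* `isNormalRing_of_isIntegrallyClosedIn`: a ring integrally closed in a normal ring with finitely
  many minimal primes is normal.
-/

set_option autoImplicit false
set_option linter.style.haveILetI false
set_option linter.unusedSectionVars false
universe u

open TensorProduct Polynomial

namespace Groth.Agent.Lib.Helper1.NormalTensor

open Groth.Agent.Lib.Helper12.Normal Groth.Agent.Lib.Helper12.Normal2
open Groth.Agent.Lib.Helper1.NormalSmooth Groth.Agent.Lib.Helper1.NormalField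

/-- a ring with finitely many minimal primes, without nontrivial idempotents, whose local rings are
domains, is a domain. (Proof after helper7's Noetherian version.) -/
theorem isDomain_of_connected' {R : Type*} [CommRing R] [Nontrivial R]
    (hfin : (minimalPrimes R).Finite)
    (hloc : ∀ m : Ideal R, ∀ _ : m.IsMaximal, IsDomain (Localization.AtPrime m))
    (hconn : ∀ e : R, IsIdempotentElem e → e = 0 ∨ e = 1) : IsDomain R := by
  classical
  haveI hred : IsReduced R := by
    apply isReduced_ofLocalizationMaximal
    intro m hm
    haveI := hloc m hm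
    infer_instance
  obtain ⟨⟨p, hp⟩⟩ : Nonempty (minimalPrimes R) :=
    Ideal.nonempty_minimalPrimes (I := (⊥ : Ideal R)) bot_ne_top
  haveI hpp : p.IsPrime := hp.1.1
  have hcop : ∀ q ∈ minimalPrimes R, q ≠ p → p ⊔ q = ⊤ := by
    intro q hq hne
    by_contra htop
    obtain ⟨m, hm, hle⟩ := Ideal.exists_le_maximal _ htop
    haveI := hloc m hm
    haveI : q.IsPrime := hq.1.1
    set K : Ideal R := RingHom.ker (algebraMap R (Localization.AtPrime m)) with hK
    haveI hKp : K.IsPrime := RingHom.ker_isPrime _
    have hKle : ∀ P : Ideal R, P.IsPrime → P ≤ m → K ≤ P := by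
      intro P hP hPm x hx
      rw [hK, RingHom.mem_ker, IsLocalization.map_eq_zero_iff m.primeCompl] at hx
      obtain ⟨s, hs⟩ := hx
      rcases hP.mem_or_mem (show (s : R) * x ∈ P by rw [hs]; exact P.zero_mem) with h | h
      · exact absurd (hPm h) s.2
      · exact h
    have h1 : K = p := le_antisymm (hKle p hpp (le_sup_left.trans hle))
      (hp.2 ⟨hKp, bot_le⟩ (hKle p hpp (le_sup_left.trans hle)))
    have h2 : K = q := le_antisymm (hKle q inferInstance (le_sup_right.trans hle))
      (hq.2 ⟨hKp, bot_le⟩ (hKle q inferInstance (le_sup_right.trans hle)))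
    exact hne (h2.symm.trans h1)
  set s : Finset (Ideal R) := hfin.toFinset.erase p with hs
  set J : Ideal R := ⨅ q ∈ s, q with hJ
  have hsup : p ⊔ J = ⊤ := by
    apply Ideal.sup_iInf_eq_top
    intro q hq
    rw [hs, Finset.mem_erase, Set.Finite.mem_toFinset] at hq
    exact hcop q hq.2 hq.1
  have hinf : p ⊓ J = ⊥ := by
    rw [eq_bot_iff]
    intro x hx
    have hx' : x ∈ sInf (minimalPrimes R) := by
      rw [Ideal.mem_sInf]
      intro q hq
      by_cases hqp : q = p
      · rw [hqp]; exact hx.1
      · have h2 : x ∈ J := hx.2
        rw [hJ, Ideal.mem_iInf] at h2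
        have h3 := h2 q
        rw [Ideal.mem_iInf] at h3
        exact h3 (by rw [hs, Finset.mem_erase, Set.Finite.mem_toFinset]; exact ⟨hqp, hq⟩)
    have h4 : sInf (minimalPrimes R) = nilradical R := by
      change sInf (⊥ : Ideal R).minimalPrimes = _
      rw [Ideal.sInf_minimalPrimes]
      rfl
    rw [h4, nilradical_eq_zero] at hx'
    exact hx'
  obtain ⟨a, ha, b, hb, hab⟩ :=
    Submodule.mem_sup.1 (by rw [hsup]; exact Submodule.mem_top : (1 : R) ∈ p ⊔ J)
  have hab0 : a * b = 0 := by
    have : a * b ∈ p ⊓ J := ⟨p.mul_mem_right _ ha, J.mul_mem_left _ hb⟩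
    rw [hinf] at this
    exact this
  have hidem : IsIdempotentElem a := by
    change a * a = a
    have : a = a * (a + b) := by rw [hab, mul_one]
    rw [mul_add, hab0, add_zero] at this
    exact this.symm
  rcases hconn a hidem with h0 | h1
  · rw [h0, zero_add] at hab
    have hJtop : J = ⊤ := by rw [Ideal.eq_top_iff_one, ← hab]; exact hb
    rw [hJtop, inf_top_eq] at hinf
    haveI : (⊥ : Ideal R).IsPrime := hinf ▸ hpp
    exact IsDomain.of_bot_isPrime R
  · exfalso
    rw [h1] at ha
    exact hpp.ne_top ((Ideal.eq_top_iff_one p).2 ha)

/-- A local ring injecting into a normal ring with finitely many minimal primes in which it is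
integrally closed is an integrally closed domain. -/
theorem normal_of_injective_of_normal' {U V : Type u} [CommRing U] [IsLocalRing U] [CommRing V]
    [Algebra U V] (hfin : (minimalPrimes V).Finite)
    (hinj : Function.Injective (algebraMap U V))
    (hV : EGA4.IsNormalRing V)
    (hic : ∀ v : V, IsIntegral U v → v ∈ (algebraMap U V).range) :
    IsDomain U ∧ IsIntegrallyClosed U := by
  haveI : Nontrivial V := hinj.nontrivial
  haveI hVd : IsDomain V := by
    apply isDomain_of_connected' hfin
    · intro m hm
      haveI := hm.isPrime
      exact (hV m).1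
    · intro e he
      have hint : IsIntegral U e := by
        refine ⟨X ^ 2 - X, monic_X_pow_sub (by rw [degree_X]; norm_num), ?_⟩
        simp only [eval₂_sub, eval₂_pow, eval₂_X]
        rw [pow_two, he.eq, sub_self]
      obtain ⟨u, rfl⟩ := hic e hint
      have hu : IsIdempotentElem u := by
        apply hinj
        rw [map_mul]
        exact he.eq
      rcases idempotent_eq_zero_or_one_of_isLocalRing u hu with h | h
      · left; rw [h, map_zero]
      · right; rw [h, map_one]
  haveI hVic : IsIntegrallyClosed V := by
    apply IsIntegrallyClosed.of_localization_maximal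
    intro p _ hp
    exact (hV p).2
  haveI hUd : IsDomain U := hinj.isDomain
  refine ⟨hUd, ?_⟩
  apply isIntegrallyClosed_of_scaleRoots
  intro a b p hb hp h
  have hb' : algebraMap U V b ≠ 0 := fun h0 => hb (hinj (by rw [h0, map_zero]))
  have h' : ((p.map (algebraMap U V)).scaleRoots (algebraMap U V b)).eval (algebraMap U V a) = 0 := by
    rw [← map_scaleRoots _ _ _ (by rw [hp.leadingCoeff, map_one]; exact one_ne_zero), eval_map,
      eval₂_at_apply, h, map_zero]
  obtain ⟨v, hv⟩ := dvd_of_scaleRoots hb' (hp.map (algebraMap U V)) h'
  have hvint : IsIntegral U v := by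
    refine ⟨p, hp, ?_⟩
    have h1 := scaleRoots_eval₂_mul (p := p) (algebraMap U V) v b
    rw [← hv, eval₂_at_apply, h, map_zero] at h1
    rcases mul_eq_zero.mp h1.symm with h3 | h3
    · exact absurd (eq_zero_of_pow_eq_zero h3) hb'
    · exact h3
  obtain ⟨u, rfl⟩ := hic v hvint
  refine ⟨u, ?_⟩
  apply hinj
  rw [hv, map_mul]

/-- finiteness of the set of minimal primes passes to localizations. -/
theorem finite_minimalPrimes_of_isLocalization {V : Type*} [CommRing V] (M : Submonoid V)
    (W : Type*) [CommRing W] [Algebra V W] [IsLocalization M W]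
    (hfin : (minimalPrimes V).Finite) : (minimalPrimes W).Finite := by
  have h := IsLocalization.minimalPrimes_map M W (⊥ : Ideal V)
  rw [Ideal.map_bot] at h
  change minimalPrimes W = _ at h
  rw [h]
  apply Set.Finite.preimage _ hfin
  intro I _ J _ hIJ
  rw [← IsLocalization.map_under M W I, ← IsLocalization.map_under M W J, hIJ]

/-- **Lemma N**: a ring which is integrally closed in a normal ring with finitely many minimal
primes is normal. -/
theorem isNormalRing_of_isIntegrallyClosedIn (R V : Type u) [CommRing R] [CommRing V] [Algebra R V]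
    [IsIntegrallyClosedIn R V] (hV : EGA4.IsNormalRing V) (hfin : (minimalPrimes V).Finite) :
    EGA4.IsNormalRing R := by
  intro P hP
  have hic := Groth.Agent.Lib.Helper24.ENorm.isIntegrallyClosedIn_localization R V P.primeCompl
  have hVP : EGA4.IsNormalRing (Localization (Algebra.algebraMapSubmonoid V P.primeCompl)) :=
    Groth.Agent.Lib.Helper18.J2.isNormalRing_localization _ hV
  have hfinP : (minimalPrimes (Localization (Algebra.algebraMapSubmonoid V P.primeCompl))).Finite :=
    finite_minimalPrimes_of_isLocalization (Algebra.algebraMapSubmonoid V P.primeCompl) _ hfin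
  exact normal_of_injective_of_normal' (U := Localization.AtPrime P)
    (V := Localization (Algebra.algebraMapSubmonoid V P.primeCompl)) hfinP
    (IsIntegralClosure.algebraMap_injective _ (Localization.AtPrime P) _) hVP
    (fun v hv => (IsIntegralClosure.isIntegral_iff (A := Localization.AtPrime P)).mp hv)

end Groth.Agent.Lib.Helper1.NormalTensor
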