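import Mathlib
import Groth.Prelude.Def_EGA4b
import Groth.Agent.Lib.Helper1.NormalTensor1

/-!
# Minimal primes of `K ⊗[k] A` for a finitely generated field extension `K/k` and a domain `A`
(helper1)
-/

set_option autoImplicit false
set_option linter.style.haveILetI false
set_option linter.unusedSectionVars false
universe u

open TensorProduct Polynomial

namespace Groth.Agent.Lib.Helper1.NormalTensor

section minimal

variable (k K A : Type u) [Field k] [Field K] [Algebra k K] [CommRing A] [Algebra k A]

/-- `1 ⊗ a` is a nonzerodivisor of `K ⊗[k] A` if `a` is a nonzerodivisor of `A`. -/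
theorem one_tmul_mem_nonZeroDivisors (a : A) (ha : a ∈ nonZeroDivisors A) :
    (1 : K) ⊗ₜ[k] a ∈ nonZeroDivisors (K ⊗[k] A) := by
  have hinj : Function.Injective (LinearMap.mulLeft k a) := by
    intro x y hxy
    exact (mul_cancel_left_mem_nonZeroDivisors ha).mp hxy
  have h2 : Function.Injective ((LinearMap.mulLeft k a).lTensor K) :=
    Module.Flat.lTensor_preserves_injective_linearMap _ hinj
  have h3 : ∀ z : K ⊗[k] A, (LinearMap.mulLeft k a).lTensor K z = (1 : K) ⊗ₜ[k] a * z := by
    intro z
    induction z with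
    | zero => simp
    | add x y hx hy => rw [map_add, hx, hy, mul_add]
    | tmul x b => simp
  rw [mem_nonZeroDivisors_iff_right]
  intro z hz
  apply h2
  rw [h3, map_zero, mul_comm]
  exact hz

theorem finite_minimalPrimes_tensor [IsDomain A] [Algebra.EssFiniteType k K] :
    (minimalPrimes (K ⊗[k] A)).Finite := by
  let L := FractionRing A
  haveI : Algebra.EssFiniteType L (L ⊗[k] K) := inferInstance
  haveI : IsNoetherianRing (L ⊗[k] K) := Algebra.EssFiniteType.isNoetherianRing L _
  haveI : IsNoetherianRing (K ⊗[k] L) :=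
    isNoetherianRing_of_ringEquiv _ (Algebra.TensorProduct.comm k L K).toRingEquiv
  letI alg : Algebra (K ⊗[k] A) (K ⊗[k] L) :=
    (Algebra.TensorProduct.map (AlgHom.id K K) (IsScalarTower.toAlgHom k A L)).toRingHom.toAlgebra
  haveI : IsScalarTower K (K ⊗[k] A) (K ⊗[k] L) :=
    @IsScalarTower.of_algebraMap_eq' K (K ⊗[k] A) (K ⊗[k] L) _ _ _ _ _ _ (by
      ext x
      simp [RingHom.algebraMap_toAlgebra])
  have hloc := IsLocalization.tensorProduct_tensorProduct_right k K (nonZeroDivisors A) L
    (by ext; simp [RingHom.algebraMap_toAlgebra])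
  set M' := (nonZeroDivisors A).map (Algebra.TensorProduct.includeRight (R := k) (A := K)) with hM'
  have hM'le : M' ≤ nonZeroDivisors (K ⊗[k] A) := by
    rintro _ ⟨a, ha, rfl⟩
    exact one_tmul_mem_nonZeroDivisors k K A a ha
  have hfinW : (minimalPrimes (K ⊗[k] L)).Finite := minimalPrimes.finite_of_isNoetherianRing _
  have hmp := IsLocalization.minimalPrimes_map M' (K ⊗[k] L) (⊥ : Ideal (K ⊗[k] A))
  rw [Ideal.map_bot] at hmp
  apply (hfinW.image (Ideal.under (K ⊗[k] A))).subset
  intro p hp
  haveI hpp : p.IsPrime := hp.1.1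
  have hd : Disjoint (M' : Set (K ⊗[k] A)) p :=
    Set.disjoint_of_subset_left hM'le (Ideal.disjoint_nonZeroDivisors_of_mem_minimalPrimes hp).symm
  refine ⟨p.map (algebraMap (K ⊗[k] A) (K ⊗[k] L)), ?_, ?_⟩
  · change _ ∈ (⊥ : Ideal (K ⊗[k] L)).minimalPrimes
    rw [hmp, Set.mem_preimage, IsLocalization.under_map_of_isPrime_disjoint M' _ hpp hd]
    exact hp
  · exact IsLocalization.under_map_of_isPrime_disjoint M' _ hpp hd

end minimal

end Groth.Agent.Lib.Helper1.NormalTensor
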