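import Mathlib
import Groth.Prelude.Def_EGA4b
import Groth.Agent.Lib.Helper1.NormalTensor2

/-!
# The valuation-ring argument (helper1)

For a valuation ring `O` with fraction field `K` (over a field `k`) and a `k`-algebra `A` such that
`κ(O) ⊗[k] A` is reduced, an element of `K ⊗[k] A` that is integral over `O ⊗[k] A` has all its
coordinates (with respect to a `k`-basis of `A`) in `O`.
-/

set_option autoImplicit false
set_option linter.style.haveILetI false
set_option linter.unusedSectionVars false
universe u

open TensorProduct Polynomial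

namespace Groth.Agent.Lib.Helper1.NormalTensor

section valuation

variable (k : Type u) [Field k] (A : Type u) [CommRing A] [Algebra k A]

/-- the comparison map `O ⊗ A → K ⊗ A` -/
noncomputable abbrev tmap (O K : Type u) [CommRing O] [CommRing K] [Algebra k O] [Algebra k K]
    [Algebra O K] [IsScalarTower k O K] : O ⊗[k] A →ₐ[k] K ⊗[k] A :=
  Algebra.TensorProduct.map (IsScalarTower.toAlgHom k O K) (AlgHom.id k A)

theorem tmap_injective (O K : Type u) [CommRing O] [CommRing K] [Algebra k O] [Algebra k K]
    [Algebra O K] [IsScalarTower k O K] (hinj : Function.Injective (algebraMap O K)) :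
    Function.Injective (tmap k A O K) :=
  Module.Flat.rTensor_preserves_injective_linearMap (M := A)
    (IsScalarTower.toAlgHom k O K).toLinearMap hinj

theorem repr_mem_range_of_isIntegral {ι : Type*} (b : Module.Basis ι k A)
    (O K : Type u) [CommRing O] [IsDomain O] [ValuationRing O] [Field K]
    [Algebra k O] [Algebra k K] [Algebra O K] [IsScalarTower k O K] [IsFractionRing O K]
    (hred : IsReduced (IsLocalRing.ResidueField O ⊗[k] A))
    (z : K ⊗[k] A) (p : (O ⊗[k] A)[X]) (hp : p.Monic)
    (hz : p.eval₂ (tmap k A O K).toRingHom z = 0) (i : ι) :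
    (Algebra.TensorProduct.basis K b).repr z i ∈ (algebraMap O K).range := by
  classical
  set bK := Algebra.TensorProduct.basis K b with hbK
  set c := bK.repr z with hc
  set v := ValuationRing.valuation O K with hv
  have hint : ∀ x : K, v x ≤ 1 ↔ x ∈ (algebraMap O K).range := by
    intro x
    rw [← Valuation.mem_integer_iff, ValuationRing.mem_integer_iff]
    rfl
  by_contra hi
  have hi1 : ¬ v (c i) ≤ 1 := fun h => hi ((hint _).mp h)
  have hiS : i ∈ c.support := by
    rw [Finsupp.mem_support_iff]
    intro h0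
    apply hi
    rw [h0]
    exact ⟨0, map_zero _⟩
  obtain ⟨j, hjS, hj⟩ := Finset.exists_max_image c.support (fun l => v (c l)) ⟨i, hiS⟩
  have hj1 : 1 < v (c j) := lt_of_lt_of_le (not_le.mp hi1) (hj i hiS)
  have hcj : c j ≠ 0 := Finsupp.mem_support_iff.mp hjS
  set t := (c j)⁻¹ with ht
  have hvt : v t ≤ 1 := by
    rw [ht, map_inv₀]
    exact inv_le_one_of_one_le₀ hj1.le
  obtain ⟨t₀, ht₀⟩ := (hint t).mp hvt
  have ht₀m : t₀ ∈ IsLocalRing.maximalIdeal O := by
    rw [IsLocalRing.mem_maximalIdeal, mem_nonunits_iff]
    intro hu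
    have h1 : c j ∈ (algebraMap O K).range := by
      refine ⟨((hu.unit⁻¹ : Oˣ) : O), ?_⟩
      have h2 : algebraMap O K ((hu.unit⁻¹ : Oˣ) : O) * algebraMap O K t₀ = 1 := by
        rw [← map_mul]
        have : ((hu.unit⁻¹ : Oˣ) : O) * t₀ = 1 := by
          have := hu.unit.inv_mul
          simpa using this
        rw [this, map_one]
      rw [ht₀, ht] at h2
      have h3 := congrArg (· * c j) h2
      simp only [mul_assoc, inv_mul_cancel₀ hcj, mul_one, one_mul] at h3
      exact h3
    exact absurd ((hint _).mpr h1) (not_le.mpr hj1)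
  -- the scaled coefficients
  have hd : ∀ l, ∃ d : O, algebraMap O K d = c l * t := by
    intro l
    apply (hint _).mp
    by_cases hl : l ∈ c.support
    · rw [map_mul, ht, map_inv₀]
      exact mul_inv_le_one_of_le₀ (hj l hl) zero_le'
    · rw [Finsupp.notMem_support_iff.mp hl, zero_mul, map_zero]
      exact zero_le'
  choose d₀ hd₀ using hd
  have hdj : d₀ j = 1 := by
    apply IsFractionRing.injective O K
    rw [hd₀, ht, mul_inv_cancel₀ hcj, map_one]
  set z' : O ⊗[k] A := ∑ l ∈ c.support, d₀ l ⊗ₜ[k] b l with hz'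
  have hzsum : z = ∑ l ∈ c.support, c l ⊗ₜ[k] b l := by
    have h1 := bK.linearCombination_repr z
    rw [Finsupp.linearCombination_apply, Finsupp.sum] at h1
    rw [← h1]
    apply Finset.sum_congr rfl
    intro l _
    rw [hbK, Algebra.TensorProduct.basis_repr_symm_apply']
  have hφz' : tmap k A O K z' = tmap k A O K (t₀ ⊗ₜ[k] 1) * z := by
    conv_rhs => rw [hzsum]
    rw [hz', map_sum, Finset.mul_sum]
    apply Finset.sum_congr rfl
    intro l _
    simp only [tmap, Algebra.TensorProduct.map_tmul, IsScalarTower.coe_toAlgHom', AlgHom.coe_id,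
      id_eq, Algebra.TensorProduct.tmul_mul_tmul, one_mul, hd₀, ht₀]
    rw [mul_comm]
  set s : O ⊗[k] A := t₀ ⊗ₜ[k] 1 with hs
  set q := p.scaleRoots s with hq
  have hinjφ := tmap_injective k A O K (IsFractionRing.injective O K)
  have hq0 : q.eval z' = 0 := by
    apply hinjφ
    rw [map_zero]
    have h1 := scaleRoots_eval₂_mul (p := p) (tmap k A O K).toRingHom z s
    rw [hz, mul_zero] at h1
    have h2 : (tmap k A O K).toRingHom s * z = (tmap k A O K).toRingHom z' := hφz'.symm
    rw [h2, eval₂_at_apply] at h1
    exact h1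
  -- reduce modulo the maximal ideal
  let κ := IsLocalRing.ResidueField O
  let π : O ⊗[k] A →ₐ[k] κ ⊗[k] A :=
    Algebra.TensorProduct.map (IsScalarTower.toAlgHom k O κ) (AlgHom.id k A)
  have hπs : π s = 0 := by
    have : algebraMap O κ t₀ = 0 := by
      change IsLocalRing.residue O t₀ = 0
      rw [IsLocalRing.residue_eq_zero_iff]
      exact ht₀m
    simp only [π, hs, Algebra.TensorProduct.map_tmul, IsScalarTower.coe_toAlgHom', this,
      TensorProduct.zero_tmul]
  have hpow : (π z') ^ p.natDegree = 0 := by
    have h1 : π.toRingHom (q.eval z') = 0 := by rw [hq0, map_zero]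
    rw [← eval₂_at_apply, eval₂_eq_sum_range, hq, natDegree_scaleRoots, Finset.sum_range_succ] at h1
    rw [Finset.sum_eq_zero, zero_add, coeff_scaleRoots, Nat.sub_self, pow_zero, mul_one,
      hp.coeff_natDegree, map_one, one_mul] at h1
    · exact h1
    · intro l hl
      rw [Finset.mem_range] at hl
      rw [coeff_scaleRoots, map_mul, map_pow]
      have : π.toRingHom s = 0 := hπs
      rw [this, zero_pow (Nat.sub_ne_zero_of_lt hl), mul_zero, zero_mul]
  have hπz' : π z' = 0 := by
    haveI := hred
    exact (IsNilpotent.eq_zero ⟨_, hpow⟩)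
  set bκ := Algebra.TensorProduct.basis κ b with hbκ
  have hsum : ∑ l ∈ c.support, (algebraMap O κ (d₀ l)) • bκ l = 0 := by
    rw [← hπz', hz', map_sum]
    apply Finset.sum_congr rfl
    intro l _
    rw [hbκ, Algebra.TensorProduct.basis_repr_symm_apply']
    simp only [π, Algebra.TensorProduct.map_tmul, IsScalarTower.coe_toAlgHom', AlgHom.coe_id, id_eq]
  have h0 := linearIndependent_iff'.mp bκ.linearIndependent c.support
    (fun l => algebraMap O κ (d₀ l)) hsum j hjS
  rw [hdj, map_one] at h0
  exact one_ne_zero h0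

end valuation

end Groth.Agent.Lib.Helper1.NormalTensor
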