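import Mathlib
import Groth.Prelude.Def_EGA4b
import Groth.Agent.Lib.Helper1.NormalTensor3
import Groth.Agent.Lib.Helper1.NormalField3
import Groth.Agent.Lib.Helper18.RedBC

/-!
# `B ⊗ A` is integrally closed in `K ⊗ A` (helper1)

* `mem_range_of_isIntegral`: if `B` is integrally closed in the field `K` and `κ ⊗[k] A` is reduced for
  all fields `κ/k`, then `B ⊗[k] A` is integrally closed in `K ⊗[k] A`.
* `isNormalRing_tensor_of_isIntegrallyClosedIn`: if moreover `A` is a geometrically normal domain
  and `K` is finitely generated over `k`, then `B ⊗[k] A` is normal.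
-/

set_option autoImplicit false
set_option linter.style.haveILetI false
set_option linter.unusedSectionVars false
universe u

open TensorProduct Polynomial

namespace Groth.Agent.Lib.Helper1.NormalTensor

section lemmaV

variable (k : Type u) [Field k] (A : Type u) [CommRing A] [Algebra k A]

theorem isIntegrallyClosedIn_range (B K : Type u) [CommRing B] [Field K] [Algebra B K]
    [IsIntegrallyClosedIn B K] : IsIntegrallyClosedIn (algebraMap B K).range K := by
  rw [isIntegrallyClosedIn_iff]
  refine ⟨Subtype.val_injective, ?_⟩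
  intro x hx
  obtain ⟨q, hq, hqx⟩ := hx
  have hsurj : Function.Surjective (algebraMap B K).rangeRestrict :=
    RingHom.rangeRestrict_surjective _
  have hl : q ∈ Polynomial.lifts (algebraMap B K).rangeRestrict := by
    rw [Polynomial.mem_lifts]
    exact Polynomial.map_surjective _ hsurj q
  obtain ⟨q', hq'1, _, hq'3⟩ := Polynomial.lifts_and_natDegree_eq_and_monic hl hq
  have hint : IsIntegral B x := by
    refine ⟨q', hq'3, ?_⟩
    rw [← hq'1, eval₂_map] at hqx
    exact hqx
  obtain ⟨y, hy⟩ := (IsIntegralClosure.isIntegral_iff (A := B)).mp hint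
  exact ⟨⟨x, y, hy⟩, rfl⟩

theorem mem_range_of_isIntegral
    (hred : ∀ (κ : Type u) [Field κ] [Algebra k κ], IsReduced (κ ⊗[k] A))
    (B K : Type u) [CommRing B] [Field K] [Algebra k B] [Algebra k K] [Algebra B K]
    [IsScalarTower k B K] [IsIntegrallyClosedIn B K]
    (z : K ⊗[k] A) (p : (B ⊗[k] A)[X]) (hp : p.Monic)
    (hz : p.eval₂ (tmap k A B K).toRingHom z = 0) :
    z ∈ (tmap k A B K).range := by
  classical
  set b := Module.Free.chooseBasis k A with hb
  set bK := Algebra.TensorProduct.basis K b with hbK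
  set c := bK.repr z with hc
  have hcl : ∀ i, c i ∈ (algebraMap B K).range := by
    intro i
    by_contra hi
    haveI := isIntegrallyClosedIn_range B K
    obtain ⟨𝒪, h𝒪1, h𝒪2⟩ := Subring.exists_le_valuationSubring_of_isIntegrallyClosedIn hi
    have hB𝒪 : ∀ x : B, algebraMap B K x ∈ 𝒪 := fun x => h𝒪1 ⟨x, rfl⟩
    have hk : ∀ a : k, algebraMap k K a ∈ 𝒪 := by
      intro a
      rw [IsScalarTower.algebraMap_apply k B K]
      exact hB𝒪 _
    letI : Algebra k 𝒪 := ((algebraMap k K).codRestrict 𝒪 hk).toAlgebra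
    haveI : IsScalarTower k 𝒪 K := IsScalarTower.of_algebraMap_eq (fun x => rfl)
    let ψ : B →ₐ[k] 𝒪 :=
      { (algebraMap B K).codRestrict 𝒪 hB𝒪 with
        commutes' := fun a => Subtype.ext (by
          change algebraMap B K (algebraMap k B a) = algebraMap k K a
          rw [← IsScalarTower.algebraMap_apply]) }
    let Ψ : B ⊗[k] A →ₐ[k] 𝒪 ⊗[k] A := Algebra.TensorProduct.map ψ (AlgHom.id k A)
    have hcomp : (tmap k A 𝒪 K).toRingHom.comp Ψ.toRingHom = (tmap k A B K).toRingHom := by
      have : (tmap k A 𝒪 K).comp Ψ = tmap k A B K := by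
        apply Algebra.TensorProduct.ext'
        intro x a
        rfl
      exact congrArg AlgHom.toRingHom this
    have hz' : (p.map Ψ.toRingHom).eval₂ (tmap k A 𝒪 K).toRingHom z = 0 := by
      rw [eval₂_map, hcomp]
      exact hz
    have h1 := repr_mem_range_of_isIntegral k A b 𝒪 K (hred _) z (p.map Ψ.toRingHom)
      (hp.map _) hz' i
    obtain ⟨y, hy⟩ := h1
    apply h𝒪2
    change c i ∈ 𝒪
    rw [← hy]
    exact y.2
  choose β hβ using hcl
  refine ⟨∑ l ∈ c.support, β l ⊗ₜ[k] b l, ?_⟩
  have h1 := bK.linearCombination_repr z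
  rw [Finsupp.linearCombination_apply, Finsupp.sum] at h1
  rw [← h1, map_sum]
  apply Finset.sum_congr rfl
  intro l _
  rw [hbK, Algebra.TensorProduct.basis_repr_symm_apply']
  change Algebra.TensorProduct.map (IsScalarTower.toAlgHom k B K) (AlgHom.id k A)
    (β l ⊗ₜ[k] b l) = _
  rw [Algebra.TensorProduct.map_tmul, IsScalarTower.coe_toAlgHom', hβ]
  rfl

end lemmaV

section lemmaM

variable (k : Type u) [Field k] (A : Type u) [CommRing A] [Algebra k A]

theorem isReduced_tensor_of_isGeomNormal (hA : EGA4.IsGeomNormal k A) (κ : Type u) [Field κ]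
    [Algebra k κ] : IsReduced (κ ⊗[k] A) :=
  Groth.Agent.Lib.Helper18.RedBC.isReduced_of_isNormalRing
    (Groth.Agent.Lib.Helper1.NormalField.isNormalRing_tensor_of_isGeomNormal_field k A κ hA)

/-- **Lemma M**: `A` a geometrically normal domain over `k`, `B` integrally closed in a finitely
generated field extension `K` of `k`: then `B ⊗[k] A` is normal. -/
theorem isNormalRing_tensor_of_isIntegrallyClosedIn [IsDomain A] (hA : EGA4.IsGeomNormal k A)
    (B K : Type u) [CommRing B] [Field K] [Algebra k B] [Algebra k K] [Algebra B K]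
    [IsScalarTower k B K] [IsIntegrallyClosedIn B K] [Algebra.EssFiniteType k K] :
    EGA4.IsNormalRing (B ⊗[k] A) := by
  letI : Algebra (B ⊗[k] A) (K ⊗[k] A) := (tmap k A B K).toRingHom.toAlgebra
  haveI : IsIntegrallyClosedIn (B ⊗[k] A) (K ⊗[k] A) := by
    rw [isIntegrallyClosedIn_iff]
    refine ⟨tmap_injective k A B K (IsIntegralClosure.algebraMap_injective B B K), ?_⟩
    intro x hx
    obtain ⟨p, hp, hpx⟩ := hx
    exact mem_range_of_isIntegral k A (fun κ _ _ => isReduced_tensor_of_isGeomNormal k A hA κ)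
      B K x p hp hpx
  exact isNormalRing_of_isIntegrallyClosedIn (B ⊗[k] A) (K ⊗[k] A)
    (Groth.Agent.Lib.Helper1.NormalField.isNormalRing_tensor_of_isGeomNormal_field k A K hA)
    (finite_minimalPrimes_tensor k K A)

end lemmaM

end Groth.Agent.Lib.Helper1.NormalTensor
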