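import Mathlib
import Groth.Prelude.Def_EGA4b
import Groth.Agent.Lib.Helper1.NormalTensor4

/-!
# Tensor product of a geometrically normal domain with a normal domain (helper1)

* `isNormalRing_tensor_of_directed_subalgebra`: if `B` is the directed union of subalgebras `S i`
  with `S i ⊗ A` normal, then `B ⊗ A` is normal.
* `isNormalRing_tensor_of_domain`: `A` geometrically normal domain, `B` integrally closed domain
  (no finiteness): `B ⊗[k] A` is normal.
-/

set_option autoImplicit false
set_option linter.style.haveILetI false
set_option linter.unusedSectionVars false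
universe u

open TensorProduct Polynomial

namespace Groth.Agent.Lib.Helper1.NormalTensor

section directed

variable (k : Type u) [Field k] (A B : Type u) [CommRing A] [CommRing B] [Algebra k A] [Algebra k B]
variable {ι : Type u} [Preorder ι] [Nonempty ι] [IsDirected ι (· ≤ ·)] (S : ι → Subalgebra k B)
  (hS : Monotone S)

/-- transition maps -/
noncomputable def subMap (i j : ι) (h : i ≤ j) : (S i) ⊗[k] A →ₐ[k] (S j) ⊗[k] A :=
  Algebra.TensorProduct.map (Subalgebra.inclusion (hS h)) (AlgHom.id k A)

noncomputable def subIncl (i : ι) : (S i) ⊗[k] A →ₐ[k] B ⊗[k] A :=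
  Algebra.TensorProduct.map (S i).val (AlgHom.id k A)

theorem subIncl_subMap (i j : ι) (h : i ≤ j) (x) :
    subIncl k A B S j (subMap k A B S hS i j h x) = subIncl k A B S i x := by
  induction x with
  | zero => simp
  | add x y hx hy => rw [map_add, map_add, map_add, hx, hy]
  | tmul x a => rfl

theorem subIncl_injective (i : ι) : Function.Injective (subIncl k A B S i) :=
  Module.Flat.rTensor_preserves_injective_linearMap (M := A) (S i).val.toLinearMap
    Subtype.val_injective

include hS in
theorem subIncl_surjective (hcov : ∀ b : B, ∃ i, b ∈ S i) (r : B ⊗[k] A) :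
    ∃ i x, subIncl k A B S i x = r := by
  induction r with
  | zero => exact ⟨Classical.arbitrary ι, 0, map_zero _⟩
  | tmul x a =>
    obtain ⟨i, hi⟩ := hcov x
    exact ⟨i, (⟨x, hi⟩ : S i) ⊗ₜ[k] a, rfl⟩
  | add x y hx hy =>
    obtain ⟨i, x', rfl⟩ := hx
    obtain ⟨j, y', rfl⟩ := hy
    obtain ⟨l, hil, hjl⟩ := exists_ge_ge i j
    refine ⟨l, subMap k A B S hS i l hil x' + subMap k A B S hS j l hjl y', ?_⟩
    rw [map_add, subIncl_subMap, subIncl_subMap]

include hS in
theorem isNormalRing_tensor_of_directed_subalgebra (hcov : ∀ b : B, ∃ i, b ∈ S i)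
    (h : ∀ i, EGA4.IsNormalRing ((S i) ⊗[k] A)) : EGA4.IsNormalRing (B ⊗[k] A) := by
  haveI : DirectedSystem (fun i : ι => (S i) ⊗[k] A)
      (fun i j h => ((subMap k A B S hS i j h).toRingHom : _ → _)) :=
    { map_self := fun i x => by
        apply subIncl_injective k A B S i
        exact subIncl_subMap k A B S hS i i le_rfl x
      map_map := fun l _ _ _ _ x => by
        apply subIncl_injective k A B S l
        change subIncl k A B S l (subMap k A B S hS _ _ _ (subMap k A B S hS _ _ _ x)) =
          subIncl k A B S l (subMap k A B S hS _ _ _ x)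
        rw [subIncl_subMap, subIncl_subMap, subIncl_subMap] }
  exact Groth.Agent.Lib.Helper1.NormalField.isNormalRing_of_directed
    (G := fun i : ι => (S i) ⊗[k] A)
    (f := fun i j h => (subMap k A B S hS i j h).toRingHom)
    (B ⊗[k] A) (fun i => (subIncl k A B S i).toRingHom)
    (fun i j h x => subIncl_subMap k A B S hS i j h x)
    (fun i => subIncl_injective k A B S i)
    (fun r => subIncl_surjective k A B S hS hcov r) h

end directed

section domain

variable (k : Type u) [Field k] (A B : Type u) [CommRing A] [CommRing B] [Algebra k A] [Algebra k B]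

/-- the subalgebra `B ∩ E` for an intermediate field `E` of `Frac B / k`. -/
noncomputable def cutSub [IsDomain B] (E : IntermediateField k (FractionRing B)) : Subalgebra k B :=
  E.toSubalgebra.comap (IsScalarTower.toAlgHom k B (FractionRing B))

theorem mem_cutSub [IsDomain B] (E : IntermediateField k (FractionRing B)) (x : B) :
    x ∈ cutSub k B E ↔ algebraMap B (FractionRing B) x ∈ E := Iff.rfl

theorem isNormalRing_tensor_cutSub [IsDomain A] (hA : EGA4.IsGeomNormal k A) [IsDomain B]
    [IsIntegrallyClosed B] (E : IntermediateField k (FractionRing B)) [Algebra.EssFiniteType k E] :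
    EGA4.IsNormalRing ((cutSub k B E) ⊗[k] A) := by
  let φ : cutSub k B E →+* E :=
    ((algebraMap B (FractionRing B)).comp (cutSub k B E).val.toRingHom).codRestrict E (fun x => x.2)
  letI : Algebra (cutSub k B E) E := φ.toAlgebra
  haveI : IsScalarTower k (cutSub k B E) E := IsScalarTower.of_algebraMap_eq (fun a => Subtype.ext (by
    change algebraMap k (FractionRing B) a = algebraMap B (FractionRing B) (algebraMap k B a)
    rw [← IsScalarTower.algebraMap_apply]))
  haveI : IsIntegrallyClosedIn (cutSub k B E) E := by
    rw [isIntegrallyClosedIn_iff]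
    constructor
    · intro x y hxy
      have h1 : algebraMap B (FractionRing B) x = algebraMap B (FractionRing B) y :=
        congrArg Subtype.val hxy
      exact Subtype.ext (IsFractionRing.injective B (FractionRing B) h1)
    · intro x hx
      obtain ⟨q, hq, hqx⟩ := hx
      have hint : IsIntegral B (x : FractionRing B) := by
        refine ⟨q.map (cutSub k B E).val.toRingHom, hq.map _, ?_⟩
        rw [eval₂_map]
        have h1 := Polynomial.hom_eval₂ q (algebraMap (cutSub k B E) E) E.val.toRingHom x
        rw [hqx, map_zero] at h1
        exact h1.symm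
      obtain ⟨y, hy⟩ := IsIntegrallyClosed.isIntegral_iff.mp hint
      exact ⟨⟨y, by rw [mem_cutSub, hy]; exact x.2⟩, Subtype.ext hy⟩
  exact isNormalRing_tensor_of_isIntegrallyClosedIn k A hA (cutSub k B E) E

theorem isNormalRing_tensor_of_domain [IsDomain A] (hA : EGA4.IsGeomNormal k A) [IsDomain B]
    [IsIntegrallyClosed B] : EGA4.IsNormalRing (B ⊗[k] A) := by
  classical
  refine isNormalRing_tensor_of_directed_subalgebra k A B
    (fun s : Finset (FractionRing B) =>
      cutSub k B (IntermediateField.adjoin k (s : Set (FractionRing B)))) ?_ ?_ ?_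
  · intro s t hst x hx
    rw [mem_cutSub] at hx ⊢
    exact IntermediateField.adjoin.mono k _ _ (Finset.coe_subset.mpr hst) hx
  · intro b
    refine ⟨{algebraMap B (FractionRing B) b}, ?_⟩
    rw [mem_cutSub]
    exact IntermediateField.subset_adjoin k _ (by simp)
  · intro s
    haveI : Algebra.EssFiniteType k
        (IntermediateField.adjoin k ((s : Finset (FractionRing B)) : Set (FractionRing B))) :=
      IntermediateField.essFiniteType_iff.mpr (IntermediateField.fg_adjoin_finset s)
    exact isNormalRing_tensor_cutSub k A B hA _

end domain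

end Groth.Agent.Lib.Helper1.NormalTensor
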