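import Mathlib
import Groth.Prelude.Def_EGA4b
import Groth.Agent.Lib.Helper1.NormalTensor5
import Groth.Agent.S9412

/-!
# Tensor product of a geometrically normal algebra with a normal algebra (helper1)

`isNormalRing_tensor`: `A` geometrically normal over `k`, `B` a normal `k`-algebra, no finiteness
assumptions: `A ⊗[k] B` is normal (EGA IV 6.14.1 over a field / Stacks 06DF).
-/

set_option autoImplicit false
set_option linter.style.haveILetI false
set_option linter.unusedSectionVars false
universe u

open TensorProduct Polynomial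

namespace Groth.Agent.Lib.Helper1.NormalTensor

open Groth.Agent.Lib.Helper12.Normal

section cover

variable (k : Type u) [Field k] (A B : Type u) [CommRing A] [CommRing B] [Algebra k A] [Algebra k B]

theorem isNormalRing_tensor_of_forall_left
    (h : ∀ (q : Ideal B) [q.IsPrime], EGA4.IsNormalRing (Localization.AtPrime q ⊗[k] A)) :
    EGA4.IsNormalRing (B ⊗[k] A) := by
  apply isNormalRing_of_cover
  intro P hP
  let q : Ideal B := P.comap (Algebra.TensorProduct.includeLeft : B →ₐ[k] B ⊗[k] A).toRingHom
  haveI hq : q.IsPrime := Ideal.comap_isPrime _ _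
  letI alg : Algebra (B ⊗[k] A) (Localization.AtPrime q ⊗[k] A) :=
    (Algebra.TensorProduct.map (IsScalarTower.toAlgHom k B (Localization.AtPrime q))
      (AlgHom.id k A)).toRingHom.toAlgebra
  haveI : IsScalarTower B (B ⊗[k] A) (Localization.AtPrime q ⊗[k] A) :=
    @IsScalarTower.of_algebraMap_eq' B (B ⊗[k] A) (Localization.AtPrime q ⊗[k] A) _ _ _ _ _ _ (by
      ext x
      simp [RingHom.algebraMap_toAlgebra])
  have hloc : IsLocalization (Algebra.algebraMapSubmonoid (B ⊗[k] A) q.primeCompl)
      (Localization.AtPrime q ⊗[k] A) :=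
    IsLocalization.tensorProduct_tensorProduct k A q.primeCompl
      (Localization.AtPrime q) (by ext; simp [RingHom.algebraMap_toAlgebra])
  refine ⟨Localization.AtPrime q ⊗[k] A, inferInstance, alg,
    Algebra.algebraMapSubmonoid (B ⊗[k] A) q.primeCompl, hloc, h q, ?_⟩
  rw [Set.disjoint_left]
  rintro _ ⟨b, hb, rfl⟩ hbP
  exact hb hbP

theorem isNormalRing_tensor_of_forall_right
    (h : ∀ (p : Ideal A) [p.IsPrime], EGA4.IsNormalRing (B ⊗[k] Localization.AtPrime p)) :
    EGA4.IsNormalRing (B ⊗[k] A) := by
  apply isNormalRing_of_cover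
  intro P hP
  let p : Ideal A := P.comap (Algebra.TensorProduct.includeRight : A →ₐ[k] B ⊗[k] A).toRingHom
  haveI hp : p.IsPrime := Ideal.comap_isPrime _ _
  letI alg : Algebra (B ⊗[k] A) (B ⊗[k] Localization.AtPrime p) :=
    (Algebra.TensorProduct.map (AlgHom.id B B)
      (IsScalarTower.toAlgHom k A (Localization.AtPrime p))).toRingHom.toAlgebra
  haveI : IsScalarTower B (B ⊗[k] A) (B ⊗[k] Localization.AtPrime p) :=
    @IsScalarTower.of_algebraMap_eq' B (B ⊗[k] A) (B ⊗[k] Localization.AtPrime p) _ _ _ _ _ _ (by
      ext x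
      simp [RingHom.algebraMap_toAlgebra])
  have hloc := IsLocalization.tensorProduct_tensorProduct_right k B p.primeCompl
    (Localization.AtPrime p) (by ext; simp [RingHom.algebraMap_toAlgebra])
  refine ⟨B ⊗[k] Localization.AtPrime p, inferInstance, alg,
    p.primeCompl.map (Algebra.TensorProduct.includeRight (R := k) (A := B)), hloc, h p, ?_⟩
  rw [Set.disjoint_left]
  rintro _ ⟨a, ha, rfl⟩ haP
  exact ha haP

end cover

section main

variable (k : Type u) [Field k] (A B : Type u) [CommRing A] [CommRing B] [Algebra k A] [Algebra k B]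

theorem isNormalRing_of_isGeomNormal (hA : EGA4.IsGeomNormal k A) : EGA4.IsNormalRing A :=
  Groth.Agent.Lib.Helper18.FormFib.isNormalRing_of_ringEquiv
    (Algebra.TensorProduct.lid k A).toRingEquiv (hA k inferInstance)

/-- `A` geometrically normal over `k`, `B` normal: `B ⊗[k] A` is normal. -/
theorem isNormalRing_tensor' (hA : EGA4.IsGeomNormal k A) (hB : EGA4.IsNormalRing B) :
    EGA4.IsNormalRing (B ⊗[k] A) := by
  apply isNormalRing_tensor_of_forall_left
  intro q _
  apply isNormalRing_tensor_of_forall_right
  intro p _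
  have hAp : EGA4.IsGeomNormal k (Localization.AtPrime p) :=
    Groth.Agent.S9412.result k A p.primeCompl (Localization.AtPrime p) hA
  haveI : IsDomain (Localization.AtPrime p) := (isNormalRing_of_isGeomNormal k A hA p).1
  haveI : IsDomain (Localization.AtPrime q) := (hB q).1
  haveI : IsIntegrallyClosed (Localization.AtPrime q) := (hB q).2
  exact isNormalRing_tensor_of_domain k (Localization.AtPrime p) (Localization.AtPrime q) hAp

/-- `A` geometrically normal over `k`, `B` normal: `A ⊗[k] B` is normal. -/
theorem isNormalRing_tensor (hA : EGA4.IsGeomNormal k A) (hB : EGA4.IsNormalRing B) :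
    EGA4.IsNormalRing (A ⊗[k] B) :=
  Groth.Agent.Lib.Helper18.FormFib.isNormalRing_of_ringEquiv
    (Algebra.TensorProduct.comm k B A).toRingEquiv (isNormalRing_tensor' k A B hA hB)

end main

end Groth.Agent.Lib.Helper1.NormalTensor
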