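import Groth.Agent.Lib.Helper1.PF4

import Mathlib.Topology.Sheaves.SheafCondition.Sites
import Mathlib.Algebra.Category.ModuleCat.Sheaf.Generators

/-! # Ringed spaces: base change `(f^*G)|_{f⁻¹U} ≅ f_U^*(G|_U)` and pullback of local generators. -/
set_option autoImplicit false
set_option backward.isDefEq.respectTransparency false

universe u

open CategoryTheory CategoryTheory.Limits Opposite TopologicalSpace

namespace Groth.Agent.Lib.Helper1.OB

variable {X Y : TopCat.{u}} (f : X ⟶ Y)

instance : PreservesFiniteLimits (Opens.map f) := preservesFiniteLimits_of_flat _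

instance : Functor.PreservesOneHypercovers.{u} (Opens.map f) (Opens.grothendieckTopology Y) (Opens.grothendieckTopology X) :=
  Functor.PreservesOneHypercovers.of_coverPreserving (coverPreserving_opens_map f)

instance (U : Opens Y) : (Over.post (X := U) (Opens.map f)).IsContinuous
    ((Opens.grothendieckTopology Y).over U) ((Opens.grothendieckTopology X).over _) := inferInstance

variable {f}
variable {RX : Sheaf (Opens.grothendieckTopology X) RingCat.{u}} {RY : Sheaf (Opens.grothendieckTopology Y) RingCat.{u}}
  (φ : RY ⟶ ((Opens.map f).sheafPushforwardContinuous RingCat.{u} (Opens.grothendieckTopology Y) (Opens.grothendieckTopology X)).obj RX)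
  (U : Opens Y)

/-- the restriction of the ring map to `U` -/
noncomputable def phiU : RY.over U ⟶ ((Over.post (X := U) (Opens.map f)).sheafPushforwardContinuous RingCat.{u}
    ((Opens.grothendieckTopology Y).over U) ((Opens.grothendieckTopology X).over _)).obj (RX.over ((Opens.map f).obj U)) :=
  ⟨{ app := fun W => φ.hom.app (op W.unop.left)
     naturality := fun _ _ g => φ.hom.naturality g.unop.left.op }⟩

instance final_post : (Over.post (X := U) (Opens.map f)).Final :=
  PF.final_of_isTerminal _ Over.mkIdTerminal (by
    exact Over.mkIdTerminal (X := (Opens.map f).obj U))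

end Groth.Agent.Lib.Helper1.OB

namespace Groth.Agent.Lib.Helper1.OB

variable {X Y : TopCat.{u}} {f : X ⟶ Y}
variable {RX : Sheaf (Opens.grothendieckTopology X) RingCat.{u}} {RY : Sheaf (Opens.grothendieckTopology Y) RingCat.{u}}
  (φ : RY ⟶ ((Opens.map f).sheafPushforwardContinuous RingCat.{u} (Opens.grothendieckTopology Y) (Opens.grothendieckTopology X)).obj RX)
  (U : Opens Y)

/-- `f⁻¹(U × W) ≅ f⁻¹U × f⁻¹W` over `f⁻¹U` -/
noncomputable def starPostIso : Over.star U ⋙ Over.post (X := U) (Opens.map f) ≅
    Opens.map f ⋙ Over.star ((Opens.map f).obj U) :=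
  NatIso.ofComponents (fun W => Over.isoMk (PreservesLimitPair.iso (Opens.map f) U W) (Subsingleton.elim _ _))
    (fun _ => Over.OverMorphism.ext (Subsingleton.elim _ _))

end Groth.Agent.Lib.Helper1.OB

namespace Groth.Agent.Lib.Helper1.OB

variable {X Y : TopCat.{u}} {f : X ⟶ Y}
variable {RX : Sheaf (Opens.grothendieckTopology X) RingCat.{u}} {RY : Sheaf (Opens.grothendieckTopology Y) RingCat.{u}}
  (φ : RY ⟶ ((Opens.map f).sheafPushforwardContinuous RingCat.{u} (Opens.grothendieckTopology Y) (Opens.grothendieckTopology X)).obj RX)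
  (U : Opens Y)

instance isContinuous_star_post : (Over.star U ⋙ Over.post (X := U) (Opens.map f)).IsContinuous
    (Opens.grothendieckTopology Y) ((Opens.grothendieckTopology X).over ((Opens.map f).obj U)) :=
  Functor.isContinuous_comp _ _ _ ((Opens.grothendieckTopology Y).over U) _

instance isContinuous_map_star : (Opens.map f ⋙ Over.star ((Opens.map f).obj U)).IsContinuous
    (Opens.grothendieckTopology Y) ((Opens.grothendieckTopology X).over ((Opens.map f).obj U)) :=
  Functor.isContinuous_comp _ _ _ (Opens.grothendieckTopology X) _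

/-- iso of the right adjoints -/
noncomputable def pushIso :
    SheafOfModules.pushforward.{u} (phiU φ U) ⋙ SheafOfModules.pushforward.{u} (SheafOfModules.pushforwardOver (R := RY) U) ≅
    SheafOfModules.pushforward.{u} (SheafOfModules.pushforwardOver (R := RX) ((Opens.map f).obj U)) ⋙ SheafOfModules.pushforward.{u} φ :=
  SheafOfModules.pushforwardComp (SheafOfModules.pushforwardOver (R := RY) U) (phiU φ U) ≪≫
    (SheafOfModules.pushforwardCongr₂ _ (starPostIso (f := f) U) (by
      ext W : 3
      change (φ.hom.app W ≫ RX.obj.map (prod.snd : (Opens.map f).obj U ⨯ (Opens.map f).obj W.unop ⟶ _).op) ≫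
          RX.obj.map ((starPostIso (f := f) U).hom.app (unop W)).left.op =
        RY.obj.map (prod.snd : U ⨯ W.unop ⟶ _).op ≫ φ.hom.app (op (U ⨯ W.unop))
      rw [Category.assoc, ← Functor.map_comp, φ.hom.naturality]
      rfl)).symm ≪≫
    (SheafOfModules.pushforwardComp φ (SheafOfModules.pushforwardOver (R := RX) ((Opens.map f).obj U))).symm

end Groth.Agent.Lib.Helper1.OB

namespace Groth.Agent.Lib.Helper1.OB

variable {X Y : TopCat.{u}} {f : X ⟶ Y}
variable {RX : Sheaf (Opens.grothendieckTopology X) RingCat.{u}} {RY : Sheaf (Opens.grothendieckTopology Y) RingCat.{u}}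
  (φ : RY ⟶ ((Opens.map f).sheafPushforwardContinuous RingCat.{u} (Opens.grothendieckTopology Y) (Opens.grothendieckTopology X)).obj RX)
  (U : Opens Y)

instance : (SheafOfModules.pushforward.{u} (phiU φ U)).IsRightAdjoint := inferInstance
instance : (SheafOfModules.pushforward.{u} φ).IsRightAdjoint := inferInstance

/-- base change: restriction to `U` then pullback = pullback then restriction to `f⁻¹U` -/
noncomputable def bcIso : SheafOfModules.overFunctor RY U ⋙ SheafOfModules.pullback.{u} (phiU φ U) ≅
    SheafOfModules.pullback.{u} φ ⋙ SheafOfModules.overFunctor RX ((Opens.map f).obj U) :=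
  ((SheafOfModules.overPushforwardOverAdj U).comp
      (SheafOfModules.pullbackPushforwardAdjunction.{u} (phiU φ U))).leftAdjointUniq
    (((SheafOfModules.pullbackPushforwardAdjunction.{u} φ).comp
      (SheafOfModules.overPushforwardOverAdj ((Opens.map f).obj U))).ofNatIsoRight (pushIso φ U).symm)

end Groth.Agent.Lib.Helper1.OB

namespace Groth.Agent.Lib.Helper1.OB

variable {X Y : TopCat.{u}} {f : X ⟶ Y}
variable {RX : Sheaf (Opens.grothendieckTopology X) RingCat.{u}} {RY : Sheaf (Opens.grothendieckTopology Y) RingCat.{u}}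
  (φ : RY ⟶ ((Opens.map f).sheafPushforwardContinuous RingCat.{u} (Opens.grothendieckTopology Y) (Opens.grothendieckTopology X)).obj RX)
  (U : Opens Y)

/-- generating sections pull back -/
noncomputable def genSections {G : SheafOfModules.{u} RY} (σ : (G.over U).GeneratingSections) :
    (((SheafOfModules.pullback.{u} φ).obj G).over ((Opens.map f).obj U)).GeneratingSections :=
  haveI : PreservesColimitsOfSize.{u, u} (SheafOfModules.pullback.{u} (phiU φ U)) :=
    (SheafOfModules.pullbackPushforwardAdjunction.{u} (phiU φ U)).leftAdjoint_preservesColimits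
  SheafOfModules.GeneratingSections.equivOfIso ((bcIso φ U).app G)
    (σ.map (SheafOfModules.pullback.{u} (phiU φ U))
      (asIso (SheafOfModules.pullbackObjUnitToUnit (phiU φ U))).symm)

theorem coversTop_map {I : Type u} {V : I → Opens Y} (h : (Opens.grothendieckTopology Y).CoversTop V) :
    (Opens.grothendieckTopology X).CoversTop (fun i => (Opens.map f).obj (V i)) := by
  intro W x hx
  obtain ⟨W', g, hg, hfx⟩ := h ⊤ (f x) trivial
  obtain ⟨i, ⟨k⟩⟩ := hg
  refine ⟨W ⊓ (Opens.map f).obj (V i), homOfLE inf_le_left, ⟨i, ⟨homOfLE inf_le_right⟩⟩, ⟨hx, ?_⟩⟩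
  exact k.le hfx

theorem localGenerators {G : SheafOfModules.{u} RY} (h : Nonempty (SheafOfModules.LocalGeneratorsData.{u} G)) :
    Nonempty (SheafOfModules.LocalGeneratorsData.{u} ((SheafOfModules.pullback.{u} φ).obj G)) := by
  obtain ⟨d⟩ := h
  exact ⟨{ I := d.I
           X := fun i => (Opens.map f).obj (d.X i)
           coversTop := coversTop_map d.coversTop
           generators := fun i => genSections φ (d.X i) (d.generators i) }⟩

end Groth.Agent.Lib.Helper1.OB
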