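import Groth.Agent.Lib.Helper1.ObjDescRing
import Groth.Agent.Lib.Helper13.SmoothDesc7
import Groth.Agent.Lib.Helper13.SurjectiveDescent

/-!
# Object descent, affine case (helper1)
-/

set_option autoImplicit false
set_option linter.unusedSectionVars false
set_option linter.style.haveILetI false
universe u

namespace Groth.Agent.Lib.Helper1.ObjDesc

open AlgebraicGeometry CategoryTheory CategoryTheory.Limits Groth.Agent.Lib.Helper5
  Groth.Agent.Lib.Helper13 Groth.Agent.Lib.Helper13.LimitDescent

variable {I : Type u} [SmallCategory I] [IsCofiltered I] (D : I ⥤ Scheme.{u}) (c : Cone D)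

/-- `f : X ⟶ c.pt` is the base change of a morphism of finite presentation over a stage. -/
def Desc {X : Scheme.{u}} (f : X ⟶ c.pt) : Prop :=
  ∃ (i : I) (V : Scheme.{u}) (v : V ⟶ D.obj i) (g : X ⟶ V),
    LocallyOfFinitePresentation v ∧ QuasiCompact v ∧ QuasiSeparated v ∧
      IsPullback g f v (c.π.app i)

variable {D c} (hc : IsLimit c) [∀ {i j} (f : i ⟶ j), IsAffineHom (D.map f)]
  [∀ i, QuasiSeparatedSpace (D.obj i)]

include hc in
set_option backward.isDefEq.respectTransparency false in
theorem desc_of_isAffine {X : Scheme.{u}} [IsAffine X] (f : X ⟶ c.pt)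
    [LocallyOfFinitePresentation f] (i : I) (B : (D.obj i).Opens) (hB : IsAffineOpen B)
    (hf : Set.range f ⊆ ((c.π.app i ⁻¹ᵁ B : c.pt.Opens) : Set c.pt)) : Desc D c f := by
  let Yo : c.pt.Opens := c.π.app i ⁻¹ᵁ B
  have hr : Set.range f ⊆ Set.range Yo.ι := by
    rw [Scheme.Opens.range_ι]; exact hf
  let f' : X ⟶ (Yo : Scheme.{u}) := IsOpenImmersion.lift Yo.ι f hr
  have hf' : f' ≫ Yo.ι = f := IsOpenImmersion.lift_fac _ _ hr
  have : LocallyOfFinitePresentation (f' ≫ Yo.ι) := by rw [hf']; infer_instance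
  have : LocallyOfFinitePresentation f' := locallyOfFinitePresentation_of_comp f' Yo.ι
  have : IsAffine (B : Scheme.{u}) := hB
  have hY : IsPullback (c.π.app i ∣_ B) Yo.ι B.ι (c.π.app i) :=
    isPullback_morphismRestrict (c.π.app i) B
  have hqY : IsAffineHom (c.π.app i ∣_ B) := by
    have := isAffineHom_π_app D c hc i
    exact MorphismProperty.of_isPullback hY.flip inferInstance
  have : IsAffine (Yo : Scheme.{u}) := isAffine_of_isAffineHom (c.π.app i ∣_ B)
  have hfp : f'.appTop.hom.FinitePresentation :=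
    (HasRingHomProperty.iff_of_isAffine (P := @LocallyOfFinitePresentation)).mp inferInstance
  obtain ⟨j, Bj, _, ψ, β, hψ, hpo⟩ := exists_fp_model (ringSysY hc hY) f'.appTop.hom hfp
  have : IsAffine (Yj D i B.ι j) := isAffine_of_isAffineHom (pYj D i B.ι j)
  have hpo' : IsPushout (πY hY j).appTop (CommRingCat.ofHom ψ) f'.appTop (CommRingCat.ofHom β) :=
    hpo
  have hpb := isPullback_SpecMap_of_isPushout _ _ _ _ hpo'
  -- the square of schemes
  have sq1 : IsPullback (X.isoSpec.hom ≫ Spec.map (CommRingCat.ofHom β)) f'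
      (Spec.map (CommRingCat.ofHom ψ) ≫ (Yj D i B.ι j).isoSpec.inv) (πY hY j) := by
    refine IsPullback.of_iso hpb.flip X.isoSpec.symm (Iso.refl _) (Yo : Scheme.{u}).isoSpec.symm
      (Yj D i B.ι j).isoSpec.symm ?_ ?_ ?_ ?_
    · simp
    · simp only [Iso.symm_hom]
      rw [Iso.eq_inv_comp, Scheme.isoSpec_hom_naturality_assoc, Iso.hom_inv_id, Category.comp_id]
    · simp
    · simp only [Iso.symm_hom]
      rw [Iso.eq_inv_comp, Scheme.isoSpec_hom_naturality_assoc, Iso.hom_inv_id, Category.comp_id]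
  have sq2 := sq1.paste_vert (isPullback_πY hY j)
  rw [hf'] at sq2
  refine ⟨j.left, _, _, _, ?_, ?_, ?_, sq2⟩
  · have h1 : LocallyOfFinitePresentation (Spec.map (CommRingCat.ofHom ψ)) :=
      (HasRingHomProperty.Spec_iff (P := @LocallyOfFinitePresentation)).mpr hψ
    have h2 : LocallyOfFinitePresentation (gj D i B.ι j) :=
      MorphismProperty.of_isPullback (isPullback_Yj D i B.ι j) inferInstance
    infer_instance
  · have h2 : QuasiCompact (gj D i B.ι j) :=
      MorphismProperty.of_isPullback (isPullback_Yj D i B.ι j) inferInstance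
    infer_instance
  · infer_instance

end Groth.Agent.Lib.Helper1.ObjDesc
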