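import Groth.Agent.Lib.Helper1.ObjDescRebase
import Groth.Agent.Lib.Helper13.DiagonalDescent
import Groth.Agent.Lib.Helper13.IsoDescentQ
import Groth.Agent.Lib.Helper13.OpenImmersionDescent
import Groth.Agent.Lib.Helper13.ClosedImmersionDescent
import Groth.Agent.Lib.Helper13.ImmersionDescent

/-!
# Applications of the reduction to affine base systems (helper1)
-/

set_option autoImplicit false
set_option linter.unusedSectionVars false
set_option linter.style.haveILetI false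
universe u

namespace Groth.Agent.Lib.Helper1.ObjDesc

open AlgebraicGeometry CategoryTheory CategoryTheory.Limits Groth.Agent.Lib.Helper5
  Groth.Agent.Lib.Helper13 Groth.Agent.Lib.Helper13.LimitDescent

section

variable {I : Type u} [SmallCategory I] {D : I ⥤ Scheme.{u}} {c : Cone D}
  {i₀ : I} {X₀ Y₀ : Scheme.{u}} {f₀ : X₀ ⟶ Y₀} {g₀ : Y₀ ⟶ D.obj i₀}
  {X Y : Scheme.{u}} {f : X ⟶ Y} {g : Y ⟶ c.pt} {qY : Y ⟶ Y₀} {qX : X ⟶ X₀}

/-- The easy direction: a property stable under base change passes from a stage to the limit. -/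
lemma of_conclusion (P : MorphismProperty Scheme.{u}) [P.IsStableUnderBaseChange]
    (hY : IsPullback qY g g₀ (c.π.app i₀)) (hX : IsPullback qX f f₀ qY)
    (h : ∃ (j : I) (φ : j ⟶ i₀) (Xj Yj : Scheme.{u}) (fj : Xj ⟶ Yj) (gj : Yj ⟶ D.obj j)
      (pY : Yj ⟶ Y₀) (pX : Xj ⟶ X₀),
      IsPullback pY gj g₀ (D.map φ) ∧ IsPullback pX fj f₀ pY ∧ P fj) : P f := by
  obtain ⟨j, φ, Xj, Yj, fj, gj, pY, pX, h1, h2, h3⟩ := h
  have wY : qY ≫ g₀ = (g ≫ c.π.app j) ≫ D.map φ := by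
    rw [Category.assoc, c.w]; exact hY.w
  have wX : qX ≫ f₀ = (f ≫ h1.lift qY (g ≫ c.π.app j) wY) ≫ pY := by
    rw [Category.assoc, h1.lift_fst]; exact hX.w
  have sq : IsPullback (h2.lift qX (f ≫ h1.lift qY (g ≫ c.π.app j) wY) wX) f fj
      (h1.lift qY (g ≫ c.π.app j) wY) := by
    refine IsPullback.of_right ?_ (h2.lift_snd _ _ wX) h2
    rw [h2.lift_fst, h1.lift_fst]
    exact hX
  exact P.of_isPullback sq h3

end

section

variable {I : Type u} [SmallCategory I] {D : I ⥤ Scheme.{u}} {i₀ : I} {Z₀ : Scheme.{u}}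

/-- For `g₀ = 𝟙`, the stage map is the naive base change. -/
lemma snd_of_stage (P : MorphismProperty Scheme.{u}) [P.IsStableUnderBaseChange]
    (ι₀ : Z₀ ⟶ D.obj i₀) (j : Over i₀) (h : P (fj D i₀ ι₀ (𝟙 _) j)) :
    P (pullback.snd ι₀ (D.map j.hom)) := by
  haveI : IsIso (gj D i₀ (𝟙 (D.obj i₀)) j) := by
    dsimp only [gj]
    infer_instance
  have hgj : inv (gj D i₀ (𝟙 (D.obj i₀)) j) ≫ pYj D i₀ (𝟙 (D.obj i₀)) j = D.map j.hom := by
    rw [IsIso.inv_comp_eq]
    have := pullback.condition (f := D.map j.hom) (g := 𝟙 (D.obj i₀))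
    simpa using this.symm
  have hr := isPullback_Xj D i₀ ι₀ (𝟙 (D.obj i₀)) j
  have hw : pullback.fst ι₀ (D.map j.hom) ≫ ι₀ =
      (pullback.snd ι₀ (D.map j.hom) ≫ inv (gj D i₀ (𝟙 (D.obj i₀)) j)) ≫
        pYj D i₀ (𝟙 (D.obj i₀)) j := by
    rw [Category.assoc, hgj, pullback.condition]
  have sq : IsPullback (hr.lift _ _ hw) (pullback.snd ι₀ (D.map j.hom))
      (fj D i₀ ι₀ (𝟙 _) j) (inv (gj D i₀ (𝟙 (D.obj i₀)) j)) := by
    refine IsPullback.of_right ?_ (hr.lift_snd _ _ hw) hr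
    rw [hr.lift_fst, hgj]
    exact IsPullback.of_hasPullback ι₀ (D.map j.hom)
  exact P.of_isPullback sq h

end

lemma affineBaseDescent_isSeparated :
    AffineBaseDescent.{u} @IsSeparated @IsSeparated (@QuasiCompact ⊓ @QuasiSeparated) := by
  intro I' _ _ D' c' hc' _ _ Z z i M hQ hz
  haveI : IsSeparated z := hz
  haveI : QuasiCompact M.v := hQ.1
  haveI : QuasiSeparated M.v := hQ.2
  obtain ⟨j, hj⟩ := exists_isSeparated_stage (f₀ := M.v) (g₀ := 𝟙 _) (f := z) (g := 𝟙 _)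
    (qY := c'.π.app i) (qX := M.g) hc' IsPullback.of_id_snd M.sq
  exact ⟨j, M.reindex_of_stage @IsSeparated j hj⟩

lemma affineBaseDescent_isIso :
    AffineBaseDescent.{u} (MorphismProperty.isomorphisms Scheme.{u})
      (MorphismProperty.isomorphisms Scheme.{u})
      (@LocallyOfFinitePresentation ⊓ @QuasiCompact) := by
  intro I' _ _ D' c' hc' _ _ Z z i M hQ hz
  haveI : IsIso z := hz
  haveI : LocallyOfFinitePresentation M.v := hQ.1
  haveI : QuasiCompact M.v := hQ.2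
  obtain ⟨j, hj⟩ := exists_isIso_stage_of_lfp (f₀ := M.v) (g₀ := 𝟙 _) (f := z) (g := 𝟙 _)
    (qY := c'.π.app i) (qX := M.g) hc' IsPullback.of_id_snd M.sq
  exact ⟨j, M.reindex_of_stage (MorphismProperty.isomorphisms Scheme.{u}) j hj⟩

lemma affineBaseDescent_isOpenImmersion :
    AffineBaseDescent.{u} @IsOpenImmersion @IsOpenImmersion
      (@LocallyOfFinitePresentation ⊓ @QuasiCompact ⊓ @QuasiSeparated) := by
  intro I' _ _ D' c' hc' _ _ Z z i M hQ hz
  haveI : IsOpenImmersion z := hz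
  haveI : LocallyOfFinitePresentation M.v := hQ.1.1
  haveI : QuasiCompact M.v := hQ.1.2
  haveI : QuasiSeparated M.v := hQ.2
  exact M.exists_of_conclusion @IsOpenImmersion
    (exists_isOpenImmersion_descend (f₀ := M.v) (g₀ := 𝟙 _) (f := z) (g := 𝟙 _)
      (qY := c'.π.app i) (qX := M.g) hc' IsPullback.of_id_snd M.sq)

lemma affineBaseDescent_isClosedImmersion :
    AffineBaseDescent.{u} @IsClosedImmersion @IsClosedImmersion
      (@LocallyOfFiniteType ⊓ @QuasiCompact ⊓ @QuasiSeparated) := by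
  intro I' _ _ D' c' hc' _ _ Z z i M hQ hz
  haveI : IsClosedImmersion z := hz
  haveI : LocallyOfFiniteType M.v := hQ.1.1
  haveI : QuasiCompact M.v := hQ.1.2
  haveI : QuasiSeparated M.v := hQ.2
  exact M.exists_of_conclusion @IsClosedImmersion
    (exists_isClosedImmersion_descend (f₀ := M.v) (g₀ := 𝟙 _) (f := z) (g := 𝟙 _)
      (qY := c'.π.app i) (qX := M.g) hc' IsPullback.of_id_snd M.sq)

end Groth.Agent.Lib.Helper1.ObjDesc

namespace Groth.Agent.Lib.Helper1.ObjDesc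

open AlgebraicGeometry CategoryTheory CategoryTheory.Limits Groth.Agent.Lib.Helper5
  Groth.Agent.Lib.Helper13 Groth.Agent.Lib.Helper13.LimitDescent

/-- `Z₁ ×_S T` factors through `Z₂ ×_S T` over `T` iff the base change of
`Z₁ ×_S Z₂ ⟶ Z₁` to `Z₁ ×_S T` is an isomorphism (`Z₂ ⟶ S` a monomorphism). -/
lemma exists_factor_iff_isIso {C : Type*} [Category C] [HasPullbacks C] {S T Z₁ Z₂ : C}
    (ι₁ : Z₁ ⟶ S) (ι₂ : Z₂ ⟶ S) [Mono ι₂] (t : T ⟶ S) :
    (∃ k : pullback ι₁ t ⟶ pullback ι₂ t, k ≫ pullback.snd ι₂ t = pullback.snd ι₁ t) ↔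
      IsIso (pullback.snd (pullback.fst ι₁ ι₂) (pullback.fst ι₁ t)) := by
  constructor
  · rintro ⟨k, hk⟩
    have hcomm : pullback.fst ι₁ t ≫ ι₁ = (k ≫ pullback.fst ι₂ t) ≫ ι₂ :=
      calc pullback.fst ι₁ t ≫ ι₁ = pullback.snd ι₁ t ≫ t := pullback.condition
        _ = (k ≫ pullback.snd ι₂ t) ≫ t := by rw [hk]
        _ = (k ≫ pullback.fst ι₂ t) ≫ ι₂ := by
          rw [Category.assoc, ← pullback.condition, Category.assoc]
    let s : pullback ι₁ t ⟶ pullback (pullback.fst ι₁ ι₂) (pullback.fst ι₁ t) :=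
      pullback.lift (pullback.lift (pullback.fst ι₁ t) (k ≫ pullback.fst ι₂ t) hcomm) (𝟙 _)
        (by rw [pullback.lift_fst, Category.id_comp])
    have hs : s ≫ pullback.snd (pullback.fst ι₁ ι₂) (pullback.fst ι₁ t) = 𝟙 _ :=
      pullback.lift_snd _ _ _
    haveI : Mono (pullback.fst ι₁ ι₂) := inferInstance
    haveI : Mono (pullback.snd (pullback.fst ι₁ ι₂) (pullback.fst ι₁ t)) := inferInstance
    haveI : IsSplitEpi (pullback.snd (pullback.fst ι₁ ι₂) (pullback.fst ι₁ t)) :=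
      IsSplitEpi.mk' ⟨s, hs⟩
    exact isIso_of_mono_of_isSplitEpi _
  · intro h
    let q := pullback.snd (pullback.fst ι₁ ι₂) (pullback.fst ι₁ t)
    have hq : inv q ≫ pullback.fst (pullback.fst ι₁ ι₂) (pullback.fst ι₁ t) ≫
        pullback.fst ι₁ ι₂ = pullback.fst ι₁ t := by
      rw [pullback.condition, IsIso.inv_hom_id_assoc]
    refine ⟨pullback.lift (inv q ≫ pullback.fst (pullback.fst ι₁ ι₂) (pullback.fst ι₁ t) ≫
      pullback.snd ι₁ ι₂) (pullback.snd ι₁ t) ?_, pullback.lift_snd _ _ _⟩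
    rw [Category.assoc, Category.assoc, ← pullback.condition, reassoc_of% hq, pullback.condition]

section

variable {I : Type u} [SmallCategory I] {D : I ⥤ Scheme.{u}}
  {i₀ : I} {X₀ Y₀ : Scheme.{u}}

/-- The stage map and the naive iterated base change agree up to the symmetry of pullbacks. -/
lemma snd_fst_of_stage (P : MorphismProperty Scheme.{u}) [P.IsStableUnderBaseChange]
    (f₀ : X₀ ⟶ Y₀) (g₀ : Y₀ ⟶ D.obj i₀) (j : Over i₀) (h : P (fj D i₀ f₀ g₀ j)) :
    P (pullback.snd f₀ (pullback.fst g₀ (D.map j.hom))) := by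
  have hr := isPullback_Xj D i₀ f₀ g₀ j
  have hσ : (pullbackSymmetry g₀ (D.map j.hom)).hom ≫ pYj D i₀ g₀ j =
      pullback.fst g₀ (D.map j.hom) := pullbackSymmetry_hom_comp_snd _ _
  have hw : pullback.fst f₀ (pullback.fst g₀ (D.map j.hom)) ≫ f₀ =
      (pullback.snd f₀ (pullback.fst g₀ (D.map j.hom)) ≫
        (pullbackSymmetry g₀ (D.map j.hom)).hom) ≫ pYj D i₀ g₀ j := by
    rw [Category.assoc, hσ, pullback.condition]
  have sq : IsPullback (hr.lift _ _ hw) (pullback.snd f₀ (pullback.fst g₀ (D.map j.hom)))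
      (fj D i₀ f₀ g₀ j) (pullbackSymmetry g₀ (D.map j.hom)).hom := by
    refine IsPullback.of_right ?_ (hr.lift_snd _ _ hw) hr
    rw [hr.lift_fst, hσ]
    exact IsPullback.of_hasPullback f₀ (pullback.fst g₀ (D.map j.hom))
  exact P.of_isPullback sq h

end

end Groth.Agent.Lib.Helper1.ObjDesc
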