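import Groth.Agent.Lib.Helper1.ObjDescMain
import Groth.Agent.Lib.Helper1.FlatStage3
import Groth.Agent.Lib.Helper13.SmoothDesc10
import Mathlib.AlgebraicGeometry.Morphisms.UniversallyOpen

/-!
# Descent of coverings along cofiltered limits (helper1)
-/

set_option autoImplicit false
set_option linter.unusedSectionVars false
set_option linter.style.haveILetI false
universe u

namespace Groth.Agent.Lib.Helper1.ObjDesc

open AlgebraicGeometry CategoryTheory CategoryTheory.Limits Groth.Agent.Lib.Helper5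
  Groth.Agent.Lib.Helper13 Groth.Agent.Lib.Helper13.LimitDescent TopologicalSpace

variable {I : Type u} [SmallCategory I] [IsCofiltered I] {D : I ⥤ Scheme.{u}} {c : Cone D}

namespace Model

variable {Z : Scheme.{u}} {z : Z ⟶ c.pt} {i : I}

lemma reindex_v_eq (M : Model D c z i) (j : Over i) :
    (M.reindex j).v = (pullback.congrHom (rfl : D.map j.hom = D.map j.hom)
      (Category.comp_id M.v).symm).hom ≫ fj D i M.v (𝟙 _) j ≫ gj D i (𝟙 _) j := by
  rw [fj_gj, pullback.congrHom_hom]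
  exact ((pullback.lift_fst _ _ _).trans (Category.comp_id _)).symm

lemma reindex_of_stage (P : MorphismProperty Scheme.{u}) [P.RespectsIso] (M : Model D c z i)
    (j : Over i) (h : P (fj D i M.v (𝟙 _) j)) : P (M.reindex j).v := by
  rw [reindex_v_eq]
  haveI : IsIso (gj D i (𝟙 (D.obj i)) j) := by
    dsimp only [gj]
    infer_instance
  rw [P.cancel_left_of_respectsIso, P.cancel_right_of_respectsIso]
  exact h

lemma exists_of_conclusion (P : MorphismProperty Scheme.{u}) [P.IsStableUnderBaseChange]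
    (M : Model D c z i)
    (h : ∃ (i' : I) (φ : i' ⟶ i) (Xi Yi : Scheme.{u}) (fi : Xi ⟶ Yi) (gi : Yi ⟶ D.obj i')
      (pY : Yi ⟶ D.obj i) (pX : Xi ⟶ M.V),
      IsPullback pY gi (𝟙 _) (D.map φ) ∧ IsPullback pX fi M.v pY ∧ P fi) :
    ∃ j : Over i, P (M.reindex j).v := by
  obtain ⟨j, hj⟩ := stage_of_conclusion D i M.v (𝟙 _) P h
  exact ⟨j, M.reindex_of_stage P j hj⟩

lemma range_eq_preimage (M : Model D c z i) :
    Set.range z = c.π.app i ⁻¹' Set.range M.v := by
  have := Scheme.image_preimage_eq_of_isPullback M.sq Set.univ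
  simpa using this

lemma range_reindex (M : Model D c z i) (j : Over i) :
    Set.range (M.reindex j).v = D.map j.hom ⁻¹' Set.range M.v := by
  have := Scheme.image_preimage_eq_of_isPullback (M.isPullback_proj j) Set.univ
  simpa using this

variable (hc : IsLimit c) [∀ {i j} (f : i ⟶ j), IsAffineHom (D.map f)]

include hc in
lemma exists_flat (M : Model D c z i) [CompactSpace M.V] [LocallyOfFinitePresentation M.v]
    [Flat z] : ∃ j : Over i, Flat (M.reindex j).v := by
  obtain ⟨j, hj⟩ := exists_flat_stage (f₀ := M.v) (g₀ := 𝟙 _) (f := z) (g := 𝟙 _)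
    (qY := c.π.app i) (qX := M.g) hc IsPullback.of_id_snd M.sq
  exact ⟨j, M.reindex_of_stage @Flat j hj⟩

include hc in
lemma exists_etale (M : Model D c z i) [CompactSpace M.V] [LocallyOfFinitePresentation M.v]
    [Etale z] : ∃ j : Over i, Etale (M.reindex j).v := by
  obtain ⟨j, hj⟩ := exists_etale_stage (f₀ := M.v) (g₀ := 𝟙 _) (f := z) (g := 𝟙 _)
    (qY := c.π.app i) (qX := M.g) hc IsPullback.of_id_snd M.sq
  exact ⟨j, M.reindex_of_stage @Etale j hj⟩

end Model

variable (hc : IsLimit c) [∀ {i j} (f : i ⟶ j), IsAffineHom (D.map f)]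
  [∀ i, CompactSpace (D.obj i)] [∀ i, QuasiSeparatedSpace (D.obj i)]

include hc in
set_option maxHeartbeats 800000 in
/-- Descent of finitely presented coverings for a class `P` of universally open morphisms which
descends to finite stages. -/
theorem cover_core (P : MorphismProperty Scheme.{u}) [P.IsStableUnderBaseChange]
    (hP : ∀ {Z : Scheme.{u}} (z : Z ⟶ c.pt) {i : I} (M : Model D c z i), M.IsFP → P z →
      ∃ j : Over i, P (M.reindex j).v)
    (hopen : ∀ {X Y : Scheme.{u}} (f : X ⟶ Y), P f → LocallyOfFinitePresentation f → IsOpenMap f)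
    {ι : Type u} (U : ι → Scheme.{u}) (u : ∀ a, U a ⟶ c.pt) (hu : ∀ a, P (u a))
    [∀ a, LocallyOfFinitePresentation (u a)] [∀ a, QuasiCompact (u a)]
    [∀ a, QuasiSeparated (u a)]
    (hcov : ∀ x : c.pt, ∃ (a : ι) (y : U a), (u a).base y = x) :
    ∃ (i : I) (n : ℕ) (a : Fin n → ι) (M : ∀ j, Model D c (u (a j)) i),
      (∀ j, (M j).IsFP ∧ P (M j).v) ∧ ∀ x : D.obj i, ∃ (j : Fin n) (y : (M j).V), (M j).v y = x := by
  classical
  haveI : CompactSpace c.pt := Scheme.compactSpace_of_isLimit D c hc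
  -- finite subcover
  obtain ⟨t, ht⟩ := isCompact_univ.elim_finite_subcover
    (fun a => Set.range (u a)) (fun a => (hopen (u a) (hu a) inferInstance).isOpen_range)
    (by
      intro x _
      obtain ⟨a, y, hy⟩ := hcov x
      exact Set.mem_iUnion.mpr ⟨a, y, hy⟩)
  -- models
  have h0 : ∀ a, ∃ (i : I) (M : Model D c (u a) i), M.IsFP ∧ P M.v := by
    intro a
    obtain ⟨i, V, v, g, h1, h2, h3, sq⟩ := desc_of_finitePresentation hc (u a)
    let M : Model D c (u a) i := ⟨V, v, g, sq⟩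
    have hM : M.IsFP := ⟨h1, h2, h3⟩
    obtain ⟨j, hj⟩ := hP (u a) M hM (hu a)
    exact ⟨j.left, M.reindex j, Model.reindex_isFP hM j, hj⟩
  choose i M₁ hM₁ hPM₁ using h0
  obtain ⟨k, hk⟩ := IsCofiltered.inf_objs_exists (t.image i)
  have f : ∀ b : ↥t, k ⟶ i b.1 := fun b => (hk (Finset.mem_image_of_mem i b.2)).some
  let M₂ : ∀ b : ↥t, Model D c (u b.1) k := fun b => (M₁ b.1).reindex (Over.mk (f b))
  have hM₂ : ∀ b, (M₂ b).IsFP := fun b => Model.reindex_isFP (hM₁ b.1) _
  have hPM₂ : ∀ b, P (M₂ b).v := fun b =>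
    MorphismProperty.of_isPullback ((M₁ b.1).isPullback_proj (Over.mk (f b))) (hPM₁ b.1)
  let W : ↥t → (D.obj k).Opens := fun b =>
    ⟨Set.range (M₂ b).v, (hopen _ (hPM₂ b) (hM₂ b).1).isOpen_range⟩
  have htop : c.π.app k ⁻¹ᵁ (⨆ b : ↥t, W b) = ⊤ := by
    rw [eq_top_iff]
    intro x _
    have := ht (Set.mem_univ x)
    simp only [Set.mem_iUnion] at this
    obtain ⟨a, ha, hx⟩ := this
    rw [(M₂ ⟨a, ha⟩).range_eq_preimage] at hx
    change c.π.app k x ∈ (⨆ b : ↥t, W b : (D.obj k).Opens)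
    exact Opens.mem_iSup.mpr ⟨⟨a, ha⟩, hx⟩
  obtain ⟨m, g, hg⟩ := exists_map_eq_top D c hc _ htop
  let M₃ : ∀ b : ↥t, Model D c (u b.1) m := fun b => (M₂ b).reindex (Over.mk g)
  have hM₃ : ∀ b, (M₃ b).IsFP := fun b => Model.reindex_isFP (hM₂ b) _
  have hPM₃ : ∀ b, P (M₃ b).v := fun b =>
    MorphismProperty.of_isPullback ((M₂ b).isPullback_proj (Over.mk g)) (hPM₂ b)
  refine ⟨m, t.card, fun j => (t.equivFin.symm j).1, fun j => M₃ (t.equivFin.symm j),
    fun j => ⟨hM₃ _, hPM₃ _⟩, ?_⟩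
  intro x
  have hx : x ∈ D.map g ⁻¹ᵁ (⨆ b : ↥t, W b) := by rw [hg]; trivial
  obtain ⟨b, hb⟩ := Opens.mem_iSup.mp (show D.map g x ∈ (⨆ b : ↥t, W b : (D.obj k).Opens) from hx)
  obtain ⟨j, rfl⟩ := t.equivFin.symm.surjective b
  have h2 : x ∈ Set.range (M₃ (t.equivFin.symm j)).v := by
    rw [(M₂ (t.equivFin.symm j)).range_reindex (Over.mk g)]
    exact hb
  obtain ⟨y, hy⟩ := h2
  exact ⟨j, y, hy⟩

end Groth.Agent.Lib.Helper1.ObjDesc
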