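import Groth.Agent.Lib.Helper1.ObjDescCover
import Groth.Agent.Lib.Helper13.IsoDescent

/-!
# Descent of isomorphisms of models (helper1)
-/

set_option autoImplicit false
set_option linter.unusedSectionVars false
set_option linter.style.haveILetI false
universe u

namespace Groth.Agent.Lib.Helper1.ObjDesc

open AlgebraicGeometry CategoryTheory CategoryTheory.Limits Groth.Agent.Lib.Helper5
  Groth.Agent.Lib.Helper13 Groth.Agent.Lib.Helper13.LimitDescent

variable {I : Type u} [SmallCategory I] [IsCofiltered I] {D : I ⥤ Scheme.{u}} {c : Cone D}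
  (hc : IsLimit c) [∀ {i j} (f : i ⟶ j), IsAffineHom (D.map f)]
  [∀ i, CompactSpace (D.obj i)] [∀ i, QuasiSeparatedSpace (D.obj i)]
  {Z Z' : Scheme.{u}} {z : Z ⟶ c.pt} {z' : Z' ⟶ c.pt} {i : I}

namespace Model

include hc in
theorem exists_isIso (M : Model D c z i) (M' : Model D c z' i) (hM : M.IsFP)
    (hM' : M'.IsFP) (h : Z ⟶ Z') [IsIso h] (hz : h ≫ z' = z) (ψ : M.V ⟶ M'.V)
    (r : Rep M M' h ψ) : ∃ k : Over i, IsIso (homReindex M M' ψ r.over k) := by
  obtain ⟨V, v, g, sq⟩ := M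
  obtain ⟨hov, hcomm⟩ := r
  dsimp only at hov hcomm ψ
  subst hov
  obtain ⟨h1, h2, h3⟩ := hM
  obtain ⟨h1', h2', h3'⟩ := hM'
  dsimp only at h1 h2 h3
  have hX : IsPullback g h ψ M'.g := by
    refine IsPullback.of_bot ?_ hcomm M'.sq
    rw [hz]; exact sq
  obtain ⟨k, hk⟩ := exists_isIso_stage hc M'.sq hX
  exact ⟨k, hk⟩

include hc in
/-- Isomorphic schemes of finite presentation over the limit have isomorphic models at some
stage. -/
theorem exists_iso (M : Model D c z i) (M' : Model D c z' i) (hM : M.IsFP)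
    (hM' : M'.IsFP) (e : Z ≅ Z') (hz : e.hom ≫ z' = z) :
    ∃ (j : I) (φ : j ⟶ i) (Xj Yj : Scheme.{u}) (aj : Xj ⟶ D.obj j) (bj : Yj ⟶ D.obj j)
      (pX : Xj ⟶ M.V) (pY : Yj ⟶ M'.V), IsPullback pX aj M.v (D.map φ) ∧
      IsPullback pY bj M'.v (D.map φ) ∧ ∃ ε : Xj ≅ Yj, ε.hom ≫ bj = aj := by
  obtain ⟨k, ψ, r⟩ := M.exists_hom hc M' hM.2.1 hM.2.2 hM'.1 e.hom hz
  obtain ⟨l, hl⟩ := (M.reindex k).exists_isIso hc (M'.reindex k) (reindex_isFP hM k)
    (reindex_isFP hM' k) e.hom hz ψ r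
  refine ⟨l.left, l.hom ≫ k.hom, _, _, ((M.reindex k).reindex l).v, ((M'.reindex k).reindex l).v,
    (M.reindex k).proj l ≫ M.proj k, (M'.reindex k).proj l ≫ M'.proj k, ?_, ?_,
    asIso (homReindex (M.reindex k) (M'.reindex k) ψ r.over l), ?_⟩
  · rw [D.map_comp]
    exact ((M.reindex k).isPullback_proj l).paste_horiz (M.isPullback_proj k)
  · rw [D.map_comp]
    exact ((M'.reindex k).isPullback_proj l).paste_horiz (M'.isPullback_proj k)
  · exact homReindex_v (M.reindex k) (M'.reindex k) ψ r.over l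

end Model

end Groth.Agent.Lib.Helper1.ObjDesc
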