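import Groth.Agent.Lib.Helper1.ObjDescAffine
import Groth.Agent.Lib.Helper13.OpenImmersionDescent
import Groth.Agent.Lib.Helper13.Stage

/-!
# Models of schemes over a cofiltered limit at finite stages (helper1)
-/

set_option autoImplicit false
set_option linter.unusedSectionVars false
set_option linter.style.haveILetI false
universe u

namespace Groth.Agent.Lib.Helper1.ObjDesc

open AlgebraicGeometry CategoryTheory CategoryTheory.Limits Groth.Agent.Lib.Helper5
  Groth.Agent.Lib.Helper13 Groth.Agent.Lib.Helper13.LimitDescent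

variable {I : Type u} [SmallCategory I] [IsCofiltered I] (D : I ⥤ Scheme.{u}) (c : Cone D)

/-- A model of `z : Z ⟶ c.pt` at the stage `i`. -/
structure Model {Z : Scheme.{u}} (z : Z ⟶ c.pt) (i : I) where
  V : Scheme.{u}
  v : V ⟶ D.obj i
  g : Z ⟶ V
  sq : IsPullback g z v (c.π.app i)

namespace Model

variable {D c} {Z Z' : Scheme.{u}} {z : Z ⟶ c.pt} {z' : Z' ⟶ c.pt} {i : I}

/-- finite presentation of a model -/
def IsFP (M : Model D c z i) : Prop :=
  LocallyOfFinitePresentation M.v ∧ QuasiCompact M.v ∧ QuasiSeparated M.v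

/-- change of stage -/
@[reducible] noncomputable def reindex (M : Model D c z i) (k : Over i) : Model D c z k.left where
  V := Yj D i M.v k
  v := gj D i M.v k
  g := πY M.sq k
  sq := isPullback_πY M.sq k

/-- the projection to the old model -/
noncomputable abbrev proj (M : Model D c z i) (k : Over i) : (M.reindex k).V ⟶ M.V :=
  pYj D i M.v k

@[reassoc]
lemma reindex_g_proj (M : Model D c z i) (k : Over i) : (M.reindex k).g ≫ M.proj k = M.g :=
  πY_pYj M.sq k

lemma isPullback_proj (M : Model D c z i) (k : Over i) :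
    IsPullback (M.proj k) (M.reindex k).v M.v (D.map k.hom) :=
  isPullback_Yj D i M.v k

lemma reindex_isFP {M : Model D c z i} (h : M.IsFP) (k : Over i) : (M.reindex k).IsFP := by
  obtain ⟨h1, h2, h3⟩ := h
  exact ⟨MorphismProperty.of_isPullback (M.isPullback_proj k) h1,
    MorphismProperty.of_isPullback (M.isPullback_proj k) h2,
    MorphismProperty.of_isPullback (M.isPullback_proj k) h3⟩

/-- `ψ` represents `h`. -/
structure Rep (M : Model D c z i) (M' : Model D c z' i) (h : Z ⟶ Z') (ψ : M.V ⟶ M'.V) : Prop where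
  over : ψ ≫ M'.v = M.v
  comm : M.g ≫ ψ = h ≫ M'.g

lemma Rep.isPullback {M : Model D c z i} {M' : Model D c z' i} {h : Z ⟶ Z'} {ψ : M.V ⟶ M'.V}
    (r : Rep M M' h ψ) (hz : h ≫ z' = z) : IsPullback M.g h ψ M'.g := by
  refine IsPullback.of_bot ?_ r.comm M'.sq
  rw [hz, r.over]
  exact M.sq

/-- change of stage for a morphism of models -/
noncomputable def homReindex (M : Model D c z i) (M' : Model D c z' i) (ψ : M.V ⟶ M'.V)
    (hψ : ψ ≫ M'.v = M.v) (k : Over i) : (M.reindex k).V ⟶ (M'.reindex k).V :=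
  pullback.lift (pullback.fst (D.map k.hom) M.v) (pullback.snd (D.map k.hom) M.v ≫ ψ)
    (by rw [pullback.condition, Category.assoc, hψ])

@[reassoc]
lemma homReindex_v (M : Model D c z i) (M' : Model D c z' i) (ψ : M.V ⟶ M'.V)
    (hψ : ψ ≫ M'.v = M.v) (k : Over i) :
    homReindex M M' ψ hψ k ≫ (M'.reindex k).v = (M.reindex k).v :=
  pullback.lift_fst _ _ _

@[reassoc]
lemma homReindex_proj (M : Model D c z i) (M' : Model D c z' i) (ψ : M.V ⟶ M'.V)
    (hψ : ψ ≫ M'.v = M.v) (k : Over i) :
    homReindex M M' ψ hψ k ≫ M'.proj k = M.proj k ≫ ψ :=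
  pullback.lift_snd _ _ _

lemma isPullback_homReindex (M : Model D c z i) (M' : Model D c z' i) (ψ : M.V ⟶ M'.V)
    (hψ : ψ ≫ M'.v = M.v) (k : Over i) :
    IsPullback (homReindex M M' ψ hψ k) (M.proj k) (M'.proj k) ψ := by
  refine IsPullback.of_right ?_ (homReindex_proj M M' ψ hψ k) (M'.isPullback_proj k).flip
  rw [homReindex_v, hψ]
  exact (M.isPullback_proj k).flip

lemma Rep.reindex {M : Model D c z i} {M' : Model D c z' i} {h : Z ⟶ Z'} {ψ : M.V ⟶ M'.V}
    (r : Rep M M' h ψ) (hz : h ≫ z' = z) (k : Over i) :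
    Rep (M.reindex k) (M'.reindex k) h (homReindex M M' ψ r.over k) where
  over := homReindex_v M M' ψ r.over k
  comm := by
    apply pullback.hom_ext
    · have h1 := homReindex_v M M' ψ r.over k
      have h2 : πY M.sq k ≫ gj D i M.v k = z ≫ c.π.app k.left := πY_gj M.sq k
      have h3 : πY M'.sq k ≫ gj D i M'.v k = z' ≫ c.π.app k.left := πY_gj M'.sq k
      rw [Category.assoc, Category.assoc, h1, h2, h3, reassoc_of% hz]
    · have h1 := homReindex_proj M M' ψ r.over k
      have h2 := reindex_g_proj M k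
      have h3 := reindex_g_proj M' k
      rw [Category.assoc, Category.assoc, h1, reassoc_of% h2, h3, r.comm]

end Model

end Groth.Agent.Lib.Helper1.ObjDesc
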