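import Groth.Agent.Lib.Helper1.ObjDescCover
import Groth.Agent.Lib.Helper13.Localize
import Groth.Agent.Lib.Helper13.Stage

/-!
# Reduction of stage-descent statements to an affine base system (helper1)

EGA IV 8.10.5-style statements only assume `Y₀` quasi-compact.  We reduce them to the case where
the base system consists of affine schemes, by covering `Y₀` by affine opens `W` and replacing the
base system `(S_j)` by `(W ×_{S_{i₀}} S_j)`.
-/

set_option autoImplicit false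
set_option linter.unusedSectionVars false
set_option linter.style.haveILetI false
universe u

namespace Groth.Agent.Lib.Helper1.ObjDesc

open AlgebraicGeometry CategoryTheory CategoryTheory.Limits Groth.Agent.Lib.Helper5
  Groth.Agent.Lib.Helper13 Groth.Agent.Lib.Helper13.LimitDescent

variable {I : Type u} [SmallCategory I] [IsCofiltered I] {D : I ⥤ Scheme.{u}} {c : Cone D}
  (hc : IsLimit c) [∀ {i j} (f : i ⟶ j), IsAffineHom (D.map f)]
  {i₀ : I} {X₀ Y₀ : Scheme.{u}} {f₀ : X₀ ⟶ Y₀} {g₀ : Y₀ ⟶ D.obj i₀}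
  {X Y : Scheme.{u}} {f : X ⟶ Y} {g : Y ⟶ c.pt} {qY : Y ⟶ Y₀} {qX : X ⟶ X₀}

/-- The hypothesis "the descent statement holds over affine base systems". -/
def AffineBaseDescent (P P' Q : MorphismProperty Scheme.{u}) : Prop :=
  ∀ {I' : Type u} [SmallCategory I'] [IsCofiltered I'] {D' : I' ⥤ Scheme.{u}} {c' : Cone D'}
    (_ : IsLimit c') [∀ {i j} (f : i ⟶ j), IsAffineHom (D'.map f)] [∀ i, IsAffine (D'.obj i)]
    {Z : Scheme.{u}} {z : Z ⟶ c'.pt} {i : I'} (M : Model D' c' z i), Q M.v → P' z →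
    ∃ j : Over i, P (M.reindex j).v

omit [IsCofiltered I] in
lemma isAffine_bcDiagram_obj [IsAffine Y₀]
    (g₀ : Y₀ ⟶ D.obj i₀) (j : Over i₀) :
    IsAffine ((bcDiagram D i₀ g₀).obj j) := by
  have h0 : IsAffineHom (D.map j.hom) := inferInstance
  have : IsAffineHom (pullback.snd (D.map j.hom) g₀) :=
    MorphismProperty.pullback_snd (P := @IsAffineHom) _ _ h0
  change IsAffine (pullback (D.map j.hom) g₀)
  exact isAffine_of_isAffineHom (pullback.snd (D.map j.hom) g₀)

include hc in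
set_option backward.isDefEq.respectTransparency false in
theorem exists_stage_of_affineBase_of_isAffine (P P' Q : MorphismProperty Scheme.{u})
    [P.IsStableUnderBaseChange] [P'.RespectsIso] (H : AffineBaseDescent P P' Q) [IsAffine Y₀]
    (hY : IsPullback qY g g₀ (c.π.app i₀)) (hX : IsPullback qX f f₀ qY) (hQ : Q f₀) (hP' : P' f)
    [Q.RespectsIso] :
    ∃ j : Over i₀, P (fj D i₀ f₀ g₀ j) := by
  let D' := bcDiagram D i₀ g₀
  let c' := bcCone D c i₀ g₀
  let hc' : IsLimit c' := isLimitBcCone D c hc i₀ g₀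
  let i₀' : Over i₀ := Over.mk (𝟙 i₀)
  haveI : ∀ j, IsAffine (D'.obj j) := fun j => isAffine_bcDiagram_obj g₀ j
  haveI : IsIso (D.map i₀'.hom) := by
    have h : D.map i₀'.hom = 𝟙 (D.obj i₀) := D.map_id i₀
    rw [h]; exact IsIso.id _
  haveI : IsIso (pullback.snd (D.map i₀'.hom) g₀) := inferInstance
  let ε : D'.obj i₀' ≅ Y₀ := asIso (pullback.snd (D.map i₀'.hom) g₀)
  have hε : c'.π.app i₀' ≫ ε.hom = pullback.snd (c.π.app i₀) g₀ := bcCone_π_app_snd D c i₀ g₀ i₀'
  have sq : IsPullback qX (f ≫ (isoY hY).hom) (f₀ ≫ ε.inv) (c'.π.app i₀') := by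
    refine hX.of_iso (Iso.refl _) (Iso.refl _) (isoY hY) ε.symm ?_ ?_ ?_ ?_
    · simp
    · simp
    · simp
    · rw [Iso.symm_hom, Iso.comp_inv_eq, Category.assoc, hε, isoY_hom_snd]
  let M : Model D' c' (f ≫ (isoY hY).hom) i₀' := ⟨X₀, f₀ ≫ ε.inv, qX, sq⟩
  obtain ⟨j', hj'⟩ := H hc' M ((Q.cancel_right_of_respectsIso f₀ ε.inv).mpr hQ)
    ((P'.cancel_right_of_respectsIso f (isoY hY).hom).mpr hP')
  have hproj : D'.map j'.hom ≫ ε.hom = pYj D i₀ g₀ j'.left := bcDiagram_map_pYj D i₀ g₀ j'.hom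
  have h2 : IsPullback (M.proj j') (M.reindex j').v f₀ (pYj D i₀ g₀ j'.left) := by
    refine (M.isPullback_proj j').of_iso (Iso.refl _) (Iso.refl _) (Iso.refl _) ε ?_ ?_ ?_ ?_
    · simp
    · simp
    · simp [M]
    · simpa using hproj
  exact stage_of_conclusion D i₀ f₀ g₀ P ⟨j'.left.left, j'.left.hom, _, _, (M.reindex j').v,
    gj D i₀ g₀ j'.left, pYj D i₀ g₀ j'.left, M.proj j', isPullback_Yj D i₀ g₀ j'.left, h2, hj'⟩

include hc in
/-- **Reduction to affine base systems.** -/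
theorem exists_stage_of_affineBase (P P' Q : MorphismProperty Scheme.{u})
    [IsZariskiLocalAtTarget P] [P.IsStableUnderBaseChange] [P'.IsStableUnderBaseChange]
    [Q.IsStableUnderBaseChange] (H : AffineBaseDescent P P' Q) [CompactSpace Y₀]
    (hY : IsPullback qY g g₀ (c.π.app i₀)) (hX : IsPullback qX f f₀ qY) (hQ : Q f₀) (hP' : P' f) :
    ∃ j : Over i₀, P (fj D i₀ f₀ g₀ j) := by
  let 𝒰 := Y₀.affineCover.finiteSubcover
  refine exists_stage_of_cover D i₀ f₀ g₀ P (fun a : 𝒰.I₀ => 𝒰.X a) 𝒰.f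
    (fun y => ⟨𝒰.idx y, 𝒰.covers y⟩) ?_
  intro a
  haveI : IsAffine (𝒰.X a) := by
    dsimp [𝒰]; infer_instance
  exact exists_stage_of_affineBase_of_isAffine hc P P' Q H
    (isPullback_Y_baseChange (𝒰.f a) hY) (isPullback_X_baseChange (𝒰.f a) hX)
    (Q.pullback_snd _ _ hQ) (P'.pullback_snd _ _ hP')

end Groth.Agent.Lib.Helper1.ObjDesc
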