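import Groth.Agent.Lib.Helper13.SmoothDesc4
import Mathlib.Algebra.Category.Ring.Constructions

/-!
# Finitely presented algebras over a filtered colimit of rings descend to a stage (helper1)

EGA IV 8.8.2 (ii), ring level, on helper13's `SD.RingSys`.
-/

set_option autoImplicit false
set_option linter.style.haveILetI false
set_option linter.unusedSectionVars false

open MvPolynomial CategoryTheory CategoryTheory.Limits

universe u v w

namespace Groth.Agent.Lib.Helper1.ObjDesc

open Groth.Agent.Lib.Helper13.SD

variable {J : Type v} [Category.{w} J] [IsCofiltered J] (S : RingSys.{u} J)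

theorem exists_fp_model {B : Type u} [CommRing B] (φ : S.A →+* B) (hφ : φ.FinitePresentation) :
    ∃ (j : J) (Bj : Type u) (_ : CommRing Bj) (ψ : S.R j →+* Bj) (β : Bj →+* B),
      ψ.FinitePresentation ∧
      IsPushout (CommRingCat.ofHom (S.a j)) (CommRingCat.ofHom ψ) (CommRingCat.ofHom φ)
        (CommRingCat.ofHom β) := by
  classical
  letI := φ.toAlgebra
  have hφ' : Algebra.FinitePresentation S.A B := hφ
  obtain ⟨n, f, hf, s, hs⟩ := Algebra.FinitePresentation.out (R := S.A) (A := B)
  obtain ⟨j, y, hy⟩ := (S.poly (Fin n)).exists_lift_family (fun p : s => p.1)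
  have hy' : ∀ p : s, MvPolynomial.map (S.a j) (y p) = p.1 := hy
  let I : Ideal (MvPolynomial (Fin n) (S.R j)) := Ideal.span (Set.range y)
  let ψ : S.R j →+* (MvPolynomial (Fin n) (S.R j) ⧸ I) := (Ideal.Quotient.mk I).comp C
  have hfs : ∀ p : s, f p.1 = 0 := fun p => by
    have : p.1 ∈ RingHom.ker f.toRingHom := by rw [← hs]; exact Ideal.subset_span p.2
    exact this
  have hI : ∀ a ∈ I, (f.toRingHom.comp (MvPolynomial.map (S.a j))) a = 0 := by
    intro a ha
    have : I ≤ RingHom.ker (f.toRingHom.comp (MvPolynomial.map (S.a j))) := by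
      rw [Ideal.span_le]
      rintro _ ⟨p, rfl⟩
      change f (MvPolynomial.map (S.a j) (y p)) = 0
      rw [hy' p]; exact hfs p
    exact this ha
  let β : (MvPolynomial (Fin n) (S.R j) ⧸ I) →+* B :=
    Ideal.Quotient.lift I (f.toRingHom.comp (MvPolynomial.map (S.a j))) hI
  have hβψ : β.comp ψ = φ.comp (S.a j) := by
    ext r
    change f (MvPolynomial.map (S.a j) (C r)) = φ (S.a j r)
    rw [MvPolynomial.map_C]
    exact f.commutes _
  refine ⟨j, _, inferInstance, ψ, β, ?_, ?_⟩
  · refine RingHom.FinitePresentation.comp (f := C) (g := Ideal.Quotient.mk I) ?_ ?_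
    · exact RingHom.FinitePresentation.of_surjective _ Ideal.Quotient.mk_surjective
        (by rw [Ideal.mk_ker]; exact ⟨(Finset.univ.image y), by simp [I]⟩)
    · have : (algebraMap (S.R j) (MvPolynomial (Fin n) (S.R j))).FinitePresentation :=
        RingHom.finitePresentation_algebraMap.mpr inferInstance
      exact this
  · refine ⟨⟨?_⟩, ⟨PushoutCocone.IsColimit.mk _ ?_ ?_ ?_ ?_⟩⟩
    · rw [← CommRingCat.ofHom_comp, ← CommRingCat.ofHom_comp, hβψ]
    · intro t
      have hcond : t.inl.hom.comp (S.a j) = t.inr.hom.comp ψ := by
        have := t.condition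
        exact congrArg CommRingCat.Hom.hom this
      let γ : MvPolynomial (Fin n) S.A →+* t.pt :=
        eval₂Hom t.inl.hom (fun k => t.inr.hom (Ideal.Quotient.mk I (X k)))
      have hγ : γ.comp (MvPolynomial.map (S.a j)) = t.inr.hom.comp (Ideal.Quotient.mk I) := by
        refine MvPolynomial.ringHom_ext (fun r => ?_) (fun k => ?_)
        · simp only [RingHom.comp_apply, MvPolynomial.map_C, γ, coe_eval₂Hom, eval₂_C]
          exact RingHom.congr_fun hcond r
        · simp [γ]
      have hker : RingHom.ker f.toRingHom ≤ RingHom.ker γ := by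
        rw [← hs, Ideal.span_le]
        intro p hp
        have h1 := RingHom.congr_fun hγ (y ⟨p, hp⟩)
        rw [RingHom.comp_apply, hy' ⟨p, hp⟩, RingHom.comp_apply] at h1
        change γ p = 0
        rw [h1, Ideal.Quotient.eq_zero_iff_mem.mpr (Ideal.subset_span (Set.mem_range_self _)), map_zero]
      exact CommRingCat.ofHom (RingHom.liftOfSurjective f.toRingHom hf ⟨γ, hker⟩)
    · intro t
      refine CommRingCat.hom_ext (RingHom.ext fun r => ?_)
      simp only [CommRingCat.hom_comp, CommRingCat.hom_ofHom, RingHom.comp_apply]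
      have : φ r = f.toRingHom (C r) := (f.commutes r).symm
      rw [this, RingHom.liftOfSurjective_comp_apply]
      simp
    · intro t
      refine CommRingCat.hom_ext (RingHom.ext fun x => ?_)
      obtain ⟨p, rfl⟩ := Ideal.Quotient.mk_surjective x
      simp only [CommRingCat.hom_comp, CommRingCat.hom_ofHom, RingHom.comp_apply]
      change RingHom.liftOfSurjective f.toRingHom hf _ (f.toRingHom (MvPolynomial.map (S.a j) p)) = _
      rw [RingHom.liftOfSurjective_comp_apply]
      induction p using MvPolynomial.induction_on with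
      | C r =>
        simp only [MvPolynomial.map_C, coe_eval₂Hom, eval₂_C]
        have hcond : t.inl.hom.comp (S.a j) = t.inr.hom.comp ψ :=
          congrArg CommRingCat.Hom.hom t.condition
        exact RingHom.congr_fun hcond r
      | add p q hp hq => simp only [map_add, hp, hq]
      | mul_X p k hp => simp only [map_mul, hp, MvPolynomial.map_X, coe_eval₂Hom, eval₂_X]
    · intro t m hm1 hm2
      refine CommRingCat.hom_ext (RingHom.ext fun b => ?_)
      obtain ⟨p, rfl⟩ := hf b
      simp only [CommRingCat.hom_ofHom]
      change m.hom (f.toRingHom p) = RingHom.liftOfSurjective f.toRingHom hf _ (f.toRingHom p)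
      rw [RingHom.liftOfSurjective_comp_apply]
      induction p using MvPolynomial.induction_on with
      | C r =>
        simp only [coe_eval₂Hom, eval₂_C]
        have : f.toRingHom (C r) = φ r := f.commutes r
        rw [this]
        exact RingHom.congr_fun (congrArg CommRingCat.Hom.hom hm1) r
      | add p q hp hq => simp only [map_add, hp, hq]
      | mul_X p k hp =>
        simp only [map_mul, hp, coe_eval₂Hom, eval₂_X]
        congr 1
        have h2 := RingHom.congr_fun (congrArg CommRingCat.Hom.hom hm2) (Ideal.Quotient.mk I (X k))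
        simp only [CommRingCat.hom_comp, CommRingCat.hom_ofHom, RingHom.comp_apply] at h2
        rw [← h2]
        congr 1
        change f (X k) = f (MvPolynomial.map (S.a j) (X k))
        rw [MvPolynomial.map_X]

end Groth.Agent.Lib.Helper1.ObjDesc
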