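import Groth.Agent.Lib.Helper1.ObjDescModel
import Groth.Agent.Lib.Helper1.ObjDescGlue

/-!
# Descending opens, morphisms and open immersions of models (helper1)
-/

set_option autoImplicit false
set_option linter.unusedSectionVars false
set_option linter.style.haveILetI false
universe u

namespace Groth.Agent.Lib.Helper1.ObjDesc

open AlgebraicGeometry CategoryTheory CategoryTheory.Limits Groth.Agent.Lib.Helper5
  Groth.Agent.Lib.Helper13 Groth.Agent.Lib.Helper13.LimitDescent

variable {I : Type u} [SmallCategory I] [IsCofiltered I] {D : I ⥤ Scheme.{u}} {c : Cone D}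
  (hc : IsLimit c) [∀ {i j} (f : i ⟶ j), IsAffineHom (D.map f)]
  [∀ i, CompactSpace (D.obj i)] [∀ i, QuasiSeparatedSpace (D.obj i)]
  {Z Z' : Scheme.{u}} {z : Z ⟶ c.pt} {z' : Z' ⟶ c.pt} {i : I}

namespace Model

include hc in
set_option backward.isDefEq.respectTransparency false in
theorem exists_open (M : Model D c z i) (R : Z.Opens) (hR : IsCompact (R : Set Z)) :
    ∃ (k : Over i) (W' : (M.reindex k).V.Opens), IsCompact (W' : Set (M.reindex k).V) ∧
      (M.reindex k).g ⁻¹ᵁ W' = R := by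
  let e := isoY M.sq
  have hR' : IsCompact ((e.inv ⁻¹ᵁ R : (bcCone D c i M.v).pt.Opens) : Set (bcCone D c i M.v).pt) := by
    have : ((e.inv ⁻¹ᵁ R : (bcCone D c i M.v).pt.Opens) : Set (bcCone D c i M.v).pt) =
        e.hom '' (R : Set Z) := by
      ext x
      constructor
      · intro hx
        refine ⟨e.inv x, hx, ?_⟩
        rw [← Scheme.Hom.comp_apply, Iso.inv_hom_id]; rfl
      · rintro ⟨y, hy, rfl⟩
        show e.inv (e.hom y) ∈ R
        rw [← Scheme.Hom.comp_apply, Iso.hom_inv_id]; exact hy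
    rw [this]
    exact hR.image e.hom.continuous
  obtain ⟨k, V', hV', hk⟩ := exists_preimage_eq (bcDiagram D i M.v) (bcCone D c i M.v)
    (isLimitBcCone D c hc i M.v) (e.inv ⁻¹ᵁ R) hR'
  refine ⟨k, V', hV', ?_⟩
  change (e.hom ≫ (bcCone D c i M.v).π.app k) ⁻¹ᵁ V' = R
  rw [Scheme.Hom.comp_preimage, hk, ← Scheme.Hom.comp_preimage, Iso.hom_inv_id]
  rfl

/-- restriction of a model to an open -/
noncomputable def restrict (M : Model D c z i) {W : Scheme.{u}} (r : W ⟶ Z) [IsOpenImmersion r]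
    (W' : M.V.Opens) (hW : M.g ⁻¹ᵁ W' = r.opensRange) : Model D c (r ≫ z) i where
  V := W'
  v := W'.ι ≫ M.v
  g := IsOpenImmersion.lift W'.ι (r ≫ M.g) (by
    rintro _ ⟨x, rfl⟩
    rw [Scheme.Opens.range_ι]
    have : r x ∈ M.g ⁻¹ᵁ W' := by rw [hW]; exact ⟨x, rfl⟩
    exact this)
  sq := by
    have hi : IsOpenImmersion (Scheme.Opens.ι (X := M.V) W') := inferInstance
    have hr : Set.range (r ≫ M.g) ⊆ Set.range (Scheme.Opens.ι (X := M.V) W') := by
      rintro _ ⟨x, rfl⟩
      rw [Scheme.Opens.range_ι]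
      have : r x ∈ M.g ⁻¹ᵁ W' := by rw [hW]; exact ⟨x, rfl⟩
      exact this
    have h1 : IsPullback (IsOpenImmersion.lift (Scheme.Opens.ι (X := M.V) W') (r ≫ M.g) hr) r
        (Scheme.Opens.ι (X := M.V) W') M.g :=
      IsOpenImmersion.isPullback _ r (Scheme.Opens.ι (X := M.V) W') M.g
        (IsOpenImmersion.lift_fac _ _ hr).symm
        (by rw [Scheme.Opens.opensRange_ι]; exact hW)
    exact h1.paste_vert M.sq

lemma restrict_rep (M : Model D c z i) {W : Scheme.{u}} (r : W ⟶ Z) [IsOpenImmersion r]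
    (W' : M.V.Opens) (hW : M.g ⁻¹ᵁ W' = r.opensRange) :
    Rep (M.restrict r W' hW) M r W'.ι where
  over := rfl
  comm := by
    have hi : IsOpenImmersion (Scheme.Opens.ι (X := M.V) W') := inferInstance
    exact IsOpenImmersion.lift_fac (Scheme.Opens.ι (X := M.V) W') (r ≫ M.g) _

lemma restrict_isFP {M : Model D c z i} (hM : M.IsFP) {W : Scheme.{u}} (r : W ⟶ Z)
    [IsOpenImmersion r] (W' : M.V.Opens) (hW : M.g ⁻¹ᵁ W' = r.opensRange)
    (hW' : IsCompact (W' : Set M.V)) : (M.restrict r W' hW).IsFP := by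
  obtain ⟨h1, h2, h3⟩ := hM
  have : QuasiSeparatedSpace M.V := quasiSeparatedSpace_of_quasiSeparated M.v
  have : CompactSpace (W' : Scheme.{u}) := isCompact_iff_compactSpace.mp hW'
  refine ⟨?_, ?_, ?_⟩
  · exact inferInstanceAs (LocallyOfFinitePresentation (W'.ι ≫ M.v))
  · exact inferInstanceAs (QuasiCompact (W'.ι ≫ M.v))
  · exact inferInstanceAs (QuasiSeparated (W'.ι ≫ M.v))

include hc in
set_option backward.isDefEq.respectTransparency false in
theorem exists_hom (M : Model D c z i) (M' : Model D c z' i) (hM : QuasiCompact M.v)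
    (hM2 : QuasiSeparated M.v) (hM' : LocallyOfFinitePresentation M'.v) (h : Z ⟶ Z')
    (hz : h ≫ z' = z) :
    ∃ (k : Over i) (ψ : (M.reindex k).V ⟶ (M'.reindex k).V),
      Rep (M.reindex k) (M'.reindex k) h ψ := by
  let DY := bcDiagram D i M.v
  let cY := bcCone D c i M.v
  let hcY : IsLimit cY := isLimitBcCone D c hc i M.v
  have : ∀ j, CompactSpace (DY.obj j) := fun j => compactSpace_Yj D i M.v j
  have : ∀ j, QuasiSeparatedSpace (DY.obj j) := fun j => quasiSeparatedSpace_Yj D i M.v j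
  have hcYπ : ∀ j, cY.π.app j = (isoY M.sq).inv ≫ πY M.sq j := fun j => by
    rw [πY, Iso.inv_hom_id_assoc]
  let a : cY.pt ⟶ M'.V := (isoY M.sq).inv ≫ h ≫ M'.g
  have ha : cY.π ≫ tY D i M.v = (Functor.const _).map (a ≫ M'.v) := by
    ext j
    rw [NatTrans.comp_app, tY_app, hcYπ, Category.assoc, πY_pYj_assoc]
    simp only [Functor.const_obj_obj, Functor.const_map_app, a, Category.assoc]
    rw [M.sq.w, M'.sq.w, reassoc_of% hz]
  obtain ⟨k, ak, hak, hak'⟩ := Scheme.exists_π_app_comp_eq_of_locallyOfFinitePresentation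
    DY (tY D i M.v) M'.v cY hcY a ha
  rw [tY_app] at hak'
  have hak2 : πY M.sq k ≫ ak = h ≫ M'.g := by
    have := hak
    rw [hcYπ, Category.assoc, Iso.inv_comp_eq] at this
    rw [this, Iso.hom_inv_id_assoc]
  refine ⟨k, pullback.lift (gj D i M.v k) ak (by rw [hak']; exact pullback.condition), ⟨?_, ?_⟩⟩
  · exact pullback.lift_fst _ _ _
  · apply pullback.hom_ext
    · have h2 : πY M.sq k ≫ gj D i M.v k = z ≫ c.π.app k.left := πY_gj M.sq k
      have h3 : πY M'.sq k ≫ gj D i M'.v k = z' ≫ c.π.app k.left := πY_gj M'.sq k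
      rw [Category.assoc, Category.assoc, pullback.lift_fst, h2, h3, reassoc_of% hz]
    · have h3 : πY M'.sq k ≫ pYj D i M'.v k = M'.g := πY_pYj M'.sq k
      rw [Category.assoc, Category.assoc, pullback.lift_snd, hak2, h3]

include hc in
theorem exists_isOpenImmersion (M : Model D c z i) (M' : Model D c z' i) (hM : M.IsFP)
    (hM' : M'.IsFP) (h : Z ⟶ Z') [IsOpenImmersion h] (hz : h ≫ z' = z) (ψ : M.V ⟶ M'.V)
    (r : Rep M M' h ψ) : ∃ k : Over i, IsOpenImmersion (homReindex M M' ψ r.over k) := by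
  obtain ⟨V, v, g, sq⟩ := M
  obtain ⟨hov, hcomm⟩ := r
  dsimp only at hov hcomm ψ
  subst hov
  obtain ⟨h1, h2, h3⟩ := hM
  obtain ⟨h1', h2', h3'⟩ := hM'
  dsimp only at h1 h2 h3
  have : LocallyOfFinitePresentation ψ := locallyOfFinitePresentation_of_comp ψ M'.v
  have hX : IsPullback g h ψ M'.g := by
    refine IsPullback.of_bot ?_ hcomm M'.sq
    rw [hz]; exact sq
  obtain ⟨k, hk⟩ := stage_of_conclusion D i ψ M'.v @IsOpenImmersion
    (exists_isOpenImmersion_descend hc M'.sq hX)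
  exact ⟨k, hk⟩

end Model

end Groth.Agent.Lib.Helper1.ObjDesc
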