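import Mathlib

/-!
# Pinching and cohomological flatness (helper1), part 1: the Newton / Artin–Rees key lemma
-/

set_option autoImplicit false
set_option linter.unusedSectionVars false
set_option linter.unusedVariables false
set_option linter.style.haveILetI false
universe u

noncomputable section

namespace Groth.Agent.Lib.Helper1.PC

open Polynomial TensorProduct

/-- every element of an étale algebra over a field is killed by a separable polynomial -/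
lemma exists_separable_aeval_eq_zero {K E : Type u} [Field K] [CommRing E] [Algebra K E]
    [Algebra.Etale K E] (x : E) : ∃ h : K[X], h.Separable ∧ aeval x h = 0 := by
  classical
  obtain ⟨I, hI, Ai, hfield, halg, e, hsep⟩ :=
    (Algebra.Etale.iff_exists_algEquiv_prod K E).mp inferInstance
  haveI : Fintype I := Fintype.ofFinite I
  have hint : ∀ i, IsIntegral K (e x i) := fun i => by
    haveI := (hsep i).1
    exact Algebra.IsIntegral.isIntegral _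
  have hirr : ∀ i, Irreducible (minpoly K (e x i)) := fun i => minpoly.irreducible (hint i)
  have hmon : ∀ i, (minpoly K (e x i)).Monic := fun i => minpoly.monic (hint i)
  have hsp : ∀ i, (minpoly K (e x i)).Separable := fun i => by
    haveI := (hsep i).2
    exact Algebra.IsSeparable.isSeparable K (e x i)
  let S : Finset K[X] := Finset.univ.image fun i => minpoly K (e x i)
  refine ⟨∏ q ∈ S, q, ?_, ?_⟩
  · have := Polynomial.separable_prod' (f := fun q : K[X] => q) (s := S) ?_ ?_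
    · exact this
    · intro p hp q hq hpq
      obtain ⟨i, -, rfl⟩ := Finset.mem_image.mp hp
      obtain ⟨j, -, rfl⟩ := Finset.mem_image.mp hq
      rw [(hirr i).coprime_iff_not_dvd]
      intro hdvd
      exact hpq (Polynomial.eq_of_monic_of_associated (hmon i) (hmon j)
        ((hirr i).associated_of_dvd (hirr j) hdvd))
    · intro p hp
      obtain ⟨i, -, rfl⟩ := Finset.mem_image.mp hp
      exact hsp i
  · apply e.injective
    rw [map_zero]
    funext i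
    have h1 : e (aeval x (∏ q ∈ S, q)) = aeval (e x) (∏ q ∈ S, q) :=
      (Polynomial.aeval_algHom_apply e x _).symm
    have h2 : (aeval (e x) (∏ q ∈ S, q)) i = aeval (e x i) (∏ q ∈ S, q) :=
      (Polynomial.aeval_algHom_apply (Pi.evalAlgHom K Ai i) (e x) _).symm
    rw [h1, h2]
    show aeval (e x i) (∏ q ∈ S, q) = 0
    refine Polynomial.aeval_eq_zero_of_dvd_aeval_eq_zero ?_ (minpoly.aeval K (e x i))
    exact Finset.dvd_prod_of_mem (fun q : K[X] => q)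
      (Finset.mem_image.mpr ⟨i, Finset.mem_univ _, rfl⟩)

lemma aeval_mem_map_of_map_eq_zero {R M : Type*} [CommRing R] [CommRing M] [Algebra R M]
    (𝔭 : Ideal R) (q : R[X]) (hq : q.map (Ideal.Quotient.mk 𝔭) = 0) (x : M) :
    aeval x q ∈ 𝔭.map (algebraMap R M) := by
  rw [Polynomial.aeval_eq_sum_range]
  refine Ideal.sum_mem _ fun i _ => ?_
  have hc : q.coeff i ∈ 𝔭 := by
    have := congrArg (fun r => r.coeff i) hq
    simpa [Polynomial.coeff_map, Ideal.Quotient.eq_zero_iff_mem] using this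
  rw [Algebra.smul_def]
  exact Ideal.mul_mem_right _ _ (Ideal.mem_map_of_mem _ hc)

lemma linearMap_mem_smul_top {R M M' : Type*} [CommRing R] [CommRing M] [Algebra R M]
    [AddCommGroup M'] [Module R M'] (l : M →ₗ[R] M') (I : Ideal R) {y : M}
    (hy : y ∈ I.map (algebraMap R M)) : l y ∈ (I • ⊤ : Submodule R M') := by
  have hy' : y ∈ (I • ⊤ : Submodule R M) := by
    rw [Ideal.smul_top_eq_map]; exact hy
  refine Submodule.smul_induction_on hy' (fun r hr m _ => ?_) (fun x y hx hy => ?_)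
  · rw [map_smul]; exact Submodule.smul_mem_smul hr Submodule.mem_top
  · rw [map_add]; exact add_mem hx hy

lemma linearMap_mem_map {R M M' : Type*} [CommRing R] [CommRing M] [Algebra R M]
    [CommRing M'] [Algebra R M'] (l : M →ₗ[R] M') (I : Ideal R) {y : M}
    (hy : y ∈ I.map (algebraMap R M)) : l y ∈ I.map (algebraMap R M') := by
  have := linearMap_mem_smul_top l I hy
  rw [Ideal.smul_top_eq_map] at this
  exact this

lemma mem_map_of_one_tmul_eq_zero {R A : Type*} [CommRing R] [CommRing A] [Algebra R A]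
    (𝔭 : Ideal R) (y : A) (hy : (1 : R ⧸ 𝔭) ⊗ₜ[R] y = 0) : y ∈ 𝔭.map (algebraMap R A) := by
  have h1 := congrArg (TensorProduct.quotTensorEquivQuotSMul A 𝔭) hy
  rw [← map_one (Ideal.Quotient.mk 𝔭), TensorProduct.quotTensorEquivQuotSMul_mk_tmul, map_zero,
    one_smul, Submodule.Quotient.mk_eq_zero, Ideal.smul_top_eq_map] at h1
  exact h1

/-- the ideal `𝔭ⁿ M` -/
abbrev PJ {R : Type*} [CommRing R] (𝔭 : Ideal R) (n : ℕ) (M : Type*) [CommRing M] [Algebra R M] :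
    Ideal M := (𝔭 ^ n).map (algebraMap R M)

lemma map_pow_quot_eq_bot {R M : Type*} [CommRing R] [CommRing M] [Algebra R M] (𝔭 : Ideal R)
    (n : ℕ) : (𝔭.map (algebraMap R (M ⧸ PJ 𝔭 n M))) ^ n = ⊥ := by
  have h : algebraMap R (M ⧸ PJ 𝔭 n M) =
      (Ideal.Quotient.mk (PJ 𝔭 n M)).comp (algebraMap R M) := rfl
  rw [← Ideal.map_pow, h, ← Ideal.map_map, Ideal.map_quotient_self]

lemma nilpotent_transport {R M M' : Type*} [CommRing R] [CommRing M] [CommRing M'] [Algebra R M]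
    [Algebra R M'] (𝔭 : Ideal R) (n : ℕ) (f : M →ₐ[R] M') (z : M)
    (hz : IsNilpotent (Ideal.Quotient.mk (PJ 𝔭 n M) z)) :
    IsNilpotent (Ideal.Quotient.mk (PJ 𝔭 n M') (f z)) := by
  obtain ⟨m, hm⟩ := hz
  have h1 : z ^ m ∈ PJ 𝔭 n M := by
    rw [← Ideal.Quotient.eq_zero_iff_mem, map_pow]; exact hm
  refine ⟨m, ?_⟩
  have h2 : (Ideal.Quotient.mk (PJ 𝔭 n M') (f z)) ^ m =
      Ideal.Quotient.mk (PJ 𝔭 n M') (f (z ^ m)) := by simp only [map_pow]
  rw [h2, Ideal.Quotient.eq_zero_iff_mem]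
  exact linearMap_mem_map f.toLinearMap (𝔭 ^ n) h1

section Newton

variable {R M : Type u} [CommRing R] [CommRing M] [Algebra R M] (𝔭 : Ideal R) (n : ℕ)
  (h a' c' : R[X]) (hac : (a' * h + c' * derivative h - 1).map (Ideal.Quotient.mk 𝔭) = 0)

include hac

lemma newton_hyp (x : M) (hx : aeval x h ∈ 𝔭.map (algebraMap R M)) :
    IsNilpotent (aeval (Ideal.Quotient.mk (PJ 𝔭 n M) x) h) ∧
    IsUnit (aeval (Ideal.Quotient.mk (PJ 𝔭 n M) x) (derivative h)) := by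
  have hnil : ∀ y ∈ 𝔭.map (algebraMap R (M ⧸ PJ 𝔭 n M)), IsNilpotent y := fun y hy =>
    ⟨n, by have := Ideal.pow_mem_pow hy n; rwa [map_pow_quot_eq_bot, Ideal.mem_bot] at this⟩
  have hx' : aeval (Ideal.Quotient.mk (PJ 𝔭 n M) x) h ∈
      𝔭.map (algebraMap R (M ⧸ PJ 𝔭 n M)) := by
    have h1 : aeval (Ideal.Quotient.mk (PJ 𝔭 n M) x) h =
        Ideal.Quotient.mkₐ R (PJ 𝔭 n M) (aeval x h) :=
      Polynomial.aeval_algHom_apply (Ideal.Quotient.mkₐ R (PJ 𝔭 n M)) x h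
    rw [h1]
    exact linearMap_mem_map (Ideal.Quotient.mkₐ R (PJ 𝔭 n M)).toLinearMap 𝔭 hx
  have hkey := aeval_mem_map_of_map_eq_zero 𝔭 _ hac (Ideal.Quotient.mk (PJ 𝔭 n M) x)
  simp only [map_sub, map_add, map_mul, map_one] at hkey
  have h2 : aeval (Ideal.Quotient.mk (PJ 𝔭 n M) x) c' *
      aeval (Ideal.Quotient.mk (PJ 𝔭 n M) x) (derivative h) - 1 ∈
      𝔭.map (algebraMap R (M ⧸ PJ 𝔭 n M)) := by
    have h3 : aeval (Ideal.Quotient.mk (PJ 𝔭 n M) x) a' *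
        aeval (Ideal.Quotient.mk (PJ 𝔭 n M) x) h ∈ 𝔭.map (algebraMap R (M ⧸ PJ 𝔭 n M)) :=
      Ideal.mul_mem_left _ _ hx'
    have := Ideal.sub_mem _ hkey h3
    convert this using 1
    ring
  refine ⟨hnil _ hx', ?_⟩
  have h4 : IsUnit (aeval (Ideal.Quotient.mk (PJ 𝔭 n M) x) c' *
      aeval (Ideal.Quotient.mk (PJ 𝔭 n M) x) (derivative h)) := by
    have := (hnil _ h2).isUnit_add_one
    simpa using this
  exact isUnit_of_mul_isUnit_right h4

lemma newton_existsUnique (x : M) (hx : aeval x h ∈ 𝔭.map (algebraMap R M)) :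
    ∃! r : M ⧸ PJ 𝔭 n M, IsNilpotent (Ideal.Quotient.mk (PJ 𝔭 n M) x - r) ∧ aeval r h = 0 := by
  obtain ⟨h1, h2⟩ := newton_hyp 𝔭 n h a' c' hac x hx
  exact Polynomial.existsUnique_nilpotent_sub_and_aeval_eq_zero h1 h2

lemma aeval_mk_eq_zero (y : M) (hy : aeval y h ∈ PJ 𝔭 n M) :
    aeval (Ideal.Quotient.mk (PJ 𝔭 n M) y) h = 0 := by
  have : aeval (Ideal.Quotient.mk (PJ 𝔭 n M) y) h =
      Ideal.Quotient.mkₐ R (PJ 𝔭 n M) (aeval y h) :=
    Polynomial.aeval_algHom_apply (Ideal.Quotient.mkₐ R (PJ 𝔭 n M)) y h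
  rw [this]
  show Ideal.Quotient.mk (PJ 𝔭 n M) (aeval y h) = 0
  exact Ideal.Quotient.eq_zero_iff_mem.mpr hy

lemma newton_exists (x : M) (hx : aeval x h ∈ 𝔭.map (algebraMap R M)) :
    ∃ y : M, aeval y h ∈ PJ 𝔭 n M ∧ IsNilpotent (Ideal.Quotient.mk (PJ 𝔭 n M) (x - y)) := by
  obtain ⟨r, ⟨hr1, hr2⟩, -⟩ := newton_existsUnique 𝔭 n h a' c' hac x hx
  obtain ⟨y, rfl⟩ := Ideal.Quotient.mk_surjective r
  refine ⟨y, ?_, by rwa [map_sub]⟩
  have : aeval (Ideal.Quotient.mk (PJ 𝔭 n M) y) h =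
      Ideal.Quotient.mkₐ R (PJ 𝔭 n M) (aeval y h) :=
    Polynomial.aeval_algHom_apply (Ideal.Quotient.mkₐ R (PJ 𝔭 n M)) y h
  rw [this] at hr2
  exact Ideal.Quotient.eq_zero_iff_mem.mp hr2

lemma newton_unique (x : M) (hx : aeval x h ∈ 𝔭.map (algebraMap R M)) (y₁ y₂ : M)
    (h₁ : aeval y₁ h ∈ PJ 𝔭 n M) (n₁ : IsNilpotent (Ideal.Quotient.mk (PJ 𝔭 n M) (x - y₁)))
    (h₂ : aeval y₂ h ∈ PJ 𝔭 n M) (n₂ : IsNilpotent (Ideal.Quotient.mk (PJ 𝔭 n M) (x - y₂))) :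
    y₁ - y₂ ∈ PJ 𝔭 n M := by
  have hu := newton_existsUnique 𝔭 n h a' c' hac x hx
  have := hu.unique ⟨by rw [← map_sub]; exact n₁, aeval_mk_eq_zero 𝔭 n h a' c' hac y₁ h₁⟩
    ⟨by rw [← map_sub]; exact n₂, aeval_mk_eq_zero 𝔭 n h a' c' hac y₂ h₂⟩
  rwa [← sub_eq_zero, ← map_sub, Ideal.Quotient.eq_zero_iff_mem] at this

end Newton

section Key

variable {R A B C : Type u} [CommRing R] [CommRing A] [CommRing B] [CommRing C]
  [Algebra R A] [Algebra R B] [Algebra R C] (φ : A →ₐ[R] C) (ψ : B →ₐ[R] C)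

/-- the cokernel of `ψ` as a module -/
abbrev Nq := C ⧸ LinearMap.range ψ.toLinearMap

/-- the quotient map -/
def mkN : C →ₗ[R] Nq ψ := (LinearMap.range ψ.toLinearMap).mkQ

/-- the map from `A` to the cokernel of `ψ` -/
def Ψ : A →ₗ[R] Nq ψ := mkN ψ ∘ₗ φ.toLinearMap

lemma mkN_eq_zero_iff (c : C) : mkN ψ c = 0 ↔ c ∈ LinearMap.range ψ.toLinearMap :=
  Submodule.Quotient.mk_eq_zero _

lemma mkN_ψ (b : B) : mkN ψ (ψ b) = 0 := (mkN_eq_zero_iff ψ _).mpr ⟨b, rfl⟩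

lemma Ψ_apply (a : A) : Ψ φ ψ a = mkN ψ (φ a) := rfl

lemma mkN_surjective : Function.Surjective (mkN ψ) := Submodule.mkQ_surjective _

variable [IsNoetherianRing R] [Module.Finite R C] [Algebra.Etale R A]
  (ϖ : C →ₗ[R] B) (hϖ : ∀ b, ϖ (ψ b) = b)
  (hex : ∀ a b, φ a = ψ b → ∃ r : R, algebraMap R A r = a)

include hϖ hex

/-- **Key lemma**: fibrewise, the fibre product stays trivial. -/
theorem key (𝔭 : Ideal R) [h𝔭 : 𝔭.IsMaximal] (a : A) (b₀ : B)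
    (hab : φ a - ψ b₀ ∈ 𝔭.map (algebraMap R C)) :
    ∃ r : R, a - algebraMap R A r ∈ 𝔭.map (algebraMap R A) := by
  classical
  letI : Field (R ⧸ 𝔭) := Ideal.Quotient.field 𝔭
  -- Step 1: a separable polynomial
  obtain ⟨hbar, hsep, hroot⟩ :=
    exists_separable_aeval_eq_zero (K := R ⧸ 𝔭) (E := (R ⧸ 𝔭) ⊗[R] A) ((1 : R ⧸ 𝔭) ⊗ₜ[R] a)
  obtain ⟨abar, cbar, hbez⟩ := hsep
  obtain ⟨h, rfl⟩ :=
    Polynomial.map_surjective (Ideal.Quotient.mk 𝔭) Ideal.Quotient.mk_surjective hbar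
  obtain ⟨a', rfl⟩ :=
    Polynomial.map_surjective (Ideal.Quotient.mk 𝔭) Ideal.Quotient.mk_surjective abar
  obtain ⟨c', rfl⟩ :=
    Polynomial.map_surjective (Ideal.Quotient.mk 𝔭) Ideal.Quotient.mk_surjective cbar
  have hac : (a' * h + c' * derivative h - 1).map (Ideal.Quotient.mk 𝔭) = 0 := by
    rw [Polynomial.map_sub, Polynomial.map_add, Polynomial.map_mul, Polynomial.map_mul,
      Polynomial.map_one, ← Polynomial.derivative_map, hbez, sub_self]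
  have hAh : aeval a h ∈ 𝔭.map (algebraMap R A) := by
    apply mem_map_of_one_tmul_eq_zero
    have h1 : aeval ((1 : R ⧸ 𝔭) ⊗ₜ[R] a) h = (1 : R ⧸ 𝔭) ⊗ₜ[R] (aeval a h) :=
      Polynomial.aeval_algHom_apply
        (Algebra.TensorProduct.includeRight : A →ₐ[R] (R ⧸ 𝔭) ⊗[R] A) a h
    rw [← h1]
    have h2 := Polynomial.aeval_map_algebraMap (R ⧸ 𝔭) ((1 : R ⧸ 𝔭) ⊗ₜ[R] a) h
    rw [← h2]
    exact hroot
  -- Step 2: Artin–Rees
  obtain ⟨c, hc⟩ := Ideal.exists_pow_inf_eq_pow_smul 𝔭 (LinearMap.range (Ψ φ ψ))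
  have hBh : aeval b₀ h ∈ 𝔭.map (algebraMap R B) := by
    have h1 : ψ (aeval b₀ h) ∈ 𝔭.map (algebraMap R C) := by
      rw [← Ideal.Quotient.eq_zero_iff_mem]
      have e1 : Ideal.Quotient.mk (𝔭.map (algebraMap R C)) (ψ b₀) =
          Ideal.Quotient.mk (𝔭.map (algebraMap R C)) (φ a) := by
        rw [eq_comm, Ideal.Quotient.eq]; exact hab
      have e2 : ∀ z : C, Ideal.Quotient.mk (𝔭.map (algebraMap R C)) (aeval z h) =
          aeval (Ideal.Quotient.mk (𝔭.map (algebraMap R C)) z) h := fun z =>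
        (Polynomial.aeval_algHom_apply (Ideal.Quotient.mkₐ R (𝔭.map (algebraMap R C))) z h).symm
      have e3 : ψ (aeval b₀ h) = aeval (ψ b₀) h := (Polynomial.aeval_algHom_apply ψ b₀ h).symm
      have e4 : φ (aeval a h) = aeval (φ a) h := (Polynomial.aeval_algHom_apply φ a h).symm
      rw [e3, e2, e1, ← e2, ← e4, Ideal.Quotient.eq_zero_iff_mem]
      exact linearMap_mem_map φ.toLinearMap 𝔭 hAh
    have h2 := linearMap_mem_map ϖ 𝔭 h1
    rwa [hϖ] at h2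
  -- Step 3: Newton
  obtain ⟨aₙ, haₙ, hnₐ⟩ := newton_exists 𝔭 (c + 1) h a' c' hac a hAh
  obtain ⟨bₙ, hbₙ, hn_b⟩ := newton_exists 𝔭 (c + 1) h a' c' hac b₀ hBh
  have hφa : aeval (φ a) h ∈ 𝔭.map (algebraMap R C) := by
    rw [Polynomial.aeval_algHom_apply φ a h]; exact linearMap_mem_map φ.toLinearMap 𝔭 hAh
  have hC : φ aₙ - ψ bₙ ∈ PJ 𝔭 (c + 1) C := by
    refine newton_unique 𝔭 (c + 1) h a' c' hac (φ a) hφa (φ aₙ) (ψ bₙ) ?_ ?_ ?_ ?_
    · rw [Polynomial.aeval_algHom_apply φ aₙ h]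
      exact linearMap_mem_map φ.toLinearMap _ haₙ
    · rw [← map_sub]; exact nilpotent_transport 𝔭 (c + 1) φ _ hnₐ
    · rw [Polynomial.aeval_algHom_apply ψ bₙ h]
      exact linearMap_mem_map ψ.toLinearMap _ hbₙ
    · have e : φ a - ψ bₙ = (φ a - ψ b₀) + ψ (b₀ - bₙ) := by rw [map_sub]; ring
      rw [e, map_add]
      refine Commute.isNilpotent_add (Commute.all _ _) ?_
        (nilpotent_transport 𝔭 (c + 1) ψ _ hn_b)
      refine ⟨c + 1, ?_⟩
      rw [← map_pow, Ideal.Quotient.eq_zero_iff_mem]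
      have := Ideal.pow_mem_pow hab (c + 1)
      rwa [← Ideal.map_pow] at this
  have hA1 : a - aₙ ∈ 𝔭.map (algebraMap R A) := by
    have hle : PJ 𝔭 (c + 1) A ≤ PJ 𝔭 1 A :=
      Ideal.map_mono (Ideal.pow_le_pow_right (Nat.succ_le_succ (Nat.zero_le c)))
    have h1 : PJ 𝔭 1 A = 𝔭.map (algebraMap R A) := by simp [PJ]
    rw [← h1]
    refine newton_unique 𝔭 1 h a' c' hac a hAh a aₙ ?_ ?_ ?_ ?_
    · rw [h1]; exact hAh
    · rw [sub_self, map_zero]; exact IsNilpotent.zero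
    · exact hle haₙ
    · obtain ⟨m, hm⟩ := hnₐ
      refine ⟨m, ?_⟩
      rw [← map_pow, Ideal.Quotient.eq_zero_iff_mem] at hm ⊢
      exact hle hm
  -- Step 4
  have hΨ : Ψ φ ψ aₙ ∈ (𝔭 ^ (c + 1) • ⊤ ⊓ LinearMap.range (Ψ φ ψ) : Submodule R (Nq ψ)) := by
    refine ⟨?_, LinearMap.mem_range_self (Ψ φ ψ) aₙ⟩
    have e : Ψ φ ψ aₙ = mkN ψ (φ aₙ - ψ bₙ) := by
      rw [map_sub, mkN_ψ, sub_zero]; rfl
    rw [e]
    exact linearMap_mem_smul_top (mkN ψ) (𝔭 ^ (c + 1)) hC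
  rw [hc (c + 1) (Nat.le_succ c), Nat.add_sub_cancel_left, pow_one] at hΨ
  have hΨ' : Ψ φ ψ aₙ ∈ (𝔭 • LinearMap.range (Ψ φ ψ) : Submodule R (Nq ψ)) :=
    Submodule.smul_mono le_rfl inf_le_right hΨ
  have hrange : (𝔭 • LinearMap.range (Ψ φ ψ) : Submodule R (Nq ψ)) =
      Submodule.map (Ψ φ ψ) (𝔭 • ⊤) := by
    rw [Submodule.map_smul'', Submodule.map_top]
  rw [hrange] at hΨ'
  obtain ⟨a'', ha'', hΨa''⟩ := hΨ'
  have hzero : mkN ψ (φ (aₙ - a'')) = 0 := by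
    have : Ψ φ ψ (aₙ - a'') = 0 := by rw [map_sub, hΨa'', sub_self]
    exact this
  obtain ⟨b, hb⟩ := (mkN_eq_zero_iff ψ _).mp hzero
  obtain ⟨r, hr⟩ := hex (aₙ - a'') b hb.symm
  refine ⟨r, ?_⟩
  have ha''' : a'' ∈ 𝔭.map (algebraMap R A) := by
    rw [Ideal.smul_top_eq_map] at ha''; exact ha''
  have e : a - algebraMap R A r = (a - aₙ) + a'' := by rw [hr]; ring
  rw [e]
  exact Ideal.add_mem _ hA1 ha'''

/-- the key lemma in submodule form -/
theorem key' (𝔭 : Ideal R) [h𝔭 : 𝔭.IsMaximal] :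
    (𝔭 • ⊤ ⊓ LinearMap.range (Ψ φ ψ) : Submodule R (Nq ψ)) ≤ 𝔭 • LinearMap.range (Ψ φ ψ) := by
  rintro _ ⟨hx, a, rfl⟩
  have htop : (𝔭 • ⊤ : Submodule R (Nq ψ)) = Submodule.map (mkN ψ) (𝔭 • ⊤) := by
    rw [Submodule.map_smul'', Submodule.map_top, LinearMap.range_eq_top.mpr (mkN_surjective ψ)]
  rw [SetLike.mem_coe, htop] at hx
  obtain ⟨c₀, hc₀, hc₀'⟩ := hx
  have h0 : mkN ψ (φ a - c₀) = 0 := by rw [map_sub, hc₀', Ψ_apply, sub_self]
  obtain ⟨b₀, hb₀⟩ := (mkN_eq_zero_iff ψ _).mp h0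
  have hab : φ a - ψ b₀ ∈ 𝔭.map (algebraMap R C) := by
    have e : φ a - ψ b₀ = c₀ := by
      have : ψ b₀ = φ a - c₀ := hb₀
      rw [this]; ring
    rw [e]
    rw [Ideal.smul_top_eq_map] at hc₀; exact hc₀
  obtain ⟨r, hr⟩ := key φ ψ ϖ hϖ hex 𝔭 a b₀ hab
  have hΨr : Ψ φ ψ (algebraMap R A r) = 0 := by
    rw [Ψ_apply, AlgHom.commutes, ← AlgHom.commutes ψ]; exact mkN_ψ ψ _
  have e : Ψ φ ψ a = Ψ φ ψ (a - algebraMap R A r) := by rw [map_sub, hΨr, sub_zero]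
  have hrange : (𝔭 • LinearMap.range (Ψ φ ψ) : Submodule R (Nq ψ)) =
      Submodule.map (Ψ φ ψ) (𝔭 • ⊤) := by
    rw [Submodule.map_smul'', Submodule.map_top]
  rw [e, hrange]
  refine Submodule.mem_map_of_mem ?_
  rw [Ideal.smul_top_eq_map]; exact hr

end Key

end Groth.Agent.Lib.Helper1.PC
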