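import Groth.Agent.Lib.Helper1.PC1
import Groth.Agent.Lib.Helper1.FPB8

/-!
# Pinching and cohomological flatness (helper1), part 2: torsion-freeness, certificates,
base change of the fibre square
-/

set_option autoImplicit false
set_option linter.unusedSectionVars false
set_option linter.unusedVariables false
set_option linter.style.haveILetI false
universe u

noncomputable section

namespace Groth.Agent.Lib.Helper1.PC

open Polynomial TensorProduct CategoryTheory CategoryTheory.Limits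

section Dedekind

variable {R N : Type*} [CommRing R] [IsDedekindDomain R] [AddCommGroup N] [Module R N]

lemma mem_of_forall_smul_mem
    (hN : ∀ (r : R) (n : N), r ≠ 0 → r • n = 0 → n = 0)
    (I : Submodule R N) (𝔭 : Ideal R) (h0 : 𝔭 ≠ ⊥)
    (hK : (𝔭 • ⊤ ⊓ I : Submodule R N) ≤ 𝔭 • I)
    (y : N) (hy : ∀ p ∈ 𝔭, p • y ∈ I) : y ∈ I := by
  obtain ⟨x, hx𝔭, hx0⟩ : ∃ x ∈ 𝔭, x ≠ 0 := Submodule.exists_mem_ne_zero_of_ne_bot h0
  have hdvd : 𝔭 ∣ Ideal.span {x} :=
    Ideal.dvd_iff_le.mpr (Ideal.span_le.mpr (Set.singleton_subset_iff.mpr hx𝔭))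
  obtain ⟨𝔞, h𝔞⟩ := hdvd
  have hpy : ∀ p ∈ 𝔭, p • y ∈ 𝔭 • I := fun p hp =>
    hK ⟨Submodule.smul_mem_smul hp Submodule.mem_top, hy p hp⟩
  have hxy : x • y ∈ (𝔞 • (𝔭 • I) : Submodule R N) := by
    have hx : x ∈ 𝔭 * 𝔞 := h𝔞 ▸ Ideal.mem_span_singleton_self x
    refine Submodule.mul_induction_on
      (C := fun z => z • y ∈ (𝔞 • (𝔭 • I) : Submodule R N)) hx (fun p hp q hq => ?_)
      (fun u v hu hv => ?_)
    · show (p * q) • y ∈ _
      rw [mul_comm, mul_smul]; exact Submodule.smul_mem_smul hq (hpy p hp)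
    · show (u + v) • y ∈ _
      rw [add_smul]; exact add_mem hu hv
  rw [← Submodule.mul_smul, mul_comm, ← h𝔞, Submodule.ideal_span_singleton_smul] at hxy
  obtain ⟨i, hi, hxi⟩ := (Submodule.mem_smul_pointwise_iff_exists _ _ _).mp hxy
  have : y = i := by
    have h1 : x • (y - i) = 0 := by rw [smul_sub, hxi, sub_self]
    exact sub_eq_zero.mp (hN x _ hx0 h1)
  rw [this]; exact hi

theorem torsion_quot
    (hN : ∀ (r : R) (n : N), r ≠ 0 → r • n = 0 → n = 0) (I : Submodule R N)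
    (hK : ∀ 𝔭 : Ideal R, 𝔭.IsMaximal → (𝔭 • ⊤ ⊓ I : Submodule R N) ≤ 𝔭 • I) :
    ∀ (r : R) (q : N ⧸ I), r ≠ 0 → r • q = 0 → q = 0 := by
  intro r q hr hq
  by_contra hq0
  obtain ⟨P, hP, hle⟩ := exists_le_isAssociatedPrime_of_isNoetherianRing R q hq0
  rw [isAssociatedPrime_iff] at hP
  obtain ⟨hprime, x, hPx⟩ := hP
  have hrP : r ∈ P := hle (by rw [Submodule.mem_colon_singleton]; simpa using hq)
  have hP0 : P ≠ ⊥ := fun h => hr (by rw [h] at hrP; simpa using hrP)
  have hmax : P.IsMaximal := hprime.isMaximal hP0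
  obtain ⟨n, rfl⟩ := Submodule.Quotient.mk_surjective I x
  have hn : n ∈ I := mem_of_forall_smul_mem hN I P hP0 (hK P hmax) n (fun p hp => by
    have h1 : p ∈ (⊥ : Submodule R (N ⧸ I)).colon {Submodule.Quotient.mk n} := hPx ▸ hp
    rw [Submodule.mem_colon_singleton, Submodule.mem_bot, ← Submodule.Quotient.mk_smul,
      Submodule.Quotient.mk_eq_zero] at h1
    exact h1)
  have hx0 : (Submodule.Quotient.mk n : N ⧸ I) = 0 := (Submodule.Quotient.mk_eq_zero I).mpr hn
  have : P = ⊤ := by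
    rw [hPx, hx0]; ext p; simp [Submodule.mem_colon_singleton]
  exact hprime.ne_top this

theorem flat_of_torsionfree {M : Type*} [AddCommGroup M] [Module R M]
    (h : ∀ (r : R) (m : M), r ≠ 0 → r • m = 0 → m = 0) : Module.Flat R M := by
  rw [IsDedekindDomain.flat_iff_torsion_eq_bot, Submodule.eq_bot_iff]
  intro m hm
  obtain ⟨a, ha⟩ := (Submodule.mem_torsion_iff m).mp hm
  exact h a m (nonZeroDivisors.coe_ne_zero a) (by simpa [Submonoid.smul_def] using ha)

theorem torsionfree_of_projective {M : Type*} [AddCommGroup M] [Module R M]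
    [Module.Projective R M] : ∀ (r : R) (m : M), r ≠ 0 → r • m = 0 → m = 0 := by
  intro r m hr hm
  have h1 : Submodule.torsion R M = ⊥ := Module.Flat.torsion_eq_bot
  have h2 : m ∈ Submodule.torsion R M :=
    (Submodule.mem_torsion_iff m).mpr ⟨⟨r, mem_nonZeroDivisors_of_ne_zero hr⟩, hm⟩
  rw [h1] at h2
  exact (Submodule.mem_bot R).mp h2

end Dedekind

section Cert

variable {R A B C : Type u} [CommRing R] [CommRing A] [CommRing B] [CommRing C]
  [Algebra R A] [Algebra R B] [Algebra R C] (φ : A →ₐ[R] C) (ψ : B →ₐ[R] C)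

/-- **Certificates**: linear splittings witnessing the universal exactness of
`0 → R → A × B → C`. -/
theorem exists_cert [IsDedekindDomain R] [Module.Finite R C] [Algebra.Etale R A]
    (hψ : Function.Injective ψ) (hproj : Module.Projective R (Nq ψ))
    (hex : ∀ a b, φ a = ψ b → ∃ r : R, algebraMap R A r = a)
    (hinjA : Function.Injective (algebraMap R A)) :
    ∃ (ρ : A →ₗ[R] R) (τ : C →ₗ[R] A) (ϖ : C →ₗ[R] B),
      (∀ r, ρ (algebraMap R A r) = r) ∧ (∀ b, τ (ψ b) = 0) ∧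
      (∀ a, a = algebraMap R A (ρ a) + τ (φ a)) ∧ (∀ b, ϖ (ψ b) = b) := by
  classical
  haveI := hproj
  -- the retraction ϖ
  obtain ⟨ν, hν⟩ := Module.projective_lifting_property (mkN ψ) LinearMap.id (mkN_surjective ψ)
  have hν' : ∀ x, mkN ψ (ν x) = x := fun x => LinearMap.congr_fun hν x
  let ψe := LinearEquiv.ofInjective ψ.toLinearMap hψ
  let κ : C →ₗ[R] LinearMap.range ψ.toLinearMap :=
    LinearMap.codRestrict _ (LinearMap.id - ν ∘ₗ mkN ψ) (fun c => by
      rw [← mkN_eq_zero_iff]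
      simp [hν'])
  let ϖ : C →ₗ[R] B := ψe.symm.toLinearMap ∘ₗ κ
  have hϖ : ∀ b, ϖ (ψ b) = b := by
    intro b
    show ψe.symm (κ (ψ b)) = b
    rw [LinearEquiv.symm_apply_eq]
    apply Subtype.ext
    show ψ b - ν (mkN ψ (ψ b)) = ψ b
    rw [mkN_ψ, map_zero, sub_zero]
  -- torsion-freeness
  have hNtf : ∀ (r : R) (n : Nq ψ), r ≠ 0 → r • n = 0 → n = 0 := torsionfree_of_projective
  have hK : ∀ 𝔭 : Ideal R, 𝔭.IsMaximal →
      (𝔭 • ⊤ ⊓ LinearMap.range (Ψ φ ψ) : Submodule R (Nq ψ)) ≤ 𝔭 • LinearMap.range (Ψ φ ψ) :=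
    fun 𝔭 h𝔭 => haveI := h𝔭; key' φ ψ ϖ hϖ hex 𝔭
  have hQtf := torsion_quot hNtf (LinearMap.range (Ψ φ ψ)) hK
  haveI : Module.Flat R (Nq ψ ⧸ LinearMap.range (Ψ φ ψ)) := flat_of_torsionfree hQtf
  haveI : Module.Flat R (LinearMap.range (Ψ φ ψ)) := flat_of_torsionfree (fun r i hr hi => by
    apply Subtype.ext
    exact hNtf r i hr (by simpa using congrArg Subtype.val hi))
  haveI : Module.FinitePresentation R (Nq ψ ⧸ LinearMap.range (Ψ φ ψ)) :=
    Module.finitePresentation_of_finite R _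
  haveI : Module.FinitePresentation R (LinearMap.range (Ψ φ ψ)) :=
    Module.finitePresentation_of_finite R _
  haveI : Module.Projective R (Nq ψ ⧸ LinearMap.range (Ψ φ ψ)) :=
    Module.Flat.projective_of_finitePresentation
  haveI : Module.Projective R (LinearMap.range (Ψ φ ψ)) :=
    Module.Flat.projective_of_finitePresentation
  -- sections
  let π : A →ₗ[R] LinearMap.range (Ψ φ ψ) := (Ψ φ ψ).rangeRestrict
  have hπ : Function.Surjective π := LinearMap.surjective_rangeRestrict _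
  obtain ⟨j, hj⟩ := Module.projective_lifting_property π LinearMap.id hπ
  have hj' : ∀ i, π (j i) = i := fun i => LinearMap.congr_fun hj i
  obtain ⟨q, hq⟩ := Module.projective_lifting_property (LinearMap.range (Ψ φ ψ)).mkQ LinearMap.id
    (Submodule.mkQ_surjective _)
  have hq' : ∀ z, (LinearMap.range (Ψ φ ψ)).mkQ (q z) = z := fun z => LinearMap.congr_fun hq z
  let s : Nq ψ →ₗ[R] LinearMap.range (Ψ φ ψ) :=
    LinearMap.codRestrict _ (LinearMap.id - q ∘ₗ (LinearMap.range (Ψ φ ψ)).mkQ) (fun n => by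
      rw [← Submodule.Quotient.mk_eq_zero (LinearMap.range (Ψ φ ψ))]
      have := hq' ((LinearMap.range (Ψ φ ψ)).mkQ n)
      show (LinearMap.range (Ψ φ ψ)).mkQ (n - q ((LinearMap.range (Ψ φ ψ)).mkQ n)) = 0
      rw [map_sub, this, sub_self])
  have hs : ∀ i : LinearMap.range (Ψ φ ψ), s (i : Nq ψ) = i := by
    intro i
    apply Subtype.ext
    have h0 : (LinearMap.range (Ψ φ ψ)).mkQ (i : Nq ψ) = 0 :=
      (Submodule.Quotient.mk_eq_zero _).mpr i.2
    show (i : Nq ψ) - q ((LinearMap.range (Ψ φ ψ)).mkQ (i : Nq ψ)) = i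
    rw [h0, map_zero, sub_zero]
  let τ : C →ₗ[R] A := j ∘ₗ s ∘ₗ mkN ψ
  have hτψ : ∀ b, τ (ψ b) = 0 := fun b => by
    show j (s (mkN ψ (ψ b))) = 0
    rw [mkN_ψ, map_zero, map_zero]
  have hτφ : ∀ a, τ (φ a) = j (π a) := by
    intro a
    show j (s (mkN ψ (φ a))) = j (π a)
    have : mkN ψ (φ a) = ((π a : LinearMap.range (Ψ φ ψ)) : Nq ψ) := rfl
    rw [this, hs]
  -- ρ
  let ι₀ := LinearEquiv.ofInjective (Algebra.linearMap R A) hinjA
  have hmem : ∀ a, a - j (π a) ∈ LinearMap.range (Algebra.linearMap R A) := by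
    intro a
    have h0 : mkN ψ (φ (a - j (π a))) = 0 := by
      have h1 : Ψ φ ψ (j (π a)) = ((π (j (π a)) : LinearMap.range (Ψ φ ψ)) : Nq ψ) := rfl
      have h2 : Ψ φ ψ a = ((π a : LinearMap.range (Ψ φ ψ)) : Nq ψ) := rfl
      have h3 : Ψ φ ψ (a - j (π a)) = 0 := by rw [map_sub, h1, hj', h2, sub_self]
      exact h3
    obtain ⟨b, hb⟩ := (mkN_eq_zero_iff ψ _).mp h0
    obtain ⟨r, hr⟩ := hex _ b hb.symm
    exact ⟨r, hr⟩
  let κ' : A →ₗ[R] LinearMap.range (Algebra.linearMap R A) :=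
    LinearMap.codRestrict _ (LinearMap.id - j ∘ₗ π) (fun a => hmem a)
  let ρ : A →ₗ[R] R := ι₀.symm.toLinearMap ∘ₗ κ'
  refine ⟨ρ, τ, ϖ, ?_, hτψ, ?_, hϖ⟩
  · intro r
    show ι₀.symm (κ' (algebraMap R A r)) = r
    rw [LinearEquiv.symm_apply_eq]
    apply Subtype.ext
    have hπr : π (algebraMap R A r) = 0 := by
      apply Subtype.ext
      show Ψ φ ψ (algebraMap R A r) = 0
      rw [Ψ_apply, AlgHom.commutes, ← AlgHom.commutes ψ]; exact mkN_ψ ψ _
    show algebraMap R A r - j (π (algebraMap R A r)) = algebraMap R A r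
    rw [hπr, map_zero, sub_zero]
  · intro a
    have h1 : algebraMap R A (ρ a) = a - j (π a) := by
      have h2 : ((ι₀ (ρ a) : LinearMap.range (Algebra.linearMap R A)) : A) =
          algebraMap R A (ρ a) := rfl
      rw [← h2]
      show ((ι₀ (ι₀.symm (κ' a)) : LinearMap.range (Algebra.linearMap R A)) : A) = _
      rw [LinearEquiv.apply_symm_apply]
      rfl
    rw [h1, hτφ]; ring

end Cert

section BaseChange

variable {R A B C D : Type u} [CommRing R] [CommRing A] [CommRing B] [CommRing C] [CommRing D]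
  [Algebra R A] [Algebra R B] [Algebra R C] [Algebra R D] (φ : A →ₐ[R] C) (ψ : B →ₐ[R] C)
  (ρ : A →ₗ[R] R) (τ : C →ₗ[R] A) (ϖ : C →ₗ[R] B)
  (hρ : ∀ r, ρ (algebraMap R A r) = r) (hτ : ∀ b, τ (ψ b) = 0)
  (hcert : ∀ a, a = algebraMap R A (ρ a) + τ (φ a)) (hϖ : ∀ b, ϖ (ψ b) = b)

lemma lTensor_linearMap (z : D ⊗[R] R) :
    (Algebra.linearMap R A).lTensor D z = (TensorProduct.rid R D z) ⊗ₜ[R] (1 : A) := by
  induction z with
  | zero => simp
  | tmul d r =>
    rw [LinearMap.lTensor_tmul, TensorProduct.rid_tmul, Algebra.linearMap_apply,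
      Algebra.algebraMap_eq_smul_one, TensorProduct.tmul_smul, TensorProduct.smul_tmul']
  | add x y hx hy => rw [map_add, map_add, hx, hy, TensorProduct.add_tmul]

include hτ hcert hϖ in
theorem exists_of_cert (x : D ⊗[R] A) (y : D ⊗[R] B)
    (hxy : φ.toLinearMap.lTensor D x = ψ.toLinearMap.lTensor D y) :
    ∃ d : D, x = d ⊗ₜ[R] (1 : A) ∧ y = d ⊗ₜ[R] (1 : B) := by
  have hid : (LinearMap.id : A →ₗ[R] A) = (Algebra.linearMap R A) ∘ₗ ρ + τ ∘ₗ φ.toLinearMap :=
    LinearMap.ext fun a => by simpa using hcert a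
  have hτψ : τ ∘ₗ ψ.toLinearMap = 0 := LinearMap.ext fun b => by simpa using hτ b
  have hϖψ : ϖ ∘ₗ ψ.toLinearMap = LinearMap.id := LinearMap.ext fun b => by simpa using hϖ b
  have h2 : (τ ∘ₗ φ.toLinearMap).lTensor D x = 0 := by
    rw [LinearMap.lTensor_comp, LinearMap.comp_apply, hxy, ← LinearMap.comp_apply,
      ← LinearMap.lTensor_comp, hτψ, LinearMap.lTensor_zero, LinearMap.zero_apply]
  have hx : x = (TensorProduct.rid R D (ρ.lTensor D x)) ⊗ₜ[R] (1 : A) := by
    have h1 : x = ((Algebra.linearMap R A) ∘ₗ ρ).lTensor D x +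
        (τ ∘ₗ φ.toLinearMap).lTensor D x := by
      rw [← LinearMap.add_apply, ← LinearMap.lTensor_add, ← hid, LinearMap.lTensor_id,
        LinearMap.id_apply]
    rw [h2, add_zero, LinearMap.lTensor_comp, LinearMap.comp_apply, lTensor_linearMap] at h1
    exact h1
  refine ⟨TensorProduct.rid R D (ρ.lTensor D x), hx, ?_⟩
  generalize TensorProduct.rid R D (ρ.lTensor D x) = d at hx
  have h3 : ψ.toLinearMap.lTensor D y = ψ.toLinearMap.lTensor D (d ⊗ₜ[R] (1 : B)) := by
    rw [← hxy, hx, LinearMap.lTensor_tmul, LinearMap.lTensor_tmul]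
    simp
  have := congrArg (ϖ.lTensor D) h3
  rwa [← LinearMap.comp_apply, ← LinearMap.comp_apply, ← LinearMap.lTensor_comp, hϖψ,
    LinearMap.lTensor_id, LinearMap.id_apply, LinearMap.id_apply] at this

include hρ in
theorem inj_of_cert (d : D) (hd : d ⊗ₜ[R] (1 : A) = 0) : d = 0 := by
  have := congrArg (fun z => TensorProduct.rid R D (ρ.lTensor D z)) hd
  simp only [LinearMap.lTensor_tmul, map_zero] at this
  have h1 : ρ 1 = 1 := by rw [← map_one (algebraMap R A), hρ]
  rwa [h1, TensorProduct.rid_tmul, one_smul] at this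

end BaseChange

open Groth.Agent.Lib.Helper1.FP.TensorSq in
/-- **Base change of the fibre square of a pinching** (abstract pushout form). -/
theorem fibProd_of_cert {R A B C D A' B' C' : Type u} [CommRing R] [CommRing A] [CommRing B]
    [CommRing C] [CommRing D] [CommRing A'] [CommRing B'] [CommRing C'] [IsDedekindDomain R]
    (φ : A →+* C) (ψ : B →+* C) (f₁ : R →+* A) (f₂ : R →+* B) (hf : φ.comp f₁ = ψ.comp f₂)
    (het : @Algebra.Etale R A _ _ f₁.toAlgebra)
    (fC : R →+* C) (hfC : fC = φ.comp f₁) (hfin : fC.Finite) (hψ : Function.Injective ψ)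
    (hv : @Pinch.CokerProjective R C B _ _ _ fC.toAlgebra ψ)
    (hex : ∀ a b, φ a = ψ b → ∃ r : R, f₁ r = a ∧ f₂ r = b)
    (hinj : ∀ r : R, f₁ r = 0 → f₂ r = 0 → r = 0)
    (ρD : R →+* D)
    (uA : A →+* A') (dA : D →+* A')
    (hA : IsPushout (CommRingCat.ofHom f₁) (CommRingCat.ofHom ρD)
      (CommRingCat.ofHom uA) (CommRingCat.ofHom dA))
    (uB : B →+* B') (dB : D →+* B')
    (hB : IsPushout (CommRingCat.ofHom f₂) (CommRingCat.ofHom ρD)
      (CommRingCat.ofHom uB) (CommRingCat.ofHom dB))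
    (uC : C →+* C') (dC : D →+* C')
    (hC : IsPushout (CommRingCat.ofHom fC) (CommRingCat.ofHom ρD)
      (CommRingCat.ofHom uC) (CommRingCat.ofHom dC))
    (φ' : A' →+* C') (ψ' : B' →+* C')
    (h1 : φ'.comp uA = uC.comp φ) (h2 : φ'.comp dA = dC)
    (h3 : ψ'.comp uB = uC.comp ψ) (h4 : ψ'.comp dB = dC) :
    (∀ d, dA d = 0 → d = 0) ∧ (∀ x y, φ' x = ψ' y → ∃ d, dA d = x ∧ dB d = y) := by
  subst hfC
  letI : Algebra R A := f₁.toAlgebra
  letI : Algebra R B := f₂.toAlgebra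
  letI : Algebra R C := (φ.comp f₁).toAlgebra
  letI : Algebra R D := ρD.toAlgebra
  haveI : Algebra.Etale R A := het
  haveI : Module.Finite R C := hfin
  let φa : A →ₐ[R] C := { φ with commutes' := fun r => rfl }
  let ψa : B →ₐ[R] C := { ψ with commutes' := fun r => (congr($hf r)).symm }
  have hinjA : Function.Injective (algebraMap R A) := by
    rw [injective_iff_map_eq_zero]
    intro r hr
    have hr1 : f₁ r = 0 := hr
    refine hinj r hr1 (hψ ?_)
    rw [map_zero]
    have : ψ (f₂ r) = φ (f₁ r) := (congr($hf r)).symm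
    rw [this, hr1, map_zero]
  have hproj : Module.Projective R (Nq ψa) := by
    have hspan : Submodule.span R (Set.range ψ) = LinearMap.range ψa.toLinearMap := by
      apply le_antisymm
      · exact Submodule.span_le.mpr (by rintro _ ⟨b, rfl⟩; exact ⟨b, rfl⟩)
      · rintro _ ⟨b, rfl⟩; exact Submodule.subset_span ⟨b, rfl⟩
    unfold Pinch.CokerProjective at hv
    rw [hspan] at hv
    exact hv
  have hex' : ∀ a b, φa a = ψa b → ∃ r : R, algebraMap R A r = a := fun a b hab => by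
    obtain ⟨r, hr, -⟩ := hex a b hab
    exact ⟨r, hr⟩
  obtain ⟨ρ, τ, ϖ, hρ, hτ, hcert, hϖ⟩ := exists_cert φa ψa hψ hproj hex' hinjA
  let eA := tensorIso (R := R) uA dA hA
  let eB := tensorIso (R := R) uB dB hB
  let eC := tensorIso (R := R) uC dC hC
  have hφe : ∀ x : D ⊗[R] A, eC.hom (φa.toLinearMap.lTensor D x) = φ' (eA.hom x) := by
    intro x
    induction x with
    | zero => simp
    | tmul d a =>
      rw [LinearMap.lTensor_tmul, tensorIso_tmul, tensorIso_tmul, map_mul]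
      have e1 : φ' (dA d) = dC d := congr($h2 d)
      have e2 : φ' (uA a) = uC (φ a) := congr($h1 a)
      rw [e1, e2]; rfl
    | add x y hx hy => simp only [map_add, hx, hy]
  have hψe : ∀ y : D ⊗[R] B, eC.hom (ψa.toLinearMap.lTensor D y) = ψ' (eB.hom y) := by
    intro y
    induction y with
    | zero => simp
    | tmul d b =>
      rw [LinearMap.lTensor_tmul, tensorIso_tmul, tensorIso_tmul, map_mul]
      have e1 : ψ' (dB d) = dC d := congr($h4 d)
      have e2 : ψ' (uB b) = uC (ψ b) := congr($h3 b)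
      rw [e1, e2]; rfl
    | add x y hx hy => simp only [map_add, hx, hy]
  refine ⟨fun d hd => ?_, fun x' y' hxy' => ?_⟩
  · apply inj_of_cert (A := A) ρ hρ d
    apply tensorIso_injective (R := R) uA dA hA
    rw [tensorIso_tmul_one, hd, map_zero]
  · obtain ⟨x, hx⟩ := tensorIso_surjective (R := R) uA dA hA x'
    obtain ⟨y, hy⟩ := tensorIso_surjective (R := R) uB dB hB y'
    have hxy : φa.toLinearMap.lTensor D x = ψa.toLinearMap.lTensor D y := by
      apply tensorIso_injective (R := R) uC dC hC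
      change eC.hom _ = eC.hom _
      rw [hφe, hψe]
      change φ' ((tensorIso uA dA hA).hom x) = ψ' ((tensorIso uB dB hB).hom y)
      rw [hx, hy]
      exact hxy'
    obtain ⟨d, hd1, hd2⟩ := exists_of_cert φa ψa ρ τ ϖ hτ hcert hϖ x y hxy
    refine ⟨d, ?_, ?_⟩
    · rw [← hx, hd1, tensorIso_tmul_one]
    · rw [← hy, hd2, tensorIso_tmul_one]

end Groth.Agent.Lib.Helper1.PC
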