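import Groth.Prelude.Def_AlgSpOX2

/-! # `EtOver.postcomp f hf ⊣ EtOver.bc hrep` for a representable étale `f`, and continuity of `postcomp`. -/

set_option autoImplicit false
set_option backward.isDefEq.respectTransparency false

universe u

open CategoryTheory CategoryTheory.Limits AlgebraicGeometry Opposite

namespace Groth.Agent.Lib.Helper1.PE

open AlgSp

variable {S : Scheme.{u}} {X Y : Sp S} {f : X ⟶ Y} (hrep : Representable f) (hf : IsEtaleMor f)

theorem postcomp_obj_left (E : EtOver X) : ((EtOver.postcomp f hf).obj E).obj.left = E.obj.left := rfl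

theorem postcomp_obj_hom (E : EtOver X) : ((EtOver.postcomp f hf).obj E).obj.hom = E.obj.hom ≫ f := rfl

theorem postcomp_map_left {E E' : EtOver X} (g : E ⟶ E') :
    ((EtOver.postcomp f hf).map g).hom.left = g.hom.left := rfl

/-- the forward map of the hom-equivalence -/
noncomputable def toBc {E : EtOver X} {V : EtOver Y} (a : (EtOver.postcomp f hf).obj E ⟶ V) :
    E ⟶ (EtOver.bc hrep).obj V :=
  EtOver.homMk (E' := EtOver.bcObj hrep V)
    (hrep.lift E.obj.hom a.hom.left (EtOver.w a).symm) (hrep.lift_fst _ _ _)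

theorem toBc_left {E : EtOver X} {V : EtOver Y} (a : (EtOver.postcomp f hf).obj E ⟶ V) :
    (toBc hrep hf a).hom.left = hrep.lift E.obj.hom a.hom.left (EtOver.w a).symm := rfl

/-- the backward map -/
noncomputable def ofBc {E : EtOver X} {V : EtOver Y} (b : E ⟶ (EtOver.bc hrep).obj V) :
    (EtOver.postcomp f hf).obj E ⟶ V :=
  EtOver.homMk (E := (EtOver.postcomp f hf).obj E) (b.hom.left ≫ hrep.snd V.obj.hom) (by
    change (yon S).map (b.hom.left ≫ hrep.snd V.obj.hom) ≫ V.obj.hom = E.obj.hom ≫ f
    rw [Functor.map_comp, Category.assoc, ← hrep.w, ← Category.assoc]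
    congr 1
    exact EtOver.w b)

theorem ofBc_left {E : EtOver X} {V : EtOver Y} (b : E ⟶ (EtOver.bc hrep).obj V) :
    (ofBc hrep hf b).hom.left = b.hom.left ≫ hrep.snd V.obj.hom := rfl

/-- `postcomp ⊣ bc`. -/
noncomputable def adj : EtOver.postcomp f hf ⊣ EtOver.bc hrep :=
  Adjunction.mkOfHomEquiv
    { homEquiv := fun E V =>
        { toFun := toBc hrep hf
          invFun := ofBc hrep hf
          left_inv := fun a => EtOver.hom_ext _ _ (by
            rw [ofBc_left, toBc_left]; exact hrep.lift_snd _ _ _)
          right_inv := fun b => EtOver.hom_ext _ _ (by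
            rw [toBc_left]
            apply hrep.hom_ext
            · rw [hrep.lift_fst]; exact (EtOver.w b).symm
            · rw [hrep.lift_snd]; rfl) }
      homEquiv_naturality_left_symm := fun g b => EtOver.hom_ext _ _ (by
        change (g ≫ b).hom.left ≫ _ = g.hom.left ≫ (_ ≫ _)
        rw [← Category.assoc]; rfl)
      homEquiv_naturality_right := fun a g => EtOver.hom_ext _ _ (by
        change hrep.lift _ _ _ = hrep.lift _ _ _ ≫ (EtOver.bcMap hrep g).hom.left
        apply hrep.hom_ext
        · rw [hrep.lift_fst, Functor.map_comp, Category.assoc, EtOver.map_bcMap_fst, hrep.lift_fst]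
        · rw [hrep.lift_snd, Category.assoc, EtOver.bcMap_snd, ← Category.assoc, hrep.lift_snd]; rfl) }

theorem adj_unit_left (E : EtOver X) :
    ((adj hrep hf).unit.app E).hom.left ≫ hrep.snd (E.obj.hom ≫ f) = 𝟙 _ := by
  have : (adj hrep hf).unit.app E = toBc hrep hf (𝟙 _) := by
    simp [adj, Adjunction.mkOfHomEquiv]
  rw [this, toBc_left]
  exact hrep.lift_snd _ _ _

theorem adj_counit_left (V : EtOver Y) :
    ((adj hrep hf).counit.app V).hom.left = hrep.snd V.obj.hom := by
  have : (adj hrep hf).counit.app V = ofBc hrep hf (𝟙 _) := by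
    simp [adj, Adjunction.mkOfHomEquiv]
  rw [this, ofBc_left]
  exact Category.id_comp _

end Groth.Agent.Lib.Helper1.PE
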