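import Groth.Agent.Lib.Helper1.PE9

/-! # Quasi-coherence descends from the chart to the slice. -/

set_option autoImplicit false
set_option backward.isDefEq.respectTransparency false

universe u

open CategoryTheory CategoryTheory.Limits AlgebraicGeometry Opposite

namespace Groth.Agent.Lib.Helper1.PE

open AlgSp

variable {S : Scheme.{u}} {U : Over S} {Y : Sp S} (p : (yon S).obj U ⟶ Y) (hp : RepWith @Etale p)

/-- restriction to the slice, transported to the chart, is restriction along `postcomp` -/
noncomputable def isoA (F : ModEt Y) :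
    (modEquiv p hp).functor.obj (F.over (Ep p hp)) ≅ (resPost (hfp p hp)).obj F := by
  refine (SheafOfModules.fullyFaithfulForget _).preimageIso <| PresheafOfModules.isoMk (fun E => ?_) ?_
  · refine ModuleCat.isoMk (Iso.refl _) ?_
    intro r
    rfl
  · intro E E' g
    rfl

/-- `Φ_*` takes the structure sheaf to the structure sheaf -/
noncomputable def psiUnitIso :
    (SheafOfModules.pushforward.{u + 1} (psi' p hp)).obj (SheafOfModules.unit (OEtRing ((yon S).obj U))) ≅
      SheafOfModules.unit (R2 p hp) := by
  refine (SheafOfModules.fullyFaithfulForget _).preimageIso <| PresheafOfModules.isoMk (fun E => ?_) ?_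
  · refine ModuleCat.isoMk (Iso.refl _) ?_
    intro r
    rfl
  · intro E E' g
    rfl

instance isIso_psi' : IsIso (psi' p hp) := by
  rw [← isIso_iff_of_reflects_iso _ (ObjectProperty.ι _)]
  have : ∀ A, IsIso (((ObjectProperty.ι (Presheaf.IsSheaf ((etTop Y).over (Ep p hp)))).map
      (psi' p hp)).app A) := fun A => by
    change IsIso (𝟙 _)
    infer_instance
  exact NatIso.isIso_of_isIso_app _

instance Phi_preservesOneHypercovers :
    Functor.PreservesOneHypercovers.{u + 1} (sliceEquiv p hp).inverse ((etTop Y).over (Ep p hp))
      (etTop ((yon S).obj U)) :=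
  Functor.PreservesOneHypercovers.of_coverPreserving (CoverPreserving.of_isContinuous _ _ _)

instance overPost_Phi_isContinuous (A : Over (Ep p hp)) :
    (Over.post (X := A) (sliceEquiv p hp).inverse).IsContinuous (((etTop Y).over (Ep p hp)).over A)
      ((etTop ((yon S).obj U)).over _) :=
  inferInstance

theorem isQuasicoherent_over_Ep (F : ModEt Y) (hF : ((resPost (hfp p hp)).obj F).IsQuasicoherent) :
    (F.over (Ep p hp)).IsQuasicoherent := by
  have h1 : ((modEquiv p hp).functor.obj (F.over (Ep p hp))).IsQuasicoherent :=
    (SheafOfModules.isQuasicoherent (OEtRing ((yon S).obj U))).prop_of_iso (isoA p hp F).symm hF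
  have h2 : ((SheafOfModules.pushforward.{u + 1} (psi' p hp)).obj
      ((modEquiv p hp).functor.obj (F.over (Ep p hp)))).IsQuasicoherent :=
    SheafOfModules.isQuasicoherent_pushforward_of_isLeftAdjoint.{u + 1}
      (sliceEquiv p hp).inverse (psi' p hp) (psiUnitIso p hp)
  exact (SheafOfModules.isQuasicoherent (R2 p hp)).prop_of_iso
    ((modEquiv p hp).unitIso.app (F.over (Ep p hp))).symm h2

end Groth.Agent.Lib.Helper1.PE
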