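import Groth.Agent.Lib.Helper1.PE10

/-! # Quasi-coherence descends along a surjective étale chart. -/

set_option autoImplicit false
set_option backward.isDefEq.respectTransparency false

universe u

open CategoryTheory CategoryTheory.Limits AlgebraicGeometry Opposite

namespace Groth.Agent.Lib.Helper1.PE

open AlgSp

variable {S : Scheme.{u}} {U : Over S} {Y : Sp S} (p : (yon S).obj U ⟶ Y) (hp : RepWith @Etale p)

theorem coversTop_Ep (hs : RepWith @Surjective p) :
    (etTop Y).CoversTop (fun _ : PUnit.{u + 2} => Ep p hp) := by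
  intro W
  let W' : EtOver ((yon S).obj U) := (EtOver.bc hp.1).obj W
  let c : (pc p hp).obj W' ⟶ W := (adj hp.1 (hfp p hp)).counit.app W
  have hc : c.hom.left = hp.1.snd W.obj.hom := adj_counit_left hp.1 (hfp p hp) W
  have hsurj : Surjective (hp.1.snd W.obj.hom).left :=
    hs.2 W.obj.hom (hp.1.fst W.obj.hom) (hp.1.snd W.obj.hom) (hp.1.isPullback W.obj.hom)
  have hmem : Sieve.ofArrows (fun _ : PUnit.{1} => (pc p hp).obj W') (fun _ => c) ∈ etTop Y W := by
    apply ofArrows_mem_etTop
    intro x
    refine ⟨PUnit.unit, ?_⟩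
    rw [hc]
    exact hsurj.surj x
  refine (etTop Y).superset_covering ?_ hmem
  intro Z g hg
  rw [Sieve.mem_ofArrows_iff] at hg
  obtain ⟨_, a, _⟩ := hg
  exact ⟨PUnit.unit, ⟨a ≫ toEp p hp W'⟩⟩

theorem isQuasicoherent_of_resPost (hs : RepWith @Surjective p) (F : ModEt Y)
    (hF : ((resPost (hfp p hp)).obj F).IsQuasicoherent) : F.IsQuasicoherent := by
  have h : ∀ _ : PUnit.{u + 2}, (F.over (Ep p hp)).IsQuasicoherent :=
    fun _ => isQuasicoherent_over_Ep p hp F hF
  exact @SheafOfModules.IsQuasicoherent.of_coversTop _ _ _ _ _ _ _ _ F _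
    (fun _ : PUnit.{u + 2} => Ep p hp) (coversTop_Ep p hp hs) h

include hp in
theorem isQuasicoherent_of_pullModEt (hrep : Representable p) (hs : RepWith @Surjective p)
    [(SheafOfModules.pushforward.{u + 1} (bcRingHom hrep)).IsRightAdjoint] (F : ModEt Y)
    (hF : ((pullModEt hrep).obj F).IsQuasicoherent) : F.IsQuasicoherent := by
  apply isQuasicoherent_of_resPost p hp hs F
  exact (SheafOfModules.isQuasicoherent (OEtRing ((yon S).obj U))).prop_of_iso
    ((pullIso hrep (hfp p hp)).app F) hF

end Groth.Agent.Lib.Helper1.PE
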