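import Groth.Agent.Lib.Helper1.PE1

/-! # Continuity of `EtOver.postcomp f hf`. -/

set_option autoImplicit false
set_option backward.isDefEq.respectTransparency false

universe u

open CategoryTheory CategoryTheory.Limits AlgebraicGeometry Opposite

namespace Groth.Agent.Lib.Helper1.PE

open AlgSp

variable {S : Scheme.{u}} {X Y : Sp S} {f : X ⟶ Y} (hf : IsEtaleMor f)

theorem postcomp_comp_forget : EtOver.postcomp f hf ⋙ EtOver.forget Y = EtOver.forget X := rfl

theorem postcomp_comp_toScheme : EtOver.postcomp f hf ⋙ EtOver.toScheme Y = EtOver.toScheme X := rfl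

variable {E₁ E₂ E₀ : EtOver X} (g₁ : E₁ ⟶ E₀) (g₂ : E₂ ⟶ E₀)

theorem isPullback_postcomp_map_pullback :
    IsPullback ((EtOver.postcomp f hf).map (EtOver.pullbackFst g₁ g₂))
      ((EtOver.postcomp f hf).map (EtOver.pullbackSnd g₁ g₂))
      ((EtOver.postcomp f hf).map g₁) ((EtOver.postcomp f hf).map g₂) := by
  have comm : (EtOver.postcomp f hf).map (EtOver.pullbackFst g₁ g₂) ≫ (EtOver.postcomp f hf).map g₁ =
      (EtOver.postcomp f hf).map (EtOver.pullbackSnd g₁ g₂) ≫ (EtOver.postcomp f hf).map g₂ := by
    rw [← Functor.map_comp, ← Functor.map_comp, EtOver.pullback_condition]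
  have T : IsPullback ((EtOver.forget X).map (EtOver.pullbackFst g₁ g₂))
      ((EtOver.forget X).map (EtOver.pullbackSnd g₁ g₂))
      ((EtOver.forget X).map g₁) ((EtOver.forget X).map g₂) :=
    (EtOver.isPullback g₁ g₂).map (EtOver.forget X)
  exact IsPullback.of_map (EtOver.forget Y) comm T

instance preservesLimit_cospan_postcomp : PreservesLimit (cospan g₁ g₂) (EtOver.postcomp f hf) :=
  preservesLimit_of_preserves_limit_cone (EtOver.pullbackIsLimit g₁ g₂)
    ((isLimitMapConePullbackConeEquiv _ _).symm (isPullback_postcomp_map_pullback hf g₁ g₂).isLimit)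

instance preservesPullbacks_postcomp : PreservesLimitsOfShape WalkingCospan (EtOver.postcomp f hf) where
  preservesLimit {K} := preservesLimit_of_iso_diagram _ (diagramIsoCospan K).symm

theorem etPre_le_comap_postcomp : etPre X ≤ (etPre Y).comap (EtOver.postcomp f hf) := by
  refine le_of_eq ?_
  unfold etPre
  rw [← Precoverage.comap_comp]
  rfl

instance postcomp_isContinuous : (EtOver.postcomp f hf).IsContinuous (etTop X) (etTop Y) := by
  change (EtOver.postcomp f hf).IsContinuous (etPre X).toGrothendieck (etPre Y).toGrothendieck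
  exact Functor.isContinuous_toGrothendieck_of_pullbacksPreservedBy _ _ _ (etPre_le_comap_postcomp hf)

end Groth.Agent.Lib.Helper1.PE
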