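import Groth.Agent.Lib.Helper1.PE2

/-! # `f^* ≅` restriction along `postcomp` for representable étale `f`; exactness. -/

set_option autoImplicit false
set_option backward.isDefEq.respectTransparency false

universe u

open CategoryTheory CategoryTheory.Limits AlgebraicGeometry Opposite

namespace Groth.Agent.Lib.Helper1.PE

open AlgSp

variable {S : Scheme.{u}} {X Y : Sp S} {f : X ⟶ Y} (hrep : Representable f) (hf : IsEtaleMor f)

/-- `O_X ⟶ (postcomp)_* O_Y`, identity on sections. -/
noncomputable def pcRingHom :
    OEtRing X ⟶ ((EtOver.postcomp f hf).sheafPushforwardContinuous RingCat.{u + 1} (etTop X) (etTop Y)).obj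
      (OEtRing Y) :=
  ObjectProperty.homMk
    { app := fun E => 𝟙 ((BigSite.ORing Scheme.etalePrecoverage S).obj.obj (op E.unop.obj.left))
      naturality := fun E E' g => by
        change (BigSite.ORing Scheme.etalePrecoverage S).obj.map g.unop.hom.left.op ≫ 𝟙 _ =
          𝟙 _ ≫ (BigSite.ORing Scheme.etalePrecoverage S).obj.map g.unop.hom.left.op
        rw [Category.comp_id, Category.id_comp] }

/-- restriction of modules along `postcomp`. -/
noncomputable abbrev resPost : ModEt Y ⥤ ModEt X := SheafOfModules.pushforward.{u + 1} (pcRingHom hf)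

theorem H₁ : Functor.whiskerRight (NatTrans.op (adj hrep hf).counit) (OEtRing Y).obj =
    (bcRingHom hrep).hom ≫ (EtOver.bc hrep).op.whiskerLeft (pcRingHom hf).hom := by
  ext V : 2
  change (BigSite.ORing Scheme.etalePrecoverage S).obj.map ((adj hrep hf).counit.app V.unop).hom.left.op =
    (BigSite.ORing Scheme.etalePrecoverage S).obj.map (hrep.snd V.unop.obj.hom).op ≫ 𝟙 _
  rw [Category.comp_id, adj_counit_left]

theorem H₂ : (pcRingHom hf).hom ≫ (EtOver.postcomp f hf).op.whiskerLeft (bcRingHom hrep).hom ≫
    Functor.whiskerRight (NatTrans.op (adj hrep hf).unit) (OEtRing X).obj = 𝟙 (OEtRing X).obj := by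
  ext E : 2
  change 𝟙 _ ≫ (BigSite.ORing Scheme.etalePrecoverage S).obj.map (hrep.snd (E.unop.obj.hom ≫ f)).op ≫
    (BigSite.ORing Scheme.etalePrecoverage S).obj.map ((adj hrep hf).unit.app E.unop).hom.left.op = 𝟙 _
  rw [Category.id_comp, ← Functor.map_comp, ← op_comp, adj_unit_left]
  exact (BigSite.ORing Scheme.etalePrecoverage S).obj.map_id _

/-- restriction along `postcomp` is left adjoint to `f_*`. -/
noncomputable def resPostAdj : resPost hf ⊣ pushModEt hrep :=
  SheafOfModules.pushforwardPushforwardAdj (adj hrep hf) (pcRingHom hf) (bcRingHom hrep) (H₁ hrep hf) (H₂ hrep hf)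

/-- `f^* ≅` restriction along `postcomp`. -/
noncomputable def pullIso [(SheafOfModules.pushforward.{u + 1} (bcRingHom hrep)).IsRightAdjoint] :
    pullModEt hrep ≅ resPost hf :=
  (pullPushAdjModEt hrep).leftAdjointUniq (resPostAdj hrep hf)

end Groth.Agent.Lib.Helper1.PE
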