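import Groth.Agent.Lib.Helper1.PE3

/-! # exactness of `f^*` for representable étale `f`. -/

set_option autoImplicit false
set_option backward.isDefEq.respectTransparency false

universe u

open CategoryTheory CategoryTheory.Limits AlgebraicGeometry Opposite

namespace Groth.Agent.Lib.Helper1.PE

open AlgSp

variable {S : Scheme.{u}} {X Y : Sp S} {f : X ⟶ Y} (hrep : Representable f) (hf : IsEtaleMor f)

theorem resPost_comp_toSheaf : resPost hf ⋙ SheafOfModules.toSheaf _ =
    SheafOfModules.toSheaf _ ⋙ (EtOver.postcomp f hf).sheafPushforwardContinuous AddCommGrpCat.{u + 1}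
      (etTop X) (etTop Y) := rfl

noncomputable instance preservesFiniteLimits_resPost : PreservesFiniteLimits (resPost hf) := by
  have h1 : PreservesFiniteLimits (resPost hf ⋙ SheafOfModules.toSheaf.{u + 1} _) := by
    rw [resPost_comp_toSheaf]
    infer_instance
  have h2 : ReflectsFiniteLimits (SheafOfModules.toSheaf.{u + 1} (OEtRing X)) := inferInstance
  exact preservesFiniteLimits_of_reflects_of_preserves (resPost hf) (SheafOfModules.toSheaf.{u + 1} _)

include hf in
theorem preservesFiniteLimits_pullModEt
    [(SheafOfModules.pushforward.{u + 1} (bcRingHom hrep)).IsRightAdjoint] :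
    PreservesFiniteLimits (pullModEt hrep) :=
  preservesFiniteLimits_of_natIso (pullIso hrep hf).symm

end Groth.Agent.Lib.Helper1.PE
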