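import Groth.Agent.Lib.Helper1.PE4
import Mathlib.Algebra.Category.ModuleCat.Sheaf.Quasicoherent

/-! # `f^*` preserves quasi-coherence for representable étale `f`. -/

set_option autoImplicit false
set_option backward.isDefEq.respectTransparency false

universe u

open CategoryTheory CategoryTheory.Limits AlgebraicGeometry Opposite

namespace Groth.Agent.Lib.Helper1.PE

open AlgSp

variable {S : Scheme.{u}} {X Y : Sp S} {f : X ⟶ Y} (hrep : Representable f) (hf : IsEtaleMor f)

theorem coverPreserving_postcomp : CoverPreserving (etTop X) (etTop Y) (EtOver.postcomp f hf) :=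
  CoverPreserving.of_isContinuous _ _ _

theorem coverPreserving_bc : CoverPreserving (etTop Y) (etTop X) (EtOver.bc hrep) :=
  CoverPreserving.of_isContinuous _ _ _

include hrep in
theorem postcomp_isCocontinuous : (EtOver.postcomp f hf).IsCocontinuous (etTop X) (etTop Y) :=
  ((adj hrep hf).isCocontinuous_iff_coverPreserving (etTop X) (etTop Y)).2 (coverPreserving_bc hrep)

instance postcomp_preservesOneHypercovers :
    Functor.PreservesOneHypercovers.{u + 1} (EtOver.postcomp f hf) (etTop X) (etTop Y) :=
  Functor.PreservesOneHypercovers.of_coverPreserving (coverPreserving_postcomp hf)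

instance overPost_postcomp_isContinuous (E : EtOver X) :
    (Over.post (X := E) (EtOver.postcomp f hf)).IsContinuous ((etTop X).over E) ((etTop Y).over _) :=
  inferInstance

instance isIso_pcRingHom : IsIso (pcRingHom hf) := by
  rw [← isIso_iff_of_reflects_iso _ (ObjectProperty.ι _)]
  have : ∀ E, IsIso (((ObjectProperty.ι (Presheaf.IsSheaf (etTop X))).map (pcRingHom hf)).app E) := fun E => by
    change IsIso (𝟙 _)
    infer_instance
  exact NatIso.isIso_of_isIso_app _

end Groth.Agent.Lib.Helper1.PE
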