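import Groth.Agent.Lib.Helper1.PE5

/-! # `f^*` preserves quasi-coherence for representable étale `f` (continued). -/

set_option autoImplicit false
set_option backward.isDefEq.respectTransparency false

universe u

open CategoryTheory CategoryTheory.Limits AlgebraicGeometry Opposite

namespace Groth.Agent.Lib.Helper1.PE

open AlgSp

variable {S : Scheme.{u}} {X Y : Sp S} {f : X ⟶ Y} (hrep : Representable f) (hf : IsEtaleMor f)

/-- restriction along `postcomp` takes `O_Y` to `O_X`. -/
noncomputable def resPostUnitIso :
    (resPost hf).obj (SheafOfModules.unit (OEtRing Y)) ≅ SheafOfModules.unit (OEtRing X) := by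
  refine (SheafOfModules.fullyFaithfulForget _).preimageIso <| PresheafOfModules.isoMk (fun E => ?_) ?_
  · refine ModuleCat.isoMk (Iso.refl _) ?_
    intro r
    rfl
  · intro E E' g
    rfl

include hrep in
theorem isQuasicoherent_resPost (F : ModEt Y) [F.IsQuasicoherent] :
    ((resPost hf).obj F).IsQuasicoherent := by
  have : (EtOver.postcomp f hf).IsLeftAdjoint := (adj hrep hf).isLeftAdjoint
  have := postcomp_isCocontinuous hrep hf
  exact SheafOfModules.isQuasicoherent_pushforward_of_isLeftAdjoint.{u + 1}
    (EtOver.postcomp f hf) (pcRingHom hf) (resPostUnitIso hf)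

include hf in
theorem isQuasicoherent_pullModEt [(SheafOfModules.pushforward.{u + 1} (bcRingHom hrep)).IsRightAdjoint]
    (F : ModEt Y) (hF : F.IsQuasicoherent) : ((pullModEt hrep).obj F).IsQuasicoherent := by
  have h := isQuasicoherent_resPost hrep hf F
  exact (SheafOfModules.isQuasicoherent (OEtRing X)).prop_of_iso ((pullIso hrep hf).app F).symm h

end Groth.Agent.Lib.Helper1.PE
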