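import Groth.Agent.Lib.Helper1.PE6

/-! # The small étale site of `h_U` is the slice of the small étale site of `Y` over an étale chart `p : h_U ⟶ Y`. -/

set_option autoImplicit false
set_option backward.isDefEq.respectTransparency false

universe u

open CategoryTheory CategoryTheory.Limits AlgebraicGeometry Opposite

namespace Groth.Agent.Lib.Helper1.PE

open AlgSp

variable {S : Scheme.{u}} {U : Over S} {Y : Sp S} (p : (yon S).obj U ⟶ Y) (hp : RepWith @Etale p)

/-- the chart as an object of the small étale site -/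
noncomputable abbrev Ep : EtOver Y := EtOver.mk p hp

include hp in
theorem hfp : IsEtaleMor p := isEtaleMor_of_repWith p hp

/-- `postcomp` for the chart -/
noncomputable abbrev pc : EtOver ((yon S).obj U) ⥤ EtOver Y := EtOver.postcomp p (hfp p hp)

/-- the structure morphism `postcomp E ⟶ Ep` -/
noncomputable def toEp (E : EtOver ((yon S).obj U)) : (pc p hp).obj E ⟶ Ep p hp :=
  EtOver.homMk (E := (pc p hp).obj E) (E' := Ep p hp) ((yon S).preimage E.obj.hom) (by
    change (yon S).map ((yon S).preimage E.obj.hom) ≫ p = E.obj.hom ≫ p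
    rw [Functor.map_preimage])

theorem toEp_left (E : EtOver ((yon S).obj U)) : (toEp p hp E).hom.left = (yon S).preimage E.obj.hom := rfl

/-- `EtOver h_U ⥤ Over Ep` -/
noncomputable def Psi : EtOver ((yon S).obj U) ⥤ Over (Ep p hp) where
  obj E := Over.mk (toEp p hp E)
  map {E E'} g := Over.homMk ((pc p hp).map g) (EtOver.hom_ext _ _ (by
    change g.hom.left ≫ (yon S).preimage E'.obj.hom = (yon S).preimage E.obj.hom
    apply (yon S).map_injective
    rw [Functor.map_comp, Functor.map_preimage, Functor.map_preimage]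
    exact EtOver.w g))
  map_id E := Over.OverMorphism.ext (EtOver.hom_ext _ _ rfl)
  map_comp g h := Over.OverMorphism.ext (EtOver.hom_ext _ _ rfl)

theorem Psi_obj_left (E : EtOver ((yon S).obj U)) : ((Psi p hp).obj E).left = (pc p hp).obj E := rfl

theorem Psi_comp_forget : Psi p hp ⋙ Over.forget (Ep p hp) = pc p hp := rfl

/-- `Over Ep ⥤ EtOver h_U` -/
noncomputable def Phi : Over (Ep p hp) ⥤ EtOver ((yon S).obj U) where
  obj A := EtOver.mk ((yon S).map A.hom.hom.left)
    ((repWith_yon_map_iff _ _).2 (EtOver.etale_left A.hom))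
  map {A A'} k := EtOver.homMk
    (E := EtOver.mk ((yon S).map A.hom.hom.left) ((repWith_yon_map_iff _ _).2 (EtOver.etale_left A.hom)))
    (E' := EtOver.mk ((yon S).map A'.hom.hom.left) ((repWith_yon_map_iff _ _).2 (EtOver.etale_left A'.hom)))
    k.left.hom.left (by
      change (yon S).map k.left.hom.left ≫ (yon S).map A'.hom.hom.left = (yon S).map A.hom.hom.left
      rw [← Functor.map_comp]
      congr 1
      exact congrArg (fun t => t.hom.left) (Over.w k))
  map_id A := EtOver.hom_ext _ _ rfl
  map_comp k l := EtOver.hom_ext _ _ rfl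

theorem Phi_obj_left (A : Over (Ep p hp)) : ((Phi p hp).obj A).obj.left = A.left.obj.left := rfl

theorem Phi_obj_hom (A : Over (Ep p hp)) : ((Phi p hp).obj A).obj.hom = (yon S).map A.hom.hom.left := rfl

theorem Phi_map_left {A A' : Over (Ep p hp)} (k : A ⟶ A') :
    ((Phi p hp).map k).hom.left = k.left.hom.left := rfl

/-- unit component -/
noncomputable def unitApp (E : EtOver ((yon S).obj U)) : E ≅ (Phi p hp).obj ((Psi p hp).obj E) where
  hom := EtOver.homMk (E' := (Phi p hp).obj ((Psi p hp).obj E)) (𝟙 E.obj.left) (by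
    change (yon S).map (𝟙 _) ≫ (yon S).map ((yon S).preimage E.obj.hom) = E.obj.hom
    rw [Functor.map_preimage, (yon S).map_id, Category.id_comp])
  inv := EtOver.homMk (E := (Phi p hp).obj ((Psi p hp).obj E)) (𝟙 E.obj.left) (by
    change (yon S).map (𝟙 _) ≫ E.obj.hom = (yon S).map ((yon S).preimage E.obj.hom)
    rw [Functor.map_preimage, (yon S).map_id, Category.id_comp])
  hom_inv_id := EtOver.hom_ext _ _ (Category.id_comp _)
  inv_hom_id := EtOver.hom_ext _ _ (Category.id_comp _)

/-- counit component, in `EtOver Y` -/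
noncomputable def counitAppLeft (A : Over (Ep p hp)) : (pc p hp).obj ((Phi p hp).obj A) ≅ A.left where
  hom := EtOver.homMk (E := (pc p hp).obj ((Phi p hp).obj A)) (𝟙 A.left.obj.left) (by
    change (yon S).map (𝟙 _) ≫ A.left.obj.hom = (yon S).map A.hom.hom.left ≫ p
    rw [(yon S).map_id, Category.id_comp]
    exact (EtOver.w A.hom).symm)
  inv := EtOver.homMk (E' := (pc p hp).obj ((Phi p hp).obj A)) (𝟙 A.left.obj.left) (by
    change (yon S).map (𝟙 _) ≫ (yon S).map A.hom.hom.left ≫ p = A.left.obj.hom
    rw [(yon S).map_id, Category.id_comp]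
    exact EtOver.w A.hom)
  hom_inv_id := EtOver.hom_ext _ _ (Category.id_comp _)
  inv_hom_id := EtOver.hom_ext _ _ (Category.id_comp _)

/-- counit component -/
noncomputable def counitApp (A : Over (Ep p hp)) : (Psi p hp).obj ((Phi p hp).obj A) ≅ A :=
  Over.isoMk (counitAppLeft p hp A) (EtOver.hom_ext _ _ (by
    change 𝟙 _ ≫ A.hom.hom.left = (yon S).preimage ((yon S).map A.hom.hom.left)
    rw [Functor.preimage_map, Category.id_comp]))

/-- `EtOver h_U ≌ Over Ep`. -/
noncomputable def sliceEquiv : EtOver ((yon S).obj U) ≌ Over (Ep p hp) where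
  functor := Psi p hp
  inverse := Phi p hp
  unitIso := NatIso.ofComponents (unitApp p hp) (fun {E E'} g => EtOver.hom_ext _ _ (by
    change g.hom.left ≫ 𝟙 _ = 𝟙 _ ≫ g.hom.left
    rw [Category.comp_id, Category.id_comp]))
  counitIso := NatIso.ofComponents (counitApp p hp) (fun {A A'} k => Over.OverMorphism.ext
    (EtOver.hom_ext _ _ (by
      change k.left.hom.left ≫ 𝟙 _ = 𝟙 _ ≫ k.left.hom.left
      rw [Category.comp_id, Category.id_comp])))
  functor_unitIso_comp E := Over.OverMorphism.ext (EtOver.hom_ext _ _ (by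
    change 𝟙 _ ≫ 𝟙 _ = 𝟙 _
    rw [Category.comp_id]))

theorem sliceEquiv_functor : (sliceEquiv p hp).functor = Psi p hp := rfl
theorem sliceEquiv_inverse : (sliceEquiv p hp).inverse = Phi p hp := rfl

theorem sliceEquiv_unit_left (E : EtOver ((yon S).obj U)) :
    ((sliceEquiv p hp).unit.app E).hom.left = 𝟙 _ := rfl

theorem sliceEquiv_counit_left (A : Over (Ep p hp)) :
    ((sliceEquiv p hp).counit.app A).left.hom.left = 𝟙 _ := rfl

end Groth.Agent.Lib.Helper1.PE
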