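import Groth.Agent.Lib.Helper1.PE7
import Mathlib.CategoryTheory.Sites.Equivalence

/-! # The slice equivalence is an equivalence of sites. -/

set_option autoImplicit false
set_option backward.isDefEq.respectTransparency false

universe u

open CategoryTheory CategoryTheory.Limits AlgebraicGeometry Opposite

namespace Groth.Agent.Lib.Helper1.PE

open AlgSp

variable {S : Scheme.{u}} {U : Over S} {Y : Sp S} (p : (yon S).obj U ⟶ Y) (hp : RepWith @Etale p)

theorem functorPushforward_pc_mem_iff {E : EtOver ((yon S).obj U)} (R : Sieve E) :
    R.functorPushforward (pc p hp) ∈ etTop Y ((pc p hp).obj E) ↔ R ∈ etTop ((yon S).obj U) E := by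
  constructor
  · intro h
    have hco := postcomp_isCocontinuous hp.1 (hfp p hp)
    refine (etTop ((yon S).obj U)).superset_covering ?_ ((pc p hp).cover_lift _ _ h)
    rintro E'' g ⟨E', a, b, ha, hg⟩
    have hleft : g.hom.left = b.hom.left ≫ a.hom.left := congrArg (fun t => t.hom.left) hg
    let b' : E'' ⟶ E' := EtOver.homMk b.hom.left (by
      rw [← EtOver.w a, ← Category.assoc, ← Functor.map_comp, ← hleft]
      exact EtOver.w g)
    have : g = b' ≫ a := EtOver.hom_ext _ _ hleft
    rw [this]
    exact R.downward_closed ha b'
  · intro h
    exact (coverPreserving_postcomp (hfp p hp)).cover_preserve h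

instance Psi_isDenseSubsite : (sliceEquiv p hp).functor.IsDenseSubsite (etTop ((yon S).obj U))
    ((etTop Y).over (Ep p hp)) where
  functorPushforward_mem_iff {E} {R} := by
    rw [GrothendieckTopology.mem_over_iff]
    have : Sieve.overEquiv _ (R.functorPushforward (sliceEquiv p hp).functor) =
        R.functorPushforward (pc p hp) := by
      change (R.functorPushforward (Psi p hp)).functorPushforward (Over.forget _) = _
      rw [← Sieve.functorPushforward_comp]
      rfl
    rw [this]
    exact functorPushforward_pc_mem_iff p hp R

instance Phi_isDenseSubsite : (sliceEquiv p hp).inverse.IsDenseSubsite ((etTop Y).over (Ep p hp))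
    (etTop ((yon S).obj U)) := by
  have : (sliceEquiv p hp).symm.inverse.IsDenseSubsite (etTop ((yon S).obj U))
      ((etTop Y).over (Ep p hp)) := Psi_isDenseSubsite p hp
  exact inferInstanceAs ((sliceEquiv p hp).symm.functor.IsDenseSubsite _ _)

end Groth.Agent.Lib.Helper1.PE
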