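import Groth.Agent.Lib.Helper1.PE8

/-! # Modules on the slice over a chart vs modules on the small étale site of the chart. -/

set_option autoImplicit false
set_option backward.isDefEq.respectTransparency false

universe u

open CategoryTheory CategoryTheory.Limits AlgebraicGeometry Opposite

namespace Groth.Agent.Lib.Helper1.PE

open AlgSp

variable {S : Scheme.{u}} {U : Over S} {Y : Sp S} (p : (yon S).obj U ⟶ Y) (hp : RepWith @Etale p)

/-- the structure sheaf restricted to the slice over the chart -/
noncomputable abbrev R2 : Sheaf ((etTop Y).over (Ep p hp)) RingCat.{u + 1} := (OEtRing Y).over (Ep p hp)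

/-- `O_{h_U} ⟶ Ψ_* (O_Y|_{Ep})`, identity on sections -/
noncomputable def phi' : OEtRing ((yon S).obj U) ⟶
    ((sliceEquiv p hp).functor.sheafPushforwardContinuous RingCat.{u + 1} (etTop ((yon S).obj U))
      ((etTop Y).over (Ep p hp))).obj (R2 p hp) :=
  ObjectProperty.homMk
    { app := fun E => 𝟙 ((BigSite.ORing Scheme.etalePrecoverage S).obj.obj (op E.unop.obj.left))
      naturality := fun E E' g => by
        change (BigSite.ORing Scheme.etalePrecoverage S).obj.map g.unop.hom.left.op ≫ 𝟙 _ =
          𝟙 _ ≫ (BigSite.ORing Scheme.etalePrecoverage S).obj.map g.unop.hom.left.op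
        rw [Category.comp_id, Category.id_comp] }

/-- `O_Y|_{Ep} ⟶ Φ_* O_{h_U}`, identity on sections -/
noncomputable def psi' : R2 p hp ⟶
    ((sliceEquiv p hp).inverse.sheafPushforwardContinuous RingCat.{u + 1} ((etTop Y).over (Ep p hp))
      (etTop ((yon S).obj U))).obj (OEtRing ((yon S).obj U)) :=
  ObjectProperty.homMk
    { app := fun A => 𝟙 ((BigSite.ORing Scheme.etalePrecoverage S).obj.obj (op A.unop.left.obj.left))
      naturality := fun A A' k => by
        change (BigSite.ORing Scheme.etalePrecoverage S).obj.map k.unop.left.hom.left.op ≫ 𝟙 _ =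
          𝟙 _ ≫ (BigSite.ORing Scheme.etalePrecoverage S).obj.map k.unop.left.hom.left.op
        rw [Category.comp_id, Category.id_comp] }

theorem H₁' : Functor.whiskerRight (NatTrans.op (sliceEquiv p hp).counit) (R2 p hp).obj =
    (psi' p hp).hom ≫ (sliceEquiv p hp).inverse.op.whiskerLeft (phi' p hp).hom := by
  ext A : 2
  change (BigSite.ORing Scheme.etalePrecoverage S).obj.map
    (((sliceEquiv p hp).counit.app A.unop).left.hom.left).op = 𝟙 _ ≫ 𝟙 _
  rw [Category.comp_id, sliceEquiv_counit_left]
  exact (BigSite.ORing Scheme.etalePrecoverage S).obj.map_id _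

theorem H₂' : (phi' p hp).hom ≫ (sliceEquiv p hp).functor.op.whiskerLeft (psi' p hp).hom ≫
    Functor.whiskerRight (NatTrans.op (sliceEquiv p hp).unit) (OEtRing ((yon S).obj U)).obj =
      𝟙 (OEtRing ((yon S).obj U)).obj := by
  ext E : 2
  change 𝟙 _ ≫ 𝟙 _ ≫ (BigSite.ORing Scheme.etalePrecoverage S).obj.map
    (((sliceEquiv p hp).unit.app E.unop).hom.left).op = 𝟙 _
  rw [Category.id_comp, Category.id_comp, sliceEquiv_unit_left]
  exact (BigSite.ORing Scheme.etalePrecoverage S).obj.map_id _

/-- modules on the slice over the chart ≌ modules on the small étale site of the chart -/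
noncomputable def modEquiv : SheafOfModules.{u + 1} (R2 p hp) ≌ ModEt ((yon S).obj U) :=
  SheafOfModules.pushforwardPushforwardEquivalence (sliceEquiv p hp) (phi' p hp) (psi' p hp)
    (H₁' p hp) (H₂' p hp)

theorem modEquiv_functor : (modEquiv p hp).functor = SheafOfModules.pushforward.{u + 1} (phi' p hp) := rfl
theorem modEquiv_inverse : (modEquiv p hp).inverse = SheafOfModules.pushforward.{u + 1} (psi' p hp) := rfl

end Groth.Agent.Lib.Helper1.PE
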