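import Groth.Agent.Lib.Helper1.MVS6
import Mathlib.Algebra.Category.ModuleCat.Sheaf.PullbackContinuous

/-!
# Existence of the pullback of sheaves of modules on sites `C : Type (v+1)`, `Category.{v} C`

Mathlib's instance is for small sites; we transport along `ULiftHom.equiv`.
-/

set_option autoImplicit false
set_option backward.isDefEq.respectTransparency false

universe v

open CategoryTheory CategoryTheory.Limits Opposite

namespace Groth.Agent.Lib.Helper1.PF

open Groth.Agent.Lib.Helper1.MVS

variable {C : Type (v + 1)} [Category.{v} C] {D : Type (v + 1)} [Category.{v} D]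
  {J : GrothendieckTopology C} {K : GrothendieckTopology D} (F : C ⥤ D)
  {S : Sheaf J RingCat.{v + 1}} {R : Sheaf K RingCat.{v + 1}} [F.IsContinuous J K]
  (φ : S ⟶ (F.sheafPushforwardContinuous RingCat.{v + 1} J K).obj R)

/-- `F` between the `ULiftHom` categories -/
abbrev liftF : ULiftHom.{v + 1} C ⥤ ULiftHom.{v + 1} D :=
  (ULiftHom.equiv (C := C)).inverse ⋙ F ⋙ (ULiftHom.equiv (C := D)).functor

instance liftF_isContinuous : (liftF F).IsContinuous (liftTop J) (liftTop K) := by
  have : (F ⋙ (ULiftHom.equiv (C := D)).functor).IsContinuous J (liftTop K) :=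
    Functor.isContinuous_comp F (ULiftHom.equiv (C := D)).functor J K (liftTop K)
  exact Functor.isContinuous_comp (ULiftHom.equiv (C := C)).inverse
    (F ⋙ (ULiftHom.equiv (C := D)).functor) (liftTop J) J (liftTop K)

/-- the lifted ring map -/
noncomputable def liftφ : liftRing J S ⟶
    ((liftF F).sheafPushforwardContinuous RingCat.{v + 1} (liftTop J) (liftTop K)).obj (liftRing K R) :=
  ⟨{ app := fun c => φ.hom.app (op ((ULiftHom.equiv (C := C)).inverse.obj c.unop))
     naturality := fun c c' g => φ.hom.naturality ((ULiftHom.equiv (C := C)).inverse.map g.unop).op }⟩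

instance : (SheafOfModules.pushforward.{v + 1} (liftφ F φ)).IsRightAdjoint := inferInstance

end Groth.Agent.Lib.Helper1.PF

namespace Groth.Agent.Lib.Helper1.PF

open Groth.Agent.Lib.Helper1.MVS

variable {C : Type (v + 1)} [Category.{v} C] {D : Type (v + 1)} [Category.{v} D]
  {J : GrothendieckTopology C} {K : GrothendieckTopology D} (F : C ⥤ D)
  {S : Sheaf J RingCat.{v + 1}} {R : Sheaf K RingCat.{v + 1}} [F.IsContinuous J K]
  (φ : S ⟶ (F.sheafPushforwardContinuous RingCat.{v + 1} J K).obj R)

/-- component of `pushIso` -/
noncomputable def pushIsoApp (M : SheafOfModules.{v + 1} R) :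
    (SheafOfModules.pushforward.{v + 1} φ).obj M ≅
      ((liftEquiv K R).inverse ⋙ SheafOfModules.pushforward.{v + 1} (liftφ F φ) ⋙
        (liftEquiv J S).functor).obj M := by
  refine (SheafOfModules.fullyFaithfulForget _).preimageIso <| PresheafOfModules.isoMk (fun c => ?_) ?_
  · refine ModuleCat.isoMk (Iso.refl _) ?_
    intro r
    rfl
  · intro c c' g
    rfl

/-- the pushforward is conjugate to the pushforward between the small models -/
noncomputable def pushIso : SheafOfModules.pushforward.{v + 1} φ ≅
    (liftEquiv K R).inverse ⋙ SheafOfModules.pushforward.{v + 1} (liftφ F φ) ⋙ (liftEquiv J S).functor :=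
  NatIso.ofComponents (pushIsoApp F φ) (fun {M N} f => by
    apply (SheafOfModules.fullyFaithfulForget _).map_injective
    rfl)

/-- the pushforward of modules along any continuous functor between such sites has a left adjoint -/
theorem isRightAdjoint_pushforward : (SheafOfModules.pushforward.{v + 1} φ).IsRightAdjoint :=
  Functor.isRightAdjoint_of_iso (pushIso F φ).symm

end Groth.Agent.Lib.Helper1.PF
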