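import Groth.Agent.Lib.Helper1.PE11
import Groth.Agent.Lib.Helper1.PF1

/-! # Base change of the small étale site along a composite of representable morphisms. -/

set_option autoImplicit false
set_option backward.isDefEq.respectTransparency false

universe u

open CategoryTheory CategoryTheory.Limits AlgebraicGeometry Opposite

namespace Groth.Agent.Lib.Helper1.PF

open AlgSp

variable {S : Scheme.{u}} {X Y Z : Sp S} {g : Z ⟶ X} {f : X ⟶ Y}
  (hg : Representable g) (hf : Representable f) (hgf : Representable (g ≫ f))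

/-- the scheme map `V ×_Y Z ⟶ V ×_Y X` -/
noncomputable def compInner (V : EtOver Y) : hgf.pullback V.obj.hom ⟶ hf.pullback V.obj.hom :=
  hf.lift (hgf.fst V.obj.hom ≫ g) (hgf.snd V.obj.hom) (by rw [Category.assoc, hgf.w])

theorem compInner_fst (V : EtOver Y) :
    (yon S).map (compInner hf hgf V) ≫ hf.fst V.obj.hom = hgf.fst V.obj.hom ≫ g := hf.lift_fst _ _ _

theorem compInner_snd (V : EtOver Y) :
    compInner hf hgf V ≫ hf.snd V.obj.hom = hgf.snd V.obj.hom := hf.lift_snd _ _ _

/-- `V ×_Y Z ⟶ (V ×_Y X) ×_X Z` -/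
noncomputable def compHomLeft (V : EtOver Y) :
    hgf.pullback V.obj.hom ⟶ hg.pullback (hf.fst V.obj.hom) :=
  hg.lift (hgf.fst V.obj.hom) (compInner hf hgf V) (compInner_fst hf hgf V).symm

theorem compHomLeft_fst (V : EtOver Y) :
    (yon S).map (compHomLeft hg hf hgf V) ≫ hg.fst (hf.fst V.obj.hom) = hgf.fst V.obj.hom :=
  hg.lift_fst _ _ _

theorem compHomLeft_snd (V : EtOver Y) :
    compHomLeft hg hf hgf V ≫ hg.snd (hf.fst V.obj.hom) = compInner hf hgf V := hg.lift_snd _ _ _

theorem compInv_comm (V : EtOver Y) :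
    hg.fst (hf.fst V.obj.hom) ≫ g ≫ f =
      (yon S).map (hg.snd (hf.fst V.obj.hom) ≫ hf.snd V.obj.hom) ≫ V.obj.hom := by
  rw [← Category.assoc, hg.w, Category.assoc, hf.w, Functor.map_comp, Category.assoc]

/-- `(V ×_Y X) ×_X Z ⟶ V ×_Y Z` -/
noncomputable def compInvLeft (V : EtOver Y) :
    hg.pullback (hf.fst V.obj.hom) ⟶ hgf.pullback V.obj.hom :=
  hgf.lift (hg.fst (hf.fst V.obj.hom)) (hg.snd (hf.fst V.obj.hom) ≫ hf.snd V.obj.hom)
    (compInv_comm hg hf V)

theorem compInvLeft_fst (V : EtOver Y) :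
    (yon S).map (compInvLeft hg hf hgf V) ≫ hgf.fst V.obj.hom = hg.fst (hf.fst V.obj.hom) :=
  hgf.lift_fst _ _ _

theorem compInvLeft_snd (V : EtOver Y) :
    compInvLeft hg hf hgf V ≫ hgf.snd V.obj.hom = hg.snd (hf.fst V.obj.hom) ≫ hf.snd V.obj.hom :=
  hgf.lift_snd _ _ _

theorem compHom_inv (V : EtOver Y) : compHomLeft hg hf hgf V ≫ compInvLeft hg hf hgf V = 𝟙 _ := by
  apply hgf.hom_ext
  · rw [Functor.map_comp, Category.assoc, compInvLeft_fst, compHomLeft_fst, (yon S).map_id,
      Category.id_comp]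
  · rw [Category.assoc, compInvLeft_snd, ← Category.assoc, compHomLeft_snd, compInner_snd,
      Category.id_comp]

theorem compInv_hom (V : EtOver Y) : compInvLeft hg hf hgf V ≫ compHomLeft hg hf hgf V = 𝟙 _ := by
  apply hg.hom_ext
  · rw [Functor.map_comp, Category.assoc, compHomLeft_fst, compInvLeft_fst, (yon S).map_id,
      Category.id_comp]
  · rw [Category.assoc, compHomLeft_snd, Category.id_comp]
    apply hf.hom_ext
    · rw [Functor.map_comp, Category.assoc, compInner_fst, ← Category.assoc, compInvLeft_fst, hg.w]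
    · rw [Category.assoc, compInner_snd, compInvLeft_snd]

/-- component of `bcComp` -/
noncomputable def bcCompApp (V : EtOver Y) :
    (EtOver.bc hgf).obj V ≅ (EtOver.bc hg).obj ((EtOver.bc hf).obj V) where
  hom := EtOver.homMk (E := EtOver.bcObj hgf V) (E' := EtOver.bcObj hg (EtOver.bcObj hf V))
    (compHomLeft hg hf hgf V) (compHomLeft_fst hg hf hgf V)
  inv := EtOver.homMk (E := EtOver.bcObj hg (EtOver.bcObj hf V)) (E' := EtOver.bcObj hgf V)
    (compInvLeft hg hf hgf V) (compInvLeft_fst hg hf hgf V)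
  hom_inv_id := EtOver.hom_ext _ _ (compHom_inv hg hf hgf V)
  inv_hom_id := EtOver.hom_ext _ _ (compInv_hom hg hf hgf V)

theorem bcCompApp_hom_left (V : EtOver Y) :
    (bcCompApp hg hf hgf V).hom.hom.left = compHomLeft hg hf hgf V := rfl

/-- `bc (g ≫ f) ≅ bc f ⋙ bc g`. -/
noncomputable def bcComp : EtOver.bc hgf ≅ EtOver.bc hf ⋙ EtOver.bc hg :=
  NatIso.ofComponents (bcCompApp hg hf hgf) (fun {V V'} k => EtOver.hom_ext _ _ (by
    change (EtOver.bcMap hgf k).hom.left ≫ compHomLeft hg hf hgf V' =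
      compHomLeft hg hf hgf V ≫ (EtOver.bcMap hg (EtOver.bcMap hf k)).hom.left
    apply hg.hom_ext
    · rw [Functor.map_comp, Category.assoc, compHomLeft_fst, EtOver.map_bcMap_fst, Functor.map_comp,
        Category.assoc]
      erw [EtOver.map_bcMap_fst hg (EtOver.bcMap hf k)]
      rw [compHomLeft_fst]
    · rw [Category.assoc, compHomLeft_snd, Category.assoc]
      erw [EtOver.bcMap_snd hg (EtOver.bcMap hf k)]
      rw [← Category.assoc, compHomLeft_snd]
      apply hf.hom_ext
      · rw [Functor.map_comp, Category.assoc, compInner_fst, ← Category.assoc, EtOver.map_bcMap_fst,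
          Functor.map_comp, Category.assoc, EtOver.map_bcMap_fst, compInner_fst]
      · rw [Category.assoc, compInner_snd, EtOver.bcMap_snd, Category.assoc, EtOver.bcMap_snd,
          ← Category.assoc, compInner_snd]))

theorem bcComp_hom_app_left_snd (V : EtOver Y) :
    ((bcComp hg hf hgf).hom.app V).hom.left ≫ hg.snd (hf.fst V.obj.hom) ≫ hf.snd V.obj.hom =
      hgf.snd V.obj.hom := by
  change compHomLeft hg hf hgf V ≫ _ ≫ _ = _
  rw [← Category.assoc, compHomLeft_snd, compInner_snd]

end Groth.Agent.Lib.Helper1.PF
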