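import Groth.Agent.Lib.Helper1.PF2

/-! # Direct and inverse images of modules along a composite of representable morphisms. -/

set_option autoImplicit false
set_option backward.isDefEq.respectTransparency false

universe u

open CategoryTheory CategoryTheory.Limits AlgebraicGeometry Opposite

namespace Groth.Agent.Lib.Helper1.PF

open AlgSp

variable {S : Scheme.{u}} {X Y Z : Sp S} {g : Z ⟶ X} {f : X ⟶ Y}
  (hg : Representable g) (hf : Representable f) (hgf : Representable (g ≫ f))

instance bc_comp_isContinuous : (EtOver.bc hf ⋙ EtOver.bc hg).IsContinuous (etTop Y) (etTop Z) :=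
  Functor.isContinuous_comp _ _ _ (etTop X) _

theorem bcRingHom_comp :
    (bcRingHom hf ≫ ((EtOver.bc hf).sheafPushforwardContinuous RingCat.{u + 1} (etTop Y) (etTop X)).map
      (bcRingHom hg)) ≫
      (Functor.sheafPushforwardContinuousNatTrans (bcComp hg hf hgf).hom RingCat.{u + 1} (etTop Y)
        (etTop Z)).app (OEtRing Z) = bcRingHom hgf := by
  ext V : 3
  change ((BigSite.ORing Scheme.etalePrecoverage S).obj.map (hf.snd V.unop.obj.hom).op ≫
    (BigSite.ORing Scheme.etalePrecoverage S).obj.map (hg.snd (hf.fst V.unop.obj.hom)).op) ≫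
    (BigSite.ORing Scheme.etalePrecoverage S).obj.map ((bcComp hg hf hgf).hom.app V.unop).hom.left.op =
      (BigSite.ORing Scheme.etalePrecoverage S).obj.map (hgf.snd V.unop.obj.hom).op
  rw [← Functor.map_comp, ← Functor.map_comp, ← op_comp, ← op_comp, bcComp_hom_app_left_snd]

/-- `f_* g_* ≅ (g ≫ f)_*` on modules -/
noncomputable def pushComp : pushModEt hg ⋙ pushModEt hf ≅ pushModEt hgf :=
  SheafOfModules.pushforwardComp (bcRingHom hf) (bcRingHom hg) ≪≫
    SheafOfModules.pushforwardCongr₂ _ (bcComp hg hf hgf) (bcRingHom_comp hg hf hgf)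

/-- `(g ≫ f)^* ≅ g^* f^*` for any choice of left adjoints -/
noncomputable def pullCompIso {Lf : ModEt Y ⥤ ModEt X} {Lg : ModEt X ⥤ ModEt Z} {Lgf : ModEt Y ⥤ ModEt Z}
    (af : Lf ⊣ pushModEt hf) (ag : Lg ⊣ pushModEt hg) (agf : Lgf ⊣ pushModEt hgf) : Lgf ≅ Lf ⋙ Lg :=
  agf.leftAdjointUniq ((af.comp ag).ofNatIsoRight (pushComp hg hf hgf))

end Groth.Agent.Lib.Helper1.PF
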