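import Groth.Agent.Lib.Helper1.PF3
import Mathlib.Algebra.Category.ModuleCat.Sheaf.PullbackFree

/-! # Base change to a scheme target is final; pullback of modules preserves global presentations. -/

set_option autoImplicit false
set_option backward.isDefEq.respectTransparency false

universe u

open CategoryTheory CategoryTheory.Limits AlgebraicGeometry Opposite

namespace Groth.Agent.Lib.Helper1.PF

open AlgSp

theorem final_of_isTerminal {C D : Type*} [Category C] [Category D] (F : C ⥤ D) {T : C}
    (hT : IsTerminal T) (hFT : IsTerminal (F.obj T)) : F.Final := by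
  have : (Functor.fromPUnit.{0} T).Final := Functor.final_fromPUnit_of_isTerminal hT
  have : (Functor.fromPUnit.{0} (F.obj T)).Final := Functor.final_fromPUnit_of_isTerminal hFT
  have : (Functor.fromPUnit.{0} T ⋙ F).Final :=
    Functor.final_of_natIso (F := Functor.fromPUnit.{0} (F.obj T)) (Discrete.natIso (fun _ => Iso.refl _))
  exact Functor.final_of_final_comp (Functor.fromPUnit.{0} T) F

variable {S : Scheme.{u}} (V₀ : Over S)

/-- the terminal object of the small étale site of a scheme -/
noncomputable abbrev topObj : EtOver ((yon S).obj V₀) :=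
  EtOver.mk (𝟙 ((yon S).obj V₀)) ((repWith_isMultiplicative (S := S) @Etale).id_mem _)

/-- it is terminal -/
noncomputable def isTerminalTopObj : IsTerminal (topObj V₀) :=
  IsTerminal.ofUniqueHom
    (fun E => EtOver.homMk (E' := topObj V₀) ((yon S).preimage E.obj.hom) (by
      change (yon S).map ((yon S).preimage E.obj.hom) ≫ 𝟙 _ = E.obj.hom
      rw [Functor.map_preimage, Category.comp_id]))
    (fun E k => EtOver.hom_ext _ _ (by
      apply (yon S).map_injective
      change _ = (yon S).map ((yon S).preimage E.obj.hom)
      rw [Functor.map_preimage, ← EtOver.w k]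
      exact (Category.comp_id _).symm))

variable {V₀} {X : Sp S} {f : X ⟶ (yon S).obj V₀} (hf : Representable f)

/-- its base change is terminal -/
noncomputable def isTerminalBcTopObj : IsTerminal ((EtOver.bc hf).obj (topObj V₀)) :=
  IsTerminal.ofUniqueHom
    (fun E => EtOver.homMk (E' := EtOver.bcObj hf (topObj V₀))
      (hf.lift E.obj.hom ((yon S).preimage (E.obj.hom ≫ f)) (by
        rw [Functor.map_preimage]; exact (Category.comp_id _).symm)) (hf.lift_fst _ _ _))
    (fun E k => EtOver.hom_ext _ _ (by
      apply hf.hom_ext
      · change _ = (yon S).map (hf.lift _ _ _) ≫ _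
        rw [hf.lift_fst]
        exact EtOver.w k
      · change _ = hf.lift _ _ _ ≫ _
        rw [hf.lift_snd]
        apply (yon S).map_injective
        rw [Functor.map_preimage, Functor.map_comp, ← EtOver.w k]
        change _ = ((yon S).map k.hom.left ≫ hf.fst (𝟙 _)) ≫ f
        rw [Category.assoc, hf.w, Category.comp_id]))

instance final_bc : (EtOver.bc hf).Final :=
  final_of_isTerminal _ (isTerminalTopObj V₀) (isTerminalBcTopObj hf)

end Groth.Agent.Lib.Helper1.PF
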