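import Groth.Agent.Lib.Helper1.PF4

/-! # Globally presented modules are quasi-coherent; pullback to a space over a scheme. -/

set_option autoImplicit false
set_option backward.isDefEq.respectTransparency false

universe u

open CategoryTheory CategoryTheory.Limits AlgebraicGeometry Opposite

namespace Groth.Agent.Lib.Helper1.PF

open AlgSp

variable {S : Scheme.{u}}

/-- on a small étale site with a terminal object, a globally presented module is quasi-coherent -/
theorem isQuasicoherent_of_presentation {X : Sp S} {T : EtOver X} (hT : IsTerminal T)
    {M : ModEt X} (P : M.Presentation) : M.IsQuasicoherent := by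
  have hadj : (SheafOfModules.overFunctor (OEtRing X) T).IsLeftAdjoint := by
    unfold SheafOfModules.overFunctor; infer_instance
  have hcol : PreservesColimitsOfSize.{u + 1, u + 1} (SheafOfModules.overFunctor (OEtRing X) T) :=
    inferInstance
  have hcov : (etTop X).CoversTop (fun _ : PUnit.{u + 2} => T) := fun W => by
    have : Sieve.ofObjects (fun _ : PUnit.{u + 2} => T) W = ⊤ := by
      ext Z g
      simp only [Sieve.top_apply, iff_true]
      exact ⟨PUnit.unit, ⟨hT.from Z⟩⟩
    rw [this]
    exact (etTop X).top_mem W
  exact (SheafOfModules.QuasicoherentData.mk (M := M) PUnit.{u + 2} (fun _ => T) hcov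
      (fun _ => P.map (SheafOfModules.overFunctor (OEtRing X) T) (Iso.refl _))).isQuasicoherent

variable {V₀ : Over S} {X : Sp S} {f : X ⟶ (yon S).obj V₀} (hf : Representable f)

/-- pullback to a space over a scheme of a globally presented module is quasi-coherent -/
theorem isQuasicoherent_pull_of_presentation
    [(SheafOfModules.pushforward.{u + 1} (bcRingHom hf)).IsRightAdjoint]
    {H : ModEt ((yon S).obj V₀)} (P : H.Presentation) :
    ((pullModEt hf).obj H).IsQuasicoherent := by
  have η : SheafOfModules.unit (OEtRing X) ≅ (pullModEt hf).obj (SheafOfModules.unit _) :=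
    (asIso (SheafOfModules.pullbackObjUnitToUnit (bcRingHom hf))).symm
  exact isQuasicoherent_of_presentation (isTerminalBcTopObj hf) (P.map (pullModEt hf) η)

end Groth.Agent.Lib.Helper1.PF
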