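import Groth.Agent.Lib.Helper1.PF5

/-! # `f^*` of a module presented over a chart `V` is quasi-coherent over `V ×_Y X`. -/

set_option autoImplicit false
set_option backward.isDefEq.respectTransparency false

universe u

open CategoryTheory CategoryTheory.Limits AlgebraicGeometry Opposite

namespace Groth.Agent.Lib.Helper1.PF

open AlgSp Groth.Agent.Lib.Helper1.PE

variable {S : Scheme.{u}} {U : Over S} {X Y : Sp S} (p : (yon S).obj U ⟶ Y) (hp : RepWith @Etale p)

/-- the slice equivalence of modules takes the structure sheaf to the structure sheaf -/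
noncomputable def modEquivUnitIso : SheafOfModules.unit (OEtRing ((yon S).obj U)) ≅
    (modEquiv p hp).functor.obj (SheafOfModules.unit (R2 p hp)) := by
  refine (SheafOfModules.fullyFaithfulForget _).preimageIso <| PresheafOfModules.isoMk (fun E => ?_) ?_
  · refine ModuleCat.isoMk (Iso.refl _) ?_
    intro r
    rfl
  · intro E E' g
    rfl

/-- a presentation over the chart gives a global presentation of the restriction to the chart -/
noncomputable def presentationResPost {G : ModEt Y} (P : (G.over (Ep p hp)).Presentation) :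
    ((resPost (hfp p hp)).obj G).Presentation :=
  (P.map (modEquiv p hp).functor (modEquivUnitIso p hp)).ofIsIso (isoA p hp G).hom

/-- direct images along equal morphisms -/
noncomputable def pushCongr {Z : Sp S} {a b : Z ⟶ Y} (e : a = b) (ha : Representable a) (hb : Representable b) :
    pushModEt ha ≅ pushModEt hb := by
  subst e
  exact Iso.refl _

variable {f : X ⟶ Y} (hf : Representable f)

theorem isQuasicoherent_resPost_bc {Lf : ModEt Y ⥤ ModEt X} (af : Lf ⊣ pushModEt hf) {G : ModEt Y}
    (P : (G.over (Ep p hp)).Presentation) :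
    ((resPost (hfp (hf.fst p) ((EtOver.bc hf).obj (Ep p hp)).property)).obj
      (Lf.obj G)).IsQuasicoherent := by
  have hs : RepWith @Etale (hf.fst p) := ((EtOver.bc hf).obj (Ep p hp)).property
  have hfV : Representable ((yon S).map (hf.snd p)) := representable_yon_map _
  haveI : (SheafOfModules.pushforward.{u + 1} (bcRingHom hfV)).IsRightAdjoint :=
    isRightAdjoint_pushforward _ _
  have h₁ : Representable (hf.fst p ≫ f) := MorphismProperty.comp_mem _ _ _ hs.1 hf
  have h₂ : Representable ((yon S).map (hf.snd p) ≫ p) := MorphismProperty.comp_mem _ _ _ hfV hp.1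
  let A₁ := (af.comp (resPostAdj hs.1 (hfp (hf.fst p) hs))).ofNatIsoRight (pushComp hs.1 hf h₁)
  let A₂ := ((resPostAdj hp.1 (hfp p hp)).comp (pullPushAdjModEt hfV)).ofNatIsoRight
    (pushComp hfV hp.1 h₂)
  let e : Lf ⋙ resPost (hfp (hf.fst p) hs) ≅ resPost (hfp p hp) ⋙ pullModEt hfV :=
    A₁.leftAdjointUniq (A₂.ofNatIsoRight (pushCongr (hf.w p) h₁ h₂).symm)
  have hq : ((pullModEt hfV).obj ((resPost (hfp p hp)).obj G)).IsQuasicoherent :=
    isQuasicoherent_pull_of_presentation hfV (presentationResPost p hp P)
  exact (SheafOfModules.isQuasicoherent (OEtRing ((yon S).obj (hf.pullback p)))).prop_of_iso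
    (e.app G).symm hq

end Groth.Agent.Lib.Helper1.PF
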