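import Groth.Agent.Lib.Helper1.PF6

/-! # `f^*` preserves quasi-coherence for a representable morphism of algebraic spaces. -/

set_option autoImplicit false
set_option backward.isDefEq.respectTransparency false

universe u

open CategoryTheory CategoryTheory.Limits AlgebraicGeometry Opposite

namespace Groth.Agent.Lib.Helper1.PF

open AlgSp Groth.Agent.Lib.Helper1.PE

variable {S : Scheme.{u}} {X Y : Sp S} {f : X ⟶ Y} (hf : Representable f)

/-- base change of a family covering the final object covers the final object -/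
theorem coversTop_bc {U₀ : Over S} (p₀ : (yon S).obj U₀ ⟶ Y) (hp₀ : RepWith @Etale p₀)
    (hs₀ : RepWith @Surjective p₀) {I : Type*} (V : I → EtOver Y) (hV : (etTop Y).CoversTop V) :
    (etTop X).CoversTop (fun i => (EtOver.bc hf).obj (V i)) := by
  intro E
  -- the atlas of `X` obtained by base change
  have hs : RepWith @Etale (hf.fst p₀) := ((EtOver.bc hf).obj (Ep p₀ hp₀)).property
  have hss : RepWith @Surjective (hf.fst p₀) :=
    MorphismProperty.of_isPullback (hf.isPullback p₀).flip hs₀
  have hB := coversTop_Ep (hf.fst p₀) hs hss E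
  refine (etTop X).transitive hB _ ?_
  rintro Z g ⟨_, ⟨b⟩⟩
  -- `b : Z ⟶ bc A`
  have hA : Sieve.ofObjects V (Ep p₀ hp₀) ∈ etTop Y (Ep p₀ hp₀) := hV _
  have hA' := (coverPreserving_bc hf).cover_preserve hA
  have hb : ((Sieve.ofObjects V (Ep p₀ hp₀)).functorPushforward (EtOver.bc hf)).pullback b ∈
      etTop X Z := (etTop X).pullback_stable b hA'
  refine (etTop X).superset_covering ?_ hb
  rintro Z' k ⟨V', a, c, ⟨i, ⟨t⟩⟩, _⟩
  exact ⟨i, ⟨c ≫ (EtOver.bc hf).map t⟩⟩

/-- any left adjoint of the direct image along a representable morphism to an algebraic space preserves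
quasi-coherence -/
theorem isQuasicoherent_leftAdjoint_obj (hY : IsAlgSpace Y) {Lf : ModEt Y ⥤ ModEt X}
    (af : Lf ⊣ pushModEt hf) (G : ModEt Y) (hG : G.IsQuasicoherent) : (Lf.obj G).IsQuasicoherent := by
  obtain ⟨U₀, p₀, hp₀, hs₀⟩ := hY.atlas
  obtain ⟨P⟩ := hG.nonempty_quasicoherentData
  have hcov := coversTop_bc hf p₀ hp₀ hs₀ P.X P.coversTop
  have h : ∀ i : P.I, ((Lf.obj G).over ((EtOver.bc hf).obj (P.X i))).IsQuasicoherent := fun i =>
    isQuasicoherent_over_Ep (hf.fst (P.X i).obj.hom) ((EtOver.bc hf).obj (P.X i)).property (Lf.obj G)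
      (isQuasicoherent_resPost_bc (P.X i).obj.hom (P.X i).property hf af (P.presentation i))
  exact @SheafOfModules.IsQuasicoherent.of_coversTop _ _ _ _ _ _ _ _ (Lf.obj G) _
    (fun i => (EtOver.bc hf).obj (P.X i)) hcov h

theorem isQuasicoherent_pullModEt (hY : IsAlgSpace Y)
    [(SheafOfModules.pushforward.{u + 1} (bcRingHom hf)).IsRightAdjoint]
    (G : ModEt Y) (hG : G.IsQuasicoherent) : ((pullModEt hf).obj G).IsQuasicoherent :=
  isQuasicoherent_leftAdjoint_obj hf hY (pullPushAdjModEt hf) G hG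

end Groth.Agent.Lib.Helper1.PF
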