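import Groth.Agent.Lib.Helper1.ExalSmall
import Groth.Agent.Lib.Helper1.ExalGen3

/-!
# Lifting maps from power series rings to extensions (helper1)

* `sub_truncTotal_mem`: a power series minus its truncation lies in `(X_1, …, X_d)^n`;
* `exists_lift_of_fiber`: a ring `E` with a surjection `E → R` and an ideal `𝔟` meeting the kernel trivially is the
  fibre product of `R` and `E ⧸ 𝔟`: compatible maps to `R` and `E ⧸ 𝔟` lift to `E`;
* `truncEval`: the truncated evaluation `Λ[[X]] → E ⧸ 𝔞^n` at elements spanning `𝔞`;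
* `exists_lift_powerSeries`: for an extension of a quotient `Λ[[X]] ⧸ J` of a power series ring over a Noetherian local
  ring by a simple module, the quotient map lifts to the middle ring.
-/

universe u

namespace Groth.Agent.Lib.Helper1.PSLift

open MvPowerSeries Groth.Agent.Lib.Helper10.ExalLib

section Trunc

variable {σ : Type*} [Finite σ] {Λ : Type*} [CommRing Λ]

lemma map_span_range_X :
    Ideal.map (toAdicCompletionAlgEquiv σ Λ).toRingEquiv (Ideal.span (Set.range X)) =
      (MvPolynomial.idealOfVars σ Λ).map (algebraMap (MvPolynomial σ Λ)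
        (AdicCompletion (MvPolynomial.idealOfVars σ Λ) (MvPolynomial σ Λ))) := by
  simp_rw [Ideal.map_span, ← Set.range_comp]
  congr 2; ext1
  simp [AdicCompletion.algebraMap_apply, ← MvPolynomial.coe_X, toAdicCompletion_coe]

/-- a power series whose truncation below total degree `n` vanishes lies in the `n`th power of the ideal of the
variables -/
lemma mem_pow_of_truncTotal_eq_zero (n : ℕ) (h : MvPowerSeries σ Λ) (hh : truncTotal n h = 0) :
    h ∈ (Ideal.span (Set.range (X : σ → MvPowerSeries σ Λ))) ^ n := by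
  have h1 : toAdicCompletionAlgEquiv σ Λ h ∈
      LinearMap.ker (AdicCompletion.eval (MvPolynomial.idealOfVars σ Λ) (MvPolynomial σ Λ) n) := by
    rw [LinearMap.mem_ker, AdicCompletion.eval_apply, toAdicCompletionAlgEquiv_apply,
      toAdicCompletion_apply_eq_mk_truncTotal, hh]
    rfl
  rw [← AdicCompletion.pow_smul_top_eq_ker_eval (MvPolynomial.idealOfVars_fg σ Λ),
    Ideal.smul_top_eq_map, Submodule.restrictScalars_mem, Ideal.map_pow, ← map_span_range_X,
    ← Ideal.map_pow] at h1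
  rw [Ideal.mem_map_iff_of_surjective _ (toAdicCompletionAlgEquiv σ Λ).toRingEquiv.surjective] at h1
  obtain ⟨y, hy, hyh⟩ := h1
  have : y = h := (toAdicCompletionAlgEquiv σ Λ).injective hyh
  rwa [this] at hy

/-- a power series minus its truncation lies in the `n`th power of the ideal of the variables -/
lemma sub_truncTotal_mem (n : ℕ) (f : MvPowerSeries σ Λ) :
    f - ((truncTotal n f : MvPolynomial σ Λ) : MvPowerSeries σ Λ) ∈
      (Ideal.span (Set.range (X : σ → MvPowerSeries σ Λ))) ^ n := by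
  apply mem_pow_of_truncTotal_eq_zero
  rw [map_sub, sub_eq_zero]
  ext x
  by_cases hx : Finsupp.degree x < n
  · rw [coeff_truncTotal _ hx, coeff_truncTotal _ hx, MvPolynomial.coeff_coe, coeff_truncTotal _ hx]
  · rw [coeff_truncTotal_eq_zero _ (not_lt.mp hx), coeff_truncTotal_eq_zero _ (not_lt.mp hx)]

end Trunc

section Fiber

variable {A P E R : Type*} [CommRing A] [CommRing P] [CommRing E] [CommRing R]
  [Algebra A P] [Algebra A E] [Algebra A R]

/-- `E` is the fibre product of `R` and `E ⧸ 𝔟` when `𝔟` meets the kernel of `E → R` trivially. -/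
theorem exists_lift_of_fiber (proj : E →ₐ[A] R) (𝔟 : Ideal E)
    (h𝔟 : ∀ x, proj x = 0 → x ∈ 𝔟 → x = 0)
    (g : P →ₐ[A] R) (v : P →ₐ[A] E ⧸ 𝔟)
    (hex : ∀ f, ∃ x : E, proj x = g f ∧ Ideal.Quotient.mk 𝔟 x = v f) :
    ∃ u : P →ₐ[A] E, (∀ f, proj (u f) = g f) ∧ ∀ f, Ideal.Quotient.mk 𝔟 (u f) = v f := by
  choose u hu1 hu2 using hex
  have huniq : ∀ x y : E, proj x = proj y → Ideal.Quotient.mk 𝔟 x = Ideal.Quotient.mk 𝔟 y → x = y := by
    intro x y h1 h2
    have := h𝔟 (x - y) (by rw [map_sub, h1, sub_self]) (Ideal.Quotient.eq.mp h2)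
    exact sub_eq_zero.mp this
  refine ⟨{ toFun := u
            map_one' := huniq _ _ (by rw [hu1, map_one, map_one]) (by rw [hu2, map_one, map_one])
            map_mul' := fun a b => huniq _ _ (by rw [hu1, map_mul, map_mul, hu1, hu1])
              (by rw [hu2, map_mul, map_mul, hu2, hu2])
            map_zero' := huniq _ _ (by rw [hu1, map_zero, map_zero]) (by rw [hu2, map_zero, map_zero])
            map_add' := fun a b => huniq _ _ (by rw [hu1, map_add, map_add, hu1, hu1])
              (by rw [hu2, map_add, map_add, hu2, hu2])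
            commutes' := fun a => huniq _ _ (by rw [hu1, AlgHom.commutes, AlgHom.commutes])
              (by rw [hu2, AlgHom.commutes]; rfl) }, hu1, hu2⟩

end Fiber

section TruncEval

variable {σ : Type*} [Finite σ] {Λ : Type*} [CommRing Λ] {E : Type*} [CommRing E] [Algebra Λ E]

lemma aeval_mem_pow (e : σ → E) (n : ℕ) (p : MvPolynomial σ Λ)
    (hp : p ∈ MvPolynomial.idealOfVars σ Λ ^ n) :
    MvPolynomial.aeval e p ∈ Ideal.span (Set.range e) ^ n := by
  have h1 : Ideal.map (MvPolynomial.aeval e : MvPolynomial σ Λ →ₐ[Λ] E) (MvPolynomial.idealOfVars σ Λ) ≤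
      Ideal.span (Set.range e) := by
    rw [MvPolynomial.idealOfVars, Ideal.map_span, Ideal.span_le]
    rintro _ ⟨_, ⟨i, rfl⟩, rfl⟩
    apply Ideal.subset_span
    exact ⟨i, by simp⟩
  have h2 := Ideal.mem_map_of_mem (MvPolynomial.aeval e : MvPolynomial σ Λ →ₐ[Λ] E) hp
  rw [Ideal.map_pow] at h2
  exact Ideal.pow_right_mono h1 n h2

/-- the polynomial evaluation modulo `𝔞^n`, on `Λ[X] ⧸ (X)^n` -/
noncomputable def polyEval (e : σ → E) (n : ℕ) :
    MvPolynomial σ Λ ⧸ MvPolynomial.idealOfVars σ Λ ^ n →+* E ⧸ Ideal.span (Set.range e) ^ n :=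
  Ideal.Quotient.lift _ ((Ideal.Quotient.mk (Ideal.span (Set.range e) ^ n)).comp
    (MvPolynomial.aeval e : MvPolynomial σ Λ →ₐ[Λ] E).toRingHom) (fun p hp => by
      rw [RingHom.comp_apply]
      exact Ideal.Quotient.eq_zero_iff_mem.mpr (aeval_mem_pow e n p hp))

/-- the truncated evaluation `Λ[[X]] → E ⧸ 𝔞^n`, `𝔞 = (e_1, …, e_d)`. -/
noncomputable def truncEval (e : σ → E) (n : ℕ) :
    MvPowerSeries σ Λ →ₐ[Λ] E ⧸ Ideal.span (Set.range e) ^ n :=
  { toRingHom := (polyEval e n).comp (truncTotalAlgHom σ Λ n).toRingHom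
    commutes' := fun a => by
      change polyEval e n (Ideal.Quotient.mk _ (truncTotal n (algebraMap Λ (MvPowerSeries σ Λ) a))) = _
      have h1 : (algebraMap Λ (MvPowerSeries σ Λ) a) =
          ((MvPolynomial.C a : MvPolynomial σ Λ) : MvPowerSeries σ Λ) := by
        rw [MvPolynomial.coe_C]; rfl
      have h2 := (truncTotalAlgHom σ Λ n).commutes (MvPolynomial.C a : MvPolynomial σ Λ)
      change Ideal.Quotient.mk _ (truncTotal n ((MvPolynomial.C a : MvPolynomial σ Λ) : MvPowerSeries σ Λ)) =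
        Ideal.Quotient.mk _ (MvPolynomial.C a) at h2
      rw [h1, h2, polyEval, Ideal.Quotient.lift_mk, RingHom.comp_apply]
      change Ideal.Quotient.mk _ (MvPolynomial.aeval e (MvPolynomial.C a)) = _
      rw [MvPolynomial.aeval_C]
      rfl }

lemma truncEval_apply (e : σ → E) (n : ℕ) (f : MvPowerSeries σ Λ) :
    truncEval e n f = Ideal.Quotient.mk _ (MvPolynomial.aeval e (truncTotal n f)) := rfl

end TruncEval

section Simple

variable {Λ : Type u} {R L : Type u} [CommRing Λ] [CommRing R] [Algebra Λ R] [AddCommGroup L]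
  [Module R L] [IsSimpleModule R L]
variable (X : Exal.Ext Λ R L)

lemma exists_mul_incl_eq (l₀ : L) (hl₀ : l₀ ≠ 0) (z : L) : ∃ e : X.E, X.incl z = e * X.incl l₀ := by
  obtain ⟨r, hr⟩ := IsSimpleModule.toSpanSingleton_surjective R hl₀ z
  obtain ⟨e, rfl⟩ := X.isExtension.proj_surjective r
  refine ⟨e, ?_⟩
  rw [X.isExtension.mul_incl, ← hr]
  rfl

lemma ker_proj_eq_span_of_simple (l₀ : L) (hl₀ : l₀ ≠ 0) :
    RingHom.ker (X.proj : X.E →+* R) = Ideal.span {X.incl l₀} := by
  apply le_antisymm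
  · intro x hx
    obtain ⟨z, rfl⟩ := (X.isExtension.exact x).1 hx
    obtain ⟨e, he⟩ := exists_mul_incl_eq X l₀ hl₀ z
    rw [he]
    exact Ideal.mul_mem_left _ _ (Ideal.subset_span rfl)
  · rw [Ideal.span_le]
    rintro _ rfl
    exact proj_incl X l₀

lemma isNoetherianRing_E_of_simple [IsNoetherianRing R] : IsNoetherianRing X.E := by
  have : Nontrivial L := IsSimpleModule.nontrivial R L
  obtain ⟨l₀, hl₀⟩ := exists_ne (0 : L)
  have e : (X.E ⧸ RingHom.ker (X.proj : X.E →+* R)) ≃+* R :=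
    RingHom.quotientKerEquivOfSurjective X.isExtension.proj_surjective
  haveI : IsNoetherianRing (X.E ⧸ RingHom.ker (X.proj : X.E →+* R)) :=
    isNoetherianRing_of_ringEquiv R e.symm
  refine isNoetherianRing_of_quotient_of_fg_of_nilpotent (RingHom.ker (X.proj : X.E →+* R)) ?_ 2 ?_
  · rw [ker_proj_eq_span_of_simple X l₀ hl₀]
    exact ⟨{X.incl l₀}, by simp⟩
  · rw [ker_proj_eq_span_of_simple X l₀ hl₀, Ideal.span_singleton_pow, pow_two, incl_mul_incl]
    simp

/-- Krull: a proper ideal of the middle ring of an extension of a Noetherian local ring by a simple module has a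
power meeting the kernel trivially. -/
lemma exists_pow_inf_ker_eq_bot [IsNoetherianRing R] [IsLocalRing R] (𝔞 : Ideal X.E) (h𝔞 : 𝔞 ≠ ⊤) :
    ∃ n : ℕ, ∀ x : X.E, X.proj x = 0 → x ∈ 𝔞 ^ n → x = 0 := by
  have : Nontrivial L := IsSimpleModule.nontrivial R L
  obtain ⟨l₀, hl₀⟩ := exists_ne (0 : L)
  have : IsLocalRing X.E := ExalSmall.isLocalRing_E X
  have : IsNoetherianRing X.E := isNoetherianRing_E_of_simple X
  have hK := Ideal.iInf_pow_eq_bot_of_isLocalRing 𝔞 h𝔞
  have hn : ∃ n : ℕ, X.incl l₀ ∉ 𝔞 ^ n := by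
    by_contra hcon
    simp only [not_exists, not_not] at hcon
    have : X.incl l₀ ∈ ⨅ i, 𝔞 ^ i := by
      rw [Ideal.mem_iInf]
      exact hcon
    rw [hK, Ideal.mem_bot] at this
    exact hl₀ (X.isExtension.incl_injective (by rw [this, map_zero]))
  obtain ⟨n, hn⟩ := hn
  refine ⟨n, fun x hx hxn => ?_⟩
  obtain ⟨z, rfl⟩ := (X.isExtension.exact x).1 hx
  by_cases hz : z = 0
  · rw [hz, map_zero]
  · exfalso
    obtain ⟨e, he⟩ := exists_mul_incl_eq X z hz l₀
    apply hn
    rw [he]
    exact Ideal.mul_mem_left _ _ hxn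

end Simple

section Main

variable {σ : Type} {Λ : Type u} [CommRing Λ] [IsLocalRing Λ]

lemma not_isUnit_X (i : σ) : ¬ IsUnit (X i : MvPowerSeries σ Λ) := by
  rw [MvPowerSeries.isUnit_iff_constantCoeff]
  simp

variable [Finite σ] [IsNoetherianRing Λ]

/-- For a `Λ`-extension of a quotient `Λ[[X]] ⧸ J` of a power series ring over a Noetherian local ring by a simple
module, the quotient map lifts to a `Λ`-algebra map to the middle ring. -/
theorem exists_lift_powerSeries (J : Ideal (MvPowerSeries σ Λ)) (L : Type u) [AddCommGroup L]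
    [Module (MvPowerSeries σ Λ ⧸ J) L] [IsSimpleModule (MvPowerSeries σ Λ ⧸ J) L]
    (Y : Exal.Ext Λ (MvPowerSeries σ Λ ⧸ J) L) :
    ∃ u : MvPowerSeries σ Λ →ₐ[Λ] Y.E, ∀ p, Y.proj (u p) = Ideal.Quotient.mk J p := by
  classical
  have hntL : Nontrivial L := IsSimpleModule.nontrivial (MvPowerSeries σ Λ ⧸ J) L
  have hntR : Nontrivial (MvPowerSeries σ Λ ⧸ J) := Module.nontrivial (MvPowerSeries σ Λ ⧸ J) L
  have hlocR : IsLocalRing (MvPowerSeries σ Λ ⧸ J) :=
    IsLocalRing.of_surjective' (Ideal.Quotient.mk J) Ideal.Quotient.mk_surjective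
  have hlocE : IsLocalRing Y.E := ExalSmall.isLocalRing_E Y
  have hlh : IsLocalHom (Ideal.Quotient.mk J) :=
    IsLocalHom.of_surjective (Ideal.Quotient.mk J) Ideal.Quotient.mk_surjective
  choose e he using fun i : σ => Y.isExtension.proj_surjective (Ideal.Quotient.mk J (X i))
  have h𝔞 : Ideal.span (Set.range e) ≠ ⊤ := by
    intro htop
    have hle : Ideal.span (Set.range e) ≤ IsLocalRing.maximalIdeal Y.E := by
      rw [Ideal.span_le]
      rintro _ ⟨i, rfl⟩
      change e i ∈ IsLocalRing.maximalIdeal Y.E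
      rw [IsLocalRing.mem_maximalIdeal, mem_nonunits_iff]
      intro hu
      have h1 : IsUnit (Y.proj (e i)) := hu.map Y.proj
      rw [he] at h1
      exact not_isUnit_X i (hlh.map_nonunit _ h1)
    rw [htop, top_le_iff] at hle
    exact (IsLocalRing.maximalIdeal.isMaximal Y.E).ne_top hle
  obtain ⟨n, hn⟩ := exists_pow_inf_ker_eq_bot Y _ h𝔞
  -- compatibility on polynomials
  have hpoly : ∀ p : MvPolynomial σ Λ, Y.proj (MvPolynomial.aeval e p) =
      Ideal.Quotient.mk J (p : MvPowerSeries σ Λ) := by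
    intro p
    have h1 : Y.proj.comp (MvPolynomial.aeval e) =
        (Ideal.Quotient.mkₐ Λ J).comp (MvPolynomial.coeToMvPowerSeries.algHom Λ) := by
      apply MvPolynomial.algHom_ext
      intro i
      simp only [AlgHom.comp_apply, MvPolynomial.aeval_X, he]
      simp [MvPolynomial.coeToMvPowerSeries.algHom_apply]
    exact DFunLike.congr_fun h1 p
  have hmap : Ideal.map (Ideal.Quotient.mk J) (Ideal.span (Set.range (X : σ → MvPowerSeries σ Λ))) =
      Ideal.map (Y.proj : Y.E →+* _) (Ideal.span (Set.range e)) := by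
    rw [Ideal.map_span, Ideal.map_span, ← Set.range_comp, ← Set.range_comp]
    congr 2
    funext i
    exact (he i).symm
  refine (exists_lift_of_fiber Y.proj (Ideal.span (Set.range e) ^ n) hn (Ideal.Quotient.mkₐ Λ J)
    (truncEval e n) (fun f => ?_)).imp (fun u hu => hu.1)
  have h0 : f - ((truncTotal n f : MvPolynomial σ Λ) : MvPowerSeries σ Λ) ∈
      (Ideal.span (Set.range (MvPowerSeries.X : σ → MvPowerSeries σ Λ))) ^ n := sub_truncTotal_mem n f
  have h1 : Ideal.Quotient.mk J (f - ((truncTotal n f : MvPolynomial σ Λ) : MvPowerSeries σ Λ)) ∈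
      Ideal.map (Ideal.Quotient.mk J) ((Ideal.span (Set.range (MvPowerSeries.X : σ → MvPowerSeries σ Λ))) ^ n) :=
    Ideal.mem_map_of_mem (Ideal.Quotient.mk J) h0
  have h2 : Ideal.map (Ideal.Quotient.mk J) ((Ideal.span (Set.range (MvPowerSeries.X : σ → MvPowerSeries σ Λ))) ^ n)
      = Ideal.map (Y.proj : Y.E →+* _) (Ideal.span (Set.range e) ^ n) := by
    rw [Ideal.map_pow, hmap, ← Ideal.map_pow]
  rw [h2] at h1
  have hs : Function.Surjective (Y.proj : Y.E →+* MvPowerSeries σ Λ ⧸ J) := Y.isExtension.proj_surjective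
  obtain ⟨a, ha, hah⟩ := (Ideal.mem_map_iff_of_surjective _ hs).mp h1
  refine ⟨MvPolynomial.aeval e (truncTotal n f) + a, ?_, ?_⟩
  · have h3 : Y.proj a = Ideal.Quotient.mk J (f - ((truncTotal n f : MvPolynomial σ Λ) : MvPowerSeries σ Λ)) :=
      hah
    rw [map_add, hpoly, h3, ← map_add]
    rw [add_sub_cancel]
    rfl
  · rw [map_add, Ideal.Quotient.eq_zero_iff_mem.mpr ha, add_zero, truncEval_apply]

end Main

end Groth.Agent.Lib.Helper1.PSLift
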