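import Groth.Agent.Lib.Helper1.AbsSeg
import Groth.Agent.Lib.Helper1.NACI

/-!
# Base change of an inverse system over `S` along a morphism `X ⟶ S` (helper1)
-/

set_option autoImplicit false
set_option linter.unusedSectionVars false
set_option linter.style.haveILetI false
universe u v w

namespace Groth.Agent.Lib.Helper1.PbSys

open AlgebraicGeometry CategoryTheory CategoryTheory.Limits TopologicalSpace Opposite

section

variable {J : Type v} [Category.{w} J] (D : J ⥤ Scheme.{u}) {S X : Scheme.{u}}
  (s : D ⟶ (Functor.const J).obj S) (f : X ⟶ S) (c : Cone D) (g : c.pt ⟶ S)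
  (hg : ∀ j, c.π.app j ≫ s.app j = g)

lemma map_s {j j' : J} (a : j ⟶ j') : D.map a ≫ s.app j' = s.app j := by
  have := s.naturality a
  simp only [Functor.const_obj_obj, Functor.const_obj_map, Category.comp_id] at this
  exact this

/-- The base-changed stage `X ×_S D_j`. -/
noncomputable abbrev pbY (j : J) : Scheme.{u} := pullback f (s.app j)

/-- The transition maps of the base-changed system. -/
noncomputable def pbMap {j j' : J} (a : j ⟶ j') : pbY D s f j ⟶ pbY D s f j' :=
  pullback.lift (pullback.fst _ _) (pullback.snd _ _ ≫ D.map a)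
    (by rw [pullback.condition, Category.assoc, map_s])

@[reassoc]
lemma pbMap_fst {j j' : J} (a : j ⟶ j') :
    pbMap D s f a ≫ pullback.fst f (s.app j') = pullback.fst f (s.app j) :=
  pullback.lift_fst _ _ _

@[reassoc]
lemma pbMap_snd {j j' : J} (a : j ⟶ j') :
    pbMap D s f a ≫ pullback.snd f (s.app j') = pullback.snd f (s.app j) ≫ D.map a :=
  pullback.lift_snd _ _ _

/-- The base-changed system. -/
noncomputable def pbD : J ⥤ Scheme.{u} where
  obj j := pbY D s f j
  map a := pbMap D s f a
  map_id j := by
    apply pullback.hom_ext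
    · rw [pbMap_fst, Category.id_comp]
    · rw [pbMap_snd, D.map_id, Category.id_comp]; exact Category.comp_id _
  map_comp a a' := by
    apply pullback.hom_ext
    · rw [Category.assoc, pbMap_fst, pbMap_fst, pbMap_fst]
    · rw [Category.assoc, pbMap_snd, pbMap_snd, pbMap_snd_assoc, D.map_comp]

/-- The projections to the original system. -/
noncomputable def pbψ : pbD D s f ⟶ D where
  app j := pullback.snd f (s.app j)
  naturality _ _ a := pbMap_snd D s f a

lemma pb_isPullback {j j' : J} (a : j ⟶ j') :
    IsPullback ((pbD D s f).map a) ((pbψ D s f).app j) ((pbψ D s f).app j') (D.map a) := by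
  have hbig : IsPullback (pbMap D s f a ≫ pullback.fst f (s.app j'))
      (pullback.snd f (s.app j)) f (D.map a ≫ s.app j') := by
    rw [pbMap_fst, map_s]
    exact IsPullback.of_hasPullback _ _
  exact IsPullback.of_right hbig (pbMap_snd D s f a) (IsPullback.of_hasPullback _ _)

instance isAffineHom_pbD_map [∀ {j j' : J} (a : j ⟶ j'), IsAffineHom (D.map a)] {j j' : J}
    (a : j ⟶ j') : IsAffineHom ((pbD D s f).map a) :=
  MorphismProperty.of_isPullback (pb_isPullback D s f a).flip inferInstance

include hg in
lemma pbLeg_aux (j : J) :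
    pullback.fst f g ≫ f = (pullback.snd f g ≫ c.π.app j) ≫ s.app j := by
  rw [pullback.condition, Category.assoc, hg]

/-- The legs of the cone over the base-changed system. -/
noncomputable def pbLeg (j : J) : pullback f g ⟶ pbY D s f j :=
  pullback.lift (pullback.fst _ _) (pullback.snd _ _ ≫ c.π.app j) (pbLeg_aux D s f c g hg j)

@[reassoc]
lemma pbLeg_fst (j : J) :
    pbLeg D s f c g hg j ≫ pullback.fst f (s.app j) = pullback.fst f g :=
  pullback.lift_fst _ _ _

@[reassoc]
lemma pbLeg_snd (j : J) :
    pbLeg D s f c g hg j ≫ pullback.snd f (s.app j) = pullback.snd f g ≫ c.π.app j :=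
  pullback.lift_snd _ _ _

@[reassoc]
lemma pbLeg_map {j j' : J} (a : j ⟶ j') :
    pbLeg D s f c g hg j ≫ pbMap D s f a = pbLeg D s f c g hg j' := by
  apply pullback.hom_ext
  · rw [Category.assoc, pbMap_fst, pbLeg_fst, pbLeg_fst]
  · rw [Category.assoc, pbMap_snd, pbLeg_snd_assoc, pbLeg_snd]
    congr 1
    exact c.w a

/-- The cone over the base-changed system. -/
noncomputable def pbCone : Cone (pbD D s f) where
  pt := pullback f g
  π :=
    { app := fun j => pbLeg D s f c g hg j
      naturality := fun j j' a => by
        change 𝟙 _ ≫ pbLeg D s f c g hg j' = pbLeg D s f c g hg j ≫ pbMap D s f a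
        rw [Category.id_comp, pbLeg_map] }

lemma pbCone_isPullback (j : J) :
    IsPullback (pbLeg D s f c g hg j) (pullback.snd f g) (pullback.snd f (s.app j))
      (c.π.app j) := by
  have hbig : IsPullback (pbLeg D s f c g hg j ≫ pullback.fst f (s.app j))
      (pullback.snd f g) f (c.π.app j ≫ s.app j) := by
    rw [pbLeg_fst, hg]
    exact IsPullback.of_hasPullback _ _
  exact IsPullback.of_right hbig (pbLeg_snd D s f c g hg j) (IsPullback.of_hasPullback _ _)

/-- The base-changed cone is a limit cone. -/
noncomputable def isLimitPbCone [IsConnected J] (hc : IsLimit c) :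
    IsLimit (pbCone D s f c g hg) :=
  isLimitOfIsPullbackOfIsConnected (pbψ D s f) _ c
    { hom := pullback.snd f g
      w := fun j => (pbLeg_snd D s f c g hg j).symm }
    (fun j => pbCone_isPullback D s f c g hg j) hc

end

end Groth.Agent.Lib.Helper1.PbSys
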