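import Groth.Agent.Lib.Helper1.PbSys

/-!
# Spreading out an open neighbourhood of a fibre in a limit of base changes (helper1)
-/

set_option autoImplicit false
set_option linter.unusedSectionVars false
set_option linter.style.haveILetI false
universe u

namespace Groth.Agent.Lib.Helper1.PbSys

open AlgebraicGeometry CategoryTheory CategoryTheory.Limits TopologicalSpace Opposite

section

variable {I : Type u} [Preorder I] [IsDirected I (fun a b => a ≤ b)] [Nonempty I]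
  (D : Iᵒᵖ ⥤ Scheme.{u}) [∀ {j j' : Iᵒᵖ} (a : j ⟶ j'), IsAffineHom (D.map a)]
  {S X : Scheme.{u}}
  (s : D ⟶ (Functor.const Iᵒᵖ).obj S) (f : X ⟶ S) (c : Cone D) (g : c.pt ⟶ S)
  (hg : ∀ j, c.π.app j ≫ s.app j = g)

/-- A stage of the system together with an open whose preimage lies in `W`. -/
structure Stage (W : (pullback f g).Opens) (i₀ : I) where
  i : I
  hi : i₀ ≤ i
  O : (pbY D s f (op i)).Opens
  h : pbLeg D s f c g hg (op i) ⁻¹ᵁ O ≤ W

lemma preimage_pbMap {i k : I} (hik : i ≤ k) (O : (pbY D s f (op i)).Opens) :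
    pbLeg D s f c g hg (op k) ⁻¹ᵁ (pbMap D s f (homOfLE hik).op ⁻¹ᵁ O) =
      pbLeg D s f c g hg (op i) ⁻¹ᵁ O := by
  rw [← Scheme.Hom.comp_preimage, pbLeg_map]

theorem exists_stage_of_fibre_le [QuasiCompact f] (hc : IsLimit c) (t : c.pt)
    (W : (pullback f g).Opens) (hW : ∀ z, (pullback.snd f g).base z = t → z ∈ W) (i₀ : I) :
    ∃ (i : I) (_ : i₀ ≤ i) (O : (pbY D s f (op i)).Opens),
      pbLeg D s f c g hg (op i) ⁻¹ᵁ O ≤ W ∧
      ∀ z', (pullback.snd f (s.app (op i))).base z' = (c.π.app (op i)).base t → z' ∈ O := by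
  classical
  have hcomp : IsCompact ((pullback.snd f g).base ⁻¹' {t}) :=
    Scheme.Hom.isCompact_preimage_singleton _ t
  haveI : IsCofiltered Iᵒᵖ := inferInstance
  haveI : IsConnected Iᵒᵖ := IsCofiltered.isConnected Iᵒᵖ
  have hbasis := isBasis_preimage_isAffineOpen (pbD D s f) (pbCone D s f c g hg)
    (isLimitPbCone D s f c g hg hc)
  haveI : Nonempty (Stage D s f c g hg W i₀) := ⟨⟨i₀, le_rfl, ⊥, by simp⟩⟩
  obtain ⟨p, hp⟩ := hcomp.elim_directed_cover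
    (fun p : Stage D s f c g hg W i₀ => SetLike.coe (pbLeg D s f c g hg (op p.i) ⁻¹ᵁ p.O))
    (fun p => (pbLeg D s f c g hg (op p.i) ⁻¹ᵁ p.O).isOpen)
    (by
      intro z hz
      have hzW : z ∈ W := hW z hz
      obtain ⟨U', ⟨j, V, hV, rfl⟩, hzU', hU'W⟩ :=
        (TopologicalSpace.Opens.isBasis_iff_nbhd.mp hbasis) hzW
      obtain ⟨k, hk1, hk2⟩ := exists_ge_ge i₀ j.unop
      refine Set.mem_iUnion.mpr ⟨⟨k, hk1, pbMap D s f (homOfLE hk2).op ⁻¹ᵁ V, ?_⟩, ?_⟩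
      · rw [preimage_pbMap]; exact hU'W
      · change z ∈ pbLeg D s f c g hg (op k) ⁻¹ᵁ (pbMap D s f (homOfLE hk2).op ⁻¹ᵁ V)
        rw [preimage_pbMap]; exact hzU')
    (by
      intro p q
      obtain ⟨k, hk1, hk2⟩ := exists_ge_ge p.i q.i
      refine ⟨⟨k, p.hi.trans hk1, pbMap D s f (homOfLE hk1).op ⁻¹ᵁ p.O ⊔
        pbMap D s f (homOfLE hk2).op ⁻¹ᵁ q.O, ?_⟩, ?_, ?_⟩
      · rw [Scheme.Hom.preimage_sup, preimage_pbMap, preimage_pbMap]
        exact sup_le p.h q.h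
      · change SetLike.coe (pbLeg D s f c g hg (op p.i) ⁻¹ᵁ p.O) ⊆
          SetLike.coe (pbLeg D s f c g hg (op k) ⁻¹ᵁ (pbMap D s f (homOfLE hk1).op ⁻¹ᵁ p.O ⊔
            pbMap D s f (homOfLE hk2).op ⁻¹ᵁ q.O))
        rw [Scheme.Hom.preimage_sup, preimage_pbMap, preimage_pbMap]
        exact SetLike.coe_subset_coe.mpr le_sup_left
      · change SetLike.coe (pbLeg D s f c g hg (op q.i) ⁻¹ᵁ q.O) ⊆
          SetLike.coe (pbLeg D s f c g hg (op k) ⁻¹ᵁ (pbMap D s f (homOfLE hk1).op ⁻¹ᵁ p.O ⊔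
            pbMap D s f (homOfLE hk2).op ⁻¹ᵁ q.O))
        rw [Scheme.Hom.preimage_sup, preimage_pbMap, preimage_pbMap]
        exact SetLike.coe_subset_coe.mpr le_sup_right)
  refine ⟨p.i, p.hi, p.O, p.h, ?_⟩
  intro z' hz'
  obtain ⟨z, hz1, hz2⟩ := Scheme.exists_preimage_of_isPullback
    (pbCone_isPullback D s f c g hg (op p.i)) z' t hz'
  have : z ∈ pbLeg D s f c g hg (op p.i) ⁻¹ᵁ p.O := hp hz2
  rw [← hz1]
  exact this

end

end Groth.Agent.Lib.Helper1.PbSys
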