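import Mathlib

/-!
# Gluing morphisms along `{U, Spec 𝒪_{X,x}}` for a closed point `x` with `U = X ∖ {x}` (helper1)

The family `{U ⟶ X, Spec 𝒪_{X,x} ⟶ X}` is an fpqc covering when `U ⟶ X` is quasi-compact, and
representable functors are fpqc sheaves.
-/

set_option autoImplicit false
set_option linter.unusedSectionVars false
universe u

namespace Groth.Agent.Lib.Helper1.PtGlue

open AlgebraicGeometry CategoryTheory CategoryTheory.Limits TopologicalSpace Opposite

theorem flat_fromSpecStalk (X : Scheme.{u}) (x : X) : Flat (X.fromSpecStalk x) := by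
  obtain ⟨_, ⟨U, hU : IsAffineOpen U, rfl⟩, hxU, -⟩ :=
    X.isBasis_affineOpens.exists_subset_of_mem_open (Set.mem_univ x) isOpen_univ
  rw [← hU.fromSpecStalk_eq_fromSpecStalk hxU]
  unfold IsAffineOpen.fromSpecStalk
  have h1 : Flat (Spec.map (X.presheaf.germ U x hxU)) := by
    rw [Flat.SpecMap_iff]
    let _ := X.presheaf.algebra_section_stalk ⟨x, hxU⟩
    have hloc := hU.isLocalization_stalk ⟨x, hxU⟩
    have : Module.Flat Γ(X, U) (X.presheaf.stalk x) :=
      IsLocalization.flat _ (hU.primeIdealOf ⟨x, hxU⟩).asIdeal.primeCompl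
    exact this
  infer_instance

/-- separatedness of representables for fpqc covering sieves, in morphism form -/
theorem sep {A Z : Scheme.{u}} (R : Sieve A) (hR : R ∈ Scheme.fpqcTopology A) (t₁ t₂ : A ⟶ Z)
    (h : ∀ ⦃T : Scheme.{u}⦄ (m : T ⟶ A), R m → m ≫ t₁ = m ≫ t₂) : t₁ = t₂ := by
  have hs : Presieve.IsSheaf Scheme.fpqcTopology (yoneda.obj Z) :=
    GrothendieckTopology.Subcanonical.isSheaf_of_isRepresentable (yoneda.obj Z)
  exact (hs R hR).isSeparatedFor.ext (t₁ := t₁) (t₂ := t₂) (fun T m hm => h m hm)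

/-- gluing of morphisms along an fpqc covering sieve -/
theorem glue {A Z : Scheme.{u}} (R : Sieve A) (hR : R ∈ Scheme.fpqcTopology A)
    (fam : ∀ ⦃T : Scheme.{u}⦄ (m : T ⟶ A), R m → (T ⟶ Z))
    (compat : ∀ ⦃T₁ T₂ T' : Scheme.{u}⦄ (k₁ : T' ⟶ T₁) (k₂ : T' ⟶ T₂) (m₁ : T₁ ⟶ A) (m₂ : T₂ ⟶ A)
      (hm₁ : R m₁) (hm₂ : R m₂), k₁ ≫ m₁ = k₂ ≫ m₂ → k₁ ≫ fam m₁ hm₁ = k₂ ≫ fam m₂ hm₂) :
    ∃ t : A ⟶ Z, ∀ ⦃T : Scheme.{u}⦄ (m : T ⟶ A) (hm : R m), m ≫ t = fam m hm := by
  have hs : Presieve.IsSheaf Scheme.fpqcTopology (yoneda.obj Z) :=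
    GrothendieckTopology.Subcanonical.isSheaf_of_isRepresentable (yoneda.obj Z)
  let x : Presieve.FamilyOfElements (yoneda.obj Z) R.arrows := fun T m hm => fam m hm
  have hx : x.Compatible := by
    intro T₁ T₂ T' k₁ k₂ m₁ m₂ hm₁ hm₂ e
    exact compat k₁ k₂ m₁ m₂ hm₁ hm₂ e
  exact ⟨(hs R hR).amalgamate x hx, fun T m hm => (hs R hR).valid_glue hx m hm⟩

section

variable {X : Scheme.{u}} (x : X) (U : X.Opens)

/-- The index type of the two-element family. -/
abbrev J : Type u := PUnit.{u + 1} ⊕ PUnit.{u + 1}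

/-- The objects of the family. -/
noncomputable def obj : J.{u} → Scheme.{u}
  | .inl _ => U
  | .inr _ => Spec (X.presheaf.stalk x)

/-- The maps of the family. -/
noncomputable def map : (j : J.{u}) → obj x U j ⟶ X
  | .inl _ => U.ι
  | .inr _ => X.fromSpecStalk x

instance (j : J.{u}) : Flat (map x U j) := by
  rcases j with ⟨⟩ | ⟨⟩
  · change Flat U.ι; infer_instance
  · exact flat_fromSpecStalk X x

instance (j : J.{u}) : Mono (map x U j) := by
  rcases j with ⟨⟩ | ⟨⟩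
  · change Mono U.ι; infer_instance
  · change Mono (X.fromSpecStalk x); infer_instance

variable (hU : (U : Set X) = {x}ᶜ)

include hU in
lemma covers (y : X) : ∃ (j : J.{u}) (z : obj x U j), map x U j z = y := by
  by_cases hy : y = x
  · subst hy
    exact ⟨.inr ⟨⟩, IsLocalRing.closedPoint _, Scheme.fromSpecStalk_closedPoint⟩
  · have hyU : y ∈ U := by
      change y ∈ (U : Set X); rw [hU]; exact hy
    exact ⟨.inl ⟨⟩, ⟨y, hyU⟩, rfl⟩

/-- The cover. -/
noncomputable def cov : Scheme.Cover.{u} (Scheme.precoverage @Flat) X :=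
  Scheme.Cover.mkOfCovers J.{u} (obj x U) (map x U) (covers x U hU) (fun j => inferInstance)

variable [QuasiCompact U.ι]

include hU in
lemma quasiCompactCover_cov : QuasiCompactCover (cov x U hU).toPreZeroHypercover where
  isCompactOpenCovered_of_isAffineOpen {W} hW := by
    classical
    let V : ∀ j : J.{u}, (obj x U j).Opens := fun j =>
      match j with
      | .inl _ => (U.ι ⁻¹ᵁ W : (U : Scheme.{u}).Opens)
      | .inr _ => if x ∈ W then (⊤ : (Spec (X.presheaf.stalk x)).Opens) else ⊥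
    refine IsCompactOpenCovered.of_finite (κ := J.{u}) (a := id) V ?_ ?_
    · rintro (⟨⟩ | ⟨⟩)
      · exact U.ι.isCompact_preimage hW.isCompact
      · by_cases hx : x ∈ W
        · simp only [V, hx, if_true]
          exact (isCompact_univ (X := Spec (X.presheaf.stalk x)))
        · simp only [V, hx, if_false]
          exact isCompact_empty
    · apply Set.Subset.antisymm
      · intro y hy
        simp only [Set.mem_iUnion] at hy
        obtain ⟨j, z, hz, rfl⟩ := hy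
        rcases j with ⟨⟩ | ⟨⟩
        · exact hz
        · by_cases hx : x ∈ W
          · have hzx : (X.fromSpecStalk x) z ⤳ x := by
              have : (X.fromSpecStalk x) z ∈ Set.range (X.fromSpecStalk x) := ⟨z, rfl⟩
              rw [Scheme.range_fromSpecStalk] at this
              exact this
            exact hzx.mem_open W.2 hx
          · simp only [V, hx, if_false] at hz
            exact absurd hz (Set.notMem_empty _)
      · intro y hy
        simp only [Set.mem_iUnion]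
        by_cases hyx : y = x
        · subst hyx
          refine ⟨.inr ⟨⟩, IsLocalRing.closedPoint _, ?_, Scheme.fromSpecStalk_closedPoint⟩
          simp only [V, show y ∈ W from hy, if_true]
          trivial
        · have hyU : y ∈ U := by
            change y ∈ (U : Set X); rw [hU]; exact hyx
          exact ⟨.inl ⟨⟩, ⟨y, hyU⟩, hy, rfl⟩

/-- The covering sieve. -/
noncomputable def sv : Sieve X := Sieve.ofArrows (obj x U) (map x U)

include hU in
lemma sv_mem : sv x U ∈ Scheme.fpqcTopology X := by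
  haveI := quasiCompactCover_cov x U hU
  exact Scheme.Cover.mem_propQCTopology (cov x U hU)

include hU in
/-- Uniqueness: a morphism out of `X` is determined by its restrictions to `U` and to
`Spec 𝒪_{X,x}`. -/
theorem eq_of_restrict_eq {Z : Scheme.{u}} (g₁ g₂ : X ⟶ Z) (h1 : U.ι ≫ g₁ = U.ι ≫ g₂)
    (h2 : X.fromSpecStalk x ≫ g₁ = X.fromSpecStalk x ≫ g₂) : g₁ = g₂ := by
  refine sep (sv x U) (sv_mem x U hU) g₁ g₂ fun T m hm => ?_
  obtain ⟨j, k, rfl⟩ := (Sieve.mem_ofArrows_iff _ _ _).mp hm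
  rcases j with ⟨⟩ | ⟨⟩
  · let k' : T ⟶ (U : Scheme.{u}) := k
    change (k' ≫ U.ι) ≫ g₁ = (k' ≫ U.ι) ≫ g₂
    rw [Category.assoc, Category.assoc, h1]
  · let k' : T ⟶ Spec (X.presheaf.stalk x) := k
    change (k' ≫ X.fromSpecStalk x) ≫ g₁ = (k' ≫ X.fromSpecStalk x) ≫ g₂
    rw [Category.assoc, Category.assoc, h2]

/-- The family of morphisms to glue. -/
noncomputable def xf {Z : Scheme.{u}} (a : (U : Scheme.{u}) ⟶ Z)
    (b : Spec (X.presheaf.stalk x) ⟶ Z) : (j : J.{u}) → (obj x U j ⟶ Z)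
  | .inl _ => a
  | .inr _ => b

lemma compat_gen {Z : Scheme.{u}} (a : (U : Scheme.{u}) ⟶ Z) (b : Spec (X.presheaf.stalk x) ⟶ Z)
    (hab : ((X.fromSpecStalk x) ⁻¹ᵁ U).ι ≫ b = ((X.fromSpecStalk x) ∣_ U) ≫ a)
    (j j' : J.{u}) {T' : Scheme.{u}} (p₁ : T' ⟶ obj x U j) (p₂ : T' ⟶ obj x U j')
    (h : p₁ ≫ map x U j = p₂ ≫ map x U j') : p₁ ≫ xf x U a b j = p₂ ≫ xf x U a b j' := by
  have hpb := isPullback_morphismRestrict (X.fromSpecStalk x) U
  rcases j with ⟨⟩ | ⟨⟩ <;> rcases j' with ⟨⟩ | ⟨⟩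
  · have : p₁ = p₂ := (cancel_mono (map x U (.inl ⟨⟩))).mp h
    rw [this]
  · let q₁ : T' ⟶ (U : Scheme.{u}) := p₁
    let q₂ : T' ⟶ Spec (X.presheaf.stalk x) := p₂
    have hq : q₁ ≫ U.ι = q₂ ≫ X.fromSpecStalk x := h
    let t := hpb.lift q₁ q₂ hq
    have ht1 : t ≫ ((X.fromSpecStalk x) ⁻¹ᵁ U).ι = q₂ := hpb.lift_snd _ _ _
    have ht2 : t ≫ ((X.fromSpecStalk x) ∣_ U) = q₁ := hpb.lift_fst _ _ _
    change q₁ ≫ a = q₂ ≫ b
    rw [← ht1, ← ht2, Category.assoc, Category.assoc, hab]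
  · let q₁ : T' ⟶ Spec (X.presheaf.stalk x) := p₁
    let q₂ : T' ⟶ (U : Scheme.{u}) := p₂
    have hq : q₂ ≫ U.ι = q₁ ≫ X.fromSpecStalk x := h.symm
    let t := hpb.lift q₂ q₁ hq
    have ht1 : t ≫ ((X.fromSpecStalk x) ⁻¹ᵁ U).ι = q₁ := hpb.lift_snd _ _ _
    have ht2 : t ≫ ((X.fromSpecStalk x) ∣_ U) = q₂ := hpb.lift_fst _ _ _
    change q₁ ≫ b = q₂ ≫ a
    rw [← ht1, ← ht2, Category.assoc, Category.assoc, hab]
  · have : p₁ = p₂ := (cancel_mono (map x U (.inr ⟨⟩))).mp h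
    rw [this]

include hU in
/-- Existence: compatible morphisms on `U` and `Spec 𝒪_{X,x}` glue. -/
theorem exists_glue {Z : Scheme.{u}} (a : (U : Scheme.{u}) ⟶ Z)
    (b : Spec (X.presheaf.stalk x) ⟶ Z)
    (hab : ((X.fromSpecStalk x) ⁻¹ᵁ U).ι ≫ b = ((X.fromSpecStalk x) ∣_ U) ≫ a) :
    ∃ g : X ⟶ Z, U.ι ≫ g = a ∧ X.fromSpecStalk x ≫ g = b := by
  obtain ⟨g, hg⟩ := glue (sv x U) (sv_mem x U hU)
    (fun T m hm => Sieve.ofArrows.h hm ≫ xf x U a b (Sieve.ofArrows.i hm))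
    (fun T₁ T₂ T' k₁ k₂ m₁ m₂ hm₁ hm₂ e => by
      rw [← Category.assoc, ← Category.assoc]
      apply compat_gen x U a b hab
      rw [Category.assoc, Category.assoc, Sieve.ofArrows.fac, Sieve.ofArrows.fac, e])
  have h1 : sv x U (map x U (.inl ⟨⟩)) := Sieve.ofArrows_mk _ _ _
  have h2 : sv x U (map x U (.inr ⟨⟩)) := Sieve.ofArrows_mk _ _ _
  refine ⟨g, ?_, ?_⟩
  · have e1 := hg _ h1
    have e2 := compat_gen x U a b hab _ (.inl ⟨⟩) (Sieve.ofArrows.h h1) (𝟙 _)
      (by rw [Sieve.ofArrows.fac, Category.id_comp])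
    rw [Category.id_comp] at e2
    exact e1.trans e2
  · have e1 := hg _ h2
    have e2 := compat_gen x U a b hab _ (.inr ⟨⟩) (Sieve.ofArrows.h h2) (𝟙 _)
      (by rw [Sieve.ofArrows.fac, Category.id_comp])
    rw [Category.id_comp] at e2
    exact e1.trans e2

end

end Groth.Agent.Lib.Helper1.PtGlue
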