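import Groth.Agent.Lib.Helper1.NAImm
import Mathlib.AlgebraicGeometry.AffineSpace
import Mathlib.AlgebraicGeometry.QuasiAffine

/-!
# A quasi-affine scheme locally of finite type over `S` embeds into an affine space over `S`
(helper1)
-/

set_option autoImplicit false
set_option linter.unusedSectionVars false
set_option linter.style.haveILetI false
universe u

namespace Groth.Agent.Lib.Helper1.NA

open AlgebraicGeometry CategoryTheory CategoryTheory.Limits TopologicalSpace Opposite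

/-- A section restricted to an open inside its basic open is a unit. -/
lemma isUnit_res_of_le_basicOpen (X : Scheme.{u}) {U V : X.Opens} (f : Γ(X, U)) (hVU : V ≤ U)
    (hV : V ≤ X.basicOpen f) : IsUnit (X.presheaf.map (homOfLE hVU).op f) := by
  have h1 := X.toRingedSpace.isUnit_res_basicOpen f
  have h2 := h1.map (X.presheaf.map (homOfLE hV).op).hom
  have h3 : X.presheaf.map (homOfLE hVU).op =
      X.presheaf.map (homOfLE (X.basicOpen_le f)).op ≫ X.presheaf.map (homOfLE hV).op := by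
    rw [← Functor.map_comp]
    rfl
  rw [h3]
  exact h2

/-- Transport surjectivity of `appLE` (for the full preimage) to the restriction. -/
lemma isClosedImmersion_morphismRestrict_of_appLE {X P : Scheme.{u}} (r : X ⟶ P) (O : P.Opens)
    (W : X.Opens) (hW : r ⁻¹ᵁ O = W) (hO : IsAffineOpen O) (hWa : IsAffineOpen W)
    (hs : Function.Surjective (r.appLE O W hW.ge).hom) : IsClosedImmersion (r ∣_ O) := by
  subst hW
  have : IsAffine ((r ⁻¹ᵁ O : X.Opens) : Scheme.{u}) := hWa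
  have : IsAffine (O : Scheme.{u}) := hO
  apply IsClosedImmersion.of_surjective_of_isAffine
  have h0 := (arrowResLEAppIso r O (r ⁻¹ᵁ O) le_rfl)
  rw [← Scheme.Hom.resLE_eq_morphismRestrict]
  have h1 : (r.resLE O (r ⁻¹ᵁ O) le_rfl).appTop =
      O.topIso.hom ≫ r.appLE O (r ⁻¹ᵁ O) le_rfl ≫ (r ⁻¹ᵁ O).topIso.inv := by
    have := Scheme.Hom.resLE_app_top r (U := O) (V := r ⁻¹ᵁ O) le_rfl
    exact this
  rw [h1]
  intro x
  obtain ⟨y, hy⟩ := hs ((r ⁻¹ᵁ O).topIso.hom.hom x)
  refine ⟨O.topIso.inv.hom y, ?_⟩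
  simp only [CommRingCat.hom_comp, RingHom.coe_comp, Function.comp_apply]
  have h2 : O.topIso.hom.hom (O.topIso.inv.hom y) = y := by
    rw [← RingHom.comp_apply, ← CommRingCat.hom_comp, Iso.inv_hom_id]; rfl
  rw [h2, hy]
  rw [← RingHom.comp_apply, ← CommRingCat.hom_comp, Iso.hom_inv_id]; rfl

lemma appLE_congr_hom {X Y : Scheme.{u}} {f g : X ⟶ Y} (h : f = g) (U : Y.Opens) (W : X.Opens)
    (e : W ≤ f ⁻¹ᵁ U) : f.appLE U W e = g.appLE U W (h ▸ e) := by
  subst h; rfl

/-- **Quasi-affine schemes locally of finite type over `S` embed in affine space over `S`.** -/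
theorem exists_immersion_affineSpace {X S : Scheme.{u}} (π : X ⟶ S) [LocallyOfFiniteType π]
    [X.IsQuasiAffine] :
    ∃ (n : ℕ) (i : X ⟶ 𝔸(ULift.{u} (Fin n); S)),
      IsImmersion i ∧ i ≫ (𝔸(ULift.{u} (Fin n); S) ↘ S) = π := by
  classical
  have h1 : ∀ x : X, ∃ U : S.Opens, IsAffineOpen U ∧ π x ∈ U := fun x => by
    obtain ⟨_, ⟨U, hU, rfl⟩, hxU, -⟩ :=
      S.isBasis_affineOpens.exists_subset_of_mem_open (Set.mem_univ (π x)) isOpen_univ
    exact ⟨U, hU, hxU⟩
  choose U hU hxU using h1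
  have h2 : ∀ x : X, ∃ a : Γ(X, ⊤), IsAffineOpen (X.basicOpen a) ∧ x ∈ X.basicOpen a ∧
      X.basicOpen a ≤ π ⁻¹ᵁ U x := fun x => by
    obtain ⟨_, ⟨_, ⟨a, ha, rfl⟩, rfl⟩, hxa, hle⟩ :=
      (Scheme.IsQuasiAffine.isBasis_basicOpen X).exists_subset_of_mem_open
        (hxU x : x ∈ π ⁻¹ᵁ U x) (π ⁻¹ᵁ U x).2
    exact ⟨a, ha, hxa, hle⟩
  choose a ha hxa hle using h2
  obtain ⟨t, ht⟩ := CompactSpace.elim_nhds_subcover (fun x => (X.basicOpen (a x) : Set X))
    (fun x => (X.basicOpen (a x)).2.mem_nhds (hxa x))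
  have h3 : ∀ x : X, ∃ T : Finset Γ(X, X.basicOpen (a x)),
      ∀ R' : Subring Γ(X, X.basicOpen (a x)),
        (π.appLE (U x) (X.basicOpen (a x)) (hle x)).hom.range ≤ R' →
          (T : Set Γ(X, X.basicOpen (a x))) ⊆ R' → R' = ⊤ := fun x =>
    exists_finset_of_finiteType _ (HasRingHomProperty.appLE @LocallyOfFiniteType π inferInstance
      ⟨U x, hU x⟩ ⟨_, ha x⟩ (hle x))
  choose T hT using h3
  have hqc : IsCompact (⊤ : X.Opens).1 := isCompact_univ
  have hqs : IsQuasiSeparated (⊤ : X.Opens).1 := isQuasiSeparated_univ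
  have h4 : ∀ (x : X) (s : Γ(X, X.basicOpen (a x))), ∃ (N : ℕ) (b : Γ(X, ⊤)),
      b |_ X.basicOpen (a x) = (a x |_ X.basicOpen (a x)) ^ N * s := fun x s =>
    exists_eq_pow_mul_of_isCompact_of_isQuasiSeparated X ⊤ hqc hqs (a x) s
  choose N b hb using h4
  let F : Finset Γ(X, ⊤) := t.image a ∪ t.biUnion (fun x => (T x).image (b x))
  let n := F.card
  let e : Fin n ≃ F := F.equivFin.symm
  let v : ULift.{u} (Fin n) → Γ(X, ⊤) := fun l => (e l.down : Γ(X, ⊤))
  have hv : ∀ y ∈ F, ∃ l, v l = y := fun y hy => ⟨⟨e.symm ⟨y, hy⟩⟩, by simp [v]⟩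
  let i : X ⟶ 𝔸(ULift.{u} (Fin n); S) := AffineSpace.homOfVector π v
  have hi : i ≫ (𝔸(ULift.{u} (Fin n); S) ↘ S) = π := AffineSpace.homOfVector_over π v
  refine ⟨n, i, ?_, hi⟩
  have hja : ∀ x : t, ∃ l, v l = a x.1 := fun x =>
    hv _ (Finset.mem_union_left _ (Finset.mem_image_of_mem _ x.2))
  choose j hj using hja
  let O : t → (𝔸(ULift.{u} (Fin n); S)).Opens := fun x =>
    (𝔸(ULift.{u} (Fin n); S) ↘ S) ⁻¹ᵁ U x.1 ⊓
      (𝔸(ULift.{u} (Fin n); S)).basicOpen (AffineSpace.coord S (j x))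
  have hpre : ∀ x : t, i ⁻¹ᵁ O x = X.basicOpen (a x.1) := fun x => by
    simp only [O]
    rw [Scheme.Hom.preimage_inf, ← Scheme.Hom.comp_preimage, hi, Scheme.preimage_basicOpen_top,
      AffineSpace.homOfVector_appTop_coord, hj]
    exact inf_eq_right.mpr (hle x.1)
  apply isImmersion_of_cover i O
  · intro x
    let W : X.Opens := X.basicOpen (a x.1)
    have hVa : IsAffineOpen ((𝔸(ULift.{u} (Fin n); S) ↘ S) ⁻¹ᵁ U x.1) :=
      (hU x.1).preimage (𝔸(ULift.{u} (Fin n); S) ↘ S)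
    have hOa : IsAffineOpen (O x) := by
      have := hVa.basicOpen ((𝔸(ULift.{u} (Fin n); S)).presheaf.map
        (homOfLE (le_top : (𝔸(ULift.{u} (Fin n); S) ↘ S) ⁻¹ᵁ U x.1 ≤ ⊤)).op
        (AffineSpace.coord S (j x)))
      rwa [Scheme.basicOpen_res] at this
    refine isClosedImmersion_morphismRestrict_of_appLE i (O x) W (hpre x) hOa (ha x.1) ?_
    let φ := (i.appLE (O x) W (hpre x).ge).hom
    have hres : ∀ l, φ ((𝔸(ULift.{u} (Fin n); S)).presheaf.map
        (homOfLE (le_top : O x ≤ ⊤)).op (AffineSpace.coord S l)) =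
        X.presheaf.map (homOfLE (le_top : W ≤ ⊤)).op (v l) := fun l => by
      have h8 := Scheme.Hom.map_appLE i (e := (hpre x).ge) (homOfLE (le_top : O x ≤ ⊤)).op
      have h9 : φ ((𝔸(ULift.{u} (Fin n); S)).presheaf.map
          (homOfLE (le_top : O x ≤ ⊤)).op (AffineSpace.coord S l)) =
          ((𝔸(ULift.{u} (Fin n); S)).presheaf.map (homOfLE (le_top : O x ≤ ⊤)).op ≫
            i.appLE (O x) W (hpre x).ge).hom (AffineSpace.coord S l) := rfl
      rw [h9, h8, ← AffineSpace.homOfVector_appTop_coord π v l]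
      rfl
    have key : φ.range = ⊤ := by
      apply hT x.1
      · rintro _ ⟨r, rfl⟩
        have h5 : π.appLE (U x.1) W (hle x.1) =
            (𝔸(ULift.{u} (Fin n); S) ↘ S).appLE (U x.1) (O x) inf_le_left ≫
              i.appLE (O x) W (hpre x).ge := by
          rw [Scheme.Hom.appLE_comp_appLE]
          exact appLE_congr_hom hi.symm _ _ _
        refine ⟨((𝔸(ULift.{u} (Fin n); S) ↘ S).appLE (U x.1) (O x) inf_le_left).hom r, ?_⟩
        rw [h5]
        rfl
      · intro s hs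
        have hbF : b x.1 s ∈ F := Finset.mem_union_right _
          (Finset.mem_biUnion.mpr ⟨x.1, x.2, Finset.mem_image_of_mem _ hs⟩)
        obtain ⟨l, hl⟩ := hv _ hbF
        have hu : IsUnit ((𝔸(ULift.{u} (Fin n); S)).presheaf.map
            (homOfLE (le_top : O x ≤ ⊤)).op (AffineSpace.coord S (j x))) :=
          isUnit_res_of_le_basicOpen _ _ le_top inf_le_right
        obtain ⟨u', hu'⟩ := hu.exists_left_inv
        have h6 : φ u' * X.presheaf.map (homOfLE (le_top : W ≤ ⊤)).op (a x.1) = 1 := by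
          rw [← hj x, ← hres, ← map_mul, hu', map_one]
        have hb' : X.presheaf.map (homOfLE (le_top : W ≤ ⊤)).op (b x.1 s) =
            (X.presheaf.map (homOfLE (le_top : W ≤ ⊤)).op (a x.1)) ^ (N x.1 s) * s := hb x.1 s
        have h7 : s = (φ u') ^ (N x.1 s) *
            X.presheaf.map (homOfLE (le_top : W ≤ ⊤)).op (b x.1 s) := by
          rw [hb', ← mul_assoc, ← mul_pow, h6, one_pow, one_mul]
        change s ∈ φ.range
        rw [h7]
        have m1 : φ u' ∈ φ.range := ⟨u', rfl⟩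
        have m2 : X.presheaf.map (homOfLE (le_top : W ≤ ⊤)).op (b x.1 s) ∈ φ.range := by
          rw [← hl]
          exact ⟨_, hres l⟩
        exact Subring.mul_mem _ (Subring.pow_mem _ m1 _) m2
    intro y
    have : y ∈ φ.range := by rw [key]; trivial
    exact this
  · rw [eq_top_iff]
    intro y _
    have hy : y ∈ ⋃ x ∈ t, (X.basicOpen (a x) : Set X) := by rw [ht]; trivial
    obtain ⟨x, hx⟩ := Set.mem_iUnion.mp hy
    obtain ⟨hxt, hyx⟩ := Set.mem_iUnion.mp hx
    refine Opens.mem_iSup.mpr ⟨⟨x, hxt⟩, ?_⟩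
    rw [hpre]
    exact hyx

end Groth.Agent.Lib.Helper1.NA
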