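import Groth.Agent.Lib.Helper1.RegLift
import Groth.Agent.Lib.Helper1.NilpNoeth

/-!
# Units and the Jacobson radical along a surjection with nil kernel (helper1)
-/

universe u

namespace Groth.Agent.Lib.Helper1.RegLift

section Units

variable {R S : Type*} [CommRing R] [CommRing S] (f : R →+* S) (hf : Function.Surjective f)
  (hker : ∀ x, f x = 0 → IsNilpotent x)

include hf hker

/-- Units lift along a surjection with nil kernel. -/
lemma isUnit_of_isUnit_map (u : R) (hu : IsUnit (f u)) : IsUnit u := by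
  obtain ⟨w, hw⟩ := hu.exists_right_inv
  obtain ⟨v, rfl⟩ := hf w
  have h1 : f (u * v - 1) = 0 := by rw [map_sub, map_mul, hw, map_one, sub_self]
  have h2 : IsUnit (1 + (u * v - 1)) := (hker _ h1).isUnit_one_add
  have h3 : 1 + (u * v - 1) = u * v := by ring
  rw [h3] at h2
  exact isUnit_of_mul_isUnit_left h2

/-- Non-units lie in the Jacobson radical when the target is local. -/
lemma mem_jacobson_bot_of_not_isUnit [IsLocalRing S] (x : R) (hx : ¬ IsUnit x) :
    x ∈ Ideal.jacobson (⊥ : Ideal R) := by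
  rw [Ideal.mem_jacobson_bot]
  intro y
  apply isUnit_of_isUnit_map f hf hker
  have h1 : f x ∈ IsLocalRing.maximalIdeal S := by
    rw [IsLocalRing.mem_maximalIdeal, mem_nonunits_iff]
    intro h
    exact hx (isUnit_of_isUnit_map f hf hker x h)
  have h2 : f x * f y ∈ IsLocalRing.maximalIdeal S := Ideal.mul_mem_right _ _ h1
  rw [map_add, map_mul, map_one]
  by_contra h3
  have h4 : f x * f y + 1 ∈ IsLocalRing.maximalIdeal S := by
    rw [IsLocalRing.mem_maximalIdeal, mem_nonunits_iff]
    exact h3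
  have h5 : (1 : S) ∈ IsLocalRing.maximalIdeal S := by
    have := Ideal.sub_mem _ h4 h2
    rwa [add_sub_cancel_left] at this
  exact (Ideal.ne_top_iff_one _).1 (IsLocalRing.maximalIdeal.isMaximal S).ne_top h5

end Units

section Setting

variable {C' : Type u} [CommRing C'] [IsLocalRing C'] (J : Ideal C') (hJle : J ≤ IsLocalRing.maximalIdeal C')
  (A' : Type u) [CommRing A'] [Algebra C' A'] (n : ℕ) (hn : IsLocalRing.maximalIdeal C' ^ n = ⊥)

/-- The reduction map `A' ⧸ J A' → A' ⧸ 𝔪 A'`. -/
noncomputable def rho : (A' ⧸ J.map (algebraMap C' A')) →+*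
    (A' ⧸ (IsLocalRing.maximalIdeal C').map (algebraMap C' A')) :=
  Ideal.Quotient.factor (Ideal.map_mono hJle)

lemma rho_mk (x : A') : rho J hJle A' (Ideal.Quotient.mk _ x) = Ideal.Quotient.mk _ x := rfl

lemma rho_surjective : Function.Surjective (rho J hJle A') := by
  intro y
  obtain ⟨x, rfl⟩ := Ideal.Quotient.mk_surjective y
  exact ⟨Ideal.Quotient.mk _ x, rfl⟩

include hn in
lemma rho_ker_nilpotent (x : A' ⧸ J.map (algebraMap C' A')) (hx : rho J hJle A' x = 0) : IsNilpotent x := by
  obtain ⟨y, rfl⟩ := Ideal.Quotient.mk_surjective x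
  rw [rho_mk, Ideal.Quotient.eq_zero_iff_mem] at hx
  refine ⟨n, ?_⟩
  have h1 : y ^ n ∈ ((IsLocalRing.maximalIdeal C').map (algebraMap C' A')) ^ n := Ideal.pow_mem_pow hx n
  rw [← Ideal.map_pow, hn, Ideal.map_bot] at h1
  rw [← map_pow, (Ideal.mem_bot).1 h1, map_zero]

end Setting

end Groth.Agent.Lib.Helper1.RegLift
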