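import Mathlib
import Groth.Agent.Lib.Helper12.QuasiReg2
import Groth.Agent.Lib.Helper21.RegularLocal

/-!
# Lifting maps out of a local `k`-algebra whose maximal ideal is generated by a quasi-regular
sequence (helper1)

Let `A` be a local `k`-algebra with residue field `k` whose maximal ideal is generated by a
quasi-regular sequence `x₁, …, x_d` (e.g. `A` regular local).  Then `A/𝔪^N ≅ k[X]/(X)^N`, hence
`k`-algebra maps `A → C` into a `k`-algebra `C` correspond to `d`-tuples of elements generating a
nilpotent ideal.
-/

universe u v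

open MvPolynomial IsLocalRing

namespace Groth.Agent.Lib.Helper1.RegLiftCrit

section Poly
variable {k : Type u} [Field k] {C : Type v} [CommRing C] [Algebra k C] {d : ℕ}

lemma aeval_eq_eval_map (y : Fin d → C) (F : MvPolynomial (Fin d) k) :
    aeval y F = eval y (map (algebraMap k C) F) := by
  rw [aeval_def, eval_map]

lemma aeval_homogeneousComponent_mem (y : Fin d → C) (F : MvPolynomial (Fin d) k) (i : ℕ) :
    aeval y (homogeneousComponent i F) ∈ Ideal.span (Set.range y) ^ i := by
  rw [aeval_eq_eval_map]
  exact Groth.Agent.Lib.Helper12.QR.eval_mem_pow_of_isHomogeneous y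
    ((homogeneousComponent_isHomogeneous i F).map _)

lemma aeval_eq_sum (y : Fin d → C) (F : MvPolynomial (Fin d) k) :
    aeval y F = ∑ i ∈ Finset.range (F.totalDegree + 1), aeval y (homogeneousComponent i F) := by
  conv_lhs => rw [← sum_homogeneousComponent F]
  rw [map_sum]

/-- if the components of degree `< N` vanish, the value lies in `(y)^N` -/
lemma aeval_mem_pow_of_components (y : Fin d → C) (F : MvPolynomial (Fin d) k) (N : ℕ)
    (h : ∀ j < N, homogeneousComponent j F = 0) :
    aeval y F ∈ Ideal.span (Set.range y) ^ N := by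
  rw [aeval_eq_sum]
  refine Ideal.sum_mem _ fun i _ => ?_
  by_cases hi : i < N
  · rw [h i hi, map_zero]
    exact Ideal.zero_mem _
  · exact Ideal.pow_le_pow_right (not_lt.mp hi) (aeval_homogeneousComponent_mem y F i)

end Poly

section Local
variable {k : Type u} [Field k] {A : Type v} [CommRing A] [IsLocalRing A] [Algebra k A] {d : ℕ}
  (x : Fin d → A)

include x in
/-- the kernel of `k[X] → A/𝔪^N` consists of polynomials of order `≥ N` -/
theorem components_eq_zero_of_aeval_mem (hx : Ideal.span (Set.range x) = maximalIdeal A)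
    (hq : CAlgX.IsQuasiRegular x) (N : ℕ) (F : MvPolynomial (Fin d) k)
    (hF : aeval x F ∈ maximalIdeal A ^ N) : ∀ j < N, homogeneousComponent j F = 0 := by
  classical
  intro j
  induction j using Nat.strong_induction_on with
  | _ j ih =>
    intro hj
    have ih' : ∀ i < j, homogeneousComponent i F = 0 := fun i hi => ih i hi (hi.trans hj)
    -- the value of the `j`-th component lies in `𝔪^(j+1)`
    have hmem : aeval x (homogeneousComponent j F) ∈ Ideal.span (Set.range x) ^ (j + 1) := by
      by_cases hjd : j ∈ Finset.range (F.totalDegree + 1)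
      · have hsum := aeval_eq_sum x F
        rw [← Finset.add_sum_erase _ _ hjd] at hsum
        have h1 : aeval x (homogeneousComponent j F) = aeval x F -
            ∑ i ∈ (Finset.range (F.totalDegree + 1)).erase j, aeval x (homogeneousComponent i F) := by
          rw [hsum]; ring
        rw [h1]
        refine Ideal.sub_mem _ ?_ (Ideal.sum_mem _ fun i hi => ?_)
        · rw [hx]
          exact Ideal.pow_le_pow_right (Nat.succ_le_of_lt hj) hF
        · have hij : i ≠ j := (Finset.mem_erase.mp hi).1
          rcases lt_or_gt_of_ne hij with h | h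
          · rw [ih' i h, map_zero]
            exact Ideal.zero_mem _
          · exact Ideal.pow_le_pow_right (Nat.succ_le_of_lt h)
              (aeval_homogeneousComponent_mem x F i)
      · have : homogeneousComponent j F = 0 := by
          apply homogeneousComponent_eq_zero
          rw [Finset.mem_range, not_lt] at hjd
          omega
        rw [this, map_zero]
        exact Ideal.zero_mem _
    rw [aeval_eq_eval_map] at hmem
    have hcoef := hq j _ ((homogeneousComponent_isHomogeneous j F).map (algebraMap k A)) hmem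
    ext e
    rw [coeff_zero]
    by_contra hne
    have h1 := hcoef e
    rw [coeff_map, hx] at h1
    have hu : IsUnit (algebraMap k A (coeff e (homogeneousComponent j F))) :=
      (IsUnit.mk0 _ hne).map _
    exact (IsLocalRing.mem_maximalIdeal _).mp h1 hu

include x in
/-- `k[X] → A/𝔪^N` is surjective -/
theorem exists_aeval_sub_mem (hx : Ideal.span (Set.range x) = maximalIdeal A)
    (hres : Function.Surjective (algebraMap k (ResidueField A))) (N : ℕ) :
    ∀ a : A, ∃ F : MvPolynomial (Fin d) k, a - aeval x F ∈ maximalIdeal A ^ N := by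
  induction N with
  | zero =>
    intro a
    exact ⟨0, by rw [pow_zero, Ideal.one_eq_top]; trivial⟩
  | succ N ih =>
    intro a
    obtain ⟨c, hc⟩ := hres (residue A a)
    have h1 : a - algebraMap k A c ∈ maximalIdeal A := by
      rw [← IsLocalRing.residue_eq_zero_iff, map_sub, ← hc]
      rw [IsScalarTower.algebraMap_apply k A (ResidueField A)]
      exact sub_self _
    rw [← hx] at h1
    obtain ⟨b, hb⟩ := Ideal.mem_span_range_iff_exists_fun.1 h1
    choose G hG using fun i => ih (b i)
    refine ⟨C c + ∑ i, X i * G i, ?_⟩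
    have h2 : a - aeval x (C c + ∑ i, X i * G i) = ∑ i, (b i - aeval x (G i)) * x i := by
      rw [map_add, map_sum, aeval_C]
      simp only [map_mul, aeval_X]
      have : a = algebraMap k A c + ∑ i, b i * x i := by rw [hb]; ring
      rw [this, add_sub_add_left_eq_sub, ← Finset.sum_sub_distrib]
      refine Finset.sum_congr rfl fun i _ => ?_
      ring
    rw [h2, pow_succ]
    refine Ideal.sum_mem _ fun i _ => Ideal.mul_mem_mul (hG i) ?_
    rw [← hx]
    exact Ideal.subset_span ⟨i, rfl⟩

variable {C : Type*} [CommRing C] [Algebra k C]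

include x in
/-- existence of a `k`-algebra map with prescribed nilpotent values on the parameters -/
theorem exists_algHom (hx : Ideal.span (Set.range x) = maximalIdeal A)
    (hq : CAlgX.IsQuasiRegular x)
    (hres : Function.Surjective (algebraMap k (ResidueField A)))
    (b : Fin d → C) (N : ℕ) (hb : Ideal.span (Set.range b) ^ N = ⊥) :
    ∃ g : A →ₐ[k] C, ∀ i, g (x i) = b i := by
  let ev : MvPolynomial (Fin d) k →ₐ[k] A ⧸ maximalIdeal A ^ N :=
    (Ideal.Quotient.mkₐ k (maximalIdeal A ^ N)).comp (aeval x)
  have hev : Function.Surjective ev := by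
    intro z
    obtain ⟨a, rfl⟩ := Ideal.Quotient.mk_surjective z
    obtain ⟨F, hF⟩ := exists_aeval_sub_mem x hx hres N a
    refine ⟨F, ?_⟩
    change Ideal.Quotient.mk _ (aeval x F) = Ideal.Quotient.mk _ a
    rw [eq_comm, Ideal.Quotient.eq]
    exact hF
  have hker : RingHom.ker ev.toRingHom ≤ RingHom.ker (aeval b : _ →ₐ[k] C).toRingHom := by
    intro F hF
    have h1 : aeval x F ∈ maximalIdeal A ^ N := by
      have : Ideal.Quotient.mk (maximalIdeal A ^ N) (aeval x F) = 0 := (RingHom.mem_ker).mp hF
      exact Ideal.Quotient.eq_zero_iff_mem.mp this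
    have h2 := components_eq_zero_of_aeval_mem x hx hq N F h1
    have h3 := aeval_mem_pow_of_components b F N h2
    rw [hb] at h3
    exact (RingHom.mem_ker).mpr h3
  let g' : (A ⧸ maximalIdeal A ^ N) →ₐ[k] C := AlgHom.liftOfSurjective ev hev (aeval b) hker
  refine ⟨g'.comp (Ideal.Quotient.mkₐ k (maximalIdeal A ^ N)), fun i => ?_⟩
  have h1 : (Ideal.Quotient.mkₐ k (maximalIdeal A ^ N)) (x i) = ev (X i) := by
    change _ = Ideal.Quotient.mk _ (aeval x (X i))
    rw [aeval_X]
    rfl
  rw [AlgHom.comp_apply, h1, AlgHom.liftOfSurjective_apply, aeval_X]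

include x in
/-- uniqueness: two `k`-algebra maps agreeing on the parameters, with nilpotent values, agree -/
theorem algHom_ext (hx : Ideal.span (Set.range x) = maximalIdeal A)
    (hres : Function.Surjective (algebraMap k (ResidueField A)))
    (g₁ g₂ : A →ₐ[k] C) (h : ∀ i, g₁ (x i) = g₂ (x i)) (N : ℕ)
    (hb : Ideal.span (Set.range fun i => g₁ (x i)) ^ N = ⊥) : g₁ = g₂ := by
  have key : ∀ g : A →ₐ[k] C, (∀ i, g (x i) = g₁ (x i)) → ∀ a ∈ maximalIdeal A ^ N, g a = 0 := by
    intro g hg a ha
    have h1 : (maximalIdeal A ^ N).map (g : A →+* C) ≤ ⊥ := by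
      rw [← hb, Ideal.map_pow, ← hx, Ideal.map_span]
      refine Ideal.pow_right_mono (Ideal.span_mono ?_) N
      rintro _ ⟨_, ⟨i, rfl⟩, rfl⟩
      exact ⟨i, (hg i).symm⟩
    have := h1 (Ideal.mem_map_of_mem _ ha)
    simpa using this
  ext a
  obtain ⟨F, hF⟩ := exists_aeval_sub_mem x hx hres N a
  have e1 := key g₁ (fun _ => rfl) _ hF
  have e2 := key g₂ (fun i => (h i).symm) _ hF
  rw [map_sub, sub_eq_zero] at e1 e2
  rw [e1, e2, ← AlgHom.comp_apply, ← AlgHom.comp_apply, comp_aeval, comp_aeval]
  congr 2
  funext i
  exact h i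

end Local

end Groth.Agent.Lib.Helper1.RegLiftCrit
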