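import Mathlib
import Groth.Agent.Lib.Helper1.RegLiftCrit
import Groth.Agent.Lib.Helper1.ArtFunEssFT
import Groth.Agent.Lib.Helper1.ArtFunFibre

/-!
# Regularity of a local `k`-algebra with residue field `k` and infinitesimal lifting (helper1)
-/

universe u v

open MvPolynomial IsLocalRing CategoryTheory

namespace Groth.Agent.Lib.Helper1.RegLiftCrit

section NonUnit
variable {k : Type u} [Field k] [IsAlgClosed k] {A : Type v} [CommRing A] [IsLocalRing A]
  [Algebra k A] {C : Type*} [CommRing C] [Algebra k C] [Nontrivial C] [Algebra.IsIntegral k C]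

/-- a `k`-algebra map from a local `k`-algebra to a nonzero integral `k`-algebra (`k` algebraically
closed) sends the maximal ideal to non-units -/
theorem not_isUnit_map_of_mem (f : A →ₐ[k] C) {a : A} (ha : a ∈ maximalIdeal A) :
    ¬ IsUnit (f a) := by
  intro hu
  have hint : IsIntegral k (f a) := Algebra.IsIntegral.isIntegral _
  have hmon := minpoly.monic hint
  have hsp : (minpoly k (f a)).Splits := IsAlgClosed.splits _
  have h0 : Polynomial.aeval (f a) (minpoly k (f a)) = 0 := minpoly.aeval k (f a)
  rw [hsp.eq_prod_roots_of_monic hmon, map_multiset_prod, Multiset.map_map] at h0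
  have hunit : IsUnit (((minpoly k (f a)).roots.map
      ((Polynomial.aeval (f a)) ∘ fun r => Polynomial.X - Polynomial.C r)).prod) := by
    refine Multiset.prod_induction IsUnit _ (fun _ _ h1 h2 => h1.mul h2) isUnit_one ?_
    intro y hy
    obtain ⟨r, -, rfl⟩ := Multiset.mem_map.mp hy
    simp only [Function.comp_apply, map_sub, Polynomial.aeval_X, Polynomial.aeval_C]
    by_cases hr : r = 0
    · rw [hr, map_zero, sub_zero]
      exact hu
    · have h1 : IsUnit (a - algebraMap k A r) := by
        by_contra hnu
        have h2 : a - algebraMap k A r ∈ maximalIdeal A := (mem_maximalIdeal _).mpr hnu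
        have h3 : algebraMap k A r ∈ maximalIdeal A := by
          have := Ideal.sub_mem _ ha h2
          rwa [sub_sub_cancel] at this
        exact (mem_maximalIdeal _).mp h3 ((IsUnit.mk0 r hr).map _)
      have h4 := h1.map f
      rwa [map_sub, AlgHom.commutes] at h4
  rw [h0] at hunit
  exact not_isUnit_zero hunit

end NonUnit

section Forward
variable (k : Type u) [Field k] [IsAlgClosed k] (A : Type u) [CommRing A] [IsRegularLocalRing A]
  [Algebra k A]

/-- a regular local `k`-algebra with residue field `k` has the infinitesimal lifting property with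
respect to local finite `k`-algebras -/
theorem exists_lift_of_isRegularLocalRing
    (hres : Function.Surjective (algebraMap k (ResidueField A)))
    (B' : Type u) [CommRing B'] [IsLocalRing B'] [Algebra k B'] [Module.Finite k B']
    (J : Ideal B') (hJ : J ≠ ⊤) (f : A →ₐ[k] B' ⧸ J) :
    ∃ g : A →ₐ[k] B', (Ideal.Quotient.mkₐ k J).comp g = f := by
  classical
  obtain ⟨n, hn⟩ := Groth.Agent.Lib.Helper21.exists_nat_eq_ringKrullDim (R := A)
  obtain ⟨s, hcard, hspan⟩ := Submodule.FG.exists_span_finset_card_eq_spanFinrank
    (maximalIdeal A).fg_of_isNoetherianRing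
  have h2 : ((maximalIdeal A).spanFinrank : WithBot ℕ∞) = ringKrullDim A :=
    IsRegularLocalRing.spanFinrank_maximalIdeal
  rw [hn] at h2
  have h3 : (maximalIdeal A).spanFinrank = n := by exact_mod_cast h2
  rw [h3] at hcard
  let e := s.equivFinOfCardEq hcard
  let x : Fin n → A := fun i => ((e.symm i : s) : A)
  have hrange : Set.range x = (s : Set A) := by
    ext y
    constructor
    · rintro ⟨i, rfl⟩
      exact (e.symm i).2
    · intro hy
      exact ⟨e ⟨y, hy⟩, by simp [x]⟩
  have hx : Ideal.span (Set.range x) = maximalIdeal A := by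
    rw [hrange]
    exact hspan
  have hreg := Groth.Agent.Lib.Helper21.isRegular_ofFn_of_span_eq_maximalIdeal n A hn x hx
  have hq := Groth.Agent.Lib.Helper12.QR.isQuasiRegular_of_isWeaklyRegular n x hreg.toIsWeaklyRegular
  have hmem : ∀ i, x i ∈ maximalIdeal A := fun i => hx ▸ Ideal.subset_span ⟨i, rfl⟩
  -- the quotient is a nonzero integral `k`-algebra
  have hnt : Nontrivial (B' ⧸ J) := Ideal.Quotient.nontrivial_iff.mpr hJ
  have hfin : Module.Finite k (B' ⧸ J) :=
    Module.Finite.of_surjective (Ideal.Quotient.mkₐ k J).toLinearMap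
      (Ideal.Quotient.mkₐ_surjective k J)
  have hint : Algebra.IsIntegral k (B' ⧸ J) := Algebra.IsIntegral.of_finite k _
  -- lifts of the values on the parameters lie in the maximal ideal of `B'`
  choose b hb using fun i => Ideal.Quotient.mk_surjective (f (x i))
  have hbm : ∀ i, b i ∈ maximalIdeal B' := by
    intro i
    rw [mem_maximalIdeal]
    intro hu
    have h1 : IsUnit (f (x i)) := by
      rw [← hb i]
      exact hu.map _
    exact not_isUnit_map_of_mem f (hmem i) h1
  have hart : IsArtinianRing B' := IsArtinianRing.of_finite k B'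
  obtain ⟨N, hN⟩ := IsArtinianRing.isNilpotent_jacobson_bot (R := B')
  rw [IsLocalRing.jacobson_eq_maximalIdeal ⊥ bot_ne_top] at hN
  have hbN : Ideal.span (Set.range b) ^ N = ⊥ := by
    rw [← le_bot_iff, ← Ideal.zero_eq_bot, ← hN]
    refine Ideal.pow_right_mono ?_ N
    rw [Ideal.span_le]
    rintro _ ⟨i, rfl⟩
    exact hbm i
  obtain ⟨g, hg⟩ := exists_algHom x hx hq hres b N hbN
  refine ⟨g, ?_⟩
  refine algHom_ext x hx hres _ _ (fun i => ?_) N ?_
  · rw [AlgHom.comp_apply, hg i]
    exact hb i
  · have h1 : (fun i => ((Ideal.Quotient.mkₐ k J).comp g) (x i)) =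
        (Ideal.Quotient.mk J) ∘ b := by
      funext i
      rw [AlgHom.comp_apply, hg i]
      rfl
    rw [h1, Set.range_comp, ← Ideal.map_span, ← Ideal.map_pow, hbN, Ideal.map_bot]

end Forward

section Backward
variable (k : Type u) [Field k] (A : Type u) [CommRing A] [IsLocalRing A] [Algebra k A]
  [Algebra.EssFiniteType k A]

open ArtFun ArtFun.Art Groth.Agent.Lib.Helper1.ArtFunLib

/-- an essentially finite type local `k`-algebra with residue field `k` having the infinitesimal
lifting property with respect to local finite `k`-algebras is regular -/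
theorem isRegularLocalRing_of_lifts
    (hres : Function.Surjective (algebraMap k (ResidueField A)))
    (H : ∀ (B' : Type u) [CommRing B'] [IsLocalRing B'] [Algebra k B'] [Module.Finite k B']
        (J : Ideal B'), J ^ 2 = ⊥ → ∀ f : A →ₐ[k] B' ⧸ J,
          ∃ g : A →ₐ[k] B', (Ideal.Quotient.mkₐ k J).comp g = f) :
    IsRegularLocalRing A := by
  classical
  have hnoeth : IsNoetherianRing A := Algebra.EssFiniteType.isNoetherianRing k A
  -- the augmentation
  have hbij : Function.Bijective (algebraMap k (ResidueField A)) :=
    ⟨(algebraMap k (ResidueField A)).injective, hres⟩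
  let eK : k ≃ₐ[k] ResidueField A := AlgEquiv.ofBijective (Algebra.ofId k (ResidueField A)) hbij
  let res : A →ₐ[k] k := (eK.symm : ResidueField A →ₐ[k] k).comp
    (IsScalarTower.toAlgHom k A (ResidueField A))
  let T : ArtFun.ObsTheory (ArtFun.hR A res) PUnit.{u + 1} :=
    { obs := fun _ _ _ => 0
      obs_eq_zero_iff := by
        intro C' C p hp u
        refine ⟨fun _ => ?_, fun _ => rfl⟩
        -- lift `u : A → C` along `p`
        haveI : Module.Finite k C'.carrier := by
          have h1 := isFiniteLength_obj (Λ := k) (k := k) C'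
          obtain ⟨hN, -⟩ := isFiniteLength_iff_isNoetherian_isArtinian.1 h1
          infer_instance
        let J : Ideal C'.carrier := RingHom.ker p.toAlgHom
        have hJ2 : J ^ 2 = ⊥ := by
          rw [← le_bot_iff, ← hp.2, pow_two]
          exact Ideal.mul_mono_left (ker_le_maximalIdeal p)
        let eq : (C'.carrier ⧸ J) ≃ₐ[k] C.carrier :=
          Ideal.quotientKerAlgEquivOfSurjective (f := p.toAlgHom) hp.1
        obtain ⟨g, hg⟩ := H C'.carrier J hJ2 ((eq.symm : C.carrier →ₐ[k] _).comp u.1)
        have hpg : p.toAlgHom.comp g = u.1 := by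
          ext a
          have h1 := DFunLike.congr_fun hg a
          have h2 : eq (Ideal.Quotient.mk J (g a)) = eq (eq.symm (u.1 a)) := congrArg eq h1
          rw [AlgEquiv.apply_symm_apply] at h2
          exact h2
        refine ⟨⟨g, ?_⟩, ?_⟩
        · rw [← p.res_comp, AlgHom.comp_assoc, hpg, u.2]
        · exact Subtype.ext hpg
      obs_quot := by
        intro C' C p hp K hK hKJ hq u
        exact Subsingleton.elim _ _ }
  have h := (ringKrullDim_bounds_of_obsTheory_hR k A res PUnit.{u + 1} T).2.2.1
  exact h (Module.finrank_zero_of_subsingleton)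

end Backward

end Groth.Agent.Lib.Helper1.RegLiftCrit
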