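import Mathlib
import Groth.Agent.Lib.Helper21.NagFin1

/-!
# Residue fields of a scheme locally of finite type over a field (helper1)

The separable algebraic closure of `k` in `κ(x)` is finite over `k`.
-/

set_option autoImplicit false
set_option linter.style.haveILetI false
set_option linter.unusedSectionVars false

universe u

open CategoryTheory CategoryTheory.Limits AlgebraicGeometry

namespace Groth.Agent.Lib.Helper1.ResSepFin

variable {k : Type u} [Field k] {X : Scheme.{u}} (f : X ⟶ Spec (CommRingCat.of k))

theorem essFiniteType_of_eq [LocallyOfFiniteType f] (x : X) (φ : k →+* X.residueField x)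
    (hφ : Spec.map (CommRingCat.ofHom φ) = X.fromSpecResidueField x ≫ f) : φ.EssFiniteType := by
  have h1 := Scheme.Hom.SpecMap_residueFieldMap_fromSpecResidueField f x
  have h2 := Scheme.Spec.map_residueFieldIso_inv_eq_fromSpecResidueField (CommRingCat.of k) (f x)
  rw [← h1, ← h2, ← Spec.map_comp, ← Spec.map_comp] at hφ
  have h3 := Spec.map_injective hφ
  have h4 : φ = ((f.residueFieldMap x).hom.comp
      (Scheme.Spec.residueFieldIso (CommRingCat.of k) (f x)).inv.hom).comp
      (algebraMap k (f x).asIdeal.ResidueField) := by
    have := congrArg CommRingCat.Hom.hom h3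
    simpa using this
  rw [h4]
  have hres : (f.residueFieldMap x).hom.EssFiniteType :=
    RingHom.EssFiniteType.residueFieldMap (LocallyOfFiniteType.stalkMap f x)
  have hiso : (Scheme.Spec.residueFieldIso (CommRingCat.of k) (f x)).inv.hom.EssFiniteType :=
    (RingHom.FiniteType.of_surjective _ (ConcreteCategory.bijective_of_isIso
      (Scheme.Spec.residueFieldIso (CommRingCat.of k) (f x)).inv).2).essFiniteType
  have halg : (algebraMap k (f x).asIdeal.ResidueField).EssFiniteType := by
    rw [RingHom.essFiniteType_algebraMap]
    infer_instance
  exact (halg.comp hiso).comp hres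

/-- the separable algebraic closure of `k` in a residue field of a scheme locally of finite type
over `k` is finite over `k` -/
theorem finiteDimensional_separableClosure [LocallyOfFiniteType f] (x : X)
    (φ : k →+* X.residueField x)
    (hφ : Spec.map (CommRingCat.ofHom φ) = X.fromSpecResidueField x ≫ f) :
    letI := φ.toAlgebra
    FiniteDimensional k (separableClosure k (X.residueField x)) := by
  letI := φ.toAlgebra
  haveI : Algebra.EssFiniteType k (X.residueField x) := essFiniteType_of_eq f x φ hφ
  haveI : Module.Finite k (algebraicClosure k (X.residueField x)) :=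
    Groth.Agent.Lib.Helper21.NagFin.finite_algebraicClosure k (X.residueField x)
  have hle : separableClosure k (X.residueField x) ≤ algebraicClosure k (X.residueField x) := by
    intro a ha
    rw [mem_algebraicClosure_iff]
    exact (mem_separableClosure_iff.mp ha).isIntegral.isAlgebraic
  haveI : FiniteDimensional k
      (algebraicClosure k (X.residueField x)).toSubalgebra.toSubmodule :=
    inferInstanceAs (FiniteDimensional k (algebraicClosure k (X.residueField x)))
  exact Submodule.finiteDimensional_of_le
    (S₁ := (separableClosure k (X.residueField x)).toSubalgebra.toSubmodule)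
    (S₂ := (algebraicClosure k (X.residueField x)).toSubalgebra.toSubmodule) hle

end Groth.Agent.Lib.Helper1.ResSepFin
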