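import Mathlib

/-!
# Points of a finite algebra over an algebraically closed field (helper1)
-/

set_option autoImplicit false

universe u

namespace Groth.Agent.Lib.Helper1.SQF

open Module Function

variable (K : Type u) [Field K] [IsAlgClosed K] (C : Type u) [CommRing C] [Algebra K C]
  [Module.Finite K C]

/-- Evaluation at all `K`-points. -/
noncomputable def evK : C →ₐ[K] ((C →ₐ[K] K) → K) := Pi.algHom K _ fun φ => φ

@[simp] lemma evK_apply (c : C) (φ : C →ₐ[K] K) : evK K C c φ = φ c := rfl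

lemma exists_algHom_ker_eq (𝔪 : Ideal C) [h𝔪 : 𝔪.IsMaximal] :
    ∃ φ : C →ₐ[K] K, RingHom.ker φ = 𝔪 := by
  letI : Field (C ⧸ 𝔪) := Ideal.Quotient.field 𝔪
  haveI : Algebra.IsIntegral K (C ⧸ 𝔪) := Algebra.IsIntegral.of_finite K (C ⧸ 𝔪)
  have hbij : Function.Bijective (algebraMap K (C ⧸ 𝔪)) :=
    IsAlgClosed.algebraMap_bijective_of_isIntegral
  let e : K ≃ₐ[K] (C ⧸ 𝔪) := AlgEquiv.ofBijective (Algebra.ofId K (C ⧸ 𝔪)) hbij
  refine ⟨(e.symm : (C ⧸ 𝔪) →ₐ[K] K).comp (Ideal.Quotient.mkₐ K 𝔪), ?_⟩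
  ext c
  rw [RingHom.mem_ker]
  change e.symm (Ideal.Quotient.mk 𝔪 c) = 0 ↔ c ∈ 𝔪
  rw [map_eq_zero_iff _ e.symm.injective, Ideal.Quotient.eq_zero_iff_mem]

lemma ker_isMaximal (φ : C →ₐ[K] K) : (RingHom.ker φ).IsMaximal :=
  RingHom.ker_isMaximal_of_surjective (φ : C →+* K) fun k =>
    ⟨algebraMap K C k, φ.commutes k⟩

lemma ker_injective : Function.Injective fun φ : C →ₐ[K] K => RingHom.ker φ := by
  intro φ φ' h
  ext c
  have h1 : c - algebraMap K C (φ c) ∈ RingHom.ker φ := by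
    rw [RingHom.mem_ker, map_sub, AlgHom.commutes]
    simp
  have h2 : c - algebraMap K C (φ c) ∈ RingHom.ker φ' := by
    have h' : RingHom.ker φ = RingHom.ker φ' := h
    rwa [← h']
  rw [RingHom.mem_ker, map_sub, AlgHom.commutes, sub_eq_zero] at h2
  simpa using h2.symm

lemma evK_surjective : Function.Surjective (evK K C) := by
  intro t
  have hcop : Pairwise (IsCoprime on fun φ : C →ₐ[K] K => RingHom.ker φ) := by
    intro φ φ' hne
    haveI := ker_isMaximal K C φ
    haveI := ker_isMaximal K C φ'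
    exact Ideal.isCoprime_of_isMaximal fun h => hne (ker_injective K C h)
  obtain ⟨r, hr⟩ := Ideal.exists_forall_sub_mem_ideal hcop fun φ => algebraMap K C (t φ)
  refine ⟨r, funext fun φ => ?_⟩
  have h1 := hr φ
  rw [RingHom.mem_ker, map_sub, AlgHom.commutes, sub_eq_zero] at h1
  simpa using h1

lemma isNilpotent_of_evK_eq_zero (c : C) (hc : evK K C c = 0) : IsNilpotent c := by
  haveI : IsArtinianRing C := IsArtinianRing.of_finite K C
  rw [nilpotent_iff_mem_prime]
  intro J hJ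
  haveI : J.IsMaximal := IsArtinianRing.isMaximal_of_isPrime J
  obtain ⟨φ, hφ⟩ := exists_algHom_ker_eq K C J
  rw [← hφ, RingHom.mem_ker]
  exact congrFun hc φ

lemma pow_eq_zero_of_evK_eq_zero (c : C) (hc : evK K C c = 0) (n : ℕ) (hn : finrank K C ≤ n) :
    c ^ n = 0 := by
  have hnil : IsNilpotent c := isNilpotent_of_evK_eq_zero K C c hc
  have hnil' : IsNilpotent (Algebra.lmul K C c) := hnil.map (Algebra.lmul K C)
  have h1 := hnil'.charpoly_eq_X_pow_finrank
  have h2 := LinearMap.aeval_self_charpoly (Algebra.lmul K C c)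
  rw [h1, map_pow, Polynomial.aeval_X] at h2
  have h3 : c ^ finrank K C = 0 := by
    have h4 : (Algebra.lmul K C c) ^ finrank K C = Algebra.lmul K C (c ^ finrank K C) :=
      (map_pow (Algebra.lmul K C) c (finrank K C)).symm
    rw [h4] at h2
    have := congrArg (fun f : Module.End K C => f 1) h2
    simpa using this
  obtain ⟨k, rfl⟩ := Nat.exists_eq_add_of_le hn
  rw [pow_add, h3, zero_mul]

end Groth.Agent.Lib.Helper1.SQF
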