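import Mathlib

/-!
# Base change of a finite presentation of a module (helper1)

`B` an `A`-module generated by `bgen : Fin n → B` with relations spanned by `κ : Fin m → Fin n → A`.
For an `A`-algebra `A'` the elements `1 ⊗ bgen k` generate `A' ⊗[A] B` and the relations among them
are spanned by (the images of) the `κ q`.
-/

set_option autoImplicit false

universe u

namespace Groth.Agent.Lib.Helper1.UFO

open TensorProduct

variable (A : Type u) [CommRing A] {B : Type u} [AddCommGroup B] [Module A B] {n m : ℕ}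
  (bgen : Fin n → B) (κ : Fin m → Fin n → A)
  (A' : Type u) [CommRing A'] [Algebra A A']

/-- `v' ↦ ∑ v'_k ⊗ b_k`. -/
noncomputable def pT (v' : Fin n → A') : A' ⊗[A] B := ∑ k, v' k ⊗ₜ[A] bgen k

theorem pT_add (v w : Fin n → A') : pT A bgen A' (v + w) = pT A bgen A' v + pT A bgen A' w := by
  simp only [pT, Pi.add_apply, add_tmul, Finset.sum_add_distrib]

theorem pT_sum {ι : Type*} (s : Finset ι) (v : ι → Fin n → A') :
    pT A bgen A' (∑ i ∈ s, v i) = ∑ i ∈ s, pT A bgen A' (v i) := by
  classical
  induction s using Finset.induction_on with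
  | empty => simp [pT]
  | insert a s ha ih => rw [Finset.sum_insert ha, Finset.sum_insert ha, pT_add, ih]

theorem pT_surjective (hsurj : ∀ b : B, ∃ v : Fin n → A, b = ∑ k, v k • bgen k)
    (x : A' ⊗[A] B) : ∃ v' : Fin n → A', pT A bgen A' v' = x := by
  induction x using TensorProduct.induction_on with
  | zero => exact ⟨0, by simp [pT]⟩
  | tmul a b =>
    obtain ⟨v, rfl⟩ := hsurj b
    refine ⟨fun k => v k • a, ?_⟩
    simp only [pT, tmul_sum, tmul_smul, smul_tmul']
  | add x y hx hy =>
    obtain ⟨v, rfl⟩ := hx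
    obtain ⟨w, rfl⟩ := hy
    exact ⟨v + w, pT_add A bgen A' v w⟩

/-- Relations stay relations after base change. -/
theorem pT_relation (hκ : ∀ q, ∑ k, κ q k • bgen k = 0) (s' : Fin m → A') :
    pT A bgen A' (fun k => ∑ q, s' q * algebraMap A A' (κ q k)) = 0 := by
  simp only [pT, sum_tmul]
  rw [Finset.sum_comm]
  refine Finset.sum_eq_zero fun q _ => ?_
  have h1 : ∀ k, (s' q * algebraMap A A' (κ q k)) ⊗ₜ[A] bgen k = s' q ⊗ₜ[A] (κ q k • bgen k) := by
    intro k
    rw [tmul_smul, smul_tmul', Algebra.smul_def, mul_comm]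
  simp only [h1]
  rw [← tmul_sum, hκ q, tmul_zero]

/-- All relations after base change come from the given relations. -/
theorem exists_of_pT_eq_zero
    (hker : ∀ v : Fin n → A, ∑ k, v k • bgen k = 0 → ∃ c : Fin m → A, v = ∑ q, c q • κ q)
    (hκ : ∀ q, ∑ k, κ q k • bgen k = 0)
    (hsurj : ∀ b : B, ∃ v : Fin n → A, b = ∑ k, v k • bgen k)
    (v' : Fin n → A') (hv : pT A bgen A' v' = 0) :
    ∃ s' : Fin m → A', ∀ k, v' k = ∑ q, s' q * algebraMap A A' (κ q k) := by
  classical
  let p : (Fin n → A) →ₗ[A] B := Fintype.linearCombination A bgen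
  let κMap : (Fin m → A) →ₗ[A] (Fin n → A) := Fintype.linearCombination A κ
  have hp : ∀ v, p v = ∑ k, v k • bgen k := fun v => Fintype.linearCombination_apply A bgen v
  have hκM : ∀ c, κMap c = ∑ q, c q • κ q := fun c => Fintype.linearCombination_apply A κ c
  have hex : Function.Exact κMap p := by
    rw [LinearMap.exact_iff]
    ext v
    simp only [LinearMap.mem_ker, LinearMap.mem_range]
    constructor
    · intro h
      rw [hp] at h
      obtain ⟨c, hc⟩ := hker v h
      exact ⟨c, by rw [hκM, hc]⟩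
    · rintro ⟨c, rfl⟩
      rw [hκM, map_sum]
      refine Finset.sum_eq_zero fun q _ => ?_
      rw [map_smul, hp, hκ q, smul_zero]
  have hps : Function.Surjective p := by
    intro b
    obtain ⟨v, rfl⟩ := hsurj b
    exact ⟨v, hp v⟩
  have hex' := lTensor_exact A' hex hps
  let x : A' ⊗[A] (Fin n → A) := ∑ k, v' k ⊗ₜ[A] (Pi.single k (1 : A) : Fin n → A)
  have hx : (LinearMap.lTensor A' p) x = 0 := by
    simp only [x, map_sum, LinearMap.lTensor_tmul]
    rw [← hv, pT]
    refine Finset.sum_congr rfl fun k _ => ?_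
    rw [hp]
    simp [Pi.single_apply]
  obtain ⟨y, hy⟩ := (hex' x).mp hx
  let s' : Fin m → A' := TensorProduct.piScalarRight A A' A' (Fin m) y
  have hy' : y = ∑ q, s' q ⊗ₜ[A] (Pi.single q (1 : A) : Fin m → A) := by
    have h1 : y = (TensorProduct.piScalarRight A A' A' (Fin m)).symm s' :=
      ((TensorProduct.piScalarRight A A' A' (Fin m)).symm_apply_apply y).symm
    rw [h1, ← Finset.univ_sum_single s', map_sum]
    refine Finset.sum_congr rfl fun q _ => ?_
    rw [TensorProduct.piScalarRight_symm_single]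
    simp
  refine ⟨s', fun k => ?_⟩
  have h2 : x = ∑ q, s' q ⊗ₜ[A] κ q := by
    rw [← hy, hy', map_sum]
    refine Finset.sum_congr rfl fun q _ => ?_
    rw [LinearMap.lTensor_tmul, hκM]
    simp
  have h3 := congrArg (fun z => TensorProduct.piScalarRight A A' A' (Fin n) z k) h2
  simp only [x, map_sum, TensorProduct.piScalarRight_apply, TensorProduct.piScalarRightHom_tmul,
    Finset.sum_apply] at h3
  simp only [Pi.single_apply, ite_smul, one_smul, zero_smul, Finset.sum_ite_eq,
    Finset.mem_univ, if_true] at h3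
  rw [h3]
  refine Finset.sum_congr rfl fun q _ => ?_
  rw [Algebra.smul_def, mul_comm]

end Groth.Agent.Lib.Helper1.UFO
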