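import Mathlib
import Groth.Agent.Lib.Helper1.UFO1

/-!
# A weakly universal idempotent (helper1)

`B` a finite `A`-algebra, finitely presented as a module, `J` a finitely generated ideal of `B`.
There are a finitely presented `A`-algebra `Au` and an idempotent `eu` of `Au ⊗[A] B` lying in the
extension of `J`, such that every idempotent `e'` of `A' ⊗[A] B` in the extension of `J`
(`A'` any `A`-algebra) is the image of `eu` under `φ ⊗ id` for some `A`-algebra map `φ : Au → A'`.
-/

set_option autoImplicit false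

universe u

namespace Groth.Agent.Lib.Helper1.UFO

open TensorProduct

section mulV

variable (A : Type u) [CommRing A] {n : ℕ} (γ : Fin n → Fin n → Fin n → A)

/-- Multiplication in coordinates, with structure constants `γ`. -/
def mulV (R : Type u) [CommRing R] [Algebra A R] (v w : Fin n → R) : Fin n → R :=
  fun k => ∑ i, ∑ j, v i * w j * algebraMap A R (γ i j k)

theorem map_mulV {R R' : Type u} [CommRing R] [Algebra A R] [CommRing R'] [Algebra A R']
    (φ : R →ₐ[A] R') (v w : Fin n → R) (k : Fin n) :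
    φ (mulV A γ R v w k) = mulV A γ R' (fun i => φ (v i)) (fun i => φ (w i)) k := by
  simp only [mulV, map_sum, map_mul, AlgHom.commutes]

end mulV

section pT

variable (A : Type u) [CommRing A] {B : Type u} [CommRing B] [Algebra A B] {n : ℕ}
  (bgen : Fin n → B) (γ : Fin n → Fin n → Fin n → A)
  (A' : Type u) [CommRing A'] [Algebra A A']

theorem pT_sub (v w : Fin n → A') : pT A bgen A' (v - w) = pT A bgen A' v - pT A bgen A' w := by
  simp only [pT, Pi.sub_apply, sub_tmul, Finset.sum_sub_distrib]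

theorem pT_mul (hγ : ∀ i j, bgen i * bgen j = ∑ k, γ i j k • bgen k) (v w : Fin n → A') :
    pT A bgen A' v * pT A bgen A' w = pT A bgen A' (mulV A γ A' v w) := by
  have hL : pT A bgen A' v * pT A bgen A' w =
      ∑ i, ∑ j, ∑ k, (v i * w j * algebraMap A A' (γ i j k)) ⊗ₜ[A] bgen k := by
    simp only [pT, Finset.sum_mul_sum, Algebra.TensorProduct.tmul_mul_tmul, hγ, tmul_sum]
    refine Finset.sum_congr rfl fun i _ => Finset.sum_congr rfl fun j _ =>
      Finset.sum_congr rfl fun k _ => ?_
    rw [tmul_smul, smul_tmul', Algebra.smul_def, mul_comm]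
  have hR : pT A bgen A' (mulV A γ A' v w) =
      ∑ k, ∑ i, ∑ j, (v i * w j * algebraMap A A' (γ i j k)) ⊗ₜ[A] bgen k := by
    simp only [pT, mulV, sum_tmul]
  rw [hL, hR]
  calc ∑ i, ∑ j, ∑ k, (v i * w j * algebraMap A A' (γ i j k)) ⊗ₜ[A] bgen k
      = ∑ i, ∑ k, ∑ j, (v i * w j * algebraMap A A' (γ i j k)) ⊗ₜ[A] bgen k :=
        Finset.sum_congr rfl fun i _ => Finset.sum_comm
    _ = ∑ k, ∑ i, ∑ j, (v i * w j * algebraMap A A' (γ i j k)) ⊗ₜ[A] bgen k := Finset.sum_comm

theorem pT_map {A'' : Type u} [CommRing A''] [Algebra A A''] (φ : A' →ₐ[A] A'') (v : Fin n → A') :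
    Algebra.TensorProduct.map φ (AlgHom.id A B) (pT A bgen A' v) =
      pT A bgen A'' (fun k => φ (v k)) := by
  simp only [pT, map_sum, Algebra.TensorProduct.map_tmul, AlgHom.coe_id, id_eq]

theorem pT_algebraMap (lam : Fin n → A) :
    pT A bgen A' (fun k => algebraMap A A' (lam k)) = (1 : A') ⊗ₜ[A] (∑ k, lam k • bgen k) := by
  simp only [pT, tmul_sum]
  refine Finset.sum_congr rfl fun k _ => ?_
  rw [tmul_smul, smul_tmul', Algebra.smul_def, mul_one]

end pT

section universal

variable (A : Type u) [CommRing A] {B : Type u} [CommRing B] [Algebra A B] {n m r : ℕ}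
  (bgen : Fin n → B) (κ : Fin m → Fin n → A) (γ : Fin n → Fin n → Fin n → A)
  (lam : Fin r → Fin n → A)

/-- The index type of the variables. -/
abbrev Var (n m r : ℕ) : Type := Fin n ⊕ (Fin m ⊕ ((Fin r × Fin n) ⊕ Fin m))

noncomputable def tV : Fin n → MvPolynomial (Var n m r) A := fun k => MvPolynomial.X (Sum.inl k)
noncomputable def sV : Fin m → MvPolynomial (Var n m r) A :=
  fun q => MvPolynomial.X (Sum.inr (Sum.inl q))
noncomputable def uV : Fin r → Fin n → MvPolynomial (Var n m r) A :=
  fun l i => MvPolynomial.X (Sum.inr (Sum.inr (Sum.inl (l, i))))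
noncomputable def wV : Fin m → MvPolynomial (Var n m r) A :=
  fun q => MvPolynomial.X (Sum.inr (Sum.inr (Sum.inr q)))

/-- Idempotency relations. -/
noncomputable def rel1 (k : Fin n) : MvPolynomial (Var n m r) A :=
  mulV A γ _ (tV A (m := m) (r := r)) (tV A) k - tV A k -
    ∑ q, sV A q * algebraMap A _ (κ q k)

/-- Membership-in-`J` relations. -/
noncomputable def rel2 (k : Fin n) : MvPolynomial (Var n m r) A :=
  tV A (m := m) (r := r) k -
    ∑ l, mulV A γ _ (fun i => algebraMap A _ (lam l i)) (uV A l) k -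
    ∑ q, wV A q * algebraMap A _ (κ q k)

/-- The ideal of relations. -/
noncomputable def relIdeal : Ideal (MvPolynomial (Var n m r) A) :=
  Ideal.span (Set.range (rel1 A κ γ (r := r)) ∪ Set.range (rel2 A κ γ lam))

/-- The universal algebra. -/
abbrev Au : Type u := MvPolynomial (Var n m r) A ⧸ relIdeal A κ γ lam

theorem relIdeal_fg : (relIdeal A κ γ lam).FG :=
  Submodule.fg_span ((Set.finite_range _).union (Set.finite_range _))

instance : Algebra.FinitePresentation A (Au A κ γ lam) :=
  Algebra.FinitePresentation.quotient (relIdeal_fg A κ γ lam)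

/-- The quotient map. -/
noncomputable abbrev mkU : MvPolynomial (Var n m r) A →ₐ[A] Au A κ γ lam :=
  Ideal.Quotient.mkₐ A (relIdeal A κ γ lam)

theorem mkU_rel1 (k : Fin n) : mkU A κ γ lam (rel1 A κ γ k) = 0 :=
  Ideal.Quotient.eq_zero_iff_mem.mpr (Ideal.subset_span (Or.inl ⟨k, rfl⟩))

theorem mkU_rel2 (k : Fin n) : mkU A κ γ lam (rel2 A κ γ lam k) = 0 :=
  Ideal.Quotient.eq_zero_iff_mem.mpr (Ideal.subset_span (Or.inr ⟨k, rfl⟩))

/-- The universal idempotent. -/
noncomputable def eU : Au A κ γ lam ⊗[A] B :=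
  pT A bgen (Au A κ γ lam) (fun k => mkU A κ γ lam (tV A k))

variable (hκ : ∀ q, ∑ k, κ q k • bgen k = 0)
  (hγ : ∀ i j, bgen i * bgen j = ∑ k, γ i j k • bgen k)

include hκ hγ in
theorem isIdempotentElem_eU : IsIdempotentElem (eU A bgen κ γ lam) := by
  unfold IsIdempotentElem eU
  rw [pT_mul A bgen γ _ hγ]
  have h1 : mulV A γ (Au A κ γ lam) (fun k => mkU A κ γ lam (tV A k))
      (fun k => mkU A κ γ lam (tV A k)) =
      (fun k => mkU A κ γ lam (tV A k)) +
        (fun k => ∑ q, mkU A κ γ lam (sV A q) * algebraMap A _ (κ q k)) := by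
    funext k
    have h2 := mkU_rel1 A κ γ lam k
    rw [rel1, map_sub, map_sub, map_mulV, map_sum] at h2
    simp only [map_mul, AlgHom.commutes] at h2
    rw [Pi.add_apply]
    linear_combination h2
  rw [h1, pT_add, pT_relation A bgen κ _ hκ, add_zero]

include hκ hγ in
theorem eU_mem (J : Ideal B) (hJ : ∀ l, ∑ k, lam l k • bgen k ∈ J) :
    eU A bgen κ γ lam ∈ Ideal.map
      (Algebra.TensorProduct.includeRight : B →ₐ[A] Au A κ γ lam ⊗[A] B) J := by
  unfold eU
  have h1 : (fun k => mkU A κ γ lam (tV A k)) =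
      (∑ l, mulV A γ (Au A κ γ lam) (fun i => algebraMap A _ (lam l i))
        (fun i => mkU A κ γ lam (uV A l i))) +
        (fun k => ∑ q, mkU A κ γ lam (wV A q) * algebraMap A _ (κ q k)) := by
    funext k
    have h2 := mkU_rel2 A κ γ lam k
    rw [rel2, map_sub, map_sub, map_sum, map_sum] at h2
    simp only [map_mulV, map_mul, AlgHom.commutes] at h2
    rw [Pi.add_apply, Finset.sum_apply]
    linear_combination h2
  rw [h1, pT_add, pT_relation A bgen κ _ hκ, add_zero, pT_sum]
  refine Ideal.sum_mem _ fun l _ => ?_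
  rw [← pT_mul A bgen γ _ hγ, pT_algebraMap, mul_comm]
  exact Ideal.mul_mem_left _ _ (Ideal.mem_map_of_mem _ (hJ l))

variable (hsurj : ∀ b : B, ∃ v : Fin n → A, b = ∑ k, v k • bgen k)
  (hker : ∀ v : Fin n → A, ∑ k, v k • bgen k = 0 → ∃ c : Fin m → A, v = ∑ q, c q • κ q)

include hκ hγ hsurj hker in
theorem eU_universal (J : Ideal B) (hJ : J = Ideal.span (Set.range fun l => ∑ k, lam l k • bgen k))
    (A' : Type u) [CommRing A'] [Algebra A A'] (e' : A' ⊗[A] B) (he : IsIdempotentElem e')
    (heJ : e' ∈ Ideal.map (Algebra.TensorProduct.includeRight : B →ₐ[A] A' ⊗[A] B) J) :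
    ∃ φ : Au A κ γ lam →ₐ[A] A',
      Algebra.TensorProduct.map φ (AlgHom.id A B) (eU A bgen κ γ lam) = e' := by
  classical
  obtain ⟨v', rfl⟩ := pT_surjective A bgen A' hsurj e'
  -- idempotency gives `s'`
  have h1 : pT A bgen A' (mulV A γ A' v' v' - v') = 0 := by
    rw [pT_sub, ← pT_mul A bgen γ A' hγ, he.eq, sub_self]
  obtain ⟨s', hs'⟩ := exists_of_pT_eq_zero A bgen κ A' hker hκ hsurj _ h1
  -- membership gives `u'` and `w'`
  rw [hJ, Ideal.map_span] at heJ
  have himg : (⇑(Algebra.TensorProduct.includeRight : B →ₐ[A] A' ⊗[A] B)) ''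
      (Set.range fun l => ∑ k, lam l k • bgen k) =
      Set.range fun l => pT A bgen A' (fun k => algebraMap A A' (lam l k)) := by
    rw [← Set.range_comp]
    congr 1
    funext l
    rw [pT_algebraMap]
    rfl
  rw [himg, Ideal.mem_span_range_iff_exists_fun] at heJ
  obtain ⟨c, hc⟩ := heJ
  choose u' hu' using fun l => pT_surjective A bgen A' hsurj (c l)
  have h2 : pT A bgen A' (v' - ∑ l, mulV A γ A' (fun i => algebraMap A A' (lam l i)) (u' l)) = 0 := by
    rw [pT_sub, pT_sum, ← hc, sub_eq_zero]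
    refine Finset.sum_congr rfl fun l _ => ?_
    rw [← pT_mul A bgen γ A' hγ, hu' l, mul_comm]
  obtain ⟨w', hw'⟩ := exists_of_pT_eq_zero A bgen κ A' hker hκ hsurj _ h2
  -- the classifying map
  let val : Var n m r → A' :=
    Sum.elim v' (Sum.elim s' (Sum.elim (fun p => u' p.1 p.2) w'))
  have hval : ∀ a ∈ relIdeal A κ γ lam, MvPolynomial.aeval val a = 0 := by
    intro a ha
    have hle : relIdeal A κ γ lam ≤ RingHom.ker (MvPolynomial.aeval (R := A) val).toRingHom := by
      refine Ideal.span_le.mpr ?_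
      rintro _ (⟨k, rfl⟩ | ⟨k, rfl⟩)
      · change MvPolynomial.aeval val (rel1 A κ γ k) = 0
        rw [rel1, map_sub, map_sub, map_mulV, map_sum]
        simp only [map_mul, AlgHom.commutes, tV, sV, MvPolynomial.aeval_X, val, Sum.elim_inl,
          Sum.elim_inr]
        have := hs' k
        simp only [Pi.sub_apply] at this
        rw [← this]
        ring
      · change MvPolynomial.aeval val (rel2 A κ γ lam k) = 0
        rw [rel2, map_sub, map_sub, map_sum, map_sum]
        simp only [map_mulV, map_mul, AlgHom.commutes, tV, uV, wV, MvPolynomial.aeval_X, val,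
          Sum.elim_inl, Sum.elim_inr]
        have := hw' k
        simp only [Pi.sub_apply, Finset.sum_apply] at this
        rw [← this]
        ring
    exact hle ha
  refine ⟨Ideal.Quotient.liftₐ (relIdeal A κ γ lam) (MvPolynomial.aeval val) hval, ?_⟩
  unfold eU
  rw [pT_map]
  congr 1
  funext k
  change (Ideal.Quotient.liftₐ (relIdeal A κ γ lam) (MvPolynomial.aeval val) hval)
    (Ideal.Quotient.mkₐ A _ (tV A k)) = v' k
  rw [Ideal.Quotient.liftₐ_apply, Ideal.Quotient.mkₐ_eq_mk, Ideal.Quotient.lift_mk]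
  simp [tV, val]

end universal

end Groth.Agent.Lib.Helper1.UFO
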