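import Mathlib
import Groth.Agent.Lib.Helper1.UFO2
import Groth.Agent.Lib.Helper1.SQF1

/-!
# Base change of a finite finitely presented algebra to a product of algebraically closed fields
(helper1)
-/

set_option autoImplicit false

universe u

namespace Groth.Agent.Lib.Helper1.SQF

open TensorProduct Module Groth.Agent.Lib.Helper1.UFO

lemma exists_presentation (A B : Type u) [CommRing A] [CommRing B] [Algebra A B]
    [Module.Finite A B] [Module.FinitePresentation A B] :
    ∃ (n m : ℕ) (bgen : Fin n → B) (κ : Fin m → Fin n → A), (∀ q, ∑ k, κ q k • bgen k = 0) ∧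
      (∀ b : B, ∃ v : Fin n → A, b = ∑ k, v k • bgen k) ∧
      (∀ v : Fin n → A, ∑ k, v k • bgen k = 0 → ∃ c : Fin m → A, v = ∑ q, c q • κ q) := by
  classical
  obtain ⟨n, f, hf⟩ := Module.Finite.exists_fin' A B
  let bgen : Fin n → B := fun k => f fun j => if k = j then 1 else 0
  have hfv : ∀ v : Fin n → A, f v = ∑ k, v k • bgen k := fun v => LinearMap.pi_apply_eq_sum_univ f v
  have hsurj : ∀ b : B, ∃ v : Fin n → A, b = ∑ k, v k • bgen k := by
    intro b
    obtain ⟨v, rfl⟩ := hf b
    exact ⟨v, hfv v⟩
  have hkfg : (LinearMap.ker f).FG := Module.FinitePresentation.fg_ker f hf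
  obtain ⟨m, κ, hκspan⟩ := Submodule.fg_iff_exists_fin_generating_family.mp hkfg
  have hκ : ∀ q, ∑ k, κ q k • bgen k = 0 := by
    intro q
    rw [← hfv]
    have : κ q ∈ LinearMap.ker f := hκspan ▸ Submodule.subset_span ⟨q, rfl⟩
    exact this
  have hker : ∀ v : Fin n → A, ∑ k, v k • bgen k = 0 → ∃ c : Fin m → A, v = ∑ q, c q • κ q := by
    intro v hv
    have h1 : v ∈ Submodule.span A (Set.range κ) := by
      rw [hκspan, LinearMap.mem_ker, hfv]
      exact hv
    obtain ⟨c, hc⟩ := (Submodule.mem_span_range_iff_exists_fun A).mp h1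
    exact ⟨c, hc.symm⟩
  exact ⟨n, m, bgen, κ, hκ, hsurj, hker⟩

section proj

variable (A : Type u) [CommRing A] (B : Type u) [CommRing B] [Algebra A B] {I : Type u}
  (K : I → Type u) [∀ x, CommRing (K x)] [∀ x, Algebra A (K x)]

/-- The `x`-th coordinate of an element of the base change to the product. -/
noncomputable def proj (x : I) : (∀ x, K x) ⊗[A] B →ₐ[A] K x ⊗[A] B :=
  Algebra.TensorProduct.map (Pi.evalAlgHom A K x) (AlgHom.id A B)

lemma proj_tmul (x : I) (r : ∀ x, K x) (b : B) : proj A B K x (r ⊗ₜ b) = r x ⊗ₜ b := rfl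

theorem eq_zero_of_proj_eq_zero [Module.Finite A B] [Module.FinitePresentation A B]
    (z : (∀ x, K x) ⊗[A] B) (hz : ∀ x, proj A B K x z = 0) : z = 0 := by
  obtain ⟨n, m, bgen, κ, hκ, hsurj, hker⟩ := exists_presentation A B
  obtain ⟨v', rfl⟩ := pT_surjective A bgen (∀ x, K x) hsurj z
  have h1 : ∀ x, ∃ s' : Fin m → K x, ∀ k, v' k x = ∑ q, s' q * algebraMap A (K x) (κ q k) := by
    intro x
    have h := hz x
    rw [proj, pT_map] at h
    exact exists_of_pT_eq_zero A bgen κ (K x) hker hκ hsurj _ h
  choose s' hs' using h1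
  have h2 : v' = fun k => ∑ q, (fun x => s' x q) * algebraMap A (∀ x, K x) (κ q k) := by
    funext k x
    rw [hs' x k, Finset.sum_apply]
    rfl
  rw [h2]
  exact pT_relation A bgen κ (∀ x, K x) hκ (fun q x => s' x q)

theorem exists_proj_eq [Module.Finite A B] (c : ∀ x, K x ⊗[A] B) :
    ∃ z : (∀ x, K x) ⊗[A] B, ∀ x, proj A B K x z = c x := by
  classical
  obtain ⟨n, f, hf⟩ := Module.Finite.exists_fin' A B
  let bgen : Fin n → B := fun k => f fun j => if k = j then 1 else 0
  have hfv : ∀ v : Fin n → A, f v = ∑ k, v k • bgen k := fun v => LinearMap.pi_apply_eq_sum_univ f v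
  have hsurj : ∀ b : B, ∃ v : Fin n → A, b = ∑ k, v k • bgen k := by
    intro b
    obtain ⟨v, rfl⟩ := hf b
    exact ⟨v, hfv v⟩
  choose v' hv' using fun x => pT_surjective A bgen (K x) hsurj (c x)
  refine ⟨pT A bgen (∀ x, K x) (fun k x => v' x k), fun x => ?_⟩
  rw [proj, pT_map]
  exact hv' x

end proj

section RPi

variable {I : Type u} (K : I → Type u) [∀ x, CommRing (K x)]

/-- The product over a subset. -/
def RPi (p : I → Prop) : Type u := ∀ x : {x // p x}, K x.1

instance (p : I → Prop) : CommRing (RPi K p) :=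
  inferInstanceAs (CommRing (∀ x : {x // p x}, K x.1))

/-- Restriction to a subset. -/
def RPi.restrict (p : I → Prop) : (∀ x, K x) →+* RPi K p :=
  Pi.ringHom fun x : {x // p x} => Pi.evalRingHom K x.1

instance (p : I → Prop) : Algebra (∀ x, K x) (RPi K p) := (RPi.restrict K p).toAlgebra

lemma RPi.algebraMap_apply (p : I → Prop) (r : ∀ x, K x) (x : {x // p x}) :
    (algebraMap (∀ x, K x) (RPi K p) r : ∀ x : {x // p x}, K x.1) x = r x.1 := rfl

open Classical in
/-- The indicator of a subset. -/
noncomputable def ind (p : I → Prop) : ∀ x, K x := fun x => if p x then 1 else 0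

open Classical in
lemma RPi.restrict_surjective (p : I → Prop) :
    Function.Surjective (algebraMap (∀ x, K x) (RPi K p)) := by
  intro q
  refine ⟨fun x => if h : p x then q ⟨x, h⟩ else 0, ?_⟩
  funext x
  rw [RPi.algebraMap_apply, dif_pos x.2]

open Classical in
instance (p : I → Prop) : IsLocalization.Away (ind K p) (RPi K p) := by
  refine IsLocalization.away_of_isIdempotentElem_of_mul ?_ ?_ (RPi.restrict_surjective K p)
  · funext x
    simp only [ind, Pi.mul_apply]
    split_ifs <;> simp
  · intro r s
    constructor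
    · intro h
      funext x
      simp only [ind, Pi.mul_apply]
      split_ifs with hx
      · have := congrFun h ⟨x, hx⟩
        rw [RPi.algebraMap_apply, RPi.algebraMap_apply] at this
        rw [one_mul, one_mul]
        exact this
      · simp
    · intro h
      funext x
      rw [RPi.algebraMap_apply, RPi.algebraMap_apply]
      have := congrFun h x.1
      simp only [ind, Pi.mul_apply, if_pos x.2, one_mul] at this
      exact this

instance (p : I → Prop) : Algebra.Etale (∀ x, K x) (RPi K p) :=
  Algebra.Etale.of_isLocalizationAway (ind K p)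

instance (p : I → Prop) : Module.Finite (∀ x, K x) (RPi K p) :=
  Module.Finite.of_surjective (Algebra.linearMap (∀ x, K x) (RPi K p))
    (RPi.restrict_surjective K p)

end RPi

end Groth.Agent.Lib.Helper1.SQF
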