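import Mathlib
import Groth.Agent.Lib.Helper1.SQF2

/-!
# Splitting the reduced base change to a product of algebraically closed fields (helper1)
-/

set_option autoImplicit false

universe u

namespace Groth.Agent.Lib.Helper1.SQF

open TensorProduct Module Groth.Agent.Lib.Helper1.UFO

section

variable (A : Type u) [CommRing A] (B : Type u) [CommRing B] [Algebra A B] [Module.Finite A B]
  {I : Type u} (K : I → Type u) [∀ x, Field (K x)] [∀ x, Algebra A (K x)]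

lemma exists_finrank_bound : ∃ n : ℕ, ∀ x, finrank (K x) (K x ⊗[A] B) ≤ n := by
  classical
  obtain ⟨n, f, hf⟩ := Module.Finite.exists_fin' A B
  let bgen : Fin n → B := fun k => f fun j => if k = j then 1 else 0
  have hfv : ∀ v : Fin n → A, f v = ∑ k, v k • bgen k := fun v => LinearMap.pi_apply_eq_sum_univ f v
  have hsurj : ∀ b : B, ∃ v : Fin n → A, b = ∑ k, v k • bgen k := by
    intro b
    obtain ⟨v, rfl⟩ := hf b
    exact ⟨v, hfv v⟩
  refine ⟨n, fun x => ?_⟩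
  let g : (Fin n → K x) →ₗ[K x] (K x ⊗[A] B) :=
    Fintype.linearCombination (K x) (fun k => (1 : K x) ⊗ₜ[A] bgen k)
  have hg : Function.Surjective g := by
    intro z
    obtain ⟨v', rfl⟩ := pT_surjective A bgen (K x) hsurj z
    refine ⟨v', ?_⟩
    rw [Fintype.linearCombination_apply, pT]
    refine Finset.sum_congr rfl fun k _ => ?_
    rw [TensorProduct.smul_tmul', smul_eq_mul, mul_one]
  have h1 := LinearMap.finrank_le_finrank_of_surjective hg
  rwa [Module.finrank_fin_fun] at h1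

end

section

variable (A : Type u) [CommRing A] (B : Type u) [CommRing B] [Algebra A B] [Module.Finite A B]
  [Module.FinitePresentation A B]
  {I : Type u} (K : I → Type u) [∀ x, Field (K x)] [∀ x, IsAlgClosed (K x)]
  [∀ x, Algebra A (K x)]

theorem exists_split :
    ∃ (Q : Type u) (_ : CommRing Q) (_ : Algebra (∀ x, K x) Q) (Ψ : (∀ x, K x) ⊗[A] B →+* Q),
      Module.Finite (∀ x, K x) Q ∧ Algebra.Etale (∀ x, K x) Q ∧ (∀ f : Q, ∃ g, f * g * f = f) ∧
      Function.Surjective Ψ ∧ (∀ r : ∀ x, K x, Ψ (r ⊗ₜ 1) = algebraMap _ Q r) ∧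
      ∃ N : ℕ, ∀ z, Ψ z = 0 → z ^ N = 0 := by
  classical
  obtain ⟨n, hn⟩ := exists_finrank_bound A B K
  let Pt : I → Type u := fun x => (K x ⊗[A] B) →ₐ[K x] K x
  haveI hfin : ∀ x, Finite (Pt x) := fun x => Finite.algHom (K x) (K x ⊗[A] B) (K x)
  let m : I → ℕ := fun x => Nat.card (Pt x)
  have hm : ∀ x, m x ≤ n := fun x =>
    (card_algHom_le_finrank (K x) (K x ⊗[A] B) (K x)).trans (hn x)
  let e : ∀ x, Fin (m x) ≃ Pt x := fun x => (Finite.equivFin (Pt x)).symm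
  let Q : Type u := ∀ k : Fin n, RPi K (fun x => (k : ℕ) < m x)
  let Ψ : (∀ x, K x) ⊗[A] B →+* Q := Pi.ringHom fun k =>
    (Pi.ringHom fun x : {x // (k : ℕ) < m x} =>
      ((e x.1 ⟨k, x.2⟩ : (K x.1 ⊗[A] B) →ₐ[K x.1] K x.1) : (K x.1 ⊗[A] B) →+* K x.1).comp
        (proj A B K x.1 : ((∀ x, K x) ⊗[A] B) →+* (K x.1 ⊗[A] B)) :
      ((∀ x, K x) ⊗[A] B) →+* RPi K (fun x => (k : ℕ) < m x))
  have hΨ : ∀ z (k : Fin n) (x : I) (hx : (k : ℕ) < m x),
      (Ψ z k : ∀ x : {x // (k : ℕ) < m x}, K x.1) ⟨x, hx⟩ = e x ⟨k, hx⟩ (proj A B K x z) :=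
    fun z k x hx => rfl
  refine ⟨Q, inferInstance, inferInstance, Ψ, inferInstance, inferInstance, ?_, ?_, ?_, n, ?_⟩
  · -- von Neumann regular
    intro f
    refine ⟨fun k => (fun x => ((f k : ∀ x : {x // (k : ℕ) < m x}, K x.1) x)⁻¹ :
      ∀ x : {x // (k : ℕ) < m x}, K x.1), ?_⟩
    funext k
    funext x
    change (f k : ∀ x : {x // (k : ℕ) < m x}, K x.1) x *
      ((f k : ∀ x : {x // (k : ℕ) < m x}, K x.1) x)⁻¹ *
      (f k : ∀ x : {x // (k : ℕ) < m x}, K x.1) x = (f k : ∀ x : {x // (k : ℕ) < m x}, K x.1) x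
    by_cases h : (f k : ∀ x : {x // (k : ℕ) < m x}, K x.1) x = 0
    · rw [h]
      simp
    · rw [mul_inv_cancel₀ h, one_mul]
  · -- surjective
    intro q
    let t : ∀ x, Pt x → K x := fun x φ =>
      (q ⟨((e x).symm φ).1, lt_of_lt_of_le ((e x).symm φ).2 (hm x)⟩ :
        ∀ x' : {x' // (((e x).symm φ).1 : ℕ) < m x'}, K x'.1) ⟨x, ((e x).symm φ).2⟩
    choose c hc using fun x => evK_surjective (K x) (K x ⊗[A] B) (t x)
    obtain ⟨z, hz⟩ := exists_proj_eq A B K c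
    refine ⟨z, ?_⟩
    funext k
    funext x
    obtain ⟨x, hx⟩ := x
    rw [hΨ, hz]
    have h1 : e x ⟨k, hx⟩ (c x) = t x (e x ⟨k, hx⟩) := congrFun (hc x) (e x ⟨k, hx⟩)
    rw [h1]
    have key : ∀ (j : Fin (m x)) (hj : j = ⟨k, hx⟩),
        (q ⟨j.1, lt_of_lt_of_le j.2 (hm x)⟩ :
          ∀ x' : {x' // ((j.1 : ℕ)) < m x'}, K x'.1) ⟨x, j.2⟩ =
        (q k : ∀ x' : {x' // (k : ℕ) < m x'}, K x'.1) ⟨x, hx⟩ := by
      intro j hj
      subst hj
      rfl
    exact key _ ((e x).symm_apply_apply ⟨k, hx⟩)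
  · -- algebra map
    intro r
    funext k
    funext x
    obtain ⟨x, hx⟩ := x
    rw [hΨ, proj_tmul]
    change _ = r x
    have h1 : (r x ⊗ₜ[A] (1 : B) : K x ⊗[A] B) = algebraMap (K x) (K x ⊗[A] B) (r x) := rfl
    rw [h1, AlgHom.commutes]
    rfl
  · -- kernel
    intro z hz
    apply eq_zero_of_proj_eq_zero A B K
    intro x
    rw [map_pow]
    apply pow_eq_zero_of_evK_eq_zero (K x) (K x ⊗[A] B) _ _ n (hn x)
    funext φ
    rw [evK_apply]
    let j := (e x).symm φ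
    have hj : e x j = φ := (e x).apply_symm_apply φ
    have h1 := hΨ z ⟨j.1, lt_of_lt_of_le j.2 (hm x)⟩ x j.2
    rw [hz] at h1
    have h2 : (⟨(⟨j.1, lt_of_lt_of_le j.2 (hm x)⟩ : Fin n), j.2⟩ : Fin (m x)) = j := rfl
    rw [h2, hj] at h1
    exact h1.symm

end

end Groth.Agent.Lib.Helper1.SQF
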