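import Mathlib

/-!
# Affine-scheme lemmas for the universal finite open (helper1)
-/

set_option autoImplicit false

universe u

namespace Groth.Agent.Lib.Helper1.UFO

open AlgebraicGeometry CategoryTheory Limits TensorProduct

/-- The morphism of affine schemes with prescribed map on global sections. -/
noncomputable def homOfAppTop {X Y : Scheme.{u}} [IsAffine X] [IsAffine Y]
    (φ : Γ(Y, ⊤) ⟶ Γ(X, ⊤)) : X ⟶ Y :=
  X.isoSpec.hom ≫ Spec.map φ ≫ Y.isoSpec.inv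

lemma homOfAppTop_appTop {X Y : Scheme.{u}} [IsAffine X] [IsAffine Y]
    (φ : Γ(Y, ⊤) ⟶ Γ(X, ⊤)) : (homOfAppTop φ).appTop = φ := by
  apply Spec.map_injective
  have h := Scheme.isoSpec_hom_naturality (homOfAppTop φ)
  rw [← cancel_epi X.isoSpec.hom, h]
  simp [homOfAppTop]

lemma isClosed_basicOpen_of_isIdempotentElem {X : Scheme.{u}} [IsAffine X] (e : Γ(X, ⊤))
    (he : IsIdempotentElem e) : IsClosed (X.basicOpen e : Set X) := by
  rw [← Scheme.map_PrimeSpectrum_basicOpen_of_affine]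
  have h : IsClopen (PrimeSpectrum.basicOpen e : Set (PrimeSpectrum Γ(X, ⊤))) :=
    PrimeSpectrum.isClopen_iff.mpr ⟨e, he, rfl⟩
  exact h.1.preimage X.isoSpec.hom.continuous

lemma exists_idempotent_basicOpen_eq {X : Scheme.{u}} [IsAffine X] (Z : X.Opens)
    (hZ : IsClosed (Z : Set X)) : ∃ e : Γ(X, ⊤), IsIdempotentElem e ∧ X.basicOpen e = Z := by
  have hs : IsClopen (X.isoSpec.inv ⁻¹' (Z : Set X)) :=
    ⟨hZ.preimage X.isoSpec.inv.continuous, Z.2.preimage X.isoSpec.inv.continuous⟩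
  obtain ⟨e, he, hse⟩ := PrimeSpectrum.isClopen_iff.mp hs
  refine ⟨e, he, ?_⟩
  rw [← Scheme.map_PrimeSpectrum_basicOpen_of_affine]
  ext x
  have hx : X.isoSpec.inv (X.isoSpec.hom x) = x := by
    rw [← Scheme.Hom.comp_apply, Iso.hom_inv_id]
    rfl
  constructor
  · intro h
    have h1 : X.isoSpec.hom x ∈ X.isoSpec.inv ⁻¹' (Z : Set X) := by
      rw [hse]
      exact h
    have h2 : X.isoSpec.inv (X.isoSpec.hom x) ∈ Z := h1
    rwa [hx] at h2
  · intro h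
    have h1 : X.isoSpec.hom x ∈ X.isoSpec.inv ⁻¹' (Z : Set X) := by
      change X.isoSpec.inv (X.isoSpec.hom x) ∈ Z
      rwa [hx]
    rw [hse] at h1
    exact h1

lemma basicOpen_le_iSup_of_mem_span {X : Scheme.{u}} {ι : Type*} (h : ι → Γ(X, ⊤)) (e : Γ(X, ⊤))
    (he : e ∈ Ideal.span (Set.range h)) : X.basicOpen e ≤ ⨆ l, X.basicOpen (h l) := by
  intro x hx
  by_contra hcon
  have h1 : x ∈ X.zeroLocus (U := ⊤) (Set.range h) := by
    rw [Scheme.mem_zeroLocus_iff]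
    rintro f ⟨l, rfl⟩ hxf
    exact hcon (TopologicalSpace.Opens.mem_iSup.mpr ⟨l, hxf⟩)
  rw [← Scheme.zeroLocus_span, Scheme.mem_zeroLocus_iff] at h1
  exact h1 e he hx

lemma mem_span_of_basicOpen_le_iSup {X : Scheme.{u}} [IsAffine X] {ι : Type*} (h : ι → Γ(X, ⊤))
    (e : Γ(X, ⊤)) (he : IsIdempotentElem e) (hle : X.basicOpen e ≤ ⨆ l, X.basicOpen (h l)) :
    e ∈ Ideal.span (Set.range h) := by
  have hrad : e ∈ (Ideal.span (Set.range h)).radical := by
    rw [Ideal.radical_eq_sInf, Ideal.mem_sInf]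
    rintro J ⟨hIJ, hJ⟩
    by_contra heJ
    let p : PrimeSpectrum Γ(X, ⊤) := ⟨J, hJ⟩
    have hp : p ∈ PrimeSpectrum.basicOpen e := heJ
    have hx : X.isoSpec.hom (X.isoSpec.inv p) = p := by
      rw [← Scheme.Hom.comp_apply, Iso.inv_hom_id]
      rfl
    have h1 : X.isoSpec.inv p ∈ X.basicOpen e := by
      rw [← Scheme.map_PrimeSpectrum_basicOpen_of_affine]
      change X.isoSpec.hom (X.isoSpec.inv p) ∈ PrimeSpectrum.basicOpen e
      rwa [hx]
    obtain ⟨l, hl⟩ := TopologicalSpace.Opens.mem_iSup.mp (hle h1)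
    rw [← Scheme.map_PrimeSpectrum_basicOpen_of_affine] at hl
    have hl' : X.isoSpec.hom (X.isoSpec.inv p) ∈ PrimeSpectrum.basicOpen (h l) := hl
    rw [hx] at hl'
    exact hl' (hIJ (Ideal.subset_span ⟨l, rfl⟩))
  obtain ⟨n, hn⟩ := hrad
  rcases n with _ | n
  · rw [pow_zero] at hn
    rw [(Ideal.eq_top_iff_one _).mpr hn]
    trivial
  · rwa [he.pow_succ_eq] at hn

/-- The tensor product description of global sections of a fibre product of affine schemes. -/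
lemma exists_bridge {T Y Y' : Scheme.{u}} [IsAffine T] [IsAffine Y] [IsAffine Y']
    (π : T ⟶ Y) (b : Y' ⟶ Y) [Algebra Γ(Y, ⊤) Γ(T, ⊤)] [Algebra Γ(Y, ⊤) Γ(Y', ⊤)]
    (hπ : algebraMap Γ(Y, ⊤) Γ(T, ⊤) = π.appTop.hom)
    (hb : algebraMap Γ(Y, ⊤) Γ(Y', ⊤) = b.appTop.hom) :
    ∃ Φ : Γ(Y', ⊤) ⊗[Γ(Y, ⊤)] Γ(T, ⊤) ≃+* Γ(pullback π b, ⊤),
      (∀ t, Φ (1 ⊗ₜ t) = (pullback.fst π b).appTop t) ∧
      (∀ a', Φ (a' ⊗ₜ 1) = (pullback.snd π b).appTop a') := by
  have h1 : IsPushout b.appTop π.appTop (pullback.snd π b).appTop (pullback.fst π b).appTop :=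
    (isPushout_appTop_of_isPullback (IsPullback.of_hasPullback π b)).flip
  have h2 := CommRingCat.isPushout_tensorProduct Γ(Y, ⊤) Γ(Y', ⊤) Γ(T, ⊤)
  rw [hb, hπ] at h2
  let iso := h2.isoIsPushout _ _ h1
  refine ⟨iso.commRingCatIsoToRingEquiv, ?_, ?_⟩
  · intro t
    have := h2.inr_isoIsPushout_hom _ _ h1
    exact congr($(this).hom t)
  · intro a'
    have := h2.inl_isoIsPushout_hom _ _ h1
    exact congr($(this).hom a')

end Groth.Agent.Lib.Helper1.UFO
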