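import Groth.Agent.Lib.Helper1.ZMTFin2
import Groth.Agent.Lib.Helper1.IntLim3

/-!
# Zariski's main theorem, finite and finitely presented form (helper1)
-/

set_option autoImplicit false
set_option linter.unusedSectionVars false
set_option linter.style.haveILetI false
universe u

namespace Groth.Agent.Lib.Helper1.ZMTFin

open AlgebraicGeometry CategoryTheory CategoryTheory.Limits TopologicalSpace Opposite
open Scheme.IdealSheafData

/-- **Zariski's main theorem**: a separated, quasi-compact, locally quasi-finite morphism locally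
of finite presentation over a qcqs base is a quasi-compact open immersion followed by a finite
morphism of finite presentation. -/
theorem zmt_finite_fp {X S : Scheme.{u}} (f : X ⟶ S) [CompactSpace ↑S] [QuasiSeparatedSpace ↑S]
    [IsSeparated f] [QuasiCompact f] [LocallyQuasiFinite f] [LocallyOfFinitePresentation f] :
    ∃ (T : Scheme.{u}) (j : X ⟶ T) (π : T ⟶ S), IsOpenImmersion j ∧ QuasiCompact j ∧ IsFinite π ∧
      LocallyOfFinitePresentation π ∧ j ≫ π = f := by
  classical
  haveI : CompactSpace X := QuasiCompact.compactSpace_of_compactSpace f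
  let o : X ⟶ f.normalization := f.toNormalization
  let ν : f.normalization ⟶ S := f.fromNormalization
  have hoν : o ≫ ν = f := f.toNormalization_fromNormalization
  haveI : IsOpenImmersion o := (inferInstance : IsOpenImmersion f.toNormalization)
  haveI : IsIntegralHom ν := (inferInstance : IsIntegralHom f.fromNormalization)
  obtain ⟨I, _, _, _, D, c, hc, hD, ⟨e⟩⟩ := IntLim.integral_isLimit_finite_fp ν
  haveI : IsCofiltered Iᵒᵖ := inferInstance
  haveI : IsConnected Iᵒᵖ := IsCofiltered.isConnected Iᵒᵖ
  let D' : Iᵒᵖ ⥤ Scheme.{u} := D ⋙ Over.forget S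
  let c' : Cone D' := (Over.forget S).mapCone c
  have hc' : IsLimit c' := isLimitOfPreserves (Over.forget S) hc
  let t : D' ⟶ (Functor.const Iᵒᵖ).obj S :=
    { app := fun i => (D.obj i).hom
      naturality := fun i i' a => by
        change (D.map a).left ≫ (D.obj i').hom = (D.obj i).hom ≫ 𝟙 S
        refine Eq.trans ?_ (Category.comp_id _).symm
        exact Over.w (D.map a) }
  haveI hfin : ∀ i, IsFinite (D.obj i).hom := fun i => (hD i).1
  haveI hlfp : ∀ i, LocallyOfFinitePresentation (D.obj i).hom := fun i => (hD i).2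
  haveI : ∀ {i i' : Iᵒᵖ} (a : i ⟶ i'), IsAffineHom (D'.map a) := by
    intro i i' a
    have hw : (D.map a).left ≫ (D.obj i').hom = (D.obj i).hom := Over.w (D.map a)
    haveI : IsAffineHom ((D.map a).left ≫ (D.obj i').hom) := by rw [hw]; infer_instance
    exact IsAffineHom.of_comp (D.map a).left (D.obj i').hom
  haveI : ∀ i, CompactSpace (D'.obj i) := fun i =>
    (QuasiCompact.compactSpace_of_compactSpace (D.obj i).hom : CompactSpace ↥(D.obj i).left)
  haveI : ∀ i, QuasiSeparatedSpace (D'.obj i) := fun i =>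
    (quasiSeparatedSpace_of_quasiSeparated (D.obj i).hom : QuasiSeparatedSpace ↥(D.obj i).left)
  -- the open immersion into the limit
  let o₀ : X ⟶ c'.pt := o ≫ e.inv.left
  haveI : IsOpenImmersion o₀ := (inferInstance : IsOpenImmersion (o ≫ e.inv.left))
  let g : c'.pt ⟶ S := c.pt.hom
  have hg : ∀ i, c'.π.app i ≫ t.app i = g := fun i => Over.w (c.π.app i)
  have hew : e.inv.left ≫ c.pt.hom = ν := Over.w e.inv
  have ho₀g : o₀ ≫ g = f := by
    change (o ≫ e.inv.left) ≫ c.pt.hom = f
    rw [Category.assoc, hew, hoν]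
  haveI : LocallyOfFinitePresentation (o₀ ≫ g) := by rw [ho₀g]; infer_instance
  have hlft : ∀ i, LocallyOfFiniteType (t.app i) := fun i =>
    (inferInstance : LocallyOfFiniteType (D.obj i).hom)
  have hsep : ∀ i, IsSeparated (t.app i) := fun i =>
    (inferInstance : IsSeparated (D.obj i).hom)
  obtain ⟨k, hk⟩ := exists_isImmersion_comp_leg D' t c' hc' o₀ g hg hlft hsep
  -- cut down to a closed subscheme of finite presentation
  let T₁ : Scheme.{u} := (D.obj k).left
  let p : T₁ ⟶ S := (D.obj k).hom
  let πk : c'.pt ⟶ T₁ := c'.π.app k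
  have hπk : πk ≫ p = g := hg k
  let ι₁ : X ⟶ T₁ := o₀ ≫ πk
  haveI : IsImmersion ι₁ := hk
  have hι₁ : ι₁ ≫ p = f := by
    change (o₀ ≫ πk) ≫ p = f
    rw [Category.assoc, hπk, ho₀g]
  haveI : LocallyOfFinitePresentation (ι₁ ≫ p) := by rw [hι₁]; infer_instance
  haveI : CompactSpace T₁ := QuasiCompact.compactSpace_of_compactSpace p
  haveI : QuasiSeparatedSpace T₁ := quasiSeparatedSpace_of_quasiSeparated p
  haveI : IsFinite p := hfin k
  haveI : LocallyOfFinitePresentation p := hlfp k
  obtain ⟨J, j, hJ, hj, hjι⟩ := exists_fp_closed_open p ι₁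
  refine ⟨J.subscheme, j, J.subschemeι ≫ p, hj, ?_, inferInstance, inferInstance, ?_⟩
  · haveI : QuasiCompact (j ≫ J.subschemeι ≫ p) := by
      rw [← Category.assoc, hjι, hι₁]; infer_instance
    exact QuasiCompact.of_comp j (J.subschemeι ≫ p)
  · rw [← Category.assoc, hjι, hι₁]

end Groth.Agent.Lib.Helper1.ZMTFin
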