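import Mathlib
import Groth.Agent.Lib.Helper1.SQF3
import Groth.Agent.Lib.Helper1.UFO4
import Groth.Agent.Lib.Helper1.ZMTFin3

/-!
# A quasi-finite morphism decomposes after a surjective affine base change (helper1)
-/

set_option autoImplicit false

universe u

namespace Groth.Agent.Lib.Helper1.SQF

open AlgebraicGeometry CategoryTheory Limits TensorProduct Groth.Agent.Lib.Helper1.UFO

/-- In the spectrum of a von Neumann regular ring every compact open is closed. -/
lemma isClosed_of_isCompact_isOpen_of_vnr (Q : Type u) [CommRing Q]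
    (hQ : ∀ f : Q, ∃ g, f * g * f = f) (s : Set (PrimeSpectrum Q)) (hs : IsCompact s)
    (ho : IsOpen s) : IsClosed s := by
  obtain ⟨t, rfl⟩ := PrimeSpectrum.isCompact_isOpen_iff.mp ⟨hs, ho⟩
  have h1 : (PrimeSpectrum.zeroLocus (t : Set Q))ᶜ =
      ⋃ f ∈ t, (PrimeSpectrum.basicOpen f : Set (PrimeSpectrum Q)) := by
    ext p
    simp [PrimeSpectrum.mem_zeroLocus, Set.subset_def]
  rw [h1]
  refine Set.Finite.isClosed_biUnion t.finite_toSet fun f _ => ?_
  obtain ⟨g, hg⟩ := hQ f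
  have hidem : IsIdempotentElem (f * g) := by
    change f * g * (f * g) = f * g
    calc f * g * (f * g) = (f * g * f) * g := by ring
      _ = f * g := by rw [hg]
  have heq : PrimeSpectrum.basicOpen f = PrimeSpectrum.basicOpen (f * g) := by
    apply le_antisymm
    · intro p hp
      rw [PrimeSpectrum.mem_basicOpen] at hp ⊢
      intro hfg
      apply hp
      rw [← hg]
      exact Ideal.mul_mem_right _ _ hfg
    · rw [PrimeSpectrum.basicOpen_mul]
      exact inf_le_left
  rw [heq]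
  exact (PrimeSpectrum.isClopen_iff.mpr ⟨f * g, hidem, rfl⟩).1

/-- The tensor product description of global sections of a fibre product of affine schemes
(base on the left). -/
lemma exists_bridge' {T Y Y' : Scheme.{u}} [IsAffine T] [IsAffine Y] [IsAffine Y']
    (b : Y' ⟶ Y) (π : T ⟶ Y) [Algebra Γ(Y, ⊤) Γ(T, ⊤)] [Algebra Γ(Y, ⊤) Γ(Y', ⊤)]
    (hπ : algebraMap Γ(Y, ⊤) Γ(T, ⊤) = π.appTop.hom)
    (hb : algebraMap Γ(Y, ⊤) Γ(Y', ⊤) = b.appTop.hom) :
    ∃ Φ : Γ(Y', ⊤) ⊗[Γ(Y, ⊤)] Γ(T, ⊤) ≃+* Γ(pullback b π, ⊤),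
      (∀ t, Φ (1 ⊗ₜ t) = (pullback.snd b π).appTop t) ∧
      (∀ a', Φ (a' ⊗ₜ 1) = (pullback.fst b π).appTop a') := by
  have h1 : IsPushout b.appTop π.appTop (pullback.fst b π).appTop (pullback.snd b π).appTop :=
    isPushout_appTop_of_isPullback (IsPullback.of_hasPullback b π)
  have h2 := CommRingCat.isPushout_tensorProduct Γ(Y, ⊤) Γ(Y', ⊤) Γ(T, ⊤)
  rw [hb, hπ] at h2
  let iso := h2.isoIsPushout _ _ h1
  refine ⟨iso.commRingCatIsoToRingEquiv, ?_, ?_⟩
  · intro t
    have := h2.inr_isoIsPushout_hom _ _ h1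
    exact congr($(this).hom t)
  · intro a'
    have := h2.inl_isoIsPushout_hom _ _ h1
    exact congr($(this).hom a')

lemma surjective_SpecMap_of_nil_ker {R S : CommRingCat.{u}} (ψ : R ⟶ S)
    (hsurj : Function.Surjective ψ.hom) (N : ℕ) (hker : ∀ w, ψ.hom w = 0 → w ^ N = 0) :
    Function.Surjective (Spec.map ψ) := by
  intro p
  let p' : PrimeSpectrum R := p
  have hp : p' ∈ Set.range (PrimeSpectrum.comap ψ.hom) := by
    rw [range_comap_of_surjective _ _ hsurj, PrimeSpectrum.mem_zeroLocus]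
    intro w hw
    have h1 : w ^ N = 0 := hker w hw
    have h2 : w ^ N ∈ p'.asIdeal := by
      rw [h1]
      exact zero_mem _
    exact p'.2.mem_of_pow_mem N h2
  obtain ⟨q, hq⟩ := hp
  exact ⟨q, hq⟩

end Groth.Agent.Lib.Helper1.SQF
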