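import Mathlib
import Groth.Agent.Lib.Helper1.SQF4

/-!
# A quasi-finite morphism decomposes after a surjective affine base change: main theorem (helper1)
-/

set_option autoImplicit false

universe u

namespace Groth.Agent.Lib.Helper1.SQF

open AlgebraicGeometry CategoryTheory Limits TensorProduct Groth.Agent.Lib.Helper1.UFO

/-- Algebraic closure of the residue field at a prime. -/
def KK (A : Type u) [CommRing A] (x : PrimeSpectrum A) : Type u :=
  AlgebraicClosure x.asIdeal.ResidueField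

noncomputable instance (A : Type u) [CommRing A] (x : PrimeSpectrum A) : Field (KK A x) :=
  inferInstanceAs (Field (AlgebraicClosure x.asIdeal.ResidueField))

instance (A : Type u) [CommRing A] (x : PrimeSpectrum A) : IsAlgClosed (KK A x) :=
  inferInstanceAs (IsAlgClosed (AlgebraicClosure x.asIdeal.ResidueField))

noncomputable instance (A : Type u) [CommRing A] (x : PrimeSpectrum A) : Algebra A (KK A x) :=
  inferInstanceAs (Algebra A (AlgebraicClosure x.asIdeal.ResidueField))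

lemma algebraMap_KK_eq_zero_iff (A : Type u) [CommRing A] (x : PrimeSpectrum A) (r : A) :
    algebraMap A (KK A x) r = 0 ↔ r ∈ x.asIdeal := by
  change algebraMap A (AlgebraicClosure x.asIdeal.ResidueField) r = 0 ↔ _
  rw [IsScalarTower.algebraMap_apply A x.asIdeal.ResidueField
      (AlgebraicClosure x.asIdeal.ResidueField) r, map_eq_zero,
    Ideal.algebraMap_residueField_eq_zero]

lemma surjective_SpecMap_algebraMap_pi (A : Type u) [CommRing A] :
    Function.Surjective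
      (Spec.map (CommRingCat.ofHom (algebraMap A (∀ x, KK A x)))) := by
  intro p
  let p' : PrimeSpectrum A := p
  let q : PrimeSpectrum (∀ x, KK A x) :=
    PrimeSpectrum.comap (Pi.evalRingHom (KK A) p') ⟨⊥, Ideal.isPrime_bot⟩
  refine ⟨q, ?_⟩
  change PrimeSpectrum.comap (algebraMap A (∀ x, KK A x)) q = p'
  apply PrimeSpectrum.ext
  ext r
  change Pi.evalRingHom (KK A) p' (algebraMap A (∀ x, KK A x) r) ∈ (⊥ : Ideal (KK A p')) ↔ _
  rw [Ideal.mem_bot]
  exact algebraMap_KK_eq_zero_iff A p' r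

theorem decompose_quasi_finite {Y X : Scheme.{u}} [IsAffine X] [IsAffine Y] (f : Y ⟶ X)
    [LocallyQuasiFinite f] [LocallyOfFinitePresentation f] :
    ∃ (X' : Scheme.{u}) (_ : IsAffine X') (a : X' ⟶ X) (_ : Surjective a) (Z' : Scheme.{u})
      (c : Z' ⟶ pullback a f) (_ : IsClosedImmersion c) (_ : Surjective c),
      IsFinite (c ≫ pullback.fst a f) ∧ Etale (c ≫ pullback.fst a f) := by
  classical
  obtain ⟨T, j, π, hj, hjqc, hπfin, hπfp, hjπ⟩ := Groth.Agent.Lib.Helper1.ZMTFin.zmt_finite_fp f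
  haveI := hj
  haveI := hπfin
  haveI := hπfp
  haveI : IsAffine T := isAffine_of_isAffineHom π
  letI algB : Algebra Γ(X, ⊤) Γ(T, ⊤) := π.appTop.hom.toAlgebra
  haveI hfin : Module.Finite Γ(X, ⊤) Γ(T, ⊤) := π.finite_appTop
  haveI hfpa : Algebra.FinitePresentation Γ(X, ⊤) Γ(T, ⊤) := π.finitePresentation_appTop
  haveI hfp : Module.FinitePresentation Γ(X, ⊤) Γ(T, ⊤) :=
    Module.FinitePresentation.of_finite_of_finitePresentation _ _
  obtain ⟨Q, _, _, Ψ, hQfin, hQet, hvnr, hΨsurj, hΨalg, N, hΨker⟩ :=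
    exists_split Γ(X, ⊤) Γ(T, ⊤) (KK Γ(X, ⊤))
  -- the base
  let X' : Scheme.{u} := Spec (.of (∀ x, KK Γ(X, ⊤) x))
  let φ : Γ(X, ⊤) ⟶ CommRingCat.of (∀ x, KK Γ(X, ⊤) x) :=
    CommRingCat.ofHom (algebraMap Γ(X, ⊤) (∀ x, KK Γ(X, ⊤) x))
  let φa : Γ(X, ⊤) ⟶ Γ(X', ⊤) := φ ≫ (Scheme.ΓSpecIso (.of (∀ x, KK Γ(X, ⊤) x))).inv
  let a : X' ⟶ X := homOfAppTop φa
  have ha : a.appTop = φa := homOfAppTop_appTop φa
  haveI hasurj : Surjective a := by
    haveI : Surjective (Spec.map φ) := ⟨surjective_SpecMap_algebraMap_pi Γ(X, ⊤)⟩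
    change Surjective (X'.isoSpec.hom ≫ Spec.map φa ≫ X.isoSpec.inv)
    rw [show Spec.map φa = Spec.map (Scheme.ΓSpecIso (.of (∀ x, KK Γ(X, ⊤) x))).inv ≫
      Spec.map φ from Spec.map_comp _ _]
    infer_instance
  letI algX' : Algebra Γ(X, ⊤) Γ(X', ⊤) := a.appTop.hom.toAlgebra
  -- ι : Γ(X') ≃ R as A-algebras
  let ιe : Γ(X', ⊤) ≃ₐ[Γ(X, ⊤)] (∀ x, KK Γ(X, ⊤) x) :=
    { (Scheme.ΓSpecIso (.of (∀ x, KK Γ(X, ⊤) x))).commRingCatIsoToRingEquiv with
      commutes' := fun r => by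
        rw [RingHom.algebraMap_toAlgebra, ha]
        exact congr($((Scheme.ΓSpecIso (.of (∀ x, KK Γ(X, ⊤) x))).inv_hom_id).hom
          (algebraMap Γ(X, ⊤) (∀ x, KK Γ(X, ⊤) x) r)) }
  have hιe : ∀ r', ιe r' = (Scheme.ΓSpecIso (.of (∀ x, KK Γ(X, ⊤) x))).hom.hom r' := fun _ => rfl
  obtain ⟨Φ, hΦ1, hΦ2⟩ := exists_bridge' a π rfl rfl
  let ιB : Γ(X', ⊤) ⊗[Γ(X, ⊤)] Γ(T, ⊤) ≃ₐ[Γ(X, ⊤)] (∀ x, KK Γ(X, ⊤) x) ⊗[Γ(X, ⊤)] Γ(T, ⊤) :=
    Algebra.TensorProduct.congr ιe AlgEquiv.refl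
  let E : Γ(pullback a π, ⊤) ≃+* (∀ x, KK Γ(X, ⊤) x) ⊗[Γ(X, ⊤)] Γ(T, ⊤) :=
    Φ.symm.trans ιB.toRingEquiv
  let ψ : Γ(pullback a π, ⊤) →+* Q := Ψ.comp (E : _ →+* _)
  have hψsurj : Function.Surjective ψ := hΨsurj.comp E.surjective
  have hψker : ∀ w, ψ w = 0 → w ^ N = 0 := by
    intro w hw
    have h1 : (E w) ^ N = 0 := hΨker (E w) hw
    rw [← map_pow] at h1
    exact (map_eq_zero_iff E E.injective).mp h1
  have hψfst : ∀ r', ψ ((pullback.fst a π).appTop.hom r') = algebraMap _ Q (ιe r') := by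
    intro r'
    have h1 : E ((pullback.fst a π).appTop.hom r') = (ιe r') ⊗ₜ 1 := by
      change ιB (Φ.symm ((pullback.fst a π).appTop.hom r')) = _
      rw [← hΦ2 r', Φ.symm_apply_apply]
      simp [ιB]
    change Ψ (E ((pullback.fst a π).appTop.hom r')) = _
    rw [h1, hΨalg]
  -- the closed subscheme of the finite model
  let Zt : Scheme.{u} := Spec (.of Q)
  let ct : Zt ⟶ pullback a π := Spec.map (CommRingCat.ofHom ψ) ≫ (pullback a π).isoSpec.inv
  haveI : IsClosedImmersion (Spec.map (CommRingCat.ofHom ψ)) :=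
    IsClosedImmersion.spec_of_surjective _ hψsurj
  haveI hctcl : IsClosedImmersion ct := inferInstance
  haveI hctsurj : Surjective ct := by
    haveI : Surjective (Spec.map (CommRingCat.ofHom ψ)) :=
      ⟨surjective_SpecMap_of_nil_ker (CommRingCat.ofHom ψ) hψsurj N hψker⟩
    infer_instance
  have hctfst : ct ≫ pullback.fst a π =
      Spec.map (CommRingCat.ofHom (algebraMap (∀ x, KK Γ(X, ⊤) x) Q)) := by
    have h1 := Scheme.isoSpec_inv_naturality (pullback.fst a π)
    change (Spec.map (CommRingCat.ofHom ψ) ≫ (pullback a π).isoSpec.inv) ≫ pullback.fst a π = _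
    rw [Category.assoc, ← h1, Scheme.isoSpec_Spec_inv, ← Spec.map_comp, ← Spec.map_comp]
    congr 1
    ext r
    change ψ ((pullback.fst a π).appTop.hom
      ((Scheme.ΓSpecIso (.of (∀ x, KK Γ(X, ⊤) x))).inv.hom r)) = _
    rw [hψfst, hιe]
    congr 1
    exact congr($((Scheme.ΓSpecIso (.of (∀ x, KK Γ(X, ⊤) x))).inv_hom_id).hom r)
  haveI hfinct : IsFinite (ct ≫ pullback.fst a π) := by
    rw [hctfst, IsFinite.SpecMap_iff]
    exact RingHom.finite_algebraMap.mpr hQfin
  haveI hetct : Etale (ct ≫ pullback.fst a π) := by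
    rw [hctfst, HasRingHomProperty.Spec_iff (P := @Etale)]
    exact RingHom.etale_algebraMap.mpr hQet
  -- the open part
  have e1 : a ≫ 𝟙 X = 𝟙 X' ≫ a := by rw [Category.comp_id, Category.id_comp]
  have e2 : f ≫ 𝟙 X = j ≫ π := by rw [Category.comp_id, hjπ]
  let jh : pullback a f ⟶ pullback a π := pullback.map a f a π (𝟙 X') j (𝟙 X) e1 e2
  haveI : IsOpenImmersion jh := inferInstance
  let Z' : Scheme.{u} := pullback ct jh
  let c : Z' ⟶ pullback a f := pullback.snd ct jh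
  let o : Z' ⟶ Zt := pullback.fst ct jh
  haveI hccl : IsClosedImmersion c := inferInstance
  haveI hcsurj : Surjective c := MorphismProperty.pullback_snd (P := @Surjective) _ _ hctsurj
  haveI hoopen : IsOpenImmersion o := inferInstance
  haveI : IsAffine Z' := inferInstance
  have horange : IsClosed (Set.range o) := by
    apply isClosed_of_isCompact_isOpen_of_vnr Q hvnr
    · exact isCompact_range o.continuous
    · exact o.isOpenEmbedding.isOpen_range
  haveI hocl : IsClosedImmersion o := IsClosedImmersion.of_isPreimmersion o horange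
  have hcomp : c ≫ pullback.fst a f = o ≫ (ct ≫ pullback.fst a π) := by
    have h1 : jh ≫ pullback.fst a π = pullback.fst a f ≫ 𝟙 X' := pullback.lift_fst _ _ _
    have h2 : o ≫ ct = c ≫ jh := pullback.condition
    rw [← Category.assoc, h2, Category.assoc, h1, Category.comp_id]
  refine ⟨X', inferInstance, a, hasurj, Z', c, hccl, hcsurj, ?_, ?_⟩
  · rw [hcomp]
    infer_instance
  · rw [hcomp]
    infer_instance

end Groth.Agent.Lib.Helper1.SQF
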