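import Mathlib
import Groth.Agent.Lib.Helper29.QCohAffine

/-! # Sections of `N~` over an affine open of `Spec R` are the base change of `N` -/

universe u
open AlgebraicGeometry CategoryTheory Opposite TopologicalSpace TensorProduct
open Groth.Agent.Lib.Helper29.QCoh

namespace Groth.Agent.Lib.Helper1.TE

noncomputable section

variable {R : CommRingCat.{u}} (N : ModuleCat.{u} R)

instance algebraStalk (x : PrimeSpectrum.Top R) : Algebra R ((Spec R).presheaf.stalk x) :=
  inferInstanceAs (Algebra R ((structurePresheafInCommRingCat R).stalk x))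

instance isLocalizationStalk (x : PrimeSpectrum.Top R) :
    IsLocalization.AtPrime ((Spec R).presheaf.stalk x) x.asIdeal :=
  inferInstanceAs
    (IsLocalization.AtPrime ((structurePresheafInCommRingCat R).stalk x) x.asIdeal)

instance isScalarTowerStalk (x : PrimeSpectrum.Top R) :
    IsScalarTower R ((Spec R).presheaf.stalk x) ((tilde N).presheaf.stalk x) :=
  .of_algebraMap_smul fun _ _ => rfl

theorem germ_algebraMap {U : (Spec R).Opens} (x : PrimeSpectrum.Top R) (hx : x ∈ U) (r : R) :
    (Spec R).presheaf.germ U x hx (algebraMap R Γ(Spec R, U) r) =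
      algebraMap R ((Spec R).presheaf.stalk x) r :=
  StructureSheaf.algebraMap_germ_apply U x hx r

/-- `N → Γ(N~, U)` -/
def toOpenₗ (U : (Spec R).Opens) : N →ₗ[R] Γ(tilde N, U) := (tilde.toOpen N U).hom

theorem toOpenₗ_res {U V : (Spec R).Opens} (h : V ≤ U) (n : N) :
    res (tilde N) h (toOpenₗ N U n) = toOpenₗ N V n := rfl

theorem toStalk_eq_germ {U : (Spec R).Opens} (x : PrimeSpectrum.Top R) (hx : x ∈ U) (n : N) :
    tilde.toStalk N x n = (tilde N).presheaf.germ U x hx (toOpenₗ N U n) := by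
  have h1 : tilde.toStalk N x n = (tilde N).presheaf.germ ⊤ x trivial (toOpenₗ N ⊤ n) := rfl
  rw [h1, ← toOpenₗ_res N (le_top : U ≤ ⊤) n, germ_res]

theorem mem_basicOpen_algebraMap {U : (Spec R).Opens} (x : PrimeSpectrum.Top R) (hx : x ∈ U)
    (s : R) (hs : s ∉ x.asIdeal) : x ∈ (Spec R).basicOpen (algebraMap R Γ(Spec R, U) s) := by
  refine (Scheme.mem_basicOpen _ _ _ hx).mpr ?_
  rw [germ_algebraMap]
  exact IsLocalization.map_units ((Spec R).presheaf.stalk x) (⟨s, hs⟩ : x.asIdeal.primeCompl)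

theorem germ_smul_algebraMap {U : (Spec R).Opens} (x : PrimeSpectrum.Top R) (hx : x ∈ U)
    (s : R) (t : Γ(tilde N, U)) :
    (tilde N).presheaf.germ U x hx ((algebraMap R Γ(Spec R, U) s) • t) =
      s • (tilde N).presheaf.germ U x hx t := by
  rw [germ_smul, germ_algebraMap, algebraMap_smul]

variable {U : (Spec R).Opens} (hU : IsAffineOpen U)

include hU in
theorem span_toOpenₗ :
    Submodule.span Γ(Spec R, U) (Set.range (toOpenₗ N U)) = ⊤ := by
  rw [eq_top_iff]
  intro t _
  set P' := Submodule.span Γ(Spec R, U) (Set.range (toOpenₗ N U)) with hP'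
  have hJ : P'.colon {t} = ⊤ := by
    refine ideal_eq_top_of_forall_mem_basicOpen hU _ (fun x hx => ?_)
    obtain ⟨⟨n, s⟩, h⟩ := IsLocalizedModule.surj x.asIdeal.primeCompl (tilde.toStalk N x).hom
      ((tilde N).presheaf.germ U x hx t)
    have h' : (s : R) • (tilde N).presheaf.germ U x hx t = tilde.toStalk N x n := h
    rw [← germ_smul_algebraMap N x hx, toStalk_eq_germ N x hx] at h'
    have h0 : (tilde N).presheaf.germ U x hx
        ((algebraMap R Γ(Spec R, U) s) • t - toOpenₗ N U n) = 0 := by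
      rw [map_sub, h', sub_self]
    obtain ⟨r, hxr, hr⟩ := exists_smul_eq_zero_of_germ_eq_zero (tilde N) hU x hx _ h0
    refine ⟨algebraMap R Γ(Spec R, U) s * r, ?_,
      basicOpen_mul_mem r _ x hxr (mem_basicOpen_algebraMap x hx s s.2)⟩
    rw [Submodule.mem_colon_singleton]
    rw [smul_sub, sub_eq_zero] at hr
    rw [mul_comm, mul_smul, hr]
    exact P'.smul_mem r (Submodule.subset_span ⟨n, rfl⟩)
  have h1 : (1 : Γ(Spec R, U)) ∈ P'.colon {t} := by
    rw [hJ]; trivial
  rw [Submodule.mem_colon_singleton, one_smul] at h1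
  exact h1

/-- the comparison map `Γ(U) ⊗ N → Γ(N~, U)`, `b ⊗ n ↦ b • n|_U` -/
def alpha (U : (Spec R).Opens) : Γ(Spec R, U) ⊗[R] N →ₗ[R] Γ(tilde N, U) :=
  TensorProduct.lift (((Algebra.linearMap Γ(Spec R, U)
    (Module.End Γ(Spec R, U) (N →ₗ[R] Γ(tilde N, U)))).flip (toOpenₗ N U)).restrictScalars R)

theorem alpha_tmul (U : (Spec R).Opens) (b : Γ(Spec R, U)) (n : N) :
    alpha N U (b ⊗ₜ n) = b • toOpenₗ N U n := rfl

include hU in
theorem alpha_injective : Function.Injective (alpha N U) := by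
  rw [injective_iff_map_eq_zero]
  intro z hz
  have hJ : Ideal.torsionOf Γ(Spec R, U) (Γ(Spec R, U) ⊗[R] N) z = ⊤ := by
    refine ideal_eq_top_of_forall_mem_basicOpen hU _ (fun x hx => ?_)
    letI algB : Algebra Γ(Spec R, U) ((Spec R).presheaf.stalk x) :=
      TopCat.Presheaf.algebra_section_stalk (Spec R).presheaf ⟨x, hx⟩
    haveI hloc : IsLocalization.AtPrime ((Spec R).presheaf.stalk x)
        (hU.primeIdealOf ⟨x, hx⟩).asIdeal := hU.isLocalization_stalk ⟨x, hx⟩
    haveI : IsScalarTower R Γ(Spec R, U) ((Spec R).presheaf.stalk x) :=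
      IsScalarTower.of_algebraMap_eq fun r => (germ_algebraMap x hx r).symm
    haveI : IsLocalizedModule (hU.primeIdealOf ⟨x, hx⟩).asIdeal.primeCompl
        (Algebra.linearMap Γ(Spec R, U) ((Spec R).presheaf.stalk x)) :=
      (isLocalizedModule_iff_isLocalization' _ _).mpr hloc
    let ι := TensorProduct.AlgebraTensorModule.rTensor R N
      (Algebra.linearMap Γ(Spec R, U) ((Spec R).presheaf.stalk x))
    have hbc : IsBaseChange ((Spec R).presheaf.stalk x) (tilde.toStalk N x).hom :=
      IsLocalizedModule.isBaseChange x.asIdeal.primeCompl _ _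
    have key : ∀ w : Γ(Spec R, U) ⊗[R] N,
        hbc.equiv (ι w) = (tilde N).presheaf.germ U x hx (alpha N U w) := by
      intro w
      induction w with
      | zero => simp
      | tmul b n =>
        rw [alpha_tmul, germ_smul, ← toStalk_eq_germ]
        change hbc.equiv ((algebraMap Γ(Spec R, U) ((Spec R).presheaf.stalk x) b) ⊗ₜ n) = _
        rw [IsBaseChange.equiv_tmul]
        rfl
      | add a b ha hb => rw [map_add, map_add, map_add, map_add, ha, hb]
    have h0 : ι z = 0 := by
      apply hbc.equiv.injective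
      rw [key, hz, map_zero, map_zero]
    obtain ⟨s, hs⟩ := (IsLocalizedModule.eq_zero_iff
      (hU.primeIdealOf ⟨x, hx⟩).asIdeal.primeCompl ι).mp h0
    exact ⟨s.1, (Ideal.mem_torsionOf_iff _ _).mpr hs,
      (mem_basicOpen_iff_notMem_primeIdealOf hU x hx s.1).mpr s.2⟩
  have h1 : (1 : Γ(Spec R, U)) ∈ Ideal.torsionOf Γ(Spec R, U) (Γ(Spec R, U) ⊗[R] N) z := by
    rw [hJ]; trivial
  rw [Ideal.mem_torsionOf_iff, one_smul] at h1
  exact h1

theorem alpha_smul (U : (Spec R).Opens) (b : Γ(Spec R, U)) (z : Γ(Spec R, U) ⊗[R] N) :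
    alpha N U (b • z) = b • alpha N U z := by
  induction z with
  | zero => simp
  | tmul b' n => rw [TensorProduct.smul_tmul', alpha_tmul, alpha_tmul, smul_eq_mul, mul_smul]
  | add x y hx hy => rw [smul_add, map_add, map_add, hx, hy, smul_add]

include hU in
theorem alpha_surjective : Function.Surjective (alpha N U) := by
  intro t
  have ht : t ∈ Submodule.span Γ(Spec R, U) (Set.range (toOpenₗ N U)) := by
    rw [span_toOpenₗ N hU]; trivial
  induction ht using Submodule.span_induction with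
  | mem x hx =>
    obtain ⟨n, rfl⟩ := hx
    exact ⟨1 ⊗ₜ n, by rw [alpha_tmul, one_smul]⟩
  | zero => exact ⟨0, map_zero _⟩
  | add x y _ _ hx hy =>
    obtain ⟨a, rfl⟩ := hx
    obtain ⟨b, rfl⟩ := hy
    exact ⟨a + b, map_add _ _ _⟩
  | smul b x _ hx =>
    obtain ⟨a, rfl⟩ := hx
    exact ⟨b • a, alpha_smul N U b a⟩

include hU in
/-- Sections of `N~` over an affine open `U ⊆ Spec R` are the base change of `N` along
`R → Γ(U, O)`. -/
theorem isBaseChange_toOpenₗ : IsBaseChange Γ(Spec R, U) (toOpenₗ N U) :=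
  show Function.Bijective (alpha N U) from ⟨alpha_injective N hU, alpha_surjective N hU⟩

end

end Groth.Agent.Lib.Helper1.TE
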