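import Mathlib
import Groth.Agent.Lib.Helper1.TE1
import Groth.Agent.Lib.Helper12.EBC2
import Groth.Prelude.Def_ExtPow2

/-! # Exterior powers of `M~` on `Spec R` -/

universe u
open AlgebraicGeometry CategoryTheory Opposite TopologicalSpace TensorProduct
open Groth.Agent.Lib.Helper29.QCoh

namespace Groth.Agent.Lib.Helper1.TE

noncomputable section

/-- A function of `n` vectors which is additive and semilinear in every variable is determined
by its values on tuples taken from a spanning set. -/
theorem ext_of_span {B B' : Type*} [CommRing B] [CommRing B'] (σ : B →+* B')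
    {E Q : Type*} [AddCommGroup E] [Module B E] [AddCommGroup Q] [Module B' Q] {n : ℕ}
    (f g : (Fin n → E) → Q) (S : Set E) (hS : Submodule.span B S = ⊤)
    (hfa : ∀ e j v w, f (Function.update e j (v + w)) =
      f (Function.update e j v) + f (Function.update e j w))
    (hfs : ∀ e j (b : B) v, f (Function.update e j (b • v)) = σ b • f (Function.update e j v))
    (hga : ∀ e j v w, g (Function.update e j (v + w)) =
      g (Function.update e j v) + g (Function.update e j w))
    (hgs : ∀ e j (b : B) v, g (Function.update e j (b • v)) = σ b • g (Function.update e j v))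
    (hagree : ∀ e, (∀ j, e j ∈ S) → f e = g e) (e : Fin n → E) : f e = g e := by
  suffices H : ∀ k, k ≤ n → ∀ e : Fin n → E, (∀ j : Fin n, k ≤ j.val → e j ∈ S) → f e = g e from
    H n le_rfl e (fun j hj => absurd j.2 (not_lt.mpr hj))
  intro k
  induction k with
  | zero => exact fun _ e h => hagree e (fun j => h j (Nat.zero_le _))
  | succ k ih =>
    intro hk e h
    let j₀ : Fin n := ⟨k, by omega⟩
    have claim : ∀ v, f (Function.update e j₀ v) = g (Function.update e j₀ v) := by
      intro v
      have hv : v ∈ Submodule.span B S := by rw [hS]; trivial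
      induction hv using Submodule.span_induction with
      | mem v hv =>
        refine ih (by omega) _ (fun j hj => ?_)
        by_cases hjj : j = j₀
        · subst hjj; rw [Function.update_self]; exact hv
        · rw [Function.update_of_ne hjj]
          refine h j ?_
          have : j.val ≠ k := fun hh => hjj (Fin.ext hh)
          omega
      | zero =>
        have h1 := hfs e j₀ 0 0
        have h2 := hgs e j₀ 0 0
        rw [zero_smul, map_zero, zero_smul] at h1 h2
        rw [h1, h2]
      | add v w _ _ hv hw => rw [hfa, hga, hv, hw]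
      | smul b v _ hv => rw [hfs, hgs, hv]
    have := claim (e j₀)
    rwa [Function.update_eq_self] at this

variable {R : CommRingCat.{u}} (M : ModuleCat.{u} R) (n : ℕ)

/-- `⋀^n` of a linear equivalence -/
def extMapEquiv {B : Type*} [CommRing B] {P Q : Type*} [AddCommGroup P] [Module B P]
    [AddCommGroup Q] [Module B Q] (n : ℕ) (e : P ≃ₗ[B] Q) : ↥(⋀[B]^n P) ≃ₗ[B] ↥(⋀[B]^n Q) :=
  LinearEquiv.ofLinear (exteriorPower.map n e.toLinearMap) (exteriorPower.map n e.symm.toLinearMap)
    (by rw [← exteriorPower.map_comp]; simp [exteriorPower.map_id])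
    (by rw [← exteriorPower.map_comp]; simp [exteriorPower.map_id])

theorem extMapEquiv_ιMulti {B : Type*} [CommRing B] {P Q : Type*} [AddCommGroup P] [Module B P]
    [AddCommGroup Q] [Module B Q] (n : ℕ) (e : P ≃ₗ[B] Q) (m : Fin n → P) :
    extMapEquiv n e (exteriorPower.ιMulti B n m) = exteriorPower.ιMulti B n (fun j => e (m j)) :=
  exteriorPower.map_apply_ιMulti _ _

/-- the module `⋀^n M` -/
abbrev extMod : ModuleCat.{u} R := ModuleCat.of R ↥(⋀[R]^n M)

variable {U : (Spec R).Opens} (hU : IsAffineOpen U)

/-- `Γ((⋀^n M)~, U) ≃ ⋀^n Γ(M~, U)` for `U` affine -/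
def phi : Γ(tilde (extMod M n), U) ≃ₗ[Γ(Spec R, U)] ↥(⋀[Γ(Spec R, U)]^n Γ(tilde M, U)) :=
  (isBaseChange_toOpenₗ (extMod M n) hU).equiv.symm ≪≫ₗ
    Groth.Agent.Lib.Helper12.EBC.tauEquiv R Γ(Spec R, U) M n ≪≫ₗ
    extMapEquiv n (isBaseChange_toOpenₗ M hU).equiv

theorem phi_toOpenₗ (m : Fin n → M) :
    phi M n hU (toOpenₗ (extMod M n) U (exteriorPower.ιMulti R n m)) =
      exteriorPower.ιMulti Γ(Spec R, U) n (fun j => toOpenₗ M U (m j)) := by
  unfold phi
  rw [LinearEquiv.trans_apply, LinearEquiv.trans_apply, IsBaseChange.equiv_symm_apply]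
  change extMapEquiv n _ (Groth.Agent.Lib.Helper12.EBC.tau R Γ(Spec R, U) M n _) = _
  rw [Groth.Agent.Lib.Helper12.EBC.tau_tmul_ιMulti, one_smul, extMapEquiv_ιMulti]
  congr 1
  funext j
  rw [IsBaseChange.equiv_tmul, one_smul]

theorem phi_symm_ιMulti_toOpenₗ (m : Fin n → M) :
    (phi M n hU).symm (exteriorPower.ιMulti Γ(Spec R, U) n (fun j => toOpenₗ M U (m j))) =
      toOpenₗ (extMod M n) U (exteriorPower.ιMulti R n m) := by
  rw [← phi_toOpenₗ M n hU, LinearEquiv.symm_apply_apply]

/-- compatibility of `phi` with restriction, on decomposable elements -/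
theorem phi_compat {V : (Spec R).Opens} (hV : IsAffineOpen V) (h : V ≤ U)
    (e : Fin n → Γ(tilde M, U)) :
    res (tilde (extMod M n)) h ((phi M n hU).symm (exteriorPower.ιMulti Γ(Spec R, U) n e)) =
      (phi M n hV).symm
        (exteriorPower.ιMulti Γ(Spec R, V) n (fun j => res (tilde M) h (e j))) := by
  refine ext_of_span (σ := ((Spec R).presheaf.map (homOfLE h).op).hom)
    (f := fun e => res (tilde (extMod M n)) h
      ((phi M n hU).symm (exteriorPower.ιMulti Γ(Spec R, U) n e)))
    (g := fun e => (phi M n hV).symm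
      (exteriorPower.ιMulti Γ(Spec R, V) n ((res (tilde M) h) ∘ e)))
    (Set.range (toOpenₗ M U)) (span_toOpenₗ M hU) ?_ ?_ ?_ ?_ ?_ e
  · intro e j v w
    rw [(exteriorPower.ιMulti Γ(Spec R, U) n).map_update_add, map_add, map_add]
  · intro e j b v
    rw [(exteriorPower.ιMulti Γ(Spec R, U) n).map_update_smul, map_smul, res_smul]
  · intro e j v w
    rw [Function.comp_update, map_add,
      (exteriorPower.ιMulti Γ(Spec R, V) n).map_update_add, map_add, ← Function.comp_update,
      ← Function.comp_update]
  · intro e j b v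
    rw [Function.comp_update, res_smul,
      (exteriorPower.ιMulti Γ(Spec R, V) n).map_update_smul, map_smul, ← Function.comp_update]
  · intro e he
    choose m hm using he
    have he' : e = fun j => toOpenₗ M U (m j) := funext fun j => (hm j).symm
    subst he'
    rw [phi_symm_ιMulti_toOpenₗ, toOpenₗ_res]
    have : (res (tilde M) h) ∘ (fun j => toOpenₗ M U (m j)) = fun j => toOpenₗ M V (m j) := by
      funext j
      exact toOpenₗ_res M h (m j)
    rw [this, phi_symm_ιMulti_toOpenₗ]

/-- On `Spec R`, `(⋀^n M)~` is an `n`-th exterior power of `M~`. -/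
theorem isExtPow_tilde : ExtPow.IsExtPow n (tilde M) (tilde (extMod M n)) :=
  ⟨fun U => phi M n U.2, fun U V h e => phi_compat M n U.2 V.2 h e⟩

end

end Groth.Agent.Lib.Helper1.TE
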