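import Mathlib
import Groth.Agent.Lib.Helper1.UFO2

/-!
# A weakly universal idempotent: packaged statement (helper1)
-/

set_option autoImplicit false

universe u

namespace Groth.Agent.Lib.Helper1.UFO

open TensorProduct

/-- `B` a finite `A`-algebra, finitely presented as a module, `J` a finitely generated ideal.
There is a finitely presented `A`-algebra `Au` with an idempotent of `Au ⊗[A] B` in the extension of
`J` which is weakly universal among such idempotents over all `A`-algebras. -/
theorem exists_universal_idempotent (A B : Type u) [CommRing A] [CommRing B] [Algebra A B]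
    [Module.Finite A B] [Module.FinitePresentation A B] (J : Ideal B) (hJ : J.FG) :
    ∃ (Au : Type u) (_ : CommRing Au) (_ : Algebra A Au) (_ : Algebra.FinitePresentation A Au)
      (eu : Au ⊗[A] B), IsIdempotentElem eu ∧
      eu ∈ Ideal.map (Algebra.TensorProduct.includeRight : B →ₐ[A] Au ⊗[A] B) J ∧
      ∀ (A' : Type u) [CommRing A'] [Algebra A A'] (e' : A' ⊗[A] B), IsIdempotentElem e' →
        e' ∈ Ideal.map (Algebra.TensorProduct.includeRight : B →ₐ[A] A' ⊗[A] B) J →
        ∃ φ : Au →ₐ[A] A', Algebra.TensorProduct.map φ (AlgHom.id A B) eu = e' := by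
  classical
  obtain ⟨n, f, hf⟩ := Module.Finite.exists_fin' A B
  let bgen : Fin n → B := fun k => f fun j => if k = j then 1 else 0
  have hfv : ∀ v : Fin n → A, f v = ∑ k, v k • bgen k := fun v => LinearMap.pi_apply_eq_sum_univ f v
  have hsurj : ∀ b : B, ∃ v : Fin n → A, b = ∑ k, v k • bgen k := by
    intro b
    obtain ⟨v, rfl⟩ := hf b
    exact ⟨v, hfv v⟩
  have hkfg : (LinearMap.ker f).FG := Module.FinitePresentation.fg_ker f hf
  obtain ⟨m, κ, hκspan⟩ := Submodule.fg_iff_exists_fin_generating_family.mp hkfg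
  have hκ : ∀ q, ∑ k, κ q k • bgen k = 0 := by
    intro q
    rw [← hfv]
    have : κ q ∈ LinearMap.ker f := hκspan ▸ Submodule.subset_span ⟨q, rfl⟩
    exact this
  have hker : ∀ v : Fin n → A, ∑ k, v k • bgen k = 0 → ∃ c : Fin m → A, v = ∑ q, c q • κ q := by
    intro v hv
    have h1 : v ∈ Submodule.span A (Set.range κ) := by
      rw [hκspan, LinearMap.mem_ker, hfv]
      exact hv
    obtain ⟨c, hc⟩ := (Submodule.mem_span_range_iff_exists_fun A).mp h1
    exact ⟨c, hc.symm⟩
  choose γ hγ using fun i j => hsurj (bgen i * bgen j)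
  obtain ⟨r, g, hg⟩ := Submodule.fg_iff_exists_fin_generating_family.mp hJ
  choose lam hlam using fun l => hsurj (g l)
  have hJ' : J = Ideal.span (Set.range fun l => ∑ k, lam l k • bgen k) := by
    rw [← hg]
    congr 2
    funext l
    exact hlam l
  have hJmem : ∀ l, ∑ k, lam l k • bgen k ∈ J := by
    intro l
    rw [hJ']
    exact Ideal.subset_span ⟨l, rfl⟩
  refine ⟨Au A κ γ lam, inferInstance, inferInstance, inferInstance, eU A bgen κ γ lam,
    isIdempotentElem_eU A bgen κ γ lam hκ hγ, eU_mem A bgen κ γ lam hκ hγ J hJmem, ?_⟩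
  intro A' _ _ e' he heJ
  exact eU_universal A bgen κ γ lam hκ hγ hsurj hker J hJ' A' e' he heJ

end Groth.Agent.Lib.Helper1.UFO
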