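import Mathlib
import Groth.Agent.Lib.Helper1.UFO3
import Groth.Agent.Lib.Helper1.UFO4

/-!
# The weakly universal clopen of a finite finitely presented morphism (helper1)
-/

set_option autoImplicit false

universe u

namespace Groth.Agent.Lib.Helper1.UFO

open AlgebraicGeometry CategoryTheory Limits TensorProduct

lemma mem_map_iff_of_equiv_comp {B R S : Type*} [CommRing B] [CommRing R] [CommRing S]
    (Φ : R ≃+* S) (ι : B →+* R) (ρ : B →+* S) (h : ∀ t, Φ (ι t) = ρ t) (J : Ideal B) (x : R) :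
    Φ x ∈ Ideal.map ρ J ↔ x ∈ Ideal.map ι J := by
  have hρ : ρ = (Φ : R →+* S).comp ι := by
    ext t
    exact (h t).symm
  rw [hρ, ← Ideal.map_map]
  exact Ideal.apply_mem_of_equiv_iff

/-- Preimage of a finite union of basic opens, as a union of basic opens. -/
lemma preimage_iSup_basicOpen {P T : Scheme.{u}} (p : P ⟶ T) (s : Set Γ(T, ⊤)) (W : T.Opens)
    (hW : W = ⨆ i : s, T.basicOpen (i : Γ(T, ⊤))) :
    p ⁻¹ᵁ W = ⨆ i : s, P.basicOpen ((fun i : s => p.appTop.hom (i : Γ(T, ⊤))) i) := by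
  rw [hW, Scheme.Hom.preimage_iSup]
  congr 1
  funext i
  exact Scheme.preimage_basicOpen_top p _

lemma range_appTop_eq {P T : Scheme.{u}} (p : P ⟶ T) (s : Set Γ(T, ⊤)) :
    Ideal.span (Set.range (fun i : s => p.appTop.hom (i : Γ(T, ⊤)))) =
      Ideal.map p.appTop.hom (Ideal.span s) := by
  rw [Ideal.map_span]
  congr 1
  ext x
  constructor
  · rintro ⟨i, rfl⟩
    exact ⟨i.1, i.2, rfl⟩
  · rintro ⟨y, hy, rfl⟩
    exact ⟨⟨y, hy⟩, rfl⟩

theorem exists_universal_clopen {T Y : Scheme.{u}} [IsAffine Y] (π : T ⟶ Y) [IsFinite π]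
    [LocallyOfFinitePresentation π] (W : T.Opens) (hW : IsCompact (W : Set T)) :
    ∃ (Yu : Scheme.{u}) (a : Yu ⟶ Y) (Zu : (pullback π a).Opens), IsAffine Yu ∧
      LocallyOfFinitePresentation a ∧ IsClosed (Zu : Set ↥(pullback π a)) ∧
      Zu ≤ (pullback.fst π a) ⁻¹ᵁ W ∧
      ∀ (Y' : Scheme.{u}) (b : Y' ⟶ Y) (Z' : (pullback π b).Opens), IsAffine Y' →
        IsClosed (Z' : Set ↥(pullback π b)) → Z' ≤ (pullback.fst π b) ⁻¹ᵁ W →
        ∃ (c : Y' ⟶ Yu) (hc : c ≫ a = b),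
          (pullback.map π b π a (𝟙 T) c (𝟙 Y)
            ((Category.comp_id π).trans (Category.id_comp π).symm)
            ((Category.comp_id b).trans hc.symm)) ⁻¹ᵁ Zu = Z' := by
  haveI : IsAffine T := isAffine_of_isAffineHom π
  letI algB : Algebra Γ(Y, ⊤) Γ(T, ⊤) := π.appTop.hom.toAlgebra
  haveI hfin : Module.Finite Γ(Y, ⊤) Γ(T, ⊤) := π.finite_appTop
  haveI hfpa : Algebra.FinitePresentation Γ(Y, ⊤) Γ(T, ⊤) := π.finitePresentation_appTop
  haveI hfp : Module.FinitePresentation Γ(Y, ⊤) Γ(T, ⊤) :=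
    Module.FinitePresentation.of_finite_of_finitePresentation _ _
  obtain ⟨s, hs, hWs⟩ := (TopologicalSpace.Opens.IsBasis.isCompact_open_iff_eq_finite_iUnion
    (T.basicOpen : Γ(T, ⊤) → T.Opens) (isBasis_basicOpen T)
    (fun i => ((isAffineOpen_top T).basicOpen i).isCompact) (W : Set T)).mp ⟨hW, W.2⟩
  have hW' : W = ⨆ i : s, T.basicOpen (i : Γ(T, ⊤)) := by
    apply TopologicalSpace.Opens.ext
    rw [hWs, TopologicalSpace.Opens.coe_iSup]
    ext x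
    simp
  let J : Ideal Γ(T, ⊤) := Ideal.span s
  have hJ : J.FG := ⟨hs.toFinset, by simp [J]⟩
  obtain ⟨Au, _, _, hAufp, eu, hidem, hmem, huniv⟩ :=
    exists_universal_idempotent Γ(Y, ⊤) Γ(T, ⊤) J hJ
  let Yu : Scheme.{u} := Spec (.of Au)
  let φa : Γ(Y, ⊤) ⟶ Γ(Yu, ⊤) :=
    CommRingCat.ofHom (algebraMap Γ(Y, ⊤) Au) ≫ (Scheme.ΓSpecIso (.of Au)).inv
  let a : Yu ⟶ Y := homOfAppTop φa
  have ha : a.appTop = φa := homOfAppTop_appTop φa
  letI algU : Algebra Γ(Y, ⊤) Γ(Yu, ⊤) := a.appTop.hom.toAlgebra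
  let ψ : Au →ₐ[Γ(Y, ⊤)] Γ(Yu, ⊤) :=
    { toRingHom := (Scheme.ΓSpecIso (.of Au)).inv.hom
      commutes' := fun r => by
        rw [RingHom.algebraMap_toAlgebra, ha]
        rfl }
  let ψinv : Γ(Yu, ⊤) →+* Au := (Scheme.ΓSpecIso (.of Au)).hom.hom
  have hψinv : ∀ x, ψinv (ψ x) = x := fun x =>
    congr($((Scheme.ΓSpecIso (.of Au)).inv_hom_id).hom x)
  obtain ⟨Φu, hΦu1, hΦu2⟩ := exists_bridge π a rfl rfl
  let eu' : Γ(Yu, ⊤) ⊗[Γ(Y, ⊤)] Γ(T, ⊤) :=
    Algebra.TensorProduct.map ψ (AlgHom.id Γ(Y, ⊤) Γ(T, ⊤)) eu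
  have heu'idem : IsIdempotentElem eu' := hidem.map _
  have heu'mem : eu' ∈ Ideal.map
      (Algebra.TensorProduct.includeRight : Γ(T, ⊤) →ₐ[Γ(Y, ⊤)] Γ(Yu, ⊤) ⊗[Γ(Y, ⊤)] Γ(T, ⊤)) J := by
    have hle : Ideal.map
        (Algebra.TensorProduct.includeRight : Γ(T, ⊤) →ₐ[Γ(Y, ⊤)] Au ⊗[Γ(Y, ⊤)] Γ(T, ⊤)) J ≤
        Ideal.comap (Algebra.TensorProduct.map ψ (AlgHom.id Γ(Y, ⊤) Γ(T, ⊤))) (Ideal.map
          (Algebra.TensorProduct.includeRight :
            Γ(T, ⊤) →ₐ[Γ(Y, ⊤)] Γ(Yu, ⊤) ⊗[Γ(Y, ⊤)] Γ(T, ⊤)) J) := by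
      rw [Ideal.map_le_iff_le_comap]
      intro t ht
      rw [Ideal.mem_comap, Ideal.mem_comap]
      have h2 : (Algebra.TensorProduct.map ψ (AlgHom.id Γ(Y, ⊤) Γ(T, ⊤)))
          ((Algebra.TensorProduct.includeRight :
            Γ(T, ⊤) →ₐ[Γ(Y, ⊤)] Au ⊗[Γ(Y, ⊤)] Γ(T, ⊤)) t) =
          (Algebra.TensorProduct.includeRight :
            Γ(T, ⊤) →ₐ[Γ(Y, ⊤)] Γ(Yu, ⊤) ⊗[Γ(Y, ⊤)] Γ(T, ⊤)) t := by
        simp
      rw [h2]
      exact Ideal.mem_map_of_mem _ ht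
    exact hle hmem
  let et : Γ(pullback π a, ⊤) := Φu eu'
  have hetidem : IsIdempotentElem et := heu'idem.map Φu
  have hetmem : et ∈ Ideal.map (pullback.fst π a).appTop.hom J :=
    (mem_map_iff_of_equiv_comp Φu
      (Algebra.TensorProduct.includeRight :
        Γ(T, ⊤) →ₐ[Γ(Y, ⊤)] Γ(Yu, ⊤) ⊗[Γ(Y, ⊤)] Γ(T, ⊤)).toRingHom
      (pullback.fst π a).appTop.hom (fun t => hΦu1 t) J eu').mpr heu'mem
  refine ⟨Yu, a, (pullback π a).basicOpen et, inferInstance, ?_,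
    isClosed_basicOpen_of_isIdempotentElem et hetidem, ?_, ?_⟩
  · -- finite presentation
    rw [HasRingHomProperty.iff_of_isAffine (P := @LocallyOfFinitePresentation), ha]
    have h1 : (algebraMap Γ(Y, ⊤) Au).FinitePresentation :=
      RingHom.finitePresentation_algebraMap.mpr hAufp
    have h2 : (Scheme.ΓSpecIso (.of Au)).inv.hom.FinitePresentation :=
      RingHom.FinitePresentation.of_bijective
        (ConcreteCategory.bijective_of_isIso (Scheme.ΓSpecIso (.of Au)).inv)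
    exact h2.comp h1
  · rw [preimage_iSup_basicOpen (pullback.fst π a) s W hW']
    apply basicOpen_le_iSup_of_mem_span
    rw [range_appTop_eq]
    exact hetmem
  · intro Y' b Z' hY' hZ'cl hZ'le
    letI algY' : Algebra Γ(Y, ⊤) Γ(Y', ⊤) := b.appTop.hom.toAlgebra
    obtain ⟨Φb, hΦb1, hΦb2⟩ := exists_bridge π b rfl rfl
    obtain ⟨e', he'idem, he'Z⟩ := exists_idempotent_basicOpen_eq Z' hZ'cl
    have he'mem : e' ∈ Ideal.map (pullback.fst π b).appTop.hom J := by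
      rw [← range_appTop_eq]
      apply mem_span_of_basicOpen_le_iSup _ e' he'idem
      rw [← preimage_iSup_basicOpen (pullback.fst π b) s W hW', he'Z]
      exact hZ'le
    let e'' : Γ(Y', ⊤) ⊗[Γ(Y, ⊤)] Γ(T, ⊤) := Φb.symm e'
    have he''idem : IsIdempotentElem e'' := he'idem.map Φb.symm
    have he''mem : e'' ∈ Ideal.map
        (Algebra.TensorProduct.includeRight :
          Γ(T, ⊤) →ₐ[Γ(Y, ⊤)] Γ(Y', ⊤) ⊗[Γ(Y, ⊤)] Γ(T, ⊤)) J := by
      have := (mem_map_iff_of_equiv_comp Φb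
        (Algebra.TensorProduct.includeRight :
          Γ(T, ⊤) →ₐ[Γ(Y, ⊤)] Γ(Y', ⊤) ⊗[Γ(Y, ⊤)] Γ(T, ⊤)).toRingHom
        (pullback.fst π b).appTop.hom (fun t => hΦb1 t) J e'').mp
      apply this
      rw [show Φb e'' = e' from Φb.apply_symm_apply e']
      exact he'mem
    obtain ⟨φ, hφ⟩ := huniv Γ(Y', ⊤) e'' he''idem he''mem
    let φc : Γ(Yu, ⊤) ⟶ Γ(Y', ⊤) := CommRingCat.ofHom (φ.toRingHom.comp ψinv)
    let c : Y' ⟶ Yu := homOfAppTop φc
    have hcapp : c.appTop = φc := homOfAppTop_appTop φc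
    have hc : c ≫ a = b := by
      apply ext_of_isAffine
      rw [Scheme.Hom.comp_appTop, ha, hcapp]
      ext r
      change φ (ψinv (ψ (algebraMap Γ(Y, ⊤) Au r))) = b.appTop.hom r
      rw [hψinv, φ.commutes]
      rfl
    refine ⟨c, hc, ?_⟩
    rw [Scheme.preimage_basicOpen_top, ← he'Z]
    congr 1
    -- N.appTop et = e'
    set N := pullback.map π b π a (𝟙 T) c (𝟙 Y)
      ((Category.comp_id π).trans (Category.id_comp π).symm)
      ((Category.comp_id b).trans hc.symm) with hN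
    have hN1 : N ≫ pullback.fst π a = pullback.fst π b := by
      rw [hN, pullback.lift_fst, Category.comp_id]
    have hN2 : N ≫ pullback.snd π a = pullback.snd π b ≫ c := by
      rw [hN, pullback.lift_snd]
    -- two ring homs from the tensor product
    let F1 : Au ⊗[Γ(Y, ⊤)] Γ(T, ⊤) →+* Γ(pullback π b, ⊤) :=
      (N.appTop.hom.comp (Φu : _ →+* _)).comp
        (Algebra.TensorProduct.map ψ (AlgHom.id Γ(Y, ⊤) Γ(T, ⊤))).toRingHom
    let F2 : Au ⊗[Γ(Y, ⊤)] Γ(T, ⊤) →+* Γ(pullback π b, ⊤) :=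
      (Φb : _ →+* _).comp (Algebra.TensorProduct.map φ (AlgHom.id Γ(Y, ⊤) Γ(T, ⊤))).toRingHom
    have hA : ∀ x : Au, F1 (x ⊗ₜ 1) = F2 (x ⊗ₜ 1) := by
      intro x
      change N.appTop.hom (Φu (ψ x ⊗ₜ 1)) = Φb (φ x ⊗ₜ 1)
      rw [hΦu2, hΦb2]
      have h1 : N.appTop.hom ((pullback.snd π a).appTop.hom (ψ x)) =
          (pullback.snd π b).appTop.hom (c.appTop.hom (ψ x)) := by
        have := congr($(congrArg Scheme.Hom.appTop hN2).hom (ψ x))
        simpa [Scheme.Hom.comp_appTop] using this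
      refine h1.trans ?_
      rw [hcapp]
      change (pullback.snd π b).appTop.hom (φ (ψinv (ψ x))) = _
      rw [hψinv]
    have hB : ∀ t : Γ(T, ⊤), F1 (1 ⊗ₜ t) = F2 (1 ⊗ₜ t) := by
      intro t
      change N.appTop.hom (Φu (ψ 1 ⊗ₜ t)) = Φb (φ 1 ⊗ₜ t)
      rw [map_one, map_one, hΦu1, hΦb1]
      have := congr($(congrArg Scheme.Hom.appTop hN1).hom t)
      simpa [Scheme.Hom.comp_appTop] using this
    have hF : F1 = F2 := by
      refine RingHom.ext fun z => ?_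
      induction z using TensorProduct.induction_on with
      | zero => simp
      | tmul x t =>
        have hxt : x ⊗ₜ[Γ(Y, ⊤)] t = (x ⊗ₜ 1) * (1 ⊗ₜ t) := by simp
        rw [hxt, map_mul, map_mul, hA x, hB t]
      | add x y hx hy => rw [map_add, map_add, hx, hy]
    have h3 : F1 eu = F2 eu := by rw [hF]
    change N.appTop.hom (Φu eu') = Φb (Algebra.TensorProduct.map φ (AlgHom.id _ _) eu) at h3
    rw [hφ] at h3
    rw [show Φb e'' = e' from Φb.apply_symm_apply e'] at h3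
    exact h3

end Groth.Agent.Lib.Helper1.UFO
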