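import Mathlib

/-!
# Retractions at a finite stage of a limit of schemes (helper1)
-/

set_option autoImplicit false
set_option linter.unusedSectionVars false
set_option linter.style.haveILetI false
universe u

namespace Groth.Agent.Lib.Helper1.ZMTFin

open AlgebraicGeometry CategoryTheory CategoryTheory.Limits TopologicalSpace Opposite

section

variable {I : Type u} [Category.{u} I] [IsCofiltered I] {S : Scheme.{u}} (D : I ⥤ Scheme.{u})
  (t : D ⟶ (Functor.const I).obj S) (c : Cone D) (hc : IsLimit c)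
  [∀ {i j : I} (a : i ⟶ j), IsAffineHom (D.map a)]
  [∀ i, CompactSpace (D.obj i)] [∀ i, QuasiSeparatedSpace (D.obj i)]

include hc in
/-- If the limit of a system of `S`-schemes locally of finite type is locally of finite
presentation over `S`, it is a retract of a finite stage, compatibly with a transition map. -/
theorem exists_retraction (g : c.pt ⟶ S) [LocallyOfFinitePresentation g]
    (hg : ∀ i, c.π.app i ≫ t.app i = g) (hlft : ∀ i, LocallyOfFiniteType (t.app i)) :
    ∃ (k : I) (ρ : D.obj k ⟶ c.pt) (k' : I) (h : k' ⟶ k),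
      c.π.app k ≫ ρ = 𝟙 c.pt ∧ ρ ≫ g = t.app k ∧ D.map h = D.map h ≫ ρ ≫ c.π.app k := by
  obtain ⟨k, ρ, h1, h2⟩ := Scheme.exists_π_app_comp_eq_of_locallyOfFinitePresentation D t g c hc
    (𝟙 c.pt) (by
      ext i
      change c.π.app i ≫ t.app i = 𝟙 _ ≫ g
      rw [hg i, Category.id_comp])
  haveI := hlft k
  obtain ⟨k', h₁, h₂, h3⟩ := Scheme.exists_hom_hom_comp_eq_comp_of_locallyOfFiniteType D t
    (t.app k) c hc (𝟙 (D.obj k)) (Category.id_comp _).symm (ρ ≫ c.π.app k)
    (by rw [Category.assoc, hg k, h2])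
    (by rw [Category.comp_id, ← Category.assoc, h1]; exact (Category.id_comp _).symm)
  rw [Category.comp_id] at h3
  refine ⟨k, ρ, IsCofiltered.eq h₁ h₂, IsCofiltered.eqHom h₁ h₂ ≫ h₁, h1, h2, ?_⟩
  have e := IsCofiltered.eq_condition h₁ h₂
  calc D.map (IsCofiltered.eqHom h₁ h₂ ≫ h₁)
      = D.map (IsCofiltered.eqHom h₁ h₂) ≫ D.map h₁ := D.map_comp _ _
    _ = D.map (IsCofiltered.eqHom h₁ h₂) ≫ D.map h₂ ≫ ρ ≫ c.π.app k := by rw [h3]
    _ = D.map (IsCofiltered.eqHom h₁ h₂ ≫ h₂) ≫ ρ ≫ c.π.app k := by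
        rw [D.map_comp, Category.assoc]
    _ = D.map (IsCofiltered.eqHom h₁ h₂ ≫ h₁) ≫ ρ ≫ c.π.app k := by rw [e]

include hc in
/-- A leg of the limit cone is a closed immersion at some stage, when the stages are separated
over `S`. -/
theorem exists_isClosedImmersion_leg (g : c.pt ⟶ S) [LocallyOfFinitePresentation g]
    (hg : ∀ i, c.π.app i ≫ t.app i = g) (hlft : ∀ i, LocallyOfFiniteType (t.app i))
    (hsep : ∀ i, IsSeparated (t.app i)) :
    ∃ k : I, IsClosedImmersion (c.π.app k) := by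
  obtain ⟨k, ρ, k', h, h1, h2, -⟩ := exists_retraction D t c hc g hg hlft
  refine ⟨k, ?_⟩
  haveI : IsSeparated (ρ ≫ g) := by rw [h2]; exact hsep k
  haveI : IsSeparated ρ := IsSeparated.of_comp ρ g
  let π : c.pt ⟶ D.obj k := c.π.app k
  have h1' : π ≫ ρ = 𝟙 c.pt := h1
  haveI : IsClosedImmersion (π ≫ ρ) := by
    rw [h1']; infer_instance
  exact IsClosedImmersion.of_comp π ρ

include hc in
/-- A leg of the limit cone is an isomorphism at some stage, when the transition maps are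
monomorphisms. -/
theorem exists_isIso_leg (g : c.pt ⟶ S) [LocallyOfFinitePresentation g]
    (hg : ∀ i, c.π.app i ≫ t.app i = g) (hlft : ∀ i, LocallyOfFiniteType (t.app i))
    (hmono : ∀ {i j : I} (a : i ⟶ j), Mono (D.map a)) :
    ∃ k : I, IsIso (c.π.app k) := by
  obtain ⟨k, ρ, k', h, h1, h2, h3⟩ := exists_retraction D t c hc g hg hlft
  refine ⟨k', ⟨D.map h ≫ ρ, ?_, ?_⟩⟩
  · rw [← Category.assoc, c.w]; exact h1
  · haveI := hmono h
    rw [← cancel_mono (D.map h), Category.assoc, Category.assoc, c.w, Category.id_comp]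
    exact h3.symm

include hc in
/-- A compact open subscheme of the limit, locally of finite presentation over `S`, maps
isomorphically onto an open subscheme of some stage, when the transition maps are monomorphisms. -/
theorem exists_isOpenImmersion_comp_leg {X : Scheme.{u}} (o : X ⟶ c.pt) [IsOpenImmersion o]
    [CompactSpace X] (g : c.pt ⟶ S) [LocallyOfFinitePresentation (o ≫ g)]
    (hg : ∀ i, c.π.app i ≫ t.app i = g) (hlft : ∀ i, LocallyOfFiniteType (t.app i))
    (hmono : ∀ {i j : I} (a : i ⟶ j), Mono (D.map a)) :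
    ∃ k : I, IsOpenImmersion (o ≫ c.π.app k) := by
  have hU : IsCompact (o.opensRange : Set c.pt) := by
    rw [Scheme.Hom.coe_opensRange]; exact isCompact_range o.continuous
  obtain ⟨b, W, hW, hpre⟩ := exists_preimage_eq D c hc o.opensRange hU
  let P : c.pt.Opens := c.π.app b ⁻¹ᵁ W
  have hpre' : P = o.opensRange := hpre
  let D₃ : Over b ⥤ Scheme.{u} := opensDiagram D b W
  let c₃ : Cone D₃ := opensCone D c b W
  have hc₃ : IsLimit c₃ := isLimitOpensCone D c hc b W
  let e₃ : X ≅ (P : Scheme.{u}) := o.isoOpensRange ≪≫ c.pt.isoOfEq hpre'.symm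
  have he₃ : e₃.hom ≫ P.ι = o := by
    change (o.isoOpensRange.hom ≫ (c.pt.isoOfEq hpre'.symm).hom) ≫ P.ι = o
    rw [Category.assoc, Scheme.isoOfEq_hom_ι, Scheme.Hom.isoOpensRange_hom_ι]
  have hPι : P.ι = e₃.inv ≫ o := (Iso.eq_inv_comp e₃).mpr he₃
  let leg : ∀ k : Over b, (P : Scheme.{u}) ⟶ ((D.map k.hom ⁻¹ᵁ W : (D.obj k.left).Opens) :
      Scheme.{u}) := fun k => c₃.π.app k
  have hlegι : ∀ k : Over b, leg k ≫ (D.map k.hom ⁻¹ᵁ W).ι = P.ι ≫ c.π.app k.left := by
    intro k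
    exact Scheme.Hom.resLE_comp_ι _ _
  let t₃ : D₃ ⟶ (Functor.const (Over b)).obj S :=
    { app := fun k => (D.map k.hom ⁻¹ᵁ W).ι ≫ t.app k.left
      naturality := fun k k' a => by
        let m : ((D.map k.hom ⁻¹ᵁ W : (D.obj k.left).Opens) : Scheme.{u}) ⟶
          ((D.map k'.hom ⁻¹ᵁ W : (D.obj k'.left).Opens) : Scheme.{u}) := D₃.map a
        have h1 : m ≫ (D.map k'.hom ⁻¹ᵁ W).ι = (D.map k.hom ⁻¹ᵁ W).ι ≫ D.map a.left :=
          Scheme.Hom.resLE_comp_ι _ _
        have h2 : D.map a.left ≫ t.app k'.left = t.app k.left := by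
          have := t.naturality a.left
          simpa using this
        change m ≫ (D.map k'.hom ⁻¹ᵁ W).ι ≫ t.app k'.left =
          ((D.map k.hom ⁻¹ᵁ W).ι ≫ t.app k.left) ≫ 𝟙 S
        refine Eq.trans ?_ (Category.comp_id _).symm
        rw [← Category.assoc, h1, Category.assoc, h2] }
  let g₃ : c₃.pt ⟶ S := P.ι ≫ g
  have hg₃ : ∀ k : Over b, c₃.π.app k ≫ t₃.app k = g₃ := by
    intro k
    change leg k ≫ (D.map k.hom ⁻¹ᵁ W).ι ≫ t.app k.left = P.ι ≫ g
    rw [← Category.assoc, hlegι k, Category.assoc, hg]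
  haveI : LocallyOfFinitePresentation g₃ := by
    change LocallyOfFinitePresentation (P.ι ≫ g)
    rw [hPι, Category.assoc]
    infer_instance
  haveI : ∀ k : Over b, CompactSpace (D₃.obj k) := by
    intro k
    change CompactSpace ↥((D.map k.hom ⁻¹ᵁ W : (D.obj k.left).Opens) : Scheme.{u})
    apply isCompact_iff_compactSpace.mp
    exact QuasiCompact.isCompact_preimage (f := D.map k.hom) _ W.isOpen hW
  haveI : ∀ k : Over b, QuasiSeparatedSpace (D₃.obj k) := by
    intro k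
    change QuasiSeparatedSpace ↥((D.map k.hom ⁻¹ᵁ W : (D.obj k.left).Opens) : Scheme.{u})
    exact (D.map k.hom ⁻¹ᵁ W).ι.isOpenEmbedding.quasiSeparatedSpace
  have hlft₃ : ∀ k : Over b, LocallyOfFiniteType (t₃.app k) := by
    intro k
    haveI := hlft k.left
    change LocallyOfFiniteType ((D.map k.hom ⁻¹ᵁ W).ι ≫ t.app k.left)
    infer_instance
  have hmono₃ : ∀ {k k' : Over b} (a : k ⟶ k'), Mono (D₃.map a) := by
    intro k k' a
    let m : ((D.map k.hom ⁻¹ᵁ W : (D.obj k.left).Opens) : Scheme.{u}) ⟶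
      ((D.map k'.hom ⁻¹ᵁ W : (D.obj k'.left).Opens) : Scheme.{u}) := D₃.map a
    have h1 : m ≫ (D.map k'.hom ⁻¹ᵁ W).ι = (D.map k.hom ⁻¹ᵁ W).ι ≫ D.map a.left :=
      Scheme.Hom.resLE_comp_ι _ _
    haveI := hmono a.left
    haveI : Mono (m ≫ (D.map k'.hom ⁻¹ᵁ W).ι) := by
      rw [h1]; infer_instance
    exact mono_of_mono m (D.map k'.hom ⁻¹ᵁ W).ι
  haveI : ∀ {k k' : Over b} (a : k ⟶ k'), IsAffineHom (D₃.map a) := fun a =>
    (inferInstance : IsAffineHom ((opensDiagram D b W).map a))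
  obtain ⟨k, hk⟩ := exists_isIso_leg D₃ t₃ c₃ hc₃ g₃ hg₃ hlft₃ hmono₃
  haveI : IsIso (leg k) := hk
  refine ⟨k.left, ?_⟩
  have : o ≫ c.π.app k.left = e₃.hom ≫ leg k ≫ (D.map k.hom ⁻¹ᵁ W).ι := by
    rw [hlegι k, ← Category.assoc, he₃]
  rw [this]
  infer_instance

include hc in
/-- A compact open subscheme of the limit, locally of finite presentation over `S`, is immersed
in some stage, when the stages are separated over `S`. -/
theorem exists_isImmersion_comp_leg {X : Scheme.{u}} (o : X ⟶ c.pt) [IsOpenImmersion o]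
    [CompactSpace X] (g : c.pt ⟶ S) [LocallyOfFinitePresentation (o ≫ g)]
    (hg : ∀ i, c.π.app i ≫ t.app i = g) (hlft : ∀ i, LocallyOfFiniteType (t.app i))
    (hsep : ∀ i, IsSeparated (t.app i)) :
    ∃ k : I, IsImmersion (o ≫ c.π.app k) := by
  have hU : IsCompact (o.opensRange : Set c.pt) := by
    rw [Scheme.Hom.coe_opensRange]; exact isCompact_range o.continuous
  obtain ⟨b, W, hW, hpre⟩ := exists_preimage_eq D c hc o.opensRange hU
  let P : c.pt.Opens := c.π.app b ⁻¹ᵁ W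
  have hpre' : P = o.opensRange := hpre
  let D₃ : Over b ⥤ Scheme.{u} := opensDiagram D b W
  let c₃ : Cone D₃ := opensCone D c b W
  have hc₃ : IsLimit c₃ := isLimitOpensCone D c hc b W
  let e₃ : X ≅ (P : Scheme.{u}) := o.isoOpensRange ≪≫ c.pt.isoOfEq hpre'.symm
  have he₃ : e₃.hom ≫ P.ι = o := by
    change (o.isoOpensRange.hom ≫ (c.pt.isoOfEq hpre'.symm).hom) ≫ P.ι = o
    rw [Category.assoc, Scheme.isoOfEq_hom_ι, Scheme.Hom.isoOpensRange_hom_ι]
  have hPι : P.ι = e₃.inv ≫ o := (Iso.eq_inv_comp e₃).mpr he₃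
  let leg : ∀ k : Over b, (P : Scheme.{u}) ⟶ ((D.map k.hom ⁻¹ᵁ W : (D.obj k.left).Opens) :
      Scheme.{u}) := fun k => c₃.π.app k
  have hlegι : ∀ k : Over b, leg k ≫ (D.map k.hom ⁻¹ᵁ W).ι = P.ι ≫ c.π.app k.left := by
    intro k
    exact Scheme.Hom.resLE_comp_ι _ _
  let t₃ : D₃ ⟶ (Functor.const (Over b)).obj S :=
    { app := fun k => (D.map k.hom ⁻¹ᵁ W).ι ≫ t.app k.left
      naturality := fun k k' a => by
        let m : ((D.map k.hom ⁻¹ᵁ W : (D.obj k.left).Opens) : Scheme.{u}) ⟶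
          ((D.map k'.hom ⁻¹ᵁ W : (D.obj k'.left).Opens) : Scheme.{u}) := D₃.map a
        have h1 : m ≫ (D.map k'.hom ⁻¹ᵁ W).ι = (D.map k.hom ⁻¹ᵁ W).ι ≫ D.map a.left :=
          Scheme.Hom.resLE_comp_ι _ _
        have h2 : D.map a.left ≫ t.app k'.left = t.app k.left := by
          have := t.naturality a.left
          simpa using this
        change m ≫ (D.map k'.hom ⁻¹ᵁ W).ι ≫ t.app k'.left =
          ((D.map k.hom ⁻¹ᵁ W).ι ≫ t.app k.left) ≫ 𝟙 S
        refine Eq.trans ?_ (Category.comp_id _).symm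
        rw [← Category.assoc, h1, Category.assoc, h2] }
  let g₃ : c₃.pt ⟶ S := P.ι ≫ g
  have hg₃ : ∀ k : Over b, c₃.π.app k ≫ t₃.app k = g₃ := by
    intro k
    change leg k ≫ (D.map k.hom ⁻¹ᵁ W).ι ≫ t.app k.left = P.ι ≫ g
    rw [← Category.assoc, hlegι k, Category.assoc, hg]
  haveI : LocallyOfFinitePresentation g₃ := by
    change LocallyOfFinitePresentation (P.ι ≫ g)
    rw [hPι, Category.assoc]
    infer_instance
  haveI : ∀ k : Over b, CompactSpace (D₃.obj k) := by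
    intro k
    change CompactSpace ↥((D.map k.hom ⁻¹ᵁ W : (D.obj k.left).Opens) : Scheme.{u})
    apply isCompact_iff_compactSpace.mp
    exact QuasiCompact.isCompact_preimage (f := D.map k.hom) _ W.isOpen hW
  haveI : ∀ k : Over b, QuasiSeparatedSpace (D₃.obj k) := by
    intro k
    change QuasiSeparatedSpace ↥((D.map k.hom ⁻¹ᵁ W : (D.obj k.left).Opens) : Scheme.{u})
    exact (D.map k.hom ⁻¹ᵁ W).ι.isOpenEmbedding.quasiSeparatedSpace
  have hlft₃ : ∀ k : Over b, LocallyOfFiniteType (t₃.app k) := by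
    intro k
    haveI := hlft k.left
    change LocallyOfFiniteType ((D.map k.hom ⁻¹ᵁ W).ι ≫ t.app k.left)
    infer_instance
  have hsep₃ : ∀ k : Over b, IsSeparated (t₃.app k) := by
    intro k
    haveI := hsep k.left
    change IsSeparated ((D.map k.hom ⁻¹ᵁ W).ι ≫ t.app k.left)
    infer_instance
  haveI : ∀ {k k' : Over b} (a : k ⟶ k'), IsAffineHom (D₃.map a) := fun a =>
    (inferInstance : IsAffineHom ((opensDiagram D b W).map a))
  obtain ⟨k, hk⟩ := exists_isClosedImmersion_leg D₃ t₃ c₃ hc₃ g₃ hg₃ hlft₃ hsep₃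
  haveI : IsClosedImmersion (leg k) := hk
  refine ⟨k.left, ?_⟩
  have : o ≫ c.π.app k.left = e₃.hom ≫ leg k ≫ (D.map k.hom ⁻¹ᵁ W).ι := by
    rw [hlegι k, ← Category.assoc, he₃]
  rw [this]
  infer_instance

end

end Groth.Agent.Lib.Helper1.ZMTFin
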