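import Groth.Agent.Lib.Helper1.ZMTFin1
import Groth.Agent.Lib.Helper1.ISLim3

/-!
# A quasi-compact immersion of finitely presented schemes is open in a finitely presented closed
subscheme (helper1)
-/

set_option autoImplicit false
set_option linter.unusedSectionVars false
set_option linter.style.haveILetI false
universe u

namespace Groth.Agent.Lib.Helper1.ZMTFin

open AlgebraicGeometry CategoryTheory CategoryTheory.Limits TopologicalSpace Opposite
open Scheme.IdealSheafData
open Groth.Agent.Lib.Helper1.NA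

theorem exists_fp_closed_open {X S T₁ : Scheme.{u}} [CompactSpace T₁] [QuasiSeparatedSpace T₁]
    (p : T₁ ⟶ S) [LocallyOfFiniteType p]
    (ι₁ : X ⟶ T₁) [IsImmersion ι₁] [CompactSpace X] [LocallyOfFinitePresentation (ι₁ ≫ p)] :
    ∃ (J : T₁.IdealSheafData) (j : X ⟶ J.subscheme), LocallyOfFinitePresentation J.subschemeι ∧
      IsOpenImmersion j ∧ j ≫ J.subschemeι = ι₁ := by
  classical
  haveI : QuasiCompact ι₁ := inferInstance
  obtain ⟨I, _, _, _, J, hJ, hsup, hfp⟩ := exists_closed_fp_family ι₁.imageι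
  have hK : (⨆ b, J b) = ι₁.ker := by
    rw [hsup]
    exact ker_subschemeι _
  -- the open immersion of `X` into the limit
  let tI : X ⟶ ι₁.ker.subscheme := ι₁.toImage
  have htI : tI ≫ ι₁.ker.subschemeι = ι₁ := ι₁.toImage_imageι
  haveI : IsOpenImmersion tI := (inferInstance : IsOpenImmersion ι₁.toImage)
  haveI : IsIso (inclusion hK.le) :=
    ⟨inclusion hK.ge, by rw [inclusion_comp, inclusion_id], by rw [inclusion_comp, inclusion_id]⟩
  let o' : X ⟶ (⨆ b, J b).subscheme := tI ≫ inclusion hK.le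
  have ho' : o' ≫ (⨆ b, J b).subschemeι = ι₁ := by
    rw [Category.assoc, inclusion_subschemeι, htI]
  haveI : IsOpenImmersion o' := inferInstance
  -- the limit in schemes
  haveI : IsCofiltered Iᵒᵖ := inferInstance
  haveI : IsConnected Iᵒᵖ := IsCofiltered.isConnected Iᵒᵖ
  let D₂ : Iᵒᵖ ⥤ Scheme.{u} := subDiag J hJ ⋙ Over.forget T₁
  let c₂ : Cone D₂ := (Over.forget T₁).mapCone (subCone J hJ (⨆ b, J b) (le_iSup J))
  have hc₂ : IsLimit c₂ := isLimitOfPreserves (Over.forget T₁) (isLimitSubCone J hJ)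
  have hD₂sub : ∀ {b b' : Iᵒᵖ} (a : b ⟶ b'),
      D₂.map a ≫ (J b'.unop).subschemeι = (J b.unop).subschemeι :=
    fun a => inclusion_subschemeι _
  have hD₂ι : ∀ b : Iᵒᵖ, c₂.π.app b ≫ (J b.unop).subschemeι = (⨆ b, J b).subschemeι := by
    intro b
    exact inclusion_subschemeι _
  have hci : ∀ {b b' : Iᵒᵖ} (a : b ⟶ b'),
      IsClosedImmersion (inclusion (hJ (leOfHom a.unop))) := by
    intro b b' a
    haveI : IsClosedImmersion (inclusion (hJ (leOfHom a.unop)) ≫ (J b'.unop).subschemeι) := by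
      rw [inclusion_subschemeι]; infer_instance
    exact IsClosedImmersion.of_comp (inclusion (hJ (leOfHom a.unop))) (J b'.unop).subschemeι
  haveI : ∀ {b b' : Iᵒᵖ} (a : b ⟶ b'), IsAffineHom (D₂.map a) := by
    intro b b' a
    haveI := hci a
    exact (inferInstance : IsAffineHom (inclusion (hJ (leOfHom a.unop))))
  haveI : ∀ {b b' : Iᵒᵖ} (a : b ⟶ b'), Mono (D₂.map a) := by
    intro b b' a
    haveI := hci a
    exact (inferInstance : Mono (inclusion (hJ (leOfHom a.unop))))
  haveI hcomp : ∀ b : Iᵒᵖ, CompactSpace (D₂.obj b) := fun b =>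
    (QuasiCompact.compactSpace_of_compactSpace (J b.unop).subschemeι :
      CompactSpace ↥(J b.unop).subscheme)
  haveI hqs : ∀ b : Iᵒᵖ, QuasiSeparatedSpace (D₂.obj b) := fun b =>
    (quasiSeparatedSpace_of_quasiSeparated (J b.unop).subschemeι :
      QuasiSeparatedSpace ↥(J b.unop).subscheme)
  -- the structure maps to `S`
  let t₂ : D₂ ⟶ (Functor.const Iᵒᵖ).obj S :=
    { app := fun b => (J b.unop).subschemeι ≫ p
      naturality := fun b b' a => by
        change D₂.map a ≫ (J b'.unop).subschemeι ≫ p = ((J b.unop).subschemeι ≫ p) ≫ 𝟙 S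
        refine Eq.trans ?_ (Category.comp_id _).symm
        rw [← Category.assoc, hD₂sub]
        rfl }
  let g₂ : c₂.pt ⟶ S := (⨆ b, J b).subschemeι ≫ p
  have hg₂ : ∀ b : Iᵒᵖ, c₂.π.app b ≫ t₂.app b = g₂ := by
    intro b
    let πb : (⨆ b, J b).subscheme ⟶ (J b.unop).subscheme := c₂.π.app b
    have h : πb ≫ (J b.unop).subschemeι = (⨆ b, J b).subschemeι := hD₂ι b
    change πb ≫ (J b.unop).subschemeι ≫ p = (⨆ b, J b).subschemeι ≫ p
    rw [← Category.assoc, h]
  let o₂ : X ⟶ c₂.pt := o'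
  haveI : IsOpenImmersion o₂ := (inferInstance : IsOpenImmersion o')
  haveI : LocallyOfFinitePresentation (o₂ ≫ g₂) := by
    change LocallyOfFinitePresentation (o' ≫ (⨆ b, J b).subschemeι ≫ p)
    rw [← Category.assoc, ho']
    infer_instance
  have hlft₂ : ∀ b : Iᵒᵖ, LocallyOfFiniteType (t₂.app b) := by
    intro b
    change LocallyOfFiniteType ((J b.unop).subschemeι ≫ p)
    infer_instance
  have hmono₂ : ∀ {b b' : Iᵒᵖ} (a : b ⟶ b'), Mono (D₂.map a) := fun a => inferInstance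
  obtain ⟨k, hk⟩ := exists_isOpenImmersion_comp_leg D₂ t₂ c₂ hc₂ o₂ g₂ hg₂ hlft₂ hmono₂
  let πk : (⨆ b, J b).subscheme ⟶ (J k.unop).subscheme := c₂.π.app k
  have hπk : πk ≫ (J k.unop).subschemeι = (⨆ b, J b).subschemeι := hD₂ι k
  refine ⟨J k.unop, o' ≫ πk, hfp _, hk, ?_⟩
  rw [Category.assoc, hπk, ho']

end Groth.Agent.Lib.Helper1.ZMTFin
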